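import Cfsg.Agent.Lib.ThCent.Checks

/-!
First consequences of the relations of the presented Thompson group.
-/

set_option autoImplicit false

namespace CfsgLib.ThCent

open Cfsg.Spor CfsgLib.PresCert

/-- the image of a generator -/
noncomputable def th (g : Th.Gen) : Th := PresentedGroup.of g

/-- the generators of the group with index 143127000 -/
def dSet : Set Th.Gen := {g | g ≠ .u}

/-- the generators of the involution centraliser -/
def hSet : Set Th.Gen := {g | g ≠ .b}

/-- the generators in both -/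
def kSet : Set Th.Gen := {g | g ≠ .b ∧ g ≠ .u}

/-- the group with index 143127000 -/
noncomputable def dSub : Subgroup Th := Subgroup.closure (th '' dSet)

/-- the group that will turn out to be the involution centraliser -/
noncomputable def hSub : Subgroup Th := Subgroup.closure (th '' hSet)

theorem dSub_eq : dSub =
    ((Subgroup.closure ({Th.a, Th.b, Th.c, Th.d, Th.e, Th.s, Th.t} : Set (FreeGroup Th.Gen))).map
      (PresentedGroup.mk (coxRelators Th.edges ∪ {r | r ∈ Th.extra}))) := by
  rw [MonoidHom.map_closure, dSub]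
  congr 1
  ext x
  simp only [Set.mem_image, Set.mem_insert_iff, Set.mem_singleton_iff, dSet, Set.mem_setOf_eq]
  constructor
  · rintro ⟨g, hg, rfl⟩
    refine ⟨FreeGroup.of g, ?_, rfl⟩
    cases g <;> simp at hg ⊢
  · rintro ⟨w, hw, rfl⟩
    rcases hw with rfl | rfl | rfl | rfl | rfl | rfl | rfl <;> exact ⟨_, by simp, rfl⟩

/-- the hypotheses about the presented group -/
structure ThFacts : Prop where
  card : Nat.card Th = 90745943887872000
  index : dSub.index = 143127000

theorem closure_th : Subgroup.closure (Set.range th) = (⊤ : Subgroup Th) :=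
  PresentedGroup.closure_range_of _

theorem th_rels : ∀ r ∈ Th.extra, FreeGroup.lift th r = 1 := fun r hr => by
  rw [show FreeGroup.lift th = PresentedGroup.mk _ from FreeGroup.ext_hom _ _ fun g => by
    simp [th, PresentedGroup.of]]
  exact PresentedGroup.one_of_mem (Or.inr hr)

theorem sq_one_mul_comm {G : Type*} [Group G] {x y : G} (hx : x * x = 1) (hy : y * y = 1)
    (h : (x * y) ^ 2 = 1) : Commute x y := by
  have h' : (x * y)⁻¹ = x * y := inv_eq_of_mul_eq_one_left (by rw [← sq]; exact h)
  show x * y = y * x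
  rw [← h', mul_inv_rev, inv_eq_of_mul_eq_one_left hx, inv_eq_of_mul_eq_one_left hy]

theorem comm_a : ∀ g ∈ hSet, Commute (th .a) (th g) := by
  have hr := th_rels
  simp only [Th.extra, List.forall_mem_cons, Th.a, Th.b, Th.c, Th.d, Th.e, Th.s, Th.t, Th.u, map_mul, map_pow,
    map_inv, FreeGroup.lift_apply_of] at hr
  obtain ⟨ha2, -, hc2, hd2, he2, -, hae, -, -, -, hcd, -, -, -, -, hsa, -, -, -, -, -, hta, -, -, -, -, -,
    -, hua, -⟩ := hr
  rw [sq] at ha2 hc2 hd2 he2
  rw [mul_inv_eq_one] at hcd
  have flip : ∀ {x y : Th}, x * x = 1 → y * y = 1 → th .a = (x * y) ^ 4 → Commute (th .a) x := by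
    intro x y hx hy h
    have ha' : (th .a)⁻¹ = th .a := inv_eq_of_mul_eq_one_left ha2
    have : x * th .a * x⁻¹ = th .a := by
      conv_rhs => rw [← ha', h]
      rw [h]
      have hxi : x⁻¹ = x := inv_eq_of_mul_eq_one_left hx
      have hyi : y⁻¹ = y := inv_eq_of_mul_eq_one_left hy
      simp only [pow_succ, pow_zero, one_mul, mul_inv_rev, hxi, hyi]
      simp only [← mul_assoc, hx, one_mul]
    exact (mul_inv_eq_iff_eq_mul.1 this).symm
  have hc : Commute (th .a) (th .c) := flip hc2 hd2 hcd
  have hd : Commute (th .a) (th .d) := by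
    have h1 : Commute (th .a) (th .c * th .d) := by rw [hcd]; exact (Commute.refl _).pow_left 4
    have := (hc.inv_right).mul_right h1
    simpa using this
  intro g hg
  have cm : ∀ {x y : Th}, x⁻¹ * y⁻¹ * x * y = 1 → Commute y x := fun {x y} h => by
    have : x * y = y * x := by
      calc x * y = y * x * (x⁻¹ * y⁻¹ * x * y) := by group
        _ = y * x := by rw [h, mul_one]
    exact this.symm
  cases g with
  | a => exact Commute.refl _
  | b => exact absurd rfl hg
  | c => exact hc
  | d => exact hd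
  | e => exact sq_one_mul_comm ha2 he2 hae
  | s => exact cm hsa
  | t => exact cm hta
  | u => exact cm hua

theorem hSub_le : hSub ≤ Subgroup.centralizer ({th .a} : Set Th) := by
  rw [hSub, Subgroup.closure_le]
  rintro _ ⟨g, hg, rfl⟩
  refine Subgroup.mem_centralizer_iff.2 fun x hx => ?_
  rw [Set.mem_singleton_iff.1 hx]
  exact (comm_a g hg).eq

/-- `b` does not commute with `a` unless the group is trivial -/
theorem not_comm_ab (h : Nontrivial Th) : ¬ Commute (th .a) (th .b) := by
  intro hab
  have hr := th_rels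
  simp only [Th.extra, List.forall_mem_cons, Th.a, Th.b, Th.c, Th.d, Th.e, Th.s, Th.t, Th.u, map_mul, map_pow,
    map_inv, FreeGroup.lift_apply_of] at hr
  obtain ⟨ha2, hb2, hc2, hd2, he2, h3, -, hbc, -, -, hcd, -, hde, -, hs7, -, -, -, hsd, -, ht3, -, -, -, -, -, -,
    hu2, -, -, -, -, hue, -, htu, -, hus, -⟩ := hr
  rw [sq] at ha2 hb2 hc2 hd2 he2
  rw [mul_inv_eq_one] at hcd
  have odd : ∀ {x : Th}, x * x = 1 → ∀ {n : ℕ}, x ^ n = 1 → n % 2 = 1 → x = 1 := by
    intro x hx n hn ho
    rw [← Nat.div_add_mod n 2, ho, pow_succ, pow_mul, sq, hx, one_pow, one_mul] at hn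
    exact hn
  have hab1 : th .a * th .b = 1 := odd (by
    rw [hab.symm.mul_mul_mul_comm, ha2, hb2, one_mul]) h3 rfl
  have hb : th .b = th .a := by
    rw [← inv_eq_of_mul_eq_one_left ha2]; exact (inv_eq_of_mul_eq_one_right hab1).symm
  have hac : Commute (th .a) (th .c) := comm_a _ (by simp [hSet])
  rw [hb] at hbc
  have hac1 : th .a * th .c = 1 := odd (by rw [hac.symm.mul_mul_mul_comm, ha2, hc2, one_mul]) hbc rfl
  have hc : th .c = th .a := by
    rw [← inv_eq_of_mul_eq_one_left ha2]; exact (inv_eq_of_mul_eq_one_right hac1).symm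
  have had : Commute (th .a) (th .d) := comm_a _ (by simp [hSet])
  have ha : th .a = 1 := by
    rw [hcd, hc, had.mul_pow, show 4 = 2 * 2 from rfl, pow_mul, pow_mul, sq (th .a), sq (th .d), ha2,
      hd2, one_pow, one_mul]
  rw [hb, hc, ha] at hue
  have he : th .e = 1 := by simpa using hue
  have hd : th .d = 1 := odd hd2 (n := 3) (by rwa [he, mul_one] at hde) rfl
  have hu2' : th .u * th .u = 1 := by simpa [ha, hc, sq] using hu2
  have hs : th .s = 1 := odd (by rw [← sq]; rwa [hd, mul_one] at hsd) hs7 rfl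
  have hu : th .u = 1 := odd hu2' (n := 3) (by simpa [ha, hc, hs] using hus) rfl
  have ht : th .t = 1 := odd (by simpa [hu] using htu) ht3 rfl
  obtain ⟨x, hx⟩ := exists_ne (1 : Th)
  have : x ∈ Subgroup.closure (Set.range th) := by rw [closure_th]; trivial
  refine hx (Subgroup.mem_bot.1 ((Subgroup.closure_le ⊥).2 ?_ this))
  rintro _ ⟨g, rfl⟩
  cases g <;> simp [ha, hb, hc, hd, he, hs, ht, hu]

end CfsgLib.ThCent
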