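import Cfsg.Agent.Lib.ThCent.OutMain

/-!
The presented Thompson group is simple, given its order, the index of the big subgroup and the orbit
bound for the involution centraliser.
-/

set_option autoImplicit false
set_option maxRecDepth 100000

namespace CfsgLib.ThCent

open Cfsg.Spor CfsgLib.PresCert Equiv

/-- conjugators of two long root elements -/
def simpU : List (List Nat) := [[1, 2, 3, 2, 1, 4], [1, 2, 3, 2, 1]]

/-- their product is this element of the centraliser -/
def simpV : List Nat :=
  [0, 3, 2, 3, 6, 4, 3, 2, 3, 5, 5, 4, 3, 2, 3, 5, 4, 3, 2, 3, 6, 4, 6]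

theorem okSimp : (sameD (simpU.map fun u => winvD u ++ [0] ++ u) [simpV] &&
    (simpV.all fun x => decide (x < 9 ∧ x ≠ 1)) && (simpU.all fun u => u.all fun x => decide (x < 9)) &&
    !(allBelow 9 fun c => Nat.beq (nineW (simpV.map toH) c) c)) = true := by decide +kernel

variable (F : ThFacts) (hB : OrbitBound)

theorem actVal_append_d : ∀ (u v : List Nat), actVal dModel (u ++ v) = actVal dModel v * actVal dModel u := by
  intro u v
  simp [actVal]

include F hB in
/-- a normal subgroup containing `a` is everything -/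
theorem normal_eq_top {N : Subgroup Th} (hN : N.Normal) (haN : th .a ∈ N) : N = ⊤ := by
  have := F.finite
  have hr := th_rels
  simp only [Th.extra, List.forall_mem_cons, Th.a, Th.b, Th.c, Th.d, Th.e, Th.s, Th.t, Th.u, map_mul, map_pow,
    map_inv, FreeGroup.lift_apply_of] at hr
  obtain ⟨ha2, hb2, hc2, -, -, hab, -, hbc, -⟩ := hr
  rw [sq] at ha2 hb2 hc2
  have hbN : th .b ∈ N := by
    have e : th .b = th .a * th .b * th .a * (th .a * th .b)⁻¹ := by
      have h1 : th .a * th .b * th .a * th .b * th .a * th .b = 1 := by rw [← hab]; simp [pow_succ, mul_assoc]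
      rw [mul_inv_rev, inv_eq_of_mul_eq_one_left ha2, inv_eq_of_mul_eq_one_left hb2]
      calc th .b = (th .b)⁻¹ := (inv_eq_of_mul_eq_one_left hb2).symm
        _ = th .a * th .b * th .a * th .b * th .a := (mul_eq_one_iff_eq_inv.1 h1).symm
        _ = _ := by simp [mul_assoc]
    rw [e]; exact hN.conj_mem _ haN _
  have hcN : th .c ∈ N := by
    have e : th .c = th .b * th .c * th .b * (th .b * th .c)⁻¹ := by
      have h1 : th .b * th .c * th .b * th .c * th .b * th .c = 1 := by rw [← hbc]; simp [pow_succ, mul_assoc]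
      rw [mul_inv_rev, inv_eq_of_mul_eq_one_left hb2, inv_eq_of_mul_eq_one_left hc2]
      calc th .c = (th .c)⁻¹ := (inv_eq_of_mul_eq_one_left hc2).symm
        _ = th .b * th .c * th .b * th .c * th .b := (mul_eq_one_iff_eq_inv.1 h1).symm
        _ = _ := by simp [mul_assoc]
    rw [e]; exact hN.conj_mem _ hbN _
  have ok := okSimp
  simp only [Bool.and_eq_true, List.all_eq_true, decide_eq_true_eq] at ok
  have hiv : ∀ x, x < 9 → dCert.iv x < 9 := fun x hx => (dModel.gen_inv x (show x < dCert.g from hx)).1
  have hvN : ((actVal dModel simpV : dSub) : Th) ∈ N := by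
    have hl : ∀ w ∈ simpU.map (fun u => winvD u ++ [0] ++ u), ∀ y ∈ w, y < 9 := by
      intro w hw y hy
      obtain ⟨u, hu, rfl⟩ := List.mem_map.1 hw
      simp only [List.mem_append, List.mem_singleton] at hy
      rcases hy with (hy | rfl) | hy
      · rw [winvD] at hy
        obtain ⟨z, hz, rfl⟩ := List.mem_map.1 hy
        exact hiv z (ok.1.2 u hu z (List.mem_reverse.1 hz))
      · norm_num
      · exact ok.1.2 u hu y hy
    have hl' : ∀ w ∈ [simpV], ∀ y ∈ w, y < 9 := by
      intro w hw y hy
      rw [List.mem_singleton.1 hw] at hy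
      exact (ok.1.1.2 y hy).1
    have e := congrArg Subtype.val (dVal_eq_of_same F.nontrivial hl hl' ok.1.1.1)
    have e' : dVal [simpV] = actVal dModel simpV := by simp [dVal]
    rw [← e', ← e]
    suffices hz : dVal (simpU.map fun u => winvD u ++ [0] ++ u) ∈ N.subgroupOf dSub from hz
    refine list_prod_mem fun g hg => ?_
    simp only [List.mem_reverse, List.mem_map] at hg
    obtain ⟨_, ⟨u, hu, rfl⟩, rfl⟩ := hg
    rw [Subgroup.mem_subgroupOf, actVal_append_d, actVal_append_d, actVal_winv u (ok.1.2 u hu), actVal_zero,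
      Subgroup.coe_mul, Subgroup.coe_mul, InvMemClass.coe_inv, coe_fD (by decide), ← mul_assoc]
    exact hN.conj_mem _ haN _
  let M : Subgroup hSub := N.subgroupOf hSub
  have hMn : M.Normal := hN.subgroupOf hSub
  have hvH : actVal hModel (simpV.map toH) ∈ M := by
    rw [Subgroup.mem_subgroupOf, coe_actVal_map _ ok.1.1.2]
    exact hvN
  rcases normal_cases F M hMn with hle | hall
  · exfalso
    have h1 := (nineHom_eq_one F).2 (hle hvH)
    have hlt : ∀ x ∈ simpV.map toH, x < 10 := by
      intro x hx
      obtain ⟨y, hy, rfl⟩ := List.mem_map.1 hx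
      exact (letters_agree y (ok.1.1.2 y hy).1 (ok.1.1.2 y hy).2).1
    have h2 : (allBelow 9 fun c => Nat.beq (nineW (simpV.map toH) c) c) = true :=
      allBelow_intro (by norm_num) fun c hc => by
        have e := nineHom_actVal F _ hlt ⟨c, hc⟩
        rw [h1] at e
        rw [← e]
        simp
    have h3 := ok.2
    rw [h2] at h3
    exact Bool.noConfusion h3
  have hcM : fH .c ∈ M := by rw [Subgroup.mem_subgroupOf, coe_fH (by decide)]; exact hcN
  -- the extraspecial subgroup modulo `M` is abelian and covers, so `M` contains all commutators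
  have haM : aH ∈ M := by rw [Subgroup.mem_subgroupOf, coe_aH]; exact haN
  have hab' : ∀ p q : hSub, p⁻¹ * q⁻¹ * p * q ∈ M := by
    intro p q
    obtain ⟨m, hm, hp⟩ := hall p
    obtain ⟨n, hn, hq⟩ := hall q
    have hc0 := (repI_comm_iff F).1 (repI_ker_comm F (inv_mem hp) (inv_mem hq))
    have hpq : (m⁻¹ * p)⁻¹ * (n⁻¹ * q)⁻¹ * (m⁻¹ * p) * (n⁻¹ * q) ∈ M := by
      have hmem : (m⁻¹ * p)⁻¹ * (n⁻¹ * q)⁻¹ * (m⁻¹ * p)⁻¹⁻¹ * (n⁻¹ * q)⁻¹⁻¹ ∈ M := by
        rcases hc0 with e | e
        · rw [e]; exact one_mem _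
        · rw [e]; exact haM
      simpa using hmem
    have hk := (hMn.comap (MonoidHom.id hSub))
    rw [← QuotientGroup.eq_one_iff] at hpq ⊢
    simp only [QuotientGroup.mk_mul, QuotientGroup.mk_inv, (QuotientGroup.eq_one_iff (N := M) m).2 hm,
      (QuotientGroup.eq_one_iff (N := M) n).2 hn, inv_one, one_mul] at hpq ⊢
    exact hpq
  have hgen : ∀ g, g ≠ Th.Gen.b → th g ∈ N := by
    classical
    have hq : ∀ g, fH g ∈ M := by
      -- the quotient of the centraliser by `M` is abelian, and the relations kill it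
      let π : hSub →* hSub ⧸ M := QuotientGroup.mk' M
      have hc : ∀ x y : hSub ⧸ M, Commute x y := by
        intro x y
        induction x using QuotientGroup.induction_on with
        | _ x =>
          induction y using QuotientGroup.induction_on with
          | _ y =>
            have := (QuotientGroup.eq_one_iff (N := M) _).2 (hab' x y)
            simp only [QuotientGroup.mk_mul, QuotientGroup.mk_inv] at this
            calc (x : hSub ⧸ M) * y = y * x * ((x : hSub ⧸ M)⁻¹ * (y : hSub ⧸ M)⁻¹ * x * y) := by group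
              _ = y * x := by rw [this, mul_one]
      have pa : π (fH .a) = 1 := (QuotientGroup.eq_one_iff _).2 haM
      have pc : π (fH .c) = 1 := (QuotientGroup.eq_one_iff _).2 hcM
      have rel : ∀ {w : Th}, ∀ {v : hSub}, (v : Th) = w → w = 1 → π v = 1 := fun {w v} e h => by
        rw [show v = 1 from Subtype.ext (e.trans h), map_one]
      have hr := th_rels
      simp only [Th.extra, List.forall_mem_cons, Th.a, Th.b, Th.c, Th.d, Th.e, Th.s, Th.t, Th.u, map_mul, map_pow,
        map_inv, FreeGroup.lift_apply_of] at hr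
      obtain ⟨-, -, -, hd2, he2, -, -, -, -, -, -, -, hde, -, hs7, -, -, -, hsd, hes, ht3, -, -, -, -, -, hst,
        hu2, -, -, -, -, -, -, htu, -, hus, -⟩ := hr
      have lift : ∀ g, g ≠ Th.Gen.b → ((fH g : hSub) : Th) = th g := fun g hg => coe_fH hg
      have ld := lift .d (by decide)
      have le := lift .e (by decide)
      have ls := lift .s (by decide)
      have lt := lift .t (by decide)
      have lu := lift .u (by decide)
      have la := lift .a (by decide)
      have lc := lift .c (by decide)
      have pe : π (fH .e) = 1 := by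
        have e := rel (v := ((fH .e)⁻¹ * (fH .s)⁻¹ * fH .e * fH .s) * ((fH .s ^ 3)⁻¹ * fH .e * fH .s ^ 3)⁻¹)
          (by simp [le, ls]) hes
        simp only [map_mul, map_inv, map_pow] at e
        rw [mul_inv_eq_one] at e
        have e1 : (π (fH .e))⁻¹ * (π (fH .s))⁻¹ * π (fH .e) * π (fH .s) = 1 := by
          rw [mul_assoc ((π (fH .e))⁻¹), ((hc _ _).inv_left).eq]
          group
        rw [e1, mul_assoc, (hc (π (fH .e)) _).eq, inv_mul_cancel_left] at e
        exact e.symm
      have pd : π (fH .d) = 1 := by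
        have e := rel (v := (fH .d * fH .e) ^ 3) (by simp [ld, le]) hde
        have e2 := rel (v := fH .d ^ 2) (by simp [ld]) hd2
        simp only [map_mul, map_pow, pe, mul_one] at e e2
        rw [pow_succ, e2, one_mul] at e
        exact e
      have ps : π (fH .s) = 1 := by
        have e := rel (v := (fH .s * fH .d) ^ 2) (by simp [ls, ld]) hsd
        have e7 := rel (v := fH .s ^ 7) (by simp [ls]) hs7
        simp only [map_mul, map_pow, pd, mul_one] at e e7
        rw [show 7 = 2 * 3 + 1 from rfl, pow_succ, pow_mul, e, one_pow, one_mul] at e7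
        exact e7
      have pu : π (fH .u) = 1 := by
        have e := rel (v := fH .u ^ 2 * (fH .a * fH .c)⁻¹) (by simp [lu, la, lc]) hu2
        have e3 := rel (v := fH .a * fH .c * ((fH .u * fH .s) ^ 3)⁻¹) (by simp [lu, ls, la, lc]) hus
        simp only [map_mul, map_inv, map_pow, pa, pc, ps, mul_one, one_mul, inv_one, inv_eq_one] at e e3
        rw [pow_succ, e, one_mul] at e3
        exact e3
      have pt : π (fH .t) = 1 := by
        have e := rel (v := (fH .u)⁻¹ * fH .t * fH .u * (fH .t)⁻¹⁻¹) (by simp [lu, lt]) htu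
        have e3 := rel (v := fH .t ^ 3) (by simp [lt]) ht3
        simp only [map_mul, map_inv, map_pow, pu, inv_one, one_mul, mul_one, inv_inv] at e e3
        rw [pow_succ, sq, e, one_mul] at e3
        exact e3
      intro g
      rw [← QuotientGroup.eq_one_iff (N := M)]
      cases g with
      | a => exact pa
      | b => simp [fH]
      | c => exact pc
      | d => exact pd
      | e => exact pe
      | s => exact ps
      | t => exact pt
      | u => exact pu
    intro g hg
    have h := hq g
    rw [Subgroup.mem_subgroupOf, coe_fH hg] at h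
    exact h
  rw [eq_top_iff, ← closure_th, Subgroup.closure_le]
  rintro _ ⟨g, rfl⟩
  by_cases hg : g = .b
  · rw [hg]; exact hbN
  · exact hgen g hg

include F hB in
theorem th_simple : IsSimpleGroup Th := by
  have := F.finite
  have := F.nontrivial
  refine ⟨fun N hN => ?_⟩
  by_cases haN : th .a ∈ N
  · exact Or.inr (normal_eq_top F hB hN haN)
  left
  let M : Subgroup hSub := N.subgroupOf hSub
  have hMn : M.Normal := hN.subgroupOf hSub
  have hker : ∀ q ∈ (repH F).ker, ∀ m ∈ M, Commute m q := by
    intro q hq m hm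
    by_contra hne
    have hd : m * q * m⁻¹ * q⁻¹ ∈ M ∧ m * q * m⁻¹ * q⁻¹ ∈ (repH F).ker := by
      refine ⟨?_, mul_mem ((repH F).normal_ker.conj_mem q hq m) (inv_mem hq)⟩
      rw [show m * q * m⁻¹ * q⁻¹ = m * (q * m⁻¹ * q⁻¹) by group]
      exact mul_mem hm (hMn.conj_mem _ (inv_mem hm) q)
    -- a nontrivial element of `M` in the extraspecial subgroup gives `a`
    have key : ∀ x ∈ M, x ∈ (repH F).ker → x = 1 := by
      intro x hx hxk
      by_contra hx1
      have haM : aH ∉ M := fun h => haN (by rw [Subgroup.mem_subgroupOf, coe_aH] at h; exact h)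
      rcases centre_ker F hxk (fun p hp => by
        have h1 : x * p * x⁻¹ * p⁻¹ ∈ M := by
          rw [show x * p * x⁻¹ * p⁻¹ = x * (p * x⁻¹ * p⁻¹) by group]
          exact mul_mem hx (hMn.conj_mem _ (inv_mem hx) p)
        rcases (repI_comm_iff F).1 (repI_ker_comm F hxk hp) with e | e
        · exact mul_inv_eq_iff_eq_mul.1 (mul_inv_eq_one.1 e)
        · rw [e] at h1; exact absurd h1 haM) with e | e
      · exact hx1 e
      · exact haM (e ▸ hx)
    exact hne (mul_inv_eq_iff_eq_mul.1 (mul_inv_eq_one.1 (key _ hd.1 hd.2)))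
  have hM : M = ⊥ := by
    refine (Subgroup.eq_bot_iff_forall _).2 fun m hm => ?_
    have hk : m ∈ (repH F).ker := centraliser_ker F fun q hq => (hker q hq m hm).map _
    rcases centre_ker F hk (fun q hq => hker q hq m hm) with e | e
    · exact e
    · exact absurd (by rw [← coe_aH, ← e]; exact hm) haN
  -- an element conjugate to `a` inverts `N`
  have hfix : ∀ n ∈ N, n * th .a = th .a * n → n = 1 := fun n hn e => by
    have hH : n ∈ hSub := (mem_hSub_iff F hB).2 e
    have : (⟨n, hH⟩ : hSub) ∈ M := hn
    rw [hM, Subgroup.mem_bot] at this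
    exact congrArg Subtype.val this
  have ha : th .a * th .a = 1 := th_invol .a rfl
  have hinv : ∀ n ∈ N, th .a * n * (th .a)⁻¹ = n⁻¹ := by
    intro n hn
    have hsurj : Function.Surjective (fun x : N => (⟨(x : Th)⁻¹ * (th .a * x * (th .a)⁻¹),
        mul_mem (inv_mem x.2) (hN.conj_mem _ x.2 _)⟩ : N)) := by
      refine Finite.injective_iff_surjective.1 fun x y e => Subtype.ext ?_
      have e' := congrArg Subtype.val e
      simp only at e'
      have h1 : (y : Th) * (x : Th)⁻¹ * th .a = th .a * ((y : Th) * (x : Th)⁻¹) := by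
        calc (y : Th) * (x : Th)⁻¹ * th .a = y * ((x : Th)⁻¹ * (th .a * x * (th .a)⁻¹)) * th .a * (x : Th)⁻¹ := by group
          _ = y * ((y : Th)⁻¹ * (th .a * y * (th .a)⁻¹)) * th .a * (x : Th)⁻¹ := by rw [e']
          _ = _ := by group
      exact (mul_inv_eq_one.1 (hfix _ (mul_mem y.2 (inv_mem x.2)) h1)).symm
    obtain ⟨x, hx⟩ := hsurj ⟨n, hn⟩
    have hx' := congrArg Subtype.val hx
    simp only at hx'
    rw [← hx']
    have hai : (th .a)⁻¹ = th .a := inv_eq_of_mul_eq_one_left ha
    simp only [mul_inv_rev, inv_inv, hai, mul_assoc]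
    rw [ha, mul_one]
  have hconj : ∀ g : Th, ∀ n ∈ N, (g * th .a * g⁻¹) * n * (g * th .a * g⁻¹)⁻¹ = n⁻¹ := by
    intro g n hn
    have h := hinv (g⁻¹ * n * g) (by simpa using hN.conj_mem n hn g⁻¹)
    calc (g * th .a * g⁻¹) * n * (g * th .a * g⁻¹)⁻¹ = g * (th .a * (g⁻¹ * n * g) * (th .a)⁻¹) * g⁻¹ := by group
      _ = n⁻¹ := by rw [h]; group
  refine (Subgroup.eq_bot_iff_forall _).2 fun n hn => ?_
  have hr := th_rels
  simp only [Th.extra, List.forall_mem_cons, Th.a, Th.b, Th.c, Th.d, Th.e, Th.s, Th.t, Th.u, map_mul, map_pow,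
    map_inv, FreeGroup.lift_apply_of] at hr
  obtain ⟨ha2, hb2, hc2, -, -, hab, -, hbc, -⟩ := hr
  rw [sq] at ha2 hb2 hc2
  set x0 := th .b * th .c * th .a * th .b with hx0
  have hxc : x0 * th .a * x0⁻¹ = th .c := by
    have h1 : th .a * th .b * th .a * th .b * th .a = th .b := by
      have e : th .a * th .b * th .a * th .b * th .a * th .b = 1 := by rw [← hab]; simp [pow_succ, mul_assoc]
      exact (mul_eq_one_iff_eq_inv.1 e).trans (inv_eq_of_mul_eq_one_left hb2)
    have h2 : th .b * th .c * th .b * th .c * th .b = th .c := by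
      have e : th .b * th .c * th .b * th .c * th .b * th .c = 1 := by rw [← hbc]; simp [pow_succ, mul_assoc]
      exact (mul_eq_one_iff_eq_inv.1 e).trans (inv_eq_of_mul_eq_one_left hc2)
    rw [hx0]
    simp only [mul_inv_rev, inv_eq_of_mul_eq_one_left ha2, inv_eq_of_mul_eq_one_left hb2,
      inv_eq_of_mul_eq_one_left hc2]
    calc th .b * th .c * th .a * th .b * th .a * (th .b * (th .a * (th .c * th .b)))
        = th .b * th .c * (th .a * th .b * th .a * th .b * th .a) * th .c * th .b := by
          simp only [mul_assoc]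
      _ = th .c := by rw [h1, h2]
  -- `a c` is conjugate to `c` inside the extraspecial subgroup
  have hac : ((qElt 1 : hSub) : Th) * th .c * ((qElt 1 : hSub) : Th)⁻¹ = th .c * th .a := by
    have e := qElt_comm F 1 0
    rw [if_pos (by decide), qElt_zero, mul_assoc (fH .c), (comm_a_hSub (qElt 1)).symm.eq, ← mul_assoc] at e
    have e' := congrArg Subtype.val e
    simp only [Subgroup.coe_mul, coe_fH (show Th.Gen.c ≠ .b by decide), coe_aH] at e'
    rw [e', mul_inv_cancel_right]
  set g := ((qElt 1 : hSub) : Th) * x0 with hg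
  have hga : g * th .a * g⁻¹ = th .c * th .a := by
    rw [hg, mul_inv_rev, ← hac, ← hxc]; group
  have h1 := hconj g n hn
  rw [hga] at h1
  have h2 : th .c * th .a * n * (th .c * th .a)⁻¹ = n := by
    have hi : th .c * n⁻¹ * (th .c)⁻¹ = n := by
      have := hconj x0 n⁻¹ (inv_mem hn)
      rw [hxc, inv_inv] at this
      exact this
    calc th .c * th .a * n * (th .c * th .a)⁻¹ = th .c * (th .a * n * (th .a)⁻¹) * (th .c)⁻¹ := by group
      _ = n := by rw [hinv n hn, hi]
  rw [h2] at h1
  -- `n` is its own inverse, so it commutes with `a`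
  refine hfix n hn ?_
  have h3 := hinv n hn
  rw [← h1, mul_inv_eq_iff_eq_mul] at h3
  exact h3.symm

include F hB in
/-- the centraliser statement from order, index and orbit bound -/
theorem th_centralizer' : Cfsg.IsTh Th ∧ ∃ z : Th, orderOf z = 2 ∧
    ∃ (Q : Subgroup (Subgroup.centralizer ({z} : Set Th))) (_ : Q.Normal),
      Nat.card Q = 2 ^ 9 ∧ Cfsg.IsExtraspecial 2 Q ∧
        Nonempty ((Subgroup.centralizer ({z} : Set Th)) ⧸ Q ≃* alternatingGroup (Fin 9)) :=
  th_centralizer F hB (th_simple F hB)

include F hB in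
theorem isTh : Cfsg.IsTh Th := ⟨th_simple F hB, F.card⟩

end CfsgLib.ThCent
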