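import Cfsg.Agent.Lib.ThCent.Checks

/-!
The alternating group of degree 9 acting on 120 points.
-/

set_option autoImplicit false
set_option maxRecDepth 100000

namespace CfsgLib.ThCent

open CfsgLib.PresCert Equiv Cfsg.Spor

theorem allBin_intro {n : Nat} {p : Nat → Bool} (h : ∀ i < n, p i = true) :
    ∀ d lo, allBin n p d lo = true := by
  intro d
  induction d with
  | zero =>
    intro lo
    cases hb : Nat.ble n lo with
    | true => simp [allBin, hb]
    | false =>
      have : lo < n := by
        by_contra hn
        rw [Nat.ble_eq_true_of_le (Nat.le_of_not_lt hn)] at hb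
        exact absurd hb (by simp)
      simpa [allBin, hb] using h lo this
  | succ k ih =>
    intro lo
    change (Bool.rec (Bool.rec false (allBin n p k (Nat.add lo (Nat.shiftLeft 1 k))) (allBin n p k lo))
      true (Nat.ble n lo) : Bool) = true
    rw [ih, ih]
    cases Nat.ble n lo <;> rfl

theorem allBelow_intro {n : Nat} {p : Nat → Bool} (hn : n ≤ 16777216) (h : ∀ i < n, p i = true) :
    allBelow n p = true := by
  simp [allBelow, Nat.ble_eq_true_of_le hn, allBin_intro h]

/-- image of a point under a letter -/
noncomputable def nineStep (x c : Nat) : Nat := (nineImg.getD x []).getD c c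

/-- image of a point under a product of letters -/
noncomputable def nineApp (w : List Nat) (c : Nat) : Nat := w.foldr nineStep c

theorem okNine : (allBelow 10 fun x => Nat.blt (hCert.iv x) 10 && allBelow 9 fun c =>
    Nat.blt (nineStep x c) 9 && Nat.beq (nineStep (hCert.iv x) (nineStep x c)) c &&
      Nat.beq (nineStep x (nineStep (hCert.iv x) c)) c) = true := by decide +kernel

theorem nine_spec {x : Nat} (hx : x < 10) (c : Fin 9) : hCert.iv x < 10 ∧ nineStep x c < 9 ∧
    nineStep (hCert.iv x) (nineStep x c) = c ∧ nineStep x (nineStep (hCert.iv x) c) = c := by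
  have := allBelow_spec okNine x hx
  simp only [Bool.and_eq_true, Nat.blt_eq] at this
  have h2 := allBelow_spec this.2 c c.2
  simp only [Bool.and_eq_true, Nat.blt_eq, Nat.beq_eq] at h2
  exact ⟨this.1, h2.1.1, h2.1.2, h2.2⟩

/-- the permutation of a letter -/
noncomputable def perm9 (x : Nat) : Perm (Fin 9) :=
  if h : x < 10 then
    { toFun := fun c => ⟨nineStep x c, (nine_spec h c).2.1⟩
      invFun := fun c => ⟨nineStep (hCert.iv x) c, (nine_spec (nine_spec h c).1 c).2.1⟩
      left_inv := fun c => Fin.ext (nine_spec h c).2.2.1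
      right_inv := fun c => Fin.ext (nine_spec h c).2.2.2 }
  else 1

theorem perm9_sign_fin : ∀ x : Fin 10, Perm.sign (perm9 x) = 1 := by decide +kernel

theorem perm9_sign (x : Nat) : Perm.sign (perm9 x) = 1 := by
  by_cases h : x < 10
  · exact perm9_sign_fin ⟨x, h⟩
  · simp [perm9, h]

/-- the generators on nine points -/
noncomputable def sigP (g : Th.Gen) : Perm (Fin 9) := perm9 (letIdx hkLets (g, true))

/-- the generators in the alternating group -/
noncomputable def sig (g : Th.Gen) : alternatingGroup (Fin 9) :=
  ⟨sigP g, Perm.mem_alternatingGroup.2 (perm9_sign _)⟩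

theorem sigP_words : (hkWords.all fun kw =>
    decide (∀ i : Fin 9, wordVal sigP kw.2 i = i)) = true := by decide +kernel

theorem sigP_invol : ([Th.Gen.a, .b, .c, .d, .e].all fun g =>
    decide (∀ i : Fin 9, sigP g (sigP g i) = i)) = true := by decide +kernel

theorem sigP_lets : (allBelow 10 fun x => decide (∀ i : Fin 9, letVal sigP hkLets x i = perm9 x i)) = true := by
  decide +kernel

theorem coe_wordVal (w : List (Th.Gen × Bool)) :
    ((wordVal sig w : alternatingGroup (Fin 9)) : Perm (Fin 9)) = wordVal sigP w := by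
  induction w with
  | nil => rfl
  | cons p w ih =>
    obtain ⟨g, s⟩ := p
    cases s <;> simp only [wordVal, List.map_cons, List.prod_cons, Subgroup.coe_mul] at ih ⊢ <;>
      rw [ih] <;> rfl

theorem sig_invol (g : Th.Gen) (h : invol g = true) : sig g * sig g = 1 := by
  have hg : g ∈ [Th.Gen.a, .b, .c, .d, .e] := by cases g <;> simp [invol] at h ⊢
  have := List.all_eq_true.1 sigP_invol g hg
  simp only [decide_eq_true_eq] at this
  exact Subtype.ext (Equiv.ext this)

theorem sig_words : ∀ kw ∈ hkWords, wordVal sig kw.2 = 1 := fun kw hkw => by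
  have := List.all_eq_true.1 sigP_words kw hkw
  simp only [decide_eq_true_eq] at this
  exact Subtype.ext (by rw [coe_wordVal]; exact Equiv.ext this)

theorem coe_sval (p : Th.Gen × Bool) :
    ((sval sig p : alternatingGroup (Fin 9)) : Perm (Fin 9)) = sval sigP p := by
  obtain ⟨g, s⟩ := p
  cases s <;> rfl

theorem coe_letVal {x : Nat} (hx : x < 10) :
    ((letVal sig hkLets x : alternatingGroup (Fin 9)) : Perm (Fin 9)) = perm9 x := by
  have := allBelow_spec sigP_lets x hx
  simp only [decide_eq_true_eq] at this
  rw [letVal, coe_sval]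
  exact Equiv.ext this

/-- a bit of the orbit of quadruples -/
noncomputable def quadBit (a b c d : Nat) : Nat :=
  Nat.land (Nat.shiftRight quadMask (((a * 9 + b) * 9 + c) * 9 + d)) 1

/-- the stabiliser of the orbit of quadruples -/
noncomputable def quadStab : Subgroup (alternatingGroup (Fin 9)) where
  carrier := {g | ∀ a b c d : Fin 9,
    quadBit ((g : Perm (Fin 9)) a) ((g : Perm (Fin 9)) b) ((g : Perm (Fin 9)) c) ((g : Perm (Fin 9)) d) = quadBit a b c d}
  one_mem' := fun a b c d => rfl
  mul_mem' {g h} hg hh a b c d := (hg _ _ _ _).trans (hh a b c d)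
  inv_mem' {g} hg a b c d := by
    have := hg ((g : Perm (Fin 9))⁻¹ a) ((g : Perm (Fin 9))⁻¹ b) ((g : Perm (Fin 9))⁻¹ c) ((g : Perm (Fin 9))⁻¹ d)
    simp only [Perm.coe_inv, Equiv.apply_symm_apply] at this
    exact this.symm

/-- a letter keeps the orbit of quadruples -/
noncomputable def okQuad (x : Nat) : Bool :=
  allBelow 9 fun a => allBelow 9 fun b => allBelow 9 fun c => allBelow 9 fun d =>
    Nat.beq (quadBit (nineStep x a) (nineStep x b) (nineStep x c) (nineStep x d)) (quadBit a b c d)

theorem okQuad_K : ([0, 1, 2, 3, 4, 6].all okQuad) = true := by decide +kernel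

theorem okQuad_u : okQuad 8 = false := by decide +kernel

theorem mem_quadStab {x : Nat} (hx : x < 10) : letVal sig hkLets x ∈ quadStab ↔ okQuad x = true := by
  have e : ∀ a : Fin 9, ((((letVal sig hkLets x : alternatingGroup (Fin 9)) : Perm (Fin 9)) a : Fin 9) : Nat) =
      nineStep x a := fun a => by
    rw [coe_letVal hx, perm9, dif_pos hx]
    rfl
  constructor
  · intro h
    simp only [okQuad]
    have key : ∀ (n : Nat) (p : Nat → Bool), n ≤ 9 → (∀ i < n, p i = true) → allBelow n p = true :=
      fun n p hn hp => allBelow_intro (by omega) hp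
    refine key 9 _ le_rfl fun a ha => key 9 _ le_rfl fun b hb => key 9 _ le_rfl fun c hc =>
      key 9 _ le_rfl fun d hd => ?_
    have := h ⟨a, ha⟩ ⟨b, hb⟩ ⟨c, hc⟩ ⟨d, hd⟩
    simp only [e] at this
    rw [this]
    simp
  · intro h a b c d
    rw [e, e, e, e]
    exact Nat.eq_of_beq_eq_true (allBelow_spec (allBelow_spec (allBelow_spec (allBelow_spec h a a.2) b b.2) c c.2) d d.2)

/-- the cycle `(i j k)` -/
def tri (i j k c : Nat) : Nat :=
  let x := if c = i then k else if c = k then i else c
  if x = i then j else if x = j then i else x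

theorem okCycles : (allBelow 9 fun i => allBelow 9 fun j => allBelow 9 fun k =>
    decide (i = j ∨ i = k ∨ j = k) || cycleWords.any fun w => (w.all fun x => Nat.blt x 10) &&
      allBelow 9 fun c => Nat.beq (nineApp w c) (tri i j k c)) = true := by decide +kernel

theorem closure_sig : Subgroup.closure {q | ∃ x < hkLets.length, letVal sig hkLets x = q} = ⊤ := by
  rw [eq_top_iff, ← alternatingGroup.closure_isThreeCycles_eq_top, Subgroup.closure_le]
  intro g hg
  obtain ⟨i, hi⟩ : (g : Perm (Fin 9)).support.Nonempty := by
    rw [← Finset.card_pos]; rw [Perm.IsThreeCycle.card_support hg]; norm_num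
  have hcy := (Perm.IsThreeCycle.eq_swap_mul_swap_iff_mem_support hg).2 hi
  have hnd := (Perm.IsThreeCycle.nodup_iff_mem_support hg).2 hi
  set j := (g : Perm (Fin 9)) i
  set k := (g : Perm (Fin 9)) j
  simp only [List.nodup_cons, List.mem_cons, List.not_mem_nil, or_false, not_or, List.nodup_nil,
    and_true] at hnd
  have h := allBelow_spec (allBelow_spec (allBelow_spec okCycles j j.2) i i.2) k k.2
  simp only [Bool.or_eq_true, decide_eq_true_eq, List.any_eq_true, Bool.and_eq_true,
    List.all_eq_true, Nat.blt_eq] at h
  rcases h with h | ⟨w, -, hw, hw'⟩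
  · rcases h with h | h | h
    · exact absurd (Fin.ext h).symm hnd.1.1
    · exact absurd (Fin.ext h) hnd.2.1
    · exact absurd (Fin.ext h) hnd.1.2
  have e : g = (w.map (letVal sig hkLets)).prod := by
    apply Subtype.ext
    refine Equiv.ext fun c => Fin.ext ?_
    have key : ∀ (v : List Nat), (∀ x ∈ v, x < 10) → ∀ c : Fin 9,
        (((((v.map (letVal sig hkLets)).prod : alternatingGroup (Fin 9)) : Perm (Fin 9)) c : Fin 9) : Nat) =
          nineApp v c := by
      intro v hv
      induction v with
      | nil => intro c; rfl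
      | cons x v ih =>
        intro c
        have hx := hv x (List.mem_cons_self ..)
        rw [List.map_cons, List.prod_cons, Subgroup.coe_mul, Perm.mul_apply, coe_letVal hx, perm9,
          dif_pos hx]
        show nineStep x _ = nineStep x (nineApp v c)
        rw [ih (fun y hy => hv y (List.mem_cons_of_mem _ hy))]
    rw [key w hw, Nat.eq_of_beq_eq_true (allBelow_spec hw' c c.2), hcy, Perm.mul_apply]
    revert hnd
    generalize i = i0, j = j0, k = k0
    revert i0 j0 k0 c
    decide +kernel
  rw [e]
  refine list_prod_mem ?_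
  intro q hq
  obtain ⟨x, hx, rfl⟩ := List.mem_map.1 hq
  exact Subgroup.subset_closure ⟨x, by simpa [hkLets] using hw x hx, rfl⟩

end CfsgLib.ThCent
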