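import Cfsg.Agent.Lib.ThCent.DSide
import Cfsg.Agent.Lib.ThCent.Nine

/-!
The centraliser of `a` in the subgroup of index 143127000.
-/

set_option autoImplicit false
set_option maxRecDepth 100000

namespace CfsgLib.ThCent

open Cfsg.Spor CfsgLib.PresCert Equiv

theorem dWords_lt : (dkToZero.all fun w => w.all fun x => Nat.blt x 9) = true := by decide +kernel

theorem toZero_lt (c : Nat) : ∀ x ∈ dkToZero.getD c [], x < 9 := by
  intro x hx
  rw [List.getD_eq_getElem?_getD] at hx
  cases h : dkToZero[c]? with
  | none => simp [h] at hx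
  | some w =>
    simp only [h, Option.getD_some] at hx
    exact Nat.le_of_ble_eq_true (List.all_eq_true.1 (List.all_eq_true.1 dWords_lt w (List.mem_of_getElem? h)) x hx)

theorem toZero_app {c : Nat} (hc : c < dCert.n) : appW dCert (dkToZero.getD c []) c = 0 := by
  have h := okPrim_d
  simp only [okPrim, Bool.and_eq_true] at h
  have := okPts_spec _ _ 0 h.1.1.1 c (Nat.zero_le c) hc
  simp only [okPt, Nat.sub_zero, Bool.and_eq_true, Nat.beq_eq] at this
  rw [← appT_eq dModel DK.valid okTab_d _ (toZero_lt c) c hc]
  exact this.1.2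

theorem actVal_zero : actVal dModel [0] = fD .a := by
  simp [actVal, dModel, model, letVal, sval, dkLets]

theorem cent_dSub (F : Nontrivial Th) (x : dSub) (hx : Commute (th .a) (x : Th)) : x ∈ kD := by
  obtain ⟨c, hc, hmem⟩ := Cert.exists_coset dModel DK.valid x
  by_cases hc0 : c = 0
  · subst hc0
    have h : x * (Cert.val dModel 0)⁻¹ ∈ kD := hmem
    simpa [Cert.val_zero] using h
  exfalso
  set w := dkToZero.getD c [] with hw
  obtain ⟨h1, -⟩ := actVal_smul_coset dModel DK.valid dSub_le_model w (toZero_lt c) c hc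
  rw [toZero_app hc, cosetOf, cosetOf, MulAction.Quotient.smul_mk, Cert.val_zero, inv_one,
    QuotientGroup.eq, smul_eq_mul, mul_one] at h1
  have h2 : x * (Cert.val dModel c)⁻¹ ∈ kD := hmem
  have h3 : x * (actVal dModel w)⁻¹ ∈ kD := by
    have := kD.mul_mem h2 h1
    rwa [show x * (Cert.val dModel c)⁻¹ * (actVal dModel w * (Cert.val dModel c)⁻¹)⁻¹ =
      x * (actVal dModel w)⁻¹ by group] at this
  have hcom : Commute (th .a) ((actVal dModel w : dSub) : Th) := by
    have h4 := kD_comm _ h3
    rw [Subgroup.coe_mul, InvMemClass.coe_inv] at h4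
    have := (hx.inv_right.mul_right h4).inv_right
    simpa using this
  have heq : dVal [[0], w] = dVal [w, [0]] := by
    simp only [dVal, List.map_cons, List.map_nil, List.reverse_cons, List.reverse_nil, List.nil_append,
      List.cons_append, List.prod_cons, List.prod_nil, mul_one, actVal_zero]
    apply Subtype.ext
    rw [Subgroup.coe_mul, Subgroup.coe_mul, coe_fD (by decide)]
    exact hcom.symm.eq
  have hlt : ∀ v ∈ [[0], w], ∀ y ∈ v, y < 9 := by
    intro v hv y hy
    simp only [List.mem_cons, List.not_mem_nil, or_false] at hv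
    rcases hv with rfl | rfl
    · simp at hy; omega
    · exact toZero_lt c y hy
  have hlt' : ∀ v ∈ [w, [0]], ∀ y ∈ v, y < 9 := fun v hv => hlt v (by
    simp only [List.mem_cons, List.not_mem_nil, or_false] at hv ⊢; tauto)
  have hs : sameD [[0], w] [w, [0]] = true := allBelow_intro (by norm_num) fun i hi => by
    have e1 := repD_dVal F _ hlt ⟨i, hi⟩
    have e2 := repD_dVal F _ hlt' ⟨i, hi⟩
    rw [← heq] at e2
    rw [e1] at e2
    simpa using e2
  have hm := okMoves_spec _ 0 okConj c (Nat.zero_le c) hc
  simp only [Nat.sub_zero, okMove, ← hw, hs, Bool.not_true, Bool.or_false, Nat.beq_eq] at hm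
  exact hc0 hm

theorem index_kD (F : Nontrivial Th) : kD.index = 819 :=
  index_eq DK.valid dPrim (M := dModel) dSub_le_model (kD_ne_top F)

theorem card_kD (F : Nontrivial Th) : Nat.card kD = 774144 := by
  have h := kD.index_mul_card
  rw [index_kD F, card_dSub F] at h
  omega

end CfsgLib.ThCent
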