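import Cfsg.Agent.Lib.ThCent.DBound

/-!
The subgroup of index 143127000 acts on 819 cosets, and the centraliser of `a` in it is known.
-/

set_option autoImplicit false
set_option maxRecDepth 100000

namespace CfsgLib.ThCent

open Cfsg.Spor CfsgLib.PresCert Equiv

theorem th_extra_word {kw : Nat × List (Th.Gen × Bool)}
    (h : Th.extra[kw.1]? = some (FreeGroup.mk kw.2)) : wordVal th kw.2 = 1 := th_relator h

/-- the generators in the subgroup of index 143127000 -/
noncomputable def fD (g : Th.Gen) : dSub :=
  if h : g ≠ .u then ⟨th g, Subgroup.subset_closure ⟨g, h, rfl⟩⟩ else 1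

theorem coe_fD {g : Th.Gen} (h : g ≠ .u) : (fD g : Th) = th g := by
  rw [fD, dif_pos h]

theorem dWords_no_u : (dkWords.all fun kw => kw.2.all fun p => decide (p.1 ≠ .u)) = true := by decide +kernel

theorem dLets_no_u : (dkLets.all fun p => decide (p.1 ≠ .u)) = true := by decide +kernel

theorem fD_invol (g : Th.Gen) (h : invol g = true) : fD g * fD g = 1 := by
  have hg : g ≠ .u := fun e => by simp [e, invol] at h
  apply Subtype.ext
  rw [Subgroup.coe_mul, coe_fD hg]
  exact th_invol g h

theorem fD_words : ∀ kw ∈ dkWords, wordVal fD kw.2 = 1 := fun kw hkw => by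
  have h1 := List.all_eq_true.1 okExtra_dk kw hkw
  simp only [decide_eq_true_eq] at h1
  have h2 := List.all_eq_true.1 dWords_no_u kw hkw
  simp only [List.all_eq_true, decide_eq_true_eq] at h2
  apply dSub.subtype_injective
  rw [map_wordVal dSub.subtype fD th _ fun p hp => coe_fD (h2 p hp), map_one, th_extra_word h1]

theorem coe_letD {x : Nat} (hx : x < 9) : ((letVal fD dkLets x : dSub) : Th) = letVal th dkLets x := by
  have hmem : dkLets.getD x (.a, true) ∈ dkLets := by
    rw [List.getD_eq_getElem?_getD, List.getElem?_eq_getElem (show x < dkLets.length from hx)]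
    exact List.getElem_mem _
  have h := List.all_eq_true.1 dLets_no_u _ hmem
  simp only [decide_eq_true_eq] at h
  rw [letVal, letVal]
  generalize dkLets.getD x (.a, true) = p at h ⊢
  obtain ⟨g, _ | _⟩ := p <;> simp [sval, coe_fD h]

theorem closure_fD : Subgroup.closure {q | ∃ x < dkLets.length, letVal fD dkLets x = q} = ⊤ := by
  rw [eq_top_iff]
  refine (Subgroup.closure_closure_coe_preimage (k := th '' dSet)).ge.trans ?_
  refine (Subgroup.closure_le _).2 ?_
  rintro ⟨q, hq⟩ ⟨g, hg, rfl⟩
  obtain ⟨x, hx, e⟩ : ∃ x < 9, dkLets.getD x (.a, true) = (g, true) := by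
    cases g with
    | a => exact ⟨0, by norm_num, rfl⟩
    | b => exact ⟨1, by norm_num, rfl⟩
    | c => exact ⟨2, by norm_num, rfl⟩
    | d => exact ⟨3, by norm_num, rfl⟩
    | e => exact ⟨4, by norm_num, rfl⟩
    | s => exact ⟨5, by norm_num, rfl⟩
    | t => exact ⟨7, by norm_num, rfl⟩
    | u => exact absurd rfl hg
  refine Subgroup.subset_closure ⟨x, hx, Subtype.ext ?_⟩
  rw [coe_letD hx, letVal, e]
  rfl

/-- the stabiliser of the first coset -/
noncomputable def kD : Subgroup dSub :=
  Subgroup.closure {q | ∃ x < 9, x ≠ 1 ∧ letVal fD dkLets x = q}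

theorem subs_dk : (dCert.subs.all fun r => r.all fun x => decide (x < 9 ∧ x ≠ 1)) = true := by decide +kernel

/-- the model in degree 819 -/
noncomputable def dModel : Model dCert dSub :=
  model fD_invol okLets_d fD_words kD (fun r hr => list_prod_mem fun q hq => by
    obtain ⟨x, hx, rfl⟩ := List.mem_map.1 hq
    have := List.all_eq_true.1 (List.all_eq_true.1 subs_dk r hr) x hx
    simp only [decide_eq_true_eq] at this
    exact Subgroup.subset_closure ⟨x, this.1, this.2, rfl⟩) closure_fD

theorem kD_comm (q : dSub) (hq : q ∈ kD) : Commute (th .a) (q : Th) := by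
  induction hq using Subgroup.closure_induction with
  | mem q hq =>
    obtain ⟨x, hx, h1, rfl⟩ := hq
    rw [coe_letD hx, letVal]
    have key : ∀ x, x < 9 → x ≠ 1 → (dkLets.getD x (.a, true)).1 ≠ Th.Gen.b := by decide
    have hc := comm_a (dkLets.getD x (.a, true)).1 (key x hx h1)
    generalize dkLets.getD x (.a, true) = p at hc ⊢
    obtain ⟨g, _ | _⟩ := p
    · exact hc.inv_right
    · exact hc
  | one => exact Commute.one_right _
  | mul x y _ _ hx hy => exact hx.mul_right hy
  | inv x _ hx => exact hx.inv_right

theorem kD_ne_top (h : Nontrivial Th) : kD ≠ ⊤ := fun e => by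
  have hb := kD_comm (fD .b) (by rw [e]; trivial)
  rw [coe_fD (by decide)] at hb
  exact not_comm_ab h hb

section

variable (F : Nontrivial Th)

theorem ThFacts.nontrivial (F : ThFacts) : Nontrivial Th := by
  have : Finite Th := Nat.finite_of_card_ne_zero (by rw [F.card]; norm_num)
  exact Finite.one_lt_card_iff_nontrivial.1 (by rw [F.card]; norm_num)

theorem ThFacts.finite (F : ThFacts) : Finite Th :=
  Nat.finite_of_card_ne_zero (by rw [F.card]; norm_num)

theorem dSub_le_model : dModel.sub ≤ kD := le_rfl

/-- the action on 819 cosets -/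
noncomputable def repD : dSub →* Perm (Fin dCert.n) :=
  rep DK.valid dPrim (M := dModel) dSub_le_model (kD_ne_top F)

/-- the tables of the action as permutations -/
noncomputable def dInterp : PermData.Interp dPerm where
  gen x := repD F (letVal fD dkLets x)
  gen_img k hk i := by
    have e := rep_gen DK.valid dPrim (M := dModel) dSub_le_model (kD_ne_top F)
      (show k < dCert.g from hk) i
    refine e.trans ?_
    have hi : (i : Nat) < 819 := i.2
    have h := allBelow_spec (allBelow_spec okImg_d k hk) i hi
    rw [Nat.eq_of_beq_eq_true h]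
    exact (tact_eq okTab_d (show k < dCert.g from hk) (show (i : Nat) < dCert.n from hi)).symm

theorem repD_injective_and_card : Function.Injective (repD F) ∧ Nat.card dSub = 634023936 := by
  obtain ⟨hfin, hup⟩ := dSub_bound
  have hb := PermData.levels_bound (dInterp F) okWords_d dLevels [] okLevels_d
  rw [levels_prod] at hb
  have hle : PermData.fixing (dInterp F) [] ≤ (repD F).range := by
    intro σ hσ
    refine (Subgroup.closure_le _).2 ?_ hσ.1
    rintro _ ⟨k, -, rfl⟩
    exact ⟨_, rfl⟩
  have hc : 634023936 ≤ Nat.card (repD F).range := hb.trans (Subgroup.card_le_of_le hle)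
  have hr : Nat.card (repD F).range ≤ Nat.card dSub :=
    Nat.card_le_card_of_surjective _ (repD F).rangeRestrict_surjective
  have he : Nat.card dSub = Nat.card (repD F).range := le_antisymm (hup.trans hc) hr
  refine ⟨?_, le_antisymm hup (hc.trans hr)⟩
  have hbij := ((Nat.bijective_iff_surjective_and_card (repD F).rangeRestrict).2
    ⟨(repD F).rangeRestrict_surjective, he⟩).1
  exact fun x y h => hbij (Subtype.ext h)

theorem repD_injective : Function.Injective (repD F) := (repD_injective_and_card F).1

include F in
theorem card_dSub : Nat.card dSub = 634023936 := (repD_injective_and_card F).2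

/-- the product of a list of words, the first acting first -/
noncomputable def dVal (ws : List (List Nat)) : dSub := ((ws.map (actVal dModel)).reverse).prod

theorem repD_dVal : ∀ (ws : List (List Nat)), (∀ w ∈ ws, ∀ x ∈ w, x < 9) →
    ∀ c : Fin dCert.n, ((repD F (dVal ws) c : Fin dCert.n) : Nat) = appD ws c
  | [], _, c => by simp [dVal, appD]
  | w :: ws, hw, c => by
    have h1 : ∀ x ∈ w, x < dCert.g := hw w (List.mem_cons_self ..)
    rw [show dVal (w :: ws) = dVal ws * actVal dModel w by simp [dVal], map_mul, Perm.mul_apply,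
      repD_dVal ws (fun v hv => hw v (List.mem_cons_of_mem _ hv))]
    show appD ws _ = appD ws (appT dkTabs w c)
    rw [appT_eq dModel DK.valid okTab_d w h1 c c.2]
    exact congrArg (appD ws) (rep_actVal DK.valid dPrim dSub_le_model (kD_ne_top F) h1 c)

include F in
theorem dVal_eq_of_same {us ws : List (List Nat)} (hu : ∀ w ∈ us, ∀ x ∈ w, x < 9)
    (hw : ∀ w ∈ ws, ∀ x ∈ w, x < 9) (h : sameD us ws = true) : dVal us = dVal ws := by
  refine repD_injective F (Equiv.ext fun c => Fin.ext ?_)
  rw [repD_dVal F us hu, repD_dVal F ws hw]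
  exact Nat.eq_of_beq_eq_true (allBelow_spec h c c.2)

end

end CfsgLib.ThCent
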