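import Cfsg.Agent.Lib.ThCent.HModule
import Cfsg.Agent.Lib.KnownA.AutAlt

/-!
Every automorphism of the involution centraliser that fixes the involution is inner.
-/

set_option autoImplicit false
set_option maxRecDepth 100000

namespace CfsgLib.ThCent

open Cfsg.Spor CfsgLib.PresCert Equiv

/-- the image of a point among nine under a word, the first letter acting first -/
noncomputable def nineW (w : List Nat) (c : Nat) : Nat :=
  List.rec (motive := fun _ => Nat → Nat) (fun c => c) (fun x _ ih c => ih (nineStep x c)) w c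

/-- the transposition of the first two points -/
noncomputable def flip2 (c : Nat) : Nat := if c = 0 then 1 else if c = 1 then 0 else c

theorem okFlip : ((sigX.all fun x => Nat.blt x 10) && (sigY.all fun x => Nat.blt x 10) &&
    allBelow 9 fun c => Nat.beq (flip2 (nineW sigY (flip2 c))) (nineW sigX c)) = true := by decide +kernel

theorem okFlipFix : (okFpf sigX && commI sigY (vecWord sigV) && Nat.blt sigV 256 && movesI (vecWord sigV)) = true := by
  decide +kernel

/-- the lift with which a lift commutes -/
def triMate (i : Nat) : Nat := [3, 6, 6, 0, 0, 0, 0].getD i 0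

theorem okTri : ((allBelow 7 fun i => (triWords.getD i []).all (fun x => Nat.blt x 10) &&
    commI (triWords.getD i []) (triWords.getD (triMate i) []) &&
    allBelow 9 fun c => Nat.beq (nineW (triWords.getD i []) (nineW (triWords.getD (triMate i) []) c))
      (nineW (triWords.getD (triMate i) []) (nineW (triWords.getD i []) c))) &&
    okFpf (triWords.getD 0 []) && okFpf (triWords.getD 3 []) && okFpf (triWords.getD 6 [])) = true := by
  decide +kernel

/-- image of a point under a lift, from its table -/
noncomputable def stepT (i c : Nat) : Nat := Nat.land (Nat.shiftRight (triTabs.getD i 0) (8 * c)) 255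

/-- image of a point under a product of lifts -/
noncomputable def appL (l : List Nat) (c : Nat) : Nat :=
  List.rec (motive := fun _ => Nat → Nat) (fun c => c) (fun i _ ih c => ih (stepT i c)) l c

theorem okTriTabs : (allBelow 7 fun i => allBelow 144 fun c => Nat.blt (stepT i c) 144 &&
    Nat.beq (stepT i c) (appI (triWords.getD i []) c)) = true := by decide +kernel

theorem okLetTri : (allBelow 10 fun x => ((letTri.getD x []).all fun i => Nat.blt i 7) &&
    allBelow 144 fun c => Nat.beq (appL (letTri.getD x []) c) (stepI x c)) = true := by decide +kernel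

theorem appI_append : ∀ (u v : List Nat) (c : Nat), appI (u ++ v) c = appI v (appI u c)
  | [], _, _ => rfl
  | x :: u, v, c => appI_append u v (stepI x c)

theorem appI_flatten : ∀ (l : List Nat), (∀ i ∈ l, i < 7) → ∀ c < 144,
    appI (l.map fun i => triWords.getD i []).flatten c = appL l c
  | [], _, _, _ => rfl
  | i :: l, hl, c, hc => by
    have h := allBelow_spec (allBelow_spec okTriTabs i (hl i (List.mem_cons_self ..))) c hc
    simp only [Bool.and_eq_true, Nat.blt_eq, Nat.beq_eq] at h
    rw [List.map_cons, List.flatten_cons, appI_append, ← h.2]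
    exact appI_flatten l (fun j hj => hl j (List.mem_cons_of_mem _ hj)) _ h.1

/-- the position of a generator among the seven -/
def genPos : Th.Gen → Nat
  | .a => 0
  | .c => 1
  | .d => 2
  | .e => 3
  | .s => 4
  | .t => 5
  | .u => 6
  | .b => 7

/-- the parity of a word for a set of generators -/
noncomputable def parityW (m : Nat) (w : List (Th.Gen × Bool)) : Bool :=
  w.foldr (fun p r => Bool.xor (Nat.testBit m (genPos p.1)) r) false

theorem okParity : (allBelow 128 fun m => Nat.beq m 0 || hkWords.any fun kw => parityW m kw.2) = true := by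
  decide +kernel

/-- the map onto the alternating group -/
noncomputable def nineHom (F : ThFacts) : hSub →* alternatingGroup (Fin 9) :=
  (quotEquiv F).toMonoidHom.comp (QuotientGroup.mk' (repH F).ker)

theorem nineHom_surjective (F : ThFacts) : Function.Surjective (nineHom F) :=
  (quotEquiv F).surjective.comp (QuotientGroup.mk'_surjective _)

theorem nineHom_eq_one (F : ThFacts) {x : hSub} : nineHom F x = 1 ↔ x ∈ (repH F).ker := by
  rw [nineHom, MonoidHom.comp_apply, MulEquiv.coe_toMonoidHom, MulEquiv.map_eq_one_iff,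
    QuotientGroup.mk'_apply, QuotientGroup.eq_one_iff]

theorem repA_nineHom (F : ThFacts) (x : hSub) : repA (nineHom F x) = repH F x := by
  have : ∀ y, repA ((MonoidHom.ofInjective repA_injective).symm y) = (y : Perm (Fin hCert.n)) := fun y =>
    congrArg Subtype.val ((MonoidHom.ofInjective repA_injective).apply_symm_apply y)
  exact this _

theorem nineHom_letVal (F : ThFacts) {x : Nat} (hx : x < 10) :
    nineHom F (letVal fH hkLets x) = letVal sig hkLets x := by
  apply repA_injective
  rw [repA_nineHom]
  exact Equiv.ext fun c => Fin.ext ((rep_gen HK.valid hPrim (M := hModel) hSub_le_model (hStab_ne_top F)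
    (show x < hCert.g from hx) c).trans (rep_gen HK.valid hPrim (M := aModel) aSub_le_model quadStab_ne_top
    (show x < hCert.g from hx) c).symm)

theorem nineHom_actVal (F : ThFacts) : ∀ (w : List Nat), (∀ x ∈ w, x < 10) → ∀ c : Fin 9,
    ((((nineHom F (actVal hModel w) : alternatingGroup (Fin 9)) : Perm (Fin 9)) c : Fin 9) : Nat) = nineW w c
  | [], _, c => by simp [actVal, nineW]
  | x :: w, hw, c => by
    have hx := hw x (List.mem_cons_self ..)
    rw [actVal_cons, map_mul, show hModel.gen x = letVal fH hkLets x from rfl, nineHom_letVal F hx,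
      Subgroup.coe_mul, Perm.mul_apply, coe_letVal hx,
      nineHom_actVal F w fun y hy => hw y (List.mem_cons_of_mem _ hy), perm9, dif_pos hx]
    rfl

variable (F : ThFacts)

theorem repI_comm_iff {x y : hSub} :
    Commute (repI F x) (repI F y) ↔ (x * y * x⁻¹ * y⁻¹ = 1 ∨ x * y * x⁻¹ * y⁻¹ = aH) := by
  rw [← repI_eq_one_iff F, map_mul, map_mul, map_mul, map_inv, map_inv, mul_inv_eq_one, mul_inv_eq_iff_eq_mul]
  rfl

theorem fpf_spec {w : List Nat} (h : okFpf w = true) {q : hSub} (hq : q ∈ (repH F).ker)
    (hc : Commute (repI F (actVal hModel w)) (repI F q)) : repI F q = 1 := by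
  obtain ⟨m, hm, e⟩ := repI_ker_mem F hq
  simp only [okFpf, Bool.and_eq_true, List.all_eq_true, Nat.blt_eq] at h
  have h2 := allBelow_spec h.2 m hm
  simp only [Bool.or_eq_true, Nat.beq_eq, Bool.not_eq_true'] at h2
  rcases h2 with rfl | h2
  · rw [e]; simp [vecWord, valI, List.flatten]
  · rw [repI_actVal F w h.1, e, ← commI_iff h.1 (vec_lt hm), h2] at hc
    exact Bool.noConfusion hc

theorem map_ker_le (β : hSub ≃* hSub) : (repH F).ker.map β.toMonoidHom = (repH F).ker := by
  have := F.finite
  have hc : Nat.card ((repH F).ker.map β.toMonoidHom) = 2 ^ 9 := by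
    rw [Subgroup.card_map_of_injective β.injective, card_ker_repH F]
  refine Subgroup.eq_of_le_of_card_ge ?_ (by rw [hc, card_ker_repH F])
  refine (normal_cases F _ ((repH F).normal_ker.map _ β.surjective)).resolve_right fun h => ?_
  have hs : Function.Surjective ((nineHom F).comp ((repH F).ker.map β.toMonoidHom).subtype) := by
    intro y
    obtain ⟨x, rfl⟩ := nineHom_surjective F y
    obtain ⟨n, hn, hx⟩ := h x
    refine ⟨⟨n, hn⟩, ?_⟩
    have e := (nineHom_eq_one F).2 hx
    rw [map_mul, map_inv, inv_mul_eq_one] at e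
    exact e
  have hle := Nat.card_le_card_of_surjective _ hs
  rw [hc, nat_card_alternatingGroup, Nat.card_eq_fintype_card, Fintype.card_fin] at hle
  revert hle
  decide

theorem apply_mem_ker (β : hSub ≃* hSub) {x : hSub} (hx : x ∈ (repH F).ker) : β x ∈ (repH F).ker := by
  rw [← map_ker_le F β]
  exact Subgroup.mem_map_of_mem _ hx

/-- the induced automorphism of the alternating group is a conjugation -/
theorem exists_perm_conj (β : hSub ≃* hSub) : ∃ τ : Perm (Fin 9), ∀ x,
    ((nineHom F (β x) : alternatingGroup (Fin 9)) : Perm (Fin 9)) = τ * (nineHom F x : Perm (Fin 9)) * τ⁻¹ := by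
  let γ : MulAut (alternatingGroup (Fin 9)) :=
    ((quotEquiv F).symm.trans (QuotientGroup.congr _ _ β (map_ker_le F β))).trans (quotEquiv F)
  obtain ⟨τ, hτ⟩ := CfsgLib.KnownA.exists_conj_aut (by simp) (by simp) γ
  refine ⟨τ, fun x => ?_⟩
  have e : γ (nineHom F x) = nineHom F (β x) := by
    show quotEquiv F (QuotientGroup.congr _ _ β (map_ker_le F β) ((quotEquiv F).symm (quotEquiv F _))) = _
    rw [MulEquiv.symm_apply_apply]
    rfl
  rw [← e, ← hτ, MulAut.conjNormal_apply]

theorem exists_inner_quot (β : hSub ≃* hSub) (hβ : β aH = aH) :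
    ∃ h : hSub, ∀ x, nineHom F (h⁻¹ * β x * h) = nineHom F x := by
  obtain ⟨τ, hτ⟩ := exists_perm_conj F β
  rcases Int.units_eq_one_or (Perm.sign τ) with hs | hs
  · obtain ⟨h, hh⟩ := nineHom_surjective F ⟨τ, Perm.mem_alternatingGroup.2 hs⟩
    refine ⟨h, fun x => Subtype.ext ?_⟩
    rw [map_mul, map_mul, map_inv, Subgroup.coe_mul, Subgroup.coe_mul, InvMemClass.coe_inv, hτ, hh]
    show τ⁻¹ * (τ * _ * τ⁻¹) * τ = _
    group
  exfalso
  set σ : Perm (Fin 9) := Equiv.swap 0 1 with hσ
  obtain ⟨h, hh⟩ := nineHom_surjective F ⟨τ * σ, Perm.mem_alternatingGroup.2 (by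
    rw [map_mul, hs, hσ, Perm.sign_swap (by decide)]; rfl)⟩
  have hconj : ∀ x, ((nineHom F (h⁻¹ * β x * h) : alternatingGroup (Fin 9)) : Perm (Fin 9)) =
      σ * (nineHom F x : Perm (Fin 9)) * σ := fun x => by
    rw [map_mul, map_mul, map_inv, Subgroup.coe_mul, Subgroup.coe_mul, InvMemClass.coe_inv, hτ, hh]
    show (τ * σ)⁻¹ * (τ * _ * τ⁻¹) * (τ * σ) = _
    rw [mul_inv_rev, hσ, Equiv.swap_inv]
    group
  let δ : hSub ≃* hSub := β.trans (MulAut.conj h⁻¹)
  have hδ : ∀ x, δ x = h⁻¹ * β x * h := fun x => by simp [δ, MulAut.conj_apply]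
  have hδa : δ aH = aH := by
    rw [hδ, hβ]
    have hc : Commute (aH : hSub) h := Subtype.ext (by
      rw [Subgroup.coe_mul, Subgroup.coe_mul, coe_aH]
      exact Subgroup.mem_centralizer_iff.1 (hSub_le h.2) _ rfl)
    rw [mul_assoc, hc.eq, inv_mul_cancel_left]
  have ok1 := okFlip
  simp only [Bool.and_eq_true, List.all_eq_true, Nat.blt_eq] at ok1
  have ok2 := okFlipFix
  simp only [Bool.and_eq_true, Nat.blt_eq] at ok2
  set X := actVal hModel sigX with hX
  set Y := actVal hModel sigY with hY
  have hXY : X⁻¹ * δ Y ∈ (repH F).ker := by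
    rw [← nineHom_eq_one F, map_mul, map_inv, inv_mul_eq_one, eq_comm]
    refine Subtype.ext (Equiv.ext fun c => Fin.ext ?_)
    have hf : ∀ d : Fin 9, ((σ d : Fin 9) : Nat) = flip2 d := by
      intro d; revert d; simp only [hσ, flip2]; decide
    rw [hδ, hconj, Perm.mul_apply, Perm.mul_apply, hf, hY, nineHom_actVal F sigY ok1.1.2, hf, hX,
      nineHom_actVal F sigX ok1.1.1]
    exact Nat.eq_of_beq_eq_true (allBelow_spec ok1.2 c c.2)
  set v := vecElt sigV with hv
  have hvm : v ∈ (repH F).ker := vecElt_mem F _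
  have hcy : Commute (repI F Y) (repI F v) := by
    rw [hY, repI_actVal F _ ok1.1.2, hv, vecElt, repI_actVal F _ (vec_lt ok2.1.2)]
    exact (commI_iff ok1.1.2 (vec_lt ok2.1.2)).1 ok2.1.1.2
  have hcd : Commute (repI F (δ Y)) (repI F (δ v)) := by
    rw [repI_comm_iff] at hcy ⊢
    rcases hcy with e | e
    · left; rw [← map_inv, ← map_inv, ← map_mul, ← map_mul, ← map_mul, e, map_one]
    · right; rw [← map_inv, ← map_inv, ← map_mul, ← map_mul, ← map_mul, e, hδa]
  have hcx : Commute (repI F X) (repI F (δ v)) := by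
    have e : δ Y = X * (X⁻¹ * δ Y) := by group
    rw [e, map_mul] at hcd
    have hq := repI_ker_comm F hXY (apply_mem_ker F δ hvm)
    have := hcd.mul_left hq.inv_left
    simpa [mul_assoc] using this
  have hone := fpf_spec F ok2.1.1.1 (apply_mem_ker F δ hvm) hcx
  have hv1 : repI F v = 1 := by
    rw [repI_eq_one_iff] at hone ⊢
    rcases hone with e | e
    · exact Or.inl (δ.injective (by rw [e, map_one]))
    · exact Or.inr (δ.injective (by rw [e, hδa]))
  rw [hv, vecElt, repI_actVal F _ (vec_lt ok2.1.2)] at hv1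
  rw [valI_one (vec_lt ok2.1.2) hv1] at ok2
  exact Bool.noConfusion ok2.2

theorem exists_conj_fix {G : hSub} (hG : ∀ q ∈ (repH F).ker, Commute (repI F G) (repI F q) → repI F q = 1)
    {p : hSub} (hp : p ∈ (repH F).ker) :
    ∃ v ∈ (repH F).ker, repI F (v * G * v⁻¹) = repI F (G * p) := by
  let S : Subgroup (Perm (Fin 144)) := (repH F).ker.map (repI F)
  have hmap : ∀ x : S, repI F G⁻¹ * x.1 * repI F G * x.1⁻¹ ∈ S := by
    rintro ⟨_, q, hq, rfl⟩
    refine ⟨G⁻¹ * q * G * q⁻¹, mul_mem ?_ (inv_mem hq), by simp [map_mul, map_inv]⟩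
    simpa using (repH F).normal_ker.conj_mem q hq G⁻¹
  let f : S → S := fun x => ⟨_, hmap x⟩
  have hf : Function.Injective f := by
    rintro ⟨_, x, hx, rfl⟩ ⟨_, y, hy, rfl⟩ e
    have e' := congrArg Subtype.val e
    have hc := (repI_ker_comm F hx hy)
    refine Subtype.ext ?_
    have h1 : Commute (repI F G) (repI F (y⁻¹ * x)) := by
      simp only [f, map_inv] at e'
      have e2 : repI F x * repI F G * (repI F x)⁻¹ = repI F y * repI F G * (repI F y)⁻¹ := by
        have := congrArg (repI F G * ·) e'
        simpa [← mul_assoc] using this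
      show _ = _
      rw [map_mul, map_inv]
      calc repI F G * ((repI F y)⁻¹ * repI F x)
          = (repI F y)⁻¹ * (repI F y * repI F G * (repI F y)⁻¹) * repI F x := by group
        _ = (repI F y)⁻¹ * (repI F x * repI F G * (repI F x)⁻¹) * repI F x := by rw [e2]
        _ = (repI F y)⁻¹ * repI F x * repI F G := by group
    have := hG _ (mul_mem (inv_mem hy) hx) h1
    rw [map_mul, map_inv, inv_mul_eq_one] at this
    exact this.symm
  obtain ⟨⟨_, v, hv, rfl⟩, e⟩ := (Finite.injective_iff_surjective.1 hf) ⟨_, p, hp, rfl⟩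
  refine ⟨v, hv, ?_⟩
  have e' := congrArg Subtype.val e
  simp only [f, map_inv] at e'
  rw [map_mul, map_mul, map_mul, map_inv, ← e']
  group

theorem repI_fixed {β : hSub ≃* hSub} (hβ : β aH = aH) (hq : ∀ x, nineHom F (β x) = nineHom F x)
    (h0 : repI F (β (actVal hModel (triWords.getD 0 []))) = repI F (actVal hModel (triWords.getD 0 []))) :
    ∀ x, repI F (β x) = repI F x := by
  have ok := okTri
  simp only [Bool.and_eq_true, List.all_eq_true, Nat.blt_eq] at ok
  let T : Nat → hSub := fun i => actVal hModel (triWords.getD i [])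
  have step : ∀ i < 7, okFpf (triWords.getD (triMate i) []) = true →
      repI F (β (T (triMate i))) = repI F (T (triMate i)) → repI F (β (T i)) = repI F (T i) := by
    intro i hi hg hfix
    have hs := allBelow_spec ok.1.1.1 i hi
    simp only [Bool.and_eq_true, List.all_eq_true, Nat.blt_eq] at hs
    have hgl : ∀ x ∈ triWords.getD (triMate i) [], x < 10 := by
      simp only [okFpf, Bool.and_eq_true, List.all_eq_true, Nat.blt_eq] at hg
      exact hg.1
    have hc : Commute (repI F (T i)) (repI F (T (triMate i))) := by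
      rw [repI_actVal F _ hs.1.1, repI_actVal F _ hgl]
      exact (commI_iff hs.1.1 hgl).1 hs.1.2
    have hc' : Commute (repI F (β (T i))) (repI F (T (triMate i))) := by
      rw [← hfix]
      rw [repI_comm_iff] at hc ⊢
      rcases hc with e | e
      · left; rw [← map_inv, ← map_inv, ← map_mul, ← map_mul, ← map_mul, e, map_one]
      · right; rw [← map_inv, ← map_inv, ← map_mul, ← map_mul, ← map_mul, e, hβ]
    have hm : (T i)⁻¹ * β (T i) ∈ (repH F).ker := by
      rw [← nineHom_eq_one F, map_mul, map_inv, hq, inv_mul_cancel]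
    have h1 : Commute (repI F (T (triMate i))) (repI F ((T i)⁻¹ * β (T i))) := by
      rw [map_mul, map_inv]
      exact hc.symm.inv_right.mul_right hc'.symm
    have := fpf_spec F hg hm h1
    rw [map_mul, map_inv, inv_mul_eq_one] at this
    exact this.symm
  have h3 := step 3 (by norm_num) ok.1.1.2 h0
  have h6 := step 6 (by norm_num) ok.1.1.2 h0
  have hall : ∀ i < 7, repI F (β (T i)) = repI F (T i) := by
    intro i hi
    interval_cases i
    · exact h0
    · exact step 1 (by norm_num) ok.2 h6
    · exact step 2 (by norm_num) ok.2 h6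
    · exact h3
    · exact step 4 (by norm_num) ok.1.1.2 h0
    · exact step 5 (by norm_num) ok.1.1.2 h0
    · exact h6
  let E : Subgroup hSub :=
    { carrier := {x | repI F (β x) = repI F x}
      one_mem' := by simp
      mul_mem' := fun {x y} (hx : repI F (β x) = repI F x) (hy : repI F (β y) = repI F y) =>
        show repI F (β (x * y)) = repI F (x * y) by simp [map_mul, hx, hy]
      inv_mem' := fun {x} (hx : repI F (β x) = repI F x) =>
        show repI F (β x⁻¹) = repI F x⁻¹ by simp [map_inv, hx] }
  have hflat : ∀ l : List Nat, (∀ i ∈ l, i < 7) →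
      actVal hModel (l.map fun i => triWords.getD i []).flatten ∈ E := by
    intro l hl
    induction l with
    | nil => exact (show actVal hModel ([] : List Nat) = 1 by simp [actVal]) ▸ one_mem E
    | cons i l ih =>
      rw [List.map_cons, List.flatten_cons, actVal_append_h]
      exact mul_mem (ih fun j hj => hl j (List.mem_cons_of_mem _ hj)) (hall i (hl i (List.mem_cons_self ..)))
  have htop : E = ⊤ := by
    rw [eq_top_iff, ← closure_fH, Subgroup.closure_le]
    rintro _ ⟨x, hx, rfl⟩
    have hx' : x < 10 := hx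
    have h := allBelow_spec okLetTri x hx'
    simp only [Bool.and_eq_true, List.all_eq_true, Nat.blt_eq] at h
    set w := ((letTri.getD x []).map fun i => triWords.getD i []).flatten with hw
    have hwl : ∀ y ∈ w, y < 10 := by
      intro y hy
      obtain ⟨u, hu, hyu⟩ := List.mem_flatten.1 hy
      obtain ⟨i, hi, rfl⟩ := List.mem_map.1 hu
      have hs := allBelow_spec ok.1.1.1 i (h.1 i hi)
      simp only [Bool.and_eq_true, List.all_eq_true, Nat.blt_eq] at hs
      exact hs.1.1 y hyu
    have e : repI F (letVal fH hkLets x) = repI F (actVal hModel w) := by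
      rw [repI_letVal F hx', repI_actVal F w hwl]
      refine (Equiv.ext fun c => Fin.ext ?_).symm
      rw [valI_apply w hwl, coe_permI hx', hw, appI_flatten _ h.1 c c.2]
      exact Nat.eq_of_beq_eq_true (allBelow_spec h.2 c c.2)
    show repI F (β _) = _
    rw [e, ← show repI F (β (actVal hModel w)) = repI F (actVal hModel w) from hflat _ h.1]
    have hd : repI F ((actVal hModel w)⁻¹ * letVal fH hkLets x) = 1 := by rw [map_mul, map_inv, e, inv_mul_cancel]
    have hd' : repI F (β ((actVal hModel w)⁻¹ * letVal fH hkLets x)) = 1 := by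
      rw [repI_eq_one_iff] at hd ⊢
      rcases hd with d | d
      · left; rw [d, map_one]
      · right; rw [d, hβ]
    rw [map_mul, map_inv, map_mul, map_inv, inv_mul_eq_one] at hd'
    exact hd'.symm
  intro x
  have : x ∈ E := by rw [htop]; trivial
  exact this

theorem eq_of_repI_fixed {β : hSub ≃* hSub} (h : ∀ x, repI F (β x) = repI F x) : ∀ x, β x = x := by
  classical
  have ha : ∀ x : hSub, Commute aH x := fun x => Subtype.ext (by
    rw [Subgroup.coe_mul, Subgroup.coe_mul, coe_aH]
    exact Subgroup.mem_centralizer_iff.1 (hSub_le x.2) _ rfl)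
  have hv : ∀ x, x⁻¹ * β x = 1 ∨ x⁻¹ * β x = aH := fun x => by
    rw [← repI_eq_one_iff F, map_mul, map_inv, h, inv_mul_cancel]
  let E : hSub →* hSub := MonoidHom.mk' (fun x => x⁻¹ * β x) fun x y => by
    have hc : Commute (x⁻¹ * β x) y⁻¹ := by
      rcases hv x with e | e <;> rw [e]
      · exact Commute.one_left _
      · exact ha _
    show (x * y)⁻¹ * β (x * y) = x⁻¹ * β x * (y⁻¹ * β y)
    rw [map_mul, mul_inv_rev, ← mul_assoc (x⁻¹ * β x), hc.eq]
    group
  have hsq : aH * aH = 1 := fH_invol .a rfl
  let m : Nat := Nat.ofBits fun i : Fin 7 =>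
    decide (E (fH ([Th.Gen.a, .c, .d, .e, .s, .t, .u].getD i .a)) ≠ 1)
  have hg : ∀ g, g ≠ Th.Gen.b → E (fH g) = if Nat.testBit m (genPos g) then aH else 1 := by
    intro g hg
    obtain ⟨i, hi, e⟩ : ∃ i : Fin 7, (i : Nat) = genPos g ∧ [Th.Gen.a, .c, .d, .e, .s, .t, .u].getD i .a = g := by
      cases g with
      | a => exact ⟨0, rfl, rfl⟩
      | c => exact ⟨1, rfl, rfl⟩
      | d => exact ⟨2, rfl, rfl⟩
      | e => exact ⟨3, rfl, rfl⟩
      | s => exact ⟨4, rfl, rfl⟩
      | t => exact ⟨5, rfl, rfl⟩
      | u => exact ⟨6, rfl, rfl⟩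
      | b => exact absurd rfl hg
    rw [← hi, show Nat.testBit m i = _ from Nat.testBit_ofBits_lt _ _ i.2]
    simp only [e]
    rcases hv (fH g) with h1 | h1
    · rw [show E (fH g) = 1 from h1]; simp
    · have hne : E (fH g) ≠ 1 := fun h2 => th_a_ne_one F (by
        rw [show E (fH g) = aH from h1] at h2; rw [← coe_aH, h2]; rfl)
      rw [show E (fH g) = aH from h1] at hne ⊢
      simp [show E (fH g) = aH from h1, hne]
  have hpar : ∀ w : List (Th.Gen × Bool), (∀ p ∈ w, p.1 ≠ .b) →
      E (wordVal fH w) = if parityW m w then aH else 1 := by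
    intro w hw
    induction w with
    | nil => simp [wordVal, parityW]
    | cons p w ih =>
      have ih' := ih fun q hq => hw q (List.mem_cons_of_mem _ hq)
      have hp : E (sval fH p) = if Nat.testBit m (genPos p.1) then aH else 1 := by
        have := hg p.1 (hw p (List.mem_cons_self ..))
        obtain ⟨g, _ | _⟩ := p
        · simp only [sval, cond_false, map_inv, this]
          split <;> simp [inv_eq_of_mul_eq_one_left hsq]
        · simpa [sval] using this
      simp only [wordVal, List.map_cons, List.prod_cons] at ih' ⊢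
      rw [map_mul, hp, ih']
      show _ = if Bool.xor (Nat.testBit m (genPos p.1)) (parityW m w) then aH else 1
      cases Nat.testBit m (genPos p.1) <;> cases parityW m w <;> simp [hsq]
  have hm : m = 0 := by
    have h1 := allBelow_spec okParity m (Nat.ofBits_lt_two_pow _)
    simp only [Bool.or_eq_true, Nat.beq_eq, List.any_eq_true] at h1
    rcases h1 with h1 | ⟨kw, hkw, h1⟩
    · exact h1
    have hb := List.all_eq_true.1 hWords_no_b kw hkw
    simp only [List.all_eq_true, decide_eq_true_eq] at hb
    have := hpar kw.2 hb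
    rw [fH_words kw hkw, map_one, h1, if_pos rfl] at this
    exact absurd (by rw [← coe_aH, ← this]; rfl) (th_a_ne_one F)
  intro x
  have hx : x ∈ E.ker := by
    have : E.ker = ⊤ := by
      rw [eq_top_iff, ← closure_fH, Subgroup.closure_le]
      rintro _ ⟨y, hy, rfl⟩
      have hb := List.all_eq_true.1 hLets_no_b (hkLets.getD y (.a, true)) (by
        rw [List.getD_eq_getElem?_getD, List.getElem?_eq_getElem hy]; exact List.getElem_mem hy)
      simp only [decide_eq_true_eq] at hb
      have := hg _ hb
      rw [hm] at this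
      simp only [Nat.zero_testBit, Bool.false_eq_true, if_false] at this
      rw [SetLike.mem_coe, MonoidHom.mem_ker, letVal]
      generalize hkLets.getD y (.a, true) = p at this ⊢
      obtain ⟨g, _ | _⟩ := p <;> simp [sval, this]
    rw [this]; trivial
  exact (inv_mul_eq_one.1 (MonoidHom.mem_ker.1 hx)).symm

include F in
theorem hSub_aut_inner (β : hSub ≃* hSub) (hβ : β aH = aH) : ∃ h : hSub, ∀ x, β x = h * x * h⁻¹ := by
  obtain ⟨h, hh⟩ := exists_inner_quot F β hβ
  let β1 : hSub ≃* hSub := β.trans (MulAut.conj h⁻¹)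
  have e1 : ∀ x, β1 x = h⁻¹ * β x * h := fun x => by simp [β1, MulAut.conj_apply]
  have hca : ∀ y : hSub, y⁻¹ * aH * y = aH := fun y => by
    have hc : Commute aH y := Subtype.ext (by
      rw [Subgroup.coe_mul, Subgroup.coe_mul, coe_aH]
      exact Subgroup.mem_centralizer_iff.1 (hSub_le y.2) _ rfl)
    rw [mul_assoc, hc.eq, inv_mul_cancel_left]
  have ok := okTri
  simp only [Bool.and_eq_true] at ok
  set G := actVal hModel (triWords.getD 0 []) with hG
  have hp : G⁻¹ * β1 G ∈ (repH F).ker := by
    rw [← nineHom_eq_one F, map_mul, map_inv, e1, hh, inv_mul_cancel]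
  obtain ⟨v, hv, hve⟩ := exists_conj_fix F (G := G) (fun q hq hc => fpf_spec F ok.1.1.2 hq hc) hp
  rw [mul_inv_cancel_left] at hve
  let β2 : hSub ≃* hSub := β1.trans (MulAut.conj v⁻¹)
  have e2 : ∀ x, β2 x = v⁻¹ * β1 x * v := fun x => by simp [β2, MulAut.conj_apply]
  have hid := eq_of_repI_fixed F (repI_fixed F (β := β2) (by rw [e2, e1, hβ, hca, hca])
    (fun x => by
      rw [e2, map_mul, map_mul, map_inv, (nineHom_eq_one F).2 hv, inv_one, one_mul, mul_one, e1, hh])
    (by rw [e2, map_mul, map_mul, map_inv, ← hve, map_mul, map_mul, map_inv, hG]; group))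
  refine ⟨h * v, fun x => ?_⟩
  have := hid x
  rw [e2, e1] at this
  calc β x = (h * v) * (v⁻¹ * (h⁻¹ * β x * h) * v) * (h * v)⁻¹ := by group
    _ = _ := by rw [this]

end CfsgLib.ThCent
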