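import Cfsg.Agent.Lib.ThCent.HSide
import Cfsg.Prelude.Def_Sporadic

/-!
The centraliser of an involution in the presented Thompson group, given its order, simplicity, the
index of the subgroup `³D₄(2):3` and a bound on the orbit of that subgroup under the centraliser.
-/

set_option autoImplicit false
set_option maxRecDepth 100000

namespace CfsgLib.ThCent

open Cfsg.Spor CfsgLib.PresCert Equiv

/-- the centraliser of `a` moves the coset of the subgroup of index 143127000 to at most 120 cosets -/
def OrbitBound : Prop :=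
  ({q : Th ⧸ dSub | ∃ g ∈ Subgroup.centralizer ({th .a} : Set Th), (g : Th ⧸ dSub) = q}).ncard ≤ 120

theorem hStab_in_kD (F : ThFacts) {x : Th} (hx : x ∈ hSub) (hx' : x ∈ dSub) :
    (⟨x, hx'⟩ : dSub) ∈ kD :=
  cent_dSub F.nontrivial _ (Subgroup.mem_centralizer_iff.1 (hSub_le hx) _ rfl)

theorem kD_le_hSub : ∀ q : dSub, q ∈ kD → (q : Th) ∈ hSub := by
  intro q hq
  induction hq using Subgroup.closure_induction with
  | mem q hq =>
    obtain ⟨x, hx, h1, rfl⟩ := hq
    rw [coe_letD hx, letVal]
    have key : ∀ x, x < 9 → x ≠ 1 → (dkLets.getD x (.a, true)).1 ≠ Th.Gen.b := by decide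
    have hc := key x hx h1
    generalize dkLets.getD x (.a, true) = p at hc ⊢
    obtain ⟨g, _ | _⟩ := p
    · exact inv_mem (Subgroup.subset_closure ⟨g, hc, rfl⟩)
    · exact Subgroup.subset_closure ⟨g, hc, rfl⟩
  | one => exact one_mem _
  | mul x y _ _ hx hy => exact mul_mem hx hy
  | inv x _ hx => exact inv_mem hx

theorem card_hStab (F : ThFacts) : Nat.card hStab = 774144 := by
  rw [← card_kD F.nontrivial]
  refine Nat.card_congr
    { toFun := fun x => ⟨⟨((x : hSub) : Th), x.2⟩, hStab_in_kD F (x : hSub).2 x.2⟩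
      invFun := fun q => ⟨⟨((q : dSub) : Th), kD_le_hSub _ q.2⟩, (q : dSub).2⟩
      left_inv := fun x => rfl
      right_inv := fun q => rfl }

theorem card_hSub (F : ThFacts) : Nat.card hSub = 92897280 := by
  rw [← hStab.index_mul_card, index_hStab F, card_hStab F]

theorem centralizer_eq (F : ThFacts) (hB : OrbitBound) :
    Subgroup.centralizer ({th .a} : Set Th) = hSub := by
  refine le_antisymm (fun g hg => ?_) hSub_le
  have := F.finite
  let S := {q : Th ⧸ dSub | ∃ g ∈ Subgroup.centralizer ({th .a} : Set Th), (g : Th ⧸ dSub) = q}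
  let f : hSub ⧸ hStab → Th ⧸ dSub :=
    Quotient.map' (fun x : hSub => (x : Th)) fun x y h => by
      rw [QuotientGroup.leftRel_apply] at h ⊢
      exact h
  have hf : Function.Injective f := by
    intro x y
    induction x using QuotientGroup.induction_on with
    | _ x =>
      induction y using QuotientGroup.induction_on with
      | _ y =>
        intro h
        have h' : ((x : Th) : Th ⧸ dSub) = ((y : Th) : Th ⧸ dSub) := h
        rw [QuotientGroup.eq] at h' ⊢
        exact h'
  have hsub : Set.range f ⊆ S := by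
    rintro _ ⟨x, rfl⟩
    induction x using QuotientGroup.induction_on with
    | _ x => exact ⟨x, hSub_le x.2, rfl⟩
  have hc : (Set.range f).ncard = 120 := by
    rw [Set.ncard_range_of_injective hf, ← Subgroup.index_eq_card, index_hStab F]
  have heq : Set.range f = S := Set.eq_of_subset_of_ncard_le hsub (by rw [hc]; exact hB) (Set.toFinite _)
  obtain ⟨x, hx⟩ : (g : Th ⧸ dSub) ∈ Set.range f := heq ▸ (⟨g, hg, rfl⟩ : (g : Th ⧸ dSub) ∈ S)
  induction x using QuotientGroup.induction_on with
  | _ x =>
    have h' : ((x : Th) : Th ⧸ dSub) = (g : Th ⧸ dSub) := hx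
    rw [QuotientGroup.eq] at h'
    have hk : (⟨_, h'⟩ : dSub) ∈ kD := cent_dSub F.nontrivial _
      (Subgroup.mem_centralizer_iff.1 (mul_mem (inv_mem (hSub_le x.2)) hg) _ rfl)
    have := hSub.mul_mem x.2 (kD_le_hSub _ hk)
    simpa using this

theorem th_a_ne_one (F : ThFacts) : th .a ≠ 1 := fun h =>
  not_comm_ab F.nontrivial (by rw [h]; exact Commute.one_left _)

theorem orderOf_a (F : ThFacts) : orderOf (th .a) = 2 := by
  have : Fact (Nat.Prime 2) := ⟨Nat.prime_two⟩
  exact orderOf_eq_prime (by rw [sq]; exact th_invol .a rfl) (th_a_ne_one F)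

theorem card_range_repH (F : ThFacts) : Nat.card (repH F).range = 181440 := by
  rw [range_repH F, ← Nat.card_congr (MonoidHom.ofInjective repA_injective).toEquiv,
    nat_card_alternatingGroup, Nat.card_eq_fintype_card, Fintype.card_fin]
  decide

theorem card_ker_repH (F : ThFacts) : Nat.card (repH F).ker = 2 ^ 9 := by
  have h := Subgroup.card_eq_card_quotient_mul_card_subgroup (repH F).ker
  rw [Nat.card_congr (QuotientGroup.quotientKerEquivRange (repH F)).toEquiv, card_range_repH F,
    card_hSub F] at h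
  omega

/-- the quotient is the alternating group -/
noncomputable def quotEquiv (F : ThFacts) : hSub ⧸ (repH F).ker ≃* alternatingGroup (Fin 9) :=
  (QuotientGroup.quotientKerEquivRange (repH F)).trans
    ((MulEquiv.subgroupCongr (range_repH F)).trans (MonoidHom.ofInjective repA_injective).symm)

theorem letters_agree : ∀ x, x < 9 → x ≠ 1 → toH x < 10 ∧
    hkLets.getD (toH x) (.a, true) = dkLets.getD x (.a, true) := by decide

theorem coe_actVal_map : ∀ (w : List Nat), (∀ x ∈ w, x < 9 ∧ x ≠ 1) →
    ((actVal hModel (w.map toH) : hSub) : Th) = ((actVal dModel w : dSub) : Th)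
  | [], _ => rfl
  | x :: w, hw => by
    obtain ⟨h9, h1⟩ := hw x (List.mem_cons_self ..)
    obtain ⟨h10, e⟩ := letters_agree x h9 h1
    rw [List.map_cons, actVal_cons, actVal_cons, Subgroup.coe_mul, Subgroup.coe_mul,
      coe_actVal_map w fun y hy => hw y (List.mem_cons_of_mem _ hy)]
    show _ * ((letVal fH hkLets (toH x) : hSub) : Th) = _ * ((letVal fD dkLets x : dSub) : Th)
    rw [coe_letH h10, coe_letD h9, letVal, letVal, e]

theorem actVal_winv : ∀ (w : List Nat), (∀ x ∈ w, x < 9) →
    actVal dModel (winvD w) = (actVal dModel w)⁻¹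
  | [], _ => by simp [actVal, winvD]
  | x :: w, hw => by
    have hx := hw x (List.mem_cons_self ..)
    have ih := actVal_winv w fun y hy => hw y (List.mem_cons_of_mem _ hy)
    rw [actVal_cons, mul_inv_rev, ← ih, ← (dModel.gen_inv x (show x < dCert.g from hx)).2]
    simp [winvD, actVal]

/-- the words of the basis -/
noncomputable def qWord (i : Fin 8) : List Nat := qWords.getD i []

/-- the basis of the extraspecial subgroup -/
noncomputable def qElt (i : Fin 8) : hSub := actVal hModel ((qWord i).map toH)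

theorem qWord_mem (i : Fin 8) : qWord i ∈ qWords := by
  have hl : (i : Nat) < qWords.length := by rw [show qWords.length = 8 from rfl]; exact i.2
  rw [qWord, List.getD_eq_getElem?_getD, List.getElem?_eq_getElem hl]
  exact List.getElem_mem hl

theorem okQ_parts : qInvWords = qWords.map winvD ∧
    (∀ w ∈ qWords, ∀ x ∈ w, x < 9 ∧ x ≠ 1) ∧
    (∀ w ∈ qWords, ∀ c < 120, appT hkTabs (w.map toH) c = c) ∧
    (∀ w ∈ qWords, sameD [w, w] [] = true ∨ sameD [w, w] [[0]] = true) := by
  have h := okQ_true
  simp only [okQ, Bool.and_eq_true, decide_eq_true_eq, List.all_eq_true, Bool.or_eq_true] at h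
  obtain ⟨⟨⟨⟨-, h1⟩, h2⟩, h3⟩, h4⟩ := h
  exact ⟨h1, h2, fun w hw c hc => Nat.eq_of_beq_eq_true (allBelow_spec (h3 w hw) c hc), h4⟩

theorem qInv_eq (i : Fin 8) : qInvWords.getD i [] = winvD (qWord i) := by
  have hl : (i : Nat) < qWords.length := by rw [show qWords.length = 8 from rfl]; exact i.2
  rw [okQ_parts.1, qWord, List.getD_eq_getElem?_getD, List.getD_eq_getElem?_getD, List.getElem?_map,
    List.getElem?_eq_getElem hl]
  rfl

theorem qWord_lt (i : Fin 8) : ∀ x ∈ qWord i, x < 9 :=
  fun x hx => (okQ_parts.2.1 _ (qWord_mem i) x hx).1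

theorem winv_lt (i : Fin 8) : ∀ x ∈ qInvWords.getD i [], x < 9 := by
  intro x hx
  rw [qInv_eq, winvD] at hx
  obtain ⟨y, hy, rfl⟩ := List.mem_map.1 hx
  exact (dModel.gen_inv y (show y < dCert.g from qWord_lt i y (List.mem_reverse.1 hy))).1

theorem coe_qElt (i : Fin 8) : ((qElt i : hSub) : Th) = ((actVal dModel (qWord i) : dSub) : Th) :=
  coe_actVal_map _ (okQ_parts.2.1 _ (qWord_mem i))

/-- `a` in the centraliser -/
noncomputable def aH : hSub := fH .a

theorem coe_aH : (aH : Th) = th .a := coe_fH (by decide)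

theorem qElt_sq (F : ThFacts) (i : Fin 8) : qElt i * qElt i = 1 ∨ qElt i * qElt i = aH := by
  have hl : ∀ w ∈ [qWord i, qWord i], ∀ x ∈ w, x < 9 := by
    intro w hw
    simp only [List.mem_cons, List.not_mem_nil, or_false, or_self] at hw
    exact hw ▸ qWord_lt i
  rcases okQ_parts.2.2.2 _ (qWord_mem i) with h | h
  · left
    have e := congrArg Subtype.val (dVal_eq_of_same F.nontrivial hl (by simp) h)
    apply Subtype.ext
    simpa [dVal, coe_qElt] using e
  · right
    have e := congrArg Subtype.val (dVal_eq_of_same F.nontrivial hl (by simp) h)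
    apply Subtype.ext
    simpa [dVal, coe_qElt, coe_aH, actVal_zero, coe_fD] using e

theorem qElt_comm_a (i : Fin 8) : aH * qElt i = qElt i * aH :=
  Subtype.ext (by
    rw [Subgroup.coe_mul, Subgroup.coe_mul, coe_aH]
    exact (Subgroup.mem_centralizer_iff.1 (hSub_le (qElt i).2) _ rfl))

theorem mate_iff : ∀ i j : Fin 8, j = mate i ↔
    (((i : Nat) + 1 = j ∧ (i : Nat) % 2 = 0) ∨ ((j : Nat) + 1 = i ∧ (j : Nat) % 2 = 0)) := by decide

theorem qElt_comm (F : ThFacts) (i j : Fin 8) :
    qElt i * qElt j = qElt j * qElt i * (if j = mate i then aH else 1) := by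
  have hc := okComm_true i.2 j.2
  rw [okComm] at hc
  have hl : ∀ w ∈ [qInvWords.getD i [], qInvWords.getD j [], qWords.getD i [], qWords.getD j []],
      ∀ x ∈ w, x < 9 := by
    intro w hw
    simp only [List.mem_cons, List.not_mem_nil, or_false] at hw
    rcases hw with rfl | rfl | rfl | rfl
    · exact winv_lt i
    · exact winv_lt j
    · exact qWord_lt i
    · exact qWord_lt j
  have hr : ∀ w ∈ commVal i j, ∀ x ∈ w, x < 9 := by
    intro w hw x hx
    rw [commVal] at hw
    split at hw
    · simp at hw; subst hw; simp at hx; omega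
    · simp at hw
  have e := congrArg Subtype.val (dVal_eq_of_same F.nontrivial hl hr hc)
  have hq : ∀ k : Fin 8, qWords.getD k [] = qWord k := fun k => rfl
  rw [qInv_eq, qInv_eq, hq, hq] at e
  apply Subtype.ext
  simp only [dVal, List.map_cons, List.map_nil, List.reverse_cons, List.reverse_nil, List.nil_append,
    List.cons_append, List.prod_cons, List.prod_nil, mul_one, actVal_winv _ (qWord_lt i),
    actVal_winv _ (qWord_lt j), Subgroup.coe_mul, InvMemClass.coe_inv, ← coe_qElt] at e
  have hcomm : ∀ k, Commute (th .a) ((qElt k : hSub) : Th) :=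
    fun k => Subgroup.mem_centralizer_iff.1 (hSub_le (qElt k).2) _ rfl
  by_cases h : j = mate i
  · rw [if_pos h]
    rw [commVal, if_pos ((mate_iff i j).1 h)] at e
    simp only [List.map_cons, List.map_nil, List.reverse_cons, List.reverse_nil, List.nil_append,
      List.prod_cons, List.prod_nil, mul_one, actVal_zero, coe_fD (show Th.Gen.a ≠ .u by decide)] at e
    rw [Subgroup.coe_mul, Subgroup.coe_mul, Subgroup.coe_mul, coe_aH]
    have hj : ((qElt j : hSub) : Th) * qElt i = th .a * qElt i * qElt j := by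
      rw [← e]; group
    rw [hj, mul_assoc (th .a), mul_assoc (th .a), ((hcomm i).mul_right (hcomm j)).eq.symm, ← mul_assoc,
      show th Th.Gen.a * th Th.Gen.a = 1 from th_invol .a rfl, one_mul]
  · rw [if_neg h, mul_one, Subgroup.coe_mul, Subgroup.coe_mul]
    rw [commVal, if_neg (fun h' => h ((mate_iff i j).2 h'))] at e
    simp only [List.map_nil, List.reverse_nil, List.prod_nil, OneMemClass.coe_one] at e
    have hj : ((qElt j : hSub) : Th) * qElt i = 1 * qElt i * qElt j := by
      rw [← e]; group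
    rw [hj, one_mul]

theorem qElt_mem_ker (F : ThFacts) (i : Fin 8) : qElt i ∈ (repH F).ker := by
  have hw : ∀ x ∈ (qWord i).map toH, x < hCert.g := by
    intro x hx
    obtain ⟨y, hy, rfl⟩ := List.mem_map.1 hx
    obtain ⟨h9, h1⟩ := okQ_parts.2.1 _ (qWord_mem i) y hy
    exact (letters_agree y h9 h1).1
  rw [MonoidHom.mem_ker]
  refine Equiv.ext fun c => Fin.ext ?_
  refine (rep_actVal HK.valid hPrim (M := hModel) hSub_le_model (hStab_ne_top F) hw c).trans ?_
  rw [← appT_eq hModel HK.valid okTab_h _ hw c c.2]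
  exact okQ_parts.2.2.1 _ (qWord_mem i) c c.2

theorem closure_qElt (F : ThFacts) : Cfsg.IsExtraspecial 2 (Subgroup.closure (Set.range qElt)) ∧
    Subgroup.closure (Set.range qElt) = (repH F).ker := by
  have := F.finite
  let Y : Subgroup hSub := Subgroup.closure (Set.range qElt)
  have hYle : Y ≤ (repH F).ker := (Subgroup.closure_le _).2 (by
    rintro _ ⟨i, rfl⟩; exact qElt_mem_ker F i)
  have hmem : ∀ i, qElt i ∈ Y := fun i => Subgroup.subset_closure ⟨i, rfl⟩
  have ha : aH ∈ Y := by
    have e := qElt_comm F 0 1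
    rw [if_pos (by decide)] at e
    have e' : aH = (qElt 1 * qElt 0)⁻¹ * (qElt 0 * qElt 1) := by rw [e]; group
    rw [e']
    exact mul_mem (inv_mem (mul_mem (hmem 1) (hmem 0))) (mul_mem (hmem 0) (hmem 1))
  obtain ⟨hex, hcard⟩ := isExtraspecial_of_basis (X := Y) ⟨aH, ha⟩ (fun i => ⟨qElt i, hmem i⟩)
    (Subtype.ext (fH_invol .a rfl))
    (fun h => th_a_ne_one F (by
      have := congrArg Subtype.val h
      rw [← coe_aH]
      exact (congrArg Subtype.val this : _)))
    (fun i => Subtype.ext (qElt_comm_a i))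
    (by
      rw [eq_top_iff, ← Subgroup.closure_closure_coe_preimage (k := Set.range qElt)]
      refine Subgroup.closure_mono ?_
      rintro ⟨q, hq⟩ ⟨i, rfl⟩
      exact ⟨i, rfl⟩)
    (fun i => by
      rcases qElt_sq F i with h | h
      · exact Or.inl (Subtype.ext h)
      · exact Or.inr (Subtype.ext h))
    (fun i j => Subtype.ext (by
      have := qElt_comm F i j
      split_ifs at this ⊢ <;> simpa using this))
    ((Subgroup.card_le_of_le hYle).trans (card_ker_repH F).le)
  have hY : Y = (repH F).ker :=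
    Subgroup.eq_of_le_of_card_ge hYle (by rw [hcard, card_ker_repH F])
  exact ⟨hex, hY⟩

theorem ker_extraspecial (F : ThFacts) : Cfsg.IsExtraspecial 2 (repH F).ker :=
  (closure_qElt F).2 ▸ (closure_qElt F).1

/-- the structure of the centraliser of the involution `a` -/
theorem th_centralizer (F : ThFacts) (hB : OrbitBound) (hs : IsSimpleGroup Th) :
    Cfsg.IsTh Th ∧ ∃ z : Th, orderOf z = 2 ∧
      ∃ (Q : Subgroup (Subgroup.centralizer ({z} : Set Th))) (_ : Q.Normal),
        Nat.card Q = 2 ^ 9 ∧ Cfsg.IsExtraspecial 2 Q ∧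
          Nonempty ((Subgroup.centralizer ({z} : Set Th)) ⧸ Q ≃* alternatingGroup (Fin 9)) := by
  refine ⟨⟨hs, F.card⟩, th .a, orderOf_a F, ?_⟩
  rw [centralizer_eq F hB]
  exact ⟨(repH F).ker, inferInstance, card_ker_repH F, ker_extraspecial F, ⟨quotEquiv F⟩⟩

end CfsgLib.ThCent
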