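import Cfsg.Agent.Lib.ThCent.DXData

/-!
Justifications of the side facts (generated data).
-/

namespace CfsgLib.ThCent.DX

open CfsgLib.PresCert

set_option maxRecDepth 100000

/-- justifications -/
noncomputable def just0 : List Cert.Just :=
  [.define,
   .define,
   .loop (some (16, 3)) [.bwd 1, .bwd 0, .edge 0, .fwd 0, .fwd 1],
   .define,
   .define,
   .define,
   .define,
   .loop (some (17, 5)) [.fwd 0, .fwd 3, .fwd 4, .fwd 5, .fwd 6],
   .define,
   .define,
   .loop (some (20, 5)) [.bwd 9, .bwd 8, .fwd 7, .edge 0, .edge 3, .bwd 7, .fwd 8, .fwd 9],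
   .loop (some (2, 1)) [.bwd 0, .edge 3, .fwd 0],
   .loop (some (6, 2)) [.bwd 0, .edge 6, .fwd 0],
   .loop (some (3, 1)) [.bwd 0, .edge 4, .fwd 0],
   .loop (some (4, 1)) [.fwd 7, .edge 4, .bwd 7],
   .define,
   .define,
   .define,
   .define,
   .define,
   .define,
   .define,
   .define,
   .define,
   .define,
   .define,
   .define,
   .define,
   .define,
   .define,
   .define,
   .define,
   .define,
   .define,
   .define,
   .define,
   .define,
   .define,
   .define,
   .define,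
   .loop (some (22, 27)) [.fwd 6, .fwd 7, .edge 3, .edge 4, .fwd 0, .fwd 3, .fwd 15, .fwd 16, .fwd 17, .fwd 18, .fwd 19, .fwd 20, .fwd 21, .fwd 22, .fwd 23, .fwd 24, .fwd 25, .fwd 26, .fwd 27, .fwd 28, .fwd 29, .fwd 30, .fwd 31, .fwd 32, .fwd 33, .fwd 34, .fwd 35, .fwd 36, .fwd 37, .fwd 38, .fwd 39],
   .loop (some (15, 5)) [.edge 10, .bwd 7, .fwd 8, .fwd 9, .bwd 10],
   .loop none [.fwd 41],
   .loop none [.fwd 7, .fwd 42, .bwd 9],
   .loop none [.fwd 43],
   .loop none [.fwd 8, .bwd 44],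
   .loop (some (10, 2)) [.bwd 0, .edge 8, .fwd 0],
   .loop (some (7, 2)) [.bwd 3, .bwd 12, .fwd 3],
   .define,
   .define,
   .define,
   .define,
   .define,
   .loop (some (20, 6)) [.bwd 15, .bwd 3, .fwd 1, .fwd 48, .fwd 49, .fwd 50, .fwd 51, .fwd 52],
   .loop (some (5, 2)) [.bwd 1, .bwd 12, .fwd 1],
   .loop (some (1, 1)) [.bwd 1, .fwd 13, .fwd 1],
   .loop (some (4, 1)) [.bwd 3, .fwd 13, .fwd 3],
   .define,
   .define,
   .define,
   .define,
   .define,
   .define,
   .define,
   .define,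
   .define,
   .define,
   .define,
   .define,
   .define,
   .define,
   .define,
   .define,
   .define,
   .define,
   .define,
   .define,
   .define,
   .loop (some (22, 27)) [.bwd 4, .bwd 3, .fwd 11, .fwd 13, .bwd 0, .bwd 7, .bwd 45, .bwd 14, .bwd 6, .bwd 5, .fwd 57, .fwd 58, .fwd 59, .fwd 60, .fwd 61, .fwd 62, .fwd 63, .fwd 64, .fwd 65, .fwd 66, .fwd 67, .fwd 68, .fwd 69, .fwd 70, .fwd 71, .fwd 72, .fwd 73, .fwd 74, .fwd 75, .fwd 76, .fwd 77],
   .loop (some (11, 2)) [.bwd 3, .bwd 46, .fwd 3],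
   .loop (some (15, 0)) [.fwd 53, .bwd 15, .bwd 3, .fwd 11],
   .loop (some (9, 2)) [.bwd 1, .bwd 46, .fwd 1],
   .define,
   .define,
   .define,
   .loop (some (17, 3)) [.bwd 84, .bwd 83, .bwd 2, .fwd 83, .fwd 84],
   .loop (some (7, 2)) [.bwd 83, .bwd 54, .fwd 83],
   .loop (some (20, 9)) [.bwd 1, .bwd 11, .fwd 3, .fwd 15, .bwd 53, .bwd 52, .bwd 51, .bwd 50, .bwd 49],
   .loop none [.fwd 87],
   .loop none [.bwd 83, .fwd 88, .fwd 49],
   .loop none [.bwd 89],
   .loop none [.fwd 48, .bwd 88],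
   .loop none [.bwd 84, .bwd 90],
   .loop none [.fwd 83, .bwd 90],
   .loop none [.fwd 90, .bwd 86, .bwd 90],
   .loop (some (4, 1)) [.fwd 93, .fwd 55, .bwd 93],
   .define,
   .define,
   .define,
   .define,
   .define,
   .define,
   .define,
   .define,
   .define,
   .define,
   .define,
   .define,
   .define,
   .define,
   .define,
   .define,
   .define,
   .define,
   .define,
   .define,
   .define,
   .define,
   .define,
   .define,
   .loop (some (22, 27)) [.bwd 92, .fwd 93, .fwd 91, .fwd 55, .bwd 2, .bwd 93, .fwd 50, .fwd 96, .fwd 97, .fwd 98, .fwd 99, .fwd 100, .fwd 101, .fwd 102, .fwd 103, .fwd 104, .fwd 105, .fwd 106, .fwd 107, .fwd 108, .fwd 109, .fwd 110, .fwd 111, .fwd 112, .fwd 113, .fwd 114, .fwd 115, .fwd 116, .fwd 117, .fwd 118, .fwd 119],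
   .loop (some (11, 2)) [.fwd 93, .bwd 81, .bwd 93],
   .loop (some (15, 0)) [.bwd 51, .bwd 50, .fwd 93, .fwd 91],
   .define,
   .define,
   .define,
   .define,
   .define,
   .loop (some (16, 4)) [.bwd 4, .fwd 124, .fwd 125, .fwd 126, .fwd 127],
   .loop (some (20, 1)) [.fwd 50, .fwd 51, .fwd 52, .fwd 53, .bwd 15, .bwd 3, .fwd 11, .fwd 3, .fwd 124],
   .loop none [.fwd 129],
   .loop none [.fwd 124, .bwd 130],
   .loop none [.bwd 92, .fwd 130, .fwd 125],
   .loop none [.fwd 132],
   .loop none [.bwd 126, .bwd 133],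
   .loop (some (2, 2)) [.bwd 15, .fwd 4, .fwd 57],
   .loop (some (8, 2)) [.bwd 15, .fwd 47, .fwd 15],
   .loop (some (18, 2)) [.bwd 16, .bwd 15, .fwd 56, .fwd 15, .fwd 16],
   .loop (some (6, 2)) [.bwd 4, .bwd 47, .fwd 4],
   .loop (some (3, 2)) [.bwd 4, .fwd 56, .fwd 4, .bwd 78],
   .loop none [.fwd 139],
   .loop none [.bwd 57, .fwd 140, .bwd 77],
   .loop none [.fwd 141],
   .loop none [.bwd 78, .bwd 140],
   .loop none [.fwd 76, .bwd 142],
   .loop (some (12, 2)) [.bwd 15, .bwd 79, .fwd 15],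
   .define,
   .loop (some (15, 0)) [.fwd 51, .fwd 52, .fwd 53, .bwd 15],
   .define,
   .define,
   .define,
   .define,
   .define,
   .define,
   .loop (some (20, 6)) [.bwd 146, .bwd 5, .bwd 128, .fwd 149, .fwd 150, .fwd 151, .fwd 152, .fwd 153],
   .loop (some (8, 2)) [.bwd 57, .fwd 138, .fwd 57],
   .loop (some (1, 1)) [.fwd 128, .fwd 143, .bwd 128],
   .loop (some (18, 2)) [.bwd 58, .bwd 57, .fwd 143, .fwd 57, .fwd 58],
   .loop (some (4, 2)) [.bwd 5, .fwd 143, .fwd 5, .bwd 40],
   .loop none [.fwd 158],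
   .loop none [.bwd 146, .fwd 159, .bwd 39],
   .loop none [.bwd 160],
   .loop none [.bwd 40, .bwd 159],
   .loop none [.fwd 38, .fwd 161, .bwd 154],
   .loop none [.fwd 163],
   .loop none [.fwd 146, .bwd 161],
   .loop none [.fwd 153, .bwd 164],
   .define,
   .define,
   .loop (some (15, 2)) [.bwd 144, .bwd 57, .fwd 167, .fwd 168],
   .define,
   .define,
   .define,
   .define,
   .loop (some (16, 4)) [.bwd 6, .fwd 170, .fwd 171, .fwd 172, .fwd 173],
   .define,
   .define,
   .loop (some (20, 3)) [.fwd 168, .fwd 169, .bwd 144, .bwd 57, .fwd 5, .fwd 170, .fwd 175, .fwd 176],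
   .loop (some (2, 4)) [.fwd 6, .bwd 45, .bwd 6, .bwd 165],
   .loop none [.fwd 178],
   .loop none [.fwd 5, .fwd 179, .bwd 38],
   .loop none [.fwd 180],
   .loop none [.bwd 165, .bwd 179],
   .loop none [.fwd 4, .fwd 181, .bwd 37],
   .loop none [.fwd 183],
   .loop none [.bwd 57, .fwd 181, .fwd 166],
   .loop none [.fwd 185],
   .loop none [.fwd 56, .fwd 184, .bwd 36],
   .loop none [.fwd 187],
   .loop none [.bwd 144, .fwd 186, .bwd 152],
   .loop none [.fwd 189],
   .loop none [.bwd 15, .fwd 188, .bwd 35],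
   .loop none [.fwd 191],
   .loop none [.fwd 169, .fwd 190, .bwd 151],
   .loop none [.bwd 193],
   .loop none [.fwd 53, .fwd 192, .bwd 34],
   .loop none [.bwd 195],
   .loop none [.fwd 150, .fwd 194, .bwd 168],
   .loop none [.fwd 197],
   .loop none [.bwd 169, .bwd 194],
   .loop none [.bwd 53, .bwd 196],
   .loop none [.fwd 52, .bwd 196],
   .loop none [.fwd 80, .bwd 196],
   .loop none [.fwd 149, .fwd 198, .bwd 177],
   .loop none [.fwd 203],
   .loop none [.fwd 176, .bwd 204],
   .loop (some (1, 1)) [.bwd 170, .fwd 162, .fwd 170],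
   .loop (some (20, 1)) [.fwd 45, .fwd 7, .edge 3, .bwd 7, .fwd 45, .fwd 7, .edge 3, .bwd 7, .bwd 174],
   .loop none [.fwd 207],
   .loop none [.fwd 6, .fwd 208, .bwd 173],
   .loop none [.fwd 209],
   .loop none [.bwd 170, .fwd 210, .bwd 172],
   .loop none [.fwd 211],
   .loop none [.fwd 171, .bwd 212],
   .define,
   .define,
   .define,
   .define,
   .loop (some (16, 4)) [.fwd 135, .fwd 214, .fwd 215, .fwd 216, .fwd 217],
   .loop (some (17, 3)) [.fwd 33, .fwd 200, .bwd 135, .fwd 144, .bwd 75],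
   .loop (some (7, 2)) [.fwd 200, .bwd 136, .bwd 200],
   .define,
   .define,
   .define,
   .loop (some (21, 4)) [.bwd 16, .fwd 136, .fwd 136, .fwd 136, .fwd 16, .fwd 221, .fwd 222, .fwd 223],
   .loop (some (20, 1)) [.bwd 50, .fwd 93, .fwd 91, .bwd 93, .fwd 50, .fwd 51, .bwd 201, .fwd 200, .fwd 214],
   .loop none [.fwd 225],
   .loop none [.fwd 214, .bwd 226],
   .loop none [.bwd 215, .bwd 226],
   .loop (some (5, 2)) [.fwd 227, .bwd 136, .bwd 227],
   .loop (some (1, 2)) [.bwd 16, .bwd 227, .fwd 96],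
   .loop (some (3, 3)) [.bwd 16, .bwd 135, .fwd 58, .fwd 59],
   .loop none [.fwd 231],
   .loop none [.bwd 17, .fwd 232, .bwd 59],
   .loop none [.fwd 233],
   .loop none [.bwd 60, .bwd 232],
   .loop none [.fwd 234, .fwd 157, .bwd 234],
   .loop none [.fwd 58, .bwd 234],
   .loop (some (13, 2)) [.bwd 16, .bwd 145, .fwd 16],
   .loop (some (4, 1)) [.bwd 235, .bwd 16, .bwd 200],
   .define,
   .define,
   .define,
   .define,
   .define,
   .define,
   .define,
   .define,
   .define,
   .define]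

theorem just0_len : just0.length = 250 := by decide +kernel

theorem just0_ok : cert.okFacts 0 just0 = true := by decide +kernel

/-- justifications -/
noncomputable def just1 : List Cert.Just :=
  [.define,
   .define,
   .define,
   .define,
   .define,
   .define,
   .define,
   .define,
   .define,
   .define,
   .define,
   .define,
   .define,
   .define,
   .define,
   .loop (some (22, 28)) [.bwd 235, .fwd 137, .bwd 16, .bwd 135, .fwd 144, .bwd 199, .fwd 240, .fwd 241, .fwd 242, .fwd 243, .fwd 244, .fwd 245, .fwd 246, .fwd 247, .fwd 248, .fwd 249, .fwd 250, .fwd 251, .fwd 252, .fwd 253, .fwd 254, .fwd 255, .fwd 256, .fwd 257, .fwd 258, .fwd 259, .fwd 260, .fwd 261, .fwd 262, .fwd 263, .fwd 264],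
   .loop (some (11, 2)) [.fwd 200, .bwd 145, .bwd 200],
   .loop (some (15, 0)) [.bwd 148, .bwd 3, .fwd 11, .fwd 3, .fwd 15],
   .loop none [.bwd 267],
   .loop none [.fwd 148, .bwd 268],
   .loop (some (9, 2)) [.fwd 227, .bwd 145, .bwd 227],
   .define,
   .define,
   .define,
   .define,
   .loop (some (19, 5)) [.bwd 221, .bwd 224, .bwd 223, .fwd 272, .fwd 273, .fwd 274],
   .define,
   .define,
   .loop (some (16, 4)) [.bwd 17, .bwd 230, .fwd 97, .fwd 276, .fwd 277],
   .define,
   .loop (some (17, 3)) [.fwd 265, .bwd 235, .fwd 17, .fwd 18, .fwd 279],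
   .define,
   .loop (some (7, 2)) [.bwd 235, .fwd 221, .fwd 281],
   .loop (some (21, 5)) [.fwd 274, .fwd 275, .bwd 221, .bwd 16, .bwd 136, .fwd 16, .fwd 221, .bwd 275],
   .define,
   .define,
   .define,
   .define,
   .define,
   .loop (some (20, 6)) [.bwd 61, .bwd 235, .bwd 230, .fwd 284, .fwd 285, .fwd 286, .fwd 287, .fwd 288],
   .define,
   .loop (some (5, 2)) [.fwd 230, .fwd 221, .fwd 290],
   .loop (some (8, 1)) [.bwd 221, .fwd 137, .bwd 224],
   .define,
   .loop (some (6, 2)) [.bwd 17, .fwd 221, .fwd 293],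
   .loop (some (14, 2)) [.fwd 223, .fwd 224, .bwd 238, .bwd 224],
   .loop (some (15, 0)) [.fwd 289, .bwd 61, .bwd 235, .fwd 137],
   .loop (some (9, 2)) [.fwd 230, .bwd 238, .bwd 230],
   .loop (some (10, 2)) [.bwd 17, .bwd 238, .fwd 17],
   .define,
   .define,
   .define,
   .define,
   .define,
   .define,
   .loop (some (19, 5)) [.fwd 294, .fwd 300, .fwd 301, .fwd 302, .fwd 303, .fwd 304],
   .define,
   .loop (some (7, 2)) [.bwd 18, .bwd 294, .fwd 306],
   .loop (some (21, 5)) [.fwd 304, .fwd 305, .fwd 294, .fwd 237, .bwd 155, .bwd 237, .bwd 294, .bwd 305],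
   .define,
   .define,
   .define,
   .define,
   .define,
   .loop (some (20, 6)) [.bwd 19, .bwd 18, .bwd 278, .fwd 309, .fwd 310, .fwd 311, .fwd 312, .fwd 313],
   .define,
   .loop (some (5, 2)) [.fwd 278, .bwd 294, .fwd 315],
   .loop (some (8, 1)) [.fwd 294, .fwd 236, .fwd 300],
   .loop (some (1, 1)) [.fwd 218, .bwd 237, .bwd 278],
   .loop (some (4, 1)) [.bwd 144, .bwd 237, .fwd 18],
   .loop (some (11, 2)) [.bwd 18, .bwd 298, .fwd 18],
   .define,
   .define,
   .define,
   .define,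
   .define,
   .loop (some (19, 5)) [.fwd 307, .fwd 321, .fwd 322, .fwd 323, .fwd 324, .fwd 325],
   .define,
   .define,
   .define,
   .define,
   .loop (some (16, 4)) [.bwd 279, .fwd 327, .fwd 328, .fwd 329, .fwd 330],
   .define,
   .define,
   .define,
   .define,
   .loop (some (21, 5)) [.fwd 325, .fwd 326, .fwd 307, .fwd 319, .fwd 332, .fwd 333, .fwd 334, .fwd 335],
   .loop (some (20, 1)) [.fwd 311, .fwd 312, .fwd 313, .fwd 314, .bwd 19, .bwd 18, .fwd 236, .fwd 18, .fwd 327],
   .loop none [.fwd 337],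
   .loop none [.fwd 327, .bwd 338],
   .loop none [.bwd 328, .bwd 338],
   .define,
   .loop (some (2, 2)) [.bwd 19, .fwd 279, .fwd 341],
   .define,
   .loop (some (5, 2)) [.fwd 339, .bwd 307, .fwd 343],
   .define,
   .loop (some (8, 2)) [.bwd 19, .fwd 321, .fwd 345],
   .define,
   .loop (some (1, 2)) [.bwd 319, .bwd 339, .fwd 347],
   .loop (some (18, 2)) [.bwd 240, .fwd 199, .bwd 319, .fwd 19, .fwd 20],
   .define,
   .loop (some (6, 2)) [.bwd 279, .bwd 307, .fwd 350],
   .loop (some (3, 1)) [.fwd 74, .fwd 75, .bwd 319, .fwd 279],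
   .loop none [.fwd 352],
   .loop none [.fwd 331, .bwd 353],
   .loop none [.fwd 279, .bwd 353],
   .loop none [.bwd 280, .bwd 353],
   .loop none [.fwd 73, .fwd 353, .fwd 341],
   .loop none [.fwd 357],
   .loop none [.fwd 351, .bwd 353],
   .loop none [.bwd 342, .bwd 358],
   .loop (some (14, 2)) [.bwd 322, .bwd 321, .bwd 320, .fwd 321],
   .loop (some (12, 2)) [.bwd 19, .bwd 320, .fwd 19],
   .define,
   .define,
   .define,
   .define,
   .define,
   .define,
   .define,
   .define,
   .define,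
   .define,
   .define,
   .define,
   .define,
   .define,
   .define,
   .define,
   .define,
   .define,
   .define,
   .define,
   .define,
   .define,
   .define,
   .define,
   .define,
   .define,
   .loop (some (22, 28)) [.fwd 150, .fwd 199, .bwd 319, .bwd 355, .fwd 356, .fwd 363, .fwd 364, .fwd 365, .fwd 366, .fwd 367, .fwd 368, .fwd 369, .fwd 370, .fwd 371, .fwd 372, .fwd 373, .fwd 374, .fwd 375, .fwd 376, .fwd 377, .fwd 378, .fwd 379, .fwd 380, .fwd 381, .fwd 382, .fwd 383, .fwd 384, .fwd 385, .fwd 386, .fwd 387, .fwd 388],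
   .loop (some (15, 0)) [.fwd 312, .fwd 313, .fwd 314, .bwd 19],
   .loop (some (10, 2)) [.fwd 355, .bwd 320, .bwd 355],
   .define,
   .define,
   .define,
   .define,
   .define,
   .define,
   .loop (some (19, 5)) [.fwd 346, .fwd 393, .fwd 394, .fwd 395, .fwd 396, .fwd 397],
   .define,
   .define,
   .define,
   .define,
   .loop (some (16, 4)) [.fwd 360, .fwd 399, .fwd 400, .fwd 401, .fwd 402],
   .define,
   .loop (some (17, 4)) [.fwd 314, .bwd 360, .bwd 72, .bwd 71, .fwd 404],
   .define,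
   .loop (some (7, 2)) [.fwd 314, .bwd 346, .fwd 406],
   .define,
   .define,
   .define,
   .define,
   .loop (some (21, 5)) [.fwd 397, .fwd 398, .fwd 346, .fwd 20, .fwd 408, .fwd 409, .fwd 410, .fwd 411],
   .define,
   .loop (some (20, 2)) [.fwd 309, .fwd 310, .fwd 311, .fwd 312, .fwd 313, .fwd 314, .fwd 399, .fwd 413],
   .define,
   .loop (some (5, 2)) [.bwd 399, .bwd 346, .fwd 415],
   .loop (some (8, 1)) [.fwd 307, .fwd 19, .fwd 393],
   .define,
   .loop (some (1, 2)) [.bwd 20, .fwd 399, .fwd 418],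
   .define,
   .loop (some (6, 2)) [.fwd 360, .bwd 346, .fwd 420],
   .loop (some (3, 1)) [.bwd 21, .bwd 20, .bwd 360],
   .loop (some (14, 2)) [.bwd 394, .bwd 393, .bwd 362, .fwd 393],
   .loop (some (13, 2)) [.bwd 20, .bwd 362, .fwd 20],
   .define,
   .loop (some (4, 2)) [.bwd 20, .bwd 314, .fwd 425],
   .define,
   .define,
   .define,
   .define,
   .define,
   .define,
   .define,
   .define,
   .define,
   .define,
   .define,
   .define,
   .define,
   .define,
   .define,
   .define,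
   .define,
   .define,
   .define,
   .define,
   .define,
   .define,
   .define,
   .define,
   .define,
   .define,
   .define,
   .loop (some (22, 29)) [.bwd 349, .bwd 20, .bwd 360, .bwd 72, .fwd 427, .fwd 428, .fwd 429, .fwd 430, .fwd 431, .fwd 432, .fwd 433, .fwd 434, .fwd 435, .fwd 436, .fwd 437, .fwd 438, .fwd 439, .fwd 440, .fwd 441, .fwd 442, .fwd 443, .fwd 444, .fwd 445, .fwd 446, .fwd 447, .fwd 448, .fwd 449, .fwd 450, .fwd 451, .fwd 452, .fwd 453],
   .loop (some (15, 0)) [.bwd 392, .bwd 18, .fwd 236, .fwd 18, .fwd 19],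
   .loop none [.bwd 455],
   .loop none [.fwd 392, .bwd 456],
   .loop (some (10, 2)) [.fwd 360, .bwd 362, .bwd 360],
   .define,
   .define,
   .define,
   .define,
   .define,
   .define,
   .loop (some (19, 5)) [.bwd 408, .fwd 460, .fwd 461, .fwd 462, .fwd 463, .fwd 464],
   .define,
   .define,
   .define,
   .loop (some (16, 4)) [.bwd 21, .bwd 419, .fwd 466, .fwd 467, .fwd 468],
   .define,
   .define,
   .loop (some (17, 4)) [.fwd 426, .fwd 21, .fwd 22, .fwd 470, .fwd 471],
   .define,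
   .loop (some (7, 2)) [.fwd 426, .fwd 408, .fwd 473],
   .define,
   .define,
   .define,
   .loop (some (21, 5)) [.fwd 464, .fwd 465, .bwd 408, .bwd 20, .bwd 346, .fwd 475, .fwd 476, .fwd 477],
   .define,
   .define,
   .define,
   .define,
   .define,
   .define,
   .loop (some (20, 7)) [.fwd 426, .bwd 419, .fwd 479, .fwd 480, .fwd 481, .fwd 482, .fwd 483, .fwd 484],
   .loop (some (2, 1)) [.bwd 241, .bwd 349, .fwd 21],
   .define,
   .loop (some (8, 2)) [.bwd 349, .fwd 460, .fwd 487],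
   .define,
   .loop (some (6, 2)) [.bwd 21, .fwd 408, .fwd 489],
   .loop (some (14, 2)) [.bwd 461, .bwd 460, .bwd 424, .fwd 460],
   .loop (some (11, 2)) [.fwd 426, .bwd 424, .bwd 426],
   .define,
   .define,
   .loop (some (15, 2)) [.fwd 454, .bwd 349, .fwd 493, .fwd 494],
   .loop (some (10, 2)) [.bwd 21, .bwd 424, .fwd 21],
   .define,
   .define,
   .define]

theorem just1_len : just1.length = 250 := by decide +kernel

theorem just1_ok : cert.okFacts 250 just1 = true := by decide +kernel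

/-- justifications -/
noncomputable def just2 : List Cert.Just :=
  [.define,
   .define,
   .define,
   .loop (some (19, 5)) [.fwd 490, .fwd 498, .fwd 499, .fwd 500, .fwd 501, .fwd 502],
   .define,
   .loop (some (7, 2)) [.bwd 22, .bwd 490, .fwd 504],
   .define,
   .define,
   .define,
   .loop (some (21, 5)) [.fwd 502, .fwd 503, .fwd 490, .bwd 422, .bwd 421, .fwd 506, .fwd 507, .fwd 508],
   .define,
   .define,
   .define,
   .define,
   .define,
   .loop (some (20, 6)) [.bwd 23, .bwd 22, .bwd 469, .fwd 510, .fwd 511, .fwd 512, .fwd 513, .fwd 514],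
   .define,
   .loop (some (5, 2)) [.fwd 469, .bwd 490, .fwd 516],
   .define,
   .loop (some (8, 2)) [.bwd 486, .fwd 498, .fwd 518],
   .loop (some (1, 1)) [.fwd 403, .fwd 422, .bwd 469],
   .define,
   .loop (some (18, 2)) [.bwd 74, .bwd 73, .fwd 422, .fwd 486, .fwd 521],
   .loop (some (14, 2)) [.bwd 499, .bwd 498, .bwd 496, .fwd 498],
   .loop (some (12, 2)) [.bwd 486, .bwd 496, .fwd 486],
   .loop (some (4, 1)) [.fwd 72, .fwd 422, .fwd 22],
   .define,
   .define,
   .define,
   .define,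
   .define,
   .define,
   .define,
   .define,
   .define,
   .define,
   .define,
   .define,
   .define,
   .define,
   .define,
   .define,
   .define,
   .define,
   .define,
   .define,
   .loop (some (22, 23)) [.bwd 228, .fwd 51, .bwd 201, .fwd 239, .bwd 265, .bwd 356, .bwd 73, .fwd 422, .bwd 21, .bwd 426, .bwd 485, .fwd 526, .fwd 527, .fwd 528, .fwd 529, .fwd 530, .fwd 531, .fwd 532, .fwd 533, .fwd 534, .fwd 535, .fwd 536, .fwd 537, .fwd 538, .fwd 539, .fwd 540, .fwd 541, .fwd 542, .fwd 543, .fwd 544, .fwd 545],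
   .loop (some (11, 2)) [.bwd 22, .bwd 496, .fwd 22],
   .define,
   .loop (some (15, 1)) [.bwd 243, .bwd 242, .bwd 486, .fwd 548],
   .loop (some (9, 2)) [.fwd 469, .bwd 496, .bwd 469],
   .define,
   .define,
   .define,
   .define,
   .define,
   .define,
   .loop (some (19, 5)) [.fwd 505, .fwd 552, .fwd 553, .fwd 554, .fwd 555, .fwd 556],
   .define,
   .define,
   .define,
   .define,
   .loop (some (16, 4)) [.bwd 470, .fwd 558, .fwd 559, .fwd 560, .fwd 561],
   .define,
   .define,
   .define,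
   .define,
   .loop (some (21, 5)) [.fwd 556, .fwd 557, .fwd 505, .fwd 525, .fwd 563, .fwd 564, .fwd 565, .fwd 566],
   .define,
   .define,
   .loop (some (20, 3)) [.fwd 549, .bwd 243, .bwd 242, .bwd 486, .fwd 22, .fwd 558, .fwd 568, .fwd 569],
   .define,
   .loop (some (2, 2)) [.bwd 23, .fwd 470, .fwd 571],
   .define,
   .loop (some (5, 2)) [.bwd 558, .bwd 505, .fwd 573],
   .define,
   .loop (some (8, 2)) [.bwd 23, .fwd 552, .fwd 575],
   .define,
   .loop (some (1, 2)) [.bwd 525, .fwd 558, .fwd 577],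
   .loop (some (18, 2)) [.bwd 428, .bwd 427, .bwd 525, .fwd 23, .fwd 24],
   .define,
   .loop (some (6, 2)) [.bwd 470, .bwd 505, .fwd 580],
   .loop (some (3, 1)) [.fwd 70, .fwd 71, .bwd 525, .fwd 470],
   .loop none [.fwd 582],
   .loop none [.fwd 562, .bwd 583],
   .loop none [.fwd 470, .bwd 583],
   .loop none [.bwd 471, .bwd 583],
   .loop none [.fwd 69, .fwd 583, .fwd 571],
   .loop none [.fwd 587],
   .loop none [.fwd 581, .bwd 583],
   .loop none [.bwd 572, .bwd 588],
   .loop (some (14, 2)) [.bwd 553, .bwd 552, .bwd 547, .fwd 552],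
   .loop (some (12, 2)) [.bwd 23, .bwd 547, .fwd 23],
   .loop (some (13, 2)) [.bwd 525, .bwd 547, .fwd 525],
   .define,
   .define,
   .define,
   .define,
   .define,
   .define,
   .define,
   .define,
   .define,
   .define,
   .define,
   .define,
   .define,
   .define,
   .define,
   .define,
   .define,
   .define,
   .define,
   .define,
   .define,
   .define,
   .define,
   .define,
   .define,
   .define,
   .define,
   .loop (some (22, 29)) [.bwd 427, .bwd 525, .bwd 585, .fwd 586, .fwd 594, .fwd 595, .fwd 596, .fwd 597, .fwd 598, .fwd 599, .fwd 600, .fwd 601, .fwd 602, .fwd 603, .fwd 604, .fwd 605, .fwd 606, .fwd 607, .fwd 608, .fwd 609, .fwd 610, .fwd 611, .fwd 612, .fwd 613, .fwd 614, .fwd 615, .fwd 616, .fwd 617, .fwd 618, .fwd 619, .fwd 620],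
   .loop (some (15, 0)) [.fwd 513, .fwd 514, .fwd 515, .bwd 23],
   .loop (some (9, 2)) [.bwd 558, .bwd 547, .fwd 558],
   .loop (some (10, 2)) [.fwd 585, .bwd 547, .bwd 585],
   .define,
   .define,
   .define,
   .define,
   .define,
   .loop (some (19, 5)) [.fwd 576, .fwd 625, .fwd 626, .fwd 627, .fwd 628, .fwd 629],
   .define,
   .define,
   .define,
   .define,
   .loop (some (16, 4)) [.fwd 590, .fwd 631, .fwd 632, .fwd 633, .fwd 634],
   .define,
   .loop (some (17, 4)) [.fwd 515, .bwd 590, .bwd 68, .bwd 67, .fwd 636],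
   .define,
   .loop (some (7, 2)) [.fwd 515, .bwd 576, .fwd 638],
   .define,
   .define,
   .define,
   .define,
   .loop (some (21, 5)) [.fwd 629, .fwd 630, .fwd 576, .fwd 24, .fwd 640, .fwd 641, .fwd 642, .fwd 643],
   .define,
   .loop (some (20, 2)) [.fwd 510, .fwd 511, .fwd 512, .fwd 513, .fwd 514, .fwd 515, .fwd 631, .fwd 645],
   .define,
   .loop (some (5, 2)) [.bwd 631, .bwd 576, .fwd 647],
   .loop (some (8, 1)) [.fwd 505, .fwd 23, .fwd 625],
   .define,
   .loop (some (1, 2)) [.bwd 24, .fwd 631, .fwd 650],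
   .define,
   .loop (some (6, 2)) [.fwd 590, .bwd 576, .fwd 652],
   .loop (some (3, 1)) [.bwd 25, .bwd 24, .bwd 590],
   .loop (some (14, 2)) [.bwd 626, .bwd 625, .bwd 592, .fwd 625],
   .loop (some (13, 2)) [.bwd 24, .bwd 592, .fwd 24],
   .define,
   .loop (some (4, 2)) [.bwd 24, .bwd 515, .fwd 657],
   .define,
   .define,
   .define,
   .define,
   .define,
   .define,
   .define,
   .define,
   .define,
   .define,
   .define,
   .define,
   .define,
   .define,
   .define,
   .define,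
   .define,
   .define,
   .define,
   .define,
   .define,
   .define,
   .define,
   .define,
   .define,
   .define,
   .define,
   .loop (some (22, 29)) [.bwd 579, .bwd 24, .bwd 590, .bwd 68, .fwd 659, .fwd 660, .fwd 661, .fwd 662, .fwd 663, .fwd 664, .fwd 665, .fwd 666, .fwd 667, .fwd 668, .fwd 669, .fwd 670, .fwd 671, .fwd 672, .fwd 673, .fwd 674, .fwd 675, .fwd 676, .fwd 677, .fwd 678, .fwd 679, .fwd 680, .fwd 681, .fwd 682, .fwd 683, .fwd 684, .fwd 685],
   .loop (some (10, 2)) [.fwd 590, .bwd 592, .bwd 590],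
   .define,
   .define,
   .define,
   .define,
   .define,
   .define,
   .loop (some (19, 5)) [.bwd 640, .fwd 689, .fwd 690, .fwd 691, .fwd 692, .fwd 693],
   .define,
   .define,
   .define,
   .loop (some (16, 4)) [.bwd 25, .bwd 651, .fwd 695, .fwd 696, .fwd 697],
   .define,
   .define,
   .loop (some (17, 4)) [.fwd 658, .fwd 25, .fwd 26, .fwd 699, .fwd 700],
   .define,
   .loop (some (7, 2)) [.fwd 658, .fwd 640, .fwd 702],
   .define,
   .define,
   .define,
   .loop (some (21, 5)) [.fwd 693, .fwd 694, .bwd 640, .bwd 24, .bwd 576, .fwd 704, .fwd 705, .fwd 706],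
   .define,
   .define,
   .define,
   .define,
   .define,
   .define,
   .loop (some (20, 7)) [.fwd 658, .bwd 651, .fwd 708, .fwd 709, .fwd 710, .fwd 711, .fwd 712, .fwd 713],
   .loop (some (2, 1)) [.bwd 429, .bwd 579, .fwd 25],
   .define,
   .loop (some (5, 2)) [.fwd 651, .fwd 640, .fwd 716],
   .define,
   .loop (some (8, 2)) [.bwd 579, .fwd 689, .fwd 718],
   .define,
   .loop (some (6, 2)) [.bwd 25, .fwd 640, .fwd 720],
   .loop (some (14, 2)) [.bwd 690, .bwd 689, .bwd 656, .fwd 689],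
   .loop (some (12, 2)) [.bwd 579, .bwd 656, .fwd 579],
   .define,
   .define,
   .loop (some (15, 2)) [.fwd 686, .bwd 579, .fwd 724, .fwd 725],
   .loop (some (9, 2)) [.fwd 651, .bwd 656, .bwd 651],
   .loop (some (10, 2)) [.bwd 25, .bwd 656, .fwd 25],
   .define,
   .define,
   .define,
   .define,
   .define,
   .define,
   .loop (some (19, 5)) [.fwd 721, .fwd 730, .fwd 731, .fwd 732, .fwd 733, .fwd 734],
   .define,
   .loop (some (7, 2)) [.bwd 26, .bwd 721, .fwd 736],
   .define,
   .define,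
   .define,
   .loop (some (21, 5)) [.fwd 734, .fwd 735, .fwd 721, .bwd 654, .bwd 653, .fwd 738, .fwd 739, .fwd 740],
   .define,
   .define,
   .define,
   .define,
   .define,
   .loop (some (20, 6)) [.bwd 27, .bwd 26, .bwd 698, .fwd 742, .fwd 743, .fwd 744, .fwd 745, .fwd 746],
   .define,
   .loop (some (5, 2)) [.fwd 698, .bwd 721, .fwd 748]]

theorem just2_len : just2.length = 250 := by decide +kernel

theorem just2_ok : cert.okFacts 500 just2 = true := by decide +kernel

/-- justifications -/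
noncomputable def just3 : List Cert.Just :=
  [.define,
   .loop (some (8, 2)) [.bwd 715, .fwd 730, .fwd 750],
   .loop (some (1, 1)) [.fwd 635, .fwd 654, .bwd 698],
   .define,
   .loop (some (18, 2)) [.bwd 70, .bwd 69, .fwd 654, .fwd 715, .fwd 753],
   .loop (some (14, 2)) [.bwd 731, .bwd 730, .bwd 728, .fwd 730],
   .loop (some (12, 2)) [.bwd 715, .bwd 728, .fwd 715],
   .loop (some (4, 1)) [.fwd 68, .fwd 654, .fwd 26],
   .loop (some (11, 2)) [.bwd 26, .bwd 728, .fwd 26],
   .define,
   .loop (some (15, 1)) [.bwd 431, .bwd 430, .bwd 715, .fwd 759],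
   .define,
   .define,
   .define,
   .define,
   .define,
   .define,
   .loop (some (19, 5)) [.fwd 737, .fwd 762, .fwd 763, .fwd 764, .fwd 765, .fwd 766],
   .define,
   .define,
   .define,
   .define,
   .loop (some (16, 4)) [.bwd 699, .fwd 768, .fwd 769, .fwd 770, .fwd 771],
   .define,
   .define,
   .define,
   .define,
   .loop (some (21, 5)) [.fwd 766, .fwd 767, .fwd 737, .fwd 757, .fwd 773, .fwd 774, .fwd 775, .fwd 776],
   .define,
   .define,
   .loop (some (20, 3)) [.fwd 760, .bwd 431, .bwd 430, .bwd 715, .fwd 26, .fwd 768, .fwd 778, .fwd 779],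
   .define,
   .loop (some (2, 2)) [.bwd 27, .fwd 699, .fwd 781],
   .define,
   .loop (some (5, 2)) [.bwd 768, .bwd 737, .fwd 783],
   .define,
   .loop (some (8, 2)) [.bwd 27, .fwd 762, .fwd 785],
   .define,
   .loop (some (1, 2)) [.bwd 757, .fwd 768, .fwd 787],
   .loop (some (18, 2)) [.bwd 660, .bwd 659, .bwd 757, .fwd 27, .fwd 28],
   .define,
   .loop (some (6, 2)) [.bwd 699, .bwd 737, .fwd 790],
   .loop (some (3, 1)) [.fwd 66, .fwd 67, .bwd 757, .fwd 699],
   .loop none [.fwd 792],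
   .loop none [.fwd 772, .bwd 793],
   .loop none [.fwd 699, .bwd 793],
   .loop none [.bwd 700, .bwd 793],
   .loop none [.fwd 65, .fwd 793, .fwd 781],
   .loop none [.fwd 797],
   .loop none [.fwd 791, .bwd 793],
   .loop none [.bwd 782, .bwd 798],
   .loop (some (14, 2)) [.bwd 763, .bwd 762, .bwd 758, .fwd 762],
   .loop (some (12, 2)) [.bwd 27, .bwd 758, .fwd 27],
   .define,
   .define,
   .define,
   .define,
   .define,
   .define,
   .define,
   .define,
   .define,
   .define,
   .define,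
   .define,
   .define,
   .define,
   .define,
   .define,
   .define,
   .define,
   .define,
   .define,
   .define,
   .define,
   .define,
   .define,
   .define,
   .define,
   .define,
   .loop (some (22, 29)) [.bwd 659, .bwd 757, .bwd 795, .fwd 796, .fwd 803, .fwd 804, .fwd 805, .fwd 806, .fwd 807, .fwd 808, .fwd 809, .fwd 810, .fwd 811, .fwd 812, .fwd 813, .fwd 814, .fwd 815, .fwd 816, .fwd 817, .fwd 818, .fwd 819, .fwd 820, .fwd 821, .fwd 822, .fwd 823, .fwd 824, .fwd 825, .fwd 826, .fwd 827, .fwd 828, .fwd 829],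
   .loop (some (15, 0)) [.fwd 745, .fwd 746, .fwd 747, .bwd 27],
   .loop (some (10, 2)) [.fwd 795, .bwd 758, .bwd 795],
   .define,
   .define,
   .define,
   .define,
   .define,
   .define,
   .loop (some (19, 5)) [.fwd 786, .fwd 834, .fwd 835, .fwd 836, .fwd 837, .fwd 838],
   .define,
   .define,
   .define,
   .define,
   .loop (some (16, 4)) [.fwd 800, .fwd 840, .fwd 841, .fwd 842, .fwd 843],
   .define,
   .loop (some (17, 4)) [.fwd 747, .bwd 800, .bwd 64, .bwd 63, .fwd 845],
   .define,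
   .loop (some (7, 2)) [.fwd 747, .bwd 786, .fwd 847],
   .define,
   .define,
   .define,
   .define,
   .loop (some (21, 5)) [.fwd 838, .fwd 839, .fwd 786, .fwd 28, .fwd 849, .fwd 850, .fwd 851, .fwd 852],
   .define,
   .loop (some (20, 2)) [.fwd 742, .fwd 743, .fwd 744, .fwd 745, .fwd 746, .fwd 747, .fwd 840, .fwd 854],
   .define,
   .loop (some (5, 2)) [.bwd 840, .bwd 786, .fwd 856],
   .loop (some (8, 1)) [.fwd 737, .fwd 27, .fwd 834],
   .define,
   .loop (some (1, 2)) [.bwd 28, .fwd 840, .fwd 859],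
   .define,
   .loop (some (6, 2)) [.fwd 800, .bwd 786, .fwd 861],
   .loop (some (3, 1)) [.bwd 29, .bwd 28, .bwd 800],
   .loop (some (14, 2)) [.bwd 835, .bwd 834, .bwd 802, .fwd 834],
   .loop (some (13, 2)) [.bwd 28, .bwd 802, .fwd 28],
   .define,
   .loop (some (4, 2)) [.bwd 28, .bwd 747, .fwd 866],
   .define,
   .define,
   .define,
   .define,
   .define,
   .define,
   .define,
   .define,
   .define,
   .define,
   .define,
   .define,
   .define,
   .define,
   .define,
   .define,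
   .define,
   .define,
   .define,
   .define,
   .define,
   .define,
   .define,
   .define,
   .define,
   .define,
   .define,
   .loop (some (22, 29)) [.bwd 789, .bwd 28, .bwd 800, .bwd 64, .fwd 868, .fwd 869, .fwd 870, .fwd 871, .fwd 872, .fwd 873, .fwd 874, .fwd 875, .fwd 876, .fwd 877, .fwd 878, .fwd 879, .fwd 880, .fwd 881, .fwd 882, .fwd 883, .fwd 884, .fwd 885, .fwd 886, .fwd 887, .fwd 888, .fwd 889, .fwd 890, .fwd 891, .fwd 892, .fwd 893, .fwd 894],
   .loop (some (11, 2)) [.fwd 747, .bwd 802, .bwd 747],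
   .loop (some (15, 0)) [.bwd 430, .bwd 715, .fwd 26, .fwd 27],
   .loop (some (9, 2)) [.bwd 840, .bwd 802, .fwd 840],
   .loop (some (10, 2)) [.fwd 800, .bwd 802, .bwd 800],
   .define,
   .define,
   .define,
   .define,
   .define,
   .define,
   .loop (some (19, 5)) [.bwd 849, .fwd 901, .fwd 902, .fwd 903, .fwd 904, .fwd 905],
   .define,
   .define,
   .define,
   .loop (some (16, 4)) [.bwd 29, .bwd 860, .fwd 907, .fwd 908, .fwd 909],
   .define,
   .define,
   .loop (some (17, 4)) [.fwd 867, .fwd 29, .fwd 30, .fwd 911, .fwd 912],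
   .define,
   .loop (some (7, 2)) [.fwd 867, .fwd 849, .fwd 914],
   .define,
   .define,
   .define,
   .loop (some (21, 5)) [.fwd 905, .fwd 906, .bwd 849, .bwd 28, .bwd 786, .fwd 916, .fwd 917, .fwd 918],
   .define,
   .define,
   .define,
   .define,
   .define,
   .define,
   .loop (some (20, 7)) [.fwd 867, .bwd 860, .fwd 920, .fwd 921, .fwd 922, .fwd 923, .fwd 924, .fwd 925],
   .loop (some (2, 1)) [.bwd 661, .bwd 789, .fwd 29],
   .define,
   .loop (some (5, 2)) [.fwd 860, .fwd 849, .fwd 928],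
   .define,
   .loop (some (8, 2)) [.bwd 789, .fwd 901, .fwd 930],
   .define,
   .loop (some (6, 2)) [.bwd 29, .fwd 849, .fwd 932],
   .loop (some (14, 2)) [.bwd 902, .bwd 901, .bwd 865, .fwd 901],
   .define,
   .define,
   .loop (some (15, 2)) [.fwd 895, .bwd 789, .fwd 935, .fwd 936],
   .loop (some (9, 2)) [.fwd 860, .bwd 865, .bwd 860],
   .loop (some (10, 2)) [.bwd 29, .bwd 865, .fwd 29],
   .define,
   .define,
   .define,
   .define,
   .define,
   .define,
   .loop (some (19, 5)) [.fwd 933, .fwd 941, .fwd 942, .fwd 943, .fwd 944, .fwd 945],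
   .define,
   .loop (some (7, 2)) [.bwd 30, .bwd 933, .fwd 947],
   .define,
   .define,
   .define,
   .loop (some (21, 5)) [.fwd 945, .fwd 946, .fwd 933, .bwd 863, .bwd 862, .fwd 949, .fwd 950, .fwd 951],
   .define,
   .define,
   .define,
   .define,
   .define,
   .loop (some (20, 6)) [.bwd 31, .bwd 30, .bwd 910, .fwd 953, .fwd 954, .fwd 955, .fwd 956, .fwd 957],
   .define,
   .loop (some (5, 2)) [.fwd 910, .bwd 933, .fwd 959],
   .define,
   .loop (some (8, 2)) [.bwd 927, .fwd 941, .fwd 961],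
   .loop (some (1, 1)) [.fwd 844, .fwd 863, .bwd 910],
   .define,
   .loop (some (18, 2)) [.bwd 66, .bwd 65, .fwd 863, .fwd 927, .fwd 964],
   .loop (some (14, 2)) [.bwd 942, .bwd 941, .bwd 939, .fwd 941],
   .loop (some (4, 1)) [.fwd 64, .fwd 863, .fwd 30],
   .define,
   .define,
   .define,
   .define,
   .define,
   .define,
   .define,
   .define,
   .define,
   .define,
   .define,
   .define,
   .define,
   .define,
   .define,
   .define,
   .define,
   .define,
   .define,
   .define,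
   .define,
   .loop (some (22, 24)) [.fwd 513, .fwd 514, .fwd 657, .bwd 701, .bwd 796, .bwd 65, .fwd 863, .bwd 29, .bwd 867, .bwd 926, .fwd 968, .fwd 969, .fwd 970, .fwd 971, .fwd 972, .fwd 973, .fwd 974, .fwd 975, .fwd 976, .fwd 977, .fwd 978, .fwd 979, .fwd 980, .fwd 981, .fwd 982, .fwd 983, .fwd 984, .fwd 985, .fwd 986, .fwd 987, .fwd 988],
   .loop (some (11, 2)) [.bwd 30, .bwd 939, .fwd 30],
   .define,
   .loop (some (15, 1)) [.bwd 663, .bwd 662, .bwd 927, .fwd 991],
   .define,
   .define,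
   .define,
   .define,
   .define,
   .define,
   .loop (some (19, 5)) [.fwd 948, .fwd 994, .fwd 995, .fwd 996, .fwd 997, .fwd 998]]

theorem just3_len : just3.length = 250 := by decide +kernel

theorem just3_ok : cert.okFacts 750 just3 = true := by decide +kernel

/-- justifications -/
noncomputable def just4 : List Cert.Just :=
  [.define,
   .define,
   .define,
   .define,
   .loop (some (16, 4)) [.bwd 911, .fwd 1000, .fwd 1001, .fwd 1002, .fwd 1003],
   .define,
   .define,
   .define,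
   .define,
   .loop (some (21, 5)) [.fwd 998, .fwd 999, .fwd 948, .fwd 967, .fwd 1005, .fwd 1006, .fwd 1007, .fwd 1008],
   .define,
   .define,
   .loop (some (20, 3)) [.fwd 992, .bwd 663, .bwd 662, .bwd 927, .fwd 30, .fwd 1000, .fwd 1010, .fwd 1011],
   .define,
   .loop (some (2, 2)) [.bwd 31, .fwd 911, .fwd 1013],
   .define,
   .loop (some (5, 2)) [.bwd 1000, .bwd 948, .fwd 1015],
   .define,
   .loop (some (8, 2)) [.bwd 31, .fwd 994, .fwd 1017],
   .define,
   .loop (some (1, 2)) [.bwd 967, .fwd 1000, .fwd 1019],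
   .loop (some (18, 2)) [.bwd 869, .bwd 868, .bwd 967, .fwd 31, .fwd 32],
   .define,
   .loop (some (6, 2)) [.bwd 911, .bwd 948, .fwd 1022],
   .loop (some (3, 1)) [.fwd 62, .fwd 63, .bwd 967, .fwd 911],
   .loop none [.fwd 1024],
   .loop none [.fwd 1004, .bwd 1025],
   .loop none [.fwd 911, .bwd 1025],
   .loop none [.fwd 289, .fwd 1025, .fwd 912],
   .loop none [.fwd 1028],
   .loop none [.fwd 61, .fwd 1025, .fwd 1013],
   .loop none [.fwd 1030],
   .loop none [.fwd 1023, .bwd 1025],
   .loop none [.bwd 913, .bwd 1029],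
   .loop none [.fwd 265, .fwd 1031, .fwd 1014],
   .loop none [.bwd 1034],
   .loop none [.bwd 265, .bwd 1035],
   .loop none [.fwd 958, .fwd 1035, .bwd 356],
   .loop none [.bwd 1037],
   .loop none [.fwd 31, .fwd 1035, .fwd 363],
   .loop none [.fwd 1039],
   .loop none [.bwd 32, .fwd 1035, .bwd 264],
   .loop none [.fwd 1041],
   .loop none [.bwd 958, .bwd 1038],
   .loop none [.fwd 73, .fwd 1038, .bwd 957],
   .loop none [.fwd 1044],
   .loop none [.bwd 967, .fwd 1040, .fwd 364],
   .loop none [.fwd 1046],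
   .loop none [.bwd 1021, .fwd 1042, .bwd 263],
   .loop none [.bwd 1048],
   .loop none [.fwd 72, .fwd 1045, .bwd 956],
   .loop none [.fwd 1050],
   .loop none [.fwd 63, .fwd 1047, .fwd 365],
   .loop none [.fwd 1052],
   .loop none [.bwd 870, .bwd 1049],
   .loop none [.fwd 1021, .bwd 1049],
   .loop none [.fwd 869, .bwd 1049],
   .loop none [.bwd 427, .fwd 1051, .bwd 955],
   .loop none [.fwd 1057],
   .loop none [.bwd 845, .fwd 1053, .fwd 366],
   .loop none [.bwd 1059],
   .loop none [.fwd 621, .fwd 1058, .bwd 954],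
   .loop none [.fwd 1061],
   .loop none [.bwd 846, .bwd 1060],
   .loop none [.fwd 845, .bwd 1060],
   .loop none [.fwd 953, .bwd 1062],
   .loop (some (14, 2)) [.bwd 995, .bwd 994, .bwd 990, .fwd 994],
   .loop (some (12, 2)) [.bwd 31, .bwd 990, .fwd 31],
   .loop (some (13, 2)) [.bwd 967, .bwd 990, .fwd 967],
   .define,
   .define,
   .define,
   .define,
   .define,
   .define,
   .define,
   .define,
   .define,
   .define,
   .define,
   .define,
   .define,
   .define,
   .define,
   .define,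
   .define,
   .define,
   .define,
   .define,
   .define,
   .define,
   .define,
   .define,
   .define,
   .define,
   .loop (some (22, 29)) [.bwd 868, .bwd 967, .bwd 1027, .bwd 289, .bwd 288, .fwd 1069, .fwd 1070, .fwd 1071, .fwd 1072, .fwd 1073, .fwd 1074, .fwd 1075, .fwd 1076, .fwd 1077, .fwd 1078, .fwd 1079, .fwd 1080, .fwd 1081, .fwd 1082, .fwd 1083, .fwd 1084, .fwd 1085, .fwd 1086, .fwd 1087, .fwd 1088, .fwd 1089, .fwd 1090, .fwd 1091, .fwd 1092, .fwd 1093, .fwd 1094],
   .loop (some (15, 0)) [.fwd 72, .fwd 73, .fwd 1043, .bwd 31],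
   .loop (some (10, 2)) [.fwd 1027, .bwd 990, .bwd 1027],
   .define,
   .define,
   .define,
   .define,
   .define,
   .define,
   .loop (some (19, 5)) [.fwd 1018, .fwd 1099, .fwd 1100, .fwd 1101, .fwd 1102, .fwd 1103],
   .define,
   .define,
   .define,
   .define,
   .loop (some (16, 4)) [.bwd 1036, .fwd 1105, .fwd 1106, .fwd 1107, .fwd 1108],
   .loop (some (7, 1)) [.bwd 359, .fwd 1043, .bwd 1018],
   .define,
   .define,
   .define,
   .define,
   .loop (some (21, 5)) [.fwd 1103, .fwd 1104, .fwd 1018, .fwd 32, .fwd 1111, .fwd 1112, .fwd 1113, .fwd 1114],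
   .define,
   .loop (some (20, 2)) [.bwd 1065, .fwd 621, .bwd 427, .fwd 72, .fwd 73, .fwd 1043, .fwd 1105, .fwd 1116],
   .define,
   .loop (some (5, 2)) [.bwd 1105, .bwd 1018, .fwd 1118],
   .loop (some (8, 1)) [.fwd 948, .fwd 31, .fwd 1099],
   .define,
   .loop (some (1, 2)) [.bwd 32, .fwd 1105, .fwd 1121],
   .loop (some (6, 1)) [.fwd 282, .bwd 1036, .bwd 1018],
   .loop (some (14, 2)) [.bwd 1100, .bwd 1099, .bwd 1067, .fwd 1099],
   .loop (some (13, 2)) [.bwd 32, .bwd 1067, .fwd 32],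
   .loop (some (15, 0)) [.bwd 662, .bwd 927, .fwd 30, .fwd 31],
   .define,
   .define,
   .define,
   .define,
   .define,
   .define,
   .loop (some (19, 5)) [.bwd 1111, .fwd 1128, .fwd 1129, .fwd 1130, .fwd 1131, .fwd 1132],
   .define,
   .define,
   .define,
   .loop (some (16, 4)) [.bwd 33, .bwd 1122, .fwd 1134, .fwd 1135, .fwd 1136],
   .define,
   .loop (some (7, 2)) [.fwd 219, .fwd 1111, .fwd 1138],
   .define,
   .define,
   .define,
   .loop (some (21, 5)) [.fwd 1132, .fwd 1133, .bwd 1111, .bwd 32, .bwd 1018, .fwd 1140, .fwd 1141, .fwd 1142],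
   .define,
   .define,
   .define,
   .define,
   .define,
   .loop (some (20, 6)) [.fwd 522, .fwd 219, .bwd 1122, .fwd 1144, .fwd 1145, .fwd 1146, .fwd 1147, .fwd 1148],
   .loop (some (2, 2)) [.bwd 1054, .fwd 1055, .fwd 33, .fwd 201],
   .loop none [.bwd 1150],
   .loop none [.fwd 1054, .bwd 1151],
   .loop none [.fwd 51, .fwd 1151, .fwd 871],
   .loop none [.fwd 1153],
   .loop none [.fwd 50, .fwd 1154, .fwd 872],
   .loop none [.fwd 1155],
   .loop none [.fwd 95, .fwd 1156, .fwd 873],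
   .loop none [.fwd 1157],
   .loop none [.bwd 92, .fwd 1158, .fwd 874],
   .loop none [.fwd 1159],
   .loop none [.fwd 85, .fwd 1160, .fwd 875],
   .loop none [.fwd 1161],
   .loop none [.bwd 876, .bwd 1162],
   .define,
   .loop (some (8, 2)) [.fwd 1055, .fwd 1128, .fwd 1164],
   .loop (some (6, 1)) [.fwd 33, .fwd 220, .bwd 33, .fwd 1111],
   .loop none [.fwd 1166],
   .loop none [.fwd 219, .fwd 1167, .fwd 1138],
   .loop none [.fwd 1168],
   .loop none [.fwd 32, .fwd 1167, .fwd 1112],
   .loop none [.fwd 1170],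
   .loop none [.bwd 1128, .fwd 1167, .bwd 1111],
   .loop none [.bwd 1172],
   .loop none [.fwd 1133, .bwd 1167],
   .loop none [.bwd 1139, .bwd 1169],
   .loop none [.fwd 1018, .fwd 1171, .fwd 1113],
   .loop none [.fwd 1176],
   .loop none [.fwd 1055, .fwd 1173, .fwd 1164],
   .loop none [.fwd 1178],
   .loop none [.fwd 1173, .bwd 1128, .fwd 1173, .fwd 1129],
   .loop none [.fwd 1180],
   .loop none [.bwd 1174, .fwd 1173, .bwd 1128],
   .loop none [.bwd 1182],
   .loop none [.fwd 1104, .fwd 1177, .fwd 1114],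
   .loop none [.fwd 1184],
   .loop none [.bwd 1165, .bwd 1179],
   .loop none [.bwd 1130, .bwd 1181],
   .loop none [.bwd 1187, .fwd 1183, .bwd 1174],
   .loop none [.bwd 1188],
   .loop none [.fwd 1132, .bwd 1183],
   .loop none [.bwd 1115, .bwd 1185],
   .loop none [.fwd 1189, .bwd 1187, .fwd 1189, .fwd 1131],
   .loop none [.fwd 1192],
   .loop none [.fwd 32, .fwd 1193, .bwd 1143],
   .loop none [.fwd 1194],
   .loop none [.fwd 1190, .bwd 1193],
   .loop none [.bwd 1099, .fwd 1195, .bwd 1142],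
   .loop none [.fwd 1197],
   .loop none [.bwd 1100, .fwd 1198, .bwd 1141],
   .loop none [.fwd 1199],
   .loop none [.fwd 1140, .bwd 1200],
   .define,
   .define,
   .loop (some (15, 2)) [.fwd 262, .fwd 1055, .fwd 1202, .fwd 1203],
   .define,
   .define,
   .define,
   .loop (some (21, 4)) [.bwd 239, .fwd 220, .fwd 220, .fwd 220, .fwd 239, .bwd 282, .fwd 1206, .fwd 1207],
   .loop (some (20, 1)) [.bwd 201, .fwd 200, .bwd 15, .bwd 3, .fwd 11, .fwd 3, .fwd 15, .bwd 200, .bwd 1137],
   .loop none [.fwd 1209],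
   .loop none [.bwd 1137, .bwd 1210],
   .loop none [.bwd 1152, .fwd 1210, .bwd 1136],
   .loop none [.fwd 1212],
   .loop none [.fwd 1135, .bwd 1213],
   .loop (some (5, 2)) [.fwd 1211, .bwd 220, .bwd 1211],
   .loop (some (1, 1)) [.fwd 1109, .bwd 239, .bwd 1211],
   .loop (some (18, 2)) [.bwd 62, .bwd 61, .bwd 239, .fwd 201, .fwd 1216],
   .loop (some (12, 2)) [.bwd 201, .bwd 266, .fwd 201],
   .define,
   .define,
   .define,
   .define,
   .define,
   .define,
   .define,
   .define,
   .define,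
   .define,
   .define,
   .define,
   .define,
   .define,
   .define,
   .define,
   .define,
   .loop (some (22, 24)) [.fwd 745, .fwd 746, .fwd 866, .bwd 1033, .fwd 289, .bwd 61, .bwd 239, .bwd 33, .bwd 219, .bwd 522, .bwd 521, .bwd 241, .bwd 454, .bwd 495, .fwd 1219, .fwd 1220, .fwd 1221, .fwd 1222, .fwd 1223, .fwd 1224, .fwd 1225, .fwd 1226, .fwd 1227, .fwd 1228, .fwd 1229, .fwd 1230, .fwd 1231, .fwd 1232, .fwd 1233, .fwd 1234, .fwd 1235],
   .loop (some (15, 0)) [.bwd 123, .bwd 93, .fwd 50, .fwd 51, .bwd 201],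
   .loop none [.bwd 1237],
   .loop none [.fwd 123, .bwd 1238],
   .loop (some (2, 2)) [.bwd 228, .bwd 50, .fwd 92, .fwd 1163],
   .loop none [.fwd 1240],
   .loop none [.fwd 1163, .bwd 1241],
   .loop none [.fwd 546, .fwd 1241, .fwd 877],
   .loop none [.fwd 1243],
   .loop none [.bwd 878, .bwd 1244],
   .loop (some (18, 3)) [.bwd 96, .bwd 50, .fwd 95, .fwd 50, .fwd 96, .fwd 284],
   .loop none [.fwd 1246],
   .loop none [.bwd 285, .bwd 1247],
   .loop none [.fwd 284, .bwd 1247]]

theorem just4_len : just4.length = 250 := by decide +kernel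

theorem just4_ok : cert.okFacts 1000 just4 = true := by decide +kernel

/-- justifications -/
noncomputable def just5 : List Cert.Just :=
  [.loop (some (6, 2)) [.bwd 92, .bwd 94, .fwd 92],
   .loop (some (3, 2)) [.bwd 92, .fwd 95, .fwd 92, .bwd 120],
   .loop none [.fwd 1251],
   .loop none [.fwd 1242, .fwd 1252, .bwd 119],
   .loop none [.bwd 1253],
   .loop none [.bwd 120, .bwd 1252],
   .loop none [.bwd 216, .bwd 1254],
   .loop none [.fwd 228, .bwd 1254],
   .loop none [.bwd 1242, .bwd 1254],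
   .loop none [.fwd 546, .bwd 1254],
   .loop (some (15, 0)) [.bwd 271, .bwd 200, .fwd 201, .bwd 51, .bwd 50],
   .loop none [.bwd 1260],
   .loop none [.fwd 271, .bwd 1261],
   .loop (some (10, 2)) [.bwd 92, .bwd 121, .fwd 92],
   .define,
   .loop (some (17, 3)) [.fwd 262, .bwd 1152, .bwd 51, .bwd 1257, .bwd 118, .bwd 117],
   .loop none [.bwd 1265],
   .loop none [.bwd 117, .fwd 1266, .bwd 261],
   .loop none [.fwd 1267],
   .loop none [.bwd 262, .bwd 1266],
   .loop none [.fwd 1204, .bwd 1266],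
   .loop none [.fwd 260, .bwd 1268],
   .define,
   .define,
   .loop (some (21, 4)) [.bwd 96, .fwd 229, .fwd 229, .fwd 229, .fwd 96, .bwd 291, .fwd 1272, .fwd 1273],
   .loop (some (6, 2)) [.fwd 1257, .bwd 229, .bwd 1257],
   .loop (some (3, 3)) [.bwd 96, .bwd 1257, .fwd 1259, .fwd 1245],
   .loop none [.fwd 1276],
   .loop none [.bwd 97, .fwd 1277, .bwd 1245],
   .loop none [.fwd 1278],
   .loop none [.bwd 1248, .fwd 1277, .fwd 879],
   .loop none [.fwd 1280],
   .loop none [.fwd 545, .bwd 1279],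
   .loop none [.fwd 1259, .bwd 1279],
   .loop none [.bwd 286, .fwd 1281, .fwd 880],
   .loop none [.fwd 1284],
   .loop none [.bwd 881, .bwd 1285],
   .loop (some (4, 2)) [.bwd 1248, .bwd 96, .fwd 51, .fwd 1216],
   .loop none [.fwd 1287],
   .loop none [.bwd 1109, .bwd 1288],
   .loop none [.fwd 1108, .bwd 1288],
   .loop none [.bwd 286, .fwd 1288, .fwd 1217],
   .loop none [.bwd 1291],
   .loop none [.fwd 1216, .bwd 1288],
   .loop none [.fwd 1064, .fwd 1292, .fwd 287],
   .loop none [.bwd 1294],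
   .loop none [.fwd 286, .bwd 1292],
   .loop none [.fwd 62, .fwd 1292, .fwd 1286],
   .loop none [.fwd 1297],
   .loop none [.bwd 1063, .bwd 1295],
   .loop none [.bwd 1064, .bwd 1295],
   .loop none [.bwd 288, .fwd 1295, .fwd 367],
   .loop none [.fwd 1301],
   .loop none [.bwd 1027, .fwd 1298, .fwd 882],
   .loop none [.fwd 1303],
   .loop none [.bwd 368, .bwd 1302],
   .loop none [.fwd 30, .fwd 1304, .fwd 883],
   .loop none [.fwd 1306],
   .loop none [.bwd 927, .fwd 1307, .fwd 884],
   .loop none [.fwd 1308],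
   .loop none [.bwd 964, .fwd 1309, .fwd 885],
   .loop none [.bwd 1310],
   .loop none [.bwd 965, .bwd 1311],
   .loop none [.fwd 964, .bwd 1311],
   .define,
   .define,
   .define,
   .define,
   .define,
   .define,
   .define,
   .define,
   .define,
   .define,
   .define,
   .define,
   .define,
   .define,
   .define,
   .define,
   .define,
   .define,
   .define,
   .define,
   .define,
   .define,
   .define,
   .define,
   .define,
   .loop (some (22, 27)) [.bwd 1290, .bwd 1248, .fwd 1249, .bwd 96, .bwd 1257, .bwd 118, .fwd 1314, .fwd 1315, .fwd 1316, .fwd 1317, .fwd 1318, .fwd 1319, .fwd 1320, .fwd 1321, .fwd 1322, .fwd 1323, .fwd 1324, .fwd 1325, .fwd 1326, .fwd 1327, .fwd 1328, .fwd 1329, .fwd 1330, .fwd 1331, .fwd 1332, .fwd 1333, .fwd 1334, .fwd 1335, .fwd 1336, .fwd 1337, .fwd 1338],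
   .loop (some (15, 0)) [.bwd 1264, .fwd 93, .fwd 91, .bwd 93, .fwd 50],
   .loop none [.bwd 1340],
   .loop none [.fwd 1264, .bwd 1341],
   .loop (some (10, 2)) [.fwd 1257, .bwd 270, .bwd 1257],
   .define,
   .define,
   .define,
   .loop (some (21, 4)) [.fwd 1293, .fwd 1215, .fwd 1215, .fwd 1215, .bwd 1293, .fwd 1344, .fwd 1345, .fwd 1346],
   .loop (some (3, 2)) [.bwd 1290, .fwd 1293, .fwd 1152, .fwd 1056],
   .loop none [.bwd 1348],
   .loop none [.fwd 1107, .bwd 1349],
   .loop none [.fwd 1290, .bwd 1349],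
   .loop none [.fwd 1056, .fwd 1349, .bwd 1339],
   .loop none [.fwd 1352],
   .loop none [.bwd 1055, .fwd 1353, .bwd 1338],
   .loop none [.fwd 1354],
   .loop none [.fwd 219, .fwd 1355, .bwd 1337],
   .loop none [.fwd 1356],
   .loop none [.bwd 75, .fwd 1357, .bwd 1336],
   .loop none [.fwd 1358],
   .loop none [.fwd 319, .fwd 1359, .bwd 1335],
   .loop none [.fwd 1360],
   .loop none [.bwd 19, .fwd 1361, .bwd 1334],
   .loop none [.fwd 1362],
   .loop none [.fwd 314, .fwd 1363, .bwd 1333],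
   .loop none [.fwd 1364],
   .loop none [.fwd 405, .fwd 1365, .bwd 1332],
   .loop none [.fwd 1366],
   .loop none [.fwd 1331, .bwd 1367],
   .loop (some (13, 2)) [.fwd 1293, .bwd 1218, .bwd 1293],
   .define,
   .define,
   .define,
   .define,
   .define,
   .define,
   .define,
   .define,
   .define,
   .define,
   .define,
   .define,
   .define,
   .define,
   .define,
   .define,
   .define,
   .define,
   .define,
   .define,
   .define,
   .loop (some (22, 24)) [.fwd 925, .fwd 926, .bwd 866, .bwd 1299, .fwd 1300, .fwd 1296, .fwd 1293, .fwd 1152, .bwd 1269, .fwd 1270, .fwd 1370, .fwd 1371, .fwd 1372, .fwd 1373, .fwd 1374, .fwd 1375, .fwd 1376, .fwd 1377, .fwd 1378, .fwd 1379, .fwd 1380, .fwd 1381, .fwd 1382, .fwd 1383, .fwd 1384, .fwd 1385, .fwd 1386, .fwd 1387, .fwd 1388, .fwd 1389, .fwd 1390],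
   .loop (some (15, 0)) [.bwd 82, .fwd 3, .fwd 15, .bwd 200, .fwd 201],
   .loop none [.bwd 1392],
   .loop none [.fwd 82, .bwd 1393],
   .loop (some (7, 2)) [.bwd 332, .bwd 144, .bwd 155, .fwd 144],
   .loop none [.bwd 1395],
   .loop none [.fwd 319, .fwd 1396, .fwd 333],
   .loop none [.fwd 1397],
   .loop none [.fwd 332, .bwd 1396],
   .loop none [.fwd 307, .fwd 1398, .fwd 334],
   .loop none [.fwd 1400],
   .loop none [.fwd 326, .fwd 1401, .fwd 335],
   .loop none [.fwd 1402],
   .loop none [.bwd 336, .bwd 1403],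
   .loop (some (21, 2)) [.bwd 301, .bwd 300, .fwd 237, .fwd 155, .fwd 155, .fwd 155, .bwd 237, .bwd 294],
   .define,
   .loop (some (20, 2)) [.fwd 175, .bwd 205, .fwd 149, .fwd 150, .fwd 199, .bwd 144, .bwd 218, .fwd 1406],
   .loop (some (5, 2)) [.fwd 218, .bwd 155, .bwd 218],
   .define,
   .define,
   .define,
   .define,
   .define,
   .define,
   .define,
   .define,
   .define,
   .define,
   .define,
   .define,
   .define,
   .define,
   .define,
   .define,
   .define,
   .define,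
   .loop (some (22, 24)) [.fwd 1149, .fwd 522, .bwd 74, .fwd 355, .bwd 18, .fwd 236, .fwd 237, .fwd 135, .bwd 200, .fwd 201, .bwd 1293, .bwd 1351, .bwd 1095, .fwd 1409, .fwd 1410, .fwd 1411, .fwd 1412, .fwd 1413, .fwd 1414, .fwd 1415, .fwd 1416, .fwd 1417, .fwd 1418, .fwd 1419, .fwd 1420, .fwd 1421, .fwd 1422, .fwd 1423, .fwd 1424, .fwd 1425, .fwd 1426],
   .define,
   .define,
   .define,
   .loop (some (19, 5)) [.fwd 282, .bwd 1208, .bwd 1207, .fwd 1428, .fwd 1429, .fwd 1430],
   .loop (some (21, 5)) [.fwd 1430, .fwd 1431, .fwd 282, .bwd 239, .bwd 220, .fwd 239, .bwd 282, .bwd 1431],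
   .loop (some (5, 1)) [.bwd 1344, .fwd 1289, .bwd 282],
   .loop (some (8, 1)) [.bwd 1032, .bwd 61, .bwd 1208],
   .define,
   .define,
   .define,
   .define,
   .define,
   .define,
   .loop (some (19, 5)) [.bwd 1032, .fwd 1436, .fwd 1437, .fwd 1438, .fwd 1439, .fwd 1440],
   .define,
   .loop (some (7, 2)) [.fwd 289, .fwd 1032, .fwd 1442],
   .define,
   .define,
   .define,
   .define,
   .loop (some (21, 5)) [.fwd 1440, .fwd 1441, .bwd 1032, .fwd 62, .fwd 1444, .fwd 1445, .fwd 1446, .fwd 1447],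
   .loop (some (20, 1)) [.fwd 1296, .bwd 1248, .fwd 1249, .fwd 1248, .bwd 1296, .bwd 1300, .fwd 288, .fwd 289, .fwd 1026],
   .loop none [.fwd 1449],
   .loop none [.fwd 1026, .bwd 1450],
   .loop none [.bwd 63, .fwd 1450, .bwd 1003],
   .loop none [.fwd 1452],
   .loop none [.fwd 1020, .fwd 1453, .bwd 1002],
   .loop none [.bwd 1454],
   .loop none [.bwd 1020, .bwd 1455],
   .loop none [.fwd 1019, .bwd 1455],
   .loop (some (5, 1)) [.bwd 1444, .fwd 1451, .fwd 1032],
   .loop (some (8, 1)) [.fwd 282, .fwd 61, .fwd 1436],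
   .loop (some (13, 2)) [.bwd 62, .bwd 1097, .fwd 62],
   .loop (some (4, 2)) [.fwd 1300, .bwd 62, .bwd 289, .fwd 1305],
   .loop none [.fwd 1461],
   .loop none [.bwd 1299, .fwd 1462, .fwd 369],
   .loop none [.bwd 1463],
   .loop none [.bwd 1069, .fwd 1462, .bwd 1305],
   .loop none [.bwd 1465],
   .loop none [.fwd 1299, .bwd 1464],
   .loop none [.bwd 370, .fwd 1464, .fwd 747],
   .loop none [.bwd 1468],
   .loop none [.fwd 746, .bwd 1464],
   .loop none [.bwd 866, .bwd 1464],
   .loop none [.fwd 848, .bwd 1464],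
   .loop none [.fwd 1464, .bwd 896, .bwd 1464],
   .loop none [.bwd 1033, .fwd 1466, .fwd 1070],
   .loop none [.fwd 1474],
   .loop none [.fwd 1069, .bwd 1466],
   .loop none [.fwd 370, .bwd 1469],
   .loop none [.fwd 27, .fwd 1469, .fwd 371],
   .loop none [.fwd 1478],
   .loop none [.bwd 867, .fwd 1475, .fwd 1071],
   .loop none [.fwd 1480],
   .loop none [.bwd 757, .fwd 1479, .fwd 372],
   .loop none [.fwd 1482],
   .loop none [.bwd 789, .fwd 1481, .fwd 1072],
   .loop none [.fwd 1484],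
   .loop none [.fwd 67, .fwd 1483, .fwd 373],
   .loop none [.fwd 1486],
   .loop none [.fwd 660, .fwd 1485, .fwd 1073],
   .loop none [.fwd 1488],
   .loop none [.bwd 636, .fwd 1487, .fwd 374],
   .loop none [.bwd 1490],
   .loop none [.bwd 1074, .bwd 1489],
   .loop none [.bwd 637, .bwd 1491],
   .loop none [.fwd 636, .bwd 1491],
   .loop (some (11, 2)) [.fwd 289, .bwd 1097, .bwd 289],
   .loop (some (15, 0)) [.bwd 1435, .bwd 235, .fwd 137, .fwd 235, .fwd 61],
   .loop none [.bwd 1496],
   .loop none [.fwd 1435, .bwd 1497],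
   .define]

theorem just5_len : just5.length = 250 := by decide +kernel

theorem just5_ok : cert.okFacts 1250 just5 = true := by decide +kernel

/-- justifications -/
noncomputable def just6 : List Cert.Just :=
  [.define,
   .define,
   .define,
   .define,
   .loop (some (19, 5)) [.bwd 1444, .fwd 1499, .fwd 1500, .fwd 1501, .fwd 1502, .fwd 1503],
   .define,
   .loop (some (7, 2)) [.fwd 1300, .fwd 1444, .fwd 1505],
   .define,
   .define,
   .define,
   .loop (some (21, 5)) [.fwd 1503, .fwd 1504, .bwd 1444, .bwd 62, .fwd 1032, .fwd 1507, .fwd 1508, .fwd 1509],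
   .loop (some (8, 1)) [.bwd 1344, .bwd 1296, .fwd 1499],
   .loop (some (6, 1)) [.bwd 1005, .bwd 63, .fwd 1444],
   .loop (some (11, 2)) [.fwd 1300, .bwd 1460, .bwd 1300],
   .define,
   .define,
   .define,
   .define,
   .define,
   .loop (some (19, 5)) [.bwd 1005, .fwd 1514, .fwd 1515, .fwd 1516, .fwd 1517, .fwd 1518],
   .loop (some (7, 1)) [.fwd 862, .bwd 64, .fwd 1005],
   .define,
   .define,
   .define,
   .loop (some (21, 5)) [.fwd 1518, .fwd 1519, .bwd 1005, .bwd 967, .bwd 948, .fwd 1521, .fwd 1522, .fwd 1523],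
   .define,
   .define,
   .define,
   .loop (some (20, 4)) [.bwd 803, .bwd 796, .bwd 65, .bwd 64, .bwd 1456, .fwd 1525, .fwd 1526, .fwd 1527],
   .define,
   .loop (some (5, 2)) [.fwd 1456, .fwd 1005, .fwd 1529],
   .define,
   .loop (some (8, 2)) [.bwd 868, .fwd 1514, .fwd 1531],
   .loop (some (14, 2)) [.bwd 1515, .bwd 1514, .bwd 1068, .fwd 1514],
   .loop (some (12, 2)) [.bwd 868, .bwd 1068, .fwd 868],
   .define,
   .loop (some (15, 1)) [.bwd 1409, .fwd 1095, .bwd 868, .fwd 1535],
   .define,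
   .define,
   .define,
   .define,
   .define,
   .define,
   .loop (some (19, 5)) [.fwd 862, .fwd 1538, .fwd 1539, .fwd 1540, .fwd 1541, .fwd 1542],
   .define,
   .define,
   .define,
   .loop (some (21, 5)) [.fwd 1542, .fwd 1543, .fwd 862, .fwd 863, .bwd 933, .fwd 1544, .fwd 1545, .fwd 1546],
   .define,
   .define,
   .loop (some (20, 3)) [.fwd 1536, .bwd 1409, .fwd 1095, .bwd 868, .fwd 64, .bwd 844, .fwd 1548, .fwd 1549],
   .define,
   .loop (some (5, 2)) [.fwd 844, .bwd 862, .fwd 1551],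
   .loop (some (8, 1)) [.bwd 799, .bwd 65, .fwd 1538],
   .loop (some (14, 2)) [.bwd 1539, .bwd 1538, .bwd 899, .fwd 1538],
   .define,
   .define,
   .define,
   .define,
   .define,
   .define,
   .define,
   .define,
   .define,
   .define,
   .define,
   .define,
   .define,
   .define,
   .define,
   .define,
   .define,
   .define,
   .define,
   .define,
   .define,
   .define,
   .define,
   .define,
   .define,
   .loop (some (22, 28)) [.bwd 662, .bwd 927, .bwd 863, .fwd 800, .fwd 1477, .fwd 1470, .fwd 1555, .fwd 1556, .fwd 1557, .fwd 1558, .fwd 1559, .fwd 1560, .fwd 1561, .fwd 1562, .fwd 1563, .fwd 1564, .fwd 1565, .fwd 1566, .fwd 1567, .fwd 1568, .fwd 1569, .fwd 1570, .fwd 1571, .fwd 1572, .fwd 1573, .fwd 1574, .fwd 1575, .fwd 1576, .fwd 1577, .fwd 1578, .fwd 1579],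
   .loop (some (15, 0)) [.fwd 1528, .bwd 803, .bwd 796, .bwd 65],
   .define,
   .define,
   .define,
   .define,
   .define,
   .define,
   .loop (some (19, 5)) [.bwd 799, .fwd 1583, .fwd 1584, .fwd 1585, .fwd 1586, .fwd 1587],
   .define,
   .loop (some (7, 2)) [.bwd 796, .fwd 799, .fwd 1589],
   .define,
   .define,
   .define,
   .define,
   .loop (some (21, 5)) [.fwd 1587, .fwd 1588, .bwd 799, .fwd 66, .fwd 1591, .fwd 1592, .fwd 1593, .fwd 1594],
   .define,
   .loop (some (20, 2)) [.fwd 1525, .fwd 1526, .fwd 1527, .fwd 1528, .bwd 803, .bwd 796, .fwd 794, .fwd 1596],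
   .define,
   .loop (some (5, 2)) [.bwd 794, .fwd 799, .fwd 1598],
   .loop (some (8, 1)) [.fwd 862, .fwd 65, .fwd 1583],
   .define,
   .loop (some (1, 2)) [.bwd 66, .fwd 794, .fwd 1601],
   .loop (some (14, 2)) [.bwd 1584, .bwd 1583, .bwd 832, .fwd 1583],
   .loop (some (13, 2)) [.bwd 66, .bwd 832, .fwd 66],
   .loop (some (4, 1)) [.fwd 1494, .bwd 66, .fwd 796],
   .define,
   .define,
   .define,
   .define,
   .define,
   .define,
   .define,
   .define,
   .define,
   .define,
   .define,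
   .define,
   .define,
   .define,
   .define,
   .define,
   .define,
   .define,
   .define,
   .define,
   .define,
   .define,
   .define,
   .define,
   .define,
   .loop (some (22, 29)) [.fwd 1312, .bwd 66, .fwd 795, .bwd 26, .fwd 715, .fwd 753, .fwd 1606, .fwd 1607, .fwd 1608, .fwd 1609, .fwd 1610, .fwd 1611, .fwd 1612, .fwd 1613, .fwd 1614, .fwd 1615, .fwd 1616, .fwd 1617, .fwd 1618, .fwd 1619, .fwd 1620, .fwd 1621, .fwd 1622, .fwd 1623, .fwd 1624, .fwd 1625, .fwd 1626, .fwd 1627, .fwd 1628, .fwd 1629, .fwd 1630],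
   .loop (some (9, 2)) [.bwd 794, .bwd 832, .fwd 794],
   .define,
   .define,
   .define,
   .define,
   .define,
   .define,
   .loop (some (19, 5)) [.bwd 1591, .fwd 1634, .fwd 1635, .fwd 1636, .fwd 1637, .fwd 1638],
   .define,
   .define,
   .loop (some (16, 3)) [.fwd 788, .bwd 67, .bwd 1602, .fwd 1640, .fwd 1641],
   .define,
   .loop (some (7, 2)) [.fwd 1494, .fwd 1591, .fwd 1643],
   .define,
   .define,
   .define,
   .loop (some (21, 5)) [.fwd 1638, .fwd 1639, .bwd 1591, .bwd 66, .fwd 799, .fwd 1645, .fwd 1646, .fwd 1647],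
   .define,
   .define,
   .define,
   .define,
   .define,
   .loop (some (20, 6)) [.bwd 375, .fwd 1494, .bwd 1602, .fwd 1649, .fwd 1650, .fwd 1651, .fwd 1652, .fwd 1653],
   .loop (some (2, 3)) [.fwd 1312, .fwd 67, .fwd 659, .fwd 1492],
   .loop none [.fwd 1655],
   .loop none [.bwd 886, .fwd 1656, .bwd 1492],
   .loop none [.bwd 1657],
   .loop none [.fwd 1631, .fwd 1656, .fwd 1075],
   .loop none [.bwd 1659],
   .loop none [.fwd 886, .bwd 1658],
   .loop none [.fwd 830, .fwd 1658, .fwd 887],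
   .loop none [.fwd 1662],
   .loop none [.bwd 1631, .bwd 1660],
   .loop none [.bwd 888, .bwd 1663],
   .define,
   .loop (some (5, 2)) [.fwd 1602, .fwd 1591, .fwd 1666],
   .define,
   .loop (some (8, 2)) [.fwd 1312, .fwd 1634, .fwd 1668],
   .loop (some (6, 1)) [.bwd 773, .bwd 67, .fwd 1591],
   .loop (some (14, 2)) [.bwd 1635, .bwd 1634, .bwd 1604, .fwd 1634],
   .loop (some (11, 2)) [.fwd 1494, .bwd 1604, .bwd 1494],
   .define,
   .loop (some (15, 1)) [.bwd 1076, .fwd 1664, .fwd 1312, .fwd 1673],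
   .define,
   .define,
   .define,
   .define,
   .define,
   .loop (some (19, 5)) [.bwd 773, .fwd 1675, .fwd 1676, .fwd 1677, .fwd 1678, .fwd 1679],
   .loop (some (7, 1)) [.fwd 653, .bwd 68, .fwd 773],
   .define,
   .define,
   .define,
   .loop (some (21, 5)) [.fwd 1679, .fwd 1680, .bwd 773, .bwd 757, .bwd 737, .fwd 1682, .fwd 1683, .fwd 1684],
   .define,
   .define,
   .define,
   .loop (some (20, 4)) [.bwd 594, .bwd 586, .bwd 69, .bwd 68, .bwd 788, .fwd 1686, .fwd 1687, .fwd 1688],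
   .define,
   .loop (some (5, 2)) [.fwd 788, .fwd 773, .fwd 1690],
   .define,
   .loop (some (8, 2)) [.bwd 659, .fwd 1675, .fwd 1692],
   .define,
   .loop (some (15, 1)) [.bwd 1665, .fwd 830, .bwd 659, .fwd 1694],
   .define,
   .define,
   .define,
   .define,
   .define,
   .define,
   .loop (some (19, 5)) [.fwd 653, .fwd 1697, .fwd 1698, .fwd 1699, .fwd 1700, .fwd 1701],
   .define,
   .define,
   .define,
   .loop (some (21, 5)) [.fwd 1701, .fwd 1702, .fwd 653, .fwd 654, .bwd 721, .fwd 1703, .fwd 1704, .fwd 1705],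
   .define,
   .define,
   .loop (some (20, 3)) [.fwd 1695, .bwd 1665, .fwd 830, .bwd 659, .fwd 68, .bwd 635, .fwd 1707, .fwd 1708],
   .define,
   .loop (some (5, 2)) [.fwd 635, .bwd 653, .fwd 1710],
   .loop (some (8, 1)) [.bwd 589, .bwd 69, .fwd 1697],
   .loop (some (14, 2)) [.bwd 1698, .bwd 1697, .bwd 687, .fwd 1697],
   .define,
   .define,
   .define,
   .define,
   .define,
   .define,
   .define,
   .define,
   .define,
   .define,
   .define,
   .define,
   .define,
   .define,
   .define,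
   .define,
   .define,
   .define,
   .define,
   .define,
   .define,
   .define,
   .define,
   .define,
   .define,
   .loop (some (22, 28)) [.bwd 430, .bwd 715, .bwd 654, .fwd 590, .bwd 515, .bwd 514, .fwd 1714, .fwd 1715, .fwd 1716, .fwd 1717, .fwd 1718, .fwd 1719, .fwd 1720, .fwd 1721, .fwd 1722, .fwd 1723, .fwd 1724, .fwd 1725, .fwd 1726, .fwd 1727, .fwd 1728, .fwd 1729, .fwd 1730, .fwd 1731, .fwd 1732, .fwd 1733, .fwd 1734, .fwd 1735, .fwd 1736, .fwd 1737, .fwd 1738],
   .define,
   .define,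
   .define,
   .define,
   .define,
   .define,
   .loop (some (19, 5)) [.bwd 589, .fwd 1741, .fwd 1742, .fwd 1743, .fwd 1744, .fwd 1745],
   .define,
   .loop (some (7, 2)) [.bwd 586, .fwd 589, .fwd 1747],
   .define]

theorem just6_len : just6.length = 250 := by decide +kernel

theorem just6_ok : cert.okFacts 1500 just6 = true := by decide +kernel

/-- justifications -/
noncomputable def just7 : List Cert.Just :=
  [.define,
   .define,
   .define,
   .loop (some (21, 5)) [.fwd 1745, .fwd 1746, .bwd 589, .fwd 70, .fwd 1749, .fwd 1750, .fwd 1751, .fwd 1752],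
   .define,
   .loop (some (20, 2)) [.fwd 1686, .fwd 1687, .fwd 1688, .fwd 1689, .bwd 594, .bwd 586, .fwd 584, .fwd 1754],
   .define,
   .loop (some (5, 2)) [.bwd 584, .fwd 589, .fwd 1756],
   .loop (some (8, 1)) [.fwd 653, .fwd 69, .fwd 1741],
   .define,
   .loop (some (1, 2)) [.bwd 70, .fwd 584, .fwd 1759],
   .loop (some (14, 2)) [.bwd 1742, .bwd 1741, .bwd 624, .fwd 1741],
   .loop (some (13, 2)) [.bwd 70, .bwd 624, .fwd 70],
   .loop (some (4, 1)) [.bwd 1368, .bwd 404, .bwd 70, .fwd 586],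
   .loop none [.bwd 1763],
   .loop none [.bwd 594, .fwd 1764, .bwd 1330],
   .loop none [.fwd 1765],
   .loop none [.fwd 1368, .bwd 1764],
   .loop none [.fwd 1689, .fwd 1766, .bwd 1329],
   .loop none [.bwd 1768],
   .loop none [.bwd 1689, .bwd 1769],
   .loop none [.fwd 1688, .bwd 1769],
   .define,
   .define,
   .define,
   .define,
   .define,
   .define,
   .define,
   .define,
   .define,
   .define,
   .define,
   .define,
   .define,
   .define,
   .define,
   .define,
   .define,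
   .define,
   .define,
   .define,
   .define,
   .define,
   .define,
   .define,
   .define,
   .loop (some (22, 29)) [.fwd 754, .bwd 70, .fwd 585, .bwd 22, .fwd 486, .fwd 521, .fwd 1772, .fwd 1773, .fwd 1774, .fwd 1775, .fwd 1776, .fwd 1777, .fwd 1778, .fwd 1779, .fwd 1780, .fwd 1781, .fwd 1782, .fwd 1783, .fwd 1784, .fwd 1785, .fwd 1786, .fwd 1787, .fwd 1788, .fwd 1789, .fwd 1790, .fwd 1791, .fwd 1792, .fwd 1793, .fwd 1794, .fwd 1795, .fwd 1796],
   .loop (some (11, 2)) [.bwd 586, .bwd 624, .fwd 586],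
   .loop (some (15, 0)) [.fwd 830, .bwd 659, .fwd 68, .fwd 69],
   .define,
   .define,
   .define,
   .define,
   .define,
   .define,
   .loop (some (19, 5)) [.bwd 1749, .fwd 1801, .fwd 1802, .fwd 1803, .fwd 1804, .fwd 1805],
   .define,
   .define,
   .loop (some (16, 3)) [.fwd 578, .bwd 71, .bwd 1760, .fwd 1807, .fwd 1808],
   .define,
   .loop (some (7, 2)) [.bwd 404, .fwd 1749, .fwd 1810],
   .define,
   .define,
   .define,
   .loop (some (21, 5)) [.fwd 1805, .fwd 1806, .bwd 1749, .bwd 70, .fwd 589, .fwd 1812, .fwd 1813, .fwd 1814],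
   .define,
   .define,
   .define,
   .define,
   .define,
   .define,
   .loop (some (20, 7)) [.bwd 404, .bwd 1760, .fwd 1816, .fwd 1817, .fwd 1818, .fwd 1819, .fwd 1820, .fwd 1821],
   .loop (some (2, 2)) [.bwd 1606, .fwd 754, .fwd 71, .fwd 427],
   .loop none [.bwd 1823],
   .loop none [.fwd 1606, .bwd 1824],
   .loop none [.fwd 621, .fwd 1824, .fwd 1607],
   .loop none [.fwd 1826],
   .loop none [.bwd 1065, .fwd 1827, .fwd 1608],
   .loop none [.fwd 1828],
   .loop none [.bwd 963, .fwd 1829, .fwd 1609],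
   .loop none [.fwd 1830],
   .loop none [.fwd 843, .fwd 1831, .fwd 1610],
   .loop none [.fwd 1832],
   .loop none [.bwd 1611, .bwd 1833],
   .define,
   .loop (some (5, 2)) [.fwd 1760, .fwd 1749, .fwd 1835],
   .define,
   .loop (some (8, 2)) [.fwd 754, .fwd 1801, .fwd 1837],
   .loop (some (6, 1)) [.bwd 563, .bwd 71, .fwd 1749],
   .loop (some (14, 2)) [.bwd 1802, .bwd 1801, .bwd 1762, .fwd 1801],
   .loop (some (12, 2)) [.fwd 754, .bwd 1762, .bwd 754],
   .loop (some (11, 2)) [.bwd 404, .bwd 1762, .fwd 404],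
   .define,
   .define,
   .loop (some (15, 2)) [.fwd 1797, .fwd 754, .fwd 1843, .fwd 1844],
   .define,
   .define,
   .define,
   .define,
   .define,
   .loop (some (19, 5)) [.bwd 563, .fwd 1846, .fwd 1847, .fwd 1848, .fwd 1849, .fwd 1850],
   .loop (some (7, 1)) [.fwd 421, .bwd 72, .fwd 563],
   .define,
   .define,
   .define,
   .loop (some (21, 5)) [.fwd 1850, .fwd 1851, .bwd 563, .bwd 525, .bwd 505, .fwd 1853, .fwd 1854, .fwd 1855],
   .loop (some (20, 1)) [.bwd 663, .bwd 662, .bwd 927, .fwd 30, .fwd 31, .bwd 1043, .bwd 73, .bwd 72, .bwd 578],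
   .loop none [.bwd 1857],
   .loop none [.fwd 992, .bwd 1858],
   .loop none [.fwd 663, .bwd 1858],
   .loop none [.fwd 577, .fwd 1858, .fwd 664],
   .loop none [.fwd 1861],
   .loop none [.bwd 559, .fwd 1862, .fwd 665],
   .loop none [.fwd 1863],
   .loop none [.bwd 666, .bwd 1864],
   .define,
   .loop (some (5, 2)) [.fwd 578, .fwd 563, .fwd 1866],
   .define,
   .loop (some (8, 2)) [.bwd 427, .fwd 1846, .fwd 1868],
   .loop (some (14, 2)) [.bwd 1847, .bwd 1846, .bwd 593, .fwd 1846],
   .loop (some (12, 2)) [.bwd 427, .bwd 593, .fwd 427],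
   .define,
   .define,
   .define,
   .define,
   .define,
   .loop (some (19, 5)) [.fwd 421, .fwd 1872, .fwd 1873, .fwd 1874, .fwd 1875, .fwd 1876],
   .define,
   .define,
   .define,
   .loop (some (21, 5)) [.fwd 1876, .fwd 1877, .fwd 421, .fwd 422, .bwd 490, .fwd 1878, .fwd 1879, .fwd 1880],
   .define,
   .loop (some (20, 2)) [.fwd 1116, .fwd 1117, .bwd 1065, .fwd 621, .bwd 427, .fwd 72, .bwd 403, .fwd 1882],
   .define,
   .loop (some (5, 2)) [.fwd 403, .bwd 421, .fwd 1884],
   .loop (some (8, 1)) [.bwd 359, .bwd 73, .fwd 1872],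
   .loop (some (14, 2)) [.bwd 1873, .bwd 1872, .bwd 458, .fwd 1872],
   .define,
   .define,
   .define,
   .define,
   .define,
   .define,
   .define,
   .define,
   .define,
   .define,
   .define,
   .define,
   .define,
   .define,
   .define,
   .define,
   .define,
   .define,
   .define,
   .define,
   .define,
   .define,
   .define,
   .define,
   .define,
   .loop (some (22, 28)) [.bwd 242, .bwd 486, .bwd 422, .fwd 360, .bwd 314, .bwd 313, .fwd 1888, .fwd 1889, .fwd 1890, .fwd 1891, .fwd 1892, .fwd 1893, .fwd 1894, .fwd 1895, .fwd 1896, .fwd 1897, .fwd 1898, .fwd 1899, .fwd 1900, .fwd 1901, .fwd 1902, .fwd 1903, .fwd 1904, .fwd 1905, .fwd 1906, .fwd 1907, .fwd 1908, .fwd 1909, .fwd 1910, .fwd 1911, .fwd 1912],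
   .loop (some (15, 0)) [.bwd 993, .fwd 30, .fwd 31, .bwd 1043, .bwd 73],
   .loop none [.bwd 1914],
   .loop none [.fwd 993, .bwd 1915],
   .define,
   .define,
   .define,
   .define,
   .define,
   .loop (some (19, 5)) [.bwd 359, .fwd 1917, .fwd 1918, .fwd 1919, .fwd 1920, .fwd 1921],
   .loop (some (21, 5)) [.fwd 1921, .fwd 1922, .bwd 359, .fwd 74, .bwd 1175, .bwd 74, .fwd 359, .bwd 1922],
   .loop (some (20, 1)) [.fwd 1012, .bwd 1859, .fwd 1860, .bwd 662, .bwd 927, .fwd 30, .fwd 31, .bwd 1043, .fwd 354],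
   .loop none [.bwd 1924],
   .loop none [.fwd 1011, .bwd 1925],
   .loop none [.bwd 1012, .bwd 1925],
   .define,
   .loop (some (5, 2)) [.bwd 354, .fwd 359, .fwd 1928],
   .loop (some (8, 1)) [.fwd 421, .fwd 73, .fwd 1917],
   .define,
   .loop (some (1, 2)) [.bwd 74, .fwd 354, .fwd 1931],
   .loop (some (9, 2)) [.bwd 354, .bwd 391, .fwd 354],
   .define,
   .define,
   .loop (some (16, 3)) [.fwd 348, .bwd 75, .bwd 1932, .fwd 1934, .fwd 1935],
   .loop (some (21, 2)) [.bwd 1918, .bwd 1917, .fwd 74, .fwd 1175, .fwd 1175, .fwd 1175, .bwd 74, .fwd 359],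
   .define,
   .define,
   .loop (some (20, 3)) [.fwd 1203, .bwd 1270, .fwd 1269, .fwd 1055, .bwd 219, .bwd 1932, .fwd 1938, .fwd 1939],
   .loop (some (2, 2)) [.bwd 1772, .fwd 522, .fwd 75, .bwd 199],
   .loop none [.bwd 1941],
   .loop none [.fwd 1772, .bwd 1942],
   .loop none [.fwd 150, .fwd 1942, .fwd 1773],
   .loop none [.fwd 1944],
   .loop none [.fwd 149, .fwd 1945, .fwd 1774],
   .loop none [.fwd 1946],
   .loop none [.fwd 156, .fwd 1947, .fwd 1775],
   .loop none [.fwd 1948],
   .loop none [.fwd 127, .fwd 1949, .fwd 1776],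
   .loop none [.fwd 1950],
   .loop none [.bwd 1777, .bwd 1951],
   .loop (some (5, 2)) [.fwd 1932, .bwd 1175, .bwd 1932],
   .loop (some (8, 2)) [.fwd 522, .fwd 1175, .bwd 522],
   .loop (some (15, 0)) [.fwd 1147, .fwd 1148, .fwd 1149, .fwd 522],
   .loop (some (21, 2)) [.bwd 322, .bwd 321, .fwd 319, .fwd 1399, .fwd 1399, .fwd 1399, .bwd 319, .bwd 307],
   .loop (some (20, 1)) [.fwd 199, .bwd 144, .bwd 57, .fwd 5, .fwd 182, .bwd 5, .fwd 57, .fwd 144, .bwd 348],
   .loop none [.fwd 1957],
   .loop none [.bwd 348, .bwd 1958],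
   .loop none [.bwd 1943, .fwd 1958, .bwd 1936],
   .loop none [.fwd 1960],
   .loop none [.bwd 240, .fwd 1958, .bwd 347],
   .loop none [.fwd 1962],
   .loop none [.fwd 1935, .bwd 1961],
   .loop none [.bwd 339, .bwd 1963],
   .loop none [.bwd 241, .fwd 1963, .fwd 340],
   .loop none [.fwd 1966],
   .loop none [.fwd 454, .fwd 1963, .bwd 310],
   .loop none [.bwd 1968],
   .loop none [.fwd 349, .fwd 1963, .fwd 311],
   .loop none [.fwd 1970],
   .loop none [.fwd 488, .fwd 1963, .bwd 344],
   .loop none [.bwd 1972],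
   .loop none [.bwd 329, .bwd 1967],
   .loop none [.fwd 453, .bwd 1969],
   .loop none [.bwd 454, .bwd 1969],
   .loop none [.fwd 309, .fwd 1969, .bwd 495],
   .loop none [.fwd 1977],
   .loop none [.fwd 426, .fwd 1971, .fwd 312],
   .loop none [.bwd 1979],
   .loop none [.bwd 497, .fwd 1971, .bwd 390],
   .loop none [.bwd 1981],
   .loop none [.fwd 487, .bwd 1973],
   .loop none [.bwd 488, .bwd 1973],
   .loop none [.bwd 318, .fwd 1978, .fwd 1219],
   .loop none [.fwd 1985],
   .loop none [.fwd 472, .bwd 1980],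
   .loop none [.bwd 426, .bwd 1980],
   .loop none [.bwd 313, .fwd 1980, .bwd 485],
   .loop none [.fwd 1989],
   .loop none [.bwd 1888, .fwd 1980, .bwd 425],
   .loop none [.bwd 1991],
   .loop none [.fwd 474, .bwd 1980],
   .loop none [.fwd 1980, .bwd 492, .bwd 1980],
   .loop none [.fwd 497, .bwd 1982],
   .loop none [.fwd 217, .fwd 1986, .fwd 1220],
   .loop none [.fwd 1996],
   .loop none [.bwd 314, .fwd 1990, .bwd 484],
   .loop none [.fwd 1998]]

theorem just7_len : just7.length = 250 := by decide +kernel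

theorem just7_ok : cert.okFacts 1750 just7 = true := by decide +kernel

/-- justifications -/
noncomputable def just8 : List Cert.Just :=
  [.loop none [.bwd 526, .bwd 1990],
   .loop none [.fwd 405, .fwd 1992, .fwd 1889],
   .loop none [.fwd 2001],
   .loop none [.bwd 2000, .fwd 1992, .bwd 1888],
   .loop none [.bwd 2003],
   .loop none [.bwd 1221, .bwd 1997],
   .loop none [.fwd 19, .fwd 1999, .bwd 483],
   .loop none [.fwd 2006],
   .loop none [.fwd 404, .fwd 2002, .fwd 1890],
   .loop none [.fwd 2008],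
   .loop none [.bwd 1987, .fwd 2004, .fwd 527],
   .loop none [.fwd 2010],
   .loop none [.fwd 2000, .bwd 2004],
   .loop none [.fwd 18, .fwd 2007, .bwd 482],
   .loop none [.fwd 2013],
   .loop none [.fwd 754, .fwd 2009, .fwd 1891],
   .loop none [.fwd 2015],
   .loop none [.fwd 586, .fwd 2011, .fwd 528],
   .loop none [.fwd 2017],
   .loop none [.fwd 236, .fwd 2014, .bwd 481],
   .loop none [.fwd 2019],
   .loop none [.fwd 753, .fwd 2016, .fwd 1892],
   .loop none [.fwd 2021],
   .loop none [.fwd 69, .fwd 2018, .fwd 529],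
   .loop none [.fwd 2023],
   .loop none [.bwd 18, .fwd 2020, .bwd 480],
   .loop none [.fwd 2025],
   .loop none [.fwd 429, .fwd 2022, .fwd 1893],
   .loop none [.fwd 2027],
   .loop none [.bwd 654, .fwd 2024, .fwd 530],
   .loop none [.fwd 2029],
   .loop none [.bwd 19, .fwd 2026, .bwd 479],
   .loop none [.fwd 2031],
   .loop none [.fwd 686, .fwd 2028, .fwd 1894],
   .loop none [.fwd 2033],
   .loop none [.fwd 25, .fwd 2030, .fwd 531],
   .loop none [.fwd 2035],
   .loop none [.bwd 399, .fwd 2032, .fwd 419],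
   .loop none [.bwd 2037],
   .loop none [.fwd 726, .fwd 2034, .fwd 1895],
   .loop none [.fwd 2039],
   .loop none [.fwd 658, .fwd 2036, .fwd 532],
   .loop none [.bwd 2041],
   .loop none [.fwd 399, .bwd 2038],
   .loop none [.bwd 21, .fwd 2038, .fwd 400],
   .loop none [.fwd 2044],
   .loop none [.bwd 349, .fwd 2038, .fwd 413],
   .loop none [.fwd 2046],
   .loop none [.bwd 408, .fwd 2038, .bwd 416],
   .loop none [.fwd 2048],
   .loop none [.bwd 1896, .bwd 2040],
   .loop none [.fwd 701, .bwd 2042],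
   .loop none [.bwd 658, .bwd 2042],
   .loop none [.bwd 533, .fwd 2042, .bwd 714],
   .loop none [.fwd 2053],
   .loop none [.fwd 657, .bwd 2042],
   .loop none [.fwd 703, .bwd 2042],
   .loop none [.fwd 469, .fwd 2045, .fwd 401],
   .loop none [.bwd 2057],
   .loop none [.fwd 1976, .fwd 2047, .fwd 414],
   .loop none [.bwd 2059],
   .loop none [.fwd 415, .bwd 2049],
   .loop none [.fwd 713, .bwd 2054],
   .loop none [.bwd 469, .bwd 2058],
   .loop none [.fwd 646, .bwd 2058],
   .loop none [.bwd 510, .bwd 2058],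
   .loop none [.bwd 520, .bwd 2058],
   .loop none [.fwd 517, .bwd 2058],
   .loop none [.fwd 2058, .bwd 550, .bwd 2058],
   .loop none [.fwd 277, .fwd 2060, .fwd 1975],
   .loop none [.fwd 2069],
   .loop none [.bwd 1976, .bwd 2060],
   .loop none [.fwd 309, .bwd 2060],
   .loop none [.fwd 452, .bwd 2070],
   .loop (some (5, 2)) [.fwd 1959, .bwd 1399, .bwd 1959],
   .define,
   .define,
   .define,
   .loop (some (20, 4)) [.bwd 1314, .fwd 118, .fwd 1258, .fwd 85, .fwd 134, .fwd 2075, .fwd 2076, .fwd 2077],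
   .loop (some (1, 1)) [.bwd 134, .fwd 1255, .fwd 134],
   .loop (some (18, 3)) [.fwd 1283, .fwd 1258, .fwd 1255, .bwd 1258, .bwd 1283, .fwd 1282],
   .loop none [.fwd 2080],
   .loop none [.bwd 98, .fwd 2081, .bwd 544],
   .loop none [.fwd 2082],
   .loop none [.fwd 1282, .bwd 2081],
   .loop none [.fwd 543, .bwd 2083],
   .define,
   .define,
   .define,
   .define,
   .loop (some (19, 5)) [.fwd 291, .bwd 1274, .bwd 1273, .fwd 2087, .fwd 2088, .fwd 2089],
   .loop (some (17, 3)) [.fwd 1095, .fwd 1351, .bwd 1248, .fwd 97, .fwd 98, .fwd 2085],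
   .loop none [.bwd 2091],
   .loop none [.fwd 2085, .fwd 2092, .bwd 1094],
   .loop none [.fwd 2093],
   .loop none [.bwd 1095, .bwd 2092],
   .loop none [.bwd 1409, .bwd 2092],
   .loop none [.fwd 1093, .bwd 2094],
   .loop (some (7, 1)) [.bwd 1344, .bwd 1248, .bwd 291],
   .loop (some (21, 5)) [.fwd 2089, .fwd 2090, .fwd 291, .bwd 96, .bwd 229, .fwd 96, .bwd 291, .bwd 2090],
   .loop (some (8, 1)) [.fwd 291, .fwd 1249, .bwd 1274],
   .define,
   .loop (some (6, 2)) [.bwd 97, .bwd 291, .fwd 2101],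
   .loop (some (14, 2)) [.fwd 1273, .fwd 1274, .bwd 297, .bwd 1274],
   .loop (some (15, 0)) [.fwd 1300, .fwd 1296, .bwd 1248, .fwd 1249],
   .loop (some (10, 2)) [.bwd 97, .bwd 297, .fwd 97],
   .define,
   .define,
   .define,
   .define,
   .define,
   .define,
   .loop (some (19, 5)) [.fwd 2102, .fwd 2107, .fwd 2108, .fwd 2109, .fwd 2110, .fwd 2111],
   .define,
   .loop (some (7, 2)) [.bwd 98, .bwd 2102, .fwd 2113],
   .loop (some (21, 5)) [.fwd 2111, .fwd 2112, .fwd 2102, .fwd 1283, .bwd 1275, .bwd 1283, .bwd 2102, .bwd 2112],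
   .define,
   .define,
   .define,
   .define,
   .define,
   .loop (some (20, 6)) [.bwd 99, .bwd 98, .fwd 276, .fwd 2116, .fwd 2117, .fwd 2118, .fwd 2119, .fwd 2120],
   .define,
   .loop (some (5, 2)) [.bwd 276, .bwd 2102, .fwd 2122],
   .loop (some (8, 1)) [.fwd 2102, .fwd 2084, .fwd 2107],
   .loop (some (1, 2)) [.bwd 1256, .bwd 1283, .fwd 276, .fwd 2073],
   .loop none [.fwd 2125],
   .loop none [.fwd 451, .bwd 2126],
   .loop none [.fwd 2073, .bwd 2126],
   .loop (some (14, 2)) [.bwd 2108, .bwd 2107, .bwd 2105, .fwd 2107],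
   .loop (some (4, 2)) [.fwd 118, .bwd 1283, .fwd 98, .fwd 2097],
   .loop none [.fwd 2130],
   .loop none [.bwd 1314, .fwd 2131, .bwd 1092],
   .loop none [.bwd 2132],
   .loop none [.bwd 1271, .fwd 2131, .bwd 2097],
   .loop none [.bwd 2134],
   .loop none [.fwd 1091, .fwd 2133, .bwd 2078],
   .loop none [.fwd 2136],
   .loop none [.fwd 1314, .bwd 2133],
   .loop none [.bwd 1315, .bwd 2133],
   .loop none [.bwd 99, .fwd 2135, .bwd 259],
   .loop none [.fwd 2140],
   .loop none [.fwd 1271, .bwd 2135],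
   .loop none [.fwd 2077, .bwd 2137],
   .loop none [.fwd 2121, .fwd 2141, .bwd 258],
   .loop none [.bwd 2144],
   .loop none [.bwd 2121, .bwd 2145],
   .loop none [.fwd 2120, .bwd 2145],
   .loop (some (11, 2)) [.bwd 98, .bwd 2105, .fwd 98],
   .define,
   .define,
   .define,
   .define,
   .define,
   .define,
   .loop (some (19, 5)) [.fwd 2114, .fwd 2150, .fwd 2151, .fwd 2152, .fwd 2153, .fwd 2154],
   .define,
   .define,
   .define,
   .define,
   .loop (some (16, 4)) [.bwd 2085, .fwd 2156, .fwd 2157, .fwd 2158, .fwd 2159],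
   .define,
   .define,
   .define,
   .define,
   .loop (some (21, 5)) [.fwd 2154, .fwd 2155, .fwd 2114, .fwd 2142, .fwd 2161, .fwd 2162, .fwd 2163, .fwd 2164],
   .loop (some (20, 1)) [.fwd 2118, .fwd 2119, .bwd 2147, .fwd 2146, .bwd 99, .bwd 98, .fwd 2084, .fwd 98, .fwd 2156],
   .loop none [.fwd 2166],
   .loop none [.fwd 2156, .bwd 2167],
   .loop none [.bwd 2157, .bwd 2167],
   .loop (some (2, 2)) [.bwd 99, .fwd 2085, .fwd 2096],
   .define,
   .loop (some (5, 2)) [.fwd 2168, .bwd 2114, .fwd 2171],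
   .define,
   .loop (some (8, 2)) [.bwd 99, .fwd 2150, .fwd 2173],
   .define,
   .loop (some (1, 2)) [.bwd 2142, .bwd 2168, .fwd 2175],
   .loop (some (18, 2)) [.bwd 2139, .fwd 2138, .bwd 2142, .fwd 99, .fwd 100],
   .define,
   .loop (some (6, 2)) [.bwd 2085, .bwd 2114, .fwd 2178],
   .loop (some (3, 2)) [.fwd 117, .bwd 2142, .fwd 2085, .bwd 542],
   .loop none [.fwd 2180],
   .loop none [.bwd 1270, .fwd 2181, .bwd 541],
   .loop none [.bwd 2182],
   .loop none [.fwd 116, .fwd 2181, .fwd 542],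
   .loop none [.fwd 2184],
   .loop none [.fwd 540, .fwd 2183, .bwd 1203],
   .loop none [.fwd 2186],
   .loop none [.fwd 1270, .bwd 2183],
   .loop none [.bwd 1370, .bwd 2183],
   .loop none [.fwd 2160, .bwd 2185],
   .loop none [.bwd 2095, .bwd 2185],
   .loop none [.fwd 115, .fwd 2185, .fwd 2096],
   .loop none [.fwd 2192],
   .loop none [.fwd 2179, .bwd 2185],
   .loop none [.fwd 1940, .bwd 2187],
   .loop none [.fwd 1202, .bwd 2187],
   .loop none [.bwd 2170, .bwd 2193],
   .loop none [.fwd 114, .fwd 2193, .bwd 1536],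
   .loop none [.fwd 2198],
   .loop none [.bwd 1410, .bwd 2193],
   .loop none [.fwd 1550, .bwd 2199],
   .loop none [.fwd 1535, .bwd 2199],
   .loop (some (14, 2)) [.bwd 2151, .bwd 2150, .bwd 2148, .fwd 2150],
   .loop (some (12, 2)) [.bwd 99, .bwd 2148, .fwd 99],
   .loop (some (15, 0)) [.fwd 2119, .bwd 2147, .fwd 2146, .bwd 99],
   .define,
   .define,
   .define,
   .define,
   .define,
   .define,
   .loop (some (19, 5)) [.fwd 2174, .fwd 2207, .fwd 2208, .fwd 2209, .fwd 2210, .fwd 2211],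
   .define,
   .define,
   .define,
   .define,
   .loop (some (16, 4)) [.fwd 2197, .fwd 2213, .fwd 2214, .fwd 2215, .fwd 2216],
   .loop (some (17, 3)) [.fwd 257, .fwd 2146, .bwd 2197, .bwd 114, .bwd 113],
   .define,
   .loop (some (7, 2)) [.fwd 2146, .bwd 2174, .fwd 2219],
   .define,
   .define,
   .define,
   .define,
   .loop (some (21, 5)) [.fwd 2211, .fwd 2212, .fwd 2174, .fwd 100, .fwd 2221, .fwd 2222, .fwd 2223, .fwd 2224],
   .define,
   .loop (some (20, 2)) [.fwd 2116, .fwd 2117, .fwd 2118, .fwd 2119, .bwd 2147, .fwd 2146, .fwd 2213, .fwd 2226],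
   .define,
   .loop (some (5, 2)) [.bwd 2213, .bwd 2174, .fwd 2228],
   .loop (some (8, 1)) [.fwd 2114, .fwd 99, .fwd 2207],
   .define,
   .loop (some (1, 2)) [.bwd 100, .fwd 2213, .fwd 2231],
   .define,
   .loop (some (6, 2)) [.fwd 2197, .bwd 2174, .fwd 2233],
   .loop (some (3, 3)) [.bwd 100, .bwd 2197, .fwd 2200, .fwd 1411],
   .loop none [.fwd 2235],
   .loop none [.bwd 101, .fwd 2236, .bwd 1411],
   .loop none [.fwd 2237],
   .loop none [.bwd 1412, .bwd 2236],
   .loop none [.fwd 2200, .bwd 2238],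
   .loop (some (14, 2)) [.bwd 2208, .bwd 2207, .bwd 2204, .fwd 2207],
   .loop (some (13, 2)) [.bwd 100, .bwd 2204, .fwd 100],
   .loop (some (4, 1)) [.bwd 2239, .bwd 100, .bwd 2146],
   .define,
   .define,
   .define,
   .define,
   .define,
   .define]

theorem just8_len : just8.length = 250 := by decide +kernel

theorem just8_ok : cert.okFacts 2000 just8 = true := by decide +kernel

/-- justifications -/
noncomputable def just9 : List Cert.Just :=
  [.define,
   .define,
   .define,
   .define,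
   .define,
   .define,
   .define,
   .define,
   .define,
   .define,
   .define,
   .define,
   .define,
   .define,
   .define,
   .define,
   .define,
   .define,
   .define,
   .define,
   .loop (some (22, 29)) [.bwd 2177, .bwd 100, .bwd 2197, .bwd 114, .fwd 2201, .fwd 2244, .fwd 2245, .fwd 2246, .fwd 2247, .fwd 2248, .fwd 2249, .fwd 2250, .fwd 2251, .fwd 2252, .fwd 2253, .fwd 2254, .fwd 2255, .fwd 2256, .fwd 2257, .fwd 2258, .fwd 2259, .fwd 2260, .fwd 2261, .fwd 2262, .fwd 2263, .fwd 2264, .fwd 2265, .fwd 2266, .fwd 2267, .fwd 2268, .fwd 2269],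
   .loop (some (11, 2)) [.fwd 2146, .bwd 2204, .bwd 2146],
   .loop (some (15, 0)) [.bwd 2206, .bwd 98, .fwd 2084, .fwd 98, .fwd 99],
   .loop none [.bwd 2272],
   .loop none [.fwd 2206, .bwd 2273],
   .loop (some (10, 2)) [.fwd 2197, .bwd 2204, .bwd 2197],
   .define,
   .define,
   .define,
   .define,
   .define,
   .loop (some (19, 5)) [.bwd 2221, .fwd 2276, .fwd 2277, .fwd 2278, .fwd 2279, .fwd 2280],
   .define,
   .define,
   .define,
   .loop (some (16, 4)) [.bwd 101, .bwd 2232, .fwd 2282, .fwd 2283, .fwd 2284],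
   .define,
   .define,
   .loop (some (17, 4)) [.bwd 2239, .fwd 101, .fwd 102, .fwd 2286, .fwd 2287],
   .define,
   .loop (some (7, 2)) [.bwd 2239, .fwd 2221, .fwd 2289],
   .define,
   .define,
   .define,
   .loop (some (21, 5)) [.fwd 2280, .fwd 2281, .bwd 2221, .bwd 100, .bwd 2174, .fwd 2291, .fwd 2292, .fwd 2293],
   .define,
   .define,
   .define,
   .define,
   .define,
   .loop (some (20, 6)) [.bwd 1413, .bwd 2239, .bwd 2232, .fwd 2295, .fwd 2296, .fwd 2297, .fwd 2298, .fwd 2299],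
   .loop (some (2, 1)) [.bwd 1316, .bwd 2177, .fwd 101],
   .define,
   .loop (some (5, 2)) [.fwd 2232, .fwd 2221, .fwd 2302],
   .define,
   .loop (some (8, 2)) [.bwd 2177, .fwd 2276, .fwd 2304],
   .define,
   .loop (some (6, 2)) [.bwd 101, .fwd 2221, .fwd 2306],
   .loop (some (14, 2)) [.bwd 2277, .bwd 2276, .bwd 2242, .fwd 2276],
   .define,
   .define,
   .loop (some (15, 2)) [.fwd 2270, .bwd 2177, .fwd 2309, .fwd 2310],
   .loop (some (9, 2)) [.fwd 2232, .bwd 2242, .bwd 2232],
   .loop (some (10, 2)) [.bwd 101, .bwd 2242, .fwd 101],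
   .define,
   .define,
   .define,
   .define,
   .define,
   .define,
   .loop (some (19, 5)) [.fwd 2307, .fwd 2315, .fwd 2316, .fwd 2317, .fwd 2318, .fwd 2319],
   .define,
   .loop (some (7, 2)) [.bwd 102, .bwd 2307, .fwd 2321],
   .define,
   .define,
   .define,
   .loop (some (21, 5)) [.fwd 2319, .fwd 2320, .fwd 2307, .fwd 2240, .bwd 2234, .fwd 2323, .fwd 2324, .fwd 2325],
   .define,
   .define,
   .define,
   .define,
   .define,
   .loop (some (20, 6)) [.bwd 103, .bwd 102, .bwd 2285, .fwd 2327, .fwd 2328, .fwd 2329, .fwd 2330, .fwd 2331],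
   .define,
   .loop (some (5, 2)) [.fwd 2285, .bwd 2307, .fwd 2333],
   .define,
   .loop (some (8, 2)) [.bwd 2301, .fwd 2315, .fwd 2335],
   .loop (some (1, 1)) [.fwd 2217, .bwd 2240, .bwd 2285],
   .loop (some (18, 1)) [.bwd 2189, .fwd 2188, .bwd 116, .bwd 115, .bwd 2240, .fwd 2301],
   .loop none [.bwd 2338],
   .loop none [.fwd 1316, .fwd 2339, .fwd 1371],
   .loop none [.fwd 2340],
   .loop none [.fwd 2189, .bwd 2339],
   .loop none [.fwd 2270, .fwd 2341, .fwd 1372],
   .loop none [.bwd 2343],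
   .loop none [.fwd 2269, .bwd 2344],
   .loop none [.bwd 2270, .bwd 2344],
   .loop none [.bwd 1373, .fwd 2344, .bwd 2311],
   .loop none [.fwd 2347],
   .loop none [.fwd 2310, .bwd 2348],
   .loop (some (14, 2)) [.bwd 2316, .bwd 2315, .bwd 2313, .fwd 2315],
   .loop (some (4, 1)) [.fwd 114, .bwd 2240, .fwd 102],
   .loop (some (11, 2)) [.bwd 102, .bwd 2313, .fwd 102],
   .define,
   .loop (some (15, 1)) [.bwd 1318, .bwd 1317, .bwd 2301, .fwd 2353],
   .define,
   .define,
   .define,
   .define,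
   .define,
   .loop (some (19, 5)) [.fwd 2322, .fwd 2355, .fwd 2356, .fwd 2357, .fwd 2358, .fwd 2359],
   .define,
   .define,
   .define,
   .define,
   .loop (some (16, 4)) [.bwd 2286, .fwd 2361, .fwd 2362, .fwd 2363, .fwd 2364],
   .define,
   .define,
   .define,
   .define,
   .loop (some (21, 5)) [.fwd 2359, .fwd 2360, .fwd 2322, .fwd 2351, .fwd 2366, .fwd 2367, .fwd 2368, .fwd 2369],
   .define,
   .define,
   .loop (some (20, 3)) [.fwd 2354, .bwd 1318, .bwd 1317, .bwd 2301, .fwd 102, .fwd 2361, .fwd 2371, .fwd 2372],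
   .define,
   .loop (some (2, 2)) [.bwd 103, .fwd 2286, .fwd 2374],
   .define,
   .loop (some (5, 2)) [.bwd 2361, .bwd 2322, .fwd 2376],
   .define,
   .loop (some (8, 2)) [.bwd 103, .fwd 2355, .fwd 2378],
   .define,
   .loop (some (1, 2)) [.bwd 2351, .fwd 2361, .fwd 2380],
   .loop (some (18, 2)) [.bwd 2244, .bwd 2201, .bwd 2351, .fwd 103, .fwd 104],
   .define,
   .loop (some (6, 2)) [.bwd 2286, .bwd 2322, .fwd 2383],
   .loop (some (3, 1)) [.fwd 112, .fwd 113, .bwd 2351, .fwd 2286],
   .loop none [.fwd 2385],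
   .loop none [.fwd 2365, .bwd 2386],
   .loop none [.fwd 2286, .bwd 2386],
   .loop none [.bwd 2287, .bwd 2386],
   .loop none [.fwd 111, .fwd 2386, .fwd 2374],
   .loop none [.fwd 2390],
   .loop none [.fwd 2384, .bwd 2386],
   .loop none [.bwd 2375, .bwd 2391],
   .loop (some (14, 2)) [.bwd 2356, .bwd 2355, .bwd 2352, .fwd 2355],
   .loop (some (12, 2)) [.bwd 103, .bwd 2352, .fwd 103],
   .loop (some (13, 2)) [.bwd 2351, .bwd 2352, .fwd 2351],
   .define,
   .define,
   .define,
   .define,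
   .define,
   .define,
   .define,
   .define,
   .define,
   .define,
   .define,
   .define,
   .define,
   .define,
   .define,
   .define,
   .define,
   .define,
   .define,
   .define,
   .define,
   .define,
   .define,
   .define,
   .define,
   .define,
   .loop (some (22, 28)) [.fwd 1549, .bwd 2201, .bwd 2351, .bwd 2388, .fwd 2389, .fwd 2397, .fwd 2398, .fwd 2399, .fwd 2400, .fwd 2401, .fwd 2402, .fwd 2403, .fwd 2404, .fwd 2405, .fwd 2406, .fwd 2407, .fwd 2408, .fwd 2409, .fwd 2410, .fwd 2411, .fwd 2412, .fwd 2413, .fwd 2414, .fwd 2415, .fwd 2416, .fwd 2417, .fwd 2418, .fwd 2419, .fwd 2420, .fwd 2421, .fwd 2422],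
   .loop (some (15, 0)) [.fwd 2330, .fwd 2331, .fwd 2332, .bwd 103],
   .loop (some (10, 2)) [.fwd 2388, .bwd 2352, .bwd 2388],
   .define,
   .define,
   .define,
   .define,
   .define,
   .define,
   .loop (some (19, 5)) [.fwd 2379, .fwd 2427, .fwd 2428, .fwd 2429, .fwd 2430, .fwd 2431],
   .define,
   .define,
   .define,
   .define,
   .loop (some (16, 4)) [.fwd 2393, .fwd 2433, .fwd 2434, .fwd 2435, .fwd 2436],
   .define,
   .loop (some (17, 4)) [.fwd 2332, .bwd 2393, .bwd 110, .bwd 109, .fwd 2438],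
   .define,
   .loop (some (7, 2)) [.fwd 2332, .bwd 2379, .fwd 2440],
   .define,
   .define,
   .define,
   .define,
   .loop (some (21, 5)) [.fwd 2431, .fwd 2432, .fwd 2379, .fwd 104, .fwd 2442, .fwd 2443, .fwd 2444, .fwd 2445],
   .define,
   .loop (some (20, 2)) [.fwd 2327, .fwd 2328, .fwd 2329, .fwd 2330, .fwd 2331, .fwd 2332, .fwd 2433, .fwd 2447],
   .define,
   .loop (some (5, 2)) [.bwd 2433, .bwd 2379, .fwd 2449],
   .loop (some (8, 1)) [.fwd 2322, .fwd 103, .fwd 2427],
   .define,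
   .loop (some (1, 2)) [.bwd 104, .fwd 2433, .fwd 2452],
   .define,
   .loop (some (6, 2)) [.fwd 2393, .bwd 2379, .fwd 2454],
   .loop (some (3, 1)) [.bwd 105, .bwd 104, .bwd 2393],
   .loop (some (14, 2)) [.bwd 2428, .bwd 2427, .bwd 2395, .fwd 2427],
   .loop (some (13, 2)) [.bwd 104, .bwd 2395, .fwd 104],
   .define,
   .loop (some (4, 2)) [.bwd 104, .bwd 2332, .fwd 2459],
   .define,
   .define,
   .define,
   .define,
   .define,
   .define,
   .define,
   .define,
   .define,
   .define,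
   .define,
   .define,
   .define,
   .define,
   .define,
   .define,
   .define,
   .define,
   .define,
   .define,
   .define,
   .define,
   .define,
   .define,
   .define,
   .define,
   .define,
   .loop (some (22, 29)) [.bwd 2382, .bwd 104, .bwd 2393, .bwd 110, .fwd 2461, .fwd 2462, .fwd 2463, .fwd 2464, .fwd 2465, .fwd 2466, .fwd 2467, .fwd 2468, .fwd 2469, .fwd 2470, .fwd 2471, .fwd 2472, .fwd 2473, .fwd 2474, .fwd 2475, .fwd 2476, .fwd 2477, .fwd 2478, .fwd 2479, .fwd 2480, .fwd 2481, .fwd 2482, .fwd 2483, .fwd 2484, .fwd 2485, .fwd 2486, .fwd 2487],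
   .loop (some (11, 2)) [.fwd 2332, .bwd 2395, .bwd 2332],
   .loop (some (15, 0)) [.bwd 1317, .bwd 2301, .fwd 102, .fwd 103],
   .define,
   .define,
   .define,
   .define,
   .define,
   .loop (some (19, 5)) [.bwd 2442, .fwd 2491, .fwd 2492, .fwd 2493, .fwd 2494, .fwd 2495],
   .define,
   .define,
   .define]

theorem just9_len : just9.length = 250 := by decide +kernel

theorem just9_ok : cert.okFacts 2250 just9 = true := by decide +kernel

/-- justifications -/
noncomputable def just10 : List Cert.Just :=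
  [.loop (some (16, 4)) [.bwd 105, .bwd 2453, .fwd 2497, .fwd 2498, .fwd 2499],
   .define,
   .define,
   .loop (some (17, 4)) [.fwd 2460, .fwd 105, .fwd 106, .fwd 2501, .fwd 2502],
   .define,
   .loop (some (7, 2)) [.fwd 2460, .fwd 2442, .fwd 2504],
   .define,
   .define,
   .define,
   .loop (some (21, 5)) [.fwd 2495, .fwd 2496, .bwd 2442, .bwd 104, .bwd 2379, .fwd 2506, .fwd 2507, .fwd 2508],
   .define,
   .define,
   .define,
   .define,
   .define,
   .define,
   .loop (some (20, 7)) [.fwd 2460, .bwd 2453, .fwd 2510, .fwd 2511, .fwd 2512, .fwd 2513, .fwd 2514, .fwd 2515],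
   .loop (some (2, 1)) [.bwd 2245, .bwd 2382, .fwd 105],
   .define,
   .loop (some (5, 2)) [.fwd 2453, .fwd 2442, .fwd 2518],
   .define,
   .loop (some (8, 2)) [.bwd 2382, .fwd 2491, .fwd 2520],
   .define,
   .loop (some (6, 2)) [.bwd 105, .fwd 2442, .fwd 2522],
   .loop (some (14, 2)) [.bwd 2492, .bwd 2491, .bwd 2458, .fwd 2491],
   .loop (some (12, 2)) [.bwd 2382, .bwd 2458, .fwd 2382],
   .define,
   .define,
   .loop (some (15, 2)) [.fwd 2488, .bwd 2382, .fwd 2526, .fwd 2527],
   .loop (some (10, 2)) [.bwd 105, .bwd 2458, .fwd 105],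
   .define,
   .define,
   .define,
   .define,
   .define,
   .loop (some (19, 5)) [.fwd 2523, .fwd 2530, .fwd 2531, .fwd 2532, .fwd 2533, .fwd 2534],
   .define,
   .loop (some (7, 2)) [.bwd 106, .bwd 2523, .fwd 2536],
   .define,
   .define,
   .define,
   .loop (some (21, 5)) [.fwd 2534, .fwd 2535, .fwd 2523, .bwd 2456, .bwd 2455, .fwd 2538, .fwd 2539, .fwd 2540],
   .define,
   .define,
   .define,
   .define,
   .define,
   .loop (some (20, 6)) [.bwd 107, .bwd 106, .bwd 2500, .fwd 2542, .fwd 2543, .fwd 2544, .fwd 2545, .fwd 2546],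
   .define,
   .loop (some (5, 2)) [.fwd 2500, .bwd 2523, .fwd 2548],
   .define,
   .loop (some (8, 2)) [.bwd 2517, .fwd 2530, .fwd 2550],
   .loop (some (1, 1)) [.fwd 2437, .fwd 2456, .bwd 2500],
   .define,
   .loop (some (18, 2)) [.bwd 112, .bwd 111, .fwd 2456, .fwd 2517, .fwd 2553],
   .loop (some (14, 2)) [.bwd 2531, .bwd 2530, .bwd 2529, .fwd 2530],
   .loop (some (12, 2)) [.bwd 2517, .bwd 2529, .fwd 2517],
   .loop (some (4, 1)) [.fwd 110, .fwd 2456, .fwd 106],
   .define,
   .define,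
   .define,
   .define,
   .define,
   .define,
   .define,
   .define,
   .define,
   .define,
   .define,
   .define,
   .define,
   .define,
   .define,
   .define,
   .define,
   .define,
   .define,
   .define,
   .define,
   .loop (some (22, 24)) [.fwd 2119, .bwd 2147, .fwd 2243, .bwd 2288, .bwd 2389, .bwd 111, .fwd 2456, .bwd 105, .bwd 2460, .bwd 2516, .fwd 2558, .fwd 2559, .fwd 2560, .fwd 2561, .fwd 2562, .fwd 2563, .fwd 2564, .fwd 2565, .fwd 2566, .fwd 2567, .fwd 2568, .fwd 2569, .fwd 2570, .fwd 2571, .fwd 2572, .fwd 2573, .fwd 2574, .fwd 2575, .fwd 2576, .fwd 2577, .fwd 2578],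
   .loop (some (11, 2)) [.bwd 106, .bwd 2529, .fwd 106],
   .define,
   .loop (some (15, 1)) [.bwd 2247, .bwd 2246, .bwd 2517, .fwd 2581],
   .loop (some (9, 2)) [.fwd 2500, .bwd 2529, .bwd 2500],
   .define,
   .define,
   .define,
   .define,
   .define,
   .define,
   .loop (some (19, 5)) [.fwd 2537, .fwd 2585, .fwd 2586, .fwd 2587, .fwd 2588, .fwd 2589],
   .define,
   .define,
   .define,
   .define,
   .loop (some (16, 4)) [.bwd 2501, .fwd 2591, .fwd 2592, .fwd 2593, .fwd 2594],
   .define,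
   .define,
   .define,
   .define,
   .loop (some (21, 5)) [.fwd 2589, .fwd 2590, .fwd 2537, .fwd 2557, .fwd 2596, .fwd 2597, .fwd 2598, .fwd 2599],
   .define,
   .define,
   .loop (some (20, 3)) [.fwd 2582, .bwd 2247, .bwd 2246, .bwd 2517, .fwd 106, .fwd 2591, .fwd 2601, .fwd 2602],
   .define,
   .loop (some (2, 2)) [.bwd 107, .fwd 2501, .fwd 2604],
   .define,
   .loop (some (5, 2)) [.bwd 2591, .bwd 2537, .fwd 2606],
   .define,
   .loop (some (8, 2)) [.bwd 107, .fwd 2585, .fwd 2608],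
   .define,
   .loop (some (1, 2)) [.bwd 2557, .fwd 2591, .fwd 2610],
   .loop (some (18, 2)) [.bwd 2462, .bwd 2461, .bwd 2557, .fwd 107, .fwd 108],
   .define,
   .loop (some (6, 2)) [.bwd 2501, .bwd 2537, .fwd 2613],
   .loop (some (3, 1)) [.fwd 108, .fwd 109, .bwd 2557, .fwd 2501],
   .loop none [.fwd 2615],
   .loop none [.fwd 2595, .bwd 2616],
   .loop none [.fwd 2605, .fwd 2616, .bwd 2501],
   .loop none [.bwd 2618],
   .loop none [.fwd 2547, .fwd 2616, .fwd 2502],
   .loop none [.bwd 2620],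
   .loop none [.fwd 2609, .fwd 2616, .bwd 2614],
   .loop none [.fwd 2622],
   .loop none [.bwd 2605, .bwd 2619],
   .loop none [.bwd 2547, .bwd 2621],
   .loop none [.fwd 2546, .bwd 2621],
   .loop none [.fwd 2613, .bwd 2623],
   .loop (some (14, 2)) [.bwd 2586, .bwd 2585, .bwd 2580, .fwd 2585],
   .loop (some (12, 2)) [.bwd 107, .bwd 2580, .fwd 107],
   .define,
   .define,
   .define,
   .define,
   .define,
   .define,
   .define,
   .define,
   .define,
   .define,
   .define,
   .define,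
   .define,
   .define,
   .define,
   .define,
   .define,
   .define,
   .define,
   .define,
   .define,
   .define,
   .define,
   .define,
   .define,
   .define,
   .loop (some (22, 29)) [.bwd 2461, .bwd 2557, .fwd 2624, .bwd 2625, .fwd 2626, .fwd 2630, .fwd 2631, .fwd 2632, .fwd 2633, .fwd 2634, .fwd 2635, .fwd 2636, .fwd 2637, .fwd 2638, .fwd 2639, .fwd 2640, .fwd 2641, .fwd 2642, .fwd 2643, .fwd 2644, .fwd 2645, .fwd 2646, .fwd 2647, .fwd 2648, .fwd 2649, .fwd 2650, .fwd 2651, .fwd 2652, .fwd 2653, .fwd 2654, .fwd 2655],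
   .define,
   .define,
   .define,
   .define,
   .define,
   .loop (some (19, 5)) [.fwd 2609, .fwd 2657, .fwd 2658, .fwd 2659, .fwd 2660, .fwd 2661],
   .define,
   .loop (some (7, 2)) [.fwd 2625, .bwd 2609, .fwd 2663],
   .define,
   .define,
   .define,
   .define,
   .loop (some (21, 5)) [.fwd 2661, .fwd 2662, .fwd 2609, .fwd 108, .fwd 2665, .fwd 2666, .fwd 2667, .fwd 2668],
   .define,
   .loop (some (20, 2)) [.fwd 2542, .fwd 2543, .fwd 2544, .fwd 2545, .bwd 2626, .fwd 2625, .fwd 2617, .fwd 2670],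
   .define,
   .loop (some (5, 2)) [.bwd 2617, .bwd 2609, .fwd 2672],
   .loop (some (8, 1)) [.fwd 2537, .fwd 107, .fwd 2657],
   .define,
   .loop (some (1, 2)) [.bwd 108, .fwd 2617, .fwd 2675],
   .loop (some (13, 2)) [.bwd 108, .bwd 2629, .fwd 108],
   .loop (some (4, 1)) [.bwd 2438, .bwd 108, .bwd 2625],
   .define,
   .define,
   .define,
   .define,
   .define,
   .define,
   .define,
   .define,
   .define,
   .define,
   .define,
   .define,
   .define,
   .define,
   .define,
   .define,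
   .define,
   .define,
   .define,
   .define,
   .define,
   .define,
   .define,
   .define,
   .define,
   .loop (some (22, 29)) [.bwd 2612, .bwd 108, .bwd 2624, .bwd 106, .fwd 2517, .fwd 2553, .fwd 2679, .fwd 2680, .fwd 2681, .fwd 2682, .fwd 2683, .fwd 2684, .fwd 2685, .fwd 2686, .fwd 2687, .fwd 2688, .fwd 2689, .fwd 2690, .fwd 2691, .fwd 2692, .fwd 2693, .fwd 2694, .fwd 2695, .fwd 2696, .fwd 2697, .fwd 2698, .fwd 2699, .fwd 2700, .fwd 2701, .fwd 2702, .fwd 2703],
   .define,
   .define,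
   .define,
   .define,
   .define,
   .loop (some (19, 5)) [.bwd 2665, .fwd 2705, .fwd 2706, .fwd 2707, .fwd 2708, .fwd 2709],
   .define,
   .loop (some (7, 2)) [.bwd 2438, .fwd 2665, .fwd 2711],
   .define,
   .define,
   .define,
   .loop (some (21, 5)) [.fwd 2709, .fwd 2710, .bwd 2665, .bwd 108, .bwd 2609, .fwd 2713, .fwd 2714, .fwd 2715],
   .define,
   .define,
   .define,
   .define,
   .define,
   .define,
   .loop (some (20, 7)) [.bwd 2438, .bwd 2676, .fwd 2717, .fwd 2718, .fwd 2719, .fwd 2720, .fwd 2721, .fwd 2722],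
   .loop (some (2, 2)) [.bwd 2463, .bwd 2612, .fwd 109, .fwd 2461],
   .loop none [.bwd 2724],
   .loop none [.fwd 2463, .bwd 2725],
   .loop none [.fwd 2656, .fwd 2725, .fwd 2464],
   .loop none [.bwd 2727],
   .loop none [.fwd 2655, .bwd 2728],
   .loop none [.bwd 2656, .bwd 2728],
   .define,
   .loop (some (5, 2)) [.fwd 2676, .fwd 2665, .fwd 2731],
   .define,
   .loop (some (8, 2)) [.bwd 2612, .fwd 2705, .fwd 2733],
   .loop (some (6, 1)) [.bwd 2596, .bwd 109, .fwd 2665],
   .loop (some (14, 2)) [.bwd 2706, .bwd 2705, .bwd 2677, .fwd 2705],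
   .define,
   .define,
   .loop (some (15, 2)) [.fwd 2704, .bwd 2612, .fwd 2737, .fwd 2738],
   .define,
   .define,
   .define,
   .define,
   .define,
   .loop (some (19, 5)) [.bwd 2596, .fwd 2740, .fwd 2741, .fwd 2742, .fwd 2743, .fwd 2744],
   .loop (some (7, 1)) [.fwd 2455, .bwd 110, .fwd 2596],
   .define,
   .define,
   .define]

theorem just10_len : just10.length = 250 := by decide +kernel

theorem just10_ok : cert.okFacts 2500 just10 = true := by decide +kernel

/-- justifications -/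
noncomputable def just11 : List Cert.Just :=
  [.loop (some (21, 5)) [.fwd 2744, .fwd 2745, .bwd 2596, .bwd 2557, .bwd 2537, .fwd 2747, .fwd 2748, .fwd 2749],
   .define,
   .define,
   .define,
   .loop (some (20, 4)) [.bwd 2397, .bwd 2389, .bwd 111, .bwd 110, .bwd 2611, .fwd 2751, .fwd 2752, .fwd 2753],
   .define,
   .loop (some (5, 2)) [.fwd 2611, .fwd 2596, .fwd 2755],
   .define,
   .loop (some (8, 2)) [.bwd 2461, .fwd 2740, .fwd 2757],
   .define,
   .loop (some (15, 1)) [.bwd 2465, .fwd 2730, .bwd 2461, .fwd 2759],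
   .define,
   .define,
   .define,
   .define,
   .define,
   .loop (some (19, 5)) [.fwd 2455, .fwd 2761, .fwd 2762, .fwd 2763, .fwd 2764, .fwd 2765],
   .define,
   .define,
   .define,
   .loop (some (21, 5)) [.fwd 2765, .fwd 2766, .fwd 2455, .fwd 2456, .bwd 2523, .fwd 2767, .fwd 2768, .fwd 2769],
   .define,
   .define,
   .loop (some (20, 3)) [.fwd 2760, .bwd 2465, .fwd 2730, .bwd 2461, .fwd 110, .bwd 2437, .fwd 2771, .fwd 2772],
   .define,
   .loop (some (5, 2)) [.fwd 2437, .bwd 2455, .fwd 2774],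
   .loop (some (8, 1)) [.bwd 2392, .bwd 111, .fwd 2761],
   .define,
   .define,
   .define,
   .define,
   .define,
   .define,
   .define,
   .define,
   .define,
   .define,
   .define,
   .define,
   .define,
   .define,
   .define,
   .define,
   .define,
   .define,
   .define,
   .define,
   .define,
   .define,
   .define,
   .define,
   .define,
   .loop (some (22, 28)) [.bwd 2246, .bwd 2517, .bwd 2456, .fwd 2393, .bwd 2332, .bwd 2331, .fwd 2777, .fwd 2778, .fwd 2779, .fwd 2780, .fwd 2781, .fwd 2782, .fwd 2783, .fwd 2784, .fwd 2785, .fwd 2786, .fwd 2787, .fwd 2788, .fwd 2789, .fwd 2790, .fwd 2791, .fwd 2792, .fwd 2793, .fwd 2794, .fwd 2795, .fwd 2796, .fwd 2797, .fwd 2798, .fwd 2799, .fwd 2800, .fwd 2801],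
   .define,
   .define,
   .define,
   .define,
   .define,
   .loop (some (19, 5)) [.bwd 2392, .fwd 2803, .fwd 2804, .fwd 2805, .fwd 2806, .fwd 2807],
   .define,
   .loop (some (7, 2)) [.bwd 2389, .fwd 2392, .fwd 2809],
   .define,
   .define,
   .define,
   .define,
   .loop (some (21, 5)) [.fwd 2807, .fwd 2808, .bwd 2392, .fwd 112, .fwd 2811, .fwd 2812, .fwd 2813, .fwd 2814],
   .define,
   .loop (some (20, 2)) [.fwd 2751, .fwd 2752, .fwd 2753, .fwd 2754, .bwd 2397, .bwd 2389, .fwd 2387, .fwd 2816],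
   .define,
   .loop (some (5, 2)) [.bwd 2387, .fwd 2392, .fwd 2818],
   .loop (some (8, 1)) [.fwd 2455, .fwd 111, .fwd 2803],
   .define,
   .loop (some (1, 2)) [.bwd 112, .fwd 2387, .fwd 2821],
   .loop (some (13, 2)) [.bwd 112, .bwd 2425, .fwd 112],
   .loop (some (4, 1)) [.fwd 256, .bwd 2218, .bwd 112, .fwd 2389],
   .loop none [.fwd 2824],
   .loop none [.bwd 2288, .bwd 2825],
   .loop none [.fwd 2389, .bwd 2825],
   .loop none [.fwd 255, .fwd 2825, .fwd 2397],
   .loop none [.fwd 2828],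
   .loop none [.fwd 2810, .bwd 2825],
   .loop none [.fwd 254, .fwd 2829, .bwd 2754],
   .loop none [.fwd 2831],
   .loop none [.bwd 2398, .bwd 2829],
   .loop none [.fwd 2753, .bwd 2832],
   .define,
   .define,
   .define,
   .define,
   .define,
   .define,
   .define,
   .define,
   .define,
   .define,
   .define,
   .define,
   .define,
   .define,
   .define,
   .define,
   .define,
   .define,
   .define,
   .define,
   .define,
   .define,
   .define,
   .define,
   .define,
   .loop (some (22, 29)) [.fwd 2554, .bwd 112, .fwd 2388, .bwd 102, .fwd 2301, .fwd 2342, .fwd 2835, .fwd 2836, .fwd 2837, .fwd 2838, .fwd 2839, .fwd 2840, .fwd 2841, .fwd 2842, .fwd 2843, .fwd 2844, .fwd 2845, .fwd 2846, .fwd 2847, .fwd 2848, .fwd 2849, .fwd 2850, .fwd 2851, .fwd 2852, .fwd 2853, .fwd 2854, .fwd 2855, .fwd 2856, .fwd 2857, .fwd 2858, .fwd 2859],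
   .loop (some (15, 0)) [.fwd 2730, .bwd 2461, .fwd 110, .fwd 111],
   .define,
   .define,
   .define,
   .define,
   .define,
   .loop (some (19, 5)) [.bwd 2811, .fwd 2862, .fwd 2863, .fwd 2864, .fwd 2865, .fwd 2866],
   .define,
   .define,
   .loop (some (16, 3)) [.fwd 2381, .bwd 113, .bwd 2822, .fwd 2868, .fwd 2869],
   .define,
   .loop (some (7, 2)) [.bwd 2218, .fwd 2811, .fwd 2871],
   .define,
   .define,
   .define,
   .loop (some (21, 5)) [.fwd 2866, .fwd 2867, .bwd 2811, .bwd 112, .fwd 2392, .fwd 2873, .fwd 2874, .fwd 2875],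
   .define,
   .define,
   .define,
   .define,
   .define,
   .define,
   .loop (some (20, 7)) [.bwd 2218, .bwd 2822, .fwd 2877, .fwd 2878, .fwd 2879, .fwd 2880, .fwd 2881, .fwd 2882],
   .loop (some (2, 2)) [.bwd 2679, .fwd 2554, .fwd 113, .fwd 2201],
   .loop none [.bwd 2884],
   .loop none [.fwd 2679, .bwd 2885],
   .loop none [.fwd 1549, .fwd 2885, .fwd 2680],
   .loop none [.fwd 2887],
   .loop none [.fwd 1548, .fwd 2888, .fwd 2681],
   .loop none [.fwd 2889],
   .loop none [.fwd 963, .fwd 2890, .fwd 2682],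
   .loop none [.fwd 2891],
   .loop none [.fwd 909, .fwd 2892, .fwd 2683],
   .loop none [.fwd 2893],
   .loop none [.bwd 2684, .bwd 2894],
   .define,
   .loop (some (5, 2)) [.fwd 2822, .fwd 2811, .fwd 2896],
   .define,
   .loop (some (8, 2)) [.fwd 2554, .fwd 2862, .fwd 2898],
   .loop (some (6, 1)) [.bwd 2366, .bwd 113, .fwd 2811],
   .loop (some (14, 2)) [.bwd 2863, .bwd 2862, .bwd 2823, .fwd 2862],
   .define,
   .define,
   .loop (some (15, 2)) [.fwd 2860, .fwd 2554, .fwd 2902, .fwd 2903],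
   .define,
   .define,
   .define,
   .define,
   .define,
   .define,
   .loop (some (19, 5)) [.bwd 2366, .fwd 2906, .fwd 2907, .fwd 2908, .fwd 2909, .fwd 2910],
   .loop (some (7, 1)) [.fwd 2234, .bwd 114, .fwd 2366],
   .define,
   .define,
   .define,
   .loop (some (21, 5)) [.fwd 2910, .fwd 2911, .bwd 2366, .bwd 2351, .bwd 2322, .fwd 2913, .fwd 2914, .fwd 2915],
   .loop (some (20, 1)) [.bwd 803, .bwd 796, .bwd 65, .bwd 64, .fwd 868, .bwd 2191, .bwd 115, .bwd 114, .bwd 2381],
   .loop none [.fwd 2917],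
   .loop none [.bwd 2381, .bwd 2918],
   .loop none [.fwd 2870, .bwd 2918],
   .loop none [.bwd 804, .fwd 2918, .bwd 2380],
   .loop none [.fwd 2921],
   .loop none [.fwd 2361, .bwd 2922],
   .loop none [.bwd 805, .fwd 2922, .fwd 2362],
   .loop none [.fwd 2924],
   .loop none [.bwd 2371, .bwd 2922],
   .loop none [.fwd 2377, .bwd 2922],
   .loop none [.bwd 2363, .bwd 2925],
   .define,
   .loop (some (5, 2)) [.fwd 2919, .fwd 2366, .fwd 2929],
   .define,
   .loop (some (8, 2)) [.bwd 2201, .fwd 2906, .fwd 2931],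
   .loop (some (14, 2)) [.bwd 2907, .bwd 2906, .bwd 2396, .fwd 2906],
   .define,
   .define,
   .define,
   .define,
   .define,
   .define,
   .define,
   .define,
   .define,
   .define,
   .define,
   .define,
   .define,
   .define,
   .define,
   .define,
   .define,
   .define,
   .define,
   .define,
   .define,
   .loop (some (22, 24)) [.fwd 2545, .bwd 2626, .fwd 2678, .fwd 2439, .fwd 2332, .bwd 103, .fwd 2351, .bwd 113, .fwd 2218, .bwd 2883, .fwd 2934, .fwd 2935, .fwd 2936, .fwd 2937, .fwd 2938, .fwd 2939, .fwd 2940, .fwd 2941, .fwd 2942, .fwd 2943, .fwd 2944, .fwd 2945, .fwd 2946, .fwd 2947, .fwd 2948, .fwd 2949, .fwd 2950, .fwd 2951, .fwd 2952, .fwd 2953, .fwd 2954],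
   .define,
   .loop (some (15, 1)) [.fwd 1548, .fwd 1549, .bwd 2201, .fwd 2956],
   .define,
   .define,
   .define,
   .define,
   .define,
   .loop (some (19, 5)) [.fwd 2234, .fwd 2958, .fwd 2959, .fwd 2960, .fwd 2961, .fwd 2962],
   .define,
   .define,
   .define,
   .loop (some (21, 5)) [.fwd 2962, .fwd 2963, .fwd 2234, .bwd 2240, .bwd 2307, .fwd 2964, .fwd 2965, .fwd 2966],
   .define,
   .define,
   .loop (some (20, 3)) [.fwd 2957, .fwd 1548, .fwd 1549, .bwd 2201, .fwd 114, .bwd 2217, .fwd 2968, .fwd 2969],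
   .define,
   .loop (some (5, 2)) [.fwd 2217, .bwd 2234, .fwd 2971],
   .loop (some (8, 1)) [.bwd 2194, .bwd 115, .fwd 2958],
   .loop (some (14, 2)) [.bwd 2959, .bwd 2958, .bwd 2275, .fwd 2958],
   .define,
   .define,
   .define,
   .define,
   .define,
   .define,
   .define,
   .define,
   .define,
   .define,
   .define,
   .define,
   .define,
   .define,
   .define,
   .define,
   .define,
   .define,
   .define,
   .define,
   .define,
   .define,
   .define,
   .define,
   .define]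

theorem just11_len : just11.length = 250 := by decide +kernel

theorem just11_ok : cert.okFacts 2750 just11 = true := by decide +kernel


end CfsgLib.ThCent.DX
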