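import Cfsg.Agent.Lib.ThCent.DXData

/-!
Justifications of the side facts (generated data).
-/

namespace CfsgLib.ThCent.DX

open CfsgLib.PresCert

set_option maxRecDepth 100000

/-- justifications -/
noncomputable def just12 : List Cert.Just :=
  [.loop (some (22, 28)) [.bwd 1317, .bwd 2301, .fwd 2240, .fwd 2197, .bwd 2146, .fwd 2147, .fwd 2975, .fwd 2976, .fwd 2977, .fwd 2978, .fwd 2979, .fwd 2980, .fwd 2981, .fwd 2982, .fwd 2983, .fwd 2984, .fwd 2985, .fwd 2986, .fwd 2987, .fwd 2988, .fwd 2989, .fwd 2990, .fwd 2991, .fwd 2992, .fwd 2993, .fwd 2994, .fwd 2995, .fwd 2996, .fwd 2997, .fwd 2998, .fwd 2999],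
   .loop (some (15, 0)) [.bwd 1582, .bwd 64, .fwd 868, .bwd 2191, .bwd 115],
   .loop none [.bwd 3001],
   .loop none [.fwd 1582, .bwd 3002],
   .loop (some (9, 2)) [.fwd 2217, .bwd 2275, .bwd 2217],
   .define,
   .define,
   .define,
   .define,
   .define,
   .define,
   .loop (some (19, 5)) [.bwd 2194, .fwd 3006, .fwd 3007, .fwd 3008, .fwd 3009, .fwd 3010],
   .loop (some (7, 1)) [.fwd 1532, .bwd 2191, .fwd 2194],
   .define,
   .define,
   .define,
   .define,
   .loop (some (21, 5)) [.fwd 3010, .fwd 3011, .bwd 2194, .fwd 116, .fwd 3013, .fwd 3014, .fwd 3015, .fwd 3016],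
   .loop (some (20, 1)) [.fwd 1527, .fwd 1528, .bwd 803, .bwd 796, .bwd 65, .bwd 64, .fwd 868, .bwd 2191, .fwd 2190],
   .loop none [.fwd 3018],
   .loop none [.fwd 2190, .bwd 3019],
   .loop none [.fwd 2159, .bwd 3019],
   .define,
   .loop (some (5, 2)) [.fwd 3020, .fwd 2194, .fwd 3022],
   .loop (some (8, 1)) [.fwd 2234, .fwd 115, .fwd 3006],
   .define,
   .loop (some (1, 2)) [.bwd 116, .bwd 3020, .fwd 3025],
   .define,
   .define,
   .define,
   .define,
   .define,
   .loop (some (19, 5)) [.bwd 3013, .fwd 3027, .fwd 3028, .fwd 3029, .fwd 3030, .fwd 3031],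
   .define,
   .define,
   .loop (some (16, 3)) [.fwd 2176, .bwd 117, .bwd 3026, .fwd 3033, .fwd 3034],
   .loop (some (7, 1)) [.fwd 1269, .fwd 1186, .bwd 1269, .fwd 3013],
   .loop none [.fwd 3036],
   .loop none [.fwd 116, .fwd 3037, .fwd 3014],
   .loop none [.fwd 3038],
   .loop none [.bwd 3027, .fwd 3037, .bwd 3013],
   .loop none [.bwd 3040],
   .loop none [.fwd 3032, .bwd 3037],
   .loop none [.bwd 2194, .fwd 3039, .fwd 3015],
   .loop none [.fwd 3043],
   .loop none [.fwd 3041, .bwd 3027, .fwd 3041, .fwd 3028],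
   .loop none [.fwd 3045],
   .loop none [.bwd 3042, .fwd 3041, .bwd 3027],
   .loop none [.bwd 3047],
   .loop none [.fwd 3011, .fwd 3044, .fwd 3016],
   .loop none [.fwd 3049],
   .loop none [.bwd 3029, .bwd 3046],
   .loop none [.bwd 3051, .fwd 3048, .bwd 3042],
   .loop none [.bwd 3052],
   .loop none [.fwd 3031, .bwd 3048],
   .loop none [.bwd 3017, .bwd 3050],
   .loop none [.fwd 3053, .bwd 3051, .fwd 3053, .fwd 3030],
   .loop none [.fwd 3056],
   .loop none [.fwd 3054, .bwd 3057],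
   .loop (some (21, 2)) [.bwd 3007, .bwd 3006, .fwd 116, .fwd 3058, .fwd 3058, .fwd 3058, .bwd 116, .fwd 2194],
   .loop (some (20, 1)) [.fwd 1146, .fwd 1147, .fwd 1148, .fwd 1149, .fwd 522, .fwd 219, .bwd 1055, .bwd 1269, .bwd 3026],
   .loop none [.fwd 3060],
   .loop none [.bwd 3026, .bwd 3061],
   .loop none [.bwd 3033, .bwd 3061],
   .loop none [.fwd 3025, .bwd 3061],
   .loop (some (2, 2)) [.bwd 2835, .fwd 2188, .fwd 117, .bwd 2138],
   .loop none [.bwd 3065],
   .loop none [.fwd 2835, .bwd 3066],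
   .loop none [.fwd 1091, .fwd 3066, .fwd 2836],
   .loop none [.fwd 3068],
   .loop none [.bwd 2143, .fwd 3069, .fwd 2837],
   .loop none [.fwd 3070],
   .loop none [.bwd 2838, .bwd 3071],
   .loop (some (5, 2)) [.fwd 3062, .bwd 3058, .bwd 3062],
   .loop (some (8, 2)) [.fwd 2188, .fwd 3058, .bwd 2188],
   .loop (some (6, 2)) [.bwd 2161, .bwd 117, .bwd 3058, .fwd 117],
   .loop none [.bwd 3075],
   .loop none [.fwd 2142, .fwd 3076, .fwd 2162],
   .loop none [.fwd 3077],
   .loop none [.fwd 2161, .bwd 3076],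
   .loop none [.fwd 2114, .fwd 3078, .fwd 2163],
   .loop none [.fwd 3080],
   .loop none [.fwd 2155, .fwd 3081, .fwd 2164],
   .loop none [.fwd 3082],
   .loop none [.bwd 2165, .bwd 3083],
   .loop (some (15, 0)) [.fwd 1939, .bwd 2195, .fwd 540, .fwd 2188],
   .loop (some (21, 2)) [.bwd 2151, .bwd 2150, .fwd 2142, .fwd 3079, .fwd 3079, .fwd 3079, .bwd 2142, .bwd 2114],
   .loop (some (20, 1)) [.bwd 2143, .fwd 1091, .fwd 2138, .fwd 118, .fwd 1258, .fwd 85, .bwd 1258, .bwd 118, .bwd 2176],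
   .loop none [.fwd 3087],
   .loop none [.bwd 2176, .bwd 3088],
   .loop none [.fwd 3035, .bwd 3088],
   .loop none [.bwd 3072, .fwd 3088, .bwd 2175],
   .loop none [.bwd 3091],
   .loop none [.fwd 3072, .bwd 3092],
   .loop (some (5, 2)) [.fwd 3089, .bwd 3079, .bwd 3089],
   .loop (some (8, 2)) [.fwd 2138, .fwd 3079, .bwd 2138],
   .loop (some (21, 2)) [.bwd 2108, .bwd 2107, .fwd 1283, .fwd 1275, .fwd 1275, .fwd 1275, .bwd 1283, .bwd 2102],
   .loop (some (20, 3)) [.fwd 2075, .fwd 2076, .bwd 2143, .fwd 1091, .fwd 2138, .fwd 118, .fwd 1256, .fwd 2127, .bwd 450],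
   .loop none [.fwd 3097],
   .loop none [.bwd 127, .fwd 3098, .bwd 449],
   .loop none [.fwd 3099],
   .loop none [.bwd 1952, .fwd 3098, .fwd 450],
   .loop none [.bwd 3101],
   .loop none [.fwd 156, .fwd 3100, .bwd 448],
   .loop none [.fwd 3103],
   .loop none [.fwd 1952, .bwd 3102],
   .loop none [.bwd 149, .fwd 3104, .bwd 447],
   .loop none [.fwd 3106],
   .loop none [.bwd 150, .fwd 3107, .bwd 446],
   .loop none [.fwd 3108],
   .loop none [.bwd 1943, .fwd 3109, .bwd 445],
   .loop none [.bwd 3110],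
   .loop none [.bwd 1964, .bwd 3111],
   .loop none [.fwd 1943, .bwd 3111],
   .loop none [.fwd 1149, .bwd 3111],
   .loop none [.bwd 522, .bwd 3111],
   .loop none [.fwd 444, .fwd 3111, .bwd 521],
   .loop none [.bwd 3116],
   .loop none [.fwd 3111, .bwd 1954, .bwd 3111],
   .loop none [.fwd 486, .fwd 3117, .bwd 443],
   .loop none [.fwd 3119],
   .loop none [.bwd 444, .bwd 3117],
   .loop none [.bwd 22, .fwd 3120, .bwd 442],
   .loop none [.fwd 3122],
   .loop none [.fwd 585, .fwd 3123, .bwd 441],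
   .loop none [.fwd 3124],
   .loop none [.bwd 70, .fwd 3125, .bwd 440],
   .loop none [.fwd 3126],
   .loop none [.fwd 754, .fwd 3127, .bwd 439],
   .loop none [.bwd 3128],
   .loop none [.fwd 1825, .bwd 3129],
   .loop none [.fwd 438, .fwd 3129, .bwd 1797],
   .loop none [.fwd 3131],
   .loop none [.bwd 754, .bwd 3129],
   .loop none [.fwd 753, .bwd 3129],
   .loop none [.fwd 1838, .bwd 3129],
   .loop none [.fwd 3129, .bwd 1841, .bwd 3129],
   .loop none [.fwd 1845, .bwd 3132],
   .loop (some (5, 2)) [.bwd 1256, .bwd 1275, .fwd 1256],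
   .loop (some (20, 9)) [.bwd 134, .bwd 1258, .bwd 118, .bwd 2138, .bwd 1091, .fwd 2143, .bwd 2076, .bwd 2075, .bwd 3105],
   .loop none [.fwd 3139],
   .loop none [.bwd 2075, .fwd 3140, .bwd 2127],
   .loop none [.bwd 3141],
   .loop none [.bwd 2005, .fwd 3142, .fwd 2076],
   .loop none [.fwd 3143],
   .loop none [.fwd 2075, .bwd 3142],
   .loop none [.bwd 3090, .bwd 3144],
   .loop none [.bwd 1222, .fwd 3144, .bwd 2143],
   .loop none [.bwd 3147],
   .loop none [.fwd 3093, .bwd 3144],
   .loop none [.fwd 3144, .bwd 3094, .bwd 3144],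
   .loop none [.fwd 1222, .bwd 3148],
   .loop none [.bwd 1223, .bwd 3148],
   .loop (some (2, 3)) [.fwd 3145, .fwd 127, .fwd 149, .bwd 389],
   .loop none [.fwd 3153],
   .loop none [.bwd 217, .fwd 3154, .fwd 389],
   .loop none [.bwd 3155],
   .loop none [.bwd 2128, .fwd 3154, .bwd 388],
   .loop none [.fwd 3157],
   .loop none [.fwd 217, .bwd 3156],
   .loop none [.fwd 149, .fwd 3156, .fwd 1406],
   .loop none [.fwd 3160],
   .loop none [.fwd 318, .bwd 3156],
   .loop none [.fwd 3156, .bwd 1408, .bwd 3156],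
   .loop none [.bwd 2116, .fwd 3158, .bwd 387],
   .loop none [.bwd 3164],
   .loop none [.bwd 205, .fwd 3161, .fwd 1407],
   .loop none [.bwd 3166],
   .loop none [.fwd 386, .fwd 3165, .fwd 2117],
   .loop none [.fwd 3168],
   .loop none [.fwd 2116, .bwd 3165],
   .loop none [.fwd 205, .bwd 3167],
   .loop none [.fwd 175, .bwd 3167],
   .loop none [.bwd 2168, .bwd 3169],
   .loop none [.fwd 385, .fwd 3169, .fwd 2169],
   .loop none [.fwd 3174],
   .loop none [.bwd 2118, .bwd 3169],
   .loop none [.fwd 3149, .bwd 3169],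
   .loop none [.fwd 2172, .bwd 3169],
   .loop none [.bwd 2158, .bwd 3175],
   .loop (some (18, 3)) [.bwd 2128, .fwd 3145, .fwd 2079, .bwd 3145, .fwd 2128, .bwd 3170],
   .loop none [.fwd 3180],
   .loop none [.fwd 2227, .fwd 3181, .bwd 386],
   .loop none [.bwd 3182],
   .loop none [.bwd 3170, .bwd 3181],
   .loop none [.bwd 2227, .bwd 3183],
   .loop none [.bwd 3176, .fwd 3183, .bwd 2226],
   .loop none [.fwd 3186],
   .loop none [.fwd 2213, .bwd 3187],
   .loop none [.fwd 2579, .fwd 3187, .fwd 2214],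
   .loop none [.bwd 3189],
   .loop none [.bwd 2231, .bwd 3187],
   .loop none [.fwd 2229, .bwd 3187],
   .loop none [.bwd 2579, .bwd 3190],
   .loop none [.fwd 2578, .bwd 3190],
   .define,
   .define,
   .define,
   .define,
   .define,
   .define,
   .define,
   .define,
   .define,
   .define,
   .define,
   .define,
   .define,
   .define,
   .loop (some (22, 27)) [.bwd 3146, .bwd 2005, .fwd 3145, .fwd 2079, .fwd 127, .bwd 3171, .bwd 3172, .bwd 206, .bwd 213, .fwd 3171, .fwd 149, .fwd 3162, .bwd 277, .bwd 3185, .fwd 3176, .fwd 3191, .fwd 2282, .fwd 3195, .fwd 3196, .fwd 3197, .fwd 3198, .fwd 3199, .fwd 3200, .fwd 3201, .fwd 3202, .fwd 3203, .fwd 3204, .fwd 3205, .fwd 3206, .fwd 3207, .fwd 3208],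
   .loop (some (15, 0)) [.bwd 1091, .fwd 3151, .bwd 2005, .fwd 3145],
   .loop (some (17, 3)) [.bwd 3114, .fwd 3113, .bwd 150, .fwd 3159, .fwd 2005, .fwd 3146],
   .loop none [.fwd 3211],
   .loop none [.fwd 3034, .bwd 3212],
   .loop none [.fwd 1427, .fwd 3212, .bwd 3146],
   .loop none [.bwd 3214],
   .loop none [.fwd 3209, .bwd 3212],
   .loop none [.fwd 3177, .fwd 3215, .bwd 1426],
   .loop none [.fwd 3217],
   .loop none [.bwd 3176, .fwd 3218, .bwd 1425],
   .loop none [.bwd 3219],
   .loop none [.bwd 3188, .bwd 3220],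
   .loop none [.fwd 3193, .bwd 3220],
   .loop none [.fwd 1424, .fwd 3220, .fwd 2119],
   .loop none [.fwd 3223],
   .loop none [.fwd 3176, .bwd 3220],
   .loop none [.bwd 3191, .bwd 3220],
   .loop none [.bwd 3192, .bwd 3220],
   .loop none [.fwd 2205, .bwd 3220],
   .loop none [.fwd 2147, .bwd 3224],
   .loop none [.bwd 2975, .bwd 3224],
   .define,
   .define,
   .loop (some (21, 4)) [.bwd 3162, .fwd 3163, .fwd 3163, .fwd 3163, .fwd 3162, .bwd 316, .fwd 3231, .fwd 3232],
   .define,
   .define,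
   .loop (some (21, 4)) [.bwd 240, .fwd 2074, .fwd 2074, .fwd 2074, .fwd 240, .bwd 1984, .fwd 3234, .fwd 3235],
   .define,
   .define,
   .define,
   .define,
   .define,
   .define,
   .define,
   .define,
   .define,
   .define,
   .define,
   .define,
   .define]

theorem just12_len : just12.length = 250 := by decide +kernel

theorem just12_ok : cert.okFacts 3000 just12 = true := by decide +kernel

/-- justifications -/
noncomputable def just13 : List Cert.Just :=
  [.define,
   .define,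
   .define,
   .define,
   .define,
   .define,
   .define,
   .define,
   .loop (some (22, 24)) [.fwd 1821, .fwd 1822, .bwd 1767, .bwd 1987, .fwd 1988, .fwd 349, .bwd 240, .bwd 3113, .fwd 3114, .bwd 1148, .fwd 3237, .fwd 3238, .fwd 3239, .fwd 3240, .fwd 3241, .fwd 3242, .fwd 3243, .fwd 3244, .fwd 3245, .fwd 3246, .fwd 3247, .fwd 3248, .fwd 3249, .fwd 3250, .fwd 3251, .fwd 3252, .fwd 3253, .fwd 3254, .fwd 3255, .fwd 3256, .fwd 3257],
   .define,
   .define,
   .loop (some (21, 4)) [.bwd 2128, .fwd 3138, .fwd 3138, .fwd 3138, .fwd 2128, .bwd 2123, .fwd 3259, .fwd 3260],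
   .loop (some (16, 3)) [.bwd 315, .bwd 293, .fwd 290, .fwd 2101, .fwd 2122],
   .loop (some (7, 1)) [.fwd 1431, .bwd 281, .bwd 275],
   .define,
   .define,
   .define,
   .loop (some (21, 5)) [.fwd 273, .fwd 274, .fwd 275, .fwd 222, .fwd 223, .fwd 3264, .fwd 3265, .fwd 3266],
   .define,
   .define,
   .define,
   .define,
   .loop (some (20, 6)) [.fwd 1459, .bwd 281, .fwd 290, .bwd 2100, .fwd 3268, .fwd 3269, .fwd 3270, .fwd 3271],
   .loop (some (2, 2)) [.fwd 292, .fwd 293, .bwd 317],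
   .loop (some (5, 1)) [.fwd 2090, .bwd 290, .bwd 275],
   .loop (some (1, 2)) [.bwd 222, .fwd 290, .fwd 1272],
   .define,
   .define,
   .loop (some (18, 4)) [.bwd 222, .bwd 292, .fwd 3264, .fwd 3276, .fwd 3277],
   .loop (some (6, 1)) [.fwd 305, .bwd 293, .bwd 275],
   .loop (some (3, 2)) [.bwd 222, .fwd 293, .fwd 1405],
   .define,
   .define,
   .loop (some (14, 2)) [.fwd 224, .fwd 221, .fwd 3281, .fwd 3282],
   .loop (some (12, 1)) [.fwd 3283, .fwd 292, .fwd 3281],
   .define,
   .loop (some (0, 1)) [.bwd 3281, .fwd 3285],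
   .loop (some (13, 1)) [.bwd 3264, .fwd 295, .bwd 222, .fwd 3281],
   .loop none [.fwd 3287],
   .loop none [.bwd 3276, .fwd 3288, .fwd 3284],
   .loop none [.fwd 3289],
   .loop none [.fwd 3290, .bwd 3282, .bwd 3288],
   .loop none [.fwd 3281, .bwd 3288],
   .loop none [.fwd 3286, .bwd 3288],
   .loop none [.bwd 3283, .bwd 3290],
   .loop (some (4, 2)) [.bwd 222, .fwd 281, .fwd 1206],
   .define,
   .define,
   .define,
   .define,
   .define,
   .define,
   .define,
   .define,
   .define,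
   .define,
   .define,
   .define,
   .define,
   .define,
   .define,
   .define,
   .define,
   .define,
   .define,
   .define,
   .define,
   .define,
   .define,
   .define,
   .define,
   .define,
   .loop (some (22, 29)) [.fwd 3278, .bwd 222, .fwd 293, .fwd 306, .bwd 417, .fwd 3296, .fwd 3297, .fwd 3298, .fwd 3299, .fwd 3300, .fwd 3301, .fwd 3302, .fwd 3303, .fwd 3304, .fwd 3305, .fwd 3306, .fwd 3307, .fwd 3308, .fwd 3309, .fwd 3310, .fwd 3311, .fwd 3312, .fwd 3313, .fwd 3314, .fwd 3315, .fwd 3316, .fwd 3317, .fwd 3318, .fwd 3319, .fwd 3320, .fwd 3321],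
   .define,
   .loop (some (11, 2)) [.bwd 281, .bwd 3292, .fwd 3323],
   .define,
   .define,
   .define,
   .loop (some (15, 3)) [.fwd 292, .fwd 3325, .fwd 3326, .fwd 3327],
   .define,
   .loop (some (9, 2)) [.bwd 290, .bwd 3292, .fwd 3329],
   .define,
   .loop (some (10, 2)) [.bwd 293, .bwd 3292, .fwd 3331],
   .define,
   .define,
   .define,
   .define,
   .loop (some (16, 4)) [.fwd 3280, .bwd 3275, .fwd 3334, .fwd 3335, .fwd 3336],
   .define,
   .define,
   .define,
   .loop (some (17, 4)) [.fwd 3295, .bwd 3280, .fwd 3338, .fwd 3339, .fwd 3340],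
   .loop (some (7, 2)) [.bwd 1207, .fwd 3295, .fwd 223, .bwd 3328],
   .loop none [.fwd 3342],
   .loop none [.bwd 3328, .bwd 3343],
   .loop none [.bwd 1434, .fwd 3343, .bwd 3327],
   .loop none [.fwd 3345],
   .loop none [.bwd 1442, .fwd 3346, .bwd 3326],
   .loop none [.fwd 3347],
   .loop none [.fwd 3325, .bwd 3348],
   .define,
   .define,
   .define,
   .define,
   .define,
   .define,
   .loop (some (20, 7)) [.fwd 3295, .bwd 3275, .fwd 3350, .fwd 3351, .fwd 3352, .fwd 3353, .fwd 3354, .fwd 3355],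
   .define,
   .loop (some (2, 2)) [.fwd 3278, .bwd 3280, .fwd 3357],
   .loop (some (5, 1)) [.bwd 1273, .fwd 3275, .fwd 223],
   .define,
   .loop (some (8, 2)) [.fwd 3278, .fwd 272, .fwd 3360],
   .loop (some (14, 2)) [.bwd 273, .bwd 272, .bwd 295, .bwd 223],
   .loop (some (12, 3)) [.fwd 3278, .bwd 295, .fwd 292, .fwd 3285],
   .loop none [.fwd 3363],
   .loop none [.fwd 3293, .bwd 3364],
   .loop none [.fwd 3285, .bwd 3364],
   .loop (some (0, 1)) [.fwd 3294, .fwd 295, .fwd 3362],
   .loop none [.bwd 3367],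
   .loop none [.fwd 283, .fwd 3368, .fwd 3277],
   .loop none [.fwd 3369],
   .loop none [.fwd 273, .fwd 3368, .bwd 3291],
   .loop none [.fwd 3371],
   .loop none [.bwd 3294, .bwd 3368],
   .loop none [.bwd 3279, .fwd 3370, .bwd 3358],
   .loop none [.fwd 3374],
   .loop none [.bwd 3263, .fwd 3370, .bwd 3322],
   .loop none [.fwd 3376],
   .loop none [.bwd 3278, .bwd 3370],
   .loop none [.fwd 274, .fwd 3370, .bwd 3361],
   .loop none [.fwd 3379],
   .loop none [.fwd 3372, .bwd 3365, .bwd 3370],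
   .loop none [.bwd 3366, .bwd 3370],
   .loop none [.bwd 3329, .bwd 3372],
   .loop none [.bwd 3331, .bwd 3372],
   .loop none [.bwd 3323, .bwd 3372],
   .loop none [.fwd 3267, .fwd 3372, .bwd 3264],
   .loop none [.bwd 3386],
   .loop none [.bwd 3292, .bwd 3372],
   .loop none [.fwd 3357, .bwd 3375],
   .loop none [.fwd 3321, .bwd 3377],
   .loop none [.fwd 3360, .bwd 3380],
   .loop none [.bwd 3267, .bwd 3387],
   .define,
   .define,
   .define,
   .define,
   .define,
   .define,
   .define,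
   .define,
   .define,
   .define,
   .define,
   .define,
   .define,
   .define,
   .define,
   .define,
   .define,
   .define,
   .define,
   .define,
   .define,
   .define,
   .define,
   .define,
   .define,
   .define,
   .loop (some (22, 28)) [.fwd 3344, .fwd 292, .fwd 222, .bwd 3280, .fwd 3338, .fwd 3393, .fwd 3394, .fwd 3395, .fwd 3396, .fwd 3397, .fwd 3398, .fwd 3399, .fwd 3400, .fwd 3401, .fwd 3402, .fwd 3403, .fwd 3404, .fwd 3405, .fwd 3406, .fwd 3407, .fwd 3408, .fwd 3409, .fwd 3410, .fwd 3411, .fwd 3412, .fwd 3413, .fwd 3414, .fwd 3415, .fwd 3416, .fwd 3417, .fwd 3418],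
   .define,
   .define,
   .loop (some (15, 2)) [.bwd 3263, .fwd 3378, .fwd 3420, .fwd 3421],
   .define,
   .define,
   .define,
   .define,
   .loop (some (16, 4)) [.fwd 3273, .fwd 3359, .fwd 3424, .fwd 3425, .fwd 3426],
   .define,
   .define,
   .loop (some (17, 3)) [.fwd 3419, .fwd 3344, .bwd 3273, .fwd 3428, .fwd 3429],
   .define,
   .loop (some (20, 5)) [.bwd 1442, .bwd 1434, .fwd 3344, .fwd 3359, .fwd 2100, .fwd 2098, .bwd 1511, .fwd 3431],
   .loop (some (1, 1)) [.bwd 3383, .bwd 3392, .fwd 3359],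
   .loop (some (3, 1)) [.bwd 3384, .bwd 3392, .bwd 3273],
   .loop (some (4, 1)) [.bwd 3385, .bwd 3392, .bwd 3344],
   .define,
   .define,
   .define,
   .define,
   .define,
   .define,
   .define,
   .define,
   .define,
   .define,
   .define,
   .define,
   .define,
   .define,
   .define,
   .define,
   .define,
   .define,
   .define,
   .define,
   .define,
   .define,
   .define,
   .define,
   .define,
   .define,
   .define,
   .loop (some (22, 29)) [.fwd 3391, .bwd 3392, .bwd 3273, .fwd 3428, .fwd 3436, .fwd 3437, .fwd 3438, .fwd 3439, .fwd 3440, .fwd 3441, .fwd 3442, .fwd 3443, .fwd 3444, .fwd 3445, .fwd 3446, .fwd 3447, .fwd 3448, .fwd 3449, .fwd 3450, .fwd 3451, .fwd 3452, .fwd 3453, .fwd 3454, .fwd 3455, .fwd 3456, .fwd 3457, .fwd 3458, .fwd 3459, .fwd 3460, .fwd 3461, .fwd 3462],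
   .loop (some (11, 2)) [.fwd 3344, .bwd 3373, .bwd 3463],
   .loop (some (15, 0)) [.fwd 3272, .fwd 1459, .bwd 281, .bwd 292],
   .define,
   .loop (some (9, 2)) [.bwd 3359, .bwd 3373, .fwd 3466],
   .define,
   .loop (some (10, 2)) [.fwd 3273, .bwd 3373, .fwd 3468],
   .define,
   .define,
   .define,
   .define,
   .loop (some (19, 5)) [.fwd 1984, .bwd 3236, .bwd 3235, .fwd 3471, .fwd 3472, .fwd 3473],
   .loop (some (17, 3)) [.fwd 3185, .fwd 277, .fwd 2071, .fwd 241, .fwd 242, .bwd 1913],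
   .loop none [.fwd 3475],
   .loop none [.fwd 385, .fwd 3476, .fwd 1913],
   .loop none [.bwd 3477],
   .loop none [.bwd 3177, .fwd 3476, .bwd 1912],
   .loop none [.fwd 3479],
   .loop none [.bwd 3179, .bwd 3478],
   .loop none [.bwd 385, .bwd 3478],
   .loop none [.fwd 384, .bwd 3478],
   .loop none [.fwd 3151, .fwd 3480, .bwd 1911],
   .loop none [.fwd 3484],
   .loop none [.bwd 1091, .fwd 3485, .bwd 1910],
   .loop none [.fwd 3486],
   .loop none [.bwd 3067, .fwd 3487, .bwd 1909],
   .loop none [.fwd 3488],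
   .loop none [.fwd 2342, .fwd 3489, .bwd 1908],
   .loop none [.fwd 3490],
   .loop none [.fwd 2301, .fwd 3491, .bwd 1907],
   .loop none [.fwd 3492],
   .loop none [.bwd 102, .fwd 3493, .bwd 1906],
   .loop none [.fwd 3494],
   .loop none [.fwd 2388, .fwd 3495, .bwd 1905],
   .loop none [.fwd 3496],
   .loop none [.bwd 112, .fwd 3497, .bwd 1904],
   .loop none [.fwd 3498]]

theorem just13_len : just13.length = 250 := by decide +kernel

theorem just13_ok : cert.okFacts 3250 just13 = true := by decide +kernel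

/-- justifications -/
noncomputable def just14 : List Cert.Just :=
  [.loop none [.fwd 2554, .fwd 3499, .bwd 1903],
   .loop none [.bwd 3500],
   .loop none [.fwd 2886, .bwd 3501],
   .loop none [.fwd 1902, .fwd 3501, .bwd 2860],
   .loop none [.fwd 3503],
   .loop none [.bwd 2554, .bwd 3501],
   .loop none [.fwd 2553, .bwd 3501],
   .loop none [.fwd 2899, .bwd 3501],
   .loop none [.fwd 2904, .bwd 3504],
   .loop (some (7, 1)) [.fwd 316, .fwd 2071, .bwd 1984],
   .loop (some (21, 5)) [.fwd 3473, .fwd 3474, .fwd 1984, .bwd 240, .bwd 2074, .fwd 240, .bwd 1984, .bwd 3474],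
   .loop (some (8, 1)) [.bwd 408, .fwd 349, .bwd 3236],
   .loop (some (6, 1)) [.fwd 519, .bwd 241, .bwd 1984],
   .loop (some (15, 0)) [.bwd 459, .bwd 314, .bwd 313, .fwd 1988, .fwd 349],
   .loop none [.bwd 3513],
   .loop none [.fwd 459, .bwd 3514],
   .define,
   .define,
   .define,
   .define,
   .define,
   .loop (some (19, 5)) [.fwd 519, .fwd 3516, .fwd 3517, .fwd 3518, .fwd 3519, .fwd 3520],
   .define,
   .loop (some (7, 2)) [.bwd 242, .bwd 519, .fwd 3522],
   .loop (some (21, 5)) [.fwd 3520, .fwd 3521, .fwd 519, .fwd 3121, .bwd 3118, .bwd 3121, .bwd 519, .bwd 3521],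
   .define,
   .loop (some (20, 2)) [.fwd 568, .fwd 569, .fwd 570, .fwd 549, .bwd 243, .bwd 242, .fwd 1974, .fwd 3525],
   .define,
   .loop (some (5, 2)) [.bwd 1974, .bwd 519, .fwd 3527],
   .loop (some (8, 1)) [.fwd 490, .fwd 486, .fwd 3516],
   .loop (some (1, 1)) [.bwd 3112, .bwd 3121, .fwd 1974],
   .loop (some (4, 2)) [.bwd 3114, .bwd 3121, .fwd 242, .fwd 3483],
   .loop none [.bwd 3531],
   .loop none [.bwd 3213, .bwd 3532],
   .loop none [.fwd 3114, .bwd 3532],
   .loop none [.fwd 383, .fwd 3532, .bwd 1148],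
   .loop none [.fwd 3535],
   .loop none [.fwd 3483, .fwd 3532, .fwd 3216],
   .loop none [.fwd 3537],
   .loop none [.fwd 382, .fwd 3536, .bwd 1147],
   .loop none [.fwd 3539],
   .loop none [.bwd 3237, .bwd 3536],
   .loop none [.bwd 243, .fwd 3538, .bwd 3208],
   .loop none [.fwd 3542],
   .loop none [.fwd 1146, .bwd 3540],
   .loop none [.fwd 1955, .bwd 3540],
   .loop none [.fwd 549, .fwd 3543, .bwd 3207],
   .loop none [.fwd 3546],
   .loop none [.fwd 3206, .bwd 3547],
   .loop (some (11, 2)) [.bwd 242, .bwd 524, .fwd 242],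
   .loop (some (9, 2)) [.bwd 1974, .bwd 524, .fwd 1974],
   .define,
   .define,
   .define,
   .define,
   .define,
   .loop (some (19, 5)) [.fwd 3523, .fwd 3551, .fwd 3552, .fwd 3553, .fwd 3554, .fwd 3555],
   .define,
   .define,
   .define,
   .define,
   .loop (some (21, 5)) [.fwd 3555, .fwd 3556, .fwd 3523, .fwd 3483, .fwd 3557, .fwd 3558, .fwd 3559, .fwd 3560],
   .loop (some (20, 1)) [.fwd 512, .fwd 513, .fwd 514, .fwd 515, .bwd 23, .bwd 22, .fwd 486, .fwd 242, .fwd 3481],
   .loop none [.fwd 3562],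
   .loop none [.fwd 3481, .bwd 3563],
   .loop none [.fwd 3021, .bwd 3563],
   .loop (some (2, 3)) [.bwd 243, .fwd 3482, .bwd 3225, .fwd 3222],
   .loop none [.fwd 3566],
   .loop none [.bwd 2215, .bwd 3567],
   .loop none [.fwd 3222, .bwd 3567],
   .loop none [.bwd 244, .fwd 3567, .fwd 3194],
   .loop none [.fwd 3570],
   .loop none [.fwd 2577, .bwd 3571],
   .define,
   .loop (some (5, 2)) [.fwd 3564, .bwd 3523, .fwd 3573],
   .define,
   .loop (some (8, 2)) [.bwd 243, .fwd 3551, .fwd 3575],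
   .loop (some (1, 1)) [.bwd 3533, .bwd 3483, .bwd 3564],
   .loop (some (18, 3)) [.bwd 3541, .fwd 383, .bwd 3483, .fwd 243, .fwd 244, .fwd 3572],
   .loop none [.bwd 3578],
   .loop none [.bwd 3238, .bwd 3579],
   .loop none [.fwd 3541, .bwd 3579],
   .loop (some (6, 1)) [.bwd 3178, .bwd 3482, .bwd 3523],
   .loop (some (14, 2)) [.bwd 3552, .bwd 3551, .bwd 3549, .fwd 3551],
   .loop (some (12, 2)) [.bwd 243, .bwd 3549, .fwd 243],
   .loop (some (9, 2)) [.fwd 3564, .bwd 3549, .bwd 3564],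
   .define,
   .define,
   .define,
   .define,
   .define,
   .loop (some (19, 5)) [.fwd 3576, .fwd 3586, .fwd 3587, .fwd 3588, .fwd 3589, .fwd 3590],
   .loop (some (17, 3)) [.bwd 3548, .fwd 549, .fwd 3569, .bwd 1424, .bwd 1423],
   .define,
   .loop (some (7, 2)) [.fwd 549, .bwd 3576, .fwd 3593],
   .define,
   .define,
   .define,
   .define,
   .loop (some (21, 5)) [.fwd 3590, .fwd 3591, .fwd 3576, .fwd 244, .fwd 3595, .fwd 3596, .fwd 3597, .fwd 3598],
   .define,
   .loop (some (20, 2)) [.fwd 3525, .fwd 3526, .fwd 568, .fwd 569, .fwd 570, .fwd 549, .fwd 3568, .fwd 3600],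
   .define,
   .loop (some (5, 2)) [.bwd 3568, .bwd 3576, .fwd 3602],
   .loop (some (8, 1)) [.fwd 3523, .fwd 243, .fwd 3586],
   .define,
   .loop (some (1, 2)) [.bwd 244, .fwd 3568, .fwd 3605],
   .loop (some (6, 1)) [.bwd 3227, .bwd 3569, .bwd 3576],
   .loop (some (3, 3)) [.bwd 244, .fwd 3569, .fwd 3226, .fwd 2282],
   .loop none [.fwd 3608],
   .loop none [.fwd 3606, .fwd 3609, .fwd 2283],
   .loop none [.bwd 3610],
   .loop none [.bwd 245, .fwd 3609, .bwd 2282],
   .loop none [.fwd 3612],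
   .loop none [.bwd 3195, .bwd 3609],
   .loop none [.bwd 3606, .bwd 3611],
   .loop none [.fwd 3605, .bwd 3611],
   .loop none [.bwd 2232, .bwd 3613],
   .loop none [.bwd 2295, .bwd 3613],
   .loop none [.fwd 3226, .bwd 3613],
   .loop none [.fwd 2303, .bwd 3613],
   .loop none [.fwd 3613, .bwd 2312, .bwd 3613],
   .loop (some (14, 2)) [.bwd 3587, .bwd 3586, .bwd 3584, .fwd 3586],
   .loop (some (13, 2)) [.bwd 244, .bwd 3584, .fwd 244],
   .loop (some (4, 1)) [.bwd 3614, .bwd 244, .bwd 549],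
   .loop (some (9, 2)) [.bwd 3568, .bwd 3584, .fwd 3568],
   .define,
   .define,
   .define,
   .define,
   .define,
   .loop (some (19, 5)) [.bwd 3595, .fwd 3626, .fwd 3627, .fwd 3628, .fwd 3629, .fwd 3630],
   .define,
   .define,
   .loop (some (17, 4)) [.bwd 3614, .fwd 245, .fwd 246, .fwd 3632, .fwd 3633],
   .define,
   .loop (some (7, 2)) [.bwd 3614, .fwd 3595, .fwd 3635],
   .define,
   .define,
   .define,
   .loop (some (21, 5)) [.fwd 3630, .fwd 3631, .bwd 3595, .bwd 244, .bwd 3576, .fwd 3637, .fwd 3638, .fwd 3639],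
   .define,
   .define,
   .define,
   .define,
   .define,
   .loop (some (20, 6)) [.bwd 3196, .bwd 3614, .bwd 3615, .fwd 3641, .fwd 3642, .fwd 3643, .fwd 3644, .fwd 3645],
   .loop (some (2, 2)) [.bwd 3580, .bwd 3572, .fwd 245, .fwd 3618],
   .loop none [.bwd 3647],
   .loop none [.fwd 3580, .bwd 3648],
   .define,
   .loop (some (5, 2)) [.fwd 3615, .fwd 3595, .fwd 3650],
   .define,
   .loop (some (8, 2)) [.bwd 3572, .fwd 3626, .fwd 3652],
   .loop (some (6, 1)) [.bwd 3620, .bwd 245, .fwd 3595],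
   .loop (some (14, 2)) [.bwd 3627, .bwd 3626, .bwd 3623, .fwd 3626],
   .loop (some (12, 2)) [.bwd 3572, .bwd 3623, .fwd 3572],
   .define,
   .define,
   .loop (some (15, 2)) [.fwd 2576, .bwd 3572, .fwd 3657, .fwd 3658],
   .loop (some (9, 2)) [.fwd 3615, .bwd 3623, .bwd 3615],
   .define,
   .define,
   .define,
   .define,
   .define,
   .define,
   .loop (some (19, 5)) [.bwd 3620, .fwd 3662, .fwd 3663, .fwd 3664, .fwd 3665, .fwd 3666],
   .define,
   .loop (some (7, 2)) [.bwd 246, .fwd 3620, .fwd 3668],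
   .define,
   .define,
   .define,
   .loop (some (21, 5)) [.fwd 3666, .fwd 3667, .bwd 3620, .fwd 3619, .fwd 3227, .fwd 3670, .fwd 3671, .fwd 3672],
   .define,
   .loop (some (20, 6)) [.bwd 247, .bwd 246, .fwd 3617, .fwd 2177, .bwd 2346, .fwd 1373, .fwd 2349, .fwd 3674],
   .define,
   .loop (some (8, 2)) [.bwd 3618, .fwd 3662, .fwd 3676],
   .loop (some (18, 1)) [.bwd 3152, .fwd 3151, .bwd 3177, .bwd 3225, .bwd 3619, .fwd 3618],
   .loop none [.fwd 3678],
   .loop none [.bwd 1224, .fwd 3679, .fwd 3649],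
   .loop none [.fwd 3680],
   .loop none [.bwd 2296, .bwd 3679],
   .loop none [.fwd 3618, .bwd 3679],
   .loop none [.fwd 3677, .bwd 3679],
   .loop none [.bwd 1225, .fwd 3681, .bwd 2576],
   .loop none [.fwd 3685],
   .loop none [.fwd 3572, .bwd 3681],
   .loop none [.bwd 3581, .bwd 3681],
   .loop none [.fwd 3653, .bwd 3681],
   .loop none [.fwd 3681, .bwd 3656, .bwd 3681],
   .loop none [.fwd 2575, .bwd 3686],
   .loop none [.bwd 1226, .fwd 3686, .bwd 3659],
   .loop none [.fwd 3692],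
   .loop none [.fwd 3658, .bwd 3693],
   .loop (some (12, 2)) [.fwd 3683, .bwd 3621, .bwd 3683],
   .loop (some (4, 1)) [.bwd 3230, .fwd 1424, .bwd 3619, .fwd 246],
   .loop none [.bwd 3696],
   .loop none [.bwd 3632, .fwd 3697, .fwd 2976],
   .loop none [.bwd 3698],
   .loop none [.fwd 3230, .bwd 3697],
   .loop none [.fwd 3632, .bwd 3699],
   .loop none [.bwd 2977, .fwd 3699, .fwd 3633],
   .loop none [.fwd 3702],
   .loop none [.bwd 3634, .bwd 3703],
   .loop (some (11, 2)) [.bwd 246, .bwd 3621, .fwd 246],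
   .loop (some (15, 0)) [.bwd 2298, .bwd 2297, .bwd 3682, .fwd 3683],
   .define,
   .define,
   .define,
   .define,
   .define,
   .loop (some (19, 5)) [.fwd 3669, .fwd 3707, .fwd 3708, .fwd 3709, .fwd 3710, .fwd 3711],
   .define,
   .define,
   .define,
   .define,
   .loop (some (16, 4)) [.fwd 3701, .fwd 3713, .fwd 3714, .fwd 3715, .fwd 3716],
   .define,
   .loop (some (20, 1)) [.fwd 1413, .bwd 2300, .bwd 2299, .bwd 2298, .bwd 2297, .bwd 3682, .fwd 3683, .fwd 246, .fwd 3713],
   .loop none [.fwd 3719],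
   .loop none [.fwd 3713, .bwd 3720],
   .loop none [.fwd 2826, .fwd 3720, .fwd 3714],
   .loop none [.fwd 3722],
   .loop none [.bwd 3715, .bwd 3723],
   .define,
   .loop (some (2, 2)) [.bwd 247, .bwd 3701, .fwd 3725],
   .loop (some (5, 1)) [.fwd 2290, .fwd 3721, .bwd 3669],
   .define,
   .loop (some (8, 2)) [.bwd 247, .fwd 3707, .fwd 3728],
   .loop (some (1, 2)) [.bwd 3700, .bwd 3721, .bwd 2243],
   .loop (some (18, 2)) [.bwd 1413, .bwd 2243, .bwd 3229, .bwd 3700, .fwd 247, .fwd 248],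
   .loop none [.bwd 3731],
   .loop none [.fwd 2300, .bwd 3732],
   .loop none [.fwd 1413, .bwd 3732],
   .loop none [.fwd 248, .fwd 3732, .fwd 1414],
   .loop none [.fwd 3735],
   .loop none [.fwd 3726, .fwd 3736, .fwd 1415],
   .loop none [.bwd 3737],
   .loop none [.bwd 3726, .bwd 3738],
   .loop none [.fwd 3725, .bwd 3738],
   .define,
   .loop (some (6, 2)) [.fwd 3701, .bwd 3669, .fwd 3741],
   .loop (some (3, 1)) [.fwd 1422, .fwd 1423, .bwd 3700, .bwd 3701],
   .loop none [.fwd 3743],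
   .loop none [.fwd 3717, .bwd 3744],
   .loop none [.bwd 3701, .bwd 3744],
   .loop none [.bwd 2977, .bwd 3744],
   .loop none [.fwd 1421, .fwd 3744, .bwd 3740],
   .loop none [.bwd 3748]]

theorem just14_len : just14.length = 250 := by decide +kernel

theorem just14_ok : cert.okFacts 3500 just14 = true := by decide +kernel

/-- justifications -/
noncomputable def just15 : List Cert.Just :=
  [.loop none [.fwd 3742, .bwd 3744],
   .loop none [.bwd 1416, .fwd 3749, .bwd 1420],
   .loop none [.fwd 3751],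
   .loop none [.bwd 1421, .bwd 3749],
   .loop none [.fwd 1419, .bwd 3752],
   .loop (some (14, 2)) [.bwd 3708, .bwd 3707, .bwd 3705, .fwd 3707],
   .define,
   .define,
   .define,
   .define,
   .define,
   .define,
   .loop (some (19, 5)) [.fwd 3729, .fwd 3757, .fwd 3758, .fwd 3759, .fwd 3760, .fwd 3761],
   .define,
   .define,
   .define,
   .define,
   .loop (some (16, 4)) [.fwd 3739, .fwd 3763, .fwd 3764, .fwd 3765, .fwd 3766],
   .define,
   .loop (some (7, 2)) [.fwd 3675, .bwd 3729, .fwd 3768],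
   .define,
   .define,
   .define,
   .define,
   .loop (some (21, 5)) [.fwd 3761, .fwd 3762, .fwd 3729, .fwd 248, .fwd 3770, .fwd 3771, .fwd 3772, .fwd 3773],
   .loop (some (20, 1)) [.fwd 3734, .bwd 2239, .fwd 2177, .bwd 2346, .fwd 1373, .fwd 2349, .fwd 3674, .fwd 3675, .fwd 3763],
   .loop none [.fwd 3775],
   .loop none [.fwd 3763, .bwd 3776],
   .loop none [.bwd 249, .fwd 3776, .fwd 3764],
   .loop none [.fwd 3778],
   .loop none [.bwd 3765, .bwd 3779],
   .loop (some (5, 1)) [.bwd 3770, .fwd 3777, .bwd 3729],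
   .loop (some (8, 1)) [.fwd 3669, .fwd 247, .fwd 3757],
   .define,
   .loop (some (6, 2)) [.fwd 3739, .bwd 3729, .fwd 3783],
   .loop (some (3, 1)) [.bwd 249, .bwd 248, .bwd 3739],
   .loop (some (4, 1)) [.bwd 3733, .bwd 248, .bwd 3675],
   .loop (some (15, 0)) [.bwd 3682, .fwd 3683, .fwd 246, .fwd 247],
   .define,
   .define,
   .define,
   .define,
   .define,
   .define,
   .loop (some (19, 5)) [.bwd 3770, .fwd 3789, .fwd 3790, .fwd 3791, .fwd 3792, .fwd 3793],
   .define,
   .define,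
   .loop (some (17, 4)) [.bwd 3733, .fwd 249, .fwd 250, .fwd 3795, .fwd 3796],
   .define,
   .define,
   .define,
   .loop (some (21, 5)) [.fwd 3793, .fwd 3794, .bwd 3770, .bwd 248, .bwd 3729, .fwd 3798, .fwd 3799, .fwd 3800],
   .loop (some (2, 1)) [.fwd 255, .fwd 2826, .bwd 3734, .fwd 249],
   .loop none [.bwd 3802],
   .loop none [.bwd 250, .fwd 3803, .bwd 254],
   .loop none [.fwd 3804],
   .loop none [.bwd 255, .bwd 3803],
   .loop none [.fwd 3785, .fwd 3803, .fwd 2833],
   .loop none [.fwd 3807],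
   .loop none [.bwd 3795, .fwd 3805, .bwd 253],
   .loop none [.bwd 3809],
   .loop none [.bwd 251, .fwd 3805, .fwd 2834],
   .loop none [.fwd 3811],
   .loop none [.bwd 3739, .fwd 3808, .fwd 2399],
   .loop none [.fwd 3813],
   .loop none [.fwd 3795, .bwd 3810],
   .loop none [.bwd 3796, .bwd 3810],
   .loop none [.fwd 2752, .bwd 3812],
   .loop none [.fwd 3675, .fwd 3814, .fwd 2400],
   .loop none [.bwd 3818],
   .loop none [.bwd 3675, .bwd 3819],
   .loop none [.bwd 2401, .fwd 3819, .bwd 3674],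
   .loop none [.bwd 3821],
   .loop none [.bwd 3786, .bwd 3819],
   .loop none [.fwd 3769, .bwd 3819],
   .loop none [.fwd 2401, .bwd 3822],
   .loop none [.bwd 2402, .bwd 3822],
   .loop (some (8, 1)) [.fwd 2290, .bwd 3734, .fwd 3789],
   .define,
   .loop (some (6, 2)) [.bwd 249, .fwd 3770, .fwd 3828],
   .loop (some (15, 0)) [.fwd 2346, .bwd 2177, .fwd 2239, .bwd 3734],
   .define,
   .define,
   .define,
   .define,
   .define,
   .define,
   .loop (some (19, 5)) [.fwd 3829, .fwd 3832, .fwd 3833, .fwd 3834, .fwd 3835, .fwd 3836],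
   .define,
   .loop (some (7, 2)) [.bwd 250, .bwd 3829, .fwd 3838],
   .define,
   .define,
   .define,
   .loop (some (21, 5)) [.fwd 3836, .fwd 3837, .fwd 3829, .bwd 3785, .bwd 3784, .fwd 3840, .fwd 3841, .fwd 3842],
   .define,
   .loop (some (20, 2)) [.fwd 2816, .fwd 2817, .fwd 2751, .bwd 3817, .bwd 251, .bwd 250, .fwd 3780, .fwd 3844],
   .define,
   .loop (some (5, 2)) [.bwd 3780, .bwd 3829, .fwd 3846],
   .loop (some (8, 1)) [.bwd 2830, .bwd 3806, .fwd 3832],
   .loop (some (18, 4)) [.bwd 3753, .fwd 3785, .fwd 3806, .fwd 256, .bwd 2883, .fwd 2934],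
   .loop none [.fwd 3849],
   .loop none [.bwd 3746, .fwd 3850, .fwd 2935],
   .loop none [.fwd 3851],
   .loop none [.bwd 1422, .fwd 3850, .bwd 2934],
   .loop none [.fwd 3853],
   .loop none [.fwd 246, .fwd 3852, .fwd 2936],
   .loop none [.fwd 3855],
   .loop none [.bwd 3592, .fwd 3854, .bwd 2882],
   .loop none [.bwd 3857],
   .loop none [.bwd 2883, .bwd 3854],
   .loop none [.fwd 3683, .fwd 3856, .fwd 2937],
   .loop none [.fwd 3860],
   .loop none [.fwd 3548, .bwd 3858],
   .loop none [.fwd 3592, .bwd 3858],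
   .loop none [.fwd 3205, .bwd 3858],
   .loop none [.fwd 3152, .fwd 3861, .fwd 2938],
   .loop none [.fwd 3865],
   .loop none [.fwd 1090, .fwd 3866, .fwd 2939],
   .loop none [.fwd 3867],
   .loop none [.bwd 2940, .bwd 3868],
   .loop (some (4, 1)) [.bwd 1416, .fwd 3785, .fwd 250],
   .define,
   .define,
   .define,
   .define,
   .define,
   .define,
   .define,
   .define,
   .define,
   .define,
   .define,
   .define,
   .define,
   .define,
   .define,
   .define,
   .define,
   .define,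
   .define,
   .define,
   .define,
   .loop (some (22, 24)) [.fwd 569, .fwd 570, .fwd 3624, .bwd 3704, .bwd 3747, .bwd 3753, .fwd 3785, .bwd 249, .fwd 3733, .bwd 2299, .fwd 3871, .fwd 3872, .fwd 3873, .fwd 3874, .fwd 3875, .fwd 3876, .fwd 3877, .fwd 3878, .fwd 3879, .fwd 3880, .fwd 3881, .fwd 3882, .fwd 3883, .fwd 3884, .fwd 3885, .fwd 3886, .fwd 3887, .fwd 3888, .fwd 3889, .fwd 3890, .fwd 3891],
   .define,
   .define,
   .define,
   .define,
   .define,
   .define,
   .loop (some (19, 5)) [.fwd 3839, .fwd 3894, .fwd 3895, .fwd 3896, .fwd 3897, .fwd 3898],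
   .define,
   .define,
   .define,
   .define,
   .define,
   .define,
   .loop (some (21, 5)) [.fwd 3898, .fwd 3899, .fwd 3839, .fwd 3870, .fwd 3902, .fwd 3903, .fwd 3904, .fwd 3905],
   .loop (some (20, 1)) [.bwd 2465, .fwd 2730, .bwd 2461, .fwd 110, .fwd 111, .bwd 2827, .bwd 3806, .fwd 250, .fwd 3900],
   .loop none [.fwd 3907],
   .loop none [.fwd 3900, .bwd 3908],
   .loop none [.bwd 3901, .bwd 3908],
   .define,
   .loop (some (2, 2)) [.bwd 251, .bwd 3815, .fwd 3911],
   .define,
   .loop (some (5, 2)) [.fwd 3909, .bwd 3839, .fwd 3913],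
   .define,
   .loop (some (8, 2)) [.bwd 251, .fwd 3894, .fwd 3915],
   .loop (some (1, 2)) [.bwd 3870, .bwd 3909, .fwd 2466],
   .loop (some (18, 3)) [.bwd 1418, .bwd 1417, .bwd 3870, .fwd 251, .fwd 252, .fwd 3911],
   .loop none [.fwd 3918],
   .loop none [.fwd 3754, .fwd 3919, .fwd 3912],
   .loop none [.bwd 3920],
   .loop none [.fwd 3917, .bwd 3921],
   .loop none [.bwd 3817, .fwd 3921, .bwd 1416],
   .loop none [.bwd 3923],
   .loop none [.bwd 252, .fwd 3921, .bwd 3870],
   .loop none [.bwd 3925],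
   .loop none [.fwd 3916, .fwd 3921, .fwd 3902],
   .loop none [.bwd 3927],
   .loop none [.fwd 3817, .bwd 3924],
   .loop none [.bwd 3753, .fwd 3924, .bwd 2751],
   .loop none [.fwd 3930],
   .loop none [.fwd 250, .fwd 3926, .fwd 3816],
   .loop none [.fwd 3932],
   .loop none [.fwd 3915, .bwd 3928],
   .loop none [.bwd 3916, .bwd 3928],
   .loop none [.bwd 3745, .fwd 3931, .fwd 2611],
   .loop none [.bwd 3936],
   .loop none [.bwd 3747, .fwd 3931, .bwd 2817],
   .loop none [.bwd 3938],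
   .loop none [.bwd 1422, .fwd 3931, .bwd 2610],
   .loop none [.fwd 3940],
   .loop none [.bwd 3750, .fwd 3931, .bwd 2756],
   .loop none [.bwd 3942],
   .loop none [.fwd 249, .fwd 3933, .fwd 3797],
   .loop none [.fwd 3944],
   .loop none [.fwd 109, .fwd 3937, .bwd 3716],
   .loop none [.fwd 3946],
   .loop none [.bwd 3704, .bwd 3939],
   .loop none [.fwd 3747, .bwd 3939],
   .loop none [.fwd 2816, .fwd 3939, .fwd 2978],
   .loop none [.fwd 3950],
   .loop none [.fwd 2591, .bwd 3941],
   .loop none [.bwd 3859, .fwd 3941, .fwd 2601],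
   .loop none [.fwd 3953],
   .loop none [.fwd 2607, .bwd 3941],
   .loop none [.fwd 3741, .bwd 3943],
   .loop none [.fwd 3750, .bwd 3943],
   .loop none [.fwd 3733, .bwd 3945],
   .loop none [.bwd 3734, .fwd 3945, .bwd 2299],
   .loop none [.fwd 3959],
   .loop none [.fwd 248, .fwd 3945, .bwd 3823],
   .loop none [.fwd 3961],
   .loop none [.fwd 2676, .fwd 3947, .bwd 3724],
   .loop none [.bwd 3963],
   .loop none [.bwd 2821, .fwd 3951, .fwd 2979],
   .loop none [.fwd 3965],
   .loop none [.fwd 2218, .fwd 3954, .fwd 2602],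
   .loop none [.fwd 3967],
   .loop none [.fwd 2239, .fwd 3960, .bwd 2298],
   .loop none [.fwd 3969],
   .loop none [.fwd 2243, .fwd 3960, .fwd 3871],
   .loop none [.fwd 3971],
   .loop none [.fwd 3706, .bwd 3960],
   .loop none [.bwd 3820, .bwd 3962],
   .loop none [.fwd 247, .fwd 3962, .bwd 3825],
   .loop none [.fwd 3975],
   .loop none [.fwd 3729, .fwd 3962, .fwd 3824],
   .loop none [.fwd 3977],
   .loop none [.bwd 2676, .bwd 3964],
   .loop none [.fwd 3806, .fwd 3964, .fwd 2717],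
   .loop none [.fwd 3980],
   .loop none [.bwd 256, .fwd 3964, .bwd 2675],
   .loop none [.fwd 3982],
   .loop none [.bwd 2830, .fwd 3964, .bwd 2732],
   .loop none [.bwd 3984],
   .loop none [.bwd 2868, .fwd 3966, .fwd 2980],
   .loop none [.fwd 3986],
   .loop none [.fwd 3505, .fwd 3968, .fwd 2603],
   .loop none [.fwd 3988],
   .loop none [.bwd 2177, .fwd 3970, .bwd 2297],
   .loop none [.fwd 3990],
   .loop none [.fwd 257, .fwd 3972, .fwd 3872],
   .loop none [.fwd 3992],
   .loop none [.fwd 246, .fwd 3976, .bwd 2349],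
   .loop none [.fwd 3994],
   .loop none [.bwd 3700, .fwd 3976, .fwd 3826],
   .loop none [.fwd 3996],
   .loop none [.bwd 3756, .fwd 3976, .bwd 2309],
   .loop none [.bwd 3998]]

theorem just15_len : just15.length = 250 := by decide +kernel

theorem just15_ok : cert.okFacts 3750 just15 = true := by decide +kernel

/-- justifications -/
noncomputable def just16 : List Cert.Just :=
  [.loop none [.fwd 3768, .bwd 3978],
   .loop none [.bwd 250, .fwd 3981, .fwd 2718],
   .loop none [.fwd 4001],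
   .loop none [.fwd 2617, .bwd 3983],
   .loop none [.fwd 3859, .fwd 3983, .fwd 2670],
   .loop none [.fwd 4004],
   .loop none [.fwd 2872, .fwd 3983, .bwd 2673],
   .loop none [.bwd 4006],
   .loop none [.fwd 2809, .bwd 3985],
   .loop none [.fwd 3848, .bwd 3985],
   .loop none [.fwd 2830, .bwd 3985],
   .loop none [.bwd 2981, .bwd 3987],
   .loop none [.fwd 1902, .fwd 3989, .fwd 2582],
   .loop none [.fwd 4012],
   .loop none [.fwd 2346, .fwd 3991, .bwd 3682],
   .loop none [.bwd 4014],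
   .loop none [.fwd 3787, .bwd 3991],
   .loop none [.fwd 2218, .fwd 3993, .fwd 3873],
   .loop none [.fwd 4017],
   .loop none [.bwd 3619, .fwd 3995, .fwd 1374],
   .loop none [.bwd 4019],
   .loop none [.fwd 1423, .fwd 3997, .fwd 2403],
   .loop none [.fwd 4021],
   .loop none [.fwd 3756, .bwd 3999],
   .loop none [.bwd 251, .fwd 4002, .fwd 2719],
   .loop none [.fwd 4024],
   .loop none [.fwd 3863, .fwd 4005, .fwd 2671],
   .loop none [.bwd 4026],
   .loop none [.fwd 2871, .bwd 4007],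
   .loop none [.bwd 2872, .bwd 4007],
   .loop none [.bwd 3508, .fwd 4013, .bwd 2247],
   .loop none [.bwd 4030],
   .loop none [.bwd 2248, .bwd 4013],
   .loop none [.bwd 1224, .fwd 4015, .fwd 2345],
   .loop none [.fwd 4033],
   .loop none [.bwd 2346, .bwd 4015],
   .loop none [.fwd 3830, .bwd 4015],
   .loop none [.fwd 3505, .fwd 4018, .fwd 3874],
   .loop none [.fwd 4037],
   .loop none [.bwd 3221, .bwd 4020],
   .loop none [.bwd 1375, .fwd 4020, .bwd 3569],
   .loop none [.bwd 4040],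
   .loop none [.fwd 1424, .bwd 4020],
   .loop none [.bwd 3225, .bwd 4020],
   .loop none [.fwd 3619, .bwd 4020],
   .loop none [.bwd 3227, .bwd 4020],
   .loop none [.bwd 3228, .bwd 4020],
   .loop none [.fwd 4027, .fwd 3863, .fwd 4022, .fwd 2404],
   .loop none [.bwd 4047],
   .loop none [.fwd 3929, .fwd 4025, .fwd 2720],
   .loop none [.fwd 4049],
   .loop none [.fwd 4048, .fwd 4027],
   .loop none [.bwd 3862, .fwd 4051],
   .loop none [.bwd 3863, .fwd 4051],
   .loop none [.bwd 2405, .bwd 4051, .bwd 2881],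
   .loop none [.fwd 4054],
   .loop none [.bwd 3864, .fwd 4051],
   .loop none [.fwd 3508, .bwd 4031],
   .loop none [.bwd 3688, .fwd 4034, .bwd 2268],
   .loop none [.fwd 4058],
   .loop none [.bwd 3506, .fwd 4038, .fwd 3875],
   .loop none [.fwd 4060],
   .loop none [.fwd 549, .fwd 4041, .fwd 1376],
   .loop none [.fwd 4062],
   .loop none [.bwd 2500, .bwd 4048],
   .loop none [.bwd 4052, .fwd 4048, .bwd 2499],
   .loop none [.fwd 4065],
   .loop none [.bwd 2405, .fwd 4048, .fwd 2542],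
   .loop none [.fwd 4067],
   .loop none [.bwd 4056, .fwd 4048, .fwd 2552],
   .loop none [.bwd 4069],
   .loop none [.fwd 2549, .bwd 4048],
   .loop none [.fwd 4048, .bwd 2583, .bwd 4048],
   .loop none [.bwd 3753, .fwd 4050, .fwd 2721],
   .loop none [.fwd 4073],
   .loop none [.fwd 2880, .bwd 4055],
   .loop none [.bwd 383, .fwd 4059, .bwd 2267],
   .loop none [.fwd 4076],
   .loop none [.fwd 2245, .fwd 4061, .fwd 3876],
   .loop none [.fwd 4078],
   .loop none [.fwd 570, .fwd 4063, .fwd 1377],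
   .loop none [.fwd 4080],
   .loop none [.fwd 2498, .bwd 4066],
   .loop none [.bwd 4075, .fwd 4068, .fwd 2543],
   .loop none [.bwd 4083],
   .loop none [.bwd 2771, .fwd 4070, .bwd 3204],
   .loop none [.fwd 4085],
   .loop none [.fwd 4056, .bwd 4070],
   .loop none [.fwd 3949, .fwd 4074, .fwd 2722],
   .loop none [.bwd 4088],
   .loop none [.bwd 3534, .fwd 4077, .bwd 2266],
   .loop none [.fwd 4090],
   .loop none [.fwd 2488, .fwd 4079, .fwd 3877],
   .loop none [.fwd 4092],
   .loop none [.bwd 1378, .bwd 4081],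
   .loop none [.fwd 4075, .bwd 4084],
   .loop none [.bwd 2772, .fwd 4086, .bwd 3203],
   .loop none [.fwd 4096],
   .loop none [.bwd 3948, .bwd 4089],
   .loop none [.bwd 3949, .bwd 4089],
   .loop none [.bwd 2723, .fwd 4089, .bwd 2816],
   .loop none [.bwd 4100],
   .loop none [.bwd 3113, .fwd 4091, .bwd 2265],
   .loop none [.fwd 4102],
   .loop none [.fwd 2528, .fwd 4093, .fwd 3878],
   .loop none [.fwd 4104],
   .loop none [.fwd 3202, .bwd 4097],
   .loop none [.fwd 2364, .fwd 4101, .fwd 2439],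
   .loop none [.bwd 4107],
   .loop none [.fwd 3845, .fwd 4101, .bwd 2438],
   .loop none [.bwd 4109],
   .loop none [.fwd 2723, .bwd 4101],
   .loop none [.bwd 2821, .fwd 4101, .bwd 2678],
   .loop none [.bwd 4112],
   .loop none [.fwd 2819, .fwd 4101, .bwd 2712],
   .loop none [.bwd 4114],
   .loop none [.bwd 240, .fwd 4103, .bwd 2264],
   .loop none [.fwd 4116],
   .loop none [.bwd 3879, .bwd 4105],
   .loop none [.fwd 2928, .bwd 4108],
   .loop none [.bwd 2364, .bwd 4108],
   .loop none [.bwd 3845, .bwd 4110],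
   .loop none [.bwd 2612, .fwd 4110, .bwd 3844],
   .loop none [.fwd 4122],
   .loop none [.bwd 2503, .fwd 4113, .fwd 2868],
   .loop none [.fwd 4124],
   .loop none [.fwd 2821, .bwd 4113],
   .loop none [.fwd 2664, .fwd 4113, .bwd 2897],
   .loop none [.fwd 4127],
   .loop none [.fwd 2818, .bwd 4115],
   .loop none [.bwd 2819, .bwd 4115],
   .loop none [.fwd 349, .fwd 4117, .bwd 2263],
   .loop none [.fwd 4131],
   .loop none [.fwd 2726, .fwd 4123, .fwd 3766],
   .loop none [.fwd 4133],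
   .loop none [.fwd 2734, .fwd 4123, .bwd 3847],
   .loop none [.fwd 4135],
   .loop none [.bwd 2869, .bwd 4125],
   .loop none [.bwd 2460, .fwd 4125, .fwd 4011],
   .loop none [.fwd 4138],
   .loop none [.fwd 2896, .bwd 4128],
   .loop none [.fwd 1988, .fwd 4132, .bwd 2262],
   .loop none [.fwd 4141],
   .loop none [.bwd 3767, .bwd 4134],
   .loop none [.fwd 3846, .bwd 4136],
   .loop none [.bwd 2382, .fwd 4139, .fwd 2982],
   .loop none [.fwd 4145],
   .loop none [.bwd 1987, .fwd 4142, .bwd 2261],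
   .loop none [.fwd 4147],
   .loop none [.fwd 2244, .fwd 4146, .fwd 2983],
   .loop none [.fwd 4149],
   .loop none [.bwd 1767, .fwd 4148, .bwd 2260],
   .loop none [.fwd 4151],
   .loop none [.fwd 3502, .fwd 4150, .fwd 2984],
   .loop none [.fwd 4153],
   .loop none [.fwd 1822, .fwd 4152, .bwd 2259],
   .loop none [.fwd 4155],
   .loop none [.fwd 1902, .fwd 4154, .fwd 2985],
   .loop none [.fwd 4157],
   .loop none [.fwd 1821, .fwd 4156, .bwd 2258],
   .loop none [.fwd 4159],
   .loop none [.fwd 4057, .fwd 4158, .fwd 2986],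
   .loop none [.fwd 4161],
   .loop none [.fwd 3258, .fwd 4160, .bwd 2257],
   .loop none [.bwd 4163],
   .loop none [.bwd 2987, .bwd 4162],
   .loop none [.bwd 3258, .bwd 4164],
   .loop (some (15, 0)) [.fwd 4099, .bwd 3753, .fwd 3929, .bwd 251],
   .define,
   .define,
   .define,
   .define,
   .define,
   .loop (some (19, 5)) [.fwd 3935, .fwd 4168, .fwd 4169, .fwd 4170, .fwd 4171, .fwd 4172],
   .loop (some (7, 1)) [.fwd 3784, .fwd 3929, .bwd 3935],
   .define,
   .loop (some (20, 1)) [.fwd 2739, .fwd 2704, .bwd 2612, .fwd 4121, .fwd 4111, .fwd 4099, .bwd 3753, .fwd 3929, .fwd 3922],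
   .loop none [.bwd 4176],
   .loop none [.fwd 2738, .bwd 4177],
   .loop none [.bwd 2739, .bwd 4177],
   .define,
   .loop (some (5, 2)) [.bwd 3922, .bwd 3935, .fwd 4180],
   .loop (some (8, 1)) [.fwd 3839, .fwd 251, .fwd 4168],
   .define,
   .define,
   .define,
   .define,
   .define,
   .loop (some (19, 5)) [.fwd 4010, .fwd 4183, .fwd 4184, .fwd 4185, .fwd 4186, .fwd 4187],
   .define,
   .define,
   .define,
   .loop (some (21, 5)) [.fwd 4187, .fwd 4188, .fwd 4010, .fwd 256, .bwd 4029, .fwd 4189, .fwd 4190, .fwd 4191],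
   .loop (some (20, 5)) [.bwd 2461, .fwd 110, .fwd 111, .bwd 2827, .fwd 3979, .fwd 2612, .bwd 2704, .bwd 4179, .fwd 4178],
   .loop none [.fwd 4193],
   .loop none [.fwd 2730, .fwd 4194, .bwd 4178],
   .loop none [.fwd 4195],
   .loop none [.bwd 2729, .fwd 4196, .fwd 2467],
   .loop none [.bwd 4197],
   .loop none [.bwd 2465, .fwd 4196, .fwd 4179],
   .loop none [.fwd 4199],
   .loop none [.fwd 2466, .bwd 4196],
   .loop none [.fwd 4181, .bwd 4196],
   .loop none [.fwd 2729, .bwd 4198],
   .loop none [.bwd 3910, .fwd 4200, .bwd 2703],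
   .loop none [.bwd 4204],
   .loop none [.fwd 2760, .fwd 4200, .fwd 2704],
   .loop none [.bwd 4206],
   .loop none [.fwd 3910, .bwd 4205],
   .loop none [.bwd 2760, .bwd 4207],
   .loop none [.fwd 2612, .fwd 4207, .bwd 2773],
   .loop none [.fwd 4210],
   .loop none [.bwd 109, .fwd 4211, .fwd 4106],
   .loop none [.fwd 4212],
   .loop none [.bwd 4121, .fwd 4211, .bwd 2772],
   .loop none [.fwd 4214],
   .loop none [.fwd 2557, .fwd 4213, .bwd 3201],
   .loop none [.fwd 4216],
   .loop none [.bwd 4111, .fwd 4215, .bwd 2771],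
   .loop none [.bwd 4218],
   .loop none [.bwd 107, .fwd 4217, .bwd 3200],
   .loop none [.fwd 4220],
   .loop none [.fwd 2436, .fwd 4219, .fwd 4098],
   .loop none [.fwd 4222],
   .loop none [.bwd 4099, .bwd 4219],
   .loop none [.fwd 4111, .bwd 4219],
   .loop none [.fwd 4167, .bwd 4219],
   .loop none [.fwd 2625, .fwd 4221, .bwd 3199],
   .loop none [.fwd 4227],
   .loop none [.fwd 3614, .bwd 4223],
   .loop none [.bwd 3196, .bwd 4223],
   .loop none [.fwd 3624, .bwd 4223],
   .loop none [.fwd 3636, .bwd 4223],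
   .loop none [.bwd 2503, .fwd 4228, .bwd 3198],
   .loop none [.fwd 4233],
   .loop none [.fwd 2459, .fwd 4234, .bwd 3197],
   .loop none [.fwd 4235],
   .loop none [.bwd 2332, .fwd 4236, .bwd 3646],
   .loop none [.fwd 4237],
   .loop none [.fwd 2331, .fwd 4236, .bwd 4230],
   .loop none [.fwd 4239],
   .loop none [.fwd 103, .fwd 4238, .bwd 3645],
   .loop none [.fwd 4241],
   .loop none [.fwd 2435, .bwd 4240],
   .loop none [.bwd 2436, .bwd 4240],
   .loop none [.fwd 2330, .fwd 4240, .fwd 4229],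
   .loop none [.bwd 4245],
   .loop none [.bwd 2777, .fwd 4240, .fwd 4231],
   .loop none [.bwd 4247],
   .loop none [.bwd 4232, .bwd 4240]]

theorem just16_len : just16.length = 250 := by decide +kernel

theorem just16_ok : cert.okFacts 4000 just16 = true := by decide +kernel

/-- justifications -/
noncomputable def just17 : List Cert.Just :=
  [.loop none [.fwd 102, .fwd 4242, .bwd 3644],
   .loop none [.fwd 4250],
   .loop none [.bwd 2330, .bwd 4246],
   .loop none [.fwd 3687, .fwd 4246, .bwd 2329],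
   .loop none [.fwd 4253],
   .loop none [.bwd 3661, .fwd 4246, .bwd 2424],
   .loop none [.bwd 4255],
   .loop none [.fwd 4052, .fwd 4248, .fwd 2778],
   .loop none [.fwd 4257],
   .loop none [.fwd 2777, .bwd 4248],
   .loop none [.bwd 2301, .fwd 4251, .bwd 3643],
   .loop none [.fwd 4260],
   .loop none [.bwd 1225, .fwd 4254, .bwd 2328],
   .loop none [.fwd 4262],
   .loop none [.fwd 3661, .bwd 4256],
   .loop none [.bwd 4053, .fwd 4258, .fwd 2779],
   .loop none [.fwd 4265],
   .loop none [.bwd 1317, .fwd 4261, .bwd 3642],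
   .loop none [.fwd 4267],
   .loop none [.bwd 1226, .fwd 4263, .bwd 2327],
   .loop none [.fwd 4269],
   .loop none [.bwd 3859, .fwd 4266, .fwd 2780],
   .loop none [.fwd 4271],
   .loop none [.bwd 1318, .fwd 4268, .bwd 3641],
   .loop none [.fwd 4273],
   .loop none [.bwd 2285, .bwd 4270],
   .loop none [.fwd 4274, .fwd 2284, .bwd 4270],
   .loop none [.bwd 3694, .fwd 4270, .bwd 2448],
   .loop none [.bwd 4277],
   .loop none [.bwd 1227, .fwd 4270, .fwd 2337],
   .loop none [.fwd 4279],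
   .loop none [.fwd 2334, .bwd 4270],
   .loop none [.fwd 256, .fwd 4272, .fwd 2781],
   .loop none [.fwd 4282],
   .loop none [.bwd 3615, .bwd 4274],
   .loop none [.bwd 1319, .fwd 4274, .fwd 3616],
   .loop none [.fwd 4285],
   .loop none [.fwd 3651, .bwd 4274],
   .loop none [.fwd 4274, .bwd 3660, .bwd 4274],
   .loop none [.fwd 3694, .bwd 4278],
   .loop none [.fwd 3657, .bwd 4278],
   .loop none [.bwd 2217, .bwd 4280],
   .loop none [.bwd 1228, .fwd 4280, .bwd 2216, .bwd 4286],
   .loop none [.fwd 4292],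
   .loop none [.bwd 2968, .bwd 4280],
   .loop none [.fwd 2972, .bwd 4280],
   .loop none [.fwd 4280, .bwd 3004, .bwd 4280],
   .loop none [.bwd 2826, .fwd 4283, .fwd 2782],
   .loop none [.fwd 4297],
   .loop none [.fwd 4293, .fwd 4286],
   .loop none [.fwd 3568, .fwd 4299],
   .loop none [.bwd 3600, .fwd 4299],
   .loop none [.fwd 3603, .fwd 4299],
   .loop none [.bwd 4299, .bwd 3625, .fwd 4299],
   .loop none [.fwd 1228, .fwd 4293, .fwd 1320],
   .loop none [.fwd 4304],
   .loop none [.fwd 1319, .bwd 4293],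
   .loop none [.fwd 2239, .fwd 4298, .fwd 2783],
   .loop none [.fwd 4307],
   .loop none [.bwd 1321, .bwd 4305],
   .loop none [.bwd 2177, .fwd 4308, .fwd 2784],
   .loop none [.fwd 4310],
   .loop none [.fwd 2139, .fwd 4311, .fwd 2785],
   .loop none [.fwd 4312],
   .loop none [.bwd 3067, .fwd 4313, .fwd 2786],
   .loop none [.fwd 4314],
   .loop none [.fwd 540, .fwd 4315, .fwd 2787],
   .loop none [.fwd 4316],
   .loop none [.bwd 2195, .fwd 4317, .fwd 2788],
   .loop none [.fwd 4318],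
   .loop none [.bwd 2789, .bwd 4319],
   .loop (some (8, 1)) [.fwd 3829, .fwd 3806, .fwd 4183],
   .loop (some (6, 1)) [.fwd 2290, .bwd 2826, .bwd 4010],
   .define,
   .define,
   .define,
   .define,
   .define,
   .loop (some (19, 5)) [.fwd 4029, .fwd 4323, .fwd 4324, .fwd 4325, .fwd 4326, .fwd 4327],
   .define,
   .define,
   .define,
   .loop (some (21, 5)) [.fwd 4327, .fwd 4328, .fwd 4029, .bwd 256, .bwd 4010, .fwd 4329, .fwd 4330, .fwd 4331],
   .loop (some (8, 1)) [.bwd 3955, .fwd 3859, .fwd 4323],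
   .loop (some (6, 1)) [.fwd 2220, .bwd 257, .bwd 4029],
   .loop (some (15, 0)) [.fwd 4095, .bwd 2405, .fwd 4053, .fwd 3859],
   .define,
   .define,
   .define,
   .define,
   .define,
   .define,
   .loop (some (19, 5)) [.fwd 2220, .fwd 4337, .fwd 4338, .fwd 4339, .fwd 4340, .fwd 4341],
   .define,
   .define,
   .define,
   .loop (some (21, 5)) [.fwd 4341, .fwd 4342, .fwd 2220, .fwd 2243, .bwd 2290, .fwd 4343, .fwd 4344, .fwd 4345],
   .loop (some (5, 1)) [.bwd 3718, .bwd 3730, .bwd 2220],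
   .loop (some (8, 1)) [.bwd 3718, .fwd 3229, .fwd 4337],
   .loop (some (14, 2)) [.bwd 4338, .bwd 4337, .bwd 2271, .fwd 4337],
   .define,
   .define,
   .loop (some (21, 4)) [.bwd 1056, .fwd 1186, .fwd 1186, .fwd 1186, .fwd 1056, .bwd 1532, .fwd 4350, .fwd 4351],
   .define,
   .loop (some (20, 2)) [.fwd 1938, .fwd 1939, .bwd 2195, .fwd 540, .fwd 2188, .fwd 1269, .fwd 1214, .fwd 4353],
   .loop (some (1, 1)) [.bwd 1350, .bwd 1056, .fwd 1214],
   .define,
   .define,
   .define,
   .loop (some (16, 4)) [.bwd 3384, .fwd 3383, .fwd 4356, .fwd 4357, .fwd 4358],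
   .define,
   .define,
   .define,
   .loop (some (17, 4)) [.bwd 3385, .fwd 3384, .fwd 4360, .fwd 4361, .fwd 4362],
   .loop (some (7, 3)) [.bwd 3385, .bwd 272, .bwd 3295, .fwd 1428],
   .loop none [.bwd 4364],
   .loop none [.fwd 4363, .bwd 4365],
   .loop none [.fwd 3385, .bwd 4365],
   .loop none [.fwd 3435, .bwd 4365],
   .loop none [.bwd 3324, .bwd 4365],
   .define,
   .define,
   .define,
   .define,
   .define,
   .define,
   .loop (some (20, 7)) [.fwd 4367, .fwd 3383, .fwd 4370, .fwd 4371, .fwd 4372, .fwd 4373, .fwd 4374, .fwd 4375],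
   .loop (some (2, 1)) [.bwd 3468, .fwd 3391, .fwd 3384],
   .loop (some (5, 3)) [.bwd 3383, .bwd 272, .bwd 3275, .fwd 2087],
   .loop none [.bwd 4378],
   .loop none [.fwd 3383, .bwd 4379],
   .loop none [.bwd 4356, .bwd 4379],
   .loop none [.bwd 4370, .bwd 4379],
   .loop none [.fwd 3433, .bwd 4379],
   .loop none [.bwd 3330, .bwd 4379],
   .loop (some (6, 3)) [.bwd 3384, .bwd 272, .bwd 3280, .fwd 302],
   .loop none [.bwd 4385],
   .loop none [.fwd 4359, .bwd 4386],
   .loop none [.fwd 3384, .bwd 4386],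
   .loop none [.bwd 4360, .bwd 4386],
   .loop none [.bwd 4377, .bwd 4386],
   .loop none [.fwd 3434, .bwd 4386],
   .loop none [.bwd 3332, .bwd 4386],
   .define,
   .define,
   .define,
   .define,
   .define,
   .define,
   .define,
   .define,
   .define,
   .define,
   .define,
   .define,
   .define,
   .define,
   .define,
   .define,
   .define,
   .define,
   .define,
   .define,
   .define,
   .define,
   .define,
   .define,
   .loop (some (22, 26)) [.fwd 1201, .fwd 1123, .bwd 281, .bwd 292, .fwd 3392, .bwd 4388, .fwd 4389, .fwd 4393, .fwd 4394, .fwd 4395, .fwd 4396, .fwd 4397, .fwd 4398, .fwd 4399, .fwd 4400, .fwd 4401, .fwd 4402, .fwd 4403, .fwd 4404, .fwd 4405, .fwd 4406, .fwd 4407, .fwd 4408, .fwd 4409, .fwd 4410, .fwd 4411, .fwd 4412, .fwd 4413, .fwd 4414, .fwd 4415, .fwd 4416],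
   .define,
   .define,
   .loop (some (15, 2)) [.fwd 3463, .fwd 3391, .fwd 4418, .fwd 4419],
   .loop (some (9, 2)) [.fwd 4380, .bwd 3381, .fwd 3274],
   .loop (some (10, 2)) [.fwd 4388, .bwd 3381, .fwd 3279],
   .define,
   .define,
   .define,
   .define,
   .loop (some (16, 4)) [.bwd 3468, .fwd 3466, .fwd 4424, .fwd 4425, .fwd 4426],
   .define,
   .define,
   .loop (some (17, 3)) [.fwd 3462, .fwd 3463, .fwd 3468, .fwd 4428, .fwd 4429],
   .loop (some (7, 3)) [.fwd 3463, .bwd 273, .bwd 4367, .fwd 1429],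
   .loop none [.bwd 4431],
   .loop none [.fwd 3462, .bwd 4432],
   .loop none [.bwd 3463, .bwd 4432],
   .loop none [.fwd 4420, .bwd 4432],
   .loop none [.bwd 3464, .bwd 4432],
   .define,
   .define,
   .define,
   .define,
   .loop (some (20, 5)) [.fwd 4419, .bwd 4435, .fwd 4434, .fwd 3466, .fwd 4437, .fwd 4438, .fwd 4439, .fwd 4440],
   .loop (some (5, 3)) [.bwd 3466, .bwd 273, .bwd 4380, .fwd 2088],
   .loop none [.bwd 4442],
   .loop none [.fwd 3466, .bwd 4443],
   .loop none [.bwd 4424, .bwd 4443],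
   .loop none [.bwd 4437, .bwd 4443],
   .loop none [.bwd 3467, .bwd 4443],
   .loop (some (6, 3)) [.bwd 3468, .bwd 273, .bwd 4388, .fwd 303],
   .loop none [.bwd 4448],
   .loop none [.fwd 4427, .bwd 4449],
   .loop none [.fwd 3468, .bwd 4449],
   .loop none [.bwd 4428, .bwd 4449],
   .loop none [.fwd 4390, .bwd 4449],
   .loop none [.bwd 3469, .bwd 4449],
   .define,
   .define,
   .define,
   .define,
   .define,
   .define,
   .define,
   .define,
   .define,
   .define,
   .define,
   .define,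
   .define,
   .define,
   .define,
   .define,
   .define,
   .define,
   .define,
   .define,
   .define,
   .define,
   .define,
   .define,
   .define,
   .loop (some (22, 27)) [.fwd 3341, .fwd 3295, .bwd 3378, .fwd 283, .bwd 4451, .fwd 4452, .fwd 4455, .fwd 4456, .fwd 4457, .fwd 4458, .fwd 4459, .fwd 4460, .fwd 4461, .fwd 4462, .fwd 4463, .fwd 4464, .fwd 4465, .fwd 4466, .fwd 4467, .fwd 4468, .fwd 4469, .fwd 4470, .fwd 4471, .fwd 4472, .fwd 4473, .fwd 4474, .fwd 4475, .fwd 4476, .fwd 4477, .fwd 4478, .fwd 4479],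
   .loop (some (9, 2)) [.fwd 4444, .bwd 3362, .bwd 3275],
   .loop (some (10, 2)) [.fwd 4451, .bwd 3362, .bwd 3280],
   .define,
   .define,
   .define,
   .define,
   .loop (some (16, 4)) [.bwd 3279, .fwd 3274, .fwd 4484, .fwd 4485, .fwd 4486],
   .define,
   .define,
   .loop (some (17, 3)) [.bwd 3390, .bwd 3263, .fwd 3279, .fwd 4488, .fwd 4489],
   .define,
   .define,
   .define,
   .define,
   .loop (some (20, 5)) [.fwd 3421, .fwd 3422, .bwd 3263, .fwd 3274, .fwd 4491, .fwd 4492, .fwd 4493, .fwd 4494],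
   .define,
   .define,
   .define,
   .define]

theorem just17_len : just17.length = 250 := by decide +kernel

theorem just17_ok : cert.okFacts 4250 just17 = true := by decide +kernel

/-- justifications -/
noncomputable def just18 : List Cert.Just :=
  [.define,
   .define,
   .define,
   .define,
   .define,
   .define,
   .define,
   .define,
   .define,
   .define,
   .define,
   .define,
   .define,
   .define,
   .define,
   .define,
   .define,
   .define,
   .define,
   .define,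
   .define,
   .loop (some (22, 27)) [.bwd 4366, .fwd 4367, .bwd 3391, .bwd 283, .fwd 3279, .fwd 4488, .fwd 4496, .fwd 4497, .fwd 4498, .fwd 4499, .fwd 4500, .fwd 4501, .fwd 4502, .fwd 4503, .fwd 4504, .fwd 4505, .fwd 4506, .fwd 4507, .fwd 4508, .fwd 4509, .fwd 4510, .fwd 4511, .fwd 4512, .fwd 4513, .fwd 4514, .fwd 4515, .fwd 4516, .fwd 4517, .fwd 4518, .fwd 4519, .fwd 4520],
   .loop (some (15, 0)) [.fwd 3355, .fwd 3356, .fwd 3295, .bwd 3378],
   .loop (some (9, 2)) [.bwd 3274, .fwd 3382, .fwd 290],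
   .loop (some (10, 2)) [.bwd 3279, .fwd 3382, .fwd 293],
   .define,
   .define,
   .define,
   .define,
   .loop (some (19, 5)) [.fwd 2123, .bwd 3261, .bwd 3260, .fwd 4526, .fwd 4527, .fwd 4528],
   .loop (some (7, 1)) [.bwd 3178, .fwd 3185, .bwd 2123],
   .loop (some (21, 5)) [.fwd 4528, .fwd 4529, .fwd 2123, .bwd 2128, .bwd 3138, .fwd 2128, .bwd 2123, .bwd 4529],
   .loop (some (8, 1)) [.fwd 2123, .fwd 3184, .bwd 3261],
   .define,
   .define,
   .define,
   .loop (some (19, 5)) [.fwd 316, .bwd 3233, .bwd 3232, .fwd 4533, .fwd 4534, .fwd 4535],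
   .loop (some (21, 5)) [.fwd 4535, .fwd 4536, .fwd 316, .bwd 3162, .bwd 3163, .fwd 3162, .bwd 316, .bwd 4536],
   .loop (some (8, 1)) [.fwd 316, .fwd 2072, .bwd 3233],
   .define,
   .define,
   .loop (some (16, 3)) [.bwd 1118, .fwd 1123, .fwd 1433, .fwd 4539, .fwd 4540],
   .loop (some (2, 2)) [.fwd 1459, .bwd 1123, .bwd 1017],
   .define,
   .loop (some (5, 2)) [.bwd 1433, .bwd 1431, .fwd 4543],
   .loop (some (1, 2)) [.bwd 1206, .fwd 1433, .fwd 1345],
   .define,
   .define,
   .loop (some (18, 3)) [.fwd 3356, .bwd 1206, .bwd 1459, .fwd 4546, .fwd 4547],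
   .loop (some (6, 2)) [.fwd 1104, .fwd 1123, .bwd 1431, .fwd 3390],
   .loop none [.fwd 4549],
   .loop none [.fwd 3390, .bwd 4550],
   .loop none [.fwd 4490, .bwd 4550],
   .loop none [.bwd 1191, .fwd 4550, .bwd 3320],
   .loop none [.fwd 4553],
   .loop none [.fwd 3319, .bwd 4554],
   .loop (some (3, 2)) [.fwd 3341, .bwd 1206, .bwd 1123, .bwd 1201],
   .loop none [.bwd 4556],
   .loop none [.bwd 3341, .bwd 4557],
   .loop none [.fwd 3340, .bwd 4557],
   .loop none [.bwd 1201, .fwd 4557, .bwd 4480],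
   .loop none [.fwd 4560],
   .loop none [.fwd 1017, .fwd 4561, .bwd 4479],
   .loop none [.fwd 4562],
   .loop none [.fwd 4478, .bwd 4563],
   .loop (some (12, 2)) [.fwd 1459, .bwd 4369, .bwd 4376],
   .define,
   .define,
   .define,
   .define,
   .define,
   .define,
   .define,
   .define,
   .define,
   .define,
   .define,
   .define,
   .define,
   .define,
   .define,
   .define,
   .define,
   .define,
   .define,
   .define,
   .define,
   .define,
   .define,
   .define,
   .define,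
   .loop (some (22, 28)) [.fwd 3355, .fwd 3356, .bwd 1206, .bwd 1123, .fwd 1110, .bwd 1886, .fwd 4566, .fwd 4567, .fwd 4568, .fwd 4569, .fwd 4570, .fwd 4571, .fwd 4572, .fwd 4573, .fwd 4574, .fwd 4575, .fwd 4576, .fwd 4577, .fwd 4578, .fwd 4579, .fwd 4580, .fwd 4581, .fwd 4582, .fwd 4583, .fwd 4584, .fwd 4585, .fwd 4586, .fwd 4587, .fwd 4588, .fwd 4589, .fwd 4590],
   .loop (some (15, 0)) [.fwd 3270, .fwd 3271, .fwd 3272, .fwd 1459],
   .define,
   .loop (some (9, 2)) [.bwd 1433, .bwd 4369, .fwd 4593],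
   .loop (some (10, 2)) [.fwd 1123, .bwd 4369, .fwd 4366],
   .define,
   .define,
   .define,
   .loop (some (19, 4)) [.fwd 4544, .bwd 1344, .bwd 1347, .bwd 1346, .fwd 4597, .fwd 4598],
   .loop (some (8, 1)) [.bwd 1444, .fwd 1296, .bwd 1347],
   .loop (some (6, 2)) [.fwd 1532, .fwd 1351, .fwd 1344, .fwd 4539],
   .loop none [.fwd 4601],
   .loop none [.bwd 4540, .bwd 4602],
   .loop none [.fwd 4539, .bwd 4602],
   .loop (some (14, 2)) [.fwd 1346, .fwd 1347, .bwd 1369, .bwd 1347],
   .define,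
   .define,
   .define,
   .define,
   .define,
   .loop (some (19, 5)) [.fwd 1506, .fwd 4606, .fwd 4607, .fwd 4608, .fwd 4609, .fwd 4610],
   .define,
   .define,
   .define,
   .define,
   .loop (some (16, 4)) [.fwd 1467, .fwd 4612, .fwd 4613, .fwd 4614, .fwd 4615],
   .define,
   .define,
   .define,
   .loop (some (21, 5)) [.fwd 4610, .fwd 4611, .fwd 1506, .bwd 1476, .bwd 1443, .fwd 4617, .fwd 4618, .fwd 4619],
   .loop (some (20, 1)) [.bwd 288, .fwd 1300, .fwd 1296, .bwd 1248, .fwd 1249, .fwd 1248, .bwd 1296, .bwd 1300, .fwd 4612],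
   .loop none [.fwd 4621],
   .loop none [.fwd 4612, .bwd 4622],
   .loop none [.bwd 1033, .fwd 4622, .fwd 4613],
   .loop none [.fwd 4624],
   .loop none [.bwd 4614, .bwd 4625],
   .loop (some (2, 2)) [.bwd 1033, .bwd 288, .bwd 1467, .fwd 1470],
   .loop none [.bwd 4627],
   .loop none [.bwd 4626, .bwd 4628],
   .loop none [.fwd 1033, .bwd 4628],
   .loop none [.fwd 745, .fwd 4628, .fwd 867],
   .loop none [.bwd 4631],
   .loop none [.fwd 1470, .fwd 4628, .bwd 926],
   .loop none [.fwd 4633],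
   .loop none [.bwd 1555, .fwd 4628, .bwd 1471],
   .loop none [.bwd 4635],
   .loop none [.fwd 915, .bwd 4628],
   .loop none [.bwd 29, .fwd 4632, .bwd 1236],
   .loop none [.fwd 4638],
   .loop none [.bwd 745, .bwd 4632],
   .loop none [.bwd 789, .fwd 4632, .bwd 744],
   .loop none [.fwd 4641],
   .loop none [.bwd 940, .fwd 4632, .bwd 831],
   .loop none [.bwd 4643],
   .loop none [.fwd 1477, .fwd 4634, .bwd 925],
   .loop none [.fwd 4645],
   .loop none [.bwd 968, .bwd 4634],
   .loop none [.bwd 4647, .fwd 4636, .bwd 1555],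
   .loop none [.bwd 4648],
   .loop none [.fwd 863, .fwd 4639, .bwd 1235],
   .loop none [.fwd 4650],
   .loop none [.fwd 895, .fwd 4642, .bwd 743],
   .loop none [.bwd 4652],
   .loop none [.fwd 940, .bwd 4644],
   .loop none [.fwd 800, .fwd 4646, .bwd 1391],
   .loop none [.fwd 4655],
   .loop none [.fwd 27, .fwd 4646, .bwd 924],
   .loop none [.fwd 4657],
   .loop none [.fwd 4647, .bwd 4649],
   .loop none [.bwd 65, .fwd 4651, .bwd 1234],
   .loop none [.fwd 4660],
   .loop none [.fwd 894, .bwd 4653],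
   .loop none [.bwd 895, .bwd 4653],
   .loop none [.fwd 742, .fwd 4653, .bwd 937],
   .loop none [.fwd 4664],
   .loop none [.bwd 863, .fwd 4656, .bwd 1390],
   .loop none [.fwd 4666],
   .loop none [.fwd 26, .fwd 4658, .bwd 923],
   .loop none [.fwd 4668],
   .loop none [.bwd 796, .fwd 4661, .bwd 1233],
   .loop none [.fwd 4670],
   .loop none [.fwd 855, .fwd 4665, .bwd 936],
   .loop none [.fwd 4672],
   .loop none [.bwd 927, .fwd 4667, .bwd 1389],
   .loop none [.fwd 4674],
   .loop none [.bwd 715, .fwd 4669, .bwd 922],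
   .loop none [.fwd 4676],
   .loop none [.fwd 2051, .fwd 4671, .bwd 1232],
   .loop none [.fwd 4678],
   .loop none [.fwd 935, .bwd 4673],
   .loop none [.bwd 662, .fwd 4675, .bwd 1388],
   .loop none [.fwd 4681],
   .loop none [.bwd 430, .fwd 4677, .bwd 921],
   .loop none [.fwd 4683],
   .loop none [.bwd 2055, .fwd 4679, .bwd 1231],
   .loop none [.fwd 4685],
   .loop none [.fwd 1580, .fwd 4682, .bwd 1387],
   .loop none [.bwd 4687],
   .loop none [.bwd 431, .fwd 4684, .bwd 920],
   .loop none [.fwd 4689],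
   .loop none [.fwd 514, .fwd 4686, .bwd 1230],
   .loop none [.fwd 4691],
   .loop none [.bwd 1580, .bwd 4688],
   .loop none [.bwd 860, .bwd 4690],
   .loop none [.bwd 907, .bwd 4690],
   .loop none [.bwd 432, .fwd 4690, .bwd 859],
   .loop none [.fwd 4696],
   .loop none [.fwd 929, .bwd 4690],
   .loop none [.fwd 4690, .bwd 938, .bwd 4690],
   .loop none [.fwd 513, .fwd 4692, .bwd 1229],
   .loop none [.fwd 4700],
   .loop none [.fwd 840, .bwd 4697],
   .loop none [.bwd 433, .fwd 4697, .fwd 841],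
   .loop none [.fwd 4703],
   .loop none [.bwd 854, .bwd 4697],
   .loop none [.fwd 857, .bwd 4697],
   .loop none [.fwd 4697, .bwd 898, .bwd 4697],
   .loop none [.bwd 4300, .bwd 4701],
   .loop none [.fwd 989, .fwd 4701, .bwd 1228],
   .loop none [.fwd 4709],
   .loop none [.fwd 512, .fwd 4701, .fwd 4301],
   .loop none [.fwd 4711],
   .loop none [.bwd 4306, .bwd 4701],
   .loop none [.bwd 4302, .bwd 4701],
   .loop none [.fwd 4701, .bwd 4303, .bwd 4701],
   .loop none [.bwd 842, .bwd 4704],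
   .loop none [.bwd 4291, .bwd 4710],
   .loop none [.bwd 4309, .bwd 4710],
   .loop none [.bwd 4294, .bwd 4710],
   .loop none [.fwd 988, .fwd 4710, .bwd 1227],
   .loop none [.fwd 4720],
   .loop none [.bwd 4295, .bwd 4710],
   .loop none [.fwd 4710, .bwd 4296, .bwd 4710],
   .loop none [.fwd 511, .fwd 4712, .fwd 3601],
   .loop none [.bwd 4724],
   .loop none [.bwd 4275, .bwd 4721],
   .loop none [.bwd 4276, .bwd 4721],
   .loop none [.fwd 4289, .bwd 4721],
   .loop none [.fwd 987, .fwd 4721, .bwd 1226],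
   .loop none [.fwd 4729],
   .loop none [.bwd 4281, .bwd 4721],
   .loop none [.bwd 511, .bwd 4725],
   .loop none [.bwd 3525, .fwd 4725, .bwd 2065],
   .loop none [.bwd 4733],
   .loop none [.bwd 3691, .bwd 4730],
   .loop none [.fwd 986, .fwd 4730, .bwd 1225],
   .loop none [.fwd 4736],
   .loop none [.bwd 2064, .fwd 4734, .fwd 3526],
   .loop none [.bwd 4738],
   .loop none [.fwd 3525, .bwd 4734],
   .loop none [.fwd 985, .fwd 4737, .bwd 1224],
   .loop none [.fwd 4741],
   .loop none [.bwd 3687, .bwd 4737],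
   .loop none [.bwd 3688, .bwd 4737],
   .loop none [.bwd 3689, .bwd 4737],
   .loop none [.fwd 4737, .bwd 3690, .bwd 4737],
   .loop none [.fwd 2064, .bwd 4739],
   .loop none [.bwd 568, .fwd 4739, .bwd 645],
   .loop none [.fwd 4748]]

theorem just18_len : just18.length = 250 := by decide +kernel

theorem just18_ok : cert.okFacts 4500 just18 = true := by decide +kernel

/-- justifications -/
noncomputable def just19 : List Cert.Just :=
  [.loop none [.bwd 4035, .bwd 4742],
   .loop none [.bwd 3683, .bwd 4742],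
   .loop none [.fwd 984, .fwd 4742, .bwd 3152],
   .loop none [.fwd 4752],
   .loop none [.bwd 3684, .bwd 4742],
   .loop none [.fwd 4742, .bwd 3695, .bwd 4742],
   .loop none [.bwd 4036, .bwd 4742],
   .loop none [.fwd 3892, .fwd 4749, .fwd 632],
   .loop none [.bwd 4757],
   .loop none [.bwd 650, .bwd 4749],
   .loop none [.fwd 648, .bwd 4749],
   .loop none [.fwd 1090, .bwd 4753],
   .loop none [.bwd 1091, .bwd 4753],
   .loop none [.fwd 983, .fwd 4753, .fwd 3151],
   .loop none [.fwd 4763],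
   .loop none [.bwd 3892, .bwd 4758],
   .loop none [.fwd 3891, .bwd 4758],
   .loop none [.fwd 3177, .bwd 4764],
   .loop none [.fwd 4764, .bwd 3150, .bwd 4764],
   .loop (some (5, 1)) [.fwd 1443, .fwd 4623, .bwd 1506],
   .loop (some (8, 1)) [.fwd 3432, .fwd 1443, .bwd 288, .fwd 4606],
   .loop none [.fwd 4770],
   .loop none [.bwd 4607, .bwd 4771],
   .loop none [.fwd 4606, .bwd 4771],
   .loop (some (6, 1)) [.bwd 1472, .fwd 1467, .bwd 1506],
   .loop (some (14, 2)) [.bwd 4772, .fwd 4773, .bwd 1513, .bwd 4773],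
   .loop (some (15, 0)) [.bwd 299, .fwd 235, .fwd 61, .bwd 289, .bwd 288],
   .loop none [.bwd 4776],
   .loop none [.fwd 299, .bwd 4777],
   .define,
   .define,
   .define,
   .define,
   .define,
   .loop (some (19, 5)) [.fwd 1443, .fwd 4779, .fwd 4780, .fwd 4781, .fwd 4782, .fwd 4783],
   .define,
   .define,
   .define,
   .loop (some (21, 5)) [.fwd 4783, .fwd 4784, .fwd 1443, .fwd 1476, .bwd 1506, .fwd 4785, .fwd 4786, .fwd 4787],
   .loop (some (8, 1)) [.fwd 1506, .fwd 288, .fwd 4779],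
   .loop (some (6, 1)) [.bwd 4637, .fwd 4630, .bwd 1443],
   .loop (some (14, 2)) [.bwd 4780, .bwd 4779, .bwd 1495, .fwd 4779],
   .loop (some (15, 0)) [.bwd 2106, .fwd 1248, .bwd 1296, .bwd 1300, .fwd 288],
   .loop none [.bwd 4792],
   .loop none [.fwd 2106, .bwd 4793],
   .loop (some (7, 1)) [.fwd 4544, .bwd 2098, .bwd 2090],
   .loop (some (2, 2)) [.bwd 3424, .fwd 2100, .fwd 2101, .bwd 2124],
   .loop none [.bwd 4796],
   .loop none [.bwd 3425, .bwd 4797],
   .loop none [.fwd 3424, .bwd 4797],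
   .loop (some (18, 3)) [.bwd 3350, .bwd 1272, .bwd 2100, .bwd 4383, .fwd 4382],
   .loop (some (6, 2)) [.fwd 2112, .bwd 2101, .bwd 2090, .fwd 4484],
   .loop none [.fwd 4801],
   .loop none [.bwd 4485, .bwd 4802],
   .loop none [.fwd 4484, .bwd 4802],
   .loop (some (3, 2)) [.bwd 3334, .bwd 1272, .fwd 2101, .fwd 3096],
   .loop none [.bwd 4805],
   .loop none [.bwd 3335, .bwd 4806],
   .loop none [.fwd 3334, .bwd 4806],
   .loop (some (12, 2)) [.fwd 4447, .fwd 2100, .bwd 4384, .fwd 4382],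
   .loop none [.fwd 4809],
   .loop none [.bwd 4371, .bwd 4810],
   .loop none [.bwd 4446, .fwd 4810, .bwd 4382],
   .loop none [.bwd 4812],
   .loop none [.fwd 2099, .fwd 4810, .fwd 4800],
   .loop none [.fwd 4814],
   .loop none [.bwd 4438, .bwd 4813],
   .loop none [.fwd 4446, .bwd 4813],
   .loop none [.bwd 4795, .fwd 4815, .fwd 3351],
   .loop none [.bwd 4818],
   .loop none [.bwd 4491, .fwd 4815, .bwd 3350],
   .loop none [.bwd 4820],
   .loop none [.fwd 4543, .bwd 4819],
   .loop none [.fwd 4795, .bwd 4819],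
   .loop none [.bwd 4544, .bwd 4819],
   .loop none [.fwd 4599, .bwd 4819],
   .loop none [.bwd 4492, .bwd 4821],
   .loop none [.fwd 4491, .bwd 4821],
   .loop (some (4, 2)) [.bwd 4826, .bwd 1272, .fwd 2098, .fwd 1345],
   .loop none [.bwd 4828],
   .loop none [.fwd 4826, .bwd 4829],
   .loop none [.bwd 4493, .bwd 4829],
   .define,
   .define,
   .define,
   .define,
   .define,
   .define,
   .define,
   .define,
   .define,
   .define,
   .define,
   .define,
   .define,
   .define,
   .define,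
   .define,
   .define,
   .define,
   .define,
   .define,
   .define,
   .define,
   .define,
   .define,
   .define,
   .loop (some (22, 28)) [.fwd 4823, .bwd 4827, .bwd 1272, .fwd 2101, .fwd 2113, .bwd 2230, .fwd 4832, .fwd 4833, .fwd 4834, .fwd 4835, .fwd 4836, .fwd 4837, .fwd 4838, .fwd 4839, .fwd 4840, .fwd 4841, .fwd 4842, .fwd 4843, .fwd 4844, .fwd 4845, .fwd 4846, .fwd 4847, .fwd 4848, .fwd 4849, .fwd 4850, .fwd 4851, .fwd 4852, .fwd 4853, .fwd 4854, .fwd 4855, .fwd 4856],
   .loop (some (11, 2)) [.fwd 4594, .bwd 2098, .bwd 4384, .fwd 4816],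
   .loop none [.bwd 4858],
   .loop none [.fwd 4593, .bwd 4859],
   .loop none [.bwd 4594, .bwd 4859],
   .loop (some (15, 0)) [.bwd 3270, .bwd 3269, .bwd 3268, .fwd 2100],
   .loop (some (10, 2)) [.bwd 2101, .bwd 4384, .fwd 4381],
   .define,
   .loop (some (7, 2)) [.fwd 326, .bwd 306, .bwd 305, .fwd 4488],
   .loop none [.fwd 4865],
   .loop none [.bwd 4489, .bwd 4866],
   .loop none [.fwd 4488, .bwd 4866],
   .loop none [.bwd 4496, .bwd 4866],
   .define,
   .define,
   .define,
   .define,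
   .loop (some (20, 6)) [.fwd 417, .bwd 306, .fwd 315, .bwd 4538, .fwd 4870, .fwd 4871, .fwd 4872, .fwd 4873],
   .loop (some (5, 2)) [.fwd 4536, .bwd 315, .bwd 305, .bwd 4487],
   .loop none [.bwd 4875],
   .loop none [.bwd 4537, .bwd 4876],
   .loop none [.bwd 4536, .bwd 4876],
   .loop (some (1, 2)) [.fwd 3337, .bwd 1405, .fwd 315, .fwd 3231],
   .loop none [.bwd 4879],
   .loop none [.bwd 3337, .bwd 4880],
   .loop none [.fwd 3336, .bwd 4880],
   .loop (some (4, 2)) [.bwd 3338, .bwd 1405, .fwd 306, .fwd 1956],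
   .loop none [.bwd 4883],
   .loop none [.bwd 3339, .bwd 4884],
   .loop none [.fwd 3338, .bwd 4884],
   .loop none [.bwd 3393, .bwd 4884],
   .define,
   .define,
   .define,
   .define,
   .define,
   .define,
   .define,
   .define,
   .define,
   .define,
   .define,
   .define,
   .define,
   .define,
   .define,
   .define,
   .define,
   .define,
   .define,
   .define,
   .define,
   .define,
   .define,
   .loop (some (22, 27)) [.bwd 4867, .fwd 4868, .fwd 3389, .bwd 1405, .bwd 293, .fwd 281, .bwd 1459, .fwd 4546, .fwd 4888, .fwd 4889, .fwd 4890, .fwd 4891, .fwd 4892, .fwd 4893, .fwd 4894, .fwd 4895, .fwd 4896, .fwd 4897, .fwd 4898, .fwd 4899, .fwd 4900, .fwd 4901, .fwd 4902, .fwd 4903, .fwd 4904, .fwd 4905, .fwd 4906, .fwd 4907, .fwd 4908, .fwd 4909, .fwd 4910],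
   .loop (some (11, 2)) [.bwd 306, .bwd 4392, .fwd 4389],
   .loop (some (9, 2)) [.bwd 315, .bwd 4392, .fwd 4387],
   .loop (some (7, 3)) [.bwd 3428, .bwd 300, .fwd 18, .fwd 321],
   .loop none [.bwd 4914],
   .loop none [.bwd 3429, .bwd 4915],
   .loop none [.fwd 3428, .bwd 4915],
   .loop none [.bwd 345, .fwd 4915, .fwd 3436],
   .loop none [.fwd 4918],
   .loop none [.bwd 475, .fwd 4919, .fwd 3437],
   .loop none [.fwd 4920],
   .loop none [.bwd 3438, .bwd 4921],
   .define,
   .define,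
   .define,
   .define,
   .loop (some (20, 5)) [.bwd 406, .bwd 345, .fwd 4917, .bwd 3427, .fwd 4923, .fwd 4924, .fwd 4925, .fwd 4926],
   .loop (some (5, 3)) [.fwd 3427, .bwd 300, .bwd 278, .bwd 3233],
   .loop none [.bwd 4928],
   .loop none [.bwd 3427, .bwd 4929],
   .loop none [.fwd 3426, .bwd 4929],
   .loop none [.bwd 4538, .fwd 4929, .fwd 4923],
   .loop none [.fwd 4932],
   .loop none [.fwd 3509, .fwd 4933, .fwd 4924],
   .loop none [.fwd 4934],
   .loop none [.bwd 1983, .fwd 4935, .fwd 4925],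
   .loop none [.fwd 4936],
   .loop none [.bwd 4926, .bwd 4937],
   .loop (some (1, 1)) [.bwd 4387, .fwd 4391, .bwd 4930],
   .loop (some (4, 1)) [.bwd 4389, .fwd 4391, .bwd 4917],
   .define,
   .define,
   .define,
   .define,
   .define,
   .define,
   .define,
   .define,
   .define,
   .define,
   .define,
   .define,
   .define,
   .define,
   .define,
   .define,
   .define,
   .define,
   .define,
   .define,
   .define,
   .define,
   .define,
   .loop (some (22, 27)) [.bwd 4429, .bwd 4452, .fwd 4453, .fwd 4391, .fwd 3273, .bwd 3344, .fwd 1434, .fwd 1507, .fwd 4941, .fwd 4942, .fwd 4943, .fwd 4944, .fwd 4945, .fwd 4946, .fwd 4947, .fwd 4948, .fwd 4949, .fwd 4950, .fwd 4951, .fwd 4952, .fwd 4953, .fwd 4954, .fwd 4955, .fwd 4956, .fwd 4957, .fwd 4958, .fwd 4959, .fwd 4960, .fwd 4961, .fwd 4962, .fwd 4963],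
   .loop (some (11, 2)) [.fwd 4917, .bwd 4454, .fwd 4452],
   .loop (some (9, 2)) [.fwd 4930, .bwd 4454, .fwd 4450],
   .define,
   .define,
   .define,
   .define,
   .define,
   .loop (some (20, 6)) [.bwd 4887, .fwd 4886, .bwd 4881, .fwd 4967, .fwd 4968, .fwd 4969, .fwd 4970, .fwd 4971],
   .define,
   .define,
   .define,
   .define,
   .define,
   .define,
   .define,
   .define,
   .define,
   .define,
   .define,
   .define,
   .define,
   .define,
   .define,
   .define,
   .define,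
   .define,
   .define,
   .define,
   .define,
   .define,
   .define,
   .loop (some (22, 27)) [.bwd 4916, .fwd 4917, .fwd 317, .fwd 1405, .fwd 3280, .bwd 3295, .bwd 3356, .bwd 4548, .fwd 4973, .fwd 4974, .fwd 4975, .fwd 4976, .fwd 4977, .fwd 4978, .fwd 4979, .fwd 4980, .fwd 4981, .fwd 4982, .fwd 4983, .fwd 4984, .fwd 4985, .fwd 4986, .fwd 4987, .fwd 4988, .fwd 4989, .fwd 4990, .fwd 4991, .fwd 4992, .fwd 4993, .fwd 4994, .fwd 4995],
   .define,
   .loop (some (15, 1)) [.bwd 4869, .fwd 4868, .fwd 3389, .fwd 4997],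
   .loop (some (7, 3)) [.bwd 4389, .bwd 302, .bwd 4886, .fwd 323]]

theorem just19_len : just19.length = 250 := by decide +kernel

theorem just19_ok : cert.okFacts 4750 just19 = true := by decide +kernel

/-- justifications -/
noncomputable def just20 : List Cert.Just :=
  [.loop none [.bwd 4999],
   .loop none [.bwd 4361, .bwd 5000],
   .loop none [.fwd 4389, .bwd 5000],
   .loop none [.bwd 4393, .bwd 5000],
   .loop none [.fwd 4940, .bwd 5000],
   .loop none [.bwd 4912, .bwd 5000],
   .define,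
   .define,
   .define,
   .define,
   .define,
   .loop (some (20, 6)) [.bwd 5003, .fwd 5002, .fwd 4387, .fwd 5006, .fwd 5007, .fwd 5008, .fwd 5009, .fwd 5010],
   .loop (some (5, 3)) [.bwd 4387, .bwd 302, .bwd 4881, .fwd 4533],
   .loop none [.fwd 5012],
   .loop none [.bwd 4534, .bwd 5013],
   .define,
   .define,
   .define,
   .define,
   .define,
   .define,
   .define,
   .define,
   .define,
   .define,
   .define,
   .define,
   .define,
   .define,
   .define,
   .define,
   .define,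
   .define,
   .define,
   .define,
   .define,
   .define,
   .define,
   .loop (some (22, 26)) [.bwd 1937, .bwd 350, .bwd 306, .bwd 317, .bwd 4391, .fwd 4388, .bwd 4367, .bwd 4376, .fwd 5015, .fwd 5016, .fwd 5017, .fwd 5018, .fwd 5019, .fwd 5020, .fwd 5021, .fwd 5022, .fwd 5023, .fwd 5024, .fwd 5025, .fwd 5026, .fwd 5027, .fwd 5028, .fwd 5029, .fwd 5030, .fwd 5031, .fwd 5032, .fwd 5033, .fwd 5034, .fwd 5035, .fwd 5036, .fwd 5037],
   .loop (some (11, 2)) [.fwd 5002, .bwd 4422, .bwd 4868],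
   .define,
   .loop (some (15, 1)) [.bwd 4455, .bwd 4452, .fwd 4453, .fwd 5040],
   .loop (some (7, 3)) [.bwd 4452, .bwd 303, .bwd 5002, .fwd 324],
   .loop none [.bwd 5042],
   .loop none [.bwd 4429, .bwd 5043],
   .loop none [.fwd 4452, .bwd 5043],
   .loop none [.bwd 4455, .bwd 5043],
   .loop none [.bwd 4965, .bwd 5043],
   .define,
   .define,
   .define,
   .define,
   .loop (some (20, 5)) [.fwd 5041, .bwd 5046, .fwd 5045, .fwd 4450, .fwd 5048, .fwd 5049, .fwd 5050, .fwd 5051],
   .loop (some (5, 3)) [.bwd 4450, .bwd 303, .fwd 4387, .fwd 5014],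
   .loop none [.fwd 5053],
   .loop none [.fwd 4877, .bwd 5054],
   .define,
   .define,
   .define,
   .define,
   .define,
   .define,
   .define,
   .define,
   .define,
   .define,
   .define,
   .define,
   .define,
   .define,
   .define,
   .define,
   .define,
   .define,
   .define,
   .define,
   .define,
   .define,
   .define,
   .define,
   .loop (some (22, 27)) [.bwd 4885, .fwd 4886, .bwd 3389, .fwd 308, .fwd 4451, .bwd 4434, .fwd 4435, .fwd 5056, .fwd 5057, .fwd 5058, .fwd 5059, .fwd 5060, .fwd 5061, .fwd 5062, .fwd 5063, .fwd 5064, .fwd 5065, .fwd 5066, .fwd 5067, .fwd 5068, .fwd 5069, .fwd 5070, .fwd 5071, .fwd 5072, .fwd 5073, .fwd 5074, .fwd 5075, .fwd 5076, .fwd 5077, .fwd 5078, .fwd 5079],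
   .loop (some (11, 2)) [.fwd 5045, .bwd 4482, .bwd 4886],
   .define,
   .define,
   .define,
   .define,
   .loop (some (20, 5)) [.fwd 4998, .bwd 4869, .fwd 4868, .bwd 4487, .fwd 5082, .fwd 5083, .fwd 5084, .fwd 5085],
   .define,
   .define,
   .define,
   .define,
   .define,
   .define,
   .define,
   .define,
   .define,
   .define,
   .define,
   .define,
   .define,
   .define,
   .define,
   .define,
   .define,
   .define,
   .define,
   .define,
   .define,
   .define,
   .define,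
   .define,
   .loop (some (22, 27)) [.bwd 5001, .fwd 5002, .bwd 4453, .bwd 308, .bwd 3279, .fwd 3263, .bwd 3422, .fwd 5087, .fwd 5088, .fwd 5089, .fwd 5090, .fwd 5091, .fwd 5092, .fwd 5093, .fwd 5094, .fwd 5095, .fwd 5096, .fwd 5097, .fwd 5098, .fwd 5099, .fwd 5100, .fwd 5101, .fwd 5102, .fwd 5103, .fwd 5104, .fwd 5105, .fwd 5106, .fwd 5107, .fwd 5108, .fwd 5109, .fwd 5110],
   .loop (some (11, 2)) [.fwd 4868, .bwd 4524, .fwd 306],
   .loop (some (16, 3)) [.bwd 1928, .bwd 350, .fwd 343, .fwd 3512, .fwd 3527],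
   .loop (some (2, 2)) [.fwd 417, .fwd 350, .bwd 1886],
   .loop (some (5, 1)) [.fwd 3474, .bwd 343, .bwd 326],
   .loop (some (1, 2)) [.bwd 1956, .fwd 343, .fwd 3234],
   .loop (some (18, 2)) [.bwd 3394, .bwd 4887, .bwd 1956, .bwd 417, .fwd 3296],
   .loop (some (6, 2)) [.fwd 1922, .bwd 350, .bwd 326, .fwd 4867],
   .loop none [.fwd 5118],
   .loop none [.fwd 4867, .bwd 5119],
   .loop none [.fwd 4552, .bwd 5119],
   .loop none [.bwd 1923, .fwd 5119, .bwd 4911],
   .loop none [.fwd 5122],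
   .loop none [.fwd 4910, .bwd 5123],
   .loop (some (3, 2)) [.bwd 4885, .bwd 1956, .fwd 350, .fwd 1937],
   .loop none [.bwd 5125],
   .loop none [.fwd 4885, .bwd 5126],
   .loop none [.fwd 4559, .bwd 5126],
   .loop none [.fwd 1937, .fwd 5126, .bwd 5080],
   .loop none [.fwd 5129],
   .loop none [.fwd 1886, .fwd 5130, .bwd 5079],
   .loop none [.fwd 5131],
   .loop none [.fwd 5078, .bwd 5132],
   .loop (some (12, 2)) [.fwd 417, .bwd 5005, .fwd 5003],
   .define,
   .define,
   .define,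
   .define,
   .define,
   .define,
   .define,
   .define,
   .define,
   .define,
   .define,
   .define,
   .define,
   .define,
   .define,
   .define,
   .define,
   .define,
   .define,
   .define,
   .define,
   .define,
   .define,
   .define,
   .define,
   .loop (some (22, 28)) [.fwd 4972, .bwd 4887, .bwd 1956, .fwd 350, .bwd 1110, .bwd 1017, .fwd 5135, .fwd 5136, .fwd 5137, .fwd 5138, .fwd 5139, .fwd 5140, .fwd 5141, .fwd 5142, .fwd 5143, .fwd 5144, .fwd 5145, .fwd 5146, .fwd 5147, .fwd 5148, .fwd 5149, .fwd 5150, .fwd 5151, .fwd 5152, .fwd 5153, .fwd 5154, .fwd 5155, .fwd 5156, .fwd 5157, .fwd 5158, .fwd 5159],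
   .define,
   .loop (some (9, 2)) [.bwd 343, .bwd 5005, .fwd 5161],
   .loop (some (10, 2)) [.bwd 350, .bwd 5005, .fwd 5001],
   .define,
   .define,
   .define,
   .define,
   .define,
   .loop (some (19, 5)) [.bwd 1993, .fwd 5164, .fwd 5165, .fwd 5166, .fwd 5167, .fwd 5168],
   .define,
   .define,
   .define,
   .define,
   .loop (some (16, 4)) [.bwd 1987, .fwd 5170, .fwd 5171, .fwd 5172, .fwd 5173],
   .define,
   .define,
   .define,
   .loop (some (21, 5)) [.fwd 5168, .fwd 5169, .bwd 1993, .fwd 2012, .bwd 407, .fwd 5175, .fwd 5176, .fwd 5177],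
   .loop (some (20, 1)) [.bwd 313, .fwd 1988, .fwd 349, .bwd 2071, .fwd 2072, .fwd 2071, .bwd 349, .bwd 1988, .fwd 5170],
   .loop none [.fwd 5179],
   .loop none [.fwd 5170, .bwd 5180],
   .loop none [.fwd 405, .fwd 5180, .fwd 5171],
   .loop none [.fwd 5182],
   .loop none [.bwd 5172, .bwd 5183],
   .loop (some (2, 2)) [.fwd 405, .bwd 313, .fwd 1987, .fwd 594],
   .loop none [.fwd 5185],
   .loop none [.fwd 404, .fwd 5186, .bwd 1770],
   .loop none [.fwd 5187],
   .loop none [.fwd 1822, .fwd 5186, .bwd 594],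
   .loop none [.bwd 5189],
   .loop none [.fwd 1767, .fwd 5186, .fwd 595],
   .loop none [.fwd 5191],
   .loop none [.bwd 71, .fwd 5188, .bwd 1328],
   .loop none [.fwd 5193],
   .loop none [.fwd 3133, .fwd 5188, .fwd 1771],
   .loop none [.fwd 5195],
   .loop none [.fwd 586, .fwd 5190, .bwd 1821],
   .loop none [.fwd 5197],
   .loop none [.bwd 1822, .bwd 5190],
   .loop none [.fwd 1987, .fwd 5192, .fwd 596],
   .loop none [.fwd 5200],
   .loop none [.fwd 525, .fwd 5194, .bwd 1327],
   .loop none [.fwd 5202],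
   .loop none [.fwd 438, .fwd 5196, .bwd 1687],
   .loop none [.fwd 5204],
   .loop none [.bwd 585, .fwd 5198, .bwd 4166],
   .loop none [.fwd 5206],
   .loop none [.fwd 69, .fwd 5198, .bwd 1820],
   .loop none [.fwd 5208],
   .loop none [.bwd 1988, .fwd 5201, .fwd 597],
   .loop none [.fwd 5210],
   .loop none [.bwd 23, .fwd 5203, .bwd 1326],
   .loop none [.fwd 5212],
   .loop none [.bwd 3137, .fwd 5205, .bwd 1686],
   .loop none [.bwd 5214],
   .loop none [.bwd 525, .fwd 5207, .bwd 2256],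
   .loop none [.fwd 5216],
   .loop none [.fwd 68, .fwd 5209, .bwd 1819],
   .loop none [.fwd 5218],
   .loop none [.bwd 349, .fwd 5211, .fwd 598],
   .loop none [.fwd 5220],
   .loop none [.fwd 515, .fwd 5213, .bwd 1325],
   .loop none [.fwd 5222],
   .loop none [.fwd 3137, .bwd 5215],
   .loop none [.bwd 427, .fwd 5217, .bwd 2255],
   .loop none [.fwd 5225],
   .loop none [.bwd 659, .fwd 5219, .bwd 1818],
   .loop none [.fwd 5227],
   .loop none [.fwd 240, .fwd 5221, .fwd 599],
   .loop none [.fwd 5229],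
   .loop none [.fwd 1493, .fwd 5223, .bwd 1324],
   .loop none [.fwd 5231],
   .loop none [.fwd 621, .fwd 5226, .bwd 2254],
   .loop none [.fwd 5233],
   .loop none [.fwd 830, .fwd 5228, .bwd 1817],
   .loop none [.fwd 5235],
   .loop none [.fwd 3113, .fwd 5230, .fwd 600],
   .loop none [.fwd 5237],
   .loop none [.fwd 1605, .fwd 5232, .bwd 1323],
   .loop none [.fwd 5239],
   .loop none [.fwd 620, .fwd 5234, .bwd 2253],
   .loop none [.fwd 5241],
   .loop none [.bwd 1665, .fwd 5236, .bwd 1816],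
   .loop none [.fwd 5243],
   .loop none [.fwd 3534, .fwd 5238, .fwd 601],
   .loop none [.fwd 5245],
   .loop none [.bwd 803, .fwd 5240, .bwd 1322],
   .loop none [.fwd 5247],
   .loop none [.fwd 619, .fwd 5242, .bwd 2252]]

theorem just20_len : just20.length = 250 := by decide +kernel

theorem just20_ok : cert.okFacts 5000 just20 = true := by decide +kernel

/-- justifications -/
noncomputable def just21 : List Cert.Just :=
  [.loop none [.fwd 5249],
   .loop none [.bwd 889, .fwd 5244, .bwd 1759],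
   .loop none [.bwd 5251],
   .loop none [.fwd 1836, .bwd 5244],
   .loop none [.fwd 383, .fwd 5246, .fwd 602],
   .loop none [.fwd 5254],
   .loop none [.fwd 1528, .fwd 5248, .bwd 4718],
   .loop none [.bwd 5256],
   .loop none [.fwd 618, .fwd 5250, .bwd 2251],
   .loop none [.fwd 5258],
   .loop none [.fwd 561, .fwd 5252, .fwd 890],
   .loop none [.fwd 5260],
   .loop none [.fwd 889, .bwd 5252],
   .loop none [.fwd 4744, .fwd 5255, .fwd 603],
   .loop none [.bwd 5263],
   .loop none [.bwd 1528, .bwd 5257],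
   .loop none [.bwd 4719, .fwd 5257, .bwd 1527],
   .loop none [.bwd 5266],
   .loop none [.fwd 1581, .bwd 5257],
   .loop none [.fwd 617, .fwd 5259, .bwd 2250],
   .loop none [.fwd 5269],
   .loop none [.bwd 891, .bwd 5261],
   .loop none [.bwd 604, .fwd 5264, .bwd 985],
   .loop none [.fwd 5272],
   .loop none [.bwd 986, .bwd 5264],
   .loop none [.bwd 4743, .bwd 5264],
   .loop none [.bwd 4744, .bwd 5264],
   .loop none [.bwd 4745, .bwd 5264],
   .loop none [.fwd 5264, .bwd 4746, .bwd 5264],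
   .loop none [.fwd 1526, .fwd 5267, .fwd 2969],
   .loop none [.fwd 5279],
   .loop none [.fwd 4719, .bwd 5267],
   .loop none [.fwd 616, .fwd 5270, .bwd 2249],
   .loop none [.fwd 5282],
   .loop none [.bwd 605, .fwd 5273, .fwd 4750],
   .loop none [.fwd 5284],
   .loop none [.bwd 4751, .bwd 5273],
   .loop none [.fwd 984, .bwd 5273],
   .loop none [.bwd 4754, .bwd 5273],
   .loop none [.fwd 5273, .bwd 4755, .bwd 5273],
   .loop none [.bwd 4756, .bwd 5273],
   .loop none [.fwd 1525, .fwd 5280, .fwd 2970],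
   .loop none [.fwd 5291],
   .loop none [.fwd 615, .fwd 5283, .bwd 4032],
   .loop none [.fwd 5293],
   .loop none [.bwd 1316, .bwd 5285],
   .loop none [.bwd 606, .fwd 5285, .bwd 2177],
   .loop none [.bwd 5296],
   .loop none [.fwd 2139, .bwd 5285],
   .loop none [.fwd 2305, .bwd 5285],
   .loop none [.bwd 4016, .bwd 5285],
   .loop none [.fwd 1597, .fwd 5292, .fwd 2957],
   .loop none [.bwd 5301],
   .loop none [.fwd 2956, .bwd 5292],
   .loop none [.fwd 1901, .bwd 5294],
   .loop none [.bwd 1902, .bwd 5294],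
   .loop none [.fwd 614, .fwd 5294, .bwd 4057],
   .loop none [.fwd 5306],
   .loop none [.fwd 606, .bwd 5297],
   .loop none [.bwd 1597, .bwd 5302],
   .loop none [.bwd 1548, .fwd 5302, .bwd 1596],
   .loop none [.bwd 5310],
   .loop none [.fwd 2802, .bwd 5307],
   .loop none [.fwd 613, .fwd 5307, .bwd 2246],
   .loop none [.fwd 5313],
   .loop none [.bwd 4165, .bwd 5307],
   .loop none [.fwd 771, .fwd 5311, .bwd 2423],
   .loop none [.fwd 5316],
   .loop none [.bwd 1549, .bwd 5311],
   .loop none [.fwd 1548, .bwd 5311],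
   .loop none [.fwd 612, .fwd 5314, .bwd 2245],
   .loop none [.fwd 5320],
   .loop none [.fwd 2517, .bwd 5314],
   .loop none [.fwd 3506, .bwd 5314],
   .loop none [.fwd 2551, .bwd 5314],
   .loop none [.fwd 5314, .bwd 2556, .bwd 5314],
   .loop none [.fwd 2422, .bwd 5317],
   .loop none [.fwd 2488, .bwd 5321],
   .loop none [.fwd 2382, .bwd 5321],
   .loop none [.fwd 611, .fwd 5321, .bwd 2244],
   .loop none [.fwd 5329],
   .loop none [.fwd 2521, .bwd 5321],
   .loop none [.fwd 5321, .bwd 2525, .bwd 5321],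
   .loop none [.fwd 3502, .bwd 5330],
   .loop none [.fwd 5318, .bwd 5330],
   .loop none [.fwd 2201, .bwd 5330],
   .loop none [.fwd 2932, .bwd 5330],
   .loop (some (5, 1)) [.fwd 407, .fwd 5181, .fwd 1993],
   .loop (some (8, 1)) [.fwd 4927, .fwd 407, .bwd 313, .fwd 5164],
   .loop none [.fwd 5338],
   .loop none [.bwd 5165, .bwd 5339],
   .loop none [.fwd 5164, .bwd 5339],
   .loop (some (6, 1)) [.fwd 1748, .bwd 1987, .fwd 1993],
   .loop (some (14, 2)) [.bwd 5340, .fwd 5341, .bwd 1994, .bwd 5341],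
   .define,
   .define,
   .define,
   .define,
   .define,
   .loop (some (19, 5)) [.fwd 407, .fwd 5344, .fwd 5345, .fwd 5346, .fwd 5347, .fwd 5348],
   .define,
   .define,
   .define,
   .loop (some (21, 5)) [.fwd 5348, .fwd 5349, .fwd 407, .bwd 2012, .fwd 1993, .fwd 5350, .fwd 5351, .fwd 5352],
   .loop (some (8, 1)) [.bwd 1993, .fwd 313, .fwd 5344],
   .loop (some (6, 1)) [.fwd 1811, .fwd 405, .bwd 407],
   .loop (some (7, 1)) [.fwd 3474, .fwd 3509, .bwd 4878],
   .loop (some (2, 2)) [.bwd 4931, .fwd 4538, .bwd 3262, .bwd 4532],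
   .loop none [.bwd 5357],
   .loop none [.fwd 4798, .bwd 5358],
   .loop none [.fwd 4931, .bwd 5358],
   .loop (some (18, 3)) [.bwd 4967, .bwd 3231, .bwd 4538, .fwd 4939, .fwd 5006],
   .loop (some (6, 2)) [.fwd 4529, .fwd 3262, .bwd 4878, .bwd 4486],
   .loop none [.bwd 5362],
   .loop none [.bwd 4531, .bwd 5363],
   .loop none [.bwd 4529, .bwd 5363],
   .loop (some (3, 2)) [.bwd 4882, .bwd 3231, .bwd 3262, .fwd 3259],
   .loop none [.bwd 5366],
   .loop none [.fwd 4807, .bwd 5367],
   .loop none [.fwd 4882, .bwd 5367],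
   .loop (some (12, 2)) [.fwd 4966, .fwd 4538, .bwd 4913, .fwd 5006],
   .loop none [.fwd 5370],
   .loop none [.bwd 5007, .bwd 5371],
   .loop none [.bwd 5048, .fwd 5371, .bwd 5006],
   .loop none [.bwd 5373],
   .loop none [.bwd 5055, .fwd 5371, .fwd 5361],
   .loop none [.fwd 5375],
   .loop none [.bwd 5049, .bwd 5374],
   .loop none [.fwd 5048, .bwd 5374],
   .loop none [.bwd 5356, .fwd 5376, .fwd 4968],
   .loop none [.fwd 5379],
   .loop none [.bwd 5082, .fwd 5376, .bwd 4967],
   .loop none [.bwd 5381],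
   .loop none [.bwd 4969, .bwd 5380],
   .loop none [.bwd 5083, .bwd 5382],
   .loop none [.fwd 5082, .bwd 5382],
   .loop (some (4, 2)) [.bwd 5384, .bwd 3231, .bwd 3509, .fwd 3234],
   .loop none [.bwd 5386],
   .loop none [.fwd 5384, .bwd 5387],
   .loop none [.bwd 5084, .bwd 5387],
   .define,
   .define,
   .define,
   .define,
   .define,
   .define,
   .define,
   .define,
   .define,
   .define,
   .define,
   .define,
   .define,
   .define,
   .define,
   .define,
   .define,
   .define,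
   .define,
   .define,
   .define,
   .define,
   .define,
   .define,
   .define,
   .define,
   .loop (some (22, 28)) [.bwd 5356, .bwd 5385, .bwd 3231, .bwd 3262, .fwd 4530, .fwd 5390, .fwd 5391, .fwd 5392, .fwd 5393, .fwd 5394, .fwd 5395, .fwd 5396, .fwd 5397, .fwd 5398, .fwd 5399, .fwd 5400, .fwd 5401, .fwd 5402, .fwd 5403, .fwd 5404, .fwd 5405, .fwd 5406, .fwd 5407, .fwd 5408, .fwd 5409, .fwd 5410, .fwd 5411, .fwd 5412, .fwd 5413, .fwd 5414, .fwd 5415],
   .loop (some (11, 2)) [.fwd 5162, .fwd 3509, .bwd 4913, .fwd 5377],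
   .loop none [.bwd 5417],
   .loop none [.fwd 5161, .bwd 5418],
   .loop none [.bwd 5162, .bwd 5418],
   .loop (some (10, 2)) [.fwd 3262, .bwd 4913, .bwd 4358],
   .define,
   .define,
   .define,
   .define,
   .loop (some (16, 4)) [.bwd 4916, .fwd 5422, .fwd 5423, .fwd 5424, .fwd 5425],
   .loop (some (20, 1)) [.fwd 4871, .fwd 4872, .fwd 4873, .fwd 4874, .fwd 417, .bwd 306, .bwd 317, .bwd 4917, .fwd 5422],
   .loop none [.fwd 5427],
   .loop none [.fwd 5422, .bwd 5428],
   .loop none [.bwd 5423, .bwd 5428],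
   .loop (some (2, 1)) [.fwd 1930, .bwd 420, .bwd 345, .fwd 4916],
   .loop none [.fwd 5431],
   .loop none [.fwd 5426, .bwd 5432],
   .loop none [.fwd 4916, .bwd 5432],
   .loop none [.bwd 3430, .bwd 5432],
   .loop none [.fwd 4996, .bwd 5432],
   .loop (some (5, 3)) [.fwd 5429, .bwd 321, .bwd 1965, .bwd 3236],
   .loop none [.bwd 5437],
   .loop none [.bwd 5429, .bwd 5438],
   .loop none [.bwd 5430, .bwd 5438],
   .loop none [.fwd 4870, .bwd 5438],
   .loop none [.bwd 3511, .fwd 5438, .fwd 4871],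
   .loop none [.fwd 5442],
   .loop none [.bwd 473, .fwd 5443, .fwd 4872],
   .loop none [.fwd 5444],
   .loop none [.fwd 5354, .fwd 5445, .fwd 4873],
   .loop none [.bwd 5446],
   .loop none [.bwd 5354, .bwd 5447],
   .loop none [.bwd 5345, .bwd 5447],
   .loop none [.fwd 5344, .bwd 5447],
   .loop (some (8, 2)) [.fwd 398, .bwd 345, .fwd 322, .fwd 4887],
   .loop none [.fwd 5451],
   .loop none [.fwd 4972, .bwd 5452],
   .loop none [.fwd 4887, .bwd 5452],
   .loop none [.bwd 3394, .bwd 5452],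
   .loop (some (1, 1)) [.fwd 5419, .fwd 5004, .bwd 5439],
   .loop (some (18, 2)) [.bwd 4394, .bwd 5003, .fwd 5004, .fwd 345, .fwd 475],
   .loop (some (3, 2)) [.bwd 5001, .fwd 5004, .bwd 5434, .fwd 5436],
   .loop none [.fwd 5458],
   .loop none [.fwd 4995, .bwd 5459],
   .loop none [.fwd 5111, .fwd 5459, .bwd 5436],
   .loop none [.bwd 5461],
   .loop none [.bwd 1930, .fwd 5462, .bwd 5110],
   .loop none [.fwd 5463],
   .loop none [.bwd 5111, .bwd 5462],
   .loop none [.fwd 1852, .fwd 5464, .bwd 5109],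
   .loop none [.fwd 5466],
   .loop none [.fwd 1839, .fwd 5467, .bwd 5108],
   .loop none [.fwd 5468],
   .loop none [.bwd 1750, .fwd 5469, .bwd 5107],
   .loop none [.fwd 5470],
   .loop none [.fwd 5106, .bwd 5471],
   .loop (some (12, 2)) [.bwd 345, .bwd 5047, .fwd 5046],
   .define,
   .define,
   .define,
   .define,
   .define,
   .define,
   .define,
   .define,
   .define,
   .define,
   .define,
   .define,
   .define,
   .define,
   .define,
   .define,
   .define,
   .define,
   .define,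
   .define,
   .define,
   .define,
   .define,
   .define,
   .define,
   .define]

theorem just21_len : just21.length = 250 := by decide +kernel

theorem just21_ok : cert.okFacts 5250 just21 = true := by decide +kernel

/-- justifications -/
noncomputable def just22 : List Cert.Just :=
  [.loop (some (22, 28)) [.fwd 5011, .bwd 5003, .fwd 5004, .bwd 5434, .fwd 5435, .fwd 5474, .fwd 5475, .fwd 5476, .fwd 5477, .fwd 5478, .fwd 5479, .fwd 5480, .fwd 5481, .fwd 5482, .fwd 5483, .fwd 5484, .fwd 5485, .fwd 5486, .fwd 5487, .fwd 5488, .fwd 5489, .fwd 5490, .fwd 5491, .fwd 5492, .fwd 5493, .fwd 5494, .fwd 5495, .fwd 5496, .fwd 5497, .fwd 5498, .fwd 5499],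
   .loop (some (15, 0)) [.fwd 4938, .fwd 4927, .bwd 406, .bwd 345],
   .define,
   .loop (some (10, 2)) [.fwd 5434, .bwd 5047, .fwd 5044],
   .define,
   .define,
   .define,
   .define,
   .loop (some (16, 4)) [.fwd 5127, .bwd 5116, .fwd 5505, .fwd 5506, .fwd 5507],
   .loop (some (2, 2)) [.fwd 5454, .bwd 5127, .bwd 5038],
   .loop (some (8, 2)) [.fwd 397, .fwd 5454, .fwd 323, .fwd 5003],
   .loop none [.fwd 5510],
   .loop none [.fwd 5011, .bwd 5511],
   .loop none [.fwd 5003, .bwd 5511],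
   .loop none [.fwd 412, .fwd 5511, .fwd 4394],
   .loop none [.fwd 5514],
   .loop none [.bwd 5134, .bwd 5511],
   .loop none [.bwd 4395, .bwd 5515],
   .loop none [.fwd 5457, .bwd 5515],
   .loop (some (12, 2)) [.fwd 5454, .bwd 361, .fwd 345],
   .define,
   .define,
   .define,
   .define,
   .define,
   .define,
   .define,
   .define,
   .define,
   .define,
   .define,
   .define,
   .define,
   .define,
   .define,
   .define,
   .define,
   .define,
   .define,
   .define,
   .define,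
   .define,
   .define,
   .define,
   .define,
   .loop (some (22, 28)) [.fwd 4874, .fwd 417, .fwd 1956, .bwd 5127, .fwd 5128, .bwd 4417, .fwd 5520, .fwd 5521, .fwd 5522, .fwd 5523, .fwd 5524, .fwd 5525, .fwd 5526, .fwd 5527, .fwd 5528, .fwd 5529, .fwd 5530, .fwd 5531, .fwd 5532, .fwd 5533, .fwd 5534, .fwd 5535, .fwd 5536, .fwd 5537, .fwd 5538, .fwd 5539, .fwd 5540, .fwd 5541, .fwd 5542, .fwd 5543, .fwd 5544],
   .loop (some (15, 0)) [.fwd 4970, .fwd 4971, .bwd 5453, .fwd 5454],
   .define,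
   .define,
   .define,
   .define,
   .loop (some (16, 4)) [.bwd 5001, .bwd 5419, .fwd 5548, .fwd 5549, .fwd 5550],
   .loop (some (2, 2)) [.fwd 5513, .fwd 5001, .fwd 5460],
   .loop (some (5, 3)) [.fwd 5419, .bwd 323, .bwd 5116, .fwd 3471],
   .loop none [.bwd 5553],
   .loop none [.bwd 5419, .bwd 5554],
   .loop none [.bwd 5548, .bwd 5554],
   .loop none [.fwd 5377, .bwd 5554],
   .loop none [.bwd 5050, .bwd 5554],
   .loop none [.fwd 5456, .bwd 5554],
   .loop none [.bwd 5420, .bwd 5554],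
   .loop (some (8, 2)) [.fwd 396, .fwd 5513, .fwd 324, .fwd 5046],
   .loop none [.fwd 5561],
   .loop none [.fwd 5041, .bwd 5562],
   .loop none [.fwd 5046, .bwd 5562],
   .loop none [.bwd 4456, .bwd 5562],
   .loop none [.bwd 5473, .bwd 5562],
   .loop (some (6, 3)) [.bwd 5001, .bwd 323, .bwd 5127, .fwd 1919],
   .loop none [.bwd 5567],
   .loop none [.fwd 5551, .bwd 5568],
   .loop none [.fwd 5001, .bwd 5568],
   .loop none [.bwd 4362, .bwd 5568],
   .loop none [.bwd 5460, .bwd 5568],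
   .loop none [.fwd 5465, .bwd 5568],
   .loop none [.bwd 5163, .bwd 5568],
   .loop (some (12, 2)) [.fwd 5513, .bwd 5039, .fwd 4869],
   .define,
   .define,
   .define,
   .define,
   .define,
   .define,
   .define,
   .define,
   .define,
   .define,
   .define,
   .define,
   .define,
   .define,
   .define,
   .define,
   .define,
   .define,
   .define,
   .define,
   .define,
   .define,
   .define,
   .define,
   .define,
   .loop (some (22, 27)) [.bwd 5355, .bwd 406, .bwd 345, .bwd 5004, .bwd 5570, .fwd 5571, .fwd 5576, .fwd 5577, .fwd 5578, .fwd 5579, .fwd 5580, .fwd 5581, .fwd 5582, .fwd 5583, .fwd 5584, .fwd 5585, .fwd 5586, .fwd 5587, .fwd 5588, .fwd 5589, .fwd 5590, .fwd 5591, .fwd 5592, .fwd 5593, .fwd 5594, .fwd 5595, .fwd 5596, .fwd 5597, .fwd 5598, .fwd 5599, .fwd 5600],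
   .loop (some (15, 0)) [.fwd 5009, .fwd 5010, .bwd 5512, .fwd 5513],
   .loop (some (10, 2)) [.fwd 5570, .bwd 5039, .bwd 5120],
   .define,
   .define,
   .define,
   .define,
   .loop (some (16, 4)) [.bwd 5044, .fwd 5502, .fwd 5605, .fwd 5606, .fwd 5607],
   .loop (some (20, 1)) [.fwd 5008, .fwd 5009, .fwd 5010, .bwd 5512, .fwd 5513, .fwd 5002, .bwd 4453, .bwd 5045, .fwd 5502],
   .loop none [.fwd 5609],
   .loop none [.fwd 5502, .bwd 5610],
   .loop none [.bwd 5605, .bwd 5610],
   .define,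
   .loop (some (2, 2)) [.fwd 5564, .fwd 5044, .fwd 5613],
   .loop (some (5, 3)) [.fwd 5611, .bwd 324, .bwd 5555, .fwd 3472],
   .loop none [.bwd 5615],
   .loop none [.bwd 5611, .bwd 5616],
   .loop none [.bwd 5612, .bwd 5616],
   .loop none [.fwd 5372, .bwd 5616],
   .loop none [.bwd 5008, .bwd 5616],
   .loop (some (8, 2)) [.fwd 395, .fwd 5564, .fwd 325, .fwd 4869],
   .loop none [.fwd 5621],
   .loop none [.fwd 4998, .bwd 5622],
   .loop none [.fwd 4869, .bwd 5622],
   .loop none [.bwd 4497, .bwd 5622],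
   .loop none [.bwd 5575, .bwd 5622],
   .loop (some (18, 2)) [.bwd 5625, .fwd 5624, .fwd 1404, .bwd 5564, .fwd 5565],
   .loop (some (6, 3)) [.bwd 5044, .bwd 324, .bwd 5570, .fwd 1920],
   .loop none [.bwd 5628],
   .loop none [.fwd 5608, .bwd 5629],
   .loop none [.fwd 5044, .bwd 5629],
   .loop none [.bwd 4430, .bwd 5629],
   .loop none [.bwd 5124, .fwd 5629, .fwd 5613],
   .loop none [.fwd 5633],
   .loop none [.fwd 1923, .fwd 5629, .bwd 4964],
   .loop none [.fwd 5635],
   .loop none [.bwd 5503, .bwd 5629],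
   .loop none [.bwd 5614, .bwd 5634],
   .loop none [.fwd 4963, .bwd 5636],
   .loop (some (12, 2)) [.fwd 5564, .bwd 5081, .bwd 5454],
   .define,
   .define,
   .define,
   .define,
   .define,
   .define,
   .define,
   .define,
   .define,
   .define,
   .define,
   .define,
   .define,
   .define,
   .define,
   .define,
   .define,
   .define,
   .define,
   .define,
   .define,
   .define,
   .define,
   .define,
   .define,
   .define,
   .loop (some (22, 28)) [.bwd 5623, .fwd 5624, .fwd 1404, .bwd 5631, .fwd 5632, .fwd 5641, .fwd 5642, .fwd 5643, .fwd 5644, .fwd 5645, .fwd 5646, .fwd 5647, .fwd 5648, .fwd 5649, .fwd 5650, .fwd 5651, .fwd 5652, .fwd 5653, .fwd 5654, .fwd 5655, .fwd 5656, .fwd 5657, .fwd 5658, .fwd 5659, .fwd 5660, .fwd 5661, .fwd 5662, .fwd 5663, .fwd 5664, .fwd 5665, .fwd 5666],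
   .loop (some (15, 0)) [.fwd 5051, .fwd 5052, .bwd 5563, .fwd 5564],
   .loop (some (10, 2)) [.fwd 5631, .bwd 5081, .bwd 5127],
   .define,
   .define,
   .define,
   .loop (some (16, 4)) [.fwd 5120, .fwd 5115, .bwd 5416, .fwd 5671, .fwd 5672],
   .loop (some (2, 2)) [.fwd 5624, .bwd 5120, .fwd 5639],
   .define,
   .define,
   .define,
   .define,
   .define,
   .define,
   .define,
   .define,
   .define,
   .define,
   .define,
   .define,
   .define,
   .define,
   .define,
   .define,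
   .define,
   .define,
   .define,
   .define,
   .define,
   .define,
   .define,
   .define,
   .define,
   .define,
   .loop (some (22, 28)) [.bwd 5563, .fwd 5564, .bwd 1404, .bwd 5120, .fwd 5121, .fwd 5675, .fwd 5676, .fwd 5677, .fwd 5678, .fwd 5679, .fwd 5680, .fwd 5681, .fwd 5682, .fwd 5683, .fwd 5684, .fwd 5685, .fwd 5686, .fwd 5687, .fwd 5688, .fwd 5689, .fwd 5690, .fwd 5691, .fwd 5692, .fwd 5693, .fwd 5694, .fwd 5695, .fwd 5696, .fwd 5697, .fwd 5698, .fwd 5699, .fwd 5700],
   .loop (some (15, 0)) [.fwd 5085, .fwd 5086, .bwd 5623, .fwd 5624],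
   .loop (some (9, 2)) [.bwd 5115, .bwd 5112, .fwd 343],
   .loop (some (10, 2)) [.fwd 5120, .bwd 5112, .fwd 350],
   .define,
   .define,
   .define,
   .define,
   .define,
   .define,
   .loop (some (19, 5)) [.fwd 3528, .fwd 5706, .fwd 5707, .fwd 5708, .fwd 5709, .fwd 5710],
   .loop (some (17, 2)) [.fwd 1526, .bwd 3565, .bwd 4732, .fwd 330, .fwd 1926],
   .loop (some (7, 1)) [.fwd 3574, .bwd 4732, .bwd 3528],
   .define,
   .define,
   .define,
   .define,
   .loop (some (21, 5)) [.fwd 5710, .fwd 5711, .fwd 3528, .fwd 3530, .fwd 5714, .fwd 5715, .fwd 5716, .fwd 5717],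
   .loop (some (2, 2)) [.bwd 402, .fwd 4740, .fwd 330, .fwd 1927],
   .loop none [.fwd 5719],
   .loop none [.fwd 1859, .bwd 5720],
   .loop none [.bwd 1882, .fwd 5720, .bwd 1927],
   .loop none [.bwd 5722],
   .loop none [.fwd 991, .bwd 5720],
   .loop none [.bwd 1926, .fwd 5723, .fwd 1883],
   .loop none [.fwd 5725],
   .loop none [.fwd 1882, .bwd 5723],
   .loop none [.fwd 1105, .bwd 5726],
   .loop none [.bwd 5712, .fwd 5726, .fwd 1106],
   .loop none [.bwd 5729],
   .loop none [.fwd 1010, .fwd 5726, .fwd 1116],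
   .loop none [.fwd 5731],
   .loop none [.bwd 1121, .bwd 5726],
   .loop none [.fwd 1119, .bwd 5726],
   .loop none [.fwd 5712, .bwd 5730],
   .loop none [.bwd 1526, .bwd 5730],
   .loop none [.fwd 1525, .bwd 5730],
   .loop none [.bwd 1117, .bwd 5732],
   .loop (some (8, 1)) [.bwd 2067, .fwd 4740, .fwd 5706],
   .loop (some (18, 5)) [.bwd 3530, .bwd 4740, .fwd 2066, .bwd 5727, .fwd 1931, .fwd 1938],
   .loop none [.fwd 5740],
   .loop none [.bwd 1939, .bwd 5741],
   .loop none [.fwd 1938, .bwd 5741],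
   .loop none [.fwd 3085, .bwd 5741],
   .loop (some (14, 2)) [.bwd 5707, .bwd 5706, .bwd 3550, .fwd 5706],
   .loop (some (4, 2)) [.bwd 5742, .bwd 3530, .fwd 4732, .fwd 3577],
   .loop none [.fwd 5746],
   .loop none [.fwd 3063, .bwd 5747],
   .loop none [.bwd 4320, .fwd 5747, .bwd 3577]]

theorem just22_len : just22.length = 250 := by decide +kernel

theorem just22_ok : cert.okFacts 5500 just22 = true := by decide +kernel

/-- justifications -/
noncomputable def just23 : List Cert.Just :=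
  [.loop none [.bwd 5749],
   .loop none [.bwd 3565, .fwd 5750, .fwd 2790],
   .loop none [.fwd 5751],
   .loop none [.fwd 4320, .bwd 5750],
   .loop none [.fwd 5736, .fwd 5752, .fwd 2791],
   .loop none [.fwd 5754],
   .loop none [.bwd 5737, .fwd 5755, .fwd 2792],
   .loop none [.fwd 5756],
   .loop none [.bwd 1457, .fwd 5757, .fwd 2793],
   .loop none [.fwd 5758],
   .loop none [.bwd 1001, .fwd 5759, .fwd 2794],
   .loop none [.fwd 5760],
   .loop none [.fwd 5309, .fwd 5761, .fwd 2795],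
   .loop none [.fwd 5762],
   .loop none [.fwd 5319, .fwd 5763, .fwd 2796],
   .loop none [.fwd 5764],
   .loop none [.bwd 1601, .fwd 5765, .fwd 2797],
   .loop none [.fwd 5766],
   .loop none [.bwd 1640, .fwd 5767, .fwd 2798],
   .loop none [.fwd 5768],
   .loop none [.bwd 2799, .bwd 5769],
   .define,
   .define,
   .define,
   .define,
   .define,
   .define,
   .define,
   .define,
   .define,
   .define,
   .define,
   .define,
   .define,
   .define,
   .define,
   .define,
   .define,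
   .define,
   .define,
   .define,
   .define,
   .loop (some (22, 28)) [.fwd 4354, .bwd 5743, .bwd 3530, .fwd 330, .fwd 1926, .bwd 1010, .bwd 1457, .bwd 1001, .fwd 5738, .bwd 1065, .fwd 5771, .fwd 5772, .fwd 5773, .fwd 5774, .fwd 5775, .fwd 5776, .fwd 5777, .fwd 5778, .fwd 5779, .fwd 5780, .fwd 5781, .fwd 5782, .fwd 5783, .fwd 5784, .fwd 5785, .fwd 5786, .fwd 5787, .fwd 5788, .fwd 5789, .fwd 5790, .fwd 5791],
   .loop (some (15, 0)) [.bwd 569, .bwd 568, .fwd 4747, .fwd 4740],
   .define,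
   .define,
   .define,
   .define,
   .define,
   .define,
   .loop (some (19, 5)) [.fwd 1929, .fwd 5795, .fwd 5796, .fwd 5797, .fwd 5798, .fwd 5799],
   .loop (some (7, 1)) [.bwd 5734, .bwd 1926, .bwd 1929],
   .loop (some (21, 5)) [.fwd 5799, .fwd 5800, .fwd 1929, .fwd 1931, .bwd 1953, .bwd 1931, .bwd 1929, .bwd 5800],
   .loop (some (8, 1)) [.fwd 1885, .bwd 5727, .fwd 5795],
   .loop (some (14, 2)) [.bwd 5796, .bwd 5795, .bwd 1933, .fwd 5795],
   .loop (some (4, 2)) [.fwd 4354, .bwd 1931, .fwd 1926, .fwd 5733],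
   .loop none [.bwd 5805],
   .loop none [.bwd 1134, .fwd 5806, .bwd 5792],
   .loop none [.fwd 5807],
   .loop none [.bwd 4354, .bwd 5806],
   .loop none [.bwd 1144, .fwd 5806, .bwd 4353],
   .loop none [.bwd 5810],
   .loop none [.bwd 4355, .fwd 5808, .bwd 5791],
   .loop none [.fwd 5812],
   .loop none [.bwd 1145, .bwd 5811],
   .loop none [.fwd 1144, .bwd 5811],
   .loop none [.bwd 5737, .fwd 5813, .bwd 5790],
   .loop none [.fwd 5816],
   .loop none [.fwd 5309, .fwd 5817, .bwd 5789],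
   .loop none [.fwd 5818],
   .loop none [.fwd 843, .fwd 5819, .bwd 5788],
   .loop none [.fwd 5820],
   .loop none [.fwd 5787, .bwd 5821],
   .define,
   .define,
   .define,
   .define,
   .define,
   .define,
   .define,
   .define,
   .define,
   .define,
   .define,
   .define,
   .define,
   .define,
   .loop (some (22, 23)) [.bwd 2920, .bwd 5265, .bwd 5281, .bwd 3064, .bwd 5748, .bwd 5742, .fwd 5743, .bwd 1931, .bwd 330, .fwd 4732, .fwd 512, .fwd 4713, .bwd 4727, .fwd 4728, .bwd 2447, .fwd 2452, .fwd 2497, .fwd 5823, .fwd 5824, .fwd 5825, .fwd 5826, .fwd 5827, .fwd 5828, .fwd 5829, .fwd 5830, .fwd 5831, .fwd 5832, .fwd 5833, .fwd 5834, .fwd 5835, .fwd 5836],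
   .loop (some (15, 0)) [.fwd 662, .bwd 1860, .bwd 5721, .bwd 5727],
   .define,
   .loop (some (2, 2)) [.bwd 1983, .fwd 3512, .bwd 518],
   .define,
   .define,
   .loop (some (18, 3)) [.bwd 5389, .bwd 3234, .fwd 1983, .fwd 5841, .fwd 5842],
   .loop (some (6, 2)) [.fwd 3521, .bwd 3512, .bwd 3474, .bwd 5416],
   .loop none [.fwd 5844],
   .loop none [.bwd 5671, .bwd 5845],
   .loop none [.bwd 5416, .bwd 5845],
   .loop none [.bwd 3524, .fwd 5845, .bwd 5415],
   .loop none [.fwd 5848],
   .loop none [.fwd 5414, .bwd 5849],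
   .loop (some (3, 1)) [.bwd 5505, .bwd 3234, .fwd 3512],
   .loop (some (12, 2)) [.bwd 1983, .bwd 5560, .fwd 5558],
   .define,
   .define,
   .define,
   .define,
   .define,
   .define,
   .define,
   .define,
   .define,
   .define,
   .define,
   .define,
   .define,
   .define,
   .define,
   .define,
   .define,
   .define,
   .define,
   .define,
   .define,
   .define,
   .define,
   .define,
   .define,
   .loop (some (22, 28)) [.bwd 5085, .bwd 5389, .bwd 3234, .fwd 3512, .fwd 3522, .bwd 3604, .fwd 5853, .fwd 5854, .fwd 5855, .fwd 5856, .fwd 5857, .fwd 5858, .fwd 5859, .fwd 5860, .fwd 5861, .fwd 5862, .fwd 5863, .fwd 5864, .fwd 5865, .fwd 5866, .fwd 5867, .fwd 5868, .fwd 5869, .fwd 5870, .fwd 5871, .fwd 5872, .fwd 5873, .fwd 5874, .fwd 5875, .fwd 5876, .fwd 5877],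
   .loop (some (15, 0)) [.fwd 406, .bwd 4927, .bwd 4938, .bwd 1983],
   .loop (some (10, 2)) [.bwd 3512, .bwd 5560, .fwd 5556],
   .define,
   .loop (some (16, 3)) [.bwd 1884, .bwd 420, .bwd 2061, .fwd 489, .fwd 516],
   .loop (some (7, 2)) [.fwd 5349, .bwd 406, .bwd 398, .fwd 5453],
   .loop none [.bwd 5883],
   .loop none [.bwd 5349, .bwd 5884],
   .loop none [.fwd 5348, .bwd 5884],
   .define,
   .define,
   .loop (some (21, 4)) [.bwd 5565, .fwd 396, .fwd 397, .fwd 398, .fwd 475, .fwd 476, .fwd 5887, .fwd 5888],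
   .loop (some (5, 1)) [.fwd 465, .fwd 2061, .bwd 398],
   .loop (some (1, 2)) [.bwd 475, .bwd 2061, .fwd 409],
   .loop (some (6, 2)) [.fwd 1877, .bwd 420, .bwd 398, .bwd 5509],
   .loop none [.fwd 5892],
   .loop none [.bwd 5509, .bwd 5893],
   .loop none [.fwd 5037, .bwd 5893],
   .loop none [.bwd 5038, .bwd 5893],
   .loop (some (3, 2)) [.bwd 4922, .bwd 475, .fwd 420, .fwd 506],
   .loop none [.bwd 5897],
   .loop none [.fwd 4922, .bwd 5898],
   .loop none [.bwd 3439, .bwd 5898],
   .loop (some (13, 2)) [.bwd 475, .bwd 5566, .fwd 5565],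
   .loop (some (4, 2)) [.bwd 475, .fwd 406, .fwd 5175],
   .define,
   .define,
   .define,
   .define,
   .define,
   .define,
   .define,
   .define,
   .define,
   .define,
   .define,
   .define,
   .define,
   .define,
   .define,
   .define,
   .define,
   .define,
   .define,
   .define,
   .define,
   .define,
   .define,
   .define,
   .define,
   .define,
   .define,
   .loop (some (22, 29)) [.fwd 5518, .bwd 475, .fwd 420, .bwd 1852, .fwd 5903, .fwd 5904, .fwd 5905, .fwd 5906, .fwd 5907, .fwd 5908, .fwd 5909, .fwd 5910, .fwd 5911, .fwd 5912, .fwd 5913, .fwd 5914, .fwd 5915, .fwd 5916, .fwd 5917, .fwd 5918, .fwd 5919, .fwd 5920, .fwd 5921, .fwd 5922, .fwd 5923, .fwd 5924, .fwd 5925, .fwd 5926, .fwd 5927, .fwd 5928, .fwd 5929],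
   .loop (some (11, 2)) [.bwd 406, .bwd 5566, .fwd 5563],
   .define,
   .loop (some (9, 2)) [.fwd 2061, .bwd 5566, .fwd 5932],
   .loop (some (10, 2)) [.bwd 420, .bwd 5566, .bwd 5638],
   .define,
   .define,
   .define,
   .define,
   .loop (some (20, 5)) [.bwd 4564, .fwd 1017, .fwd 1110, .fwd 1928, .fwd 5935, .fwd 5936, .fwd 5937, .fwd 5938],
   .loop (some (5, 2)) [.fwd 5800, .bwd 1928, .bwd 1922, .bwd 5673],
   .loop none [.bwd 5940],
   .loop none [.bwd 5802, .bwd 5941],
   .loop none [.bwd 5800, .bwd 5941],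
   .loop none [.fwd 5799, .bwd 5941],
   .loop (some (1, 1)) [.fwd 5508, .bwd 1937, .fwd 1928],
   .define,
   .loop (some (18, 3)) [.fwd 5896, .bwd 1937, .bwd 1886, .fwd 4566, .fwd 5946],
   .loop (some (12, 2)) [.fwd 1886, .bwd 5574, .fwd 5572],
   .define,
   .define,
   .loop (some (15, 2)) [.bwd 5133, .fwd 1886, .fwd 5949, .fwd 5950],
   .loop (some (9, 2)) [.bwd 1928, .bwd 5574, .fwd 5569],
   .define,
   .define,
   .define,
   .define,
   .define,
   .define,
   .loop (some (19, 5)) [.bwd 1472, .fwd 5954, .fwd 5955, .fwd 5956, .fwd 5957, .fwd 5958],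
   .define,
   .define,
   .define,
   .loop (some (21, 5)) [.fwd 5958, .fwd 5959, .bwd 1472, .bwd 4659, .fwd 4637, .fwd 5960, .fwd 5961, .fwd 5962],
   .loop (some (20, 1)) [.fwd 780, .fwd 760, .bwd 431, .bwd 430, .bwd 715, .fwd 26, .fwd 27, .fwd 1477, .bwd 4616],
   .loop none [.fwd 5964],
   .loop none [.bwd 4616, .bwd 5965],
   .loop none [.fwd 4615, .bwd 5965],
   .define,
   .loop (some (5, 2)) [.fwd 5966, .fwd 1472, .fwd 5968],
   .loop (some (8, 1)) [.bwd 4637, .bwd 1470, .fwd 5954],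
   .loop (some (1, 1)) [.bwd 4629, .fwd 4659, .bwd 5966],
   .loop (some (14, 2)) [.bwd 5955, .bwd 5954, .bwd 1473, .fwd 5954],
   .loop (some (15, 0)) [.fwd 4663, .bwd 789, .fwd 4640, .bwd 1470],
   .loop (some (9, 2)) [.fwd 5966, .bwd 1473, .bwd 5966],
   .define,
   .define,
   .define,
   .define,
   .define,
   .define,
   .loop (some (19, 5)) [.fwd 1644, .fwd 5976, .fwd 5977, .fwd 5978, .fwd 5979, .fwd 5980],
   .define,
   .define,
   .define,
   .define,
   .loop (some (16, 4)) [.bwd 1493, .fwd 5982, .fwd 5983, .fwd 5984, .fwd 5985],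
   .define,
   .define,
   .define,
   .loop (some (21, 5)) [.fwd 5980, .fwd 5981, .fwd 1644, .bwd 1605, .bwd 1590, .fwd 5987, .fwd 5988, .fwd 5989],
   .define,
   .define,
   .loop (some (20, 3)) [.fwd 1674, .bwd 1076, .fwd 1664, .fwd 1312, .bwd 1494, .fwd 5982, .fwd 5991, .fwd 5992],
   .loop (some (2, 2)) [.bwd 375, .fwd 1493, .bwd 514],
   .define,
   .loop (some (5, 2)) [.bwd 5982, .bwd 1644, .fwd 5995],
   .define,
   .loop (some (8, 2)) [.bwd 375, .fwd 5976, .fwd 5997],
   .define]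

theorem just23_len : just23.length = 250 := by decide +kernel

theorem just23_ok : cert.okFacts 5750 just23 = true := by decide +kernel


end CfsgLib.ThCent.DX
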