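import Cfsg.Agent.Lib.ThCent.DXData

/-!
Justifications of the side facts (generated data).
-/

namespace CfsgLib.ThCent.DX

open CfsgLib.PresCert

set_option maxRecDepth 100000

/-- justifications -/
noncomputable def just120 : List Cert.Just :=
  [.loop none [.fwd 29805, .bwd 18132, .fwd 29085, .fwd 18212],
   .loop none [.fwd 30000],
   .loop none [.fwd 29803, .fwd 29088],
   .loop none [.bwd 10986, .bwd 30002, .bwd 24097],
   .loop none [.fwd 30003],
   .loop none [.bwd 429, .fwd 29091, .fwd 7548],
   .loop none [.fwd 30005],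
   .loop none [.fwd 29265, .bwd 9957, .fwd 29091, .bwd 13505],
   .loop none [.fwd 30007],
   .loop none [.fwd 719, .fwd 29091, .fwd 7553],
   .loop none [.fwd 30009],
   .loop none [.fwd 9913, .bwd 29093],
   .loop none [.bwd 1120, .bwd 29214, .bwd 15474],
   .loop none [.fwd 30012],
   .loop none [.fwd 9541, .bwd 29214, .bwd 18750],
   .loop none [.fwd 30014],
   .loop none [.fwd 10883, .fwd 29097, .bwd 13728],
   .loop none [.fwd 30016],
   .loop none [.bwd 5904, .fwd 29097, .bwd 14948],
   .loop none [.fwd 30018],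
   .loop none [.fwd 7354, .fwd 29097, .bwd 15192],
   .loop none [.fwd 30020],
   .loop none [.fwd 12375, .bwd 29723, .bwd 14048],
   .loop none [.fwd 30022],
   .loop none [.bwd 11451, .bwd 29723, .fwd 12100],
   .loop none [.fwd 30024],
   .loop none [.bwd 14539, .bwd 29723, .fwd 14760, .bwd 29838],
   .loop none [.bwd 30026],
   .loop none [.bwd 5569, .bwd 29102],
   .loop none [.fwd 7943, .bwd 29102],
   .loop none [.bwd 7944, .fwd 29102, .bwd 6834],
   .loop none [.fwd 30030],
   .loop none [.fwd 350, .fwd 29109, .fwd 8660, .bwd 29432],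
   .loop none [.bwd 30032],
   .loop none [.fwd 1886, .fwd 29109, .bwd 15677],
   .loop none [.fwd 30034],
   .loop none [.fwd 7892, .fwd 29109, .bwd 14579],
   .loop none [.fwd 30036],
   .loop none [.bwd 5949, .fwd 29109, .fwd 17885, .bwd 30010],
   .loop none [.bwd 30038],
   .loop none [.bwd 6962, .fwd 29111, .bwd 13477],
   .loop none [.fwd 30040],
   .loop none [.fwd 29888, .fwd 29726],
   .loop none [.bwd 8349, .fwd 29111, .bwd 13921],
   .loop none [.fwd 30043],
   .loop none [.fwd 9639, .fwd 29111, .bwd 13484],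
   .loop none [.fwd 30045],
   .loop none [.bwd 9574, .bwd 29113],
   .loop none [.bwd 6986, .fwd 29113, .fwd 13432],
   .loop none [.fwd 30048],
   .loop none [.bwd 9953, .fwd 29113, .fwd 13485],
   .loop none [.fwd 30050],
   .loop none [.bwd 9576, .bwd 29113],
   .loop none [.bwd 10810, .fwd 29115, .bwd 16128],
   .loop none [.fwd 30053],
   .loop none [.bwd 13711, .fwd 29115, .fwd 23639, .fwd 29930],
   .loop none [.bwd 30055],
   .loop none [.fwd 13685, .fwd 29115, .bwd 24109],
   .loop none [.fwd 30057],
   .loop none [.fwd 29897, .fwd 29121],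
   .loop none [.bwd 9431, .bwd 29230, .fwd 23267, .bwd 30058],
   .loop none [.fwd 30060],
   .loop none [.fwd 30008, .fwd 29119],
   .loop none [.bwd 11451, .bwd 30062, .fwd 22336],
   .loop none [.fwd 30063],
   .loop none [.bwd 641, .bwd 30059, .fwd 24402],
   .loop none [.fwd 30065],
   .loop none [.fwd 7728, .bwd 30059, .fwd 23417, .bwd 29992],
   .loop none [.fwd 30067],
   .loop none [.fwd 13718, .fwd 29123, .bwd 21778, .bwd 30066],
   .loop none [.bwd 30069],
   .loop none [.bwd 15467, .fwd 29123, .bwd 23230],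
   .loop none [.fwd 30071],
   .loop none [.fwd 13902, .fwd 29123, .bwd 19549],
   .loop none [.fwd 30073],
   .loop none [.bwd 23784, .fwd 29123, .fwd 19558],
   .loop none [.bwd 30075],
   .loop none [.bwd 641, .fwd 29125, .bwd 19072],
   .loop none [.fwd 30077],
   .loop none [.fwd 23, .fwd 29127, .fwd 26154],
   .loop none [.fwd 30079],
   .loop none [.fwd 28761, .bwd 29133],
   .loop none [.bwd 28760, .fwd 29133, .fwd 3115],
   .loop none [.fwd 30082],
   .loop none [.bwd 2351, .fwd 29133, .bwd 3121],
   .loop none [.fwd 30084],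
   .loop none [.bwd 6307, .bwd 29135],
   .loop none [.bwd 6308, .bwd 29135],
   .loop none [.fwd 6470, .fwd 29135, .fwd 28627],
   .loop none [.fwd 30088],
   .loop none [.bwd 28565, .fwd 29135, .fwd 28628],
   .loop none [.fwd 30090],
   .loop none [.bwd 6335, .bwd 29137],
   .loop none [.fwd 28584, .fwd 29137, .fwd 6338],
   .loop none [.fwd 30093],
   .loop none [.fwd 6370, .bwd 29137],
   .loop none [.fwd 29171, .bwd 5793, .fwd 29139, .fwd 7792],
   .loop none [.fwd 30096],
   .loop none [.fwd 6202, .bwd 29141],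
   .loop none [.fwd 4264, .bwd 29141],
   .loop none [.bwd 354, .bwd 29143],
   .loop none [.bwd 1043, .bwd 29143],
   .loop none [.fwd 5727, .bwd 29146],
   .loop none [.bwd 5724, .bwd 29146],
   .loop none [.bwd 5801, .bwd 29148],
   .loop none [.bwd 5945, .bwd 29148],
   .loop none [.bwd 1929, .bwd 29148],
   .loop none [.fwd 5943, .bwd 29148],
   .loop none [.bwd 8475, .bwd 29148],
   .loop none [.fwd 5952, .bwd 29148],
   .loop none [.bwd 20577, .fwd 29148, .fwd 8478],
   .loop none [.bwd 30110],
   .loop none [.bwd 7572, .bwd 29150],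
   .loop none [.fwd 3130, .fwd 29152, .bwd 661, .bwd 29543],
   .loop none [.fwd 30113],
   .loop none [.fwd 5838, .bwd 29152],
   .loop none [.fwd 1256, .bwd 29154],
   .loop none [.bwd 6584, .bwd 29158],
   .loop none [.fwd 605, .bwd 29158],
   .loop none [.fwd 29156, .bwd 29158],
   .loop none [.bwd 3617, .bwd 29164],
   .loop none [.fwd 5286, .bwd 29164],
   .loop none [.fwd 29161, .bwd 29164],
   .loop none [.fwd 276, .bwd 29166],
   .loop none [.fwd 1493, .bwd 29168],
   .loop none [.bwd 515, .bwd 29168],
   .loop none [.bwd 7252, .bwd 29168],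
   .loop none [.fwd 21, .fwd 29171, .bwd 7288, .bwd 29630],
   .loop none [.fwd 30127],
   .loop none [.fwd 5793, .bwd 29171],
   .loop none [.bwd 12021, .bwd 29175],
   .loop none [.fwd 11269, .bwd 29177],
   .loop none [.bwd 584, .fwd 29179, .fwd 633],
   .loop none [.fwd 30132],
   .loop none [.bwd 586, .fwd 29179, .fwd 6369],
   .loop none [.fwd 30134],
   .loop none [.bwd 70, .fwd 29179, .bwd 7371, .bwd 29886],
   .loop none [.bwd 30136],
   .loop none [.bwd 1799, .fwd 29179, .bwd 7704],
   .loop none [.bwd 30138],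
   .loop none [.fwd 635, .fwd 29183, .fwd 560],
   .loop none [.bwd 30140],
   .loop none [.fwd 7827, .fwd 29183, .bwd 7735],
   .loop none [.bwd 30142],
   .loop none [.fwd 29353, .bwd 29707, .fwd 27195, .bwd 29245],
   .loop none [.fwd 30144],
   .loop none [.bwd 7295, .fwd 29191, .fwd 27255],
   .loop none [.fwd 30146],
   .loop none [.bwd 8333, .fwd 29191, .fwd 22044],
   .loop none [.fwd 30148],
   .loop none [.fwd 29929, .fwd 29777],
   .loop none [.fwd 29925, .fwd 29438],
   .loop none [.fwd 29946, .fwd 29257],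
   .loop none [.fwd 26456, .bwd 29199],
   .loop none [.fwd 1839, .fwd 29201, .bwd 13337],
   .loop none [.fwd 30154],
   .loop none [.bwd 1852, .fwd 29201, .fwd 13330, .bwd 30013],
   .loop none [.fwd 30156],
   .loop none [.bwd 564, .fwd 29201, .fwd 12482],
   .loop none [.fwd 30158],
   .loop none [.fwd 1851, .fwd 29201, .bwd 13054],
   .loop none [.fwd 30160],
   .loop none [.fwd 8369, .fwd 29201, .bwd 13095],
   .loop none [.fwd 30162],
   .loop none [.fwd 29803, .fwd 23735, .fwd 29205, .bwd 15267],
   .loop none [.fwd 30164],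
   .loop none [.fwd 29805, .bwd 18132, .fwd 29205, .fwd 14817],
   .loop none [.fwd 30166],
   .loop none [.bwd 5433, .bwd 29207],
   .loop none [.bwd 7873, .fwd 29207, .fwd 5434],
   .loop none [.bwd 30169],
   .loop none [.fwd 7874, .bwd 29207],
   .loop none [.bwd 11174, .bwd 29207],
   .loop none [.bwd 29997, .fwd 23734, .fwd 29209, .bwd 15266],
   .loop none [.fwd 30173],
   .loop none [.fwd 30157, .fwd 30013],
   .loop none [.fwd 15273, .fwd 29213, .bwd 17785, .bwd 30068],
   .loop none [.bwd 30176],
   .loop none [.fwd 30027, .fwd 23736, .fwd 29219, .bwd 15268],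
   .loop none [.fwd 30178],
   .loop none [.bwd 18138, .fwd 29219, .fwd 14818],
   .loop none [.fwd 30180],
   .loop none [.fwd 1874, .fwd 29221, .fwd 23611, .bwd 29865],
   .loop none [.bwd 30182],
   .loop none [.fwd 15272, .fwd 29221, .bwd 17773],
   .loop none [.bwd 30184],
   .loop none [.fwd 29273, .fwd 12072, .fwd 29225, .fwd 29058, .bwd 29473],
   .loop none [.fwd 30186],
   .loop none [.bwd 19273, .bwd 29930, .fwd 23638],
   .loop none [.fwd 30188],
   .loop none [.fwd 30061, .fwd 30058],
   .loop none [.fwd 9582, .bwd 29930, .fwd 24188, .fwd 30190],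
   .loop none [.fwd 30191],
   .loop none [.fwd 30068, .fwd 29992],
   .loop none [.bwd 7275, .bwd 29229],
   .loop none [.bwd 10989, .bwd 29997, .bwd 14643],
   .loop none [.fwd 30195],
   .loop none [.fwd 30128, .fwd 29630],
   .loop none [.fwd 1036, .bwd 29237],
   .loop none [.fwd 235, .bwd 29237],
   .loop none [.bwd 19, .fwd 29237, .fwd 61],
   .loop none [.fwd 30200],
   .loop none [.bwd 994, .fwd 29239, .fwd 17617, .bwd 30035],
   .loop none [.fwd 30202],
   .loop none [.bwd 1118, .bwd 29241],
   .loop none [.bwd 1110, .bwd 29241],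
   .loop none [.bwd 1018, .bwd 29241],
   .loop none [.fwd 7946, .bwd 29241],
   .loop none [.bwd 686, .bwd 29243],
   .loop none [.fwd 30145, .fwd 29245],
   .loop none [.fwd 29537, .fwd 29391],
   .loop none [.bwd 11180, .bwd 30209, .fwd 9065],
   .loop none [.bwd 30211],
   .loop none [.fwd 14278, .bwd 29247],
   .loop none [.fwd 6930, .fwd 29249, .bwd 23213],
   .loop none [.fwd 30214],
   .loop none [.fwd 1248, .fwd 29407],
   .loop none [.bwd 1293, .fwd 29407],
   .loop none [.fwd 489, .fwd 29255, .fwd 12493, .bwd 29453],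
   .loop none [.fwd 30218],
   .loop none [.bwd 1878, .fwd 29255, .fwd 13001],
   .loop none [.fwd 30220],
   .loop none [.bwd 12093, .bwd 29255],
   .loop none [.fwd 10500, .fwd 30152],
   .loop none [.fwd 30187, .fwd 29489],
   .loop none [.fwd 5882, .fwd 29905],
   .loop none [.fwd 8449, .fwd 29905],
   .loop none [.bwd 10810, .bwd 29905, .fwd 9711],
   .loop none [.bwd 30227],
   .loop none [.fwd 30192, .fwd 30061],
   .loop none [.fwd 29890, .fwd 29547],
   .loop none [.bwd 18138, .fwd 29263, .fwd 18213, .bwd 30021],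
   .loop none [.bwd 30231],
   .loop none [.fwd 12375, .fwd 29265, .bwd 10956],
   .loop none [.bwd 30233],
   .loop none [.bwd 9958, .bwd 29265],
   .loop none [.fwd 9957, .bwd 29265],
   .loop none [.fwd 14537, .bwd 29267],
   .loop none [.fwd 10883, .fwd 29267, .fwd 13773],
   .loop none [.fwd 30238],
   .loop none [.bwd 5904, .fwd 29267, .fwd 14764],
   .loop none [.fwd 30240],
   .loop none [.fwd 14277, .bwd 29267],
   .loop none [.bwd 10415, .fwd 29269, .bwd 13007],
   .loop none [.fwd 30243],
   .loop none [.bwd 10821, .fwd 29269, .bwd 13005],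
   .loop none [.fwd 30245],
   .loop none [.bwd 9718, .fwd 29269, .fwd 12157],
   .loop none [.fwd 30247],
   .loop none [.fwd 11541, .fwd 29269, .bwd 14549]]

theorem just120_len : just120.length = 250 := by decide +kernel

theorem just120_ok : cert.okFacts 30000 just120 = true := by decide +kernel

/-- justifications -/
noncomputable def just121 : List Cert.Just :=
  [.loop none [.fwd 30249],
   .loop none [.bwd 14451, .fwd 29269, .fwd 18506],
   .loop none [.fwd 30251],
   .loop none [.bwd 12066, .bwd 29271],
   .loop none [.bwd 10475, .fwd 29273, .fwd 12805],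
   .loop none [.fwd 30254],
   .loop none [.bwd 12072, .bwd 29273],
   .loop none [.fwd 11613, .bwd 29275],
   .loop none [.bwd 12071, .bwd 29275],
   .loop none [.fwd 9714, .fwd 29277, .fwd 10944],
   .loop none [.fwd 30259],
   .loop none [.bwd 12056, .bwd 29277],
   .loop none [.bwd 7159, .fwd 29279, .bwd 23519],
   .loop none [.fwd 30262],
   .loop none [.fwd 14283, .bwd 29279],
   .loop none [.fwd 29975, .bwd 25756, .fwd 29281, .bwd 18417],
   .loop none [.bwd 30265],
   .loop none [.fwd 5976, .bwd 29281],
   .loop none [.fwd 30266, .fwd 29975],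
   .loop none [.fwd 10438, .bwd 29283],
   .loop none [.bwd 6626, .fwd 29287, .bwd 23212, .bwd 29593],
   .loop none [.fwd 30270],
   .loop none [.bwd 4938, .fwd 29287, .bwd 23713],
   .loop none [.fwd 30272],
   .loop none [.bwd 5841, .fwd 29287, .bwd 24145],
   .loop none [.fwd 30274],
   .loop none [.bwd 27656, .bwd 29289],
   .loop none [.bwd 7227, .fwd 29293, .fwd 14191],
   .loop none [.fwd 30277],
   .loop none [.fwd 14200, .bwd 29293],
   .loop none [.bwd 14861, .bwd 29293],
   .loop none [.fwd 10614, .bwd 29295],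
   .loop none [.bwd 7387, .fwd 29295, .fwd 12277],
   .loop none [.fwd 30282],
   .loop none [.fwd 10817, .bwd 29295],
   .loop none [.bwd 10160, .fwd 29295, .fwd 12288],
   .loop none [.fwd 30285],
   .loop none [.bwd 10615, .bwd 29295],
   .loop none [.fwd 10879, .bwd 29295],
   .loop none [.fwd 7304, .fwd 29298, .bwd 14838],
   .loop none [.fwd 30289],
   .loop none [.bwd 9565, .fwd 29298, .fwd 13288],
   .loop none [.fwd 30291],
   .loop none [.fwd 10621, .bwd 29300],
   .loop none [.fwd 7577, .fwd 29300, .fwd 12252],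
   .loop none [.fwd 30294],
   .loop none [.fwd 10826, .bwd 29300],
   .loop none [.bwd 10214, .fwd 29300, .fwd 12260],
   .loop none [.fwd 30297],
   .loop none [.bwd 10622, .bwd 29300],
   .loop none [.fwd 12052, .bwd 29300],
   .loop none [.bwd 1756, .fwd 29302, .bwd 12973],
   .loop none [.fwd 30301],
   .loop none [.bwd 1747, .fwd 29302, .fwd 12967],
   .loop none [.fwd 30303],
   .loop none [.bwd 1812, .fwd 29302, .fwd 13280],
   .loop none [.fwd 30305],
   .loop none [.bwd 12611, .fwd 29302, .fwd 14881],
   .loop none [.fwd 30307],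
   .loop none [.bwd 1854, .fwd 29304, .fwd 13267],
   .loop none [.fwd 30309],
   .loop none [.bwd 14044, .fwd 29304, .fwd 18608],
   .loop none [.fwd 30311],
   .loop none [.bwd 1710, .fwd 29306, .fwd 10606],
   .loop none [.fwd 30313],
   .loop none [.fwd 10605, .bwd 29306],
   .loop none [.fwd 1681, .fwd 29306, .bwd 12095],
   .loop none [.fwd 30316],
   .loop none [.bwd 738, .fwd 29306, .fwd 12507],
   .loop none [.fwd 30318],
   .loop none [.fwd 14035, .fwd 29306, .bwd 18680],
   .loop none [.fwd 30320],
   .loop none [.bwd 10617, .bwd 29308],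
   .loop none [.bwd 11610, .fwd 29308, .fwd 10825],
   .loop none [.fwd 30323],
   .loop none [.fwd 10616, .bwd 29308],
   .loop none [.bwd 705, .fwd 29308, .bwd 11633],
   .loop none [.fwd 30326],
   .loop none [.bwd 15517, .fwd 29308, .fwd 12074],
   .loop none [.bwd 30328],
   .loop none [.bwd 7145, .fwd 29315, .fwd 23644],
   .loop none [.fwd 30330],
   .loop none [.fwd 14279, .bwd 29315],
   .loop none [.bwd 9684, .bwd 29317],
   .loop none [.fwd 9683, .bwd 29317],
   .loop none [.fwd 11396, .bwd 29317],
   .loop none [.bwd 19273, .fwd 29317, .fwd 25799],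
   .loop none [.fwd 30336],
   .loop none [.fwd 30161, .fwd 15202, .fwd 29317, .bwd 17561],
   .loop none [.bwd 30338],
   .loop none [.bwd 18422, .fwd 29319, .bwd 14439, .bwd 30286],
   .loop none [.bwd 30340],
   .loop none [.fwd 10576, .bwd 29319],
   .loop none [.bwd 19475, .fwd 29319, .fwd 11542],
   .loop none [.bwd 30343],
   .loop none [.fwd 2173, .bwd 29325],
   .loop none [.bwd 8561, .bwd 29325],
   .loop none [.fwd 8560, .bwd 29330],
   .loop none [.bwd 1965, .bwd 29332],
   .loop none [.fwd 349, .bwd 29332],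
   .loop none [.fwd 1984, .bwd 29332],
   .loop none [.bwd 3515, .bwd 29332],
   .loop none [.fwd 3529, .fwd 29904, .bwd 7822, .bwd 29335],
   .loop none [.bwd 30352],
   .loop none [.fwd 8854, .bwd 29339],
   .loop none [.fwd 29957, .fwd 29506],
   .loop none [.fwd 29955, .fwd 29512],
   .loop none [.bwd 8593, .bwd 29344],
   .loop none [.bwd 2967, .bwd 29344],
   .loop none [.bwd 8857, .fwd 29344, .fwd 27182],
   .loop none [.fwd 30359],
   .loop none [.fwd 8579, .bwd 29347],
   .loop none [.fwd 8575, .bwd 29352],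
   .loop none [.fwd 8538, .bwd 29352],
   .loop none [.fwd 26335, .bwd 29357],
   .loop none [.bwd 2916, .bwd 29363],
   .loop none [.fwd 30114, .fwd 29543],
   .loop none [.fwd 30212, .fwd 29369],
   .loop none [.fwd 7304, .bwd 30367, .bwd 25244],
   .loop none [.fwd 30368],
   .loop none [.bwd 30355, .fwd 29373],
   .loop none [.bwd 9565, .bwd 30367, .fwd 22266],
   .loop none [.fwd 30371],
   .loop none [.fwd 7218, .bwd 30367, .fwd 25417, .bwd 30360],
   .loop none [.fwd 30373],
   .loop none [.fwd 7579, .bwd 30370, .bwd 23873],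
   .loop none [.fwd 30375],
   .loop none [.fwd 644, .bwd 30370, .bwd 23869],
   .loop none [.fwd 30377],
   .loop none [.fwd 29516, .fwd 21289, .fwd 29375, .bwd 25413],
   .loop none [.fwd 30379],
   .loop none [.fwd 13062, .fwd 29375, .fwd 16133],
   .loop none [.fwd 30381],
   .loop none [.bwd 15203, .fwd 29375, .fwd 24279],
   .loop none [.fwd 30383],
   .loop none [.bwd 7767, .fwd 29378, .bwd 15276],
   .loop none [.fwd 30385],
   .loop none [.fwd 30374, .fwd 29388],
   .loop none [.bwd 29186, .fwd 29965, .fwd 29364, .bwd 29378],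
   .loop none [.fwd 30388],
   .loop none [.fwd 29743, .fwd 12800, .fwd 30389, .bwd 16335, .bwd 29380],
   .loop none [.fwd 30390],
   .loop none [.fwd 30391, .fwd 29380],
   .loop none [.fwd 7299, .bwd 30392, .bwd 16334],
   .loop none [.fwd 30393],
   .loop none [.bwd 9572, .bwd 30392, .fwd 21416],
   .loop none [.fwd 30395],
   .loop none [.fwd 30212, .fwd 29393],
   .loop none [.bwd 8559, .bwd 29382],
   .loop none [.fwd 8533, .bwd 29382],
   .loop none [.bwd 7387, .bwd 29535, .fwd 13880],
   .loop none [.fwd 30400],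
   .loop none [.bwd 7583, .bwd 29535, .fwd 18870],
   .loop none [.bwd 30402],
   .loop none [.bwd 7227, .bwd 30387, .bwd 16467],
   .loop none [.fwd 30404],
   .loop none [.bwd 9360, .bwd 30387, .fwd 21503],
   .loop none [.fwd 30406],
   .loop none [.fwd 7577, .bwd 30210, .bwd 14606],
   .loop none [.fwd 30408],
   .loop none [.fwd 7304, .bwd 30397, .bwd 16381],
   .loop none [.fwd 30410],
   .loop none [.bwd 9565, .bwd 30397, .fwd 21444],
   .loop none [.fwd 30412],
   .loop none [.fwd 7788, .fwd 29395, .fwd 21646, .bwd 29907],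
   .loop none [.fwd 30414],
   .loop none [.fwd 16861, .fwd 29395, .bwd 21645],
   .loop none [.fwd 30416],
   .loop none [.bwd 1646, .fwd 29395, .bwd 24447],
   .loop none [.fwd 30418],
   .loop none [.fwd 16862, .fwd 29395, .bwd 24449],
   .loop none [.fwd 30420],
   .loop none [.fwd 15240, .fwd 29395, .bwd 24446],
   .loop none [.fwd 30422],
   .loop none [.bwd 21744, .fwd 29395, .fwd 25265],
   .loop none [.bwd 30424],
   .loop none [.bwd 8506, .bwd 29697, .bwd 22798],
   .loop none [.fwd 30426],
   .loop none [.fwd 25902, .fwd 29697],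
   .loop none [.bwd 8537, .fwd 29737],
   .loop none [.bwd 8511, .bwd 29737, .fwd 8556],
   .loop none [.fwd 30430],
   .loop none [.fwd 4447, .fwd 29409, .fwd 9149],
   .loop none [.fwd 30432],
   .loop none [.fwd 8867, .fwd 29409, .bwd 15014],
   .loop none [.fwd 30434],
   .loop none [.bwd 8103, .fwd 29409, .fwd 27227, .bwd 30273],
   .loop none [.fwd 30436],
   .loop none [.bwd 1272, .fwd 29411, .fwd 4189],
   .loop none [.fwd 30438],
   .loop none [.fwd 4384, .fwd 29411, .bwd 8782],
   .loop none [.fwd 30440],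
   .loop none [.fwd 4630, .fwd 29413, .bwd 7445],
   .loop none [.bwd 30442],
   .loop none [.fwd 1443, .fwd 29413, .bwd 12661],
   .loop none [.fwd 30444],
   .loop none [.fwd 1467, .fwd 29415, .bwd 7366, .bwd 30135],
   .loop none [.fwd 30446],
   .loop none [.fwd 30437, .fwd 30273],
   .loop none [.fwd 8500, .fwd 29417, .bwd 22988],
   .loop none [.fwd 30449],
   .loop none [.bwd 25066, .bwd 29417],
   .loop none [.fwd 2112, .fwd 29419, .bwd 20747],
   .loop none [.fwd 30452],
   .loop none [.fwd 8492, .fwd 29419, .bwd 25068],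
   .loop none [.fwd 30454],
   .loop none [.bwd 9106, .bwd 29419],
   .loop none [.bwd 4803, .fwd 29422, .bwd 22764, .bwd 29683],
   .loop none [.bwd 30457],
   .loop none [.bwd 8526, .bwd 29424],
   .loop none [.bwd 30347, .fwd 29424, .bwd 8554],
   .loop none [.fwd 30460],
   .loop none [.bwd 8506, .fwd 29424, .fwd 8530],
   .loop none [.fwd 30462],
   .loop none [.bwd 5841, .bwd 29669, .bwd 27129],
   .loop none [.fwd 30464],
   .loop none [.fwd 6826, .bwd 29669, .bwd 27158],
   .loop none [.fwd 30466],
   .loop none [.fwd 30219, .fwd 29429],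
   .loop none [.bwd 2061, .bwd 30468, .bwd 15471, .bwd 29783],
   .loop none [.fwd 30469],
   .loop none [.bwd 473, .bwd 30468, .bwd 12691, .bwd 29612],
   .loop none [.fwd 30471],
   .loop none [.bwd 409, .bwd 30468, .fwd 12662],
   .loop none [.fwd 30473],
   .loop none [.fwd 30470, .fwd 29455],
   .loop none [.fwd 30219, .fwd 29453],
   .loop none [.fwd 29773, .fwd 27169, .bwd 29449, .bwd 8160],
   .loop none [.fwd 30477],
   .loop none [.fwd 22637, .fwd 29436, .fwd 24864, .bwd 30465],
   .loop none [.bwd 30479],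
   .loop none [.bwd 13064, .fwd 29436, .bwd 24559],
   .loop none [.fwd 30481],
   .loop none [.fwd 15204, .fwd 29436, .bwd 24562],
   .loop none [.fwd 30483],
   .loop none [.fwd 509, .bwd 30151, .bwd 12640, .bwd 30484],
   .loop none [.fwd 30485],
   .loop none [.fwd 7997, .fwd 29440, .fwd 14146, .bwd 30474],
   .loop none [.bwd 30487],
   .loop none [.fwd 17562, .fwd 29440, .bwd 27179],
   .loop none [.fwd 30489],
   .loop none [.fwd 24854, .fwd 29440, .bwd 24912],
   .loop none [.fwd 30491],
   .loop none [.bwd 10186, .bwd 29947, .fwd 26000, .bwd 30490],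
   .loop none [.fwd 30493],
   .loop none [.bwd 8662, .bwd 29446],
   .loop none [.fwd 30478, .fwd 8232, .fwd 29446, .bwd 23193],
   .loop none [.fwd 30496],
   .loop none [.fwd 30478, .fwd 29939],
   .loop none [.fwd 8098, .bwd 29451]]

theorem just121_len : just121.length = 250 := by decide +kernel

theorem just121_ok : cert.okFacts 30250 just121 = true := by decide +kernel

/-- justifications -/
noncomputable def just122 : List Cert.Just :=
  [.loop none [.bwd 27164, .fwd 29451, .fwd 9216],
   .loop none [.bwd 30500],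
   .loop none [.bwd 409, .bwd 30476, .fwd 20686],
   .loop none [.fwd 30502],
   .loop none [.bwd 406, .bwd 30475, .fwd 12660, .bwd 30445],
   .loop none [.fwd 30504],
   .loop none [.fwd 5566, .bwd 30475, .fwd 14144, .bwd 30501],
   .loop none [.fwd 30506],
   .loop none [.bwd 20127, .bwd 29459],
   .loop none [.fwd 29869, .fwd 29849],
   .loop none [.fwd 29999, .fwd 29796],
   .loop none [.bwd 1644, .fwd 29878],
   .loop none [.bwd 1605, .bwd 29463],
   .loop none [.fwd 29336, .bwd 29463],
   .loop none [.fwd 30203, .fwd 30035],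
   .loop none [.bwd 30268, .bwd 25756, .fwd 29465, .fwd 13589],
   .loop none [.bwd 30515],
   .loop none [.fwd 30228, .bwd 10810, .fwd 29467, .fwd 19973],
   .loop none [.fwd 30517],
   .loop none [.bwd 30229, .fwd 13685, .fwd 29467, .bwd 19976],
   .loop none [.fwd 30519],
   .loop none [.bwd 427, .bwd 29469],
   .loop none [.fwd 863, .fwd 29469, .bwd 525],
   .loop none [.bwd 30522],
   .loop none [.bwd 21120, .bwd 29471],
   .loop none [.fwd 23934, .fwd 29471, .bwd 23793],
   .loop none [.fwd 30525],
   .loop none [.fwd 9714, .bwd 29923, .fwd 21143, .bwd 30526],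
   .loop none [.fwd 30527],
   .loop none [.fwd 22520, .fwd 29923],
   .loop none [.bwd 20282, .bwd 29477],
   .loop none [.bwd 7788, .fwd 29477, .fwd 21249, .bwd 29532],
   .loop none [.bwd 30531],
   .loop none [.fwd 30528, .fwd 30526],
   .loop none [.fwd 15215, .fwd 29477, .bwd 21253, .fwd 30533],
   .loop none [.bwd 30534],
   .loop none [.bwd 5988, .fwd 29477, .fwd 20266],
   .loop none [.fwd 30536],
   .loop none [.bwd 24001, .fwd 29477, .fwd 23796, .bwd 29936],
   .loop none [.bwd 30538],
   .loop none [.fwd 21534, .fwd 29477, .bwd 20315],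
   .loop none [.bwd 30540],
   .loop none [.fwd 24729, .fwd 29477, .bwd 24813],
   .loop none [.fwd 30542],
   .loop none [.bwd 10507, .fwd 29484, .fwd 21445, .bwd 30541],
   .loop none [.fwd 30544],
   .loop none [.fwd 518, .fwd 29486, .bwd 1531],
   .loop none [.fwd 30546],
   .loop none [.fwd 26459, .fwd 30224],
   .loop none [.bwd 29184, .fwd 29494, .fwd 14823],
   .loop none [.fwd 30549],
   .loop none [.fwd 29750, .fwd 29501, .bwd 13566],
   .loop none [.fwd 30551],
   .loop none [.fwd 30269, .fwd 29501, .fwd 21391],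
   .loop none [.fwd 30553],
   .loop none [.fwd 7579, .bwd 30355, .bwd 15277],
   .loop none [.fwd 30555],
   .loop none [.fwd 644, .bwd 30355, .bwd 13526],
   .loop none [.fwd 30557],
   .loop none [.fwd 11010, .fwd 29508, .bwd 16285],
   .loop none [.fwd 30559],
   .loop none [.fwd 7794, .fwd 29508, .fwd 23375],
   .loop none [.fwd 30561],
   .loop none [.bwd 13061, .fwd 29508, .fwd 20095],
   .loop none [.fwd 30563],
   .loop none [.bwd 835, .fwd 29508, .bwd 18880, .bwd 30394],
   .loop none [.fwd 30565],
   .loop none [.fwd 30566, .fwd 30394],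
   .loop none [.bwd 7795, .fwd 29508, .bwd 19443],
   .loop none [.fwd 30568],
   .loop none [.fwd 30239, .fwd 15242, .fwd 29508, .bwd 23732],
   .loop none [.fwd 30570],
   .loop none [.bwd 13766, .fwd 29508, .fwd 19444],
   .loop none [.fwd 30572],
   .loop none [.bwd 17696, .fwd 29510, .fwd 24363, .bwd 30396],
   .loop none [.bwd 30574],
   .loop none [.fwd 13871, .fwd 29510, .bwd 24348],
   .loop none [.fwd 30576],
   .loop none [.fwd 7309, .bwd 30356, .bwd 16425, .bwd 30569],
   .loop none [.bwd 30578],
   .loop none [.fwd 567, .bwd 30356, .fwd 17729, .bwd 30577],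
   .loop none [.fwd 30580],
   .loop none [.fwd 16294, .fwd 29514, .fwd 14594],
   .loop none [.bwd 30582],
   .loop none [.bwd 7742, .fwd 29514, .fwd 14633],
   .loop none [.fwd 30584],
   .loop none [.bwd 7765, .fwd 29514, .fwd 15278, .bwd 30556],
   .loop none [.fwd 30586],
   .loop none [.fwd 11797, .fwd 29514, .bwd 25273],
   .loop none [.fwd 30588],
   .loop none [.bwd 16328, .fwd 29514, .fwd 15280],
   .loop none [.fwd 30590],
   .loop none [.bwd 17312, .fwd 29516, .fwd 21653],
   .loop none [.fwd 30592],
   .loop none [.fwd 17708, .fwd 29516, .bwd 23791, .bwd 30558],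
   .loop none [.bwd 30594],
   .loop none [.bwd 856, .fwd 29521, .bwd 13753],
   .loop none [.fwd 30596],
   .loop none [.bwd 847, .fwd 29521, .fwd 13754],
   .loop none [.fwd 30598],
   .loop none [.fwd 839, .fwd 29521, .bwd 17761, .bwd 30405],
   .loop none [.fwd 30600],
   .loop none [.fwd 30601, .fwd 30405],
   .loop none [.bwd 7786, .fwd 29521, .bwd 17767, .bwd 30411],
   .loop none [.fwd 30603],
   .loop none [.bwd 11007, .fwd 29521, .fwd 15053],
   .loop none [.fwd 30605],
   .loop none [.fwd 17314, .fwd 29523, .bwd 21655],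
   .loop none [.fwd 30607],
   .loop none [.bwd 950, .fwd 29523, .fwd 15750],
   .loop none [.fwd 30609],
   .loop none [.bwd 13877, .fwd 29523, .fwd 24408, .bwd 30407],
   .loop none [.bwd 30611],
   .loop none [.bwd 20011, .fwd 29523, .fwd 24167],
   .loop none [.bwd 30613],
   .loop none [.bwd 783, .fwd 29527, .bwd 10043],
   .loop none [.fwd 30615],
   .loop none [.fwd 736, .fwd 29527, .fwd 10971],
   .loop none [.fwd 30617],
   .loop none [.bwd 1682, .fwd 29527, .fwd 13545],
   .loop none [.fwd 30619],
   .loop none [.fwd 767, .fwd 29527, .bwd 13533, .bwd 30401],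
   .loop none [.fwd 30621],
   .loop none [.fwd 30622, .fwd 30401],
   .loop none [.fwd 7755, .fwd 29527, .bwd 14604, .bwd 30409],
   .loop none [.fwd 30624],
   .loop none [.fwd 11045, .fwd 29527, .bwd 14640],
   .loop none [.fwd 30626],
   .loop none [.bwd 10990, .fwd 29527, .fwd 23377],
   .loop none [.fwd 30628],
   .loop none [.fwd 573, .fwd 29529, .fwd 29525],
   .loop none [.fwd 30630],
   .loop none [.fwd 30315, .fwd 29529, .bwd 790],
   .loop none [.fwd 30632],
   .loop none [.bwd 30322, .fwd 29532, .fwd 13775],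
   .loop none [.bwd 30634],
   .loop none [.fwd 7388, .fwd 29532, .bwd 13881, .bwd 30620],
   .loop none [.fwd 30636],
   .loop none [.bwd 11610, .fwd 29532, .fwd 19983],
   .loop none [.fwd 30638],
   .loop none [.bwd 705, .fwd 29532, .fwd 13513],
   .loop none [.fwd 30640],
   .loop none [.fwd 30312, .fwd 19034, .fwd 29532, .bwd 24851, .bwd 30614],
   .loop none [.fwd 30642],
   .loop none [.fwd 30329, .bwd 15517, .fwd 29532, .fwd 23908],
   .loop none [.fwd 30644],
   .loop none [.bwd 10214, .fwd 29537, .fwd 16391],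
   .loop none [.fwd 30646],
   .loop none [.fwd 28805, .bwd 29539],
   .loop none [.bwd 5973, .fwd 29541, .fwd 8444],
   .loop none [.bwd 30649],
   .loop none [.fwd 30139, .bwd 7757, .bwd 30366, .bwd 6992],
   .loop none [.bwd 30651],
   .loop none [.fwd 438, .bwd 30366, .bwd 4663, .bwd 30650],
   .loop none [.bwd 30653],
   .loop none [.bwd 3135, .bwd 30366, .bwd 931],
   .loop none [.bwd 30655],
   .loop none [.fwd 7346, .bwd 30366, .bwd 7060],
   .loop none [.bwd 30657],
   .loop none [.bwd 7106, .bwd 30366, .fwd 7683],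
   .loop none [.bwd 30659],
   .loop none [.fwd 30652, .fwd 30139],
   .loop none [.bwd 7915, .fwd 29545, .fwd 16241],
   .loop none [.fwd 30662],
   .loop none [.fwd 1839, .bwd 30230, .bwd 12728, .bwd 30629],
   .loop none [.bwd 30664],
   .loop none [.bwd 564, .bwd 30230, .fwd 16552],
   .loop none [.fwd 30666],
   .loop none [.fwd 8369, .bwd 30230, .fwd 17794],
   .loop none [.fwd 30668],
   .loop none [.bwd 17802, .fwd 30230],
   .loop none [.bwd 1916, .bwd 29549],
   .loop none [.fwd 768, .bwd 29551],
   .loop none [.bwd 434, .fwd 29551, .fwd 7000],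
   .loop none [.fwd 30673],
   .loop none [.fwd 7005, .bwd 29551],
   .loop none [.bwd 7003, .bwd 29551],
   .loop none [.bwd 759, .fwd 29553, .fwd 7717],
   .loop none [.fwd 30677],
   .loop none [.bwd 26, .fwd 29555, .fwd 68],
   .loop none [.fwd 30679],
   .loop none [.bwd 730, .fwd 29555, .fwd 1675],
   .loop none [.fwd 30681],
   .loop none [.fwd 721, .fwd 29555, .fwd 773],
   .loop none [.fwd 30683],
   .loop none [.fwd 30443, .fwd 7761, .fwd 29555, .bwd 6909],
   .loop none [.bwd 30685],
   .loop none [.bwd 759, .fwd 29555, .fwd 1694],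
   .loop none [.fwd 30687],
   .loop none [.fwd 10048, .bwd 29557],
   .loop none [.bwd 690, .fwd 29560, .fwd 13507],
   .loop none [.fwd 30690],
   .loop none [.fwd 7722, .fwd 29560, .fwd 15270],
   .loop none [.fwd 30692],
   .loop none [.fwd 23210, .bwd 29560],
   .loop none [.bwd 641, .fwd 29562, .fwd 13523],
   .loop none [.fwd 30695],
   .loop none [.fwd 7726, .fwd 29562, .bwd 13816, .bwd 30185],
   .loop none [.fwd 30697],
   .loop none [.bwd 11055, .bwd 29562],
   .loop none [.bwd 1272, .fwd 29566, .bwd 26974, .bwd 29638],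
   .loop none [.fwd 30700],
   .loop none [.fwd 293, .bwd 29568],
   .loop none [.fwd 30701, .fwd 29638],
   .loop none [.fwd 8916, .fwd 29570, .bwd 15033],
   .loop none [.fwd 30704],
   .loop none [.bwd 4522, .fwd 29572, .fwd 27020],
   .loop none [.fwd 30706],
   .loop none [.fwd 3391, .fwd 29574, .fwd 26946],
   .loop none [.fwd 30708],
   .loop none [.fwd 3373, .fwd 29578, .bwd 27014],
   .loop none [.fwd 30710],
   .loop none [.fwd 319, .bwd 29581],
   .loop none [.bwd 2864, .bwd 29583],
   .loop none [.fwd 8663, .bwd 29586],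
   .loop none [.bwd 29584, .bwd 29586],
   .loop none [.bwd 8102, .bwd 29589],
   .loop none [.bwd 8115, .bwd 29589],
   .loop none [.fwd 29811, .bwd 27171, .fwd 29589, .fwd 9159],
   .loop none [.fwd 30718],
   .loop none [.fwd 30686, .fwd 30443],
   .loop none [.bwd 5045, .bwd 29860, .bwd 26763, .bwd 30711],
   .loop none [.bwd 30721],
   .loop none [.fwd 30505, .fwd 29614],
   .loop none [.fwd 30472, .fwd 29612],
   .loop none [.fwd 29773, .fwd 29736],
   .loop none [.fwd 9246, .fwd 29608, .bwd 15036],
   .loop none [.fwd 30726],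
   .loop none [.bwd 4522, .fwd 29608, .fwd 27016],
   .loop none [.fwd 30728],
   .loop none [.fwd 9162, .fwd 29610, .bwd 15034],
   .loop none [.fwd 30730],
   .loop none [.bwd 4418, .fwd 29610, .fwd 27007],
   .loop none [.fwd 30732],
   .loop none [.bwd 5342, .bwd 30724, .fwd 12699, .bwd 30599],
   .loop none [.bwd 30734],
   .loop none [.bwd 5350, .bwd 30724, .fwd 12675],
   .loop none [.fwd 30736],
   .loop none [.fwd 6923, .bwd 30724, .bwd 12690, .bwd 30727],
   .loop none [.bwd 30738],
   .loop none [.fwd 6934, .bwd 30724, .fwd 15027, .bwd 30731],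
   .loop none [.bwd 30740],
   .loop none [.bwd 5355, .bwd 30723, .fwd 17592],
   .loop none [.fwd 30742],
   .loop none [.bwd 5175, .bwd 30723, .fwd 20452],
   .loop none [.fwd 30744],
   .loop none [.fwd 5885, .bwd 30723, .bwd 20693, .bwd 30729],
   .loop none [.bwd 30746],
   .loop none [.fwd 5931, .bwd 30723, .bwd 23731, .bwd 30733],
   .loop none [.bwd 30748]]

theorem just122_len : just122.length = 250 := by decide +kernel

theorem just122_ok : cert.okFacts 30500 just122 = true := by decide +kernel

/-- justifications -/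
noncomputable def just123 : List Cert.Just :=
  [.loop none [.bwd 4547, .fwd 29617, .fwd 26989],
   .loop none [.fwd 30750],
   .loop none [.fwd 29830, .fwd 29620],
   .loop none [.fwd 5894, .bwd 30752, .fwd 21661, .bwd 29714],
   .loop none [.bwd 30753],
   .loop none [.fwd 30507, .fwd 30501],
   .loop none [.bwd 8066, .fwd 30197],
   .loop none [.bwd 4481, .bwd 30703, .fwd 22483, .bwd 29640],
   .loop none [.fwd 30757],
   .loop none [.fwd 30758, .fwd 29640],
   .loop none [.fwd 9163, .bwd 30759, .bwd 25060],
   .loop none [.fwd 30760],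
   .loop none [.bwd 17093, .bwd 29790, .bwd 23715],
   .loop none [.bwd 30762],
   .loop none [.bwd 8147, .bwd 29790, .fwd 23862],
   .loop none [.fwd 30764],
   .loop none [.fwd 30219, .fwd 29646],
   .loop none [.bwd 473, .bwd 30766, .bwd 25865],
   .loop none [.fwd 30767],
   .loop none [.bwd 21113, .bwd 29648],
   .loop none [.bwd 3273, .bwd 29651],
   .loop none [.fwd 2122, .bwd 29658],
   .loop none [.bwd 7, .bwd 29666],
   .loop none [.fwd 7123, .bwd 29668],
   .loop none [.fwd 7942, .bwd 29672],
   .loop none [.fwd 29765, .fwd 29674],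
   .loop none [.fwd 30739, .bwd 6881, .bwd 30775, .bwd 27667],
   .loop none [.fwd 30776],
   .loop none [.fwd 2171, .bwd 29681],
   .loop none [.fwd 8525, .bwd 29686],
   .loop none [.bwd 5359, .bwd 29691],
   .loop none [.fwd 8500, .fwd 29691, .bwd 8509],
   .loop none [.fwd 30781],
   .loop none [.bwd 8545, .bwd 29696],
   .loop none [.fwd 25907, .bwd 29699],
   .loop none [.fwd 25926, .bwd 29702],
   .loop none [.fwd 25903, .bwd 29704],
   .loop none [.fwd 5508, .bwd 29710],
   .loop none [.bwd 5128, .bwd 29710],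
   .loop none [.fwd 1937, .bwd 29710],
   .loop none [.bwd 8074, .fwd 29712, .bwd 26769],
   .loop none [.fwd 30790],
   .loop none [.fwd 18609, .fwd 29717, .fwd 18211],
   .loop none [.bwd 30792],
   .loop none [.bwd 10986, .fwd 29719, .bwd 15248],
   .loop none [.fwd 30794],
   .loop none [.fwd 17595, .bwd 29719],
   .loop none [.fwd 30656, .fwd 30041],
   .loop none [.fwd 30658, .fwd 30133],
   .loop none [.fwd 30234, .fwd 30023],
   .loop none [.bwd 13580, .fwd 30042],
   .loop none [.fwd 7828, .bwd 30042, .fwd 13581],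
   .loop none [.fwd 30801],
   .loop none [.bwd 942, .bwd 30042, .fwd 13326],
   .loop none [.fwd 30803],
   .loop none [.fwd 7856, .bwd 30042, .bwd 13706],
   .loop none [.fwd 30805],
   .loop none [.fwd 29851, .fwd 23737, .fwd 29728, .bwd 15269],
   .loop none [.fwd 30807],
   .loop none [.fwd 29853, .bwd 18143, .fwd 29728, .fwd 14819],
   .loop none [.fwd 30809],
   .loop none [.bwd 8781, .bwd 29734],
   .loop none [.bwd 6694, .bwd 30725, .fwd 26908],
   .loop none [.fwd 30812],
   .loop none [.fwd 30604, .fwd 7304, .fwd 29739, .bwd 18716],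
   .loop none [.fwd 30814],
   .loop none [.bwd 9565, .fwd 29739, .fwd 16607],
   .loop none [.fwd 30816],
   .loop none [.fwd 7575, .fwd 29741, .fwd 12237],
   .loop none [.fwd 30818],
   .loop none [.bwd 14194, .bwd 29741],
   .loop none [.bwd 10243, .fwd 29741, .fwd 12248],
   .loop none [.fwd 30821],
   .loop none [.bwd 12800, .bwd 29743],
   .loop none [.fwd 29185, .bwd 29743],
   .loop none [.bwd 13284, .bwd 29745],
   .loop none [.fwd 644, .fwd 29745, .bwd 14064],
   .loop none [.fwd 30826],
   .loop none [.fwd 12788, .bwd 29747],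
   .loop none [.fwd 567, .fwd 29747, .fwd 12891],
   .loop none [.fwd 30829],
   .loop none [.bwd 14872, .bwd 29747],
   .loop none [.fwd 13952, .fwd 29749, .fwd 12222],
   .loop none [.bwd 30832],
   .loop none [.fwd 30682, .bwd 8315, .fwd 29749, .bwd 14390],
   .loop none [.fwd 30834],
   .loop none [.fwd 19711, .fwd 29749, .bwd 15282],
   .loop none [.bwd 30836],
   .loop none [.fwd 8343, .fwd 29749, .fwd 18577, .bwd 30802],
   .loop none [.bwd 30838],
   .loop none [.bwd 10618, .fwd 29752, .fwd 13273],
   .loop none [.fwd 30840],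
   .loop none [.fwd 12224, .fwd 29755, .fwd 12753],
   .loop none [.fwd 30842],
   .loop none [.bwd 8332, .fwd 29755, .bwd 18595],
   .loop none [.fwd 30844],
   .loop none [.bwd 13990, .fwd 29755, .fwd 18597],
   .loop none [.fwd 30846],
   .loop none [.bwd 12760, .bwd 29758],
   .loop none [.fwd 6865, .fwd 29758, .fwd 12501],
   .loop none [.fwd 30849],
   .loop none [.bwd 7295, .fwd 29760, .fwd 7752],
   .loop none [.bwd 30851],
   .loop none [.bwd 29361, .bwd 29760],
   .loop none [.bwd 8120, .bwd 29765],
   .loop none [.bwd 5617, .bwd 29767],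
   .loop none [.bwd 14695, .fwd 29937],
   .loop none [.bwd 1878, .fwd 29771, .fwd 25436],
   .loop none [.fwd 30857],
   .loop none [.bwd 6694, .fwd 29773, .fwd 27168, .bwd 30705],
   .loop none [.bwd 30859],
   .loop none [.fwd 10476, .fwd 29775, .bwd 18695],
   .loop none [.fwd 30861],
   .loop none [.bwd 10240, .bwd 30150, .fwd 17008, .bwd 30482],
   .loop none [.fwd 30863],
   .loop none [.fwd 9219, .fwd 29785, .bwd 15035],
   .loop none [.fwd 30865],
   .loop none [.bwd 19739, .fwd 29787, .bwd 23719],
   .loop none [.fwd 30867],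
   .loop none [.fwd 30763, .bwd 17093, .fwd 29789, .bwd 5545],
   .loop none [.bwd 30869],
   .loop none [.bwd 8147, .fwd 29789, .fwd 6639],
   .loop none [.bwd 30871],
   .loop none [.fwd 8153, .fwd 29789, .bwd 6681],
   .loop none [.fwd 30873],
   .loop none [.fwd 8148, .fwd 29789, .bwd 6667],
   .loop none [.fwd 30875],
   .loop none [.fwd 20178, .fwd 30510],
   .loop none [.bwd 8300, .bwd 30510, .fwd 20548, .bwd 30693],
   .loop none [.bwd 30878],
   .loop none [.fwd 5990, .bwd 30510, .fwd 20236],
   .loop none [.fwd 30880],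
   .loop none [.fwd 30806, .fwd 15238, .bwd 30510, .bwd 22399],
   .loop none [.fwd 30882],
   .loop none [.bwd 20212, .bwd 29798],
   .loop none [.bwd 10986, .fwd 29803, .bwd 15056],
   .loop none [.fwd 30885],
   .loop none [.bwd 23735, .bwd 29803],
   .loop none [.bwd 11129, .fwd 29805, .bwd 13800],
   .loop none [.fwd 30888],
   .loop none [.bwd 6846, .fwd 29805, .fwd 19914],
   .loop none [.fwd 30890],
   .loop none [.fwd 18132, .bwd 29805],
   .loop none [.bwd 5555, .bwd 29807],
   .loop none [.bwd 5560, .bwd 29807],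
   .loop none [.bwd 4388, .bwd 29809],
   .loop none [.fwd 5002, .bwd 29809],
   .loop none [.fwd 30876, .bwd 5512, .fwd 29811, .bwd 15006],
   .loop none [.fwd 30897],
   .loop none [.fwd 27171, .bwd 29811],
   .loop none [.fwd 4545, .bwd 29813],
   .loop none [.fwd 4558, .bwd 29813],
   .loop none [.bwd 27162, .bwd 29815],
   .loop none [.fwd 13828, .bwd 29818],
   .loop none [.fwd 30339, .fwd 30161],
   .loop none [.bwd 15398, .fwd 29821, .fwd 10299],
   .loop none [.bwd 30905],
   .loop none [.bwd 11133, .fwd 29823, .bwd 13806],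
   .loop none [.fwd 30907],
   .loop none [.bwd 9689, .fwd 29823, .fwd 17962],
   .loop none [.fwd 30909],
   .loop none [.fwd 18126, .bwd 29823],
   .loop none [.bwd 3280, .bwd 29826],
   .loop none [.fwd 4886, .bwd 29826],
   .loop none [.bwd 5455, .fwd 29828, .fwd 26873, .bwd 30751],
   .loop none [.fwd 30914],
   .loop none [.bwd 7993, .fwd 29832, .fwd 21706],
   .loop none [.fwd 30916],
   .loop none [.fwd 7860, .fwd 29832, .fwd 17784, .bwd 30669],
   .loop none [.fwd 30918],
   .loop none [.fwd 14899, .fwd 29834, .fwd 17799],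
   .loop none [.bwd 30920],
   .loop none [.bwd 7665, .fwd 29836, .fwd 14049],
   .loop none [.fwd 30922],
   .loop none [.bwd 13105, .fwd 29836, .fwd 25664],
   .loop none [.fwd 30924],
   .loop none [.bwd 18588, .bwd 29836],
   .loop none [.bwd 10984, .fwd 29838, .bwd 15250],
   .loop none [.fwd 30927],
   .loop none [.fwd 30232, .fwd 30181],
   .loop none [.fwd 9967, .fwd 29838, .bwd 13427],
   .loop none [.fwd 30930],
   .loop none [.bwd 14563, .bwd 29840],
   .loop none [.bwd 9689, .fwd 29840, .bwd 15141],
   .loop none [.fwd 30933],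
   .loop none [.bwd 18300, .fwd 29842, .bwd 18834],
   .loop none [.fwd 30935],
   .loop none [.fwd 11768, .fwd 29842, .bwd 18833],
   .loop none [.fwd 30937],
   .loop none [.bwd 14562, .bwd 29844],
   .loop none [.bwd 9689, .fwd 29844, .fwd 23363],
   .loop none [.fwd 30940],
   .loop none [.fwd 5673, .bwd 29846],
   .loop none [.bwd 5120, .bwd 29846],
   .loop none [.bwd 5121, .bwd 29846],
   .loop none [.bwd 1922, .bwd 29846],
   .loop none [.fwd 5704, .bwd 29846],
   .loop none [.fwd 20180, .fwd 30509],
   .loop none [.bwd 8294, .bwd 30509, .fwd 20542, .bwd 30691],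
   .loop none [.bwd 30948],
   .loop none [.fwd 30804, .fwd 15236, .bwd 30509, .bwd 22398],
   .loop none [.fwd 30950],
   .loop none [.bwd 10978, .fwd 29851, .fwd 14303],
   .loop none [.fwd 30952],
   .loop none [.bwd 11117, .fwd 29853, .bwd 13784],
   .loop none [.fwd 30954],
   .loop none [.bwd 6710, .fwd 29853, .fwd 19871],
   .loop none [.fwd 30956],
   .loop none [.fwd 18143, .bwd 29853],
   .loop none [.fwd 6695, .bwd 29855],
   .loop none [.bwd 3474, .bwd 29855],
   .loop none [.fwd 5703, .bwd 29855],
   .loop none [.bwd 9019, .bwd 29855],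
   .loop none [.fwd 3279, .bwd 29857],
   .loop none [.fwd 4868, .bwd 29857],
   .loop none [.bwd 27037, .bwd 29863],
   .loop none [.bwd 5630, .bwd 29867],
   .loop none [.bwd 5631, .bwd 29867],
   .loop none [.fwd 8079, .bwd 29867],
   .loop none [.fwd 7922, .fwd 29867, .bwd 6769],
   .loop none [.fwd 30969],
   .loop none [.fwd 6675, .bwd 29869],
   .loop none [.fwd 9497, .bwd 29869],
   .loop none [.fwd 29985, .bwd 19176, .fwd 29869, .fwd 25772],
   .loop none [.fwd 30973],
   .loop none [.fwd 8434, .bwd 29869],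
   .loop none [.fwd 8436, .bwd 29869],
   .loop none [.bwd 5625, .fwd 29871, .fwd 7931],
   .loop none [.fwd 30977],
   .loop none [.fwd 8116, .bwd 29871],
   .loop none [.bwd 7938, .fwd 29873, .fwd 21691],
   .loop none [.fwd 30980],
   .loop none [.fwd 12840, .fwd 29875, .fwd 25661],
   .loop none [.fwd 30982],
   .loop none [.bwd 14985, .bwd 29875],
   .loop none [.fwd 5936, .bwd 29877],
   .loop none [.bwd 13573, .fwd 29877, .fwd 19796],
   .loop none [.fwd 30986],
   .loop none [.bwd 9573, .bwd 29877],
   .loop none [.bwd 7845, .fwd 29880, .fwd 17795, .bwd 30667],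
   .loop none [.bwd 30989],
   .loop none [.bwd 1522, .fwd 29880, .fwd 12638],
   .loop none [.fwd 30991],
   .loop none [.fwd 1866, .bwd 29882],
   .loop none [.fwd 30684, .fwd 30317],
   .loop none [.bwd 641, .fwd 29882, .fwd 12292],
   .loop none [.fwd 30995],
   .loop none [.fwd 4694, .fwd 29886, .fwd 696],
   .loop none [.fwd 30997],
   .loop none [.fwd 30665, .fwd 30155]]

theorem just123_len : just123.length = 250 := by decide +kernel

theorem just123_ok : cert.okFacts 30750 just123 = true := by decide +kernel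

/-- justifications -/
noncomputable def just124 : List Cert.Just :=
  [.loop none [.fwd 30676, .fwd 29886, .fwd 7731],
   .loop none [.fwd 31000],
   .loop none [.bwd 7915, .fwd 29888, .bwd 8384],
   .loop none [.bwd 31002],
   .loop none [.bwd 933, .bwd 29890],
   .loop none [.bwd 28820, .bwd 29893],
   .loop none [.bwd 13573, .fwd 29895, .bwd 10562],
   .loop none [.bwd 31006],
   .loop none [.bwd 14319, .bwd 29897],
   .loop none [.fwd 29985, .bwd 19176, .fwd 29900, .bwd 23615],
   .loop none [.fwd 31009],
   .loop none [.fwd 29999, .fwd 29977],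
   .loop none [.bwd 1878, .fwd 29904, .fwd 1006],
   .loop none [.bwd 31012],
   .loop none [.fwd 14156, .bwd 29904],
   .loop none [.fwd 30415, .fwd 29907],
   .loop none [.fwd 30228, .fwd 30054],
   .loop none [.bwd 5988, .bwd 31015, .bwd 19023],
   .loop none [.fwd 31017],
   .loop none [.fwd 30545, .fwd 30541],
   .loop none [.bwd 31019, .fwd 21534, .bwd 31015, .bwd 24024],
   .loop none [.fwd 31020],
   .loop none [.fwd 24729, .bwd 31015, .bwd 25261],
   .loop none [.fwd 31022],
   .loop none [.fwd 30492, .fwd 24908, .bwd 31015, .fwd 19600],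
   .loop none [.bwd 31024],
   .loop none [.bwd 7212, .bwd 29909],
   .loop none [.bwd 7214, .bwd 29909],
   .loop none [.bwd 7216, .bwd 29909],
   .loop none [.fwd 3527, .bwd 29914],
   .loop none [.bwd 8476, .bwd 29914],
   .loop none [.bwd 7260, .bwd 29914],
   .loop none [.bwd 3528, .bwd 29914],
   .loop none [.fwd 7258, .bwd 29914],
   .loop none [.bwd 9039, .bwd 29914],
   .loop none [.fwd 7262, .bwd 29914],
   .loop none [.bwd 29291, .bwd 29914],
   .loop none [.fwd 22519, .bwd 29916],
   .loop none [.bwd 11059, .bwd 29918],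
   .loop none [.bwd 7196, .bwd 29920],
   .loop none [.fwd 7202, .bwd 29920],
   .loop none [.bwd 21148, .bwd 29925],
   .loop none [.fwd 30554, .fwd 30524, .fwd 29927, .bwd 25368],
   .loop none [.fwd 31042],
   .loop none [.bwd 11060, .bwd 29929],
   .loop none [.bwd 14685, .fwd 29932, .fwd 25127],
   .loop none [.fwd 31045],
   .loop none [.bwd 5846, .bwd 29934],
   .loop none [.fwd 7136, .bwd 29934],
   .loop none [.bwd 3521, .bwd 29934],
   .loop none [.fwd 7203, .bwd 29934],
   .loop none [.fwd 30860, .bwd 6694, .bwd 30498, .bwd 25878],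
   .loop none [.fwd 31051],
   .loop none [.bwd 6697, .bwd 30498, .bwd 27282],
   .loop none [.fwd 31053],
   .loop none [.bwd 21030, .fwd 29941, .fwd 17075, .bwd 31054],
   .loop none [.bwd 31055],
   .loop none [.bwd 10156, .fwd 29943, .fwd 17629],
   .loop none [.fwd 31057],
   .loop none [.bwd 7109, .bwd 29946],
   .loop none [.fwd 7165, .bwd 29946],
   .loop none [.bwd 7111, .bwd 29946],
   .loop none [.bwd 11229, .bwd 29951],
   .loop none [.fwd 10948, .bwd 29951],
   .loop none [.fwd 19165, .bwd 29953],
   .loop none [.bwd 19120, .bwd 29953],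
   .loop none [.fwd 17926, .bwd 29955],
   .loop none [.fwd 2098, .bwd 29959],
   .loop none [.bwd 1345, .bwd 29959],
   .loop none [.fwd 3522, .bwd 29963],
   .loop none [.fwd 29311, .bwd 29963],
   .loop none [.fwd 14077, .bwd 29965],
   .loop none [.fwd 12203, .bwd 29965],
   .loop none [.bwd 29517, .bwd 29967],
   .loop none [.fwd 29968, .bwd 29970],
   .loop none [.fwd 30415, .fwd 29972],
   .loop none [.bwd 5988, .bwd 31075, .bwd 14751],
   .loop none [.fwd 31076],
   .loop none [.fwd 24729, .bwd 31075, .bwd 15224],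
   .loop none [.bwd 31078],
   .loop none [.fwd 31025, .fwd 30492],
   .loop none [.bwd 31080, .fwd 24908, .bwd 31075, .fwd 15229],
   .loop none [.bwd 31081],
   .loop none [.fwd 30516, .bwd 30268],
   .loop none [.fwd 27690, .bwd 31083, .fwd 25757],
   .loop none [.bwd 31084],
   .loop none [.fwd 31007, .fwd 30987],
   .loop none [.fwd 25756, .fwd 31083],
   .loop none [.fwd 14813, .bwd 31083, .bwd 27185],
   .loop none [.bwd 31088],
   .loop none [.fwd 5990, .bwd 31011, .bwd 14750],
   .loop none [.fwd 31090],
   .loop none [.fwd 30879, .fwd 29990],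
   .loop none [.bwd 10986, .fwd 29979, .bwd 24266],
   .loop none [.fwd 31093],
   .loop none [.bwd 15357, .fwd 29979, .fwd 16031],
   .loop none [.fwd 31095],
   .loop none [.bwd 27597, .fwd 29981, .fwd 19590],
   .loop none [.bwd 31097],
   .loop none [.fwd 19265, .fwd 29983, .bwd 25690],
   .loop none [.fwd 31099],
   .loop none [.fwd 12474, .fwd 29985, .bwd 19168],
   .loop none [.bwd 31101],
   .loop none [.fwd 19176, .bwd 29985],
   .loop none [.bwd 8304, .fwd 29987, .fwd 20571],
   .loop none [.fwd 31104],
   .loop none [.fwd 11173, .fwd 30244, .bwd 18529, .bwd 29987],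
   .loop none [.bwd 31106],
   .loop none [.fwd 18696, .bwd 29987],
   .loop none [.fwd 25311, .fwd 29987, .bwd 25246],
   .loop none [.bwd 31109],
   .loop none [.bwd 23231, .fwd 29987, .fwd 19323],
   .loop none [.bwd 31111],
   .loop none [.fwd 707, .bwd 31092, .fwd 24250, .bwd 31105],
   .loop none [.fwd 31113],
   .loop none [.bwd 7665, .bwd 30193, .bwd 27603],
   .loop none [.fwd 31115],
   .loop none [.bwd 13105, .bwd 30193, .fwd 27598, .bwd 31100],
   .loop none [.bwd 31117],
   .loop none [.fwd 11768, .fwd 29994, .bwd 20005],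
   .loop none [.fwd 31119],
   .loop none [.bwd 15937, .fwd 29994, .fwd 24848],
   .loop none [.fwd 31121],
   .loop none [.fwd 30906, .fwd 29996],
   .loop none [.bwd 10300, .bwd 31123, .fwd 21048, .bwd 31122],
   .loop none [.fwd 31124],
   .loop none [.fwd 6808, .bwd 29999],
   .loop none [.fwd 8477, .bwd 29999],
   .loop none [.bwd 8433, .bwd 29999],
   .loop none [.bwd 14565, .bwd 30001],
   .loop none [.bwd 6846, .fwd 30001, .bwd 15067],
   .loop none [.fwd 31130],
   .loop none [.fwd 11770, .fwd 30004, .bwd 15503],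
   .loop none [.fwd 31132],
   .loop none [.bwd 9972, .fwd 30006, .bwd 13394],
   .loop none [.fwd 31134],
   .loop none [.fwd 751, .fwd 30006, .bwd 1693],
   .loop none [.fwd 31136],
   .loop none [.bwd 11451, .fwd 30008, .bwd 14652],
   .loop none [.fwd 31138],
   .loop none [.bwd 9953, .fwd 30010, .bwd 13915],
   .loop none [.fwd 31140],
   .loop none [.fwd 12160, .fwd 30175],
   .loop none [.bwd 5904, .fwd 30015, .fwd 18287],
   .loop none [.fwd 31143],
   .loop none [.fwd 10999, .fwd 30017, .bwd 18596],
   .loop none [.fwd 31145],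
   .loop none [.fwd 11108, .fwd 30017, .bwd 21587],
   .loop none [.fwd 31147],
   .loop none [.fwd 11139, .fwd 30017, .bwd 15262],
   .loop none [.fwd 31149],
   .loop none [.fwd 8972, .fwd 30019, .bwd 14949],
   .loop none [.fwd 31151],
   .loop none [.fwd 14654, .bwd 30019],
   .loop none [.bwd 14569, .bwd 30021],
   .loop none [.fwd 30919, .fwd 30163],
   .loop none [.bwd 18297, .bwd 30799, .fwd 18147, .bwd 31146],
   .loop none [.bwd 31156],
   .loop none [.fwd 11020, .bwd 30799, .fwd 18469, .bwd 30847],
   .loop none [.fwd 31158],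
   .loop none [.bwd 15715, .bwd 30799, .bwd 14759],
   .loop none [.bwd 31160],
   .loop none [.fwd 19322, .bwd 30799, .bwd 19435],
   .loop none [.fwd 31162],
   .loop none [.bwd 11767, .bwd 30799, .fwd 18599, .bwd 30845],
   .loop none [.fwd 31164],
   .loop none [.bwd 14459, .fwd 30025, .fwd 12101],
   .loop none [.bwd 31166],
   .loop none [.bwd 14460, .fwd 30025, .bwd 14763, .bwd 30931],
   .loop none [.bwd 31168],
   .loop none [.fwd 12029, .fwd 30025, .bwd 15301],
   .loop none [.fwd 31170],
   .loop none [.bwd 10984, .fwd 30027, .bwd 14644],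
   .loop none [.fwd 31172],
   .loop none [.fwd 30698, .fwd 30185],
   .loop none [.fwd 1009, .fwd 30031, .bwd 1881],
   .loop none [.fwd 31175],
   .loop none [.bwd 343, .bwd 30033],
   .loop none [.bwd 350, .bwd 30033],
   .loop none [.bwd 1956, .bwd 30033],
   .loop none [.bwd 307, .bwd 30033],
   .loop none [.fwd 326, .bwd 30033],
   .loop none [.bwd 5112, .bwd 30033],
   .loop none [.fwd 5005, .bwd 30033],
   .loop none [.fwd 7905, .bwd 30514, .fwd 26814, .bwd 31085],
   .loop none [.bwd 31184],
   .loop none [.fwd 9963, .bwd 30037],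
   .loop none [.bwd 13499, .fwd 30037, .fwd 12749],
   .loop none [.bwd 31187],
   .loop none [.bwd 6986, .fwd 30039, .bwd 10899],
   .loop none [.fwd 31189],
   .loop none [.fwd 5949, .bwd 30039],
   .loop none [.fwd 9997, .bwd 30797, .fwd 13475, .bwd 30308],
   .loop none [.fwd 31192],
   .loop none [.bwd 10966, .bwd 30797, .fwd 13473],
   .loop none [.fwd 31194],
   .loop none [.bwd 13387, .bwd 30797, .fwd 13458],
   .loop none [.fwd 31196],
   .loop none [.fwd 17306, .bwd 30797, .bwd 18587, .bwd 30302],
   .loop none [.fwd 31198],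
   .loop none [.bwd 6641, .fwd 30044, .bwd 14583, .bwd 31197],
   .loop none [.fwd 31200],
   .loop none [.fwd 8423, .fwd 30044, .fwd 12764],
   .loop none [.fwd 31202],
   .loop none [.bwd 9255, .fwd 30044, .fwd 15100],
   .loop none [.fwd 31204],
   .loop none [.fwd 14496, .bwd 30044],
   .loop none [.fwd 13738, .bwd 30046],
   .loop none [.fwd 31193, .fwd 30308],
   .loop none [.bwd 10116, .fwd 30049, .fwd 13474],
   .loop none [.fwd 31209],
   .loop none [.fwd 18198, .fwd 30049, .bwd 18678],
   .loop none [.fwd 31211],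
   .loop none [.fwd 30735, .fwd 30304],
   .loop none [.bwd 9954, .fwd 30051, .fwd 13486],
   .loop none [.fwd 31214],
   .loop none [.fwd 31107, .fwd 31089],
   .loop none [.bwd 9712, .bwd 31016, .bwd 18510],
   .loop none [.fwd 31217],
   .loop none [.fwd 10664, .bwd 31016, .bwd 23630],
   .loop none [.fwd 31219],
   .loop none [.bwd 11626, .bwd 31016, .fwd 19073],
   .loop none [.fwd 31221],
   .loop none [.bwd 19273, .fwd 30056, .fwd 15404],
   .loop none [.bwd 31223],
   .loop none [.bwd 12155, .bwd 30056],
   .loop none [.fwd 13711, .bwd 30056],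
   .loop none [.fwd 30192, .bwd 30190],
   .loop none [.fwd 12476, .bwd 31227, .fwd 22149, .bwd 31220],
   .loop none [.bwd 31228],
   .loop none [.fwd 31229, .fwd 12476, .bwd 30229, .fwd 13696],
   .loop none [.fwd 31230],
   .loop none [.bwd 13685, .fwd 30229],
   .loop none [.fwd 31167, .bwd 14459, .fwd 30064, .fwd 22337],
   .loop none [.fwd 31233],
   .loop none [.bwd 23419, .bwd 30064],
   .loop none [.bwd 642, .fwd 30066, .bwd 24403],
   .loop none [.fwd 31236],
   .loop none [.fwd 15214, .fwd 30066, .bwd 23512],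
   .loop none [.bwd 31238],
   .loop none [.bwd 13152, .fwd 30066, .fwd 25293],
   .loop none [.fwd 31240],
   .loop none [.bwd 7665, .fwd 30068, .bwd 7779],
   .loop none [.fwd 31242],
   .loop none [.bwd 8291, .bwd 30068],
   .loop none [.fwd 7666, .fwd 30070, .fwd 7780],
   .loop none [.bwd 31245],
   .loop none [.fwd 13059, .fwd 30070, .fwd 10839],
   .loop none [.bwd 31247],
   .loop none [.bwd 642, .fwd 30070, .fwd 1593]]

theorem just124_len : just124.length = 250 := by decide +kernel

theorem just124_ok : cert.okFacts 31000 just124 = true := by decide +kernel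

/-- justifications -/
noncomputable def just125 : List Cert.Just :=
  [.loop none [.fwd 31249],
   .loop none [.fwd 13252, .fwd 30070, .bwd 11061],
   .loop none [.bwd 31251],
   .loop none [.fwd 30248, .bwd 17750, .fwd 30072, .bwd 23228, .bwd 31077],
   .loop none [.bwd 31253],
   .loop none [.bwd 24023, .fwd 30072, .fwd 25289],
   .loop none [.fwd 31255],
   .loop none [.fwd 31229, .fwd 30074],
   .loop none [.bwd 19474, .fwd 31257],
   .loop none [.bwd 25247, .bwd 30076],
   .loop none [.bwd 11626, .fwd 30244, .fwd 23784, .bwd 30076],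
   .loop none [.bwd 31260],
   .loop none [.bwd 642, .fwd 30078, .fwd 19063],
   .loop none [.fwd 31262],
   .loop none [.fwd 31239, .fwd 15214, .fwd 30078, .bwd 18999],
   .loop none [.fwd 31264],
   .loop none [.bwd 13152, .fwd 30078, .fwd 19064],
   .loop none [.bwd 31266],
   .loop none [.fwd 31125, .fwd 31122],
   .loop none [.bwd 26155, .bwd 30080],
   .loop none [.bwd 219, .bwd 30083],
   .loop none [.bwd 1974, .bwd 30085],
   .loop none [.fwd 519, .bwd 30085],
   .loop none [.bwd 28252, .bwd 30089],
   .loop none [.bwd 28261, .bwd 30091],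
   .loop none [.fwd 28318, .bwd 30091],
   .loop none [.bwd 4717, .bwd 30094],
   .loop none [.fwd 28580, .bwd 30094],
   .loop none [.bwd 4722, .bwd 30094],
   .loop none [.fwd 29333, .bwd 30097],
   .loop none [.fwd 967, .bwd 30097],
   .loop none [.fwd 2202, .bwd 30097],
   .loop none [.fwd 30047, .bwd 30111],
   .loop none [.fwd 31188, .bwd 13499, .fwd 30111, .fwd 8349],
   .loop none [.bwd 31283],
   .loop none [.bwd 1869, .bwd 30111],
   .loop none [.fwd 9639, .bwd 30111],
   .loop none [.bwd 8406, .bwd 30111],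
   .loop none [.bwd 8424, .bwd 30111],
   .loop none [.fwd 20577, .bwd 30111],
   .loop none [.fwd 1300, .bwd 30128],
   .loop none [.fwd 31001, .fwd 30141],
   .loop none [.bwd 10018, .bwd 30798, .bwd 14024, .bwd 30843],
   .loop none [.fwd 31292],
   .loop none [.fwd 31199, .fwd 30302],
   .loop none [.fwd 31165, .fwd 30845],
   .loop none [.fwd 30998, .fwd 30143],
   .loop none [.fwd 3133, .bwd 30137],
   .loop none [.fwd 7757, .fwd 30661],
   .loop none [.bwd 10032, .bwd 31291, .bwd 12998, .bwd 30833],
   .loop none [.fwd 31299],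
   .loop none [.fwd 30616, .fwd 10030, .bwd 31291, .bwd 1711],
   .loop none [.fwd 31301],
   .loop none [.bwd 10002, .bwd 31296, .fwd 17343, .bwd 30837],
   .loop none [.fwd 31303],
   .loop none [.bwd 4698, .bwd 31296, .fwd 5253],
   .loop none [.fwd 31305],
   .loop none [.fwd 10940, .bwd 30145],
   .loop none [.fwd 30852, .fwd 30147],
   .loop none [.fwd 7794, .bwd 31308, .fwd 27538],
   .loop none [.fwd 31309],
   .loop none [.bwd 13061, .bwd 31308, .bwd 27543],
   .loop none [.fwd 31311],
   .loop none [.fwd 11429, .fwd 30149, .fwd 22045, .bwd 31312],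
   .loop none [.fwd 31313],
   .loop none [.fwd 30486, .fwd 30484],
   .loop none [.fwd 31079, .fwd 31023],
   .loop none [.fwd 31079, .fwd 30543],
   .loop none [.fwd 31306, .fwd 30321],
   .loop none [.bwd 914, .bwd 30999, .fwd 15441, .bwd 30743],
   .loop none [.fwd 31319],
   .loop none [.bwd 850, .bwd 30999, .fwd 12970],
   .loop none [.fwd 31321],
   .loop none [.fwd 31302, .fwd 30314],
   .loop none [.fwd 1120, .bwd 30157],
   .loop none [.bwd 506, .fwd 30157, .fwd 1521],
   .loop none [.fwd 31325],
   .loop none [.bwd 948, .bwd 30157],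
   .loop none [.bwd 7888, .bwd 30157],
   .loop none [.fwd 7353, .fwd 30159, .bwd 13731, .bwd 31322],
   .loop none [.bwd 31329],
   .loop none [.bwd 8923, .fwd 30159, .fwd 18677],
   .loop none [.fwd 31331],
   .loop none [.fwd 7233, .fwd 30159, .bwd 13156],
   .loop none [.fwd 31333],
   .loop none [.bwd 7993, .bwd 30904, .fwd 15397, .bwd 31332],
   .loop none [.bwd 31335],
   .loop none [.bwd 15202, .fwd 30904],
   .loop none [.fwd 8286, .bwd 31155, .fwd 13690, .bwd 31334],
   .loop none [.bwd 31338],
   .loop none [.bwd 10986, .fwd 30165, .bwd 13898],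
   .loop none [.fwd 31340],
   .loop none [.bwd 15357, .fwd 30165, .bwd 14664],
   .loop none [.bwd 31342],
   .loop none [.bwd 11129, .fwd 30167, .bwd 14632],
   .loop none [.fwd 31344],
   .loop none [.bwd 14564, .bwd 30167],
   .loop none [.bwd 6846, .fwd 30167, .fwd 23364],
   .loop none [.fwd 31347],
   .loop none [.bwd 8097, .bwd 30170],
   .loop none [.fwd 7873, .bwd 30170],
   .loop none [.bwd 3344, .bwd 30170],
   .loop none [.bwd 10989, .fwd 30174, .bwd 13900],
   .loop none [.fwd 31352],
   .loop none [.fwd 30906, .bwd 15398, .fwd 30174, .bwd 14659],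
   .loop none [.fwd 31354],
   .loop none [.fwd 31224, .fwd 30337],
   .loop none [.fwd 13788, .bwd 30177],
   .loop none [.bwd 7665, .fwd 30177, .fwd 13814],
   .loop none [.fwd 31358],
   .loop none [.bwd 10984, .fwd 30179, .bwd 13894],
   .loop none [.fwd 31360],
   .loop none [.bwd 14568, .fwd 30929],
   .loop none [.bwd 6775, .bwd 30929, .bwd 13559],
   .loop none [.fwd 31363],
   .loop none [.bwd 6702, .bwd 30183],
   .loop none [.fwd 7936, .fwd 30183, .fwd 6705],
   .loop none [.bwd 31366],
   .loop none [.bwd 13796, .fwd 31174],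
   .loop none [.fwd 7723, .bwd 31174, .bwd 14618],
   .loop none [.fwd 31369],
   .loop none [.fwd 31224, .fwd 30189],
   .loop none [.fwd 30516, .fwd 30266],
   .loop none [.bwd 24850, .fwd 31371],
   .loop none [.fwd 6742, .bwd 30192],
   .loop none [.fwd 9431, .bwd 30192],
   .loop none [.fwd 17560, .bwd 30192],
   .loop none [.bwd 18300, .fwd 30196, .fwd 14621],
   .loop none [.bwd 31377],
   .loop none [.fwd 19581, .fwd 30196, .bwd 24532],
   .loop none [.fwd 31379],
   .loop none [.bwd 1027, .bwd 30201],
   .loop none [.fwd 289, .bwd 30201],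
   .loop none [.fwd 8429, .bwd 30203],
   .loop none [.bwd 1886, .bwd 30203],
   .loop none [.bwd 8432, .bwd 30203],
   .loop none [.fwd 11180, .bwd 30212],
   .loop none [.bwd 25034, .bwd 30215],
   .loop none [.fwd 4600, .bwd 30219],
   .loop none [.bwd 8038, .bwd 30219],
   .loop none [.fwd 31013, .fwd 30221],
   .loop none [.bwd 1007, .bwd 31390, .fwd 20679],
   .loop none [.fwd 31391],
   .loop none [.fwd 31082, .fwd 31025],
   .loop none [.bwd 31393, .fwd 24854, .bwd 31390, .bwd 19030, .bwd 30252],
   .loop none [.bwd 31394],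
   .loop none [.fwd 10810, .bwd 30228],
   .loop none [.bwd 9712, .fwd 30228, .fwd 10811],
   .loop none [.fwd 31397],
   .loop none [.fwd 14662, .fwd 30228, .bwd 15217],
   .loop none [.fwd 31399],
   .loop none [.bwd 11120, .fwd 30232, .bwd 13795],
   .loop none [.fwd 31401],
   .loop none [.fwd 18138, .bwd 30232],
   .loop none [.fwd 31157, .bwd 18297, .fwd 30234, .bwd 14619],
   .loop none [.bwd 31404],
   .loop none [.fwd 19322, .fwd 30234, .bwd 19625],
   .loop none [.fwd 31406],
   .loop none [.fwd 31405, .fwd 31157],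
   .loop none [.fwd 11108, .fwd 30239, .fwd 17133],
   .loop none [.fwd 31409],
   .loop none [.bwd 7347, .fwd 30241, .bwd 14885],
   .loop none [.fwd 31411],
   .loop none [.bwd 9712, .fwd 30244, .fwd 15467],
   .loop none [.fwd 31413],
   .loop none [.fwd 14662, .fwd 30244, .bwd 25252],
   .loop none [.fwd 31415],
   .loop none [.fwd 14444, .fwd 30246, .bwd 18809],
   .loop none [.fwd 31417],
   .loop none [.bwd 11632, .fwd 30246, .fwd 15191],
   .loop none [.bwd 31419],
   .loop none [.fwd 31254, .fwd 30248],
   .loop none [.fwd 8313, .bwd 31421, .bwd 13719],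
   .loop none [.bwd 31422],
   .loop none [.bwd 21531, .bwd 31421, .fwd 12999],
   .loop none [.bwd 31424],
   .loop none [.fwd 21762, .bwd 31421, .bwd 15578],
   .loop none [.bwd 31426],
   .loop none [.fwd 25291, .bwd 31421, .bwd 19060],
   .loop none [.bwd 31428],
   .loop none [.bwd 23229, .bwd 31421, .fwd 18508],
   .loop none [.bwd 31430],
   .loop none [.fwd 6727, .fwd 30250, .bwd 11605],
   .loop none [.fwd 31432],
   .loop none [.fwd 14409, .fwd 30250, .fwd 9933],
   .loop none [.bwd 31434],
   .loop none [.bwd 11540, .fwd 30250, .bwd 19059],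
   .loop none [.fwd 31436],
   .loop none [.fwd 15088, .fwd 30252, .fwd 25774],
   .loop none [.fwd 31438],
   .loop none [.bwd 23669, .bwd 30252],
   .loop none [.fwd 14442, .fwd 30252, .bwd 19037],
   .loop none [.fwd 31441],
   .loop none [.fwd 14678, .bwd 30255],
   .loop none [.fwd 24767, .bwd 30255],
   .loop none [.bwd 11649, .bwd 30260],
   .loop none [.fwd 14444, .fwd 30260, .bwd 15231],
   .loop none [.fwd 31446],
   .loop none [.fwd 31420, .bwd 11632, .fwd 30260, .fwd 14752],
   .loop none [.fwd 31448],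
   .loop none [.bwd 6824, .fwd 30263, .bwd 25022],
   .loop none [.fwd 31450],
   .loop none [.bwd 25033, .bwd 30263],
   .loop none [.fwd 31013, .fwd 30858],
   .loop none [.bwd 25411, .fwd 31372],
   .loop none [.fwd 4542, .bwd 30271],
   .loop none [.fwd 3272, .bwd 30271],
   .loop none [.bwd 1459, .bwd 30271],
   .loop none [.bwd 3296, .fwd 30271, .fwd 4546],
   .loop none [.fwd 31458],
   .loop none [.fwd 8123, .bwd 30271],
   .loop none [.bwd 19739, .bwd 30448, .fwd 24142],
   .loop none [.bwd 31461],
   .loop none [.fwd 8207, .bwd 30448, .bwd 23716, .bwd 31451],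
   .loop none [.fwd 31463],
   .loop none [.fwd 10131, .fwd 30275, .bwd 15648],
   .loop none [.fwd 31465],
   .loop none [.fwd 30601, .fwd 30278],
   .loop none [.fwd 7764, .bwd 31467, .bwd 14831, .bwd 30819],
   .loop none [.fwd 31468],
   .loop none [.fwd 30604, .fwd 30290],
   .loop none [.bwd 11018, .bwd 31467, .fwd 23776],
   .loop none [.fwd 31471],
   .loop none [.fwd 30622, .fwd 30283],
   .loop none [.bwd 15977, .bwd 31473, .fwd 12278],
   .loop none [.bwd 31474],
   .loop none [.fwd 30625, .fwd 30295],
   .loop none [.bwd 12289, .bwd 30286],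
   .loop none [.fwd 19591, .fwd 30286, .bwd 15232, .bwd 30841],
   .loop none [.bwd 31478],
   .loop none [.bwd 13769, .bwd 31470, .fwd 23580],
   .loop none [.fwd 31480],
   .loop none [.bwd 10850, .fwd 30292, .bwd 14666],
   .loop none [.fwd 31482],
   .loop none [.bwd 16009, .bwd 31476, .fwd 12253],
   .loop none [.bwd 31484],
   .loop none [.bwd 7745, .bwd 31476, .bwd 14863],
   .loop none [.fwd 31486],
   .loop none [.bwd 12261, .bwd 30298],
   .loop none [.fwd 12542, .fwd 30298, .bwd 12497],
   .loop none [.bwd 31489],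
   .loop none [.bwd 10010, .bwd 31294, .fwd 15452],
   .loop none [.fwd 31491],
   .loop none [.fwd 30870, .fwd 30763],
   .loop none [.bwd 16176, .bwd 31213, .fwd 20444],
   .loop none [.fwd 31494],
   .loop none [.fwd 12588, .fwd 30306, .bwd 17836, .bwd 31492],
   .loop none [.bwd 31496],
   .loop none [.fwd 10277, .fwd 30306, .bwd 23652, .bwd 31495],
   .loop none [.fwd 31498]]

theorem just125_len : just125.length = 250 := by decide +kernel

theorem just125_ok : cert.okFacts 31250 just125 = true := by decide +kernel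

/-- justifications -/
noncomputable def just126 : List Cert.Just :=
  [.loop none [.bwd 9999, .bwd 31208, .fwd 13733],
   .loop none [.bwd 31500],
   .loop none [.bwd 10103, .bwd 31208, .fwd 16956],
   .loop none [.fwd 31502],
   .loop none [.bwd 8418, .fwd 30310, .fwd 23662, .bwd 31392],
   .loop none [.bwd 31504],
   .loop none [.bwd 10608, .fwd 30310, .fwd 13268],
   .loop none [.fwd 31506],
   .loop none [.bwd 1855, .fwd 30310, .fwd 13331],
   .loop none [.fwd 31508],
   .loop none [.fwd 25629, .fwd 30310, .bwd 15584],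
   .loop none [.bwd 31510],
   .loop none [.bwd 14046, .fwd 30310, .fwd 18808],
   .loop none [.fwd 31512],
   .loop none [.bwd 19034, .bwd 30312],
   .loop none [.fwd 7736, .bwd 31323, .fwd 12309],
   .loop none [.fwd 31515],
   .loop none [.fwd 31293, .fwd 30843],
   .loop none [.bwd 15979, .bwd 31323, .fwd 17359],
   .loop none [.fwd 31518],
   .loop none [.fwd 31320, .fwd 30743],
   .loop none [.bwd 13744, .bwd 30994, .fwd 23572],
   .loop none [.fwd 31521],
   .loop none [.fwd 13352, .fwd 30319, .bwd 17846, .bwd 31519],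
   .loop none [.fwd 31523],
   .loop none [.bwd 739, .fwd 30319, .fwd 13441],
   .loop none [.fwd 31525],
   .loop none [.fwd 19359, .fwd 30319, .bwd 25101],
   .loop none [.fwd 31527],
   .loop none [.bwd 10015, .bwd 31318, .fwd 13715],
   .loop none [.bwd 31529],
   .loop none [.fwd 31159, .fwd 30847],
   .loop none [.bwd 10024, .bwd 31318, .fwd 12983],
   .loop none [.fwd 31532],
   .loop none [.bwd 12083, .bwd 30324],
   .loop none [.bwd 15537, .fwd 30324, .fwd 12081],
   .loop none [.bwd 31535],
   .loop none [.fwd 10888, .bwd 30324],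
   .loop none [.fwd 11153, .bwd 30327],
   .loop none [.bwd 12540, .fwd 30327, .fwd 12495],
   .loop none [.bwd 31539],
   .loop none [.bwd 15579, .fwd 30327, .fwd 12082],
   .loop none [.bwd 31541],
   .loop none [.fwd 12446, .fwd 30329, .fwd 24102],
   .loop none [.fwd 31543],
   .loop none [.bwd 10378, .fwd 30329, .fwd 24103],
   .loop none [.fwd 31545],
   .loop none [.fwd 9674, .fwd 30329, .fwd 24104],
   .loop none [.fwd 31547],
   .loop none [.fwd 15517, .bwd 30329],
   .loop none [.bwd 25032, .bwd 30331],
   .loop none [.bwd 25800, .fwd 31356],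
   .loop none [.fwd 31118, .fwd 30925],
   .loop none [.fwd 27189, .fwd 31356],
   .loop none [.fwd 7813, .fwd 30339, .bwd 7350],
   .loop none [.fwd 31554],
   .loop none [.bwd 9688, .bwd 30339],
   .loop none [.bwd 1851, .bwd 30339],
   .loop none [.fwd 8376, .bwd 30339],
   .loop none [.bwd 12250, .fwd 30341, .fwd 16308],
   .loop none [.fwd 31559],
   .loop none [.fwd 25249, .bwd 30344],
   .loop none [.bwd 19477, .bwd 30344],
   .loop none [.bwd 6927, .bwd 30353],
   .loop none [.bwd 3529, .bwd 30353],
   .loop none [.fwd 29284, .bwd 30353],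
   .loop none [.fwd 30604, .fwd 30369],
   .loop none [.fwd 7799, .bwd 31566, .bwd 25243],
   .loop none [.fwd 31567],
   .loop none [.fwd 30587, .fwd 30376],
   .loop none [.bwd 9158, .bwd 31566, .bwd 25245],
   .loop none [.fwd 31570],
   .loop none [.fwd 30647, .fwd 30421],
   .loop none [.fwd 10853, .fwd 30372, .fwd 22267, .bwd 31571],
   .loop none [.bwd 31573],
   .loop none [.fwd 5923, .fwd 30372, .bwd 23872],
   .loop none [.fwd 31575],
   .loop none [.bwd 25418, .bwd 30372],
   .loop none [.fwd 777, .bwd 31569, .fwd 21554],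
   .loop none [.fwd 31578],
   .loop none [.fwd 7580, .fwd 30378, .bwd 21555, .bwd 31579],
   .loop none [.bwd 31580],
   .loop none [.bwd 12262, .fwd 30378, .fwd 13359, .bwd 30643],
   .loop none [.fwd 31582],
   .loop none [.bwd 10924, .fwd 30378, .fwd 25370, .bwd 30380],
   .loop none [.fwd 31584],
   .loop none [.fwd 15228, .fwd 30378, .bwd 19620],
   .loop none [.fwd 31586],
   .loop none [.bwd 13260, .fwd 30378, .fwd 23875, .bwd 30608],
   .loop none [.fwd 31588],
   .loop none [.fwd 31585, .fwd 30380],
   .loop none [.bwd 10618, .bwd 31590, .fwd 22237],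
   .loop none [.fwd 31591],
   .loop none [.fwd 31560, .fwd 19453, .bwd 31590, .bwd 24975],
   .loop none [.fwd 31593],
   .loop none [.fwd 31314, .fwd 30382],
   .loop none [.fwd 9927, .bwd 31595, .fwd 16134],
   .loop none [.fwd 31596],
   .loop none [.bwd 9928, .bwd 31595, .fwd 24280],
   .loop none [.fwd 31598],
   .loop none [.fwd 30593, .bwd 25267, .fwd 30384, .bwd 25374, .bwd 31592],
   .loop none [.bwd 31600],
   .loop none [.fwd 13125, .fwd 30384, .fwd 22208, .bwd 31599],
   .loop none [.bwd 31602],
   .loop none [.bwd 13126, .fwd 30384, .fwd 24984],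
   .loop none [.fwd 31604],
   .loop none [.fwd 31587, .fwd 30417],
   .loop none [.fwd 30645, .fwd 18737, .fwd 30384, .bwd 25284, .bwd 30425],
   .loop none [.fwd 31607],
   .loop none [.bwd 16331, .fwd 30386, .fwd 14597],
   .loop none [.bwd 31609],
   .loop none [.fwd 30625, .fwd 30409],
   .loop none [.fwd 30587, .fwd 30556],
   .loop none [.fwd 11799, .fwd 30386, .bwd 25274],
   .loop none [.fwd 31613],
   .loop none [.bwd 10243, .fwd 30389, .fwd 16348],
   .loop none [.fwd 31615],
   .loop none [.bwd 30364, .bwd 30391],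
   .loop none [.fwd 11011, .bwd 30567, .bwd 16333],
   .loop none [.fwd 31618],
   .loop none [.fwd 30604, .fwd 30411],
   .loop none [.bwd 10887, .fwd 30396, .fwd 23451],
   .loop none [.fwd 31621],
   .loop none [.fwd 31475, .bwd 15977, .bwd 30623, .fwd 14595],
   .loop none [.bwd 31623],
   .loop none [.fwd 11205, .bwd 30403],
   .loop none [.fwd 7583, .bwd 30403],
   .loop none [.fwd 30279, .bwd 30403],
   .loop none [.bwd 11004, .bwd 30602, .bwd 16466],
   .loop none [.fwd 31628],
   .loop none [.fwd 31485, .bwd 16009, .bwd 31611, .fwd 14598],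
   .loop none [.bwd 31630],
   .loop none [.fwd 11801, .bwd 31611, .bwd 25275],
   .loop none [.fwd 31632],
   .loop none [.fwd 7799, .bwd 31620, .fwd 21339],
   .loop none [.fwd 31634],
   .loop none [.bwd 13769, .bwd 31620, .fwd 19498],
   .loop none [.bwd 31636],
   .loop none [.fwd 10610, .fwd 30413, .bwd 21652],
   .loop none [.fwd 31638],
   .loop none [.bwd 10850, .fwd 30413, .bwd 24169, .bwd 30981],
   .loop none [.fwd 31640],
   .loop none [.bwd 10415, .bwd 30415],
   .loop none [.fwd 9717, .bwd 30415],
   .loop none [.fwd 31079, .fwd 24729, .fwd 30415, .bwd 11541],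
   .loop none [.bwd 31644],
   .loop none [.fwd 31395, .fwd 31082, .bwd 31080],
   .loop none [.fwd 15230, .bwd 31606, .bwd 25260],
   .loop none [.fwd 31647],
   .loop none [.fwd 31449, .fwd 13234, .bwd 31606, .bwd 24981],
   .loop none [.fwd 31649],
   .loop none [.bwd 18798, .bwd 31606, .bwd 25256],
   .loop none [.fwd 31651],
   .loop none [.fwd 31560, .bwd 19452, .bwd 31606, .fwd 25357],
   .loop none [.fwd 31653],
   .loop none [.fwd 31423, .fwd 30419],
   .loop none [.fwd 31536, .fwd 15536, .bwd 31655, .bwd 21599, .bwd 31652],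
   .loop none [.fwd 31656],
   .loop none [.fwd 31540, .bwd 12540, .bwd 31655, .bwd 24276],
   .loop none [.fwd 31658],
   .loop none [.fwd 31114, .fwd 31105],
   .loop none [.fwd 31513, .fwd 19040, .bwd 31655, .bwd 24438],
   .loop none [.fwd 31661],
   .loop none [.bwd 12839, .bwd 31572, .bwd 25043, .bwd 31102],
   .loop none [.bwd 31663],
   .loop none [.fwd 19514, .bwd 31572, .bwd 24896],
   .loop none [.fwd 31665],
   .loop none [.fwd 31583, .fwd 30643, .fwd 30423],
   .loop none [.fwd 14936, .bwd 31667, .bwd 25161, .bwd 31608],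
   .loop none [.bwd 31668],
   .loop none [.fwd 13239, .bwd 31667, .fwd 16703],
   .loop none [.fwd 31670],
   .loop none [.fwd 31395, .fwd 31082],
   .loop none [.fwd 13240, .bwd 31667, .bwd 17756, .bwd 31662],
   .loop none [.bwd 31673],
   .loop none [.fwd 13259, .bwd 31667, .bwd 24119, .bwd 31666],
   .loop none [.fwd 31675],
   .loop none [.fwd 31583, .fwd 30643],
   .loop none [.fwd 31645, .fwd 31079],
   .loop none [.bwd 25067, .bwd 30427],
   .loop none [.fwd 8488, .bwd 30431],
   .loop none [.bwd 8829, .bwd 30433],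
   .loop none [.bwd 31493, .bwd 17093, .fwd 30435, .fwd 14996],
   .loop none [.fwd 31682],
   .loop none [.fwd 4938, .bwd 30437],
   .loop none [.fwd 31466, .fwd 31462],
   .loop none [.fwd 8964, .fwd 30439, .bwd 24875],
   .loop none [.fwd 31686],
   .loop none [.bwd 8825, .bwd 30441],
   .loop none [.bwd 4630, .fwd 30720],
   .loop none [.fwd 4640, .fwd 30720],
   .loop none [.bwd 7761, .fwd 30720],
   .loop none [.bwd 5199, .bwd 30447],
   .loop none [.bwd 1767, .bwd 30447],
   .loop none [.bwd 25070, .bwd 30450],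
   .loop none [.bwd 25071, .bwd 30453],
   .loop none [.bwd 25069, .bwd 30455],
   .loop none [.fwd 4803, .bwd 30458],
   .loop none [.bwd 29706, .bwd 30461],
   .loop none [.fwd 7576, .bwd 30461],
   .loop none [.bwd 5368, .bwd 30463],
   .loop none [.bwd 31685, .fwd 30868],
   .loop none [.bwd 27157, .bwd 30467],
   .loop none [.bwd 8063, .bwd 30470],
   .loop none [.fwd 8042, .bwd 30472],
   .loop none [.bwd 5350, .fwd 30472, .fwd 4785],
   .loop none [.bwd 31705],
   .loop none [.bwd 1506, .bwd 30472],
   .loop none [.bwd 8041, .bwd 30472],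
   .loop none [.bwd 8252, .bwd 30472],
   .loop none [.fwd 31706, .fwd 30737],
   .loop none [.fwd 6929, .fwd 30474, .bwd 14246],
   .loop none [.fwd 31711],
   .loop none [.fwd 11696, .fwd 30474, .bwd 19441],
   .loop none [.fwd 31713],
   .loop none [.bwd 8232, .bwd 30478],
   .loop none [.fwd 10130, .fwd 30480, .fwd 22637],
   .loop none [.fwd 31716],
   .loop none [.fwd 9532, .fwd 30480, .bwd 22848],
   .loop none [.fwd 31718],
   .loop none [.fwd 7122, .fwd 30480, .fwd 22643],
   .loop none [.fwd 31720],
   .loop none [.fwd 14901, .fwd 30480, .bwd 25154],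
   .loop none [.fwd 31722],
   .loop none [.bwd 27374, .fwd 30480, .fwd 24769],
   .loop none [.bwd 31724],
   .loop none [.fwd 508, .bwd 31315, .bwd 12639, .bwd 30992],
   .loop none [.fwd 31726],
   .loop none [.fwd 31420, .fwd 12090, .fwd 30486, .bwd 24812],
   .loop none [.fwd 31728],
   .loop none [.bwd 10763, .fwd 30486, .fwd 17676],
   .loop none [.fwd 31730],
   .loop none [.bwd 9791, .fwd 30488, .fwd 20896],
   .loop none [.fwd 31732],
   .loop none [.bwd 410, .fwd 30488, .fwd 1446],
   .loop none [.fwd 31734],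
   .loop none [.fwd 6932, .fwd 30488, .bwd 20928],
   .loop none [.fwd 31736],
   .loop none [.fwd 11696, .fwd 30488, .bwd 25116],
   .loop none [.fwd 31738],
   .loop none [.bwd 9830, .fwd 30488, .fwd 20931],
   .loop none [.fwd 31740],
   .loop none [.fwd 31442, .fwd 31431],
   .loop none [.fwd 15088, .bwd 31646, .fwd 20198],
   .loop none [.fwd 31743],
   .loop none [.bwd 24619, .fwd 31646],
   .loop none [.fwd 23297, .bwd 31646, .bwd 24883],
   .loop none [.bwd 31746],
   .loop none [.bwd 24908, .fwd 31646],
   .loop none [.fwd 10402, .fwd 30494, .bwd 20242]]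

theorem just126_len : just126.length = 250 := by decide +kernel

theorem just126_ok : cert.okFacts 31500 just126 = true := by decide +kernel

/-- justifications -/
noncomputable def just127 : List Cert.Just :=
  [.loop none [.fwd 31749],
   .loop none [.fwd 31747, .fwd 25294, .fwd 30494, .bwd 19089],
   .loop none [.bwd 31751],
   .loop none [.bwd 11712, .fwd 30494, .fwd 23988],
   .loop none [.fwd 31753],
   .loop none [.bwd 6697, .fwd 30497, .fwd 5861],
   .loop none [.bwd 31755],
   .loop none [.fwd 27164, .fwd 30755],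
   .loop none [.fwd 6929, .fwd 30503, .fwd 23782],
   .loop none [.fwd 31758],
   .loop none [.fwd 11696, .fwd 30503, .bwd 25356],
   .loop none [.fwd 31760],
   .loop none [.fwd 3432, .bwd 30505],
   .loop none [.bwd 5175, .fwd 30505, .fwd 4617],
   .loop none [.bwd 31763],
   .loop none [.bwd 1443, .bwd 30505],
   .loop none [.bwd 3349, .bwd 30505],
   .loop none [.bwd 8211, .bwd 30505],
   .loop none [.bwd 5565, .fwd 30507, .fwd 8054],
   .loop none [.fwd 31768],
   .loop none [.bwd 31454, .fwd 30516, .fwd 29988],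
   .loop none [.bwd 31770],
   .loop none [.fwd 14662, .fwd 30518, .bwd 24799],
   .loop none [.fwd 31772],
   .loop none [.fwd 19975, .bwd 30520],
   .loop none [.bwd 31269, .fwd 30523, .fwd 863],
   .loop none [.bwd 31775],
   .loop none [.fwd 3003, .bwd 30523],
   .loop none [.fwd 14444, .fwd 30528, .bwd 19678],
   .loop none [.fwd 31778],
   .loop none [.fwd 7788, .bwd 30532],
   .loop none [.bwd 11610, .fwd 30532, .bwd 16861, .bwd 31587],
   .loop none [.fwd 31781],
   .loop none [.bwd 15215, .bwd 30535],
   .loop none [.fwd 31420, .bwd 11632, .fwd 30535, .fwd 18820],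
   .loop none [.fwd 31784],
   .loop none [.fwd 20293, .bwd 30537],
   .loop none [.fwd 31437, .fwd 31429],
   .loop none [.bwd 31787, .fwd 25291, .fwd 30537, .bwd 24855],
   .loop none [.fwd 31788],
   .loop none [.fwd 24001, .bwd 30539],
   .loop none [.fwd 31605, .fwd 24978, .bwd 30539],
   .loop none [.bwd 21534, .fwd 31019],
   .loop none [.bwd 31561, .bwd 31019, .bwd 24942],
   .loop none [.bwd 31793],
   .loop none [.bwd 31562, .bwd 31019, .fwd 25201, .bwd 31752],
   .loop none [.fwd 31795],
   .loop none [.fwd 31645, .bwd 31317],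
   .loop none [.fwd 31395, .bwd 31393],
   .loop none [.fwd 6727, .bwd 31797, .bwd 20829],
   .loop none [.fwd 31799],
   .loop none [.fwd 31435, .fwd 14409, .bwd 31797, .bwd 24531],
   .loop none [.fwd 31801],
   .loop none [.bwd 9673, .bwd 31797, .fwd 23820],
   .loop none [.fwd 31803],
   .loop none [.bwd 29781, .bwd 30547],
   .loop none [.fwd 14093, .bwd 30550],
   .loop none [.bwd 14094, .bwd 30550],
   .loop none [.bwd 28796, .bwd 30550],
   .loop none [.fwd 7226, .fwd 30552, .bwd 7763],
   .loop none [.bwd 31809],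
   .loop none [.bwd 29360, .bwd 30552],
   .loop none [.fwd 24882, .bwd 30554],
   .loop none [.fwd 31098, .bwd 27597, .fwd 30554, .fwd 25125],
   .loop none [.fwd 31813],
   .loop none [.bwd 16329, .bwd 31612, .fwd 14600],
   .loop none [.bwd 31815],
   .loop none [.bwd 7748, .bwd 31612, .fwd 15279],
   .loop none [.fwd 31817],
   .loop none [.fwd 11805, .bwd 31612, .bwd 25276],
   .loop none [.fwd 31819],
   .loop none [.bwd 13752, .bwd 31612, .fwd 23911],
   .loop none [.fwd 31821],
   .loop none [.bwd 31677, .fwd 30614],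
   .loop none [.fwd 643, .fwd 30558, .bwd 13525],
   .loop none [.fwd 31824],
   .loop none [.bwd 12885, .fwd 30558, .bwd 21341],
   .loop none [.fwd 31826],
   .loop none [.bwd 16768, .fwd 30560, .fwd 19767],
   .loop none [.fwd 31828],
   .loop none [.bwd 11813, .fwd 30560, .bwd 18378],
   .loop none [.fwd 31830],
   .loop none [.bwd 16973, .fwd 30562, .bwd 24347],
   .loop none [.fwd 31832],
   .loop none [.fwd 31314, .fwd 30564],
   .loop none [.fwd 22379, .bwd 31834, .fwd 24327, .bwd 31829],
   .loop none [.bwd 31835],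
   .loop none [.fwd 9927, .bwd 31834, .fwd 24330, .bwd 31833],
   .loop none [.fwd 31837],
   .loop none [.bwd 11432, .bwd 31834, .bwd 24343],
   .loop none [.fwd 31839],
   .loop none [.fwd 11011, .fwd 30566, .bwd 12240],
   .loop none [.fwd 31841],
   .loop none [.bwd 7299, .bwd 30566],
   .loop none [.fwd 7797, .fwd 30566, .fwd 9571],
   .loop none [.fwd 31844],
   .loop none [.bwd 15406, .fwd 30566, .fwd 10844],
   .loop none [.bwd 31846],
   .loop none [.bwd 13767, .fwd 30566, .fwd 22380],
   .loop none [.fwd 31848],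
   .loop none [.fwd 853, .fwd 30569, .fwd 18873, .bwd 31840],
   .loop none [.fwd 31850],
   .loop none [.bwd 13770, .fwd 30569, .fwd 19542],
   .loop none [.fwd 31852],
   .loop none [.fwd 11108, .fwd 30571, .fwd 14329],
   .loop none [.fwd 31854],
   .loop none [.fwd 18318, .fwd 30573, .bwd 23200],
   .loop none [.fwd 31856],
   .loop none [.bwd 12241, .fwd 30575, .fwd 20062],
   .loop none [.fwd 31858],
   .loop none [.bwd 7309, .bwd 30579],
   .loop none [.bwd 13770, .fwd 30579, .fwd 22382],
   .loop none [.fwd 31861],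
   .loop none [.fwd 566, .fwd 30581, .bwd 1546],
   .loop none [.fwd 31863],
   .loop none [.fwd 10723, .fwd 30581, .bwd 17240],
   .loop none [.fwd 31865],
   .loop none [.fwd 11625, .fwd 30581, .bwd 19705, .bwd 31589],
   .loop none [.fwd 31867],
   .loop none [.bwd 16294, .bwd 30583],
   .loop none [.fwd 11824, .fwd 30583, .bwd 16233],
   .loop none [.fwd 31870],
   .loop none [.fwd 18379, .fwd 30583, .fwd 16297],
   .loop none [.fwd 31872],
   .loop none [.bwd 13586, .fwd 30585, .fwd 27586],
   .loop none [.fwd 31874],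
   .loop none [.bwd 15789, .fwd 30585, .fwd 23912],
   .loop none [.fwd 31876],
   .loop none [.bwd 7579, .bwd 30587],
   .loop none [.bwd 7748, .fwd 30587, .fwd 8320],
   .loop none [.fwd 31879],
   .loop none [.bwd 13752, .fwd 30587, .fwd 11079],
   .loop none [.fwd 31881],
   .loop none [.bwd 15679, .fwd 30589, .bwd 24285],
   .loop none [.fwd 31883],
   .loop none [.fwd 27582, .bwd 30589],
   .loop none [.bwd 7854, .fwd 30591, .bwd 18628],
   .loop none [.fwd 31886],
   .loop none [.bwd 15047, .bwd 30591],
   .loop none [.fwd 31868, .fwd 31589, .fwd 30608],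
   .loop none [.bwd 12885, .fwd 30595, .bwd 16708],
   .loop none [.fwd 31890],
   .loop none [.fwd 31868, .fwd 31648],
   .loop none [.fwd 10045, .bwd 30597],
   .loop none [.bwd 10010, .fwd 30597, .fwd 16776],
   .loop none [.fwd 31894],
   .loop none [.bwd 11004, .fwd 30601, .bwd 12280],
   .loop none [.fwd 31896],
   .loop none [.fwd 7227, .bwd 30601],
   .loop none [.bwd 7783, .fwd 30601, .fwd 7312],
   .loop none [.bwd 31899],
   .loop none [.bwd 13650, .fwd 30601, .fwd 10872],
   .loop none [.bwd 31901],
   .loop none [.bwd 839, .fwd 30601, .fwd 1746],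
   .loop none [.bwd 31903],
   .loop none [.fwd 11013, .fwd 30604, .bwd 12255],
   .loop none [.fwd 31905],
   .loop none [.bwd 7304, .bwd 30604],
   .loop none [.fwd 7799, .fwd 30604, .fwd 9566],
   .loop none [.bwd 31908],
   .loop none [.fwd 31637, .bwd 13769, .fwd 30604, .fwd 22381],
   .loop none [.fwd 31910],
   .loop none [.bwd 10103, .fwd 30606, .fwd 10072],
   .loop none [.bwd 31912],
   .loop none [.bwd 11154, .bwd 31889, .fwd 24168],
   .loop none [.fwd 31914],
   .loop none [.bwd 17482, .fwd 30610, .fwd 21747, .bwd 31915],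
   .loop none [.bwd 31916],
   .loop none [.bwd 17308, .fwd 30610, .fwd 21650],
   .loop none [.fwd 31918],
   .loop none [.bwd 951, .fwd 30610, .fwd 15751],
   .loop none [.fwd 31920],
   .loop none [.bwd 12281, .fwd 30612, .fwd 19981],
   .loop none [.fwd 31922],
   .loop none [.fwd 20011, .fwd 31823],
   .loop none [.fwd 10029, .bwd 30616],
   .loop none [.fwd 31524, .bwd 15979, .fwd 30616, .fwd 10055],
   .loop none [.bwd 31926],
   .loop none [.bwd 10030, .bwd 30616],
   .loop none [.fwd 31624, .fwd 31475],
   .loop none [.fwd 31631, .fwd 31485],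
   .loop none [.bwd 13744, .fwd 30618, .fwd 14617],
   .loop none [.fwd 31931],
   .loop none [.fwd 30637, .fwd 30620],
   .loop none [.fwd 19359, .bwd 31933, .bwd 18244],
   .loop none [.bwd 31934],
   .loop none [.fwd 7387, .bwd 30622],
   .loop none [.bwd 15942, .fwd 30622, .fwd 10950],
   .loop none [.bwd 31937],
   .loop none [.bwd 7577, .bwd 30625],
   .loop none [.bwd 15854, .fwd 30625, .fwd 10938],
   .loop none [.bwd 31940],
   .loop none [.bwd 10024, .fwd 30627, .fwd 16533],
   .loop none [.fwd 31942],
   .loop none [.bwd 850, .fwd 30629, .fwd 16541],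
   .loop none [.fwd 31944],
   .loop none [.fwd 7835, .fwd 30629, .bwd 15043],
   .loop none [.fwd 31946],
   .loop none [.bwd 29524, .bwd 30631],
   .loop none [.bwd 17342, .bwd 30631],
   .loop none [.fwd 767, .bwd 30633],
   .loop none [.bwd 7751, .bwd 30633],
   .loop none [.fwd 7755, .bwd 30633],
   .loop none [.fwd 30322, .bwd 30635],
   .loop none [.bwd 7785, .fwd 30635, .bwd 7228],
   .loop none [.fwd 31954],
   .loop none [.fwd 31868, .fwd 31589],
   .loop none [.fwd 1853, .bwd 30635],
   .loop none [.bwd 19977, .fwd 30635, .bwd 12244],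
   .loop none [.bwd 31958],
   .loop none [.bwd 950, .fwd 30635, .fwd 1854],
   .loop none [.fwd 31960],
   .loop none [.fwd 9678, .bwd 30635],
   .loop none [.fwd 10619, .bwd 30635],
   .loop none [.fwd 31927, .fwd 31524],
   .loop none [.fwd 11754, .fwd 30637, .fwd 13123],
   .loop none [.fwd 31965],
   .loop none [.bwd 16011, .fwd 30637, .bwd 16339],
   .loop none [.fwd 31967],
   .loop none [.bwd 739, .fwd 30637, .fwd 1683],
   .loop none [.fwd 31969],
   .loop none [.fwd 31935, .fwd 19359, .fwd 30637, .bwd 25325],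
   .loop none [.fwd 31971],
   .loop none [.bwd 16047, .fwd 30637, .bwd 22262],
   .loop none [.bwd 31973],
   .loop none [.fwd 9930, .fwd 30639, .fwd 27136],
   .loop none [.fwd 31975],
   .loop none [.bwd 706, .fwd 30641, .fwd 13514],
   .loop none [.fwd 31977],
   .loop none [.fwd 31542, .bwd 15579, .fwd 30641, .fwd 23909],
   .loop none [.fwd 31979],
   .loop none [.fwd 12446, .fwd 30645, .fwd 17235],
   .loop none [.fwd 31981],
   .loop none [.bwd 19701, .bwd 30645],
   .loop none [.bwd 7711, .bwd 30650],
   .loop none [.fwd 5973, .bwd 30650],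
   .loop none [.bwd 7758, .bwd 30650],
   .loop none [.bwd 438, .bwd 30654],
   .loop none [.fwd 6987, .bwd 30654],
   .loop none [.fwd 3135, .bwd 30656],
   .loop none [.bwd 7346, .bwd 30658],
   .loop none [.bwd 585, .bwd 30660],
   .loop none [.fwd 7106, .bwd 30660],
   .loop none [.fwd 31003, .fwd 30663],
   .loop none [.bwd 8871, .bwd 31993, .fwd 16242, .bwd 31887],
   .loop none [.bwd 31994],
   .loop none [.bwd 3299, .bwd 31993, .fwd 23366],
   .loop none [.fwd 31996],
   .loop none [.fwd 31641, .fwd 30981],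
   .loop none [.fwd 8870, .bwd 31993, .bwd 18446, .bwd 31921]]

theorem just127_len : just127.length = 250 := by decide +kernel

theorem just127_ok : cert.okFacts 31750 just127 = true := by decide +kernel

/-- justifications -/
noncomputable def just128 : List Cert.Just :=
  [.loop none [.bwd 31999],
   .loop none [.bwd 1839, .bwd 30665],
   .loop none [.bwd 9735, .bwd 30665],
   .loop none [.fwd 10964, .bwd 30665],
   .loop none [.bwd 6956, .fwd 30667, .fwd 18749],
   .loop none [.fwd 32004],
   .loop none [.fwd 31336, .fwd 30917],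
   .loop none [.bwd 698, .bwd 30674],
   .loop none [.bwd 7793, .bwd 30678],
   .loop none [.bwd 590, .bwd 30680],
   .loop none [.bwd 654, .bwd 30680],
   .loop none [.fwd 653, .bwd 30680],
   .loop none [.bwd 13586, .fwd 30682, .bwd 11069],
   .loop none [.bwd 32012],
   .loop none [.bwd 1681, .bwd 30684],
   .loop none [.bwd 13744, .fwd 30684, .bwd 14012],
   .loop none [.bwd 32015],
   .loop none [.fwd 10062, .bwd 30686],
   .loop none [.bwd 7345, .bwd 30688],
   .loop none [.fwd 32013, .fwd 31875],
   .loop none [.fwd 31248, .fwd 13059, .fwd 30696, .bwd 13813],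
   .loop none [.bwd 32020],
   .loop none [.fwd 31267, .bwd 13152, .fwd 30696, .fwd 23910],
   .loop none [.bwd 32022],
   .loop none [.fwd 8298, .bwd 30698],
   .loop none [.bwd 26910, .bwd 30707],
   .loop none [.fwd 30860, .fwd 30813],
   .loop none [.fwd 26971, .bwd 30709],
   .loop none [.bwd 7960, .bwd 30719],
   .loop none [.fwd 412, .fwd 30719, .bwd 1448],
   .loop none [.fwd 32029],
   .loop none [.bwd 4451, .bwd 30722],
   .loop none [.bwd 32027, .fwd 30722, .bwd 5045],
   .loop none [.bwd 32032],
   .loop none [.fwd 31909, .fwd 31635],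
   .loop none [.bwd 5968, .fwd 30735, .fwd 9726],
   .loop none [.fwd 32035],
   .loop none [.fwd 5342, .bwd 30735],
   .loop none [.fwd 31764, .fwd 30745],
   .loop none [.fwd 8249, .bwd 31710, .bwd 19440],
   .loop none [.fwd 32039],
   .loop none [.fwd 9524, .bwd 31710, .bwd 14247],
   .loop none [.bwd 32041],
   .loop none [.fwd 6881, .bwd 30739],
   .loop none [.fwd 22806, .fwd 30739, .fwd 10242],
   .loop none [.bwd 32044],
   .loop none [.bwd 6923, .bwd 30739],
   .loop none [.fwd 7167, .bwd 30739],
   .loop none [.fwd 6759, .bwd 30741],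
   .loop none [.fwd 16745, .fwd 30741, .fwd 10187],
   .loop none [.bwd 32049],
   .loop none [.fwd 32016, .fwd 31522],
   .loop none [.bwd 5960, .bwd 31520, .fwd 20437],
   .loop none [.fwd 32052],
   .loop none [.bwd 4618, .bwd 32038, .fwd 20453],
   .loop none [.fwd 32054],
   .loop none [.fwd 4591, .fwd 30747, .bwd 5160],
   .loop none [.fwd 32056],
   .loop none [.bwd 32025, .fwd 30747, .bwd 5453],
   .loop none [.bwd 32058],
   .loop none [.bwd 8202, .fwd 30747, .fwd 6891],
   .loop none [.fwd 32060],
   .loop none [.bwd 5885, .bwd 30747],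
   .loop none [.fwd 6892, .bwd 30747],
   .loop none [.fwd 17405, .fwd 30749, .bwd 5701],
   .loop none [.bwd 32064],
   .loop none [.fwd 5563, .bwd 30749],
   .loop none [.bwd 8180, .fwd 30749, .fwd 6773],
   .loop none [.fwd 32067],
   .loop none [.bwd 5931, .bwd 30749],
   .loop none [.fwd 30333, .bwd 30754],
   .loop none [.bwd 5894, .bwd 30754],
   .loop none [.fwd 7990, .fwd 30754, .bwd 6889],
   .loop none [.bwd 32072],
   .loop none [.bwd 1877, .bwd 30754],
   .loop none [.fwd 6897, .bwd 30754],
   .loop none [.bwd 8443, .bwd 30754],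
   .loop none [.fwd 10660, .fwd 30761, .fwd 25025],
   .loop none [.fwd 32077],
   .loop none [.bwd 8185, .fwd 30761, .bwd 20697],
   .loop none [.fwd 32079],
   .loop none [.fwd 17093, .fwd 31493],
   .loop none [.bwd 15758, .fwd 31493],
   .loop none [.fwd 5544, .bwd 31493, .bwd 17943],
   .loop none [.fwd 32083],
   .loop none [.bwd 9361, .bwd 31493, .bwd 17384],
   .loop none [.fwd 32085],
   .loop none [.fwd 9306, .bwd 31493, .bwd 17100],
   .loop none [.fwd 32087],
   .loop none [.bwd 19195, .fwd 31493],
   .loop none [.fwd 30872, .fwd 30765],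
   .loop none [.bwd 9274, .bwd 32090, .bwd 13294],
   .loop none [.fwd 32091],
   .loop none [.fwd 8869, .bwd 32090, .fwd 23864, .bwd 32080],
   .loop none [.bwd 32093],
   .loop none [.fwd 32037, .fwd 30768, .bwd 25864],
   .loop none [.fwd 32095],
   .loop none [.fwd 31900, .bwd 8215, .fwd 30777, .fwd 27666],
   .loop none [.fwd 32097],
   .loop none [.fwd 8497, .bwd 30782],
   .loop none [.fwd 24863, .fwd 30791, .bwd 25292, .bwd 31112],
   .loop none [.bwd 32100],
   .loop none [.bwd 18609, .bwd 30793],
   .loop none [.fwd 17554, .fwd 30795, .bwd 18836],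
   .loop none [.fwd 32103],
   .loop none [.fwd 31637, .fwd 31481],
   .loop none [.bwd 15899, .fwd 30795, .bwd 20088],
   .loop none [.fwd 32106],
   .loop none [.fwd 31405, .fwd 31146],
   .loop none [.fwd 32000, .fwd 31509],
   .loop none [.bwd 13637, .bwd 30804],
   .loop none [.bwd 15236, .bwd 30804],
   .loop none [.bwd 13705, .bwd 30806],
   .loop none [.bwd 15238, .bwd 30806],
   .loop none [.bwd 10978, .fwd 30808, .bwd 13892],
   .loop none [.fwd 32114],
   .loop none [.bwd 13642, .fwd 30808, .bwd 14680],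
   .loop none [.bwd 32116],
   .loop none [.bwd 13736, .bwd 30810],
   .loop none [.bwd 6710, .fwd 30810, .fwd 23365],
   .loop none [.fwd 32119],
   .loop none [.fwd 22587, .bwd 32026, .bwd 27687],
   .loop none [.bwd 32121],
   .loop none [.fwd 31909, .fwd 7799, .fwd 30815, .bwd 13032],
   .loop none [.fwd 32123],
   .loop none [.fwd 5923, .fwd 30817, .bwd 18718],
   .loop none [.fwd 32125],
   .loop none [.bwd 14399, .bwd 30822],
   .loop none [.fwd 31252, .fwd 12928, .fwd 30822, .fwd 14242],
   .loop none [.fwd 32128],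
   .loop none [.bwd 12126, .bwd 30827],
   .loop none [.fwd 643, .fwd 30827, .fwd 14065],
   .loop none [.fwd 32131],
   .loop none [.bwd 12885, .fwd 30827, .fwd 14066],
   .loop none [.bwd 32133],
   .loop none [.bwd 12892, .bwd 30830],
   .loop none [.fwd 31300, .fwd 30833],
   .loop none [.fwd 18379, .bwd 32136, .fwd 22117],
   .loop none [.fwd 32137],
   .loop none [.bwd 15789, .fwd 30835, .fwd 18831],
   .loop none [.fwd 32139],
   .loop none [.bwd 8341, .bwd 30839],
   .loop none [.bwd 902, .fwd 30839, .fwd 1802],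
   .loop none [.fwd 32142],
   .loop none [.bwd 16768, .bwd 31517, .fwd 19434],
   .loop none [.fwd 32144],
   .loop none [.fwd 31838, .bwd 16973, .bwd 31295, .fwd 15646],
   .loop none [.fwd 32146],
   .loop none [.fwd 18318, .bwd 31531, .bwd 18476],
   .loop none [.bwd 32148],
   .loop none [.bwd 14445, .bwd 30850],
   .loop none [.fwd 7295, .bwd 30852],
   .loop none [.bwd 1758, .bwd 30852],
   .loop none [.fwd 11638, .bwd 30852],
   .loop none [.bwd 25437, .fwd 31453],
   .loop none [.fwd 6694, .bwd 30860],
   .loop none [.fwd 32122, .fwd 22587, .fwd 30860, .fwd 10158],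
   .loop none [.bwd 32156],
   .loop none [.fwd 32127, .fwd 30862, .fwd 16401],
   .loop none [.fwd 32158],
   .loop none [.fwd 31435, .bwd 19509, .bwd 30862],
   .loop none [.bwd 10566, .fwd 30864, .fwd 20288],
   .loop none [.fwd 32161],
   .loop none [.bwd 8241, .fwd 30866, .bwd 12695],
   .loop none [.fwd 32163],
   .loop none [.fwd 11296, .bwd 31701, .bwd 23720, .bwd 32164],
   .loop none [.bwd 32165],
   .loop none [.fwd 32088, .fwd 32078],
   .loop none [.bwd 4569, .fwd 30872, .fwd 5138],
   .loop none [.fwd 32168],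
   .loop none [.fwd 8147, .bwd 30872],
   .loop none [.bwd 9247, .fwd 30872, .fwd 8963],
   .loop none [.bwd 32171],
   .loop none [.fwd 25046, .fwd 30872, .bwd 9457],
   .loop none [.bwd 32173],
   .loop none [.bwd 27260, .fwd 30872, .fwd 22943],
   .loop none [.bwd 32175],
   .loop none [.fwd 5623, .bwd 30874],
   .loop none [.fwd 5512, .bwd 30876],
   .loop none [.fwd 8300, .bwd 30879],
   .loop none [.bwd 20237, .bwd 30881],
   .loop none [.fwd 21772, .fwd 30881, .bwd 20372],
   .loop none [.bwd 32181],
   .loop none [.fwd 31110, .fwd 25311, .fwd 30881, .bwd 24773],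
   .loop none [.bwd 32183],
   .loop none [.bwd 8390, .bwd 30883],
   .loop none [.bwd 8391, .bwd 30883],
   .loop none [.fwd 17554, .fwd 30886, .fwd 14623],
   .loop none [.bwd 32187],
   .loop none [.bwd 15899, .fwd 30886, .bwd 25723],
   .loop none [.fwd 32189],
   .loop none [.fwd 9947, .fwd 30889, .bwd 15889, .bwd 32188],
   .loop none [.fwd 32191],
   .loop none [.bwd 11131, .fwd 30889, .fwd 17417],
   .loop none [.fwd 32193],
   .loop none [.fwd 13786, .bwd 30889],
   .loop none [.bwd 15244, .bwd 30889],
   .loop none [.fwd 25754, .fwd 30891, .bwd 20125],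
   .loop none [.bwd 32197],
   .loop none [.fwd 31284, .fwd 31188],
   .loop none [.bwd 23305, .fwd 30891, .fwd 24790],
   .loop none [.bwd 32200],
   .loop none [.fwd 32088, .fwd 10660, .fwd 30898, .bwd 15022],
   .loop none [.fwd 32202],
   .loop none [.bwd 15399, .bwd 30906],
   .loop none [.fwd 18240, .bwd 30906],
   .loop none [.bwd 18291, .bwd 30906],
   .loop none [.bwd 24002, .bwd 30906],
   .loop none [.bwd 11622, .fwd 30908, .bwd 15934, .bwd 31378],
   .loop none [.bwd 32208],
   .loop none [.fwd 11193, .fwd 30908, .bwd 18103],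
   .loop none [.fwd 32210],
   .loop none [.bwd 15243, .bwd 30908],
   .loop none [.bwd 11151, .fwd 30910, .bwd 18099],
   .loop none [.fwd 32213],
   .loop none [.bwd 23315, .fwd 30910, .fwd 19707],
   .loop none [.bwd 32215],
   .loop none [.bwd 27188, .fwd 30915, .fwd 22852],
   .loop none [.bwd 32217],
   .loop none [.bwd 3397, .bwd 32006, .fwd 23916],
   .loop none [.fwd 32219],
   .loop none [.bwd 8367, .bwd 30919],
   .loop none [.bwd 8369, .bwd 30919],
   .loop none [.bwd 14899, .bwd 30921],
   .loop none [.fwd 15394, .fwd 30923, .fwd 17856],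
   .loop none [.fwd 32224],
   .loop none [.bwd 25665, .fwd 31552],
   .loop none [.bwd 18299, .fwd 30928, .bwd 18840],
   .loop none [.fwd 32227],
   .loop none [.fwd 9982, .fwd 30928, .bwd 13461],
   .loop none [.fwd 32229],
   .loop none [.fwd 15284, .bwd 30931],
   .loop none [.fwd 31378, .fwd 30936],
   .loop none [.fwd 14660, .bwd 30934],
   .loop none [.fwd 11807, .bwd 32232, .fwd 19596, .bwd 32225],
   .loop none [.fwd 32234],
   .loop none [.fwd 32192, .fwd 32188, .fwd 32104],
   .loop none [.bwd 11790, .bwd 32232, .fwd 18843, .bwd 32228],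
   .loop none [.fwd 32237],
   .loop none [.fwd 20177, .bwd 30938],
   .loop none [.bwd 11151, .fwd 30941, .fwd 21507],
   .loop none [.fwd 32240],
   .loop none [.bwd 32233, .fwd 30941, .bwd 24792],
   .loop none [.fwd 32242],
   .loop none [.fwd 8294, .bwd 30949],
   .loop none [.bwd 8401, .bwd 30951],
   .loop none [.bwd 8402, .bwd 30951],
   .loop none [.fwd 17548, .fwd 30953, .fwd 14591],
   .loop none [.bwd 32247],
   .loop none [.fwd 19466, .fwd 30953, .bwd 24534]]

theorem just128_len : just128.length = 250 := by decide +kernel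

theorem just128_ok : cert.okFacts 32000 just128 = true := by decide +kernel

/-- justifications -/
noncomputable def just129 : List Cert.Just :=
  [.loop none [.fwd 32249],
   .loop none [.bwd 11138, .fwd 30955, .fwd 17385, .bwd 32248],
   .loop none [.bwd 32251],
   .loop none [.bwd 11119, .fwd 30955, .fwd 17388],
   .loop none [.fwd 32253],
   .loop none [.bwd 13400, .bwd 30955],
   .loop none [.fwd 13779, .bwd 30955],
   .loop none [.bwd 18827, .bwd 30955],
   .loop none [.bwd 23293, .fwd 30957, .fwd 24786],
   .loop none [.bwd 32258],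
   .loop none [.bwd 6767, .bwd 30970],
   .loop none [.fwd 8179, .fwd 30970, .fwd 6771],
   .loop none [.bwd 32261],
   .loop none [.bwd 6770, .bwd 30970],
   .loop none [.bwd 8439, .bwd 30970],
   .loop none [.bwd 25773, .bwd 30974],
   .loop none [.fwd 31664, .fwd 30983],
   .loop none [.fwd 31756, .fwd 31056],
   .loop none [.fwd 24484, .bwd 30978],
   .loop none [.bwd 18005, .fwd 30978, .fwd 22932],
   .loop none [.fwd 32269],
   .loop none [.bwd 4500, .bwd 31998, .fwd 23922],
   .loop none [.fwd 32271],
   .loop none [.bwd 25662, .fwd 32266],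
   .loop none [.bwd 22397, .fwd 31086],
   .loop none [.bwd 6956, .fwd 30990, .fwd 7886],
   .loop none [.fwd 32275],
   .loop none [.bwd 12336, .fwd 30990, .bwd 19870],
   .loop none [.fwd 32277],
   .loop none [.fwd 9165, .fwd 30990, .bwd 9375],
   .loop none [.fwd 32279],
   .loop none [.fwd 31727, .fwd 30992],
   .loop none [.fwd 12086, .bwd 32281, .bwd 25255],
   .loop none [.fwd 32282],
   .loop none [.fwd 32184, .fwd 31110],
   .loop none [.fwd 32283, .fwd 31256],
   .loop none [.bwd 12333, .bwd 30996],
   .loop none [.fwd 14054, .bwd 30996],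
   .loop none [.fwd 32021, .fwd 31248],
   .loop none [.bwd 32288, .fwd 13059, .fwd 30996, .fwd 12346],
   .loop none [.fwd 32289],
   .loop none [.fwd 32280, .fwd 32023, .fwd 31267],
   .loop none [.fwd 7915, .bwd 31003],
   .loop none [.fwd 8931, .fwd 31003, .bwd 9336],
   .loop none [.fwd 32293],
   .loop none [.fwd 13590, .bwd 31007],
   .loop none [.fwd 13573, .bwd 31007],
   .loop none [.fwd 21740, .fwd 31007, .fwd 14656],
   .loop none [.bwd 32297],
   .loop none [.fwd 23518, .fwd 31007, .bwd 14489],
   .loop none [.bwd 32299],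
   .loop none [.bwd 14933, .fwd 31010, .fwd 25159],
   .loop none [.fwd 32301],
   .loop none [.bwd 32154, .fwd 31013, .fwd 6931],
   .loop none [.bwd 32303],
   .loop none [.fwd 7183, .bwd 31013],
   .loop none [.fwd 1878, .bwd 31013],
   .loop none [.bwd 20284, .fwd 31013, .bwd 10469],
   .loop none [.bwd 32307],
   .loop none [.bwd 10577, .bwd 31013],
   .loop none [.bwd 11169, .bwd 31013],
   .loop none [.bwd 31742, .bwd 23229, .fwd 31018, .fwd 24442],
   .loop none [.fwd 32311],
   .loop none [.fwd 24251, .bwd 31021],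
   .loop none [.bwd 31562, .fwd 31021, .fwd 25365],
   .loop none [.fwd 32314],
   .loop none [.fwd 31645, .bwd 31316],
   .loop none [.fwd 9672, .bwd 32316, .bwd 24983],
   .loop none [.fwd 32317],
   .loop none [.fwd 15088, .bwd 31798, .fwd 24687],
   .loop none [.fwd 32319],
   .loop none [.fwd 31796, .fwd 31752, .fwd 31747],
   .loop none [.bwd 24854, .fwd 31798],
   .loop none [.fwd 31098, .bwd 27597, .fwd 31043, .fwd 25412],
   .loop none [.fwd 32323],
   .loop none [.fwd 14990, .fwd 31046, .bwd 24354],
   .loop none [.fwd 32325],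
   .loop none [.bwd 25758, .fwd 31046, .fwd 20164],
   .loop none [.bwd 32327],
   .loop none [.fwd 8281, .fwd 31052, .bwd 25877],
   .loop none [.fwd 32329],
   .loop none [.bwd 5862, .bwd 32267, .bwd 21030, .bwd 31058],
   .loop none [.fwd 32331],
   .loop none [.fwd 32157, .fwd 32122],
   .loop none [.bwd 20981, .fwd 32267],
   .loop none [.bwd 24791, .fwd 32267],
   .loop none [.fwd 32332, .fwd 31058],
   .loop none [.bwd 20367, .fwd 32336],
   .loop none [.fwd 27383, .bwd 32336, .bwd 17647, .bwd 31717],
   .loop none [.bwd 32338],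
   .loop none [.fwd 6727, .bwd 31678, .fwd 24528],
   .loop none [.fwd 32340],
   .loop none [.fwd 31804, .fwd 31605],
   .loop none [.fwd 9672, .bwd 31678, .bwd 24530],
   .loop none [.fwd 32343],
   .loop none [.bwd 24729, .fwd 31678],
   .loop none [.fwd 15088, .bwd 31672, .bwd 22887],
   .loop none [.fwd 32346],
   .loop none [.bwd 31440, .bwd 31672, .bwd 19087],
   .loop none [.bwd 32348],
   .loop none [.bwd 27690, .bwd 31085],
   .loop none [.fwd 32182, .fwd 21772, .bwd 31216, .bwd 15595],
   .loop none [.bwd 32351],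
   .loop none [.bwd 14813, .fwd 31216],
   .loop none [.bwd 32284, .fwd 25311, .bwd 31216, .bwd 19093],
   .loop none [.bwd 32354],
   .loop none [.fwd 32355, .bwd 32284],
   .loop none [.bwd 32356, .fwd 25311, .fwd 31091, .bwd 15211],
   .loop none [.bwd 32357],
   .loop none [.fwd 31637, .fwd 11770, .fwd 31094, .bwd 21732],
   .loop none [.fwd 32359],
   .loop none [.bwd 15899, .fwd 31094, .fwd 24268],
   .loop none [.fwd 32361],
   .loop none [.fwd 31343, .fwd 31096],
   .loop none [.fwd 12895, .bwd 32363, .fwd 16032, .bwd 32362],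
   .loop none [.fwd 32364],
   .loop none [.fwd 15173, .fwd 31098, .bwd 27460],
   .loop none [.fwd 32366],
   .loop none [.fwd 27597, .bwd 31098],
   .loop none [.fwd 11883, .fwd 31100, .bwd 25689],
   .loop none [.fwd 32369],
   .loop none [.fwd 27648, .bwd 31100],
   .loop none [.bwd 12474, .bwd 31102],
   .loop none [.fwd 14697, .bwd 31102],
   .loop none [.bwd 15635, .bwd 31660, .fwd 25044, .bwd 32005],
   .loop none [.bwd 32374],
   .loop none [.bwd 11161, .bwd 31107],
   .loop none [.bwd 11173, .bwd 31107],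
   .loop none [.fwd 32352, .fwd 32182],
   .loop none [.bwd 32378, .fwd 21772, .fwd 31107, .bwd 25845],
   .loop none [.fwd 32379],
   .loop none [.fwd 32358, .bwd 32356],
   .loop none [.bwd 32381, .fwd 25311, .fwd 31107, .bwd 11999],
   .loop none [.bwd 32382],
   .loop none [.fwd 31112, .bwd 23231, .fwd 31107, .fwd 14453],
   .loop none [.fwd 32384],
   .loop none [.fwd 32383, .bwd 32381],
   .loop none [.bwd 25311, .fwd 32386],
   .loop none [.fwd 23231, .bwd 31112],
   .loop none [.fwd 7725, .fwd 31114, .bwd 8302],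
   .loop none [.fwd 32389],
   .loop none [.fwd 8304, .bwd 31114],
   .loop none [.bwd 11064, .bwd 31114],
   .loop none [.bwd 15402, .fwd 31116, .fwd 25688, .bwd 32370],
   .loop none [.bwd 32393],
   .loop none [.fwd 13105, .bwd 31118],
   .loop none [.fwd 23455, .fwd 31118, .bwd 15189],
   .loop none [.bwd 32396],
   .loop none [.bwd 21561, .fwd 31118, .fwd 13106],
   .loop none [.bwd 32398],
   .loop none [.bwd 13695, .bwd 31118],
   .loop none [.fwd 11784, .fwd 31120, .bwd 20004],
   .loop none [.fwd 32401],
   .loop none [.bwd 32239, .fwd 31120, .bwd 24847],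
   .loop none [.fwd 32403],
   .loop none [.bwd 10301, .bwd 31268, .fwd 21049, .bwd 32404],
   .loop none [.fwd 32405],
   .loop none [.bwd 15938, .bwd 31125],
   .loop none [.fwd 15937, .bwd 31125],
   .loop none [.fwd 18278, .bwd 31125],
   .loop none [.bwd 18295, .bwd 31125],
   .loop none [.fwd 12896, .bwd 31131],
   .loop none [.fwd 8421, .fwd 31131, .fwd 12897],
   .loop none [.fwd 32412],
   .loop none [.fwd 14665, .bwd 31131],
   .loop none [.fwd 31637, .fwd 31133],
   .loop none [.bwd 9946, .bwd 32415, .bwd 15502],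
   .loop none [.fwd 32416],
   .loop none [.fwd 32365, .fwd 32190],
   .loop none [.fwd 31161, .bwd 15715, .fwd 31135, .fwd 12548],
   .loop none [.fwd 32419],
   .loop none [.fwd 19322, .fwd 31135, .bwd 15239],
   .loop none [.bwd 32421],
   .loop none [.bwd 10116, .fwd 31137, .fwd 12761],
   .loop none [.fwd 32423],
   .loop none [.bwd 9739, .fwd 31139, .fwd 14651],
   .loop none [.fwd 32425],
   .loop none [.bwd 13583, .fwd 31141, .fwd 13914],
   .loop none [.bwd 32427],
   .loop none [.bwd 27579, .fwd 31141, .fwd 23740],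
   .loop none [.fwd 32429],
   .loop none [.bwd 31153, .fwd 31144, .bwd 24787],
   .loop none [.fwd 32431],
   .loop none [.bwd 17275, .bwd 32108, .bwd 16627],
   .loop none [.bwd 32433],
   .loop none [.fwd 32238, .fwd 32228],
   .loop none [.fwd 32422, .fwd 31163],
   .loop none [.fwd 32422, .fwd 31407],
   .loop none [.fwd 15195, .fwd 31148, .bwd 23573],
   .loop none [.bwd 32438],
   .loop none [.bwd 5906, .fwd 31148, .fwd 23672],
   .loop none [.fwd 32440],
   .loop none [.fwd 8971, .fwd 31148, .bwd 21586],
   .loop none [.fwd 32442],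
   .loop none [.fwd 11848, .fwd 31150, .bwd 18855, .fwd 32435],
   .loop none [.bwd 32444],
   .loop none [.fwd 14675, .bwd 31152],
   .loop none [.fwd 32441, .fwd 32434],
   .loop none [.bwd 32447, .bwd 17275, .bwd 31408, .fwd 16189],
   .loop none [.fwd 32448],
   .loop none [.fwd 18154, .fwd 31408],
   .loop none [.fwd 14458, .bwd 31159],
   .loop none [.fwd 21322, .fwd 31161, .fwd 15716],
   .loop none [.bwd 32452],
   .loop none [.bwd 16201, .fwd 32436],
   .loop none [.fwd 32149, .fwd 31857],
   .loop none [.fwd 32453, .fwd 21322, .fwd 31167, .bwd 12373],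
   .loop none [.bwd 32456],
   .loop none [.fwd 32457, .fwd 32453],
   .loop none [.bwd 32231, .fwd 31169, .bwd 14709],
   .loop none [.bwd 32459],
   .loop none [.fwd 11995, .fwd 31171, .bwd 23954],
   .loop none [.fwd 32461],
   .loop none [.fwd 18148, .bwd 31171],
   .loop none [.fwd 19499, .fwd 31173, .bwd 24533],
   .loop none [.fwd 32464],
   .loop none [.fwd 20061, .fwd 31176, .bwd 9907],
   .loop none [.bwd 32466],
   .loop none [.fwd 32383, .fwd 32358, .fwd 32355],
   .loop none [.bwd 7905, .bwd 31185],
   .loop none [.fwd 7914, .bwd 31185],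
   .loop none [.bwd 14158, .fwd 31185, .fwd 22900],
   .loop none [.fwd 32471],
   .loop none [.fwd 13499, .fwd 32199],
   .loop none [.bwd 23280, .bwd 32199, .fwd 18860],
   .loop none [.bwd 32474],
   .loop none [.bwd 10116, .fwd 31190, .fwd 12735],
   .loop none [.fwd 32476],
   .loop none [.fwd 31913, .bwd 10103, .fwd 31193, .fwd 16165],
   .loop none [.fwd 32478],
   .loop none [.bwd 16238, .fwd 31195, .fwd 16943],
   .loop none [.fwd 32480],
   .loop none [.fwd 32192, .fwd 32188],
   .loop none [.fwd 31201, .fwd 31197],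
   .loop none [.fwd 31913, .fwd 31503],
   .loop none [.bwd 6642, .bwd 32483, .fwd 18639, .bwd 32481],
   .loop none [.fwd 32485],
   .loop none [.fwd 8878, .fwd 31201, .fwd 13777],
   .loop none [.fwd 32487],
   .loop none [.fwd 13387, .bwd 31201],
   .loop none [.bwd 9980, .fwd 31201, .fwd 13388],
   .loop none [.fwd 32490],
   .loop none [.fwd 24298, .fwd 31201, .bwd 25353],
   .loop none [.fwd 32492],
   .loop none [.bwd 9167, .fwd 31203, .fwd 15103],
   .loop none [.fwd 32494],
   .loop none [.bwd 15069, .bwd 31203],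
   .loop none [.fwd 12810, .bwd 31205],
   .loop none [.fwd 14682, .bwd 31205],
   .loop none [.fwd 32365, .fwd 32107]]

theorem just129_len : just129.length = 250 := by decide +kernel

theorem just129_ok : cert.okFacts 32250 just129 = true := by decide +kernel

/-- justifications -/
noncomputable def just130 : List Cert.Just :=
  [.loop none [.fwd 24765, .bwd 31210],
   .loop none [.fwd 32016, .fwd 31932],
   .loop none [.bwd 16277, .fwd 31212, .fwd 16932],
   .loop none [.fwd 32502],
   .loop none [.fwd 14393, .bwd 31215],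
   .loop none [.bwd 11631, .fwd 31218, .fwd 19048],
   .loop none [.fwd 32505],
   .loop none [.bwd 31258, .fwd 31220, .fwd 25364],
   .loop none [.fwd 32507],
   .loop none [.fwd 31261, .fwd 31222],
   .loop none [.fwd 32280, .fwd 32023],
   .loop none [.fwd 10490, .bwd 32509, .bwd 15385],
   .loop none [.fwd 32511],
   .loop none [.bwd 12050, .bwd 32509, .fwd 18894],
   .loop none [.fwd 32513],
   .loop none [.fwd 19265, .bwd 31224],
   .loop none [.fwd 19273, .bwd 31224],
   .loop none [.bwd 12476, .bwd 31229],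
   .loop none [.fwd 25847, .fwd 31229, .bwd 21718],
   .loop none [.bwd 32518],
   .loop none [.fwd 32519, .fwd 25847, .fwd 31231, .bwd 15473],
   .loop none [.bwd 32520],
   .loop none [.bwd 12102, .fwd 31234, .fwd 22338],
   .loop none [.fwd 32522],
   .loop none [.bwd 23420, .bwd 31234],
   .loop none [.bwd 13043, .fwd 31237, .bwd 25287],
   .loop none [.fwd 32525],
   .loop none [.fwd 31657, .fwd 15221, .fwd 31237, .bwd 25290],
   .loop none [.fwd 32527],
   .loop none [.bwd 13222, .fwd 31237, .fwd 25288, .bwd 31915],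
   .loop none [.bwd 32529],
   .loop none [.bwd 32291, .fwd 31241],
   .loop none [.fwd 8420, .bwd 32531, .fwd 21477],
   .loop none [.fwd 32532],
   .loop none [.bwd 15971, .fwd 31243, .fwd 21986],
   .loop none [.fwd 32534],
   .loop none [.fwd 16562, .fwd 31246, .bwd 13743],
   .loop none [.bwd 32536],
   .loop none [.bwd 7666, .bwd 31246],
   .loop none [.bwd 10132, .fwd 31246, .fwd 13115],
   .loop none [.fwd 32539],
   .loop none [.fwd 1703, .bwd 31246],
   .loop none [.bwd 16589, .fwd 31246, .bwd 15796],
   .loop none [.bwd 32542],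
   .loop none [.bwd 775, .fwd 31246, .fwd 1704],
   .loop none [.fwd 32544],
   .loop none [.fwd 10991, .fwd 31246, .bwd 13158],
   .loop none [.fwd 32546],
   .loop none [.fwd 19364, .fwd 31246, .bwd 25331],
   .loop none [.fwd 32548],
   .loop none [.bwd 16629, .fwd 31246, .fwd 22286],
   .loop none [.bwd 32550],
   .loop none [.bwd 9741, .bwd 32288, .bwd 13116, .bwd 32540],
   .loop none [.fwd 32552],
   .loop none [.bwd 13059, .fwd 32288],
   .loop none [.fwd 13120, .fwd 32288],
   .loop none [.bwd 13043, .fwd 31250, .fwd 16650],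
   .loop none [.fwd 32556],
   .loop none [.fwd 10429, .fwd 31252, .fwd 13248],
   .loop none [.fwd 32558],
   .loop none [.bwd 13249, .bwd 31252],
   .loop none [.fwd 21501, .fwd 31252, .bwd 12927],
   .loop none [.bwd 32561],
   .loop none [.bwd 13252, .bwd 31252],
   .loop none [.bwd 11630, .bwd 31254],
   .loop none [.fwd 31425, .bwd 21531, .fwd 31254, .fwd 12096],
   .loop none [.bwd 32565],
   .loop none [.fwd 31427, .fwd 21762, .fwd 31254, .bwd 25843],
   .loop none [.fwd 32567],
   .loop none [.fwd 23853, .fwd 32285],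
   .loop none [.fwd 12076, .bwd 31261],
   .loop none [.bwd 13043, .fwd 31263, .fwd 19047],
   .loop none [.fwd 32571],
   .loop none [.fwd 11067, .fwd 31265, .bwd 15603],
   .loop none [.fwd 32573],
   .loop none [.bwd 15360, .bwd 31265],
   .loop none [.fwd 11661, .fwd 31265, .bwd 15359],
   .loop none [.fwd 32576],
   .loop none [.fwd 11068, .fwd 31265, .bwd 15608],
   .loop none [.fwd 32578],
   .loop none [.fwd 13152, .fwd 32291],
   .loop none [.fwd 32406, .fwd 32404],
   .loop none [.bwd 13740, .bwd 31284],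
   .loop none [.bwd 14849, .bwd 31293],
   .loop none [.fwd 1710, .bwd 31302],
   .loop none [.bwd 15679, .fwd 31304, .bwd 23929],
   .loop none [.fwd 32585],
   .loop none [.bwd 10024, .fwd 31306, .fwd 12321],
   .loop none [.fwd 32587],
   .loop none [.bwd 14035, .bwd 31306],
   .loop none [.fwd 31838, .bwd 16973, .fwd 31310, .bwd 9821],
   .loop none [.bwd 32590],
   .loop none [.fwd 31314, .fwd 31312],
   .loop none [.bwd 9928, .bwd 32592, .fwd 24405],
   .loop none [.fwd 32593],
   .loop none [.fwd 32591, .fwd 31838],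
   .loop none [.fwd 13061, .bwd 31314],
   .loop none [.fwd 25472, .fwd 31314, .bwd 17033],
   .loop none [.bwd 32597],
   .loop none [.bwd 25428, .fwd 31314, .fwd 16969],
   .loop none [.bwd 32599],
   .loop none [.fwd 12079, .fwd 31314, .bwd 18125],
   .loop none [.bwd 32601],
   .loop none [.fwd 5355, .bwd 31320],
   .loop none [.bwd 5960, .fwd 31320, .bwd 5601],
   .loop none [.bwd 32604],
   .loop none [.bwd 1811, .bwd 31320],
   .loop none [.fwd 32605, .fwd 32053],
   .loop none [.bwd 8022, .fwd 31322, .bwd 14962],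
   .loop none [.fwd 32608],
   .loop none [.bwd 8074, .bwd 31326],
   .loop none [.bwd 7353, .bwd 31330],
   .loop none [.bwd 8022, .fwd 31330, .fwd 5472],
   .loop none [.fwd 32612],
   .loop none [.bwd 851, .fwd 31330, .fwd 1751],
   .loop none [.fwd 32614],
   .loop none [.bwd 9205, .fwd 31330, .fwd 8373],
   .loop none [.fwd 32616],
   .loop none [.fwd 9209, .fwd 31330, .bwd 8335],
   .loop none [.fwd 32618],
   .loop none [.fwd 7993, .bwd 31336],
   .loop none [.bwd 8286, .bwd 31339],
   .loop none [.fwd 19543, .fwd 31341, .bwd 25405],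
   .loop none [.fwd 32622],
   .loop none [.fwd 15357, .bwd 31343],
   .loop none [.fwd 21837, .fwd 31343, .bwd 15675],
   .loop none [.bwd 32625],
   .loop none [.fwd 18237, .bwd 31343],
   .loop none [.bwd 15678, .bwd 31343],
   .loop none [.bwd 11131, .fwd 31345, .bwd 15634],
   .loop none [.fwd 32629],
   .loop none [.bwd 32414, .fwd 31348, .bwd 24800],
   .loop none [.fwd 32631],
   .loop none [.fwd 32408, .fwd 31353, .fwd 12934],
   .loop none [.fwd 32633],
   .loop none [.fwd 19581, .fwd 31353, .bwd 25408],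
   .loop none [.fwd 32635],
   .loop none [.bwd 32204, .fwd 31355, .bwd 14658],
   .loop none [.bwd 32637],
   .loop none [.bwd 15971, .fwd 31359, .fwd 23915],
   .loop none [.fwd 32639],
   .loop none [.fwd 9982, .fwd 31361, .fwd 12854],
   .loop none [.fwd 32641],
   .loop none [.bwd 32446, .fwd 31364, .bwd 24776],
   .loop none [.fwd 32643],
   .loop none [.bwd 7936, .bwd 31367],
   .loop none [.bwd 7977, .bwd 31367],
   .loop none [.bwd 11291, .fwd 31367, .fwd 22933],
   .loop none [.fwd 32647],
   .loop none [.fwd 15323, .fwd 31370, .fwd 14608],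
   .loop none [.bwd 32649],
   .loop none [.bwd 15882, .fwd 31370, .fwd 23913],
   .loop none [.fwd 32651],
   .loop none [.bwd 18822, .bwd 31378],
   .loop none [.fwd 18159, .bwd 31378],
   .loop none [.fwd 23380, .bwd 31380],
   .loop none [.fwd 15088, .fwd 31395, .bwd 15094],
   .loop none [.bwd 32656],
   .loop none [.fwd 32349, .bwd 31440, .fwd 31395, .fwd 14295],
   .loop none [.bwd 32658],
   .loop none [.bwd 31745, .fwd 31395, .fwd 14497],
   .loop none [.bwd 32660],
   .loop none [.fwd 10960, .bwd 31398],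
   .loop none [.bwd 10675, .fwd 31398, .fwd 13193],
   .loop none [.fwd 32663],
   .loop none [.bwd 11357, .fwd 31400, .fwd 18332],
   .loop none [.fwd 32665],
   .loop none [.fwd 11127, .fwd 31402, .bwd 13403],
   .loop none [.fwd 32667],
   .loop none [.bwd 10999, .bwd 31405],
   .loop none [.fwd 18397, .fwd 32437],
   .loop none [.bwd 23198, .fwd 31410, .fwd 24610],
   .loop none [.fwd 32671],
   .loop none [.bwd 18095, .bwd 31412],
   .loop none [.fwd 10720, .fwd 31414, .bwd 21635],
   .loop none [.fwd 32674],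
   .loop none [.fwd 31259, .bwd 31416],
   .loop none [.bwd 11357, .fwd 31416, .fwd 25580],
   .loop none [.fwd 32677],
   .loop none [.fwd 9706, .fwd 31418, .bwd 13318],
   .loop none [.fwd 32679],
   .loop none [.fwd 11624, .bwd 31420],
   .loop none [.fwd 11606, .fwd 31420, .bwd 12536],
   .loop none [.fwd 32682],
   .loop none [.bwd 10730, .bwd 31420],
   .loop none [.bwd 14862, .fwd 31420, .fwd 23303],
   .loop none [.fwd 32685],
   .loop none [.fwd 11632, .bwd 31420],
   .loop none [.bwd 12090, .bwd 31420],
   .loop none [.bwd 8313, .bwd 31423],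
   .loop none [.fwd 32566, .fwd 31425],
   .loop none [.fwd 21531, .fwd 32690],
   .loop none [.bwd 21762, .bwd 31427],
   .loop none [.bwd 25291, .fwd 31787],
   .loop none [.fwd 23229, .fwd 31742],
   .loop none [.fwd 32521, .fwd 32519],
   .loop none [.fwd 23296, .fwd 31433, .bwd 6860],
   .loop none [.bwd 32696],
   .loop none [.fwd 6726, .fwd 31433, .fwd 11604],
   .loop none [.fwd 32698],
   .loop none [.bwd 9671, .fwd 31433, .fwd 9634],
   .loop none [.bwd 32700],
   .loop none [.fwd 9670, .fwd 31433, .bwd 9668],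
   .loop none [.fwd 32702],
   .loop none [.fwd 32344, .fwd 31794],
   .loop none [.bwd 14409, .bwd 31435],
   .loop none [.fwd 14694, .bwd 31435],
   .loop none [.fwd 32657, .fwd 31439],
   .loop none [.fwd 11454, .bwd 32707, .fwd 25775],
   .loop none [.fwd 32708],
   .loop none [.fwd 5919, .bwd 32707, .bwd 27482, .bwd 32680],
   .loop none [.fwd 32710],
   .loop none [.bwd 5920, .bwd 32707, .bwd 27481],
   .loop none [.fwd 32712],
   .loop none [.bwd 11575, .fwd 31447, .fwd 27524, .bwd 32328],
   .loop none [.fwd 32714],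
   .loop none [.fwd 32659, .fwd 32349],
   .loop none [.fwd 23855, .bwd 31449],
   .loop none [.fwd 24815, .bwd 31459],
   .loop none [.bwd 9732, .bwd 31685, .fwd 20869],
   .loop none [.bwd 32719],
   .loop none [.fwd 19739, .fwd 31685],
   .loop none [.fwd 6824, .bwd 31464],
   .loop none [.fwd 32591, .fwd 32147],
   .loop none [.bwd 7575, .bwd 31469],
   .loop none [.bwd 15808, .fwd 31469, .fwd 10932],
   .loop none [.bwd 32725],
   .loop none [.fwd 20228, .bwd 31472],
   .loop none [.fwd 15977, .fwd 31929],
   .loop none [.bwd 16477, .fwd 31929],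
   .loop none [.bwd 15978, .fwd 31929],
   .loop none [.fwd 16512, .fwd 31929],
   .loop none [.fwd 17424, .fwd 31929],
   .loop none [.bwd 19591, .bwd 31479],
   .loop none [.fwd 9945, .bwd 32105, .bwd 19759],
   .loop none [.fwd 32734],
   .loop none [.bwd 4500, .fwd 31483, .bwd 15102],
   .loop none [.fwd 32736],
   .loop none [.fwd 16009, .fwd 31930],
   .loop none [.bwd 16387, .fwd 31930],
   .loop none [.bwd 16010, .fwd 31930],
   .loop none [.bwd 15882, .fwd 31487, .fwd 23900],
   .loop none [.fwd 32741],
   .loop none [.bwd 14944, .bwd 31490],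
   .loop none [.fwd 13710, .bwd 31490],
   .loop none [.bwd 12542, .bwd 31490],
   .loop none [.bwd 13721, .bwd 31490],
   .loop none [.fwd 15096, .bwd 31490],
   .loop none [.bwd 31964, .fwd 31519],
   .loop none [.fwd 17265, .fwd 31497, .bwd 19604]]

theorem just130_len : just130.length = 250 := by decide +kernel

theorem just130_ok : cert.okFacts 32500 just130 = true := by decide +kernel

/-- justifications -/
noncomputable def just131 : List Cert.Just :=
  [.loop none [.bwd 32749],
   .loop none [.bwd 18361, .fwd 31497, .fwd 27641],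
   .loop none [.fwd 32751],
   .loop none [.bwd 18362, .fwd 31497, .fwd 23693],
   .loop none [.bwd 32753],
   .loop none [.fwd 11103, .fwd 31499, .bwd 18058],
   .loop none [.fwd 32755],
   .loop none [.fwd 16176, .bwd 31499],
   .loop none [.bwd 9722, .fwd 31499, .fwd 16177],
   .loop none [.fwd 32758],
   .loop none [.fwd 11390, .fwd 31499, .bwd 17101],
   .loop none [.fwd 32760],
   .loop none [.fwd 19717, .bwd 31499],
   .loop none [.bwd 23318, .fwd 31499, .fwd 19426],
   .loop none [.fwd 32763],
   .loop none [.fwd 9999, .bwd 31501],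
   .loop none [.bwd 10000, .bwd 31501],
   .loop none [.fwd 24290, .bwd 32484, .bwd 24320],
   .loop none [.fwd 32767],
   .loop none [.bwd 27440, .bwd 32484, .fwd 24538],
   .loop none [.bwd 32769],
   .loop none [.bwd 17212, .fwd 31505, .fwd 9851],
   .loop none [.bwd 32771],
   .loop none [.fwd 22899, .fwd 31505, .fwd 11585],
   .loop none [.bwd 32773],
   .loop none [.fwd 20059, .fwd 31505, .bwd 9897],
   .loop none [.bwd 32775],
   .loop none [.bwd 27567, .fwd 31507, .fwd 18996],
   .loop none [.bwd 32777],
   .loop none [.fwd 19738, .bwd 32109, .bwd 15605],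
   .loop none [.bwd 32779],
   .loop none [.fwd 25628, .bwd 31511],
   .loop none [.bwd 25700, .bwd 31511],
   .loop none [.bwd 25696, .bwd 31511],
   .loop none [.bwd 25699, .bwd 31511],
   .loop none [.bwd 25695, .bwd 31511],
   .loop none [.fwd 27259, .bwd 31511],
   .loop none [.fwd 17535, .fwd 31961, .bwd 25629, .bwd 31511],
   .loop none [.bwd 32787],
   .loop none [.fwd 25698, .bwd 31511],
   .loop none [.bwd 19040, .bwd 31513],
   .loop none [.bwd 12991, .fwd 31516, .fwd 12311],
   .loop none [.bwd 32791],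
   .loop none [.bwd 11812, .bwd 32748, .bwd 18460],
   .loop none [.fwd 32793],
   .loop none [.bwd 24333, .bwd 32748, .bwd 19603],
   .loop none [.bwd 32795],
   .loop none [.bwd 10056, .bwd 32748, .fwd 17360],
   .loop none [.fwd 32797],
   .loop none [.fwd 25226, .bwd 32748, .bwd 18702],
   .loop none [.bwd 32799],
   .loop none [.fwd 32794, .fwd 32792, .fwd 32537],
   .loop none [.fwd 22396, .bwd 32051, .bwd 19019, .bwd 32742],
   .loop none [.bwd 32802],
   .loop none [.fwd 32794, .fwd 32792],
   .loop none [.fwd 32796, .bwd 24333, .bwd 31964, .bwd 19103],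
   .loop none [.bwd 32805],
   .loop none [.fwd 15979, .fwd 31964],
   .loop none [.bwd 10056, .bwd 31964, .fwd 16764],
   .loop none [.fwd 32808],
   .loop none [.fwd 16781, .fwd 31964],
   .loop none [.fwd 32800, .fwd 25226, .bwd 31964, .bwd 18488],
   .loop none [.bwd 32811],
   .loop none [.fwd 31972, .bwd 24248, .fwd 31964],
   .loop none [.fwd 16025, .fwd 31526, .fwd 18598, .bwd 32798],
   .loop none [.bwd 32814],
   .loop none [.fwd 31935, .fwd 31528],
   .loop none [.bwd 14466, .bwd 32816, .fwd 25099],
   .loop none [.fwd 32817],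
   .loop none [.fwd 9743, .bwd 32816, .bwd 20874],
   .loop none [.fwd 32819],
   .loop none [.fwd 10015, .bwd 31530],
   .loop none [.fwd 10078, .bwd 31530],
   .loop none [.bwd 10016, .bwd 31530],
   .loop none [.bwd 17146, .fwd 31533, .bwd 18478],
   .loop none [.bwd 32824],
   .loop none [.fwd 15535, .bwd 31536],
   .loop none [.bwd 15536, .bwd 31536],
   .loop none [.bwd 15538, .bwd 31536],
   .loop none [.fwd 15537, .bwd 31536],
   .loop none [.fwd 15546, .bwd 31536],
   .loop none [.fwd 13723, .bwd 31540],
   .loop none [.fwd 15541, .bwd 31540],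
   .loop none [.fwd 12540, .bwd 31540],
   .loop none [.fwd 18604, .bwd 31540],
   .loop none [.bwd 18637, .bwd 31540],
   .loop none [.fwd 14667, .bwd 31540],
   .loop none [.fwd 15579, .bwd 31542],
   .loop none [.fwd 25491, .fwd 31544, .bwd 24368],
   .loop none [.bwd 32838],
   .loop none [.fwd 22384, .fwd 31544, .bwd 19481],
   .loop none [.bwd 32840],
   .loop none [.fwd 32126, .fwd 24254, .bwd 31546],
   .loop none [.fwd 23747, .bwd 31546],
   .loop none [.fwd 31676, .bwd 24105, .bwd 31548],
   .loop none [.bwd 11130, .bwd 31555],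
   .loop none [.fwd 24255, .bwd 31560],
   .loop none [.bwd 19453, .bwd 31560],
   .loop none [.fwd 31909, .fwd 31568],
   .loop none [.bwd 11345, .bwd 32848, .bwd 21109],
   .loop none [.fwd 32849],
   .loop none [.fwd 4851, .fwd 31571, .bwd 23877],
   .loop none [.fwd 32851],
   .loop none [.bwd 10853, .bwd 31574],
   .loop none [.fwd 4851, .fwd 31574, .bwd 5410],
   .loop none [.fwd 32854],
   .loop none [.fwd 16814, .fwd 31574, .bwd 12580],
   .loop none [.bwd 32856],
   .loop none [.bwd 11012, .fwd 31574, .fwd 11083],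
   .loop none [.fwd 32858],
   .loop none [.fwd 18137, .fwd 31574, .bwd 19713],
   .loop none [.fwd 32860],
   .loop none [.fwd 9559, .fwd 31576, .bwd 23876],
   .loop none [.fwd 32862],
   .loop none [.fwd 16433, .fwd 31581, .bwd 13970],
   .loop none [.bwd 32864],
   .loop none [.bwd 7580, .bwd 31581],
   .loop none [.fwd 16116, .fwd 31581, .bwd 13242],
   .loop none [.bwd 32867],
   .loop none [.bwd 16304, .fwd 31581, .fwd 11076],
   .loop none [.bwd 32869],
   .loop none [.bwd 16746, .fwd 31581, .fwd 22355],
   .loop none [.fwd 32871],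
   .loop none [.bwd 12443, .bwd 31583],
   .loop none [.bwd 31514, .bwd 31583],
   .loop none [.bwd 14026, .bwd 31956, .fwd 17465],
   .loop none [.fwd 32875],
   .loop none [.bwd 17314, .fwd 31956],
   .loop none [.fwd 25669, .bwd 31956, .bwd 19988],
   .loop none [.bwd 32878],
   .loop none [.fwd 23286, .fwd 31594, .bwd 22601],
   .loop none [.bwd 32880],
   .loop none [.fwd 32591, .fwd 31597],
   .loop none [.fwd 9820, .bwd 32882, .fwd 16135],
   .loop none [.fwd 32883],
   .loop none [.fwd 24407, .bwd 32882, .bwd 25407],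
   .loop none [.fwd 32885],
   .loop none [.fwd 25450, .fwd 31599, .bwd 25080],
   .loop none [.bwd 32887],
   .loop none [.bwd 11755, .fwd 31599, .fwd 25406],
   .loop none [.fwd 32889],
   .loop none [.bwd 9810, .fwd 31601, .fwd 19197],
   .loop none [.fwd 32891],
   .loop none [.fwd 31676, .fwd 31666],
   .loop none [.bwd 23355, .fwd 31603, .bwd 23819],
   .loop none [.bwd 32894],
   .loop none [.fwd 32888, .fwd 25450, .fwd 31603, .bwd 16992],
   .loop none [.bwd 32896],
   .loop none [.fwd 32841, .bwd 23287, .fwd 31603, .fwd 18766],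
   .loop none [.fwd 32898],
   .loop none [.bwd 11755, .fwd 31603, .fwd 18768],
   .loop none [.bwd 32900],
   .loop none [.fwd 32661, .bwd 24943, .fwd 32342],
   .loop none [.fwd 32701, .fwd 6863, .bwd 32342, .bwd 24976],
   .loop none [.fwd 32903],
   .loop none [.fwd 16331, .bwd 31610],
   .loop none [.fwd 11826, .fwd 31610, .fwd 18185],
   .loop none [.fwd 32906],
   .loop none [.bwd 16343, .bwd 31610],
   .loop none [.bwd 18187, .bwd 31610],
   .loop none [.fwd 11798, .fwd 31614, .fwd 21690],
   .loop none [.fwd 32910],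
   .loop none [.fwd 27583, .bwd 31614],
   .loop none [.bwd 17757, .bwd 31616],
   .loop none [.fwd 18371, .bwd 31619],
   .loop none [.bwd 4459, .fwd 31622, .fwd 23921],
   .loop none [.fwd 32915],
   .loop none [.fwd 18366, .bwd 31629],
   .loop none [.fwd 11800, .fwd 31633, .fwd 21696],
   .loop none [.fwd 32918],
   .loop none [.fwd 27584, .bwd 31633],
   .loop none [.bwd 11345, .bwd 32034, .fwd 26999],
   .loop none [.fwd 32921],
   .loop none [.bwd 11770, .bwd 31637],
   .loop none [.fwd 9988, .bwd 31637],
   .loop none [.bwd 11779, .bwd 31637],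
   .loop none [.fwd 11771, .bwd 31637],
   .loop none [.bwd 18335, .bwd 31637],
   .loop none [.fwd 10609, .fwd 31639, .bwd 21651, .bwd 31919],
   .loop none [.fwd 32928],
   .loop none [.fwd 7938, .bwd 31641],
   .loop none [.bwd 14026, .bwd 31892, .fwd 25373],
   .loop none [.fwd 32931],
   .loop none [.fwd 11606, .fwd 31650, .fwd 20254],
   .loop none [.fwd 32933],
   .loop none [.bwd 32846, .fwd 31654, .fwd 25358, .bwd 32863],
   .loop none [.bwd 32935],
   .loop none [.bwd 32832, .fwd 31659, .fwd 16082],
   .loop none [.fwd 32937],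
   .loop none [.bwd 16643, .bwd 31662],
   .loop none [.bwd 19056, .bwd 31662],
   .loop none [.fwd 21605, .bwd 31662],
   .loop none [.fwd 11074, .fwd 31664, .bwd 13647],
   .loop none [.fwd 32942],
   .loop none [.bwd 12840, .bwd 31664],
   .loop none [.fwd 12839, .bwd 31664],
   .loop none [.bwd 21640, .fwd 31664, .fwd 13230],
   .loop none [.bwd 32946],
   .loop none [.bwd 13708, .bwd 31664],
   .loop none [.fwd 23304, .bwd 32893, .bwd 22820],
   .loop none [.bwd 32949],
   .loop none [.fwd 31577, .fwd 32893],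
   .loop none [.bwd 14936, .bwd 31669],
   .loop none [.bwd 23858, .fwd 31671, .fwd 19083],
   .loop none [.bwd 32953],
   .loop none [.fwd 22038, .fwd 31671, .bwd 16124],
   .loop none [.bwd 32955],
   .loop none [.fwd 15609, .bwd 31671],
   .loop none [.fwd 13977, .fwd 31671, .bwd 16706],
   .loop none [.fwd 32958],
   .loop none [.fwd 25337, .fwd 31671, .bwd 19385],
   .loop none [.bwd 32960],
   .loop none [.bwd 23860, .fwd 31671, .fwd 19086],
   .loop none [.bwd 32962],
   .loop none [.bwd 32940, .fwd 31674, .fwd 13178],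
   .loop none [.bwd 32964],
   .loop none [.bwd 32941, .fwd 31674, .bwd 13188],
   .loop none [.bwd 32966],
   .loop none [.bwd 19514, .bwd 31676],
   .loop none [.fwd 5544, .fwd 31683, .fwd 18630],
   .loop none [.fwd 32969],
   .loop none [.bwd 8161, .fwd 31687, .fwd 20103],
   .loop none [.fwd 32971],
   .loop none [.bwd 6933, .bwd 31706],
   .loop none [.fwd 8249, .fwd 31706, .bwd 7176],
   .loop none [.bwd 32974],
   .loop none [.fwd 5350, .bwd 31706],
   .loop none [.bwd 4786, .fwd 31706, .fwd 5351],
   .loop none [.fwd 32977],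
   .loop none [.fwd 32042, .fwd 9524, .fwd 31706, .bwd 11710],
   .loop none [.fwd 32979],
   .loop none [.bwd 22872, .fwd 31706, .fwd 11389],
   .loop none [.fwd 32981],
   .loop none [.fwd 32166, .fwd 7163, .fwd 31712, .fwd 4838],
   .loop none [.fwd 32983],
   .loop none [.bwd 23333, .fwd 31714, .fwd 16249],
   .loop none [.bwd 32985],
   .loop none [.fwd 32686, .fwd 25248, .fwd 31717, .bwd 15216],
   .loop none [.fwd 32987],
   .loop none [.fwd 11530, .fwd 31719, .fwd 25001],
   .loop none [.fwd 32989],
   .loop none [.fwd 11643, .fwd 31721, .bwd 19028],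
   .loop none [.fwd 32991],
   .loop none [.bwd 10398, .fwd 31721, .fwd 21114],
   .loop none [.fwd 32993],
   .loop none [.bwd 24040, .bwd 31723],
   .loop none [.fwd 14481, .fwd 31723, .bwd 24045],
   .loop none [.fwd 32996],
   .loop none [.bwd 23125, .fwd 31725, .fwd 27369],
   .loop none [.bwd 32998]]

theorem just131_len : just131.length = 250 := by decide +kernel

theorem just131_ok : cert.okFacts 32750 just131 = true := by decide +kernel


end CfsgLib.ThCent.DX
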