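import Cfsg.Agent.Lib.ThCent.DXData

/-!
Justifications of the side facts (generated data).
-/

namespace CfsgLib.ThCent.DX

open CfsgLib.PresCert

set_option maxRecDepth 100000

/-- justifications -/
noncomputable def just132 : List Cert.Just :=
  [.loop none [.bwd 19991, .fwd 31725, .fwd 25672],
   .loop none [.fwd 33000],
   .loop none [.bwd 23045, .fwd 31725, .fwd 27535, .bwd 32986],
   .loop none [.bwd 33002],
   .loop none [.fwd 27374, .bwd 31725],
   .loop none [.bwd 8258, .bwd 31727],
   .loop none [.fwd 11606, .fwd 31729, .bwd 21386],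
   .loop none [.fwd 33006],
   .loop none [.fwd 32711, .fwd 9706, .fwd 31731, .bwd 17340],
   .loop none [.fwd 33008],
   .loop none [.fwd 11503, .fwd 31733, .bwd 24998],
   .loop none [.fwd 33010],
   .loop none [.fwd 7998, .bwd 31735],
   .loop none [.fwd 24825, .bwd 31737],
   .loop none [.bwd 23011, .fwd 31739, .bwd 23043],
   .loop none [.bwd 33014],
   .loop none [.fwd 18252, .fwd 31741, .fwd 24036],
   .loop none [.fwd 33016],
   .loop none [.fwd 32657, .fwd 31744],
   .loop none [.fwd 11454, .bwd 33018, .fwd 20199],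
   .loop none [.fwd 33019],
   .loop none [.fwd 9556, .bwd 33018, .bwd 24884],
   .loop none [.fwd 33021],
   .loop none [.fwd 15134, .bwd 32321, .fwd 23208],
   .loop none [.fwd 33023],
   .loop none [.bwd 25294, .fwd 32321],
   .loop none [.bwd 11618, .fwd 31750, .fwd 23984],
   .loop none [.fwd 33026],
   .loop none [.fwd 6657, .fwd 31754, .bwd 20808],
   .loop none [.fwd 33028],
   .loop none [.bwd 6698, .bwd 31756],
   .loop none [.fwd 6697, .bwd 31756],
   .loop none [.fwd 6749, .bwd 31756],
   .loop none [.bwd 32334, .fwd 31756, .fwd 9903],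
   .loop none [.bwd 33033],
   .loop none [.bwd 6946, .bwd 31756],
   .loop none [.fwd 23654, .bwd 31756],
   .loop none [.bwd 10398, .fwd 31759, .fwd 27346],
   .loop none [.fwd 33037],
   .loop none [.fwd 32986, .bwd 23333, .fwd 31761, .fwd 22093],
   .loop none [.fwd 33039],
   .loop none [.bwd 5902, .bwd 31764],
   .loop none [.bwd 8059, .fwd 31764, .bwd 9734],
   .loop none [.fwd 33042],
   .loop none [.fwd 5175, .bwd 31764],
   .loop none [.bwd 4618, .fwd 31764, .fwd 5176],
   .loop none [.fwd 33045],
   .loop none [.bwd 27305, .bwd 31769],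
   .loop none [.fwd 31454, .bwd 31771],
   .loop none [.fwd 10177, .fwd 31773, .bwd 19939],
   .loop none [.fwd 33049],
   .loop none [.bwd 11357, .fwd 31773, .fwd 22920],
   .loop none [.fwd 33051],
   .loop none [.fwd 31269, .bwd 31776],
   .loop none [.fwd 32134, .fwd 31827],
   .loop none [.fwd 32134, .fwd 31891],
   .loop none [.fwd 32711, .fwd 9706, .fwd 31779, .bwd 24616],
   .loop none [.fwd 33056],
   .loop none [.bwd 15228, .bwd 31782],
   .loop none [.fwd 11606, .fwd 31785, .bwd 16887],
   .loop none [.fwd 33059],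
   .loop none [.fwd 20362, .bwd 31789],
   .loop none [.bwd 23302, .fwd 32704],
   .loop none [.fwd 6657, .bwd 32704, .fwd 21568],
   .loop none [.fwd 33063],
   .loop none [.bwd 23314, .fwd 32704],
   .loop none [.fwd 31561, .fwd 32704],
   .loop none [.fwd 15134, .fwd 31796, .bwd 24121],
   .loop none [.fwd 33067],
   .loop none [.fwd 32697, .fwd 23296, .fwd 31800, .bwd 24263],
   .loop none [.fwd 33069],
   .loop none [.fwd 32701, .bwd 9671, .fwd 31800, .fwd 23823],
   .loop none [.fwd 33071],
   .loop none [.fwd 23457, .bwd 31802],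
   .loop none [.fwd 31791, .bwd 31804],
   .loop none [.bwd 7226, .bwd 31810],
   .loop none [.fwd 15173, .fwd 31814, .fwd 20217],
   .loop none [.fwd 33076],
   .loop none [.fwd 16329, .bwd 31816],
   .loop none [.fwd 11827, .fwd 31816, .fwd 17268],
   .loop none [.fwd 33079],
   .loop none [.fwd 17272, .bwd 31816],
   .loop none [.fwd 10042, .fwd 31816, .fwd 16432, .bwd 32865],
   .loop none [.fwd 33082],
   .loop none [.bwd 15929, .fwd 31818, .fwd 23914],
   .loop none [.fwd 33084],
   .loop none [.fwd 33083, .fwd 32865],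
   .loop none [.fwd 11803, .fwd 31820, .fwd 21699],
   .loop none [.fwd 33087],
   .loop none [.bwd 23360, .bwd 31820],
   .loop none [.fwd 27585, .bwd 31820],
   .loop none [.bwd 15052, .bwd 31822],
   .loop none [.bwd 13043, .fwd 31825, .fwd 20093],
   .loop none [.fwd 33092],
   .loop none [.fwd 14745, .bwd 33054, .bwd 24647, .bwd 33093],
   .loop none [.fwd 33094],
   .loop none [.fwd 18368, .bwd 31831],
   .loop none [.fwd 18365, .fwd 31836, .bwd 23354],
   .loop none [.fwd 33097],
   .loop none [.fwd 9820, .bwd 32595, .bwd 18047],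
   .loop none [.bwd 33099],
   .loop none [.fwd 16973, .fwd 32595],
   .loop none [.bwd 18129, .fwd 32595],
   .loop none [.fwd 18123, .fwd 32595],
   .loop none [.fwd 32897, .fwd 32888],
   .loop none [.bwd 18580, .bwd 31842],
   .loop none [.bwd 17005, .fwd 31845, .fwd 11328],
   .loop none [.bwd 33106],
   .loop none [.fwd 15406, .bwd 31847],
   .loop none [.bwd 25451, .fwd 31847, .fwd 16993],
   .loop none [.bwd 33109],
   .loop none [.fwd 23323, .fwd 31847, .bwd 18131],
   .loop none [.bwd 33111],
   .loop none [.bwd 18401, .bwd 31849],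
   .loop none [.bwd 7310, .bwd 31851],
   .loop none [.fwd 7806, .fwd 31851, .fwd 10373],
   .loop none [.fwd 33115],
   .loop none [.bwd 17030, .fwd 31851, .bwd 12450],
   .loop none [.bwd 33117],
   .loop none [.fwd 11432, .bwd 31851],
   .loop none [.fwd 9525, .fwd 31851, .bwd 25072],
   .loop none [.fwd 33120],
   .loop none [.bwd 17252, .fwd 31851, .fwd 25575],
   .loop none [.fwd 33122],
   .loop none [.fwd 9996, .fwd 31853, .bwd 10090],
   .loop none [.fwd 33124],
   .loop none [.fwd 11841, .bwd 31853],
   .loop none [.fwd 8971, .fwd 31855, .bwd 13147],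
   .loop none [.fwd 33127],
   .loop none [.fwd 19427, .bwd 32455, .bwd 23201, .bwd 33125],
   .loop none [.bwd 33129],
   .loop none [.bwd 12242, .fwd 31859, .fwd 20063],
   .loop none [.fwd 33131],
   .loop none [.fwd 9996, .fwd 31862, .bwd 16968],
   .loop none [.fwd 33133],
   .loop none [.fwd 10716, .fwd 31864, .bwd 17225],
   .loop none [.fwd 33135],
   .loop none [.fwd 24814, .bwd 31866],
   .loop none [.bwd 14026, .fwd 31868, .fwd 24360],
   .loop none [.fwd 33138],
   .loop none [.fwd 13260, .bwd 31868],
   .loop none [.bwd 13565, .bwd 31871],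
   .loop none [.bwd 18338, .fwd 31871, .fwd 15759],
   .loop none [.fwd 33142],
   .loop none [.bwd 15682, .fwd 31873, .fwd 17263],
   .loop none [.fwd 33144],
   .loop none [.bwd 19219, .bwd 31873],
   .loop none [.fwd 21863, .bwd 32019, .bwd 27257],
   .loop none [.bwd 33147],
   .loop none [.fwd 19433, .bwd 31877],
   .loop none [.bwd 15929, .fwd 31880, .fwd 21956],
   .loop none [.fwd 33150],
   .loop none [.fwd 9948, .bwd 31882],
   .loop none [.fwd 16203, .bwd 31884],
   .loop none [.fwd 24288, .bwd 31884],
   .loop none [.fwd 4475, .fwd 31887, .fwd 24322],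
   .loop none [.fwd 33155],
   .loop none [.fwd 21560, .fwd 33055],
   .loop none [.fwd 33095, .fwd 32557],
   .loop none [.fwd 32750, .fwd 17265, .fwd 31895, .bwd 18393],
   .loop none [.bwd 33159],
   .loop none [.bwd 18182, .fwd 31897, .fwd 22140],
   .loop none [.fwd 33161],
   .loop none [.bwd 23647, .bwd 31897],
   .loop none [.fwd 8215, .bwd 31900],
   .loop none [.fwd 7783, .bwd 31900],
   .loop none [.bwd 5959, .bwd 31900],
   .loop none [.fwd 7809, .bwd 31900],
   .loop none [.fwd 12149, .fwd 31902, .fwd 16345],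
   .loop none [.fwd 33168],
   .loop none [.fwd 13650, .bwd 31902],
   .loop none [.fwd 25431, .fwd 31902, .bwd 16972],
   .loop none [.bwd 33171],
   .loop none [.bwd 25492, .fwd 31902, .fwd 17063],
   .loop none [.bwd 33173],
   .loop none [.bwd 13768, .bwd 31902],
   .loop none [.fwd 25074, .fwd 31902, .bwd 18146],
   .loop none [.bwd 33176],
   .loop none [.bwd 856, .bwd 31904],
   .loop none [.bwd 847, .bwd 31904],
   .loop none [.fwd 785, .bwd 31904],
   .loop none [.bwd 786, .bwd 31904],
   .loop none [.fwd 839, .bwd 31904],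
   .loop none [.bwd 7768, .bwd 31904],
   .loop none [.bwd 7786, .bwd 31904],
   .loop none [.fwd 17558, .bwd 31904],
   .loop none [.bwd 11007, .bwd 31904],
   .loop none [.bwd 23643, .bwd 31906],
   .loop none [.fwd 8254, .bwd 31909],
   .loop none [.bwd 7799, .bwd 31909],
   .loop none [.bwd 5957, .bwd 31909],
   .loop none [.fwd 11772, .bwd 31909],
   .loop none [.fwd 19631, .bwd 31911],
   .loop none [.fwd 10103, .bwd 31913],
   .loop none [.fwd 25316, .bwd 31913],
   .loop none [.bwd 25608, .fwd 31917, .fwd 17483],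
   .loop none [.bwd 33195],
   .loop none [.bwd 9863, .fwd 31917, .fwd 20021],
   .loop none [.fwd 33197],
   .loop none [.fwd 25697, .fwd 31917, .bwd 20028],
   .loop none [.bwd 33199],
   .loop none [.bwd 12381, .fwd 31923, .fwd 19982],
   .loop none [.fwd 33201],
   .loop none [.fwd 27649, .fwd 31923, .bwd 24592],
   .loop none [.bwd 33203],
   .loop none [.fwd 32806, .fwd 32796],
   .loop none [.bwd 32810, .fwd 31927, .bwd 16051],
   .loop none [.bwd 33206],
   .loop none [.fwd 32812, .fwd 32800],
   .loop none [.bwd 22361, .bwd 32501, .fwd 16911],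
   .loop none [.bwd 33209],
   .loop none [.fwd 9743, .fwd 31935, .fwd 16021],
   .loop none [.fwd 33211],
   .loop none [.fwd 19360, .bwd 31935],
   .loop none [.bwd 19359, .bwd 31935],
   .loop none [.fwd 15942, .bwd 31938],
   .loop none [.bwd 11962, .fwd 31941, .bwd 16390],
   .loop none [.fwd 33216],
   .loop none [.fwd 15854, .bwd 31941],
   .loop none [.fwd 17542, .fwd 31943, .bwd 18400],
   .loop none [.fwd 33219],
   .loop none [.fwd 32825, .bwd 17146, .fwd 31943, .bwd 18150],
   .loop none [.bwd 33221],
   .loop none [.bwd 8022, .fwd 31945, .fwd 18790],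
   .loop none [.fwd 33223],
   .loop none [.bwd 15051, .bwd 31947],
   .loop none [.fwd 10277, .bwd 31955],
   .loop none [.fwd 1812, .bwd 31955],
   .loop none [.fwd 16996, .fwd 31955, .bwd 25454],
   .loop none [.fwd 33228],
   .loop none [.bwd 917, .fwd 31955, .fwd 1813],
   .loop none [.fwd 33230],
   .loop none [.bwd 11101, .bwd 31955],
   .loop none [.fwd 24548, .bwd 31959],
   .loop none [.fwd 19977, .bwd 31959],
   .loop none [.fwd 31538, .bwd 31961],
   .loop none [.bwd 9862, .bwd 31961],
   .loop none [.bwd 14046, .bwd 31961],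
   .loop none [.fwd 13378, .fwd 31966, .bwd 16008],
   .loop none [.fwd 33238],
   .loop none [.bwd 16062, .fwd 31966, .fwd 13945],
   .loop none [.bwd 33240],
   .loop none [.fwd 19595, .fwd 31966, .bwd 23578],
   .loop none [.bwd 33242],
   .loop none [.fwd 33212, .bwd 18272, .fwd 31966, .fwd 18765],
   .loop none [.fwd 33244],
   .loop none [.fwd 19192, .fwd 31968, .fwd 19291],
   .loop none [.fwd 33246],
   .loop none [.bwd 13339, .fwd 31970, .fwd 15974],
   .loop none [.fwd 33248]]

theorem just132_len : just132.length = 250 := by decide +kernel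

theorem just132_ok : cert.okFacts 33000 just132 = true := by decide +kernel

/-- justifications -/
noncomputable def just133 : List Cert.Just :=
  [.loop none [.bwd 16108, .fwd 31970, .fwd 22028],
   .loop none [.fwd 33250],
   .loop none [.fwd 23579, .bwd 31972],
   .loop none [.fwd 21988, .bwd 31972],
   .loop none [.fwd 16047, .bwd 31974],
   .loop none [.fwd 13378, .fwd 31976, .fwd 26011],
   .loop none [.fwd 33255],
   .loop none [.bwd 13803, .bwd 31978],
   .loop none [.fwd 23321, .bwd 31978],
   .loop none [.fwd 12388, .fwd 31980, .fwd 17191],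
   .loop none [.fwd 33259],
   .loop none [.fwd 12399, .fwd 31980, .bwd 21327],
   .loop none [.fwd 33261],
   .loop none [.bwd 19687, .bwd 31980],
   .loop none [.fwd 19697, .bwd 31982],
   .loop none [.fwd 32839, .fwd 25491, .fwd 31982, .bwd 17062],
   .loop none [.fwd 33265],
   .loop none [.fwd 16388, .bwd 31982],
   .loop none [.bwd 18589, .fwd 31982, .fwd 19502],
   .loop none [.bwd 33268],
   .loop none [.fwd 8871, .bwd 31995],
   .loop none [.fwd 4475, .fwd 31995, .bwd 5075],
   .loop none [.fwd 33271],
   .loop none [.fwd 17461, .fwd 31995, .bwd 25598],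
   .loop none [.fwd 33273],
   .loop none [.fwd 17998, .fwd 31995, .bwd 27304],
   .loop none [.fwd 33275],
   .loop none [.fwd 25425, .bwd 31995],
   .loop none [.bwd 27527, .bwd 31997],
   .loop none [.bwd 8870, .bwd 32000],
   .loop none [.fwd 8412, .bwd 32000],
   .loop none [.bwd 32468, .fwd 32184],
   .loop none [.fwd 13586, .bwd 32013],
   .loop none [.bwd 19290, .fwd 32013, .bwd 15887],
   .loop none [.bwd 33283],
   .loop none [.fwd 11702, .fwd 32013, .bwd 25117],
   .loop none [.fwd 33285],
   .loop none [.fwd 10992, .bwd 32016],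
   .loop none [.fwd 10008, .bwd 32016],
   .loop none [.fwd 33220, .fwd 33210],
   .loop none [.bwd 10009, .bwd 32016],
   .loop none [.fwd 13744, .bwd 32016],
   .loop none [.bwd 18359, .bwd 32016],
   .loop none [.fwd 8420, .bwd 32510, .fwd 12899],
   .loop none [.fwd 33293],
   .loop none [.bwd 7973, .bwd 32030],
   .loop none [.fwd 32027, .bwd 32033],
   .loop none [.bwd 9727, .bwd 32036],
   .loop none [.fwd 32975, .fwd 32040],
   .loop none [.fwd 4570, .bwd 33298, .fwd 25949],
   .loop none [.fwd 33299],
   .loop none [.bwd 18122, .bwd 32042],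
   .loop none [.bwd 27285, .fwd 32042, .fwd 5647],
   .loop none [.bwd 33302],
   .loop none [.bwd 4840, .fwd 32042, .bwd 5646],
   .loop none [.fwd 33304],
   .loop none [.fwd 22870, .bwd 32042],
   .loop none [.bwd 19612, .fwd 32042, .fwd 9432],
   .loop none [.bwd 33307],
   .loop none [.fwd 18070, .fwd 32042, .bwd 9458],
   .loop none [.bwd 33309],
   .loop none [.fwd 22865, .bwd 32042],
   .loop none [.bwd 9524, .bwd 32042],
   .loop none [.bwd 22806, .bwd 32045],
   .loop none [.fwd 18009, .fwd 32050, .bwd 17980],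
   .loop none [.bwd 33314],
   .loop none [.bwd 16745, .bwd 32050],
   .loop none [.fwd 25047, .fwd 32050, .bwd 23038],
   .loop none [.bwd 33317],
   .loop none [.bwd 27556, .fwd 32050, .fwd 24485],
   .loop none [.bwd 33319],
   .loop none [.bwd 10268, .bwd 32607, .fwd 20438],
   .loop none [.fwd 33321],
   .loop none [.bwd 8270, .fwd 32055, .bwd 25024, .bwd 33322],
   .loop none [.fwd 33323],
   .loop none [.fwd 4590, .fwd 32057, .bwd 5159],
   .loop none [.fwd 33325],
   .loop none [.fwd 32025, .bwd 32059],
   .loop none [.bwd 6666, .bwd 32061],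
   .loop none [.bwd 17405, .bwd 32065],
   .loop none [.bwd 17406, .bwd 32065],
   .loop none [.bwd 15844, .bwd 32065],
   .loop none [.fwd 5700, .fwd 32065, .fwd 17411],
   .loop none [.fwd 33332],
   .loop none [.bwd 17408, .bwd 32065],
   .loop none [.fwd 17412, .bwd 32065],
   .loop none [.bwd 19248, .bwd 32065],
   .loop none [.bwd 6736, .bwd 32068],
   .loop none [.fwd 33305, .bwd 5645, .fwd 32068, .bwd 11362],
   .loop none [.fwd 33338],
   .loop none [.fwd 20868, .fwd 32068, .bwd 9730],
   .loop none [.bwd 33340],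
   .loop none [.bwd 7990, .bwd 32073],
   .loop none [.fwd 33151, .fwd 23015, .bwd 32167, .bwd 24536],
   .loop none [.fwd 33343],
   .loop none [.fwd 5499, .bwd 32167, .bwd 20447],
   .loop none [.fwd 33345],
   .loop none [.bwd 11040, .fwd 32080, .fwd 25026, .bwd 33346],
   .loop none [.bwd 33347],
   .loop none [.bwd 9326, .fwd 32084, .fwd 17973],
   .loop none [.fwd 33349],
   .loop none [.bwd 19218, .bwd 32086],
   .loop none [.bwd 10660, .bwd 32088],
   .loop none [.bwd 11032, .bwd 32088],
   .loop none [.bwd 11037, .bwd 32088],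
   .loop none [.bwd 12080, .bwd 32088],
   .loop none [.fwd 5543, .fwd 32092, .fwd 23927],
   .loop none [.fwd 33356],
   .loop none [.bwd 23928, .bwd 32092],
   .loop none [.bwd 6844, .bwd 32094],
   .loop none [.fwd 20974, .fwd 32094, .bwd 9902],
   .loop none [.bwd 33360],
   .loop none [.bwd 8869, .bwd 32094],
   .loop none [.fwd 32757, .fwd 32096, .bwd 25863],
   .loop none [.fwd 33363],
   .loop none [.fwd 5877, .fwd 32098, .bwd 26932],
   .loop none [.fwd 33365],
   .loop none [.fwd 10593, .fwd 32101, .fwd 20569],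
   .loop none [.fwd 33367],
   .loop none [.bwd 24863, .bwd 32101],
   .loop none [.fwd 11515, .bwd 32236, .bwd 22064],
   .loop none [.fwd 33370],
   .loop none [.bwd 13942, .bwd 32499, .bwd 20087],
   .loop none [.fwd 33372],
   .loop none [.bwd 15804, .fwd 32115, .fwd 12808],
   .loop none [.bwd 33374],
   .loop none [.bwd 15098, .bwd 32115],
   .loop none [.fwd 13642, .bwd 32117],
   .loop none [.bwd 23949, .bwd 32117],
   .loop none [.fwd 23745, .bwd 32120],
   .loop none [.bwd 32498, .fwd 32120, .bwd 24771],
   .loop none [.fwd 33380],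
   .loop none [.bwd 22587, .fwd 32333],
   .loop none [.fwd 22780, .fwd 32333],
   .loop none [.bwd 33188, .fwd 32124, .bwd 13031],
   .loop none [.fwd 33384],
   .loop none [.bwd 11345, .fwd 32124, .bwd 18714],
   .loop none [.fwd 33386],
   .loop none [.fwd 27593, .bwd 32126],
   .loop none [.fwd 12376, .bwd 32129],
   .loop none [.fwd 32562, .fwd 21501, .fwd 32129, .bwd 25725],
   .loop none [.fwd 33390],
   .loop none [.fwd 12349, .bwd 32132],
   .loop none [.fwd 14067, .bwd 32132],
   .loop none [.bwd 12384, .bwd 32132],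
   .loop none [.bwd 13184, .fwd 32132, .bwd 12433],
   .loop none [.bwd 33395],
   .loop none [.fwd 14730, .bwd 32132],
   .loop none [.bwd 13241, .bwd 32134],
   .loop none [.bwd 12886, .bwd 32134],
   .loop none [.fwd 12885, .bwd 32134],
   .loop none [.bwd 33157, .fwd 32134, .bwd 13100],
   .loop none [.bwd 33401],
   .loop none [.bwd 15200, .bwd 32134],
   .loop none [.bwd 22118, .bwd 32138],
   .loop none [.bwd 15682, .fwd 32138, .fwd 25578],
   .loop none [.fwd 33405],
   .loop none [.bwd 33146, .fwd 32138, .fwd 23404],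
   .loop none [.fwd 33407],
   .loop none [.bwd 33149, .fwd 32140, .bwd 23933],
   .loop none [.fwd 33409],
   .loop none [.bwd 8403, .bwd 32143],
   .loop none [.fwd 19432, .bwd 32145],
   .loop none [.fwd 19095, .fwd 32723],
   .loop none [.fwd 23442, .bwd 32159],
   .loop none [.fwd 27528, .fwd 32162, .bwd 24802],
   .loop none [.bwd 33415],
   .loop none [.bwd 7163, .bwd 32166],
   .loop none [.fwd 21096, .fwd 32166, .bwd 10375],
   .loop none [.bwd 33418],
   .loop none [.bwd 11296, .bwd 32166],
   .loop none [.fwd 10397, .bwd 32166],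
   .loop none [.bwd 9407, .bwd 32169],
   .loop none [.bwd 11323, .bwd 32172],
   .loop none [.bwd 6708, .bwd 32172],
   .loop none [.fwd 11340, .bwd 32172],
   .loop none [.fwd 9295, .fwd 32174, .bwd 22981],
   .loop none [.fwd 33426],
   .loop none [.fwd 22621, .bwd 32174],
   .loop none [.fwd 23319, .bwd 32174],
   .loop none [.bwd 25046, .bwd 32174],
   .loop none [.bwd 5681, .fwd 32176, .bwd 23115],
   .loop none [.fwd 33431],
   .loop none [.fwd 22919, .bwd 32176],
   .loop none [.fwd 27260, .bwd 32176],
   .loop none [.bwd 25073, .bwd 32176],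
   .loop none [.bwd 21772, .fwd 32378],
   .loop none [.fwd 10260, .bwd 33281, .bwd 21834],
   .loop none [.fwd 33437],
   .loop none [.bwd 17554, .fwd 32482],
   .loop none [.fwd 11515, .bwd 32482, .fwd 23893],
   .loop none [.fwd 33440],
   .loop none [.bwd 17555, .fwd 32482],
   .loop none [.fwd 27578, .fwd 32418],
   .loop none [.fwd 9166, .fwd 32194, .fwd 17418],
   .loop none [.fwd 33444],
   .loop none [.fwd 25659, .fwd 32194, .bwd 19795],
   .loop none [.bwd 33446],
   .loop none [.bwd 23306, .fwd 32194, .fwd 24689],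
   .loop none [.fwd 33448],
   .loop none [.fwd 20124, .fwd 32198, .bwd 25753],
   .loop none [.fwd 33450],
   .loop none [.bwd 25754, .bwd 32198],
   .loop none [.fwd 11920, .fwd 32201, .bwd 24008],
   .loop none [.fwd 33453],
   .loop none [.fwd 23305, .bwd 32201],
   .loop none [.fwd 5499, .fwd 32203, .bwd 12712],
   .loop none [.fwd 33456],
   .loop none [.fwd 11622, .bwd 32209],
   .loop none [.bwd 32653, .fwd 32209, .fwd 11621],
   .loop none [.bwd 33459],
   .loop none [.fwd 11760, .bwd 32209],
   .loop none [.fwd 11190, .fwd 32211, .fwd 18102],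
   .loop none [.fwd 33462],
   .loop none [.bwd 10479, .fwd 32214, .fwd 17646],
   .loop none [.fwd 33464],
   .loop none [.fwd 11957, .fwd 32216, .bwd 23990],
   .loop none [.fwd 33466],
   .loop none [.bwd 10481, .fwd 32216, .fwd 15376],
   .loop none [.fwd 33468],
   .loop none [.fwd 23315, .bwd 32216],
   .loop none [.bwd 27526, .bwd 32218],
   .loop none [.bwd 24468, .fwd 32218, .bwd 27261],
   .loop none [.bwd 33472],
   .loop none [.fwd 25670, .bwd 32218],
   .loop none [.fwd 27263, .bwd 32218],
   .loop none [.fwd 27188, .bwd 32218],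
   .loop none [.bwd 8927, .fwd 32220, .fwd 21509],
   .loop none [.fwd 33477],
   .loop none [.fwd 10075, .bwd 32435, .bwd 16959],
   .loop none [.fwd 33479],
   .loop none [.fwd 18310, .fwd 32230, .bwd 18841, .bwd 33480],
   .loop none [.bwd 33481],
   .loop none [.bwd 18470, .bwd 32230],
   .loop none [.bwd 15394, .bwd 32235],
   .loop none [.bwd 15935, .bwd 32235],
   .loop none [.bwd 15713, .bwd 32235],
   .loop none [.fwd 15973, .bwd 32235],
   .loop none [.bwd 19006, .bwd 32235],
   .loop none [.bwd 25204, .bwd 32241],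
   .loop none [.bwd 11900, .fwd 32243, .bwd 24015],
   .loop none [.fwd 33490],
   .loop none [.bwd 17548, .bwd 32248],
   .loop none [.bwd 23894, .bwd 32248],
   .loop none [.fwd 18399, .bwd 32250],
   .loop none [.bwd 33493, .fwd 32252, .bwd 11539],
   .loop none [.bwd 33495],
   .loop none [.bwd 11593, .bwd 32252],
   .loop none [.fwd 9254, .fwd 32254, .fwd 17389],
   .loop none [.fwd 33498]]

theorem just133_len : just133.length = 250 := by decide +kernel

theorem just133_ok : cert.okFacts 33250 just133 = true := by decide +kernel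

/-- justifications -/
noncomputable def just134 : List Cert.Just :=
  [.loop none [.bwd 23294, .fwd 32254, .fwd 24688],
   .loop none [.fwd 33500],
   .loop none [.fwd 11872, .fwd 32259, .bwd 23797],
   .loop none [.fwd 33502],
   .loop none [.fwd 23293, .bwd 32259],
   .loop none [.bwd 8179, .bwd 32262],
   .loop none [.bwd 21719, .fwd 32270, .fwd 15490],
   .loop none [.bwd 33506],
   .loop none [.bwd 9251, .fwd 32272, .fwd 21421],
   .loop none [.fwd 33508],
   .loop none [.fwd 12351, .fwd 32276, .bwd 21300],
   .loop none [.fwd 33510],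
   .loop none [.bwd 9316, .bwd 32276],
   .loop none [.fwd 24547, .bwd 32278],
   .loop none [.fwd 8420, .fwd 32280, .bwd 8961],
   .loop none [.bwd 33514],
   .loop none [.fwd 7975, .bwd 32280],
   .loop none [.bwd 14689, .bwd 32290],
   .loop none [.bwd 8927, .fwd 32294, .bwd 9204],
   .loop none [.bwd 33518],
   .loop none [.bwd 21740, .bwd 32298],
   .loop none [.bwd 23518, .bwd 32300],
   .loop none [.fwd 10427, .fwd 32302, .bwd 15344],
   .loop none [.fwd 33522],
   .loop none [.fwd 32154, .bwd 32304],
   .loop none [.fwd 20284, .bwd 32308],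
   .loop none [.fwd 24107, .bwd 32312],
   .loop none [.fwd 15134, .fwd 32315, .bwd 24387],
   .loop none [.fwd 33527],
   .loop none [.fwd 24895, .bwd 32315],
   .loop none [.fwd 6657, .fwd 32318, .fwd 13129],
   .loop none [.fwd 33530],
   .loop none [.fwd 32657, .fwd 32320],
   .loop none [.fwd 11454, .bwd 33532, .bwd 21411],
   .loop none [.fwd 33533],
   .loop none [.bwd 11572, .bwd 33532, .fwd 25094],
   .loop none [.fwd 33535],
   .loop none [.bwd 25183, .fwd 33532],
   .loop none [.fwd 15173, .fwd 32324, .bwd 24429],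
   .loop none [.fwd 33538],
   .loop none [.fwd 14441, .fwd 32326, .fwd 19461],
   .loop none [.fwd 33540],
   .loop none [.fwd 9704, .fwd 32326, .bwd 17338],
   .loop none [.fwd 33542],
   .loop none [.fwd 32657, .fwd 32347],
   .loop none [.fwd 32715, .fwd 32328],
   .loop none [.fwd 6792, .bwd 33545, .bwd 27523],
   .loop none [.fwd 33546],
   .loop none [.fwd 25758, .fwd 33545],
   .loop none [.fwd 33107, .bwd 17005, .fwd 32330, .bwd 25876],
   .loop none [.fwd 33549],
   .loop none [.bwd 5863, .fwd 32332, .bwd 10478],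
   .loop none [.fwd 33551],
   .loop none [.bwd 23194, .fwd 32332, .bwd 10477],
   .loop none [.bwd 33553],
   .loop none [.fwd 10156, .bwd 32332],
   .loop none [.fwd 10737, .bwd 32332],
   .loop none [.bwd 10399, .bwd 32332],
   .loop none [.fwd 10441, .fwd 32339, .fwd 25507],
   .loop none [.fwd 33558],
   .loop none [.fwd 32697, .fwd 23296, .fwd 32341, .bwd 20864],
   .loop none [.fwd 33560],
   .loop none [.fwd 9670, .fwd 32341, .bwd 24529],
   .loop none [.fwd 33562],
   .loop none [.bwd 25096, .bwd 32341],
   .loop none [.fwd 11454, .bwd 33544, .fwd 22888],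
   .loop none [.bwd 33565],
   .loop none [.fwd 24098, .fwd 32716],
   .loop none [.fwd 24766, .fwd 32716],
   .loop none [.fwd 31440, .fwd 32716],
   .loop none [.fwd 31444, .fwd 32716],
   .loop none [.fwd 10260, .bwd 32468, .bwd 19846],
   .loop none [.fwd 33571],
   .loop none [.fwd 20375, .fwd 32468],
   .loop none [.bwd 9946, .fwd 32360, .bwd 21731],
   .loop none [.fwd 33574],
   .loop none [.fwd 9945, .fwd 32360, .bwd 24270],
   .loop none [.fwd 33576],
   .loop none [.fwd 32365, .fwd 32362],
   .loop none [.bwd 13942, .bwd 33578, .fwd 24269],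
   .loop none [.fwd 33579],
   .loop none [.bwd 13942, .fwd 32365, .fwd 15900],
   .loop none [.fwd 33581],
   .loop none [.fwd 15899, .bwd 32365],
   .loop none [.fwd 22085, .fwd 32365, .bwd 16232],
   .loop none [.bwd 33584],
   .loop none [.fwd 18239, .bwd 32365],
   .loop none [.fwd 23642, .fwd 32367, .bwd 12533],
   .loop none [.bwd 33587],
   .loop none [.fwd 15635, .bwd 32375],
   .loop none [.fwd 25844, .bwd 32380],
   .loop none [.fwd 27483, .bwd 32380],
   .loop none [.fwd 10260, .fwd 32383, .bwd 15671],
   .loop none [.fwd 33592],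
   .loop none [.fwd 10593, .fwd 32385, .bwd 25751],
   .loop none [.fwd 33594],
   .loop none [.bwd 12348, .bwd 32385],
   .loop none [.bwd 14732, .bwd 32385],
   .loop none [.fwd 15897, .fwd 32390, .bwd 17810],
   .loop none [.fwd 33598],
   .loop none [.fwd 15607, .fwd 32390, .bwd 21781],
   .loop none [.fwd 33600],
   .loop none [.bwd 11650, .bwd 32390],
   .loop none [.fwd 19391, .fwd 32390, .bwd 25348],
   .loop none [.fwd 33603],
   .loop none [.fwd 21959, .fwd 32394, .bwd 15936],
   .loop none [.bwd 33605],
   .loop none [.fwd 15402, .bwd 32394],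
   .loop none [.bwd 18414, .fwd 32394, .bwd 15756],
   .loop none [.bwd 33608],
   .loop none [.bwd 16597, .fwd 32394, .fwd 15931],
   .loop none [.bwd 33610],
   .loop none [.bwd 23455, .bwd 32397],
   .loop none [.fwd 21561, .bwd 32399],
   .loop none [.fwd 33460, .bwd 32653, .fwd 32402, .bwd 20003],
   .loop none [.fwd 33614],
   .loop none [.bwd 27607, .bwd 32581, .bwd 24846, .bwd 33615],
   .loop none [.bwd 33616],
   .loop none [.bwd 10302, .fwd 32406, .bwd 20176],
   .loop none [.fwd 33618],
   .loop none [.fwd 33371, .bwd 24539, .bwd 32406],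
   .loop none [.fwd 33130, .bwd 24281, .bwd 32406],
   .loop none [.bwd 15180, .bwd 32413],
   .loop none [.fwd 11515, .fwd 32417, .bwd 15501],
   .loop none [.fwd 33623],
   .loop none [.bwd 32458, .fwd 21322, .fwd 32420, .fwd 13757],
   .loop none [.bwd 33625],
   .loop none [.bwd 23670, .bwd 32420],
   .loop none [.fwd 18153, .bwd 32422],
   .loop none [.bwd 18194, .bwd 32422],
   .loop none [.fwd 15975, .bwd 32422],
   .loop none [.bwd 16763, .bwd 32422],
   .loop none [.bwd 19322, .bwd 32422],
   .loop none [.bwd 15760, .fwd 32424, .fwd 13924],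
   .loop none [.bwd 33633],
   .loop none [.fwd 13949, .bwd 32424],
   .loop none [.bwd 27587, .fwd 32424, .fwd 23739],
   .loop none [.bwd 33636],
   .loop none [.fwd 11852, .bwd 32426],
   .loop none [.fwd 13583, .bwd 32428],
   .loop none [.bwd 11666, .fwd 32430, .bwd 23945],
   .loop none [.fwd 33640],
   .loop none [.bwd 11858, .fwd 32432, .bwd 23798],
   .loop none [.fwd 33642],
   .loop none [.bwd 10137, .fwd 32432, .fwd 19888],
   .loop none [.fwd 33644],
   .loop none [.fwd 17275, .fwd 32447],
   .loop none [.fwd 9543, .bwd 32447, .bwd 18395],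
   .loop none [.fwd 33647],
   .loop none [.bwd 15195, .bwd 32439],
   .loop none [.bwd 5907, .fwd 32441, .bwd 16626],
   .loop none [.fwd 33650],
   .loop none [.bwd 25251, .bwd 32443],
   .loop none [.bwd 11848, .bwd 32445],
   .loop none [.fwd 11759, .bwd 32445],
   .loop none [.fwd 18479, .bwd 32449],
   .loop none [.fwd 33648, .fwd 33482],
   .loop none [.fwd 8986, .fwd 32449, .bwd 22911],
   .loop none [.fwd 33657],
   .loop none [.fwd 33626, .bwd 32458],
   .loop none [.bwd 19162, .bwd 33659, .bwd 21321],
   .loop none [.fwd 33660],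
   .loop none [.fwd 33626, .fwd 32457],
   .loop none [.bwd 19162, .bwd 33662, .fwd 23551],
   .loop none [.fwd 33663],
   .loop none [.fwd 32553, .fwd 32540],
   .loop none [.bwd 11889, .bwd 33662, .fwd 19009],
   .loop none [.fwd 33666],
   .loop none [.fwd 11850, .bwd 33662, .bwd 18731],
   .loop none [.fwd 33668],
   .loop none [.fwd 11680, .fwd 32460, .bwd 23939],
   .loop none [.fwd 33670],
   .loop none [.fwd 18238, .bwd 32460],
   .loop none [.fwd 32231, .bwd 32460],
   .loop none [.fwd 10257, .fwd 32462, .bwd 23959],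
   .loop none [.bwd 33674],
   .loop none [.bwd 11996, .fwd 32462, .fwd 24772],
   .loop none [.bwd 33676],
   .loop none [.fwd 23381, .bwd 32465],
   .loop none [.bwd 20061, .bwd 32467],
   .loop none [.fwd 10202, .fwd 32472, .bwd 19967],
   .loop none [.fwd 33680],
   .loop none [.fwd 11977, .fwd 32475, .bwd 23968],
   .loop none [.fwd 33682],
   .loop none [.fwd 23280, .bwd 32475],
   .loop none [.fwd 14392, .bwd 32477],
   .loop none [.bwd 10073, .fwd 32479, .fwd 16166],
   .loop none [.fwd 33686],
   .loop none [.bwd 33194, .fwd 32479, .bwd 19252],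
   .loop none [.bwd 33688],
   .loop none [.fwd 16238, .bwd 32486],
   .loop none [.bwd 3302, .fwd 32488, .fwd 4893],
   .loop none [.fwd 33691],
   .loop none [.bwd 25657, .fwd 32491, .fwd 19793],
   .loop none [.bwd 33693],
   .loop none [.fwd 33689, .fwd 25314, .bwd 32493],
   .loop none [.bwd 16209, .fwd 32493, .fwd 22081],
   .loop none [.fwd 33696],
   .loop none [.bwd 15105, .bwd 32495],
   .loop none [.bwd 24535, .bwd 32503],
   .loop none [.fwd 33095, .fwd 32572],
   .loop none [.fwd 19051, .bwd 32506],
   .loop none [.fwd 10453, .fwd 32508, .bwd 13675],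
   .loop none [.fwd 33702],
   .loop none [.bwd 12048, .fwd 32512, .fwd 18918],
   .loop none [.fwd 33704],
   .loop none [.fwd 31373, .bwd 32514],
   .loop none [.fwd 27568, .fwd 32695],
   .loop none [.bwd 25847, .fwd 32695],
   .loop none [.bwd 12103, .fwd 32523, .fwd 22339],
   .loop none [.fwd 33709],
   .loop none [.bwd 23421, .bwd 32523],
   .loop none [.fwd 33095, .fwd 32526],
   .loop none [.bwd 22300, .fwd 33712],
   .loop none [.bwd 32828, .fwd 32528, .bwd 23851],
   .loop none [.bwd 33714],
   .loop none [.bwd 21779, .bwd 32528],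
   .loop none [.fwd 13222, .bwd 32530],
   .loop none [.fwd 33515, .fwd 32533],
   .loop none [.fwd 24722, .bwd 33718, .fwd 25217],
   .loop none [.bwd 33719],
   .loop none [.fwd 3412, .bwd 33718, .fwd 21478],
   .loop none [.fwd 33721],
   .loop none [.fwd 33445, .bwd 8959, .bwd 33718, .bwd 24140],
   .loop none [.fwd 33723],
   .loop none [.fwd 8960, .bwd 33718, .bwd 25185, .bwd 33509],
   .loop none [.fwd 33725],
   .loop none [.bwd 22394, .bwd 32535],
   .loop none [.fwd 22985, .bwd 32535],
   .loop none [.bwd 16562, .fwd 32801],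
   .loop none [.bwd 23374, .bwd 32801, .bwd 17820],
   .loop none [.bwd 33730],
   .loop none [.bwd 10040, .bwd 32801, .fwd 16514],
   .loop none [.fwd 33732],
   .loop none [.fwd 33731, .fwd 22842, .bwd 33665, .bwd 23575],
   .loop none [.fwd 33734],
   .loop none [.bwd 13976, .fwd 33665],
   .loop none [.fwd 24149, .fwd 33665],
   .loop none [.fwd 16589, .bwd 32543],
   .loop none [.fwd 22296, .fwd 32543, .bwd 16653],
   .loop none [.bwd 33739],
   .loop none [.fwd 33733, .bwd 16601, .fwd 32545, .bwd 13975],
   .loop none [.fwd 33741],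
   .loop none [.fwd 7667, .bwd 32545],
   .loop none [.bwd 16077, .fwd 32545, .fwd 13182],
   .loop none [.bwd 33744],
   .loop none [.fwd 19079, .fwd 32545, .fwd 18661],
   .loop none [.bwd 33746],
   .loop none [.fwd 16107, .fwd 32545, .bwd 13224],
   .loop none [.bwd 33748]]

theorem just134_len : just134.length = 250 := by decide +kernel

theorem just134_ok : cert.okFacts 33500 just134 = true := by decide +kernel

/-- justifications -/
noncomputable def just135 : List Cert.Just :=
  [.loop none [.bwd 16688, .fwd 32545, .fwd 22324],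
   .loop none [.fwd 33750],
   .loop none [.bwd 16630, .fwd 32547, .bwd 15849],
   .loop none [.bwd 33752],
   .loop none [.fwd 13691, .bwd 32547],
   .loop none [.fwd 16717, .fwd 32547, .bwd 15708],
   .loop none [.bwd 33755],
   .loop none [.fwd 12007, .fwd 32547, .bwd 25145],
   .loop none [.fwd 33757],
   .loop none [.fwd 22261, .bwd 32549],
   .loop none [.bwd 25900, .fwd 32549, .fwd 25855],
   .loop none [.bwd 33760],
   .loop none [.bwd 19356, .bwd 32551],
   .loop none [.fwd 15686, .fwd 32551, .bwd 16019],
   .loop none [.fwd 33763],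
   .loop none [.fwd 16629, .bwd 32551],
   .loop none [.fwd 10132, .bwd 32553],
   .loop none [.bwd 14645, .bwd 32553],
   .loop none [.bwd 33713, .bwd 33158, .bwd 21603],
   .loop none [.bwd 33768],
   .loop none [.bwd 14676, .bwd 32559],
   .loop none [.fwd 32555, .bwd 32559],
   .loop none [.bwd 21501, .bwd 32562],
   .loop none [.bwd 18995, .bwd 32566],
   .loop none [.fwd 25842, .bwd 32568],
   .loop none [.fwd 27525, .bwd 32568],
   .loop none [.fwd 27565, .bwd 32568],
   .loop none [.fwd 33769, .bwd 33713, .bwd 33700, .fwd 16664],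
   .loop none [.bwd 33777],
   .loop none [.fwd 23309, .fwd 32574, .fwd 19075],
   .loop none [.fwd 33779],
   .loop none [.fwd 15602, .bwd 32574],
   .loop none [.fwd 11073, .fwd 32574, .bwd 16127],
   .loop none [.fwd 33782],
   .loop none [.fwd 25423, .fwd 32574, .bwd 19599],
   .loop none [.bwd 33784],
   .loop none [.bwd 18241, .bwd 32577],
   .loop none [.fwd 14693, .bwd 32579],
   .loop none [.bwd 33154, .fwd 32586, .fwd 24172],
   .loop none [.fwd 33788],
   .loop none [.fwd 33222, .fwd 32825],
   .loop none [.bwd 33790, .bwd 17146, .fwd 32588, .bwd 15196],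
   .loop none [.fwd 33791],
   .loop none [.bwd 10025, .fwd 32588, .fwd 12322],
   .loop none [.fwd 33793],
   .loop none [.fwd 9926, .bwd 32591],
   .loop none [.bwd 33104, .fwd 25450, .fwd 32594, .bwd 24374],
   .loop none [.bwd 33796],
   .loop none [.fwd 32901, .bwd 11755, .fwd 32594, .fwd 24406],
   .loop none [.fwd 33798],
   .loop none [.fwd 17032, .fwd 32598, .bwd 25471],
   .loop none [.fwd 33800],
   .loop none [.bwd 25472, .bwd 32598],
   .loop none [.bwd 19013, .fwd 32598, .fwd 27646],
   .loop none [.fwd 33803],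
   .loop none [.fwd 27506, .bwd 32600],
   .loop none [.fwd 25428, .bwd 32600],
   .loop none [.bwd 17997, .fwd 32600, .fwd 27302],
   .loop none [.fwd 33807],
   .loop none [.bwd 19635, .fwd 32600, .bwd 27676],
   .loop none [.bwd 33809],
   .loop none [.fwd 18038, .fwd 32602, .bwd 11413],
   .loop none [.bwd 33811],
   .loop none [.bwd 12079, .bwd 32602],
   .loop none [.fwd 7841, .bwd 32605],
   .loop none [.bwd 7815, .bwd 32605],
   .loop none [.fwd 5600, .fwd 32605, .bwd 17432],
   .loop none [.fwd 33816],
   .loop none [.fwd 5960, .bwd 32605],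
   .loop none [.fwd 25162, .fwd 32605, .bwd 14941],
   .loop none [.bwd 33819],
   .loop none [.bwd 27367, .fwd 32605, .fwd 18190],
   .loop none [.bwd 33821],
   .loop none [.fwd 4515, .fwd 32609, .fwd 12554],
   .loop none [.fwd 33823],
   .loop none [.bwd 7358, .bwd 32613],
   .loop none [.fwd 4515, .fwd 32613, .bwd 5105],
   .loop none [.fwd 33826],
   .loop none [.fwd 17154, .fwd 32613, .bwd 25529],
   .loop none [.fwd 33828],
   .loop none [.fwd 9206, .fwd 32613, .bwd 8336],
   .loop none [.fwd 33830],
   .loop none [.bwd 18007, .fwd 32613, .fwd 9404],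
   .loop none [.bwd 33832],
   .loop none [.fwd 7359, .bwd 32615],
   .loop none [.bwd 17130, .fwd 32615, .fwd 12394],
   .loop none [.bwd 33835],
   .loop none [.bwd 17202, .fwd 32615, .bwd 12435],
   .loop none [.bwd 33837],
   .loop none [.fwd 8924, .bwd 32617],
   .loop none [.bwd 17144, .fwd 32617, .fwd 25522],
   .loop none [.fwd 33840],
   .loop none [.bwd 8337, .bwd 32619],
   .loop none [.fwd 11114, .bwd 32619],
   .loop none [.fwd 25150, .fwd 32619, .bwd 12091],
   .loop none [.bwd 33844],
   .loop none [.fwd 23209, .bwd 32623],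
   .loop none [.fwd 23362, .bwd 32623],
   .loop none [.bwd 21837, .bwd 32626],
   .loop none [.fwd 18274, .bwd 32630],
   .loop none [.bwd 11940, .fwd 32632, .bwd 23997],
   .loop none [.fwd 33850],
   .loop none [.fwd 23510, .bwd 32632],
   .loop none [.bwd 23777, .bwd 32634],
   .loop none [.bwd 23291, .bwd 32636],
   .loop none [.bwd 23292, .bwd 32636],
   .loop none [.fwd 19007, .bwd 32638],
   .loop none [.bwd 19629, .bwd 32640],
   .loop none [.bwd 27581, .fwd 32642, .fwd 23748],
   .loop none [.bwd 33858],
   .loop none [.bwd 11968, .fwd 32644, .bwd 23974],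
   .loop none [.fwd 33860],
   .loop none [.fwd 9782, .fwd 32648, .bwd 19909],
   .loop none [.fwd 33862],
   .loop none [.bwd 15323, .bwd 32650],
   .loop none [.bwd 15848, .bwd 32650],
   .loop none [.bwd 15744, .bwd 32650],
   .loop none [.bwd 19627, .bwd 32652],
   .loop none [.fwd 33566, .fwd 11454, .fwd 32657, .bwd 12783],
   .loop none [.fwd 33868],
   .loop none [.bwd 11572, .fwd 32657, .fwd 15128],
   .loop none [.fwd 33870],
   .loop none [.bwd 15472, .bwd 32664],
   .loop none [.fwd 11924, .fwd 32666, .fwd 17284],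
   .loop none [.fwd 33873],
   .loop none [.bwd 10513, .fwd 32666, .fwd 23804, .bwd 33645],
   .loop none [.bwd 33875],
   .loop none [.fwd 9225, .fwd 32668, .fwd 13781],
   .loop none [.fwd 33877],
   .loop none [.bwd 23299, .fwd 32668, .fwd 23895],
   .loop none [.fwd 33879],
   .loop none [.fwd 19229, .fwd 32672, .bwd 24163],
   .loop none [.bwd 33881],
   .loop none [.fwd 23629, .bwd 32675],
   .loop none [.fwd 11924, .fwd 32678, .fwd 25581],
   .loop none [.fwd 33884],
   .loop none [.fwd 32711, .fwd 32680],
   .loop none [.bwd 27406, .bwd 33886, .bwd 25300, .bwd 33871],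
   .loop none [.bwd 33887],
   .loop none [.fwd 33547, .bwd 11571, .bwd 33886, .fwd 25295],
   .loop none [.fwd 33889],
   .loop none [.fwd 14426, .fwd 32683, .fwd 14548],
   .loop none [.bwd 33891],
   .loop none [.bwd 14406, .bwd 32683],
   .loop none [.bwd 9635, .fwd 32683, .fwd 14428],
   .loop none [.fwd 33894],
   .loop none [.fwd 9669, .fwd 32683, .bwd 15170],
   .loop none [.fwd 33896],
   .loop none [.bwd 23660, .bwd 32683],
   .loop none [.fwd 23301, .bwd 32686],
   .loop none [.fwd 21566, .bwd 32686],
   .loop none [.bwd 23296, .bwd 32697],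
   .loop none [.fwd 22194, .bwd 32697],
   .loop none [.fwd 11603, .fwd 32697, .fwd 22195],
   .loop none [.fwd 33903],
   .loop none [.bwd 9633, .fwd 32697, .fwd 23313],
   .loop none [.fwd 33905],
   .loop none [.fwd 9665, .fwd 32697, .bwd 25401],
   .loop none [.fwd 33907],
   .loop none [.fwd 9934, .bwd 32699],
   .loop none [.bwd 6863, .bwd 32701],
   .loop none [.fwd 9671, .bwd 32701],
   .loop none [.fwd 9666, .bwd 32703],
   .loop none [.fwd 33566, .fwd 32709],
   .loop none [.bwd 19399, .bwd 33913, .bwd 27475],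
   .loop none [.bwd 33914],
   .loop none [.fwd 4847, .bwd 33913, .fwd 25776],
   .loop none [.fwd 33916],
   .loop none [.bwd 4848, .bwd 33913, .fwd 27478],
   .loop none [.fwd 33918],
   .loop none [.fwd 33541, .fwd 19463, .bwd 33913, .fwd 27479],
   .loop none [.fwd 33920],
   .loop none [.bwd 9706, .bwd 32711],
   .loop none [.fwd 5918, .fwd 32711, .bwd 14440],
   .loop none [.fwd 33923],
   .loop none [.fwd 11453, .fwd 32713, .bwd 6789, .bwd 33919],
   .loop none [.bwd 33925],
   .loop none [.bwd 9555, .bwd 32713],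
   .loop none [.bwd 14414, .bwd 32713],
   .loop none [.fwd 33547, .fwd 33543],
   .loop none [.fwd 31812, .bwd 32715],
   .loop none [.bwd 11301, .bwd 32720],
   .loop none [.fwd 9732, .bwd 32720],
   .loop none [.bwd 11637, .bwd 32720],
   .loop none [.fwd 15808, .bwd 32726],
   .loop none [.fwd 16713, .bwd 32726],
   .loop none [.bwd 16117, .fwd 32726, .fwd 16336],
   .loop none [.fwd 33936],
   .loop none [.bwd 16153, .bwd 32726],
   .loop none [.fwd 9944, .fwd 32735, .bwd 19758],
   .loop none [.fwd 33939],
   .loop none [.fwd 33726, .bwd 9251, .fwd 32737, .fwd 12813],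
   .loop none [.fwd 33941],
   .loop none [.fwd 33160, .fwd 32750],
   .loop none [.fwd 17301, .fwd 33943],
   .loop none [.bwd 17265, .fwd 33943],
   .loop none [.bwd 18363, .fwd 33943],
   .loop none [.fwd 18111, .fwd 33943],
   .loop none [.bwd 25496, .bwd 32752],
   .loop none [.fwd 19716, .bwd 32754],
   .loop none [.bwd 9280, .fwd 32754, .fwd 22956],
   .loop none [.fwd 33950],
   .loop none [.fwd 4573, .fwd 32754, .bwd 5142],
   .loop none [.fwd 33952],
   .loop none [.bwd 4574, .fwd 32754, .fwd 5143],
   .loop none [.fwd 33954],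
   .loop none [.fwd 22948, .bwd 32754],
   .loop none [.fwd 18362, .bwd 32754],
   .loop none [.bwd 18115, .bwd 32754],
   .loop none [.bwd 27264, .fwd 32756, .fwd 18108],
   .loop none [.bwd 33959],
   .loop none [.fwd 18010, .fwd 32756, .bwd 9409],
   .loop none [.bwd 33961],
   .loop none [.fwd 24487, .fwd 32756, .bwd 19704],
   .loop none [.fwd 33963],
   .loop none [.bwd 14244, .fwd 32756, .fwd 18110],
   .loop none [.fwd 33965],
   .loop none [.bwd 25497, .fwd 32759, .fwd 17090],
   .loop none [.bwd 33967],
   .loop none [.fwd 25623, .fwd 32759, .bwd 17529],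
   .loop none [.bwd 33969],
   .loop none [.fwd 19731, .bwd 32759],
   .loop none [.bwd 17029, .bwd 32761],
   .loop none [.fwd 25499, .fwd 32761, .bwd 17092],
   .loop none [.bwd 33973],
   .loop none [.bwd 19714, .bwd 32764],
   .loop none [.bwd 16791, .fwd 32764, .fwd 24654],
   .loop none [.fwd 33976],
   .loop none [.fwd 19721, .bwd 32764],
   .loop none [.bwd 19715, .bwd 32764],
   .loop none [.fwd 33515, .fwd 33294],
   .loop none [.bwd 25637, .fwd 32768, .fwd 19773],
   .loop none [.bwd 33981],
   .loop none [.bwd 27443, .fwd 32768, .fwd 24755],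
   .loop none [.bwd 33983],
   .loop none [.bwd 27485, .bwd 32770],
   .loop none [.fwd 17212, .bwd 32772],
   .loop none [.bwd 22899, .bwd 32774],
   .loop none [.bwd 20059, .bwd 32776],
   .loop none [.bwd 25663, .bwd 32778],
   .loop none [.bwd 27639, .bwd 32778],
   .loop none [.fwd 27567, .bwd 32778],
   .loop none [.bwd 19738, .bwd 32780],
   .loop none [.fwd 19980, .bwd 32780],
   .loop none [.fwd 33511, .fwd 25153, .bwd 32780],
   .loop none [.bwd 32781, .fwd 32788, .bwd 17534],
   .loop none [.bwd 33995],
   .loop none [.bwd 17535, .bwd 32788],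
   .loop none [.fwd 33262, .fwd 25157, .bwd 32788],
   .loop none [.fwd 12991, .fwd 32804]]

theorem just135_len : just135.length = 250 := by decide +kernel

theorem just135_ok : cert.okFacts 33750 just135 = true := by decide +kernel

/-- justifications -/
noncomputable def just136 : List Cert.Just :=
  [.loop none [.fwd 24333, .fwd 33205],
   .loop none [.bwd 19106, .bwd 33205, .fwd 25427],
   .loop none [.fwd 34001],
   .loop none [.bwd 25224, .fwd 33208],
   .loop none [.bwd 12108, .bwd 33208, .fwd 21538],
   .loop none [.fwd 34004],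
   .loop none [.bwd 25226, .fwd 33208],
   .loop none [.bwd 23179, .bwd 32803],
   .loop none [.bwd 22396, .bwd 32803],
   .loop none [.bwd 19106, .fwd 32806, .fwd 19605],
   .loop none [.fwd 34009],
   .loop none [.bwd 22015, .bwd 32809],
   .loop none [.bwd 16765, .bwd 32809],
   .loop none [.bwd 10057, .fwd 32809, .fwd 16848, .bwd 33599],
   .loop none [.fwd 34013],
   .loop none [.fwd 22033, .bwd 32809],
   .loop none [.bwd 34003, .fwd 32812, .fwd 18700],
   .loop none [.bwd 34016],
   .loop none [.bwd 16025, .bwd 32815],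
   .loop none [.bwd 34011, .fwd 32815, .fwd 16056],
   .loop none [.bwd 34019],
   .loop none [.bwd 34012, .fwd 32815, .fwd 16063],
   .loop none [.bwd 34021],
   .loop none [.bwd 34015, .fwd 32815, .bwd 16113],
   .loop none [.bwd 34023],
   .loop none [.fwd 19376, .bwd 32815],
   .loop none [.bwd 19020, .bwd 32815],
   .loop none [.fwd 12368, .fwd 32818, .bwd 21317],
   .loop none [.fwd 34027],
   .loop none [.bwd 14464, .fwd 32820, .fwd 25097, .bwd 33661],
   .loop none [.fwd 34029],
   .loop none [.bwd 5910, .bwd 33790, .fwd 17147],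
   .loop none [.fwd 34031],
   .loop none [.fwd 17146, .fwd 33790],
   .loop none [.bwd 18374, .fwd 33790],
   .loop none [.bwd 25491, .bwd 32839],
   .loop none [.bwd 24369, .fwd 32839, .bwd 25577],
   .loop none [.fwd 34036],
   .loop none [.fwd 6858, .fwd 32839, .bwd 27619],
   .loop none [.fwd 34038],
   .loop none [.fwd 33797, .bwd 33104],
   .loop none [.fwd 22227, .bwd 32841],
   .loop none [.bwd 25409, .bwd 32841],
   .loop none [.fwd 33962, .fwd 18011, .fwd 32850, .bwd 21108],
   .loop none [.fwd 34043],
   .loop none [.bwd 24582, .bwd 32850],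
   .loop none [.fwd 4850, .fwd 32852, .fwd 13362],
   .loop none [.fwd 34046],
   .loop none [.bwd 11392, .bwd 32855],
   .loop none [.fwd 4850, .fwd 32855, .bwd 5409],
   .loop none [.fwd 34049],
   .loop none [.bwd 13971, .bwd 32855],
   .loop none [.bwd 22889, .fwd 32855, .fwd 18118],
   .loop none [.fwd 34052],
   .loop none [.bwd 19606, .bwd 32857],
   .loop none [.fwd 12579, .fwd 32857, .bwd 16813],
   .loop none [.fwd 34055],
   .loop none [.bwd 16814, .bwd 32857],
   .loop none [.fwd 9249, .bwd 32859],
   .loop none [.fwd 25142, .fwd 32859, .bwd 23438],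
   .loop none [.bwd 34059],
   .loop none [.bwd 11402, .fwd 32861, .fwd 18018],
   .loop none [.bwd 34061],
   .loop none [.bwd 5585, .fwd 32861, .fwd 17437],
   .loop none [.fwd 34063],
   .loop none [.bwd 18014, .bwd 32861],
   .loop none [.bwd 16433, .fwd 33086],
   .loop none [.bwd 16699, .fwd 33086],
   .loop none [.fwd 16705, .fwd 33086],
   .loop none [.fwd 16747, .fwd 33086],
   .loop none [.fwd 19387, .fwd 33086],
   .loop none [.bwd 19544, .fwd 33086],
   .loop none [.bwd 22330, .fwd 32868, .fwd 16704],
   .loop none [.bwd 34072],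
   .loop none [.bwd 16116, .bwd 32868],
   .loop none [.fwd 22258, .fwd 32868, .bwd 16592],
   .loop none [.bwd 34075],
   .loop none [.fwd 15763, .bwd 32870],
   .loop none [.fwd 16304, .bwd 32870],
   .loop none [.bwd 25006, .bwd 32872],
   .loop none [.fwd 16299, .bwd 32876],
   .loop none [.fwd 25600, .fwd 32876, .bwd 17467],
   .loop none [.bwd 34081],
   .loop none [.fwd 17468, .bwd 32876],
   .loop none [.bwd 25669, .bwd 32879],
   .loop none [.bwd 23286, .bwd 32881],
   .loop none [.fwd 16511, .fwd 32881, .bwd 22256],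
   .loop none [.fwd 34086],
   .loop none [.bwd 22229, .bwd 32881],
   .loop none [.bwd 19584, .fwd 32881, .fwd 25410],
   .loop none [.fwd 34089],
   .loop none [.fwd 33100, .fwd 32884],
   .loop none [.fwd 32901, .fwd 32890],
   .loop none [.fwd 33817, .bwd 18048, .bwd 34091, .fwd 16136],
   .loop none [.fwd 34093],
   .loop none [.fwd 33797, .fwd 32897],
   .loop none [.bwd 16451, .fwd 32886, .fwd 22211],
   .loop none [.fwd 34096],
   .loop none [.bwd 25450, .fwd 34040],
   .loop none [.fwd 6652, .bwd 34040, .fwd 27572],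
   .loop none [.fwd 34099],
   .loop none [.fwd 18040, .bwd 34092, .bwd 20914],
   .loop none [.fwd 34101],
   .loop none [.fwd 33833, .fwd 18042, .bwd 34092, .fwd 24497],
   .loop none [.fwd 34103],
   .loop none [.bwd 23346, .fwd 32892, .fwd 19450],
   .loop none [.bwd 34105],
   .loop none [.fwd 23355, .bwd 32895],
   .loop none [.bwd 6653, .bwd 34095, .fwd 20804],
   .loop none [.fwd 34108],
   .loop none [.fwd 6652, .bwd 34095, .bwd 20803],
   .loop none [.fwd 34110],
   .loop none [.fwd 24376, .fwd 32899, .bwd 17022],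
   .loop none [.fwd 34112],
   .loop none [.fwd 17963, .bwd 32899],
   .loop none [.bwd 34042, .fwd 32899, .fwd 19583],
   .loop none [.bwd 34115],
   .loop none [.fwd 18040, .fwd 32901, .bwd 11414],
   .loop none [.bwd 34117],
   .loop none [.fwd 11755, .bwd 32901],
   .loop none [.bwd 25083, .bwd 32904],
   .loop none [.bwd 13620, .bwd 32907],
   .loop none [.bwd 15802, .bwd 32907],
   .loop none [.bwd 34122, .fwd 32911, .fwd 21882],
   .loop none [.fwd 34123],
   .loop none [.bwd 24503, .bwd 32916],
   .loop none [.fwd 33831, .bwd 8970, .fwd 32916, .fwd 21449],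
   .loop none [.fwd 34126],
   .loop none [.bwd 19594, .bwd 32919],
   .loop none [.fwd 33962, .fwd 18011, .fwd 32922, .bwd 26074],
   .loop none [.fwd 34129],
   .loop none [.fwd 25694, .fwd 32929, .bwd 20024],
   .loop none [.bwd 34131],
   .loop none [.fwd 17308, .bwd 32929],
   .loop none [.fwd 12610, .fwd 32932, .bwd 25378],
   .loop none [.fwd 34134],
   .loop none [.fwd 33892, .fwd 14426, .fwd 32934, .fwd 20255],
   .loop none [.fwd 34136],
   .loop none [.fwd 32846, .bwd 32936],
   .loop none [.fwd 15540, .fwd 32938, .fwd 16083],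
   .loop none [.fwd 34139],
   .loop none [.fwd 13646, .bwd 32943],
   .loop none [.bwd 13751, .bwd 32943],
   .loop none [.bwd 16698, .fwd 32943, .fwd 15793],
   .loop none [.bwd 34143],
   .loop none [.bwd 13727, .bwd 32943],
   .loop none [.fwd 25272, .bwd 32943],
   .loop none [.fwd 21640, .bwd 32947],
   .loop none [.fwd 16377, .fwd 32950, .bwd 25307],
   .loop none [.bwd 34148],
   .loop none [.bwd 22144, .bwd 32950],
   .loop none [.bwd 22331, .bwd 32950],
   .loop none [.fwd 23344, .bwd 32950],
   .loop none [.fwd 23858, .bwd 32954],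
   .loop none [.fwd 19084, .fwd 32954, .bwd 23781],
   .loop none [.fwd 34154],
   .loop none [.fwd 33915, .fwd 32956],
   .loop none [.bwd 22038, .fwd 34156],
   .loop none [.fwd 6786, .bwd 34156, .bwd 22037, .bwd 33604],
   .loop none [.fwd 34158],
   .loop none [.bwd 6787, .bwd 34156, .fwd 22996, .bwd 34050],
   .loop none [.bwd 34160],
   .loop none [.fwd 23857, .fwd 34156],
   .loop none [.bwd 9552, .bwd 34156, .fwd 23345],
   .loop none [.fwd 34163],
   .loop none [.fwd 11562, .bwd 34156, .bwd 25309],
   .loop none [.fwd 34165],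
   .loop none [.fwd 23399, .fwd 34156],
   .loop none [.bwd 25350, .fwd 34156],
   .loop none [.fwd 32939, .bwd 32959],
   .loop none [.fwd 22020, .fwd 32959, .bwd 16061],
   .loop none [.bwd 34170],
   .loop none [.fwd 15549, .bwd 32959],
   .loop none [.bwd 21759, .fwd 32959, .fwd 15550],
   .loop none [.bwd 34173],
   .loop none [.fwd 25333, .fwd 32959, .bwd 19365],
   .loop none [.bwd 34175],
   .loop none [.bwd 23842, .fwd 32959, .fwd 19057],
   .loop none [.bwd 34177],
   .loop none [.fwd 23308, .bwd 32961],
   .loop none [.bwd 21955, .bwd 32963],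
   .loop none [.bwd 24111, .fwd 32963, .fwd 23398],
   .loop none [.bwd 34181],
   .loop none [.fwd 32940, .bwd 32965],
   .loop none [.bwd 15198, .fwd 32967, .fwd 24440, .bwd 33778],
   .loop none [.fwd 34184],
   .loop none [.fwd 32941, .bwd 32967],
   .loop none [.bwd 33358, .fwd 32970, .bwd 25170],
   .loop none [.fwd 34187],
   .loop none [.fwd 33350, .bwd 13842, .fwd 32972, .fwd 20104],
   .loop none [.fwd 34189],
   .loop none [.bwd 11300, .fwd 32975, .fwd 22873],
   .loop none [.fwd 34191],
   .loop none [.bwd 9500, .bwd 32975],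
   .loop none [.fwd 22877, .bwd 32975],
   .loop none [.bwd 9408, .bwd 32975],
   .loop none [.fwd 6939, .bwd 32978],
   .loop none [.bwd 17619, .fwd 32978, .fwd 9860],
   .loop none [.bwd 34197],
   .loop none [.fwd 20969, .fwd 32978, .bwd 9891],
   .loop none [.bwd 34199],
   .loop none [.fwd 25124, .fwd 32978, .bwd 11750],
   .loop none [.bwd 34201],
   .loop none [.fwd 9831, .bwd 32980],
   .loop none [.fwd 11302, .fwd 32982, .fwd 11297],
   .loop none [.bwd 34204],
   .loop none [.bwd 9803, .bwd 32982],
   .loop none [.bwd 11295, .bwd 32982],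
   .loop none [.bwd 4839, .bwd 32984],
   .loop none [.fwd 23327, .bwd 32986],
   .loop none [.bwd 16250, .fwd 32986, .bwd 22353],
   .loop none [.fwd 34210],
   .loop none [.fwd 23333, .bwd 32986],
   .loop none [.bwd 22853, .bwd 32986],
   .loop none [.fwd 15173, .fwd 32988, .fwd 18771],
   .loop none [.fwd 34214],
   .loop none [.fwd 9889, .fwd 32990, .bwd 20967],
   .loop none [.fwd 34216],
   .loop none [.fwd 9761, .fwd 32992, .bwd 20892],
   .loop none [.fwd 34218],
   .loop none [.fwd 10316, .fwd 32994, .bwd 24453],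
   .loop none [.fwd 34220],
   .loop none [.fwd 22944, .bwd 32994],
   .loop none [.bwd 23137, .bwd 32994],
   .loop none [.fwd 14917, .fwd 32997, .bwd 24068],
   .loop none [.bwd 34224],
   .loop none [.bwd 14480, .fwd 32997, .bwd 24042],
   .loop none [.fwd 34226],
   .loop none [.bwd 11639, .fwd 32997, .fwd 25112],
   .loop none [.fwd 34228],
   .loop none [.fwd 23125, .bwd 32999],
   .loop none [.fwd 23437, .fwd 32999, .fwd 20070],
   .loop none [.fwd 34231],
   .loop none [.fwd 34211, .bwd 23440, .fwd 32999, .fwd 23556],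
   .loop none [.fwd 34233],
   .loop none [.bwd 27617, .fwd 32999, .fwd 24857],
   .loop none [.bwd 34235],
   .loop none [.bwd 27536, .bwd 33001],
   .loop none [.fwd 17979, .bwd 33003],
   .loop none [.fwd 23130, .bwd 33003],
   .loop none [.fwd 32335, .bwd 33003],
   .loop none [.fwd 32268, .bwd 33003],
   .loop none [.fwd 21385, .bwd 33007],
   .loop none [.fwd 9669, .fwd 33007, .bwd 25093],
   .loop none [.fwd 34243],
   .loop none [.bwd 33898, .fwd 33007, .fwd 25165],
   .loop none [.bwd 34245],
   .loop none [.fwd 5918, .fwd 33009, .bwd 19457],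
   .loop none [.fwd 34247],
   .loop none [.fwd 10366, .fwd 33011, .bwd 21092]]

theorem just136_len : just136.length = 250 := by decide +kernel

theorem just136_ok : cert.okFacts 34000 just136 = true := by decide +kernel

/-- justifications -/
noncomputable def just137 : List Cert.Just :=
  [.loop none [.fwd 34249],
   .loop none [.fwd 23011, .bwd 33015],
   .loop none [.bwd 18468, .fwd 33015, .fwd 23010],
   .loop none [.bwd 34252],
   .loop none [.bwd 24470, .fwd 33015, .fwd 25426],
   .loop none [.bwd 34254],
   .loop none [.fwd 18251, .fwd 33017, .bwd 24054],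
   .loop none [.fwd 34256],
   .loop none [.fwd 33566, .fwd 33020],
   .loop none [.fwd 33915, .bwd 19399, .bwd 34258, .fwd 24924],
   .loop none [.fwd 34259],
   .loop none [.fwd 4847, .bwd 34258, .fwd 20200],
   .loop none [.fwd 34261],
   .loop none [.bwd 4848, .bwd 34258, .fwd 24923],
   .loop none [.fwd 34263],
   .loop none [.fwd 33541, .fwd 19463, .bwd 34258, .fwd 24623],
   .loop none [.fwd 34265],
   .loop none [.fwd 19406, .bwd 34258, .bwd 24885],
   .loop none [.fwd 34267],
   .loop none [.fwd 14271, .fwd 33022, .fwd 20167, .bwd 34268],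
   .loop none [.fwd 34269],
   .loop none [.fwd 14271, .fwd 33024, .bwd 12916],
   .loop none [.fwd 34271],
   .loop none [.fwd 15091, .bwd 33024],
   .loop none [.bwd 23773, .bwd 33024],
   .loop none [.fwd 32337, .bwd 33027],
   .loop none [.fwd 33908, .fwd 25404, .fwd 33029, .fwd 24409],
   .loop none [.fwd 34276],
   .loop none [.fwd 32334, .bwd 33034],
   .loop none [.fwd 34213, .fwd 33038, .bwd 25355],
   .loop none [.bwd 34279],
   .loop none [.fwd 34280, .fwd 33040],
   .loop none [.fwd 12117, .bwd 34281, .fwd 22094],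
   .loop none [.fwd 34282],
   .loop none [.fwd 11299, .bwd 33043],
   .loop none [.fwd 9762, .bwd 33043],
   .loop none [.fwd 7178, .bwd 33046],
   .loop none [.bwd 17622, .fwd 33046, .fwd 9728],
   .loop none [.bwd 34287],
   .loop none [.fwd 21094, .fwd 33046, .bwd 10368],
   .loop none [.bwd 34289],
   .loop none [.fwd 11927, .fwd 33050, .fwd 22623],
   .loop none [.bwd 34291],
   .loop none [.bwd 24798, .bwd 33050],
   .loop none [.bwd 23396, .bwd 33052],
   .loop none [.bwd 14294, .fwd 33057, .fwd 25020],
   .loop none [.bwd 34295],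
   .loop none [.fwd 33892, .fwd 14426, .fwd 33060, .fwd 18762],
   .loop none [.fwd 34297],
   .loop none [.bwd 34242, .fwd 33060, .bwd 16886, .bwd 33072],
   .loop none [.bwd 34299],
   .loop none [.fwd 33908, .fwd 25404, .fwd 33064, .fwd 21569],
   .loop none [.fwd 34301],
   .loop none [.fwd 14271, .fwd 33068, .bwd 21494],
   .loop none [.fwd 34303],
   .loop none [.bwd 34274, .fwd 33068, .fwd 25220],
   .loop none [.bwd 34305],
   .loop none [.bwd 33902, .fwd 33070, .bwd 16418],
   .loop none [.bwd 34307],
   .loop none [.fwd 33588, .fwd 23642, .fwd 33077, .fwd 20218],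
   .loop none [.fwd 34309],
   .loop none [.bwd 15353, .bwd 33080],
   .loop none [.fwd 34014, .fwd 33599],
   .loop none [.bwd 18353, .fwd 33085, .bwd 16922],
   .loop none [.fwd 34313],
   .loop none [.bwd 19628, .bwd 33085],
   .loop none [.bwd 18275, .bwd 33088],
   .loop none [.fwd 13183, .bwd 33095],
   .loop none [.fwd 34185, .fwd 33778, .fwd 33769],
   .loop none [.fwd 13043, .bwd 33095],
   .loop none [.fwd 13192, .bwd 33095],
   .loop none [.fwd 17237, .fwd 33098, .bwd 25574],
   .loop none [.fwd 34321],
   .loop none [.bwd 9820, .bwd 33100],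
   .loop none [.bwd 22983, .fwd 33107, .fwd 18044],
   .loop none [.bwd 34324],
   .loop none [.fwd 17005, .bwd 33107],
   .loop none [.fwd 33102, .bwd 33107],
   .loop none [.bwd 23400, .fwd 33107, .fwd 24553],
   .loop none [.fwd 34328],
   .loop none [.fwd 25451, .bwd 33110],
   .loop none [.fwd 9291, .fwd 33112, .bwd 14913],
   .loop none [.fwd 34331],
   .loop none [.bwd 5528, .fwd 33112, .fwd 14476],
   .loop none [.fwd 34333],
   .loop none [.bwd 23323, .bwd 33112],
   .loop none [.fwd 17227, .fwd 33116, .bwd 25572],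
   .loop none [.fwd 34336],
   .loop none [.fwd 11388, .bwd 33116],
   .loop none [.fwd 17030, .bwd 33118],
   .loop none [.fwd 25521, .fwd 33118, .bwd 17143],
   .loop none [.bwd 34340],
   .loop none [.bwd 19656, .bwd 33118],
   .loop none [.bwd 23078, .fwd 33121, .bwd 23163],
   .loop none [.bwd 34343],
   .loop none [.bwd 17253, .fwd 33123, .fwd 25576, .bwd 34037],
   .loop none [.bwd 34345],
   .loop none [.fwd 25784, .bwd 33125],
   .loop none [.bwd 33652, .fwd 33128, .fwd 23829],
   .loop none [.fwd 34348],
   .loop none [.bwd 34347, .fwd 33130, .bwd 20208],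
   .loop none [.bwd 34350],
   .loop none [.bwd 19427, .bwd 33130],
   .loop none [.bwd 24551, .bwd 33132],
   .loop none [.fwd 18404, .bwd 33134],
   .loop none [.fwd 24856, .bwd 33136],
   .loop none [.fwd 12610, .fwd 33139, .bwd 24413],
   .loop none [.bwd 34356],
   .loop none [.fwd 24311, .bwd 33143],
   .loop none [.fwd 19445, .bwd 33145],
   .loop none [.bwd 21863, .bwd 33148],
   .loop none [.bwd 34358, .fwd 33148, .bwd 23282],
   .loop none [.bwd 34361],
   .loop none [.bwd 27420, .bwd 33156],
   .loop none [.fwd 33726, .fwd 33509],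
   .loop none [.bwd 24486, .bwd 33160],
   .loop none [.bwd 22387, .bwd 33162],
   .loop none [.fwd 12148, .fwd 33169, .bwd 17088],
   .loop none [.fwd 34367],
   .loop none [.bwd 16346, .bwd 33169],
   .loop none [.bwd 18082, .bwd 33169],
   .loop none [.bwd 14797, .fwd 33169, .fwd 19468],
   .loop none [.bwd 34371],
   .loop none [.bwd 25431, .bwd 33172],
   .loop none [.fwd 25492, .bwd 33174],
   .loop none [.fwd 23139, .fwd 33177, .bwd 23107],
   .loop none [.bwd 34375],
   .loop none [.bwd 5684, .fwd 33177, .fwd 20775],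
   .loop none [.fwd 34377],
   .loop none [.fwd 23109, .bwd 33177],
   .loop none [.bwd 25074, .bwd 33177],
   .loop none [.fwd 25608, .bwd 33196],
   .loop none [.fwd 17533, .fwd 33196, .bwd 25627],
   .loop none [.fwd 34382],
   .loop none [.bwd 17486, .fwd 33196, .bwd 27561],
   .loop none [.bwd 34384],
   .loop none [.fwd 25610, .bwd 33196],
   .loop none [.bwd 25692, .fwd 33198, .fwd 20022],
   .loop none [.bwd 34387],
   .loop none [.fwd 32783, .bwd 33200],
   .loop none [.bwd 25697, .bwd 33200],
   .loop none [.bwd 22909, .bwd 33202],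
   .loop none [.fwd 25691, .bwd 33204],
   .loop none [.fwd 25666, .bwd 33204],
   .loop none [.bwd 27649, .bwd 33204],
   .loop none [.fwd 32739, .bwd 33207],
   .loop none [.fwd 22364, .fwd 33207, .bwd 16767],
   .loop none [.bwd 34396],
   .loop none [.fwd 19249, .bwd 33207],
   .loop none [.bwd 22389, .fwd 33289],
   .loop none [.fwd 22361, .fwd 33289],
   .loop none [.bwd 14465, .fwd 33212, .bwd 16586],
   .loop none [.fwd 34401],
   .loop none [.bwd 19054, .bwd 33212],
   .loop none [.fwd 19251, .bwd 33217],
   .loop none [.bwd 23444, .fwd 33217, .fwd 19504],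
   .loop none [.bwd 34405],
   .loop none [.bwd 24537, .bwd 33220],
   .loop none [.fwd 19674, .fwd 33220, .bwd 23207],
   .loop none [.bwd 34408],
   .loop none [.bwd 5910, .fwd 33222, .fwd 20420],
   .loop none [.fwd 34410],
   .loop none [.fwd 12104, .bwd 33222],
   .loop none [.bwd 11552, .fwd 33222, .fwd 19709],
   .loop none [.fwd 34413],
   .loop none [.fwd 9546, .fwd 33222, .bwd 25009],
   .loop none [.fwd 34415],
   .loop none [.bwd 24505, .bwd 33224],
   .loop none [.fwd 33519, .fwd 33478],
   .loop none [.fwd 17493, .fwd 33229, .bwd 27675],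
   .loop none [.bwd 34419],
   .loop none [.fwd 11137, .bwd 33231],
   .loop none [.fwd 34100, .fwd 33239],
   .loop none [.bwd 27431, .bwd 34422, .bwd 16007, .bwd 34298],
   .loop none [.bwd 34423],
   .loop none [.bwd 9659, .bwd 34422, .fwd 19540],
   .loop none [.fwd 34425],
   .loop none [.bwd 27433, .bwd 34422, .fwd 24265, .bwd 33735],
   .loop none [.bwd 34427],
   .loop none [.fwd 32826, .bwd 33241],
   .loop none [.fwd 15534, .bwd 33241],
   .loop none [.bwd 13195, .fwd 33241, .fwd 16065],
   .loop none [.fwd 34431],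
   .loop none [.fwd 16062, .bwd 33241],
   .loop none [.fwd 22025, .fwd 33241, .bwd 16072],
   .loop none [.bwd 34434],
   .loop none [.fwd 25421, .fwd 33241, .bwd 19597],
   .loop none [.bwd 34436],
   .loop none [.bwd 19595, .bwd 33243],
   .loop none [.fwd 23577, .bwd 33245],
   .loop none [.bwd 14465, .fwd 33245, .bwd 15742],
   .loop none [.fwd 34440],
   .loop none [.fwd 34030, .fwd 33664],
   .loop none [.bwd 18267, .bwd 33247],
   .loop none [.fwd 16068, .fwd 33249, .bwd 22023],
   .loop none [.fwd 34444],
   .loop none [.fwd 34159, .fwd 33604],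
   .loop none [.bwd 25328, .bwd 33251],
   .loop none [.fwd 34100, .fwd 33256],
   .loop none [.fwd 6651, .bwd 34448, .fwd 26012],
   .loop none [.fwd 34449],
   .loop none [.fwd 19681, .bwd 33260],
   .loop none [.fwd 25568, .fwd 33260, .bwd 17221],
   .loop none [.bwd 34452],
   .loop none [.bwd 17192, .bwd 33260],
   .loop none [.bwd 14690, .fwd 33260, .fwd 17196],
   .loop none [.fwd 34455],
   .loop none [.fwd 17193, .bwd 33260],
   .loop none [.fwd 25555, .fwd 33260, .bwd 17206],
   .loop none [.bwd 34458],
   .loop none [.bwd 19689, .bwd 33260],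
   .loop none [.bwd 19659, .bwd 33266],
   .loop none [.fwd 19500, .bwd 33266],
   .loop none [.fwd 18140, .bwd 33266],
   .loop none [.bwd 23066, .fwd 33269, .bwd 18466],
   .loop none [.bwd 34464],
   .loop none [.fwd 18589, .bwd 33269],
   .loop none [.fwd 8874, .bwd 33272],
   .loop none [.fwd 4474, .fwd 33272, .bwd 5074],
   .loop none [.fwd 34468],
   .loop none [.bwd 8875, .bwd 33272],
   .loop none [.fwd 24466, .fwd 33272, .fwd 9402],
   .loop none [.bwd 34471],
   .loop none [.fwd 27650, .bwd 33274],
   .loop none [.bwd 27303, .bwd 33276],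
   .loop none [.fwd 19290, .bwd 33284],
   .loop none [.bwd 14500, .fwd 33286, .fwd 24362],
   .loop none [.fwd 34476],
   .loop none [.bwd 25345, .fwd 33286, .bwd 25271],
   .loop none [.fwd 34478],
   .loop none [.fwd 33720, .fwd 24722, .bwd 33980, .fwd 23983],
   .loop none [.fwd 34480],
   .loop none [.fwd 9275, .fwd 33300, .fwd 25950],
   .loop none [.fwd 34482],
   .loop none [.fwd 27285, .bwd 33303],
   .loop none [.bwd 5648, .fwd 33303, .bwd 25886],
   .loop none [.fwd 34485],
   .loop none [.fwd 23053, .fwd 33303, .fwd 27286],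
   .loop none [.bwd 34487],
   .loop none [.bwd 18121, .bwd 33305],
   .loop none [.fwd 5645, .bwd 33305],
   .loop none [.bwd 18144, .bwd 33305],
   .loop none [.bwd 19614, .fwd 33305, .fwd 9299],
   .loop none [.bwd 34492],
   .loop none [.fwd 18071, .fwd 33305, .bwd 9455],
   .loop none [.bwd 34494],
   .loop none [.bwd 9523, .bwd 33305],
   .loop none [.fwd 19612, .bwd 33308],
   .loop none [.bwd 18070, .bwd 33310],
   .loop none [.bwd 18009, .bwd 33315]]

theorem just137_len : just137.length = 250 := by decide +kernel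

theorem just137_ok : cert.okFacts 34250 just137 = true := by decide +kernel

/-- justifications -/
noncomputable def just138 : List Cert.Just :=
  [.loop none [.bwd 18008, .bwd 33315],
   .loop none [.bwd 19712, .bwd 33315],
   .loop none [.bwd 22912, .bwd 33318],
   .loop none [.bwd 25047, .bwd 33318],
   .loop none [.fwd 23119, .fwd 33320, .bwd 23012],
   .loop none [.bwd 34504],
   .loop none [.fwd 23118, .bwd 33320],
   .loop none [.fwd 27556, .bwd 33320],
   .loop none [.fwd 17189, .fwd 33324, .fwd 12404],
   .loop none [.bwd 34508],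
   .loop none [.bwd 17210, .fwd 33324, .fwd 25560],
   .loop none [.fwd 34510],
   .loop none [.fwd 10268, .bwd 33324],
   .loop none [.fwd 17217, .fwd 33324, .bwd 25564],
   .loop none [.fwd 34513],
   .loop none [.fwd 9391, .bwd 33326],
   .loop none [.fwd 13591, .bwd 33333],
   .loop none [.fwd 14162, .bwd 33333],
   .loop none [.fwd 5699, .fwd 33333, .bwd 20790, .bwd 34488],
   .loop none [.bwd 34518],
   .loop none [.fwd 25593, .fwd 33333, .bwd 17426],
   .loop none [.bwd 34520],
   .loop none [.fwd 14170, .bwd 33333],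
   .loop none [.bwd 14288, .bwd 33339],
   .loop none [.fwd 23392, .bwd 33339],
   .loop none [.bwd 20868, .bwd 33341],
   .loop none [.bwd 18353, .fwd 33344, .bwd 16935],
   .loop none [.fwd 34526],
   .loop none [.bwd 11035, .bwd 33348],
   .loop none [.fwd 24759, .bwd 33348],
   .loop none [.bwd 27358, .fwd 33348, .fwd 23559],
   .loop none [.bwd 34530],
   .loop none [.fwd 14177, .bwd 33350],
   .loop none [.fwd 34469, .bwd 9495, .fwd 33357, .fwd 25354],
   .loop none [.fwd 34533],
   .loop none [.bwd 20974, .bwd 33361],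
   .loop none [.fwd 11103, .fwd 33364, .bwd 25862],
   .loop none [.fwd 34536],
   .loop none [.fwd 33432, .fwd 5876, .fwd 33366, .bwd 26931],
   .loop none [.fwd 34538],
   .loop none [.fwd 10592, .fwd 33368, .bwd 20119],
   .loop none [.fwd 34540],
   .loop none [.bwd 6849, .fwd 33371, .bwd 22063],
   .loop none [.fwd 34542],
   .loop none [.bwd 19311, .fwd 33373, .bwd 20086],
   .loop none [.fwd 34544],
   .loop none [.bwd 24860, .bwd 33373],
   .loop none [.fwd 15804, .bwd 33375],
   .loop none [.bwd 23744, .fwd 33375, .fwd 24186],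
   .loop none [.fwd 34548],
   .loop none [.bwd 11988, .fwd 33381, .bwd 23960],
   .loop none [.fwd 34550],
   .loop none [.fwd 33316, .fwd 33385, .bwd 13030],
   .loop none [.fwd 34552],
   .loop none [.bwd 34045, .fwd 33387, .bwd 19329],
   .loop none [.fwd 34554],
   .loop none [.fwd 27669, .bwd 33391],
   .loop none [.fwd 25724, .bwd 33391],
   .loop none [.bwd 13223, .bwd 33396],
   .loop none [.bwd 13187, .bwd 33396],
   .loop none [.bwd 13191, .bwd 33396],
   .loop none [.bwd 13185, .bwd 33396],
   .loop none [.fwd 13184, .bwd 33396],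
   .loop none [.fwd 14492, .bwd 33396],
   .loop none [.fwd 33157, .bwd 33402],
   .loop none [.fwd 27537, .bwd 33406],
   .loop none [.bwd 22142, .bwd 33408],
   .loop none [.bwd 25755, .fwd 33410, .fwd 20130],
   .loop none [.bwd 34567],
   .loop none [.fwd 27425, .fwd 33410, .bwd 25076],
   .loop none [.fwd 34569],
   .loop none [.fwd 27484, .bwd 33416],
   .loop none [.fwd 25817, .bwd 33416],
   .loop none [.bwd 25813, .bwd 33416],
   .loop none [.fwd 25812, .bwd 33416],
   .loop none [.bwd 27528, .bwd 33416],
   .loop none [.bwd 21096, .bwd 33419],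
   .loop none [.fwd 4588, .fwd 33427, .bwd 5157],
   .loop none [.fwd 34577],
   .loop none [.bwd 5876, .bwd 33432],
   .loop none [.fwd 9527, .bwd 33432],
   .loop none [.bwd 11380, .fwd 33438, .fwd 23828],
   .loop none [.fwd 34581],
   .loop none [.fwd 9178, .fwd 33441, .bwd 22925],
   .loop none [.fwd 34583],
   .loop none [.bwd 25659, .bwd 33447],
   .loop none [.fwd 24230, .fwd 33449, .bwd 24220],
   .loop none [.bwd 34586],
   .loop none [.fwd 22918, .fwd 33449, .fwd 25320],
   .loop none [.bwd 34588],
   .loop none [.fwd 25752, .bwd 33451],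
   .loop none [.fwd 10174, .fwd 33454, .bwd 24013],
   .loop none [.bwd 34591],
   .loop none [.bwd 11918, .fwd 33454, .fwd 24014],
   .loop none [.fwd 34593],
   .loop none [.bwd 14661, .fwd 33454, .fwd 24793],
   .loop none [.bwd 34595],
   .loop none [.bwd 34529, .fwd 33457, .bwd 25219],
   .loop none [.fwd 34597],
   .loop none [.fwd 32653, .bwd 33460],
   .loop none [.bwd 3400, .fwd 33463, .fwd 4978],
   .loop none [.fwd 34600],
   .loop none [.fwd 24213, .fwd 33463, .bwd 25318],
   .loop none [.fwd 34602],
   .loop none [.fwd 11685, .fwd 33465, .bwd 22915],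
   .loop none [.fwd 34604],
   .loop none [.fwd 22916, .bwd 33465],
   .loop none [.fwd 10199, .fwd 33467, .bwd 23996],
   .loop none [.bwd 34607],
   .loop none [.bwd 11960, .fwd 33467, .fwd 24801],
   .loop none [.bwd 34609],
   .loop none [.bwd 18898, .bwd 33469],
   .loop none [.fwd 24468, .bwd 33473],
   .loop none [.fwd 24609, .bwd 33473],
   .loop none [.bwd 23441, .fwd 33473, .fwd 25143],
   .loop none [.fwd 34614],
   .loop none [.bwd 25207, .fwd 34418],
   .loop none [.fwd 4412, .bwd 34418, .fwd 21510],
   .loop none [.fwd 34617],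
   .loop none [.bwd 18310, .fwd 33656],
   .loop none [.bwd 27645, .fwd 33491, .fwd 24016],
   .loop none [.bwd 34620],
   .loop none [.fwd 24185, .bwd 33496],
   .loop none [.bwd 6713, .fwd 33496, .fwd 20815],
   .loop none [.fwd 34623],
   .loop none [.fwd 33493, .bwd 33496],
   .loop none [.bwd 4503, .fwd 33499, .fwd 5093],
   .loop none [.fwd 34626],
   .loop none [.fwd 24156, .fwd 33499, .bwd 24437],
   .loop none [.fwd 34628],
   .loop none [.fwd 24155, .fwd 33501, .bwd 19244],
   .loop none [.bwd 34630],
   .loop none [.bwd 14655, .fwd 33503, .fwd 24788],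
   .loop none [.bwd 34632],
   .loop none [.fwd 21719, .bwd 33507],
   .loop none [.bwd 15491, .fwd 33507, .bwd 23168],
   .loop none [.bwd 34635],
   .loop none [.bwd 23172, .bwd 33507],
   .loop none [.fwd 23173, .bwd 33507],
   .loop none [.bwd 24061, .fwd 33507, .fwd 25277],
   .loop none [.fwd 34639],
   .loop none [.bwd 25218, .fwd 34364],
   .loop none [.fwd 3412, .fwd 33515, .bwd 4990],
   .loop none [.fwd 34642],
   .loop none [.fwd 8880, .bwd 33515],
   .loop none [.bwd 11196, .fwd 33515, .fwd 11339],
   .loop none [.bwd 34645],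
   .loop none [.fwd 8927, .bwd 33519],
   .loop none [.bwd 8928, .bwd 33519],
   .loop none [.bwd 23402, .fwd 33523, .bwd 18760],
   .loop none [.bwd 34649],
   .loop none [.fwd 24898, .bwd 33528],
   .loop none [.fwd 33908, .fwd 25404, .fwd 33531, .fwd 13130],
   .loop none [.fwd 34652],
   .loop none [.fwd 33566, .fwd 33534],
   .loop none [.fwd 33915, .bwd 19399, .bwd 34654, .bwd 21410],
   .loop none [.fwd 34655],
   .loop none [.fwd 24361, .fwd 34654],
   .loop none [.bwd 25200, .bwd 33536],
   .loop none [.fwd 33588, .fwd 23642, .fwd 33539, .fwd 24430],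
   .loop none [.fwd 34659],
   .loop none [.bwd 19710, .fwd 33929],
   .loop none [.fwd 14272, .fwd 33547, .bwd 9703],
   .loop none [.bwd 34662],
   .loop none [.fwd 11571, .bwd 33547],
   .loop none [.bwd 34661, .fwd 33547, .fwd 18243],
   .loop none [.bwd 34665],
   .loop none [.fwd 34325, .bwd 22983, .fwd 33550, .bwd 25875],
   .loop none [.fwd 34667],
   .loop none [.bwd 5864, .fwd 33552, .bwd 6659],
   .loop none [.fwd 34669],
   .loop none [.fwd 9572, .bwd 33552],
   .loop none [.bwd 10887, .bwd 33552],
   .loop none [.bwd 12241, .bwd 33552],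
   .loop none [.fwd 25054, .fwd 33552, .bwd 11456],
   .loop none [.bwd 34674],
   .loop none [.fwd 10511, .fwd 33554, .fwd 20655],
   .loop none [.fwd 34676],
   .loop none [.fwd 6865, .fwd 33559, .fwd 25508],
   .loop none [.fwd 34678],
   .loop none [.fwd 24549, .bwd 33561],
   .loop none [.bwd 25092, .bwd 33563],
   .loop none [.bwd 11454, .bwd 33566],
   .loop none [.fwd 4847, .fwd 33566, .bwd 5406],
   .loop none [.fwd 34683],
   .loop none [.bwd 14795, .bwd 33566],
   .loop none [.bwd 11380, .fwd 33572, .fwd 22840],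
   .loop none [.bwd 34686],
   .loop none [.fwd 11515, .fwd 33575, .bwd 21730],
   .loop none [.fwd 34688],
   .loop none [.fwd 25045, .bwd 33577],
   .loop none [.bwd 19311, .fwd 33580, .fwd 20575],
   .loop none [.fwd 34691],
   .loop none [.bwd 18242, .bwd 33582],
   .loop none [.bwd 22085, .bwd 33585],
   .loop none [.fwd 34426, .fwd 34087],
   .loop none [.bwd 23642, .bwd 33588],
   .loop none [.bwd 27459, .fwd 33588, .fwd 27438],
   .loop none [.bwd 34697],
   .loop none [.fwd 34687, .bwd 11380, .fwd 33593, .fwd 23808],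
   .loop none [.fwd 34699],
   .loop none [.bwd 27592, .bwd 33595],
   .loop none [.bwd 18276, .fwd 34312],
   .loop none [.fwd 22040, .fwd 34312],
   .loop none [.bwd 16125, .fwd 33601, .fwd 22039],
   .loop none [.fwd 34704],
   .loop none [.bwd 9551, .bwd 34446, .fwd 23347],
   .loop none [.fwd 34706],
   .loop none [.fwd 11561, .bwd 34446, .fwd 25344],
   .loop none [.fwd 34708],
   .loop none [.fwd 19003, .fwd 33606, .bwd 23317],
   .loop none [.bwd 34710],
   .loop none [.fwd 18414, .bwd 33609],
   .loop none [.fwd 16597, .bwd 33611],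
   .loop none [.bwd 9692, .fwd 33615, .bwd 20002],
   .loop none [.fwd 34714],
   .loop none [.fwd 27607, .bwd 33617],
   .loop none [.bwd 9692, .fwd 33617, .bwd 25683],
   .loop none [.fwd 34717],
   .loop none [.fwd 20175, .bwd 33619],
   .loop none [.bwd 10303, .fwd 33619, .fwd 24660, .bwd 34414],
   .loop none [.bwd 34720],
   .loop none [.fwd 34543, .fwd 24892, .bwd 33619],
   .loop none [.bwd 6849, .fwd 33624, .bwd 15500],
   .loop none [.fwd 34723],
   .loop none [.fwd 15760, .bwd 33634],
   .loop none [.bwd 8885, .fwd 33637, .bwd 9236],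
   .loop none [.bwd 34726],
   .loop none [.fwd 27587, .bwd 33637],
   .loop none [.fwd 10556, .fwd 33641, .bwd 15294],
   .loop none [.bwd 34729],
   .loop none [.bwd 27647, .fwd 33641, .fwd 23946],
   .loop none [.bwd 34731],
   .loop none [.fwd 10590, .fwd 33643, .bwd 18970],
   .loop none [.bwd 34733],
   .loop none [.bwd 11859, .fwd 33643, .bwd 23800],
   .loop none [.fwd 34735],
   .loop none [.bwd 23552, .fwd 33643, .fwd 23801],
   .loop none [.bwd 34737],
   .loop none [.bwd 11789, .bwd 33648],
   .loop none [.bwd 10075, .bwd 33648],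
   .loop none [.fwd 16625, .bwd 33651],
   .loop none [.bwd 8982, .fwd 33658, .bwd 9269],
   .loop none [.bwd 34742],
   .loop none [.fwd 12371, .bwd 34442, .fwd 23802],
   .loop none [.fwd 34744],
   .loop none [.fwd 32407, .bwd 33667],
   .loop none [.fwd 19008, .bwd 33667],
   .loop none [.bwd 18445, .fwd 33669, .fwd 23227],
   .loop none [.fwd 34748]]

theorem just138_len : just138.length = 250 := by decide +kernel

theorem just138_ok : cert.okFacts 34500 just138 = true := by decide +kernel

/-- justifications -/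
noncomputable def just139 : List Cert.Just :=
  [.loop none [.fwd 15850, .bwd 33669],
   .loop none [.fwd 22782, .fwd 33669, .bwd 27306],
   .loop none [.fwd 34751],
   .loop none [.fwd 9779, .fwd 33671, .bwd 23944],
   .loop none [.bwd 34753],
   .loop none [.bwd 11682, .fwd 33671, .fwd 24789],
   .loop none [.bwd 34755],
   .loop none [.bwd 10257, .bwd 33675],
   .loop none [.fwd 10255, .fwd 33675, .bwd 11994],
   .loop none [.fwd 34758],
   .loop none [.fwd 9267, .fwd 33677, .bwd 8990],
   .loop none [.bwd 34760],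
   .loop none [.bwd 11360, .fwd 33681, .fwd 22778],
   .loop none [.bwd 34762],
   .loop none [.fwd 10228, .fwd 33683, .bwd 23973],
   .loop none [.bwd 34764],
   .loop none [.bwd 11979, .fwd 33683, .fwd 24777],
   .loop none [.bwd 34766],
   .loop none [.fwd 18236, .bwd 33687],
   .loop none [.fwd 24190, .fwd 33689, .bwd 24183],
   .loop none [.bwd 34769],
   .loop none [.bwd 15871, .fwd 33689, .fwd 21917],
   .loop none [.fwd 34771],
   .loop none [.bwd 8883, .fwd 33692, .bwd 9237],
   .loop none [.bwd 34773],
   .loop none [.fwd 25657, .bwd 33694],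
   .loop none [.fwd 34772, .bwd 25315, .bwd 33697],
   .loop none [.bwd 23405, .fwd 33703, .bwd 18939],
   .loop none [.bwd 34777],
   .loop none [.bwd 15315, .bwd 33703],
   .loop none [.fwd 21861, .fwd 33705, .fwd 18915],
   .loop none [.bwd 34780],
   .loop none [.fwd 34412, .fwd 33710, .fwd 22340],
   .loop none [.fwd 34782],
   .loop none [.bwd 23850, .fwd 33715, .fwd 15539],
   .loop none [.bwd 34784],
   .loop none [.fwd 32828, .bwd 33715],
   .loop none [.bwd 6852, .fwd 33720, .fwd 19733],
   .loop none [.fwd 34787],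
   .loop none [.fwd 19732, .bwd 33720],
   .loop none [.fwd 23373, .bwd 33720],
   .loop none [.fwd 3411, .fwd 33722, .bwd 24138],
   .loop none [.fwd 34791],
   .loop none [.bwd 22775, .fwd 33724, .fwd 19092],
   .loop none [.bwd 34793],
   .loop none [.fwd 9251, .bwd 33726],
   .loop none [.fwd 3455, .fwd 33726, .bwd 4958],
   .loop none [.fwd 34796],
   .loop none [.bwd 9252, .bwd 33726],
   .loop none [.bwd 22714, .fwd 33726, .fwd 11322],
   .loop none [.bwd 34799],
   .loop none [.bwd 22842, .bwd 33731],
   .loop none [.fwd 23374, .bwd 33731],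
   .loop none [.fwd 16601, .bwd 33733],
   .loop none [.bwd 16645, .bwd 33733],
   .loop none [.fwd 16690, .bwd 33733],
   .loop none [.bwd 19593, .bwd 33733],
   .loop none [.bwd 12106, .bwd 33735],
   .loop none [.fwd 9545, .fwd 33735, .bwd 24283],
   .loop none [.fwd 34808],
   .loop none [.bwd 22296, .bwd 33740],
   .loop none [.bwd 34804, .fwd 33742, .fwd 16184],
   .loop none [.bwd 34811],
   .loop none [.bwd 34805, .fwd 33742, .bwd 22326],
   .loop none [.fwd 34813],
   .loop none [.bwd 16078, .bwd 33745],
   .loop none [.fwd 22294, .fwd 33745, .bwd 16649],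
   .loop none [.bwd 34816],
   .loop none [.fwd 16077, .bwd 33745],
   .loop none [.bwd 19078, .bwd 33747],
   .loop none [.bwd 19079, .bwd 33747],
   .loop none [.fwd 16106, .bwd 33749],
   .loop none [.bwd 16107, .bwd 33749],
   .loop none [.bwd 25322, .bwd 33751],
   .loop none [.fwd 16630, .bwd 33753],
   .loop none [.fwd 18413, .bwd 33753],
   .loop none [.bwd 16717, .bwd 33756],
   .loop none [.fwd 27620, .fwd 33758, .fwd 24401],
   .loop none [.bwd 34827],
   .loop none [.fwd 25900, .bwd 33761],
   .loop none [.fwd 18152, .bwd 33764],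
   .loop none [.fwd 33713, .fwd 34318],
   .loop none [.fwd 13180, .bwd 34318, .fwd 22301],
   .loop none [.fwd 34832],
   .loop none [.fwd 34185, .fwd 33778],
   .loop none [.fwd 13221, .bwd 34834, .bwd 21633],
   .loop none [.fwd 34835],
   .loop none [.bwd 16120, .bwd 33780],
   .loop none [.fwd 9647, .fwd 33780, .bwd 24022],
   .loop none [.fwd 34838],
   .loop none [.fwd 18271, .bwd 33783],
   .loop none [.fwd 34166, .fwd 34149],
   .loop none [.fwd 23311, .bwd 33785],
   .loop none [.bwd 25423, .bwd 33785],
   .loop none [.bwd 6646, .fwd 33789, .fwd 20797],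
   .loop none [.fwd 34844],
   .loop none [.bwd 5910, .fwd 33792, .fwd 25524],
   .loop none [.fwd 34846],
   .loop none [.fwd 27366, .bwd 33792],
   .loop none [.bwd 17194, .fwd 33794, .fwd 25549],
   .loop none [.fwd 34849],
   .loop none [.fwd 17223, .fwd 33794, .bwd 25570],
   .loop none [.fwd 34851],
   .loop none [.fwd 18124, .bwd 33797],
   .loop none [.fwd 33833, .fwd 18042, .fwd 33799, .bwd 14505],
   .loop none [.fwd 34854],
   .loop none [.fwd 27677, .bwd 33801],
   .loop none [.fwd 25470, .bwd 33801],
   .loop none [.fwd 27670, .bwd 33804],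
   .loop none [.fwd 27671, .bwd 33808],
   .loop none [.bwd 11745, .fwd 33810, .bwd 25000],
   .loop none [.fwd 34860],
   .loop none [.fwd 10711, .fwd 33810, .fwd 24809],
   .loop none [.fwd 34862],
   .loop none [.bwd 19012, .bwd 33810],
   .loop none [.bwd 17204, .bwd 33810],
   .loop none [.bwd 18038, .bwd 33812],
   .loop none [.bwd 11412, .fwd 33812, .fwd 18037],
   .loop none [.bwd 34867],
   .loop none [.fwd 18051, .bwd 33817],
   .loop none [.fwd 18048, .bwd 33817],
   .loop none [.bwd 18043, .bwd 33817],
   .loop none [.fwd 34032, .fwd 19672, .bwd 33817],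
   .loop none [.bwd 12519, .fwd 33820, .fwd 21369],
   .loop none [.fwd 34873],
   .loop none [.bwd 25162, .bwd 33820],
   .loop none [.fwd 34409, .fwd 33822],
   .loop none [.bwd 25526, .fwd 34876],
   .loop none [.fwd 27367, .fwd 34876],
   .loop none [.bwd 14892, .fwd 33824, .fwd 12555],
   .loop none [.fwd 34879],
   .loop none [.bwd 9200, .fwd 33824, .fwd 15148],
   .loop none [.fwd 34881],
   .loop none [.fwd 9201, .fwd 33824, .bwd 14967],
   .loop none [.fwd 34883],
   .loop none [.fwd 9201, .fwd 33827, .bwd 9390],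
   .loop none [.fwd 34885],
   .loop none [.fwd 27194, .bwd 33829],
   .loop none [.fwd 8970, .bwd 33831],
   .loop none [.fwd 5598, .fwd 33833, .bwd 17450],
   .loop none [.fwd 34889],
   .loop none [.fwd 25527, .fwd 33833, .bwd 17150],
   .loop none [.bwd 34891],
   .loop none [.bwd 18042, .bwd 33833],
   .loop none [.fwd 18007, .bwd 33833],
   .loop none [.fwd 25553, .fwd 33836, .bwd 17199],
   .loop none [.bwd 34895],
   .loop none [.fwd 17130, .bwd 33836],
   .loop none [.fwd 17248, .bwd 33836],
   .loop none [.fwd 17202, .bwd 33838],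
   .loop none [.fwd 27190, .bwd 33841],
   .loop none [.bwd 25591, .bwd 33841],
   .loop none [.bwd 23170, .fwd 33845, .fwd 24062],
   .loop none [.bwd 34902],
   .loop none [.bwd 18467, .fwd 33845, .fwd 24059],
   .loop none [.fwd 34904],
   .loop none [.bwd 10746, .fwd 33845, .bwd 23090],
   .loop none [.fwd 34906],
   .loop none [.fwd 23040, .bwd 33845],
   .loop none [.bwd 25150, .bwd 33845],
   .loop none [.fwd 10487, .fwd 33851, .bwd 18908],
   .loop none [.bwd 34910],
   .loop none [.bwd 23998, .bwd 33851],
   .loop none [.bwd 27644, .fwd 33851, .fwd 23999],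
   .loop none [.bwd 34913],
   .loop none [.bwd 9229, .fwd 33859, .bwd 8900],
   .loop none [.bwd 34915],
   .loop none [.fwd 27581, .bwd 33859],
   .loop none [.fwd 10424, .fwd 33861, .bwd 18967],
   .loop none [.bwd 34918],
   .loop none [.bwd 27638, .fwd 33861, .fwd 23975],
   .loop none [.bwd 34920],
   .loop none [.fwd 11283, .fwd 33863, .fwd 22576],
   .loop none [.bwd 34922],
   .loop none [.fwd 33915, .bwd 19399, .fwd 33869, .bwd 12782],
   .loop none [.fwd 34924],
   .loop none [.bwd 34685, .fwd 33869, .fwd 15127],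
   .loop none [.fwd 34926],
   .loop none [.bwd 34657, .fwd 33869, .bwd 25363],
   .loop none [.fwd 34928],
   .loop none [.fwd 15131, .bwd 33871],
   .loop none [.fwd 11926, .fwd 33874, .fwd 17285],
   .loop none [.fwd 34931],
   .loop none [.fwd 10175, .fwd 33874, .fwd 24655, .bwd 34736],
   .loop none [.bwd 34933],
   .loop none [.bwd 11902, .fwd 33876, .fwd 11980],
   .loop none [.fwd 34935],
   .loop none [.fwd 11860, .fwd 33876, .bwd 11923],
   .loop none [.fwd 34937],
   .loop none [.bwd 33455, .bwd 33876],
   .loop none [.fwd 8906, .bwd 33878],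
   .loop none [.fwd 24176, .fwd 33880, .bwd 24204],
   .loop none [.bwd 34941],
   .loop none [.bwd 25313, .bwd 33880],
   .loop none [.fwd 34745, .bwd 15740, .fwd 33882, .fwd 16584],
   .loop none [.fwd 34944],
   .loop none [.fwd 24164, .fwd 33882, .fwd 19231],
   .loop none [.bwd 34946],
   .loop none [.bwd 19254, .fwd 33882, .fwd 24219],
   .loop none [.fwd 34948],
   .loop none [.fwd 11926, .fwd 33885, .fwd 25582],
   .loop none [.fwd 34950],
   .loop none [.fwd 27406, .bwd 33888],
   .loop none [.fwd 34663, .fwd 14272, .fwd 33890, .fwd 21785],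
   .loop none [.fwd 34953],
   .loop none [.fwd 12875, .fwd 33892, .fwd 13377, .bwd 34100],
   .loop none [.bwd 34955],
   .loop none [.bwd 14426, .bwd 33892],
   .loop none [.bwd 27505, .bwd 33892],
   .loop none [.fwd 15169, .fwd 33892, .bwd 23312, .bwd 33904],
   .loop none [.bwd 34959],
   .loop none [.fwd 34696, .fwd 33895, .bwd 12570],
   .loop none [.fwd 34961],
   .loop none [.bwd 14983, .bwd 33895],
   .loop none [.fwd 15176, .bwd 33897],
   .loop none [.bwd 23295, .bwd 33904],
   .loop none [.bwd 9936, .fwd 33904, .fwd 27466, .bwd 34828],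
   .loop none [.fwd 34966],
   .loop none [.bwd 23962, .bwd 33904],
   .loop none [.fwd 13375, .bwd 33906],
   .loop none [.bwd 25404, .bwd 33908],
   .loop none [.fwd 22253, .bwd 33908],
   .loop none [.fwd 19399, .bwd 33915],
   .loop none [.bwd 27291, .fwd 33917, .fwd 25777],
   .loop none [.bwd 34973],
   .loop none [.bwd 19396, .fwd 33919, .fwd 24425],
   .loop none [.fwd 34975],
   .loop none [.fwd 19408, .fwd 33919, .bwd 11567],
   .loop none [.bwd 34977],
   .loop none [.fwd 14794, .bwd 33919],
   .loop none [.fwd 12607, .fwd 33921, .fwd 25533],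
   .loop none [.fwd 34980],
   .loop none [.bwd 14792, .fwd 33921, .fwd 27522],
   .loop none [.fwd 34982],
   .loop none [.fwd 12608, .bwd 33924],
   .loop none [.bwd 11453, .bwd 33926],
   .loop none [.fwd 19222, .bwd 33937],
   .loop none [.fwd 9943, .fwd 33940, .bwd 19757],
   .loop none [.fwd 34987],
   .loop none [.fwd 34545, .bwd 24756, .bwd 33940],
   .loop none [.fwd 3455, .fwd 33942, .fwd 12814],
   .loop none [.fwd 34990],
   .loop none [.bwd 9281, .fwd 33951, .fwd 22958],
   .loop none [.fwd 34992],
   .loop none [.fwd 19725, .bwd 33953],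
   .loop none [.fwd 33947, .bwd 33953],
   .loop none [.bwd 27265, .fwd 33955, .fwd 22949],
   .loop none [.bwd 34996],
   .loop none [.fwd 27264, .bwd 33960],
   .loop none [.bwd 18011, .bwd 33962]]

theorem just139_len : just139.length = 250 := by decide +kernel

theorem just139_ok : cert.okFacts 34750 just139 = true := by decide +kernel

/-- justifications -/
noncomputable def just140 : List Cert.Just :=
  [.loop none [.bwd 18010, .bwd 33962],
   .loop none [.fwd 34357, .fwd 33966],
   .loop none [.fwd 33944, .bwd 33964],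
   .loop none [.bwd 19718, .bwd 33964],
   .loop none [.bwd 24414, .bwd 35001, .bwd 17471],
   .loop none [.fwd 35004],
   .loop none [.fwd 19619, .fwd 35001],
   .loop none [.bwd 11566, .bwd 35001, .fwd 19467, .bwd 34368],
   .loop none [.fwd 35007],
   .loop none [.fwd 25497, .bwd 33968],
   .loop none [.bwd 25144, .fwd 33970, .bwd 27564],
   .loop none [.bwd 35010],
   .loop none [.fwd 27557, .bwd 33974],
   .loop none [.bwd 27595, .bwd 33974],
   .loop none [.bwd 25499, .bwd 33974],
   .loop none [.bwd 16792, .fwd 33977, .fwd 22377],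
   .loop none [.fwd 35015],
   .loop none [.fwd 24858, .bwd 33977],
   .loop none [.fwd 25637, .bwd 33982],
   .loop none [.bwd 19774, .fwd 33982, .fwd 25638],
   .loop none [.fwd 35019],
   .loop none [.bwd 24763, .fwd 33982, .fwd 27446],
   .loop none [.fwd 35021],
   .loop none [.bwd 27486, .bwd 33984],
   .loop none [.fwd 32781, .bwd 33996],
   .loop none [.bwd 18487, .fwd 34002, .fwd 25223],
   .loop none [.fwd 35025],
   .loop none [.bwd 12109, .fwd 34005, .fwd 21539],
   .loop none [.fwd 35027],
   .loop none [.bwd 18487, .fwd 34010, .fwd 18699],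
   .loop none [.fwd 35029],
   .loop none [.bwd 18698, .bwd 34010],
   .loop none [.bwd 15897, .bwd 34014],
   .loop none [.fwd 16157, .bwd 34014],
   .loop none [.fwd 16621, .fwd 34017, .bwd 22280],
   .loop none [.fwd 35034],
   .loop none [.bwd 18701, .fwd 34017, .fwd 25225, .bwd 35028],
   .loop none [.bwd 35036],
   .loop none [.fwd 23846, .bwd 34020],
   .loop none [.bwd 24500, .bwd 34020],
   .loop none [.fwd 23847, .bwd 34020],
   .loop none [.fwd 34012, .bwd 34022],
   .loop none [.fwd 34015, .bwd 34024],
   .loop none [.fwd 12367, .fwd 34028, .bwd 21316],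
   .loop none [.fwd 35043],
   .loop none [.bwd 15825, .bwd 34030],
   .loop none [.fwd 18006, .bwd 34032],
   .loop none [.bwd 27397, .fwd 34032, .bwd 19792],
   .loop none [.bwd 35047],
   .loop none [.bwd 19680, .bwd 34032],
   .loop none [.fwd 10380, .bwd 34039],
   .loop none [.fwd 6857, .fwd 34039, .fwd 10381],
   .loop none [.fwd 35051],
   .loop none [.bwd 19221, .bwd 34039],
   .loop none [.fwd 11963, .bwd 34039],
   .loop none [.bwd 5583, .fwd 34044, .bwd 21107],
   .loop none [.fwd 35055],
   .loop none [.bwd 13363, .bwd 34047],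
   .loop none [.fwd 34357, .fwd 34135],
   .loop none [.fwd 35008, .fwd 34368],
   .loop none [.bwd 11401, .fwd 34053, .fwd 18016],
   .loop none [.bwd 35060],
   .loop none [.bwd 18013, .bwd 34053],
   .loop none [.fwd 25614, .fwd 34056, .bwd 17489],
   .loop none [.bwd 35063],
   .loop none [.fwd 16812, .bwd 34056],
   .loop none [.bwd 19639, .bwd 34056],
   .loop none [.bwd 24692, .fwd 34060, .fwd 24828],
   .loop none [.fwd 35067],
   .loop none [.fwd 10309, .fwd 34060, .bwd 21057],
   .loop none [.fwd 35069],
   .loop none [.bwd 27616, .fwd 34060, .fwd 24833],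
   .loop none [.bwd 35071],
   .loop none [.bwd 27357, .fwd 34060, .bwd 24726],
   .loop none [.bwd 35073],
   .loop none [.fwd 23429, .fwd 34060, .bwd 24837],
   .loop none [.bwd 35075],
   .loop none [.bwd 25142, .bwd 34060],
   .loop none [.fwd 11402, .bwd 34062],
   .loop none [.fwd 5493, .fwd 34062, .bwd 10653],
   .loop none [.fwd 35079],
   .loop none [.fwd 18020, .fwd 34062, .fwd 11403],
   .loop none [.bwd 35081],
   .loop none [.bwd 27668, .bwd 34062],
   .loop none [.bwd 18017, .bwd 34064],
   .loop none [.fwd 22330, .bwd 34073],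
   .loop none [.fwd 23750, .bwd 34076],
   .loop none [.fwd 22288, .bwd 34076],
   .loop none [.bwd 22258, .bwd 34076],
   .loop none [.fwd 22257, .bwd 34076],
   .loop none [.bwd 25600, .bwd 34082],
   .loop none [.fwd 23394, .fwd 34695],
   .loop none [.bwd 21985, .bwd 34090],
   .loop none [.bwd 34871, .fwd 34094, .fwd 19663],
   .loop none [.fwd 35093],
   .loop none [.bwd 16452, .fwd 34097, .fwd 22212],
   .loop none [.fwd 35095],
   .loop none [.bwd 27428, .fwd 34097, .fwd 25082],
   .loop none [.bwd 35097],
   .loop none [.bwd 13378, .bwd 34100],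
   .loop none [.fwd 6651, .fwd 34100, .bwd 16049],
   .loop none [.fwd 35100],
   .loop none [.bwd 19049, .bwd 34100],
   .loop none [.fwd 33767, .bwd 34100],
   .loop none [.fwd 34118, .fwd 34102],
   .loop none [.bwd 5597, .bwd 35104, .bwd 20913],
   .loop none [.fwd 35105],
   .loop none [.fwd 34892, .fwd 25527, .fwd 34104, .fwd 16835],
   .loop none [.bwd 35107],
   .loop none [.fwd 34578, .bwd 9425, .fwd 34104, .fwd 19664],
   .loop none [.fwd 35109],
   .loop none [.fwd 9521, .fwd 34104, .bwd 19666],
   .loop none [.bwd 35111],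
   .loop none [.bwd 21881, .bwd 34106],
   .loop none [.bwd 23329, .bwd 34106],
   .loop none [.fwd 23346, .bwd 34106],
   .loop none [.fwd 24567, .bwd 34109],
   .loop none [.fwd 6651, .fwd 34111, .bwd 20802],
   .loop none [.fwd 35117],
   .loop none [.fwd 19582, .bwd 34113],
   .loop none [.fwd 18130, .bwd 34113],
   .loop none [.fwd 9292, .fwd 34116, .bwd 14907],
   .loop none [.fwd 35121],
   .loop none [.fwd 35112, .fwd 34465],
   .loop none [.fwd 34042, .bwd 34116],
   .loop none [.bwd 18040, .bwd 34118],
   .loop none [.fwd 14931, .fwd 34118, .bwd 25158],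
   .loop none [.fwd 35126],
   .loop none [.bwd 21883, .bwd 34124],
   .loop none [.bwd 24507, .bwd 34127],
   .loop none [.bwd 5583, .fwd 34130, .bwd 26073],
   .loop none [.fwd 35130],
   .loop none [.bwd 25694, .bwd 34132],
   .loop none [.bwd 24414, .bwd 35058, .fwd 25379],
   .loop none [.fwd 35133],
   .loop none [.bwd 34958, .fwd 34137, .fwd 20256],
   .loop none [.bwd 35135],
   .loop none [.fwd 19052, .fwd 34140, .fwd 16084],
   .loop none [.fwd 35137],
   .loop none [.fwd 16698, .bwd 34144],
   .loop none [.bwd 16377, .fwd 34841],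
   .loop none [.fwd 34709, .fwd 34479],
   .loop none [.fwd 23838, .bwd 34155],
   .loop none [.bwd 19388, .bwd 34159],
   .loop none [.fwd 22878, .bwd 34159],
   .loop none [.fwd 6785, .fwd 34159, .bwd 16122],
   .loop none [.fwd 35145],
   .loop none [.bwd 27473, .fwd 34159, .fwd 25880],
   .loop none [.fwd 35147],
   .loop none [.bwd 19372, .bwd 34159],
   .loop none [.bwd 19391, .bwd 34159],
   .loop none [.fwd 6787, .bwd 34161],
   .loop none [.bwd 9553, .bwd 34161],
   .loop none [.bwd 14499, .bwd 34164],
   .loop none [.fwd 9811, .bwd 34164],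
   .loop none [.fwd 11658, .bwd 34164],
   .loop none [.bwd 25308, .bwd 34166],
   .loop none [.bwd 25310, .bwd 34166],
   .loop none [.bwd 22020, .bwd 34171],
   .loop none [.fwd 34162, .bwd 34171],
   .loop none [.fwd 23852, .bwd 34171],
   .loop none [.bwd 16647, .fwd 34174, .fwd 22292],
   .loop none [.fwd 35161],
   .loop none [.fwd 21759, .bwd 34174],
   .loop none [.fwd 25332, .bwd 34176],
   .loop none [.bwd 25333, .bwd 34176],
   .loop none [.bwd 22031, .bwd 34178],
   .loop none [.fwd 23842, .bwd 34178],
   .loop none [.fwd 24111, .bwd 34182],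
   .loop none [.fwd 13180, .fwd 34185, .fwd 16665],
   .loop none [.fwd 35169],
   .loop none [.fwd 15072, .fwd 34188, .bwd 25168, .bwd 34598],
   .loop none [.fwd 35171],
   .loop none [.bwd 34532, .fwd 34190, .fwd 20105],
   .loop none [.fwd 35173],
   .loop none [.fwd 20334, .bwd 34192],
   .loop none [.bwd 22876, .bwd 34192],
   .loop none [.fwd 22874, .bwd 34192],
   .loop none [.bwd 25002, .bwd 34192],
   .loop none [.bwd 25562, .fwd 34198, .fwd 17215],
   .loop none [.bwd 35179],
   .loop none [.fwd 17619, .bwd 34198],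
   .loop none [.bwd 22875, .bwd 34200],
   .loop none [.bwd 20969, .bwd 34200],
   .loop none [.bwd 20972, .bwd 34202],
   .loop none [.bwd 10688, .fwd 34202, .fwd 21185],
   .loop none [.fwd 35185],
   .loop none [.fwd 33306, .bwd 34202],
   .loop none [.fwd 22867, .bwd 34202],
   .loop none [.fwd 22869, .bwd 34202],
   .loop none [.bwd 11302, .bwd 34205],
   .loop none [.fwd 34788, .fwd 24723, .bwd 34205],
   .loop none [.bwd 16251, .fwd 34211, .fwd 23009],
   .loop none [.bwd 35192],
   .loop none [.bwd 34963, .fwd 34215, .fwd 19621],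
   .loop none [.fwd 35194],
   .loop none [.fwd 24643, .bwd 34217],
   .loop none [.fwd 24035, .bwd 34219],
   .loop none [.bwd 18253, .fwd 34219, .fwd 25113],
   .loop none [.fwd 35198],
   .loop none [.bwd 16740, .bwd 34221],
   .loop none [.bwd 14917, .bwd 34225],
   .loop none [.bwd 14919, .bwd 34225],
   .loop none [.fwd 24039, .bwd 34227],
   .loop none [.fwd 25155, .bwd 34227],
   .loop none [.bwd 25156, .bwd 34227],
   .loop none [.fwd 5594, .fwd 34229, .bwd 17446],
   .loop none [.fwd 35206],
   .loop none [.fwd 11411, .fwd 34229, .fwd 18034],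
   .loop none [.bwd 35208],
   .loop none [.bwd 5662, .fwd 34232, .bwd 24821],
   .loop none [.fwd 35210],
   .loop none [.fwd 24608, .bwd 34232],
   .loop none [.fwd 24472, .bwd 34234],
   .loop none [.fwd 16741, .bwd 34234],
   .loop none [.fwd 17122, .fwd 34236, .bwd 25514],
   .loop none [.fwd 35215],
   .loop none [.bwd 17123, .fwd 34236, .fwd 25515],
   .loop none [.fwd 35217],
   .loop none [.bwd 24835, .fwd 34236, .fwd 27394],
   .loop none [.bwd 35219],
   .loop none [.fwd 27617, .bwd 34236],
   .loop none [.bwd 25221, .bwd 34244],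
   .loop none [.fwd 16416, .fwd 34246, .bwd 22192],
   .loop none [.fwd 35223],
   .loop none [.fwd 33898, .bwd 34246],
   .loop none [.fwd 16324, .bwd 34248],
   .loop none [.bwd 19462, .bwd 34248],
   .loop none [.fwd 24720, .bwd 34250],
   .loop none [.fwd 18468, .bwd 34253],
   .loop none [.fwd 9282, .fwd 34255, .bwd 22961],
   .loop none [.fwd 35230],
   .loop none [.fwd 24470, .bwd 34255],
   .loop none [.bwd 20666, .bwd 34257],
   .loop none [.fwd 25053, .bwd 34257],
   .loop none [.fwd 6786, .fwd 34260, .bwd 20839],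
   .loop none [.fwd 35235],
   .loop none [.fwd 34974, .bwd 27291, .fwd 34262, .fwd 20201],
   .loop none [.bwd 35237],
   .loop none [.fwd 34477, .fwd 19615, .fwd 34262, .fwd 24625],
   .loop none [.fwd 35239],
   .loop none [.fwd 18077, .fwd 34262, .bwd 24886],
   .loop none [.fwd 35241],
   .loop none [.bwd 34979, .fwd 34264, .bwd 24594],
   .loop none [.fwd 35243],
   .loop none [.fwd 19091, .bwd 34266],
   .loop none [.fwd 35244, .fwd 35242],
   .loop none [.bwd 19406, .bwd 34270],
   .loop none [.fwd 12915, .bwd 34272],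
   .loop none [.bwd 34971, .fwd 34277, .bwd 16508]]

theorem just140_len : just140.length = 250 := by decide +kernel

theorem just140_ok : cert.okFacts 35000 just140 = true := by decide +kernel

/-- justifications -/
noncomputable def just141 : List Cert.Just :=
  [.loop none [.bwd 35249],
   .loop none [.bwd 19592, .bwd 34277],
   .loop none [.bwd 34209, .bwd 34280],
   .loop none [.fwd 12117, .fwd 34280, .fwd 16250],
   .loop none [.fwd 35253],
   .loop none [.bwd 34238, .bwd 34280],
   .loop none [.bwd 34212, .bwd 34280],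
   .loop none [.bwd 34239, .bwd 34280],
   .loop none [.bwd 34213, .bwd 34280],
   .loop none [.bwd 34240, .bwd 34280],
   .loop none [.bwd 34241, .bwd 34280],
   .loop none [.bwd 22095, .bwd 34283],
   .loop none [.bwd 25620, .fwd 34288, .fwd 17504],
   .loop none [.bwd 35262],
   .loop none [.fwd 17622, .bwd 34288],
   .loop none [.bwd 21094, .bwd 34290],
   .loop none [.bwd 11927, .bwd 34292],
   .loop none [.fwd 3410, .fwd 34292, .bwd 4988],
   .loop none [.fwd 35267],
   .loop none [.bwd 9009, .fwd 34292, .fwd 9352],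
   .loop none [.fwd 35269],
   .loop none [.fwd 4845, .fwd 34296, .bwd 5404],
   .loop none [.fwd 35271],
   .loop none [.fwd 27290, .fwd 34296, .fwd 25342],
   .loop none [.bwd 35273],
   .loop none [.fwd 14266, .bwd 34296],
   .loop none [.fwd 14294, .bwd 34296],
   .loop none [.fwd 35136, .bwd 34958, .fwd 34298, .fwd 19346],
   .loop none [.bwd 35277],
   .loop none [.fwd 34242, .bwd 34300],
   .loop none [.fwd 6723, .fwd 34302, .bwd 23690],
   .loop none [.fwd 35280],
   .loop none [.fwd 35250, .bwd 34971, .fwd 34302, .fwd 21570],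
   .loop none [.fwd 35282],
   .loop none [.fwd 23357, .bwd 34302],
   .loop none [.bwd 35248, .fwd 34304, .bwd 21493],
   .loop none [.fwd 35285],
   .loop none [.fwd 34274, .bwd 34306],
   .loop none [.fwd 33902, .bwd 34308],
   .loop none [.bwd 25403, .bwd 34308],
   .loop none [.fwd 34698, .bwd 27459, .fwd 34310, .fwd 20219],
   .loop none [.bwd 35290],
   .loop none [.bwd 19439, .bwd 34314],
   .loop none [.fwd 24725, .fwd 34314, .bwd 27489],
   .loop none [.bwd 35293],
   .loop none [.fwd 25573, .bwd 34322],
   .loop none [.fwd 22983, .bwd 34325],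
   .loop none [.fwd 9753, .fwd 34329, .bwd 20884],
   .loop none [.fwd 35297],
   .loop none [.fwd 14475, .fwd 34329, .bwd 25109],
   .loop none [.fwd 35299],
   .loop none [.fwd 24645, .bwd 34329],
   .loop none [.fwd 9422, .bwd 34332],
   .loop none [.fwd 24082, .fwd 34334, .bwd 14924],
   .loop none [.bwd 35303],
   .loop none [.fwd 27310, .bwd 34337],
   .loop none [.fwd 25571, .bwd 34337],
   .loop none [.bwd 25521, .bwd 34341],
   .loop none [.fwd 23078, .bwd 34344],
   .loop none [.bwd 23162, .fwd 34344, .fwd 23080],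
   .loop none [.bwd 35309],
   .loop none [.fwd 23081, .bwd 34344],
   .loop none [.fwd 19699, .bwd 34346],
   .loop none [.fwd 17253, .bwd 34346],
   .loop none [.bwd 19703, .bwd 34346],
   .loop none [.fwd 16624, .fwd 34349, .bwd 22283],
   .loop none [.fwd 35315],
   .loop none [.fwd 34347, .bwd 34351],
   .loop none [.bwd 23699, .bwd 34357],
   .loop none [.bwd 12610, .bwd 34357],
   .loop none [.fwd 14244, .bwd 34357],
   .loop none [.fwd 34358, .bwd 34362],
   .loop none [.bwd 18080, .fwd 35059],
   .loop none [.fwd 18145, .fwd 35059],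
   .loop none [.fwd 9539, .bwd 34372],
   .loop none [.bwd 9540, .bwd 34372],
   .loop none [.fwd 14797, .bwd 34372],
   .loop none [.bwd 23139, .bwd 34376],
   .loop none [.bwd 23106, .fwd 34376, .bwd 23153],
   .loop none [.bwd 35328],
   .loop none [.fwd 24694, .bwd 34378],
   .loop none [.bwd 24711, .fwd 34383, .bwd 27562],
   .loop none [.bwd 35331],
   .loop none [.bwd 27560, .fwd 34385, .fwd 17487],
   .loop none [.bwd 35333],
   .loop none [.fwd 17486, .bwd 34385],
   .loop none [.fwd 25692, .bwd 34388],
   .loop none [.fwd 23866, .bwd 34397],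
   .loop none [.fwd 22363, .bwd 34397],
   .loop none [.bwd 22364, .bwd 34397],
   .loop none [.fwd 18408, .bwd 34402],
   .loop none [.fwd 23444, .bwd 34406],
   .loop none [.bwd 19673, .bwd 34409],
   .loop none [.fwd 35108, .fwd 34892],
   .loop none [.fwd 19684, .bwd 34409],
   .loop none [.fwd 9548, .fwd 34409, .bwd 24614, .bwd 34905],
   .loop none [.fwd 35345],
   .loop none [.fwd 35048, .bwd 27397, .fwd 34411, .bwd 24634],
   .loop none [.bwd 35347],
   .loop none [.fwd 23574, .bwd 34411],
   .loop none [.bwd 11555, .fwd 34411, .fwd 24662],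
   .loop none [.fwd 35350],
   .loop none [.fwd 9547, .fwd 34411, .bwd 25008],
   .loop none [.fwd 35352],
   .loop none [.fwd 24936, .bwd 34416],
   .loop none [.fwd 34687, .fwd 34582],
   .loop none [.fwd 25841, .fwd 34420, .fwd 24785],
   .loop none [.bwd 35356],
   .loop none [.fwd 19670, .bwd 34420],
   .loop none [.fwd 17492, .bwd 34420],
   .loop none [.fwd 35278, .fwd 35136],
   .loop none [.bwd 35360, .bwd 34958, .fwd 34424, .fwd 25805],
   .loop none [.fwd 35361],
   .loop none [.bwd 27432, .bwd 34424],
   .loop none [.bwd 16511, .bwd 34426],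
   .loop none [.fwd 6721, .fwd 34426, .fwd 25893],
   .loop none [.fwd 35365],
   .loop none [.bwd 34807, .fwd 34428, .bwd 25641],
   .loop none [.fwd 35367],
   .loop none [.bwd 34802, .fwd 34428, .fwd 25642],
   .loop none [.fwd 35369],
   .loop none [.fwd 27433, .bwd 34428],
   .loop none [.bwd 22021, .fwd 34432, .fwd 16066],
   .loop none [.bwd 35372],
   .loop none [.bwd 22025, .bwd 34435],
   .loop none [.fwd 25335, .bwd 34437],
   .loop none [.bwd 25421, .bwd 34437],
   .loop none [.bwd 24879, .fwd 34441, .fwd 19017],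
   .loop none [.bwd 35377],
   .loop none [.bwd 19373, .fwd 34445, .fwd 25336],
   .loop none [.fwd 35379],
   .loop none [.fwd 35098, .bwd 27427, .fwd 34450, .fwd 26013],
   .loop none [.fwd 35381],
   .loop none [.bwd 25568, .bwd 34453],
   .loop none [.bwd 25551, .fwd 34456, .fwd 17197],
   .loop none [.bwd 35384],
   .loop none [.fwd 25554, .bwd 34459],
   .loop none [.bwd 25555, .bwd 34459],
   .loop none [.bwd 27288, .bwd 35123, .bwd 23061, .bwd 34636],
   .loop none [.bwd 35388],
   .loop none [.bwd 23057, .fwd 35123],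
   .loop none [.fwd 22578, .fwd 35123],
   .loop none [.fwd 8881, .bwd 34469],
   .loop none [.fwd 9495, .bwd 34469],
   .loop none [.bwd 24466, .bwd 34472],
   .loop none [.bwd 27518, .bwd 35141, .fwd 25270, .bwd 35244],
   .loop none [.bwd 35395],
   .loop none [.bwd 27516, .bwd 35141, .fwd 25868],
   .loop none [.fwd 35397],
   .loop none [.fwd 34146, .fwd 35141],
   .loop none [.bwd 6852, .fwd 34481, .fwd 20856],
   .loop none [.fwd 35400],
   .loop none [.fwd 5542, .fwd 34483, .fwd 25951],
   .loop none [.fwd 35402],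
   .loop none [.fwd 27287, .bwd 34486],
   .loop none [.bwd 23053, .bwd 34488],
   .loop none [.bwd 23054, .bwd 34488],
   .loop none [.bwd 25075, .bwd 34488],
   .loop none [.fwd 19614, .bwd 34493],
   .loop none [.bwd 18071, .bwd 34495],
   .loop none [.bwd 23119, .bwd 34505],
   .loop none [.bwd 23122, .bwd 34505],
   .loop none [.fwd 23046, .bwd 34505],
   .loop none [.fwd 25548, .fwd 34509, .bwd 17188],
   .loop none [.bwd 35413],
   .loop none [.bwd 17189, .bwd 34509],
   .loop none [.bwd 18192, .bwd 34509],
   .loop none [.fwd 19682, .bwd 34509],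
   .loop none [.bwd 19686, .bwd 34509],
   .loop none [.bwd 27308, .bwd 34511],
   .loop none [.bwd 25561, .bwd 34511],
   .loop none [.fwd 27309, .bwd 34514],
   .loop none [.fwd 25563, .bwd 34514],
   .loop none [.bwd 5699, .bwd 34519],
   .loop none [.bwd 9522, .bwd 34519],
   .loop none [.bwd 25593, .bwd 34521],
   .loop none [.fwd 35294, .fwd 24725, .fwd 34527, .bwd 25095],
   .loop none [.fwd 35426],
   .loop none [.fwd 35294, .fwd 34531],
   .loop none [.fwd 27358, .fwd 35428],
   .loop none [.bwd 12768, .bwd 34534],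
   .loop none [.bwd 4572, .fwd 34537, .bwd 27684],
   .loop none [.fwd 35431],
   .loop none [.bwd 5682, .fwd 34539, .bwd 26930],
   .loop none [.fwd 35433],
   .loop none [.fwd 10591, .fwd 34541, .bwd 24797, .bwd 34594],
   .loop none [.bwd 35435],
   .loop none [.bwd 9260, .fwd 34549, .bwd 9002],
   .loop none [.bwd 35437],
   .loop none [.fwd 10450, .fwd 34551, .bwd 15311],
   .loop none [.bwd 35439],
   .loop none [.bwd 27640, .fwd 34551, .fwd 23961],
   .loop none [.bwd 35441],
   .loop none [.fwd 34499, .fwd 34553, .bwd 13029],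
   .loop none [.fwd 35443],
   .loop none [.fwd 34976, .fwd 24256, .bwd 34555],
   .loop none [.bwd 13364, .fwd 34555, .fwd 15994],
   .loop none [.fwd 35446],
   .loop none [.fwd 25755, .bwd 34568],
   .loop none [.bwd 27423, .fwd 34570, .bwd 24991],
   .loop none [.bwd 35449],
   .loop none [.fwd 9425, .bwd 34578],
   .loop none [.fwd 13143, .fwd 35355],
   .loop none [.bwd 9175, .fwd 34584, .bwd 8953],
   .loop none [.bwd 35453],
   .loop none [.fwd 19276, .bwd 34584],
   .loop none [.bwd 24230, .bwd 34587],
   .loop none [.fwd 24221, .fwd 34587, .fwd 24243],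
   .loop none [.bwd 35457],
   .loop none [.fwd 25321, .fwd 34587, .bwd 24242],
   .loop none [.bwd 35459],
   .loop none [.bwd 22918, .bwd 34589],
   .loop none [.bwd 10139, .fwd 34934, .bwd 10174, .bwd 34592],
   .loop none [.fwd 35462],
   .loop none [.fwd 35463, .fwd 34592],
   .loop none [.fwd 34734, .bwd 11862, .bwd 35464, .bwd 11913],
   .loop none [.bwd 35465],
   .loop none [.bwd 11906, .bwd 35464, .fwd 11917, .bwd 34765],
   .loop none [.fwd 35467],
   .loop none [.bwd 10516, .fwd 34594, .bwd 18974],
   .loop none [.bwd 35469],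
   .loop none [.fwd 8948, .fwd 34596, .bwd 9182],
   .loop none [.bwd 35471],
   .loop none [.fwd 34934, .fwd 14661, .bwd 34596],
   .loop none [.fwd 35172, .fwd 34598],
   .loop none [.bwd 23758, .bwd 35474, .bwd 24137],
   .loop none [.bwd 35475],
   .loop none [.bwd 8937, .fwd 34601, .bwd 9196],
   .loop none [.bwd 35477],
   .loop none [.bwd 9197, .bwd 34601],
   .loop none [.fwd 22917, .bwd 34601],
   .loop none [.fwd 24206, .bwd 34603],
   .loop none [.fwd 24223, .bwd 34603],
   .loop none [.fwd 23991, .bwd 34605],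
   .loop none [.bwd 10199, .bwd 34608],
   .loop none [.fwd 9188, .fwd 34610, .bwd 8943],
   .loop none [.bwd 35485],
   .loop none [.fwd 11960, .bwd 34610],
   .loop none [.fwd 5659, .fwd 34615, .bwd 20763],
   .loop none [.fwd 35488],
   .loop none [.fwd 23104, .fwd 34615, .bwd 23154],
   .loop none [.bwd 35490],
   .loop none [.bwd 21511, .bwd 34618],
   .loop none [.fwd 35470, .fwd 35466, .fwd 34734],
   .loop none [.fwd 35470, .fwd 35466],
   .loop none [.fwd 4406, .fwd 34621, .bwd 5027],
   .loop none [.fwd 35495],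
   .loop none [.bwd 27193, .bwd 34621],
   .loop none [.fwd 27645, .bwd 34621],
   .loop none [.fwd 24757, .bwd 34624]]

theorem just141_len : just141.length = 250 := by decide +kernel

theorem just141_ok : cert.okFacts 35250 just141 = true := by decide +kernel

/-- justifications -/
noncomputable def just142 : List Cert.Just :=
  [.loop none [.bwd 9258, .fwd 34627, .bwd 9005],
   .loop none [.bwd 35500],
   .loop none [.bwd 24154, .fwd 34629, .bwd 19245],
   .loop none [.bwd 35502],
   .loop none [.bwd 19220, .bwd 34629],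
   .loop none [.bwd 24155, .bwd 34631],
   .loop none [.bwd 19243, .fwd 34631, .fwd 24162],
   .loop none [.bwd 35506],
   .loop none [.fwd 35468, .fwd 34765],
   .loop none [.fwd 8995, .fwd 34633, .bwd 9263],
   .loop none [.bwd 35509],
   .loop none [.fwd 14655, .bwd 34633],
   .loop none [.fwd 15491, .bwd 34636],
   .loop none [.fwd 24070, .bwd 34636],
   .loop none [.fwd 27269, .bwd 34636],
   .loop none [.fwd 4583, .fwd 34640, .bwd 5152],
   .loop none [.fwd 35515],
   .loop none [.fwd 9421, .bwd 34640],
   .loop none [.fwd 9170, .bwd 34643],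
   .loop none [.fwd 11400, .bwd 34646],
   .loop none [.fwd 11196, .bwd 34646],
   .loop none [.fwd 15879, .fwd 34650, .bwd 21925],
   .loop none [.fwd 35521],
   .loop none [.fwd 35250, .bwd 34971, .fwd 34653, .fwd 13131],
   .loop none [.bwd 35523],
   .loop none [.fwd 35151, .fwd 34656, .bwd 21409],
   .loop none [.fwd 35525],
   .loop none [.fwd 11562, .fwd 34656, .bwd 25182, .bwd 35286],
   .loop none [.fwd 35527],
   .loop none [.fwd 35291, .fwd 34698],
   .loop none [.bwd 35529, .bwd 27459, .fwd 34660, .fwd 19538],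
   .loop none [.bwd 35530],
   .loop none [.bwd 14272, .bwd 34663],
   .loop none [.bwd 23588, .bwd 34663],
   .loop none [.fwd 12605, .fwd 34666, .bwd 16837],
   .loop none [.fwd 35534],
   .loop none [.fwd 14502, .fwd 34666, .fwd 24499],
   .loop none [.fwd 35536],
   .loop none [.fwd 19616, .bwd 34666],
   .loop none [.fwd 34661, .bwd 34666],
   .loop none [.bwd 5526, .fwd 34668, .bwd 25874],
   .loop none [.fwd 35540],
   .loop none [.bwd 32844, .bwd 34670],
   .loop none [.fwd 6658, .bwd 34670],
   .loop none [.bwd 5865, .fwd 34670, .bwd 12251],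
   .loop none [.fwd 35544],
   .loop none [.fwd 11197, .bwd 34670],
   .loop none [.bwd 9674, .bwd 34670],
   .loop none [.bwd 25054, .bwd 34675],
   .loop none [.fwd 23195, .bwd 34677],
   .loop none [.bwd 11608, .fwd 34679, .fwd 25509],
   .loop none [.fwd 35550],
   .loop none [.bwd 27385, .bwd 34679],
   .loop none [.fwd 35524, .fwd 35283],
   .loop none [.bwd 14793, .bwd 34684],
   .loop none [.bwd 14269, .bwd 34684],
   .loop none [.fwd 11380, .bwd 34687],
   .loop none [.bwd 6849, .fwd 34689, .bwd 21729],
   .loop none [.fwd 35557],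
   .loop none [.bwd 15959, .fwd 34692, .fwd 20576],
   .loop none [.fwd 35559],
   .loop none [.fwd 35531, .bwd 35529],
   .loop none [.fwd 27459, .fwd 35561],
   .loop none [.bwd 25790, .fwd 35561],
   .loop none [.bwd 35452, .fwd 34700, .bwd 21582],
   .loop none [.fwd 35564],
   .loop none [.fwd 34703, .bwd 34705],
   .loop none [.bwd 27400, .fwd 34707, .fwd 9813],
   .loop none [.bwd 35567],
   .loop none [.bwd 11702, .bwd 34707],
   .loop none [.fwd 9699, .fwd 34709, .bwd 13311],
   .loop none [.fwd 35570],
   .loop none [.bwd 19003, .bwd 34711],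
   .loop none [.fwd 20001, .bwd 34715],
   .loop none [.bwd 9693, .fwd 34715, .fwd 24844],
   .loop none [.fwd 35574],
   .loop none [.fwd 27608, .bwd 34718],
   .loop none [.bwd 35573, .fwd 34718, .bwd 25682],
   .loop none [.fwd 35577],
   .loop none [.fwd 10303, .bwd 34721],
   .loop none [.fwd 34794, .bwd 21174, .fwd 34724, .bwd 15499],
   .loop none [.bwd 35580],
   .loop none [.fwd 9644, .fwd 34724, .bwd 24092],
   .loop none [.fwd 35582],
   .loop none [.fwd 8885, .bwd 34727],
   .loop none [.bwd 9235, .fwd 34727, .fwd 8886],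
   .loop none [.bwd 35585],
   .loop none [.bwd 10556, .bwd 34730],
   .loop none [.fwd 27647, .bwd 34732],
   .loop none [.fwd 11908, .bwd 35493, .bwd 12015, .bwd 34919],
   .loop none [.fwd 35589],
   .loop none [.fwd 4509, .fwd 34738, .bwd 5099],
   .loop none [.fwd 35591],
   .loop none [.fwd 35436, .fwd 23552, .bwd 34738],
   .loop none [.fwd 8982, .bwd 34743],
   .loop none [.bwd 9268, .fwd 34743, .fwd 8983],
   .loop none [.bwd 35595],
   .loop none [.fwd 15740, .bwd 34745],
   .loop none [.fwd 19187, .bwd 34745],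
   .loop none [.fwd 24166, .bwd 34749],
   .loop none [.bwd 9227, .fwd 34752, .bwd 8902],
   .loop none [.bwd 35600],
   .loop none [.fwd 9778, .bwd 34754],
   .loop none [.bwd 9779, .bwd 34754],
   .loop none [.fwd 9777, .fwd 34754, .bwd 11675],
   .loop none [.fwd 35604],
   .loop none [.fwd 8895, .fwd 34756, .bwd 9231],
   .loop none [.bwd 35606],
   .loop none [.fwd 11993, .bwd 34759],
   .loop none [.bwd 3448, .fwd 34761, .fwd 4951],
   .loop none [.fwd 35609],
   .loop none [.bwd 9267, .bwd 34761],
   .loop none [.fwd 25163, .fwd 34761, .bwd 14943],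
   .loop none [.bwd 35612],
   .loop none [.fwd 11360, .bwd 34763],
   .loop none [.fwd 10170, .bwd 35508, .fwd 10228],
   .loop none [.fwd 35615],
   .loop none [.fwd 9234, .fwd 34767, .bwd 8890],
   .loop none [.bwd 35617],
   .loop none [.fwd 35616, .fwd 11979, .bwd 34767],
   .loop none [.bwd 24190, .bwd 34770],
   .loop none [.fwd 24184, .fwd 34770, .fwd 24203],
   .loop none [.bwd 35621],
   .loop none [.fwd 8883, .bwd 34774],
   .loop none [.bwd 11363, .bwd 34774],
   .loop none [.fwd 23405, .bwd 34778],
   .loop none [.bwd 21861, .bwd 34781],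
   .loop none [.fwd 5909, .fwd 34783, .fwd 22341],
   .loop none [.fwd 35627],
   .loop none [.fwd 23850, .bwd 34785],
   .loop none [.fwd 22625, .bwd 34788],
   .loop none [.fwd 22626, .bwd 34788],
   .loop none [.fwd 15629, .bwd 34792],
   .loop none [.fwd 35581, .fwd 34794],
   .loop none [.fwd 15498, .bwd 35633, .bwd 20405],
   .loop none [.fwd 35634],
   .loop none [.fwd 21174, .fwd 35633],
   .loop none [.fwd 24088, .bwd 35633, .bwd 34179],
   .loop none [.bwd 35637],
   .loop none [.fwd 22775, .fwd 35633],
   .loop none [.fwd 9257, .bwd 34797],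
   .loop none [.fwd 9529, .bwd 34797],
   .loop none [.fwd 23138, .bwd 34800],
   .loop none [.fwd 24830, .bwd 34800],
   .loop none [.fwd 22714, .bwd 34800],
   .loop none [.bwd 23966, .bwd 34809],
   .loop none [.bwd 19383, .bwd 34812],
   .loop none [.fwd 22325, .bwd 34814],
   .loop none [.bwd 22294, .bwd 34817],
   .loop none [.fwd 34967, .fwd 34828],
   .loop none [.fwd 25487, .fwd 35649],
   .loop none [.bwd 9937, .bwd 35649, .fwd 27622],
   .loop none [.fwd 35651],
   .loop none [.fwd 35162, .fwd 23843, .fwd 34833, .fwd 22302],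
   .loop none [.fwd 35653],
   .loop none [.fwd 13220, .fwd 34836, .bwd 21632],
   .loop none [.fwd 35655],
   .loop none [.bwd 23947, .bwd 34839],
   .loop none [.bwd 27422, .fwd 34845, .bwd 24762],
   .loop none [.bwd 35658],
   .loop none [.fwd 24760, .bwd 34845],
   .loop none [.bwd 9650, .fwd 34845, .fwd 24972],
   .loop none [.fwd 35661],
   .loop none [.fwd 24876, .bwd 34845],
   .loop none [.fwd 35348, .fwd 35048],
   .loop none [.bwd 35664, .bwd 27397, .fwd 34847, .bwd 25656],
   .loop none [.fwd 35665],
   .loop none [.bwd 25550, .bwd 34850],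
   .loop none [.fwd 25569, .bwd 34852],
   .loop none [.bwd 35343, .fwd 25527, .fwd 34855, .fwd 12603],
   .loop none [.bwd 35669],
   .loop none [.bwd 25123, .bwd 34861],
   .loop none [.bwd 25149, .bwd 34863],
   .loop none [.fwd 11412, .bwd 34868],
   .loop none [.fwd 35670, .bwd 35343],
   .loop none [.fwd 35670, .fwd 35108],
   .loop none [.bwd 12520, .fwd 34874, .fwd 21370],
   .loop none [.fwd 35676],
   .loop none [.fwd 22686, .bwd 34874],
   .loop none [.bwd 12519, .fwd 34880, .fwd 12556],
   .loop none [.fwd 35679],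
   .loop none [.fwd 14968, .bwd 34880],
   .loop none [.bwd 35492, .fwd 34882, .fwd 12941],
   .loop none [.bwd 35682],
   .loop none [.bwd 12861, .bwd 34884],
   .loop none [.fwd 9226, .bwd 34886],
   .loop none [.fwd 20646, .bwd 34890],
   .loop none [.bwd 18039, .bwd 34890],
   .loop none [.fwd 34877, .fwd 35674],
   .loop none [.bwd 25527, .fwd 35674],
   .loop none [.fwd 14788, .bwd 35674, .bwd 27365],
   .loop none [.fwd 35690],
   .loop none [.bwd 25553, .bwd 34896],
   .loop none [.bwd 27347, .fwd 35691, .fwd 23170, .bwd 34903],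
   .loop none [.bwd 35693],
   .loop none [.fwd 23169, .bwd 34903],
   .loop none [.bwd 15493, .fwd 34903, .bwd 23566],
   .loop none [.bwd 35696],
   .loop none [.fwd 35346, .fwd 34905],
   .loop none [.bwd 27471, .bwd 35698, .bwd 22002],
   .loop none [.bwd 35699],
   .loop none [.bwd 6783, .bwd 35698, .bwd 24083],
   .loop none [.fwd 35701],
   .loop none [.bwd 23564, .fwd 34907, .fwd 15495, .bwd 35702],
   .loop none [.bwd 35703],
   .loop none [.bwd 23089, .bwd 34907],
   .loop none [.bwd 10487, .bwd 34911],
   .loop none [.fwd 10485, .fwd 34911, .bwd 11944],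
   .loop none [.bwd 35707],
   .loop none [.fwd 27643, .bwd 34911],
   .loop none [.fwd 3406, .fwd 34914, .bwd 4984],
   .loop none [.fwd 35710],
   .loop none [.fwd 27644, .bwd 34914],
   .loop none [.fwd 9229, .bwd 34916],
   .loop none [.bwd 8898, .fwd 34916, .fwd 9230],
   .loop none [.bwd 35714],
   .loop none [.fwd 35590, .fwd 34919],
   .loop none [.bwd 10424, .fwd 35716],
   .loop none [.fwd 3308, .fwd 34921, .bwd 4899],
   .loop none [.fwd 35718],
   .loop none [.bwd 11283, .bwd 34923],
   .loop none [.fwd 35151, .fwd 34925, .bwd 12781],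
   .loop none [.fwd 35721],
   .loop none [.bwd 35245, .fwd 34927, .bwd 25366],
   .loop none [.fwd 35723],
   .loop none [.bwd 19494, .fwd 34929, .fwd 23591, .bwd 35724],
   .loop none [.bwd 35725],
   .loop none [.fwd 35268, .fwd 34932],
   .loop none [.fwd 3409, .bwd 35727, .fwd 17286],
   .loop none [.fwd 35728],
   .loop none [.fwd 35268, .fwd 34951],
   .loop none [.bwd 10175, .bwd 34934],
   .loop none [.fwd 11861, .fwd 34934, .bwd 11919],
   .loop none [.bwd 35732],
   .loop none [.bwd 33684, .bwd 34936],
   .loop none [.bwd 33504, .bwd 34938],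
   .loop none [.bwd 24176, .bwd 34942],
   .loop none [.fwd 24205, .fwd 34942, .fwd 24182],
   .loop none [.bwd 35737],
   .loop none [.fwd 18459, .bwd 34945],
   .loop none [.bwd 24164, .bwd 34947],
   .loop none [.bwd 19281, .fwd 34947, .fwd 24246],
   .loop none [.fwd 35741],
   .loop none [.bwd 24212, .bwd 34949],
   .loop none [.fwd 27590, .fwd 35730],
   .loop none [.fwd 9702, .fwd 34954, .bwd 23770],
   .loop none [.fwd 35745],
   .loop none [.fwd 35724, .bwd 35533, .fwd 34954, .fwd 21786],
   .loop none [.fwd 35747],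
   .loop none [.bwd 12875, .bwd 34956]]

theorem just142_len : just142.length = 250 := by decide +kernel

theorem just142_ok : cert.okFacts 35500 just142 = true := by decide +kernel

/-- justifications -/
noncomputable def just143 : List Cert.Just :=
  [.loop none [.bwd 6652, .fwd 34956, .bwd 12874],
   .loop none [.fwd 35750],
   .loop none [.bwd 15169, .bwd 34960],
   .loop none [.fwd 35524, .fwd 35250],
   .loop none [.fwd 14982, .bwd 34962],
   .loop none [.fwd 15241, .bwd 34962],
   .loop none [.bwd 35650, .fwd 34967, .bwd 17058],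
   .loop none [.bwd 35756],
   .loop none [.fwd 19539, .bwd 34967],
   .loop none [.fwd 35238, .fwd 34974],
   .loop none [.bwd 20202, .bwd 35759, .bwd 25881, .bwd 35148],
   .loop none [.fwd 35760],
   .loop none [.fwd 35694, .fwd 35274],
   .loop none [.bwd 23074, .bwd 35762, .bwd 25882, .fwd 35759],
   .loop none [.bwd 35763],
   .loop none [.fwd 27291, .fwd 35759],
   .loop none [.fwd 24262, .bwd 34976],
   .loop none [.bwd 24768, .bwd 34976],
   .loop none [.bwd 19408, .bwd 34978],
   .loop none [.fwd 27402, .bwd 34981],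
   .loop none [.bwd 27521, .bwd 34983],
   .loop none [.fwd 9942, .fwd 34988, .bwd 19756],
   .loop none [.fwd 35771],
   .loop none [.bwd 24761, .bwd 34988],
   .loop none [.fwd 34546, .bwd 34988],
   .loop none [.bwd 12815, .bwd 34991],
   .loop none [.bwd 27266, .fwd 34993, .fwd 22959],
   .loop none [.bwd 35776],
   .loop none [.fwd 27265, .bwd 34997],
   .loop none [.fwd 33975, .bwd 35005],
   .loop none [.fwd 19618, .bwd 35005],
   .loop none [.fwd 17470, .bwd 35005],
   .loop none [.fwd 19730, .bwd 35005],
   .loop none [.fwd 32762, .bwd 35005],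
   .loop none [.bwd 12148, .bwd 35008],
   .loop none [.fwd 25144, .bwd 35011],
   .loop none [.fwd 22857, .fwd 35016, .bwd 25050],
   .loop none [.fwd 35786],
   .loop none [.bwd 19775, .fwd 35020, .fwd 25639],
   .loop none [.fwd 35788],
   .loop none [.bwd 27487, .bwd 35022],
   .loop none [.fwd 16225, .fwd 35026, .fwd 22282, .bwd 35316],
   .loop none [.fwd 35791],
   .loop none [.bwd 12110, .fwd 35028, .fwd 21540],
   .loop none [.fwd 35793],
   .loop none [.fwd 16622, .bwd 35030],
   .loop none [.fwd 16620, .fwd 35035, .bwd 22279],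
   .loop none [.fwd 35796],
   .loop none [.fwd 18703, .fwd 35035, .bwd 25227, .bwd 35794],
   .loop none [.bwd 35798],
   .loop none [.fwd 18701, .bwd 35037],
   .loop none [.fwd 12366, .fwd 35044, .bwd 21315],
   .loop none [.fwd 35801],
   .loop none [.fwd 27397, .fwd 35664],
   .loop none [.fwd 17169, .bwd 35664, .bwd 25537],
   .loop none [.fwd 35804],
   .loop none [.bwd 24665, .bwd 35664, .fwd 27512],
   .loop none [.fwd 35806],
   .loop none [.bwd 12007, .bwd 35052],
   .loop none [.fwd 35519, .fwd 35056, .bwd 24591],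
   .loop none [.fwd 35809],
   .loop none [.fwd 11401, .bwd 35061],
   .loop none [.fwd 35068, .fwd 24836, .bwd 35061],
   .loop none [.bwd 25614, .bwd 35064],
   .loop none [.fwd 27614, .fwd 35070, .bwd 24839],
   .loop none [.bwd 35814],
   .loop none [.fwd 9653, .fwd 35294, .bwd 24727, .bwd 35070],
   .loop none [.fwd 35816],
   .loop none [.fwd 35817, .fwd 35070],
   .loop none [.fwd 9651, .bwd 35818, .bwd 25141],
   .loop none [.fwd 35819],
   .loop none [.fwd 27616, .bwd 35072],
   .loop none [.bwd 25634, .bwd 35074],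
   .loop none [.fwd 35820, .fwd 16735, .fwd 35076, .bwd 22346],
   .loop none [.fwd 35823],
   .loop none [.fwd 23343, .bwd 35076],
   .loop none [.bwd 23429, .bwd 35076],
   .loop none [.fwd 33277, .bwd 35076],
   .loop none [.fwd 18023, .fwd 35080, .bwd 11404],
   .loop none [.bwd 35828],
   .loop none [.fwd 24827, .bwd 35080],
   .loop none [.bwd 18020, .bwd 35082],
   .loop none [.bwd 18019, .bwd 35082],
   .loop none [.bwd 18072, .bwd 35094],
   .loop none [.bwd 25362, .bwd 35096],
   .loop none [.fwd 27428, .bwd 35098],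
   .loop none [.bwd 24963, .fwd 35098, .fwd 27454],
   .loop none [.fwd 35836],
   .loop none [.fwd 33762, .bwd 35101],
   .loop none [.fwd 6650, .fwd 35101, .fwd 33759],
   .loop none [.fwd 35839],
   .loop none [.fwd 34829, .bwd 35101],
   .loop none [.fwd 19377, .bwd 35101],
   .loop none [.bwd 19364, .bwd 35101],
   .loop none [.bwd 35686, .fwd 35106, .bwd 20912, .bwd 35537],
   .loop none [.bwd 35844],
   .loop none [.fwd 19679, .fwd 35675],
   .loop none [.bwd 12604, .bwd 35675, .fwd 25897],
   .loop none [.fwd 35847],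
   .loop none [.fwd 24611, .fwd 35675],
   .loop none [.bwd 14787, .bwd 35675, .fwd 27277],
   .loop none [.fwd 35850],
   .loop none [.bwd 19677, .fwd 35675],
   .loop none [.bwd 18073, .bwd 35110],
   .loop none [.bwd 4843, .fwd 35112, .fwd 11425, .bwd 35691],
   .loop none [.fwd 35854],
   .loop none [.bwd 9521, .bwd 35112],
   .loop none [.fwd 6650, .fwd 35118, .bwd 20801],
   .loop none [.fwd 35857],
   .loop none [.bwd 35841, .fwd 35118, .fwd 24989],
   .loop none [.bwd 35859],
   .loop none [.bwd 14908, .bwd 35122],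
   .loop none [.fwd 23325, .bwd 35122],
   .loop none [.bwd 9518, .bwd 35122],
   .loop none [.fwd 9423, .bwd 35122],
   .loop none [.fwd 35851, .fwd 27270, .bwd 35127],
   .loop none [.fwd 24069, .bwd 35127],
   .loop none [.bwd 12460, .fwd 35127, .fwd 21350],
   .loop none [.fwd 35867],
   .loop none [.bwd 24063, .bwd 35127],
   .loop none [.fwd 35845, .fwd 25052, .bwd 35127],
   .loop none [.fwd 35811, .fwd 35131, .bwd 26072],
   .loop none [.fwd 35871],
   .loop none [.bwd 16497, .fwd 35134, .fwd 22242],
   .loop none [.fwd 35873],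
   .loop none [.fwd 34958, .fwd 35360],
   .loop none [.bwd 16085, .bwd 35138],
   .loop none [.fwd 6784, .fwd 35146, .fwd 34079],
   .loop none [.fwd 35877],
   .loop none [.bwd 19386, .bwd 35146],
   .loop none [.fwd 16746, .bwd 35146],
   .loop none [.fwd 34070, .bwd 35146],
   .loop none [.bwd 23843, .bwd 35162],
   .loop none [.fwd 35882, .fwd 35170, .fwd 16666],
   .loop none [.fwd 35883],
   .loop none [.fwd 35294, .fwd 24724, .bwd 35172],
   .loop none [.fwd 19761, .bwd 35172],
   .loop none [.bwd 19762, .bwd 35172],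
   .loop none [.fwd 35077, .fwd 35174, .bwd 24566],
   .loop none [.fwd 35888],
   .loop none [.fwd 25562, .bwd 35180],
   .loop none [.bwd 27307, .fwd 35186, .fwd 22868],
   .loop none [.bwd 35891],
   .loop none [.bwd 35261, .fwd 35254, .fwd 16251, .bwd 35193],
   .loop none [.bwd 35893],
   .loop none [.fwd 5494, .fwd 35193, .fwd 16252],
   .loop none [.fwd 35895],
   .loop none [.fwd 13373, .fwd 35195, .bwd 16003],
   .loop none [.fwd 35897],
   .loop none [.fwd 19338, .bwd 35195],
   .loop none [.fwd 5693, .fwd 35199, .bwd 20784],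
   .loop none [.fwd 35900],
   .loop none [.fwd 23161, .fwd 35199, .bwd 23091],
   .loop none [.bwd 35902],
   .loop none [.fwd 23093, .bwd 35199],
   .loop none [.fwd 5593, .fwd 35207, .bwd 17445],
   .loop none [.fwd 35905],
   .loop none [.bwd 11411, .bwd 35209],
   .loop none [.fwd 19993, .bwd 35211],
   .loop none [.fwd 35083, .bwd 35211],
   .loop none [.fwd 25140, .fwd 35216, .fwd 27393],
   .loop none [.fwd 35910],
   .loop none [.fwd 17121, .fwd 35216, .bwd 25513],
   .loop none [.fwd 35912],
   .loop none [.fwd 25051, .fwd 35216, .fwd 27390],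
   .loop none [.bwd 35914],
   .loop none [.bwd 25516, .bwd 35218],
   .loop none [.bwd 27370, .bwd 35218],
   .loop none [.fwd 24835, .bwd 35220],
   .loop none [.fwd 16415, .fwd 35224, .bwd 22191],
   .loop none [.fwd 35919],
   .loop none [.fwd 19527, .fwd 35224, .bwd 25397],
   .loop none [.fwd 35921],
   .loop none [.fwd 24999, .bwd 35231],
   .loop none [.fwd 6785, .fwd 35236, .bwd 20838],
   .loop none [.fwd 35924],
   .loop none [.fwd 11561, .fwd 35236, .bwd 24927],
   .loop none [.fwd 35926],
   .loop none [.fwd 25415, .fwd 35238, .bwd 27480],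
   .loop none [.fwd 35928],
   .loop none [.bwd 14501, .fwd 35240, .fwd 17166],
   .loop none [.fwd 35930],
   .loop none [.bwd 20169, .fwd 35246],
   .loop none [.bwd 18077, .bwd 35244],
   .loop none [.fwd 34971, .fwd 35753],
   .loop none [.fwd 25402, .fwd 35753],
   .loop none [.bwd 35213, .bwd 35254],
   .loop none [.fwd 12116, .fwd 35254, .fwd 35214],
   .loop none [.fwd 35937],
   .loop none [.fwd 25620, .bwd 35263],
   .loop none [.fwd 9172, .bwd 35268],
   .loop none [.bwd 11926, .bwd 35268],
   .loop none [.fwd 24247, .bwd 35268],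
   .loop none [.bwd 11184, .bwd 35270],
   .loop none [.fwd 35878, .bwd 25343, .bwd 35272],
   .loop none [.fwd 14265, .bwd 35272],
   .loop none [.fwd 27577, .bwd 35272],
   .loop none [.fwd 27289, .fwd 35762],
   .loop none [.fwd 35697, .bwd 15493, .bwd 35762, .fwd 27290],
   .loop none [.bwd 35948],
   .loop none [.bwd 14557, .fwd 35281, .bwd 12567],
   .loop none [.fwd 35950],
   .loop none [.bwd 18775, .bwd 35553, .bwd 23689, .bwd 35951],
   .loop none [.bwd 35952],
   .loop none [.bwd 25250, .fwd 35553],
   .loop none [.bwd 24706, .bwd 35294],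
   .loop none [.fwd 25327, .bwd 35298],
   .loop none [.fwd 23029, .bwd 35300],
   .loop none [.bwd 12462, .fwd 35304, .fwd 21352],
   .loop none [.fwd 35958],
   .loop none [.bwd 24082, .bwd 35304],
   .loop none [.bwd 12142, .fwd 35851, .bwd 27275, .bwd 35304],
   .loop none [.fwd 35961],
   .loop none [.fwd 35949, .fwd 35697],
   .loop none [.fwd 23162, .bwd 35310],
   .loop none [.fwd 35792, .fwd 35316],
   .loop none [.fwd 25420, .fwd 35965],
   .loop none [.fwd 23106, .bwd 35329],
   .loop none [.fwd 23108, .bwd 35329],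
   .loop none [.fwd 24711, .bwd 35332],
   .loop none [.fwd 27560, .bwd 35334],
   .loop none [.fwd 35700, .bwd 27471, .fwd 35346, .bwd 16040],
   .loop none [.bwd 35971],
   .loop none [.fwd 35855, .fwd 35691],
   .loop none [.bwd 35973, .fwd 18467, .bwd 35346],
   .loop none [.fwd 27678, .bwd 35346],
   .loop none [.fwd 23176, .bwd 35346],
   .loop none [.bwd 17170, .fwd 35348, .bwd 19791],
   .loop none [.fwd 35977],
   .loop none [.bwd 24661, .bwd 35351],
   .loop none [.bwd 27470, .fwd 35353, .bwd 24933],
   .loop none [.bwd 35980],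
   .loop none [.bwd 24934, .bwd 35353],
   .loop none [.fwd 20357, .fwd 35357, .bwd 25840],
   .loop none [.fwd 35983],
   .loop none [.bwd 25841, .bwd 35357],
   .loop none [.fwd 27429, .bwd 35362],
   .loop none [.fwd 16988, .fwd 35362, .fwd 27552],
   .loop none [.fwd 35987],
   .loop none [.fwd 27430, .bwd 35362],
   .loop none [.fwd 35837, .bwd 27451, .fwd 35366, .fwd 25894],
   .loop none [.fwd 35990],
   .loop none [.bwd 18487, .fwd 35368, .bwd 25640, .bwd 35789],
   .loop none [.fwd 35992],
   .loop none [.bwd 33999, .fwd 35370, .fwd 25643],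
   .loop none [.fwd 35994],
   .loop none [.fwd 22021, .bwd 35373],
   .loop none [.bwd 15969, .fwd 35378, .bwd 20148],
   .loop none [.fwd 35997],
   .loop none [.fwd 16686, .fwd 35380, .bwd 22322]]

theorem just143_len : just143.length = 250 := by decide +kernel

theorem just143_ok : cert.okFacts 35750 just143 = true := by decide +kernel


end CfsgLib.ThCent.DX
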