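import Cfsg.Agent.Lib.ThCent.DXData

/-!
Justifications of the side facts (generated data).
-/

namespace CfsgLib.ThCent.DX

open CfsgLib.PresCert

set_option maxRecDepth 100000

/-- justifications -/
noncomputable def just144 : List Cert.Just :=
  [.loop none [.fwd 35999],
   .loop none [.fwd 20258, .fwd 35382, .fwd 26014],
   .loop none [.fwd 36001],
   .loop none [.bwd 27618, .bwd 35385],
   .loop none [.fwd 27288, .bwd 35389],
   .loop none [.fwd 27518, .bwd 35396],
   .loop none [.bwd 35932, .fwd 35396, .fwd 25763],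
   .loop none [.fwd 36006],
   .loop none [.fwd 36007, .fwd 25764, .fwd 35398, .fwd 25869],
   .loop none [.fwd 36008],
   .loop none [.bwd 11597, .fwd 35401, .bwd 24751],
   .loop none [.fwd 36010],
   .loop none [.fwd 35825, .fwd 35403, .fwd 25952],
   .loop none [.fwd 36012],
   .loop none [.bwd 24640, .fwd 35414, .bwd 27672],
   .loop none [.bwd 36014],
   .loop none [.bwd 11598, .fwd 35427, .bwd 24749],
   .loop none [.fwd 36016],
   .loop none [.bwd 9278, .fwd 35432, .bwd 12112],
   .loop none [.fwd 36018],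
   .loop none [.bwd 35324, .fwd 35434, .bwd 26929],
   .loop none [.fwd 36020],
   .loop none [.bwd 10591, .bwd 35436],
   .loop none [.bwd 11859, .bwd 35436],
   .loop none [.bwd 11978, .fwd 35436, .fwd 11903],
   .loop none [.fwd 36024],
   .loop none [.fwd 9260, .bwd 35438],
   .loop none [.bwd 9000, .fwd 35438, .fwd 9261],
   .loop none [.bwd 36027],
   .loop none [.bwd 10450, .bwd 35440],
   .loop none [.fwd 27640, .bwd 35442],
   .loop none [.fwd 35255, .fwd 35444, .bwd 13028],
   .loop none [.fwd 36031],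
   .loop none [.bwd 24261, .bwd 35447],
   .loop none [.fwd 23881, .fwd 35447, .bwd 19328],
   .loop none [.bwd 36034],
   .loop none [.fwd 27423, .bwd 35450],
   .loop none [.bwd 24965, .fwd 35450, .fwd 27450],
   .loop none [.fwd 36037],
   .loop none [.fwd 35993, .fwd 35789],
   .loop none [.fwd 9175, .bwd 35454],
   .loop none [.bwd 8951, .fwd 35454, .fwd 9176],
   .loop none [.bwd 36041],
   .loop none [.fwd 27256, .bwd 35454],
   .loop none [.bwd 24221, .bwd 35458],
   .loop none [.fwd 8939, .bwd 35460],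
   .loop none [.bwd 9192, .fwd 35460, .fwd 8940],
   .loop none [.bwd 36046],
   .loop none [.bwd 25321, .bwd 35460],
   .loop none [.fwd 10172, .bwd 35463],
   .loop none [.fwd 19188, .fwd 35494],
   .loop none [.fwd 10516, .bwd 35470],
   .loop none [.bwd 8948, .bwd 35472],
   .loop none [.fwd 23758, .bwd 35476],
   .loop none [.fwd 15628, .fwd 35476, .bwd 21797],
   .loop none [.fwd 36054],
   .loop none [.fwd 8937, .bwd 35478],
   .loop none [.fwd 11361, .bwd 35478],
   .loop none [.bwd 9188, .bwd 35486],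
   .loop none [.fwd 5658, .fwd 35489, .bwd 20762],
   .loop none [.fwd 36059],
   .loop none [.bwd 5687, .fwd 35491, .fwd 20778],
   .loop none [.fwd 36061],
   .loop none [.bwd 23104, .bwd 35491],
   .loop none [.fwd 23105, .bwd 35491],
   .loop none [.fwd 8945, .bwd 35496],
   .loop none [.fwd 9258, .bwd 35501],
   .loop none [.fwd 24154, .bwd 35503],
   .loop none [.fwd 23456, .bwd 35503],
   .loop none [.fwd 19243, .bwd 35507],
   .loop none [.bwd 8995, .bwd 35510],
   .loop none [.fwd 18116, .bwd 35516],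
   .loop none [.fwd 4582, .fwd 35516, .bwd 5151],
   .loop none [.fwd 36072],
   .loop none [.fwd 9420, .bwd 35516],
   .loop none [.fwd 24175, .bwd 35522],
   .loop none [.fwd 16507, .bwd 35524],
   .loop none [.bwd 19529, .bwd 35524],
   .loop none [.bwd 35057, .fwd 35526, .bwd 21408],
   .loop none [.fwd 36078],
   .loop none [.bwd 35152, .fwd 35526, .fwd 25199],
   .loop none [.fwd 36080],
   .loop none [.fwd 35248, .bwd 35528],
   .loop none [.bwd 35563, .fwd 35531, .fwd 20220],
   .loop none [.bwd 36083],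
   .loop none [.fwd 19668, .bwd 35535],
   .loop none [.fwd 9292, .fwd 35541, .bwd 25873],
   .loop none [.fwd 36086],
   .loop none [.fwd 34138, .bwd 35545],
   .loop none [.bwd 5866, .fwd 35545, .bwd 34085],
   .loop none [.fwd 36089],
   .loop none [.fwd 12960, .bwd 35545],
   .loop none [.bwd 14410, .bwd 35545],
   .loop none [.bwd 32847, .bwd 35545],
   .loop none [.fwd 9930, .fwd 35551, .fwd 25510],
   .loop none [.fwd 36094],
   .loop none [.bwd 27386, .bwd 35551],
   .loop none [.fwd 35636, .fwd 35558, .bwd 21728],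
   .loop none [.fwd 36097],
   .loop none [.fwd 34690, .bwd 35560],
   .loop none [.fwd 13142, .fwd 35565, .bwd 21581],
   .loop none [.fwd 36100],
   .loop none [.bwd 18785, .fwd 35565, .fwd 23679],
   .loop none [.bwd 36102],
   .loop none [.fwd 17168, .fwd 35805, .bwd 25536, .bwd 35568],
   .loop none [.bwd 36104],
   .loop none [.fwd 27401, .bwd 35568],
   .loop none [.fwd 27400, .bwd 35568],
   .loop none [.bwd 27519, .bwd 35568],
   .loop none [.fwd 9698, .fwd 35571, .bwd 13310],
   .loop none [.fwd 36109],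
   .loop none [.fwd 27594, .bwd 35571],
   .loop none [.bwd 21053, .bwd 35575],
   .loop none [.fwd 24842, .fwd 35578, .bwd 27610],
   .loop none [.bwd 36113],
   .loop none [.fwd 21356, .bwd 35583],
   .loop none [.fwd 9235, .bwd 35586],
   .loop none [.fwd 8992, .bwd 35592],
   .loop none [.bwd 22697, .bwd 35592],
   .loop none [.fwd 9268, .bwd 35596],
   .loop none [.fwd 9227, .bwd 35601],
   .loop none [.bwd 11303, .bwd 35601],
   .loop none [.fwd 11674, .bwd 35605],
   .loop none [.fwd 10552, .bwd 35605],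
   .loop none [.bwd 8895, .bwd 35607],
   .loop none [.fwd 9264, .bwd 35610],
   .loop none [.bwd 22564, .bwd 35610],
   .loop none [.bwd 22710, .fwd 35610, .fwd 18098],
   .loop none [.bwd 36127],
   .loop none [.bwd 25163, .bwd 35613],
   .loop none [.bwd 10229, .bwd 35616],
   .loop none [.bwd 9234, .bwd 35618],
   .loop none [.bwd 24184, .bwd 35622],
   .loop none [.bwd 34807, .fwd 35628, .fwd 22342],
   .loop none [.fwd 36133],
   .loop none [.fwd 23307, .bwd 35635],
   .loop none [.fwd 15497, .fwd 35635, .bwd 20404],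
   .loop none [.fwd 36136],
   .loop none [.bwd 24088, .bwd 35638],
   .loop none [.bwd 27499, .fwd 35652, .fwd 10384],
   .loop none [.bwd 36139],
   .loop none [.fwd 36084, .fwd 27575, .fwd 35652, .bwd 27624],
   .loop none [.fwd 36141],
   .loop none [.bwd 22303, .bwd 35654],
   .loop none [.fwd 13219, .fwd 35656, .bwd 21631],
   .loop none [.fwd 36144],
   .loop none [.fwd 27422, .bwd 35659],
   .loop none [.bwd 24967, .fwd 35659, .fwd 27447],
   .loop none [.fwd 36147],
   .loop none [.bwd 24970, .bwd 35662],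
   .loop none [.bwd 17170, .fwd 35666, .bwd 25655],
   .loop none [.fwd 36150],
   .loop none [.fwd 22688, .bwd 35677],
   .loop none [.bwd 12520, .fwd 35680, .fwd 12557],
   .loop none [.fwd 36153],
   .loop none [.bwd 15150, .bwd 35680],
   .loop none [.fwd 14969, .bwd 35680],
   .loop none [.fwd 35492, .bwd 35683],
   .loop none [.bwd 4844, .bwd 35973, .fwd 10746],
   .loop none [.fwd 36158],
   .loop none [.bwd 34908, .fwd 35973],
   .loop none [.bwd 34909, .fwd 35973],
   .loop none [.bwd 4846, .bwd 35963, .fwd 23087],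
   .loop none [.fwd 36162],
   .loop none [.bwd 23088, .fwd 35963],
   .loop none [.fwd 15493, .fwd 35963],
   .loop none [.fwd 35538, .bwd 35963, .fwd 27353],
   .loop none [.fwd 36166],
   .loop none [.bwd 35275, .bwd 35963, .bwd 24078, .bwd 35868],
   .loop none [.fwd 36168],
   .loop none [.fwd 35972, .fwd 35700],
   .loop none [.fwd 27471, .fwd 36170],
   .loop none [.bwd 20203, .fwd 35761, .fwd 25779, .fwd 36170],
   .loop none [.bwd 36172],
   .loop none [.fwd 16039, .bwd 36170, .fwd 27472],
   .loop none [.bwd 36174],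
   .loop none [.bwd 15496, .bwd 35702],
   .loop none [.fwd 11557, .fwd 35702, .bwd 24084, .bwd 35959],
   .loop none [.fwd 36177],
   .loop none [.bwd 36176, .fwd 35704, .fwd 21725],
   .loop none [.fwd 36179],
   .loop none [.bwd 10485, .bwd 35708],
   .loop none [.fwd 9184, .bwd 35711],
   .loop none [.bwd 22565, .bwd 35711],
   .loop none [.fwd 8898, .bwd 35715],
   .loop none [.fwd 9232, .bwd 35719],
   .loop none [.bwd 35057, .fwd 35722, .bwd 12780],
   .loop none [.bwd 36186],
   .loop none [.fwd 35533, .bwd 35724],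
   .loop none [.fwd 16373, .bwd 35726],
   .loop none [.bwd 19579, .bwd 35726],
   .loop none [.fwd 19494, .bwd 35726],
   .loop none [.fwd 36042, .bwd 8951, .fwd 35729, .fwd 17287],
   .loop none [.fwd 36192],
   .loop none [.fwd 10223, .bwd 35733],
   .loop none [.fwd 24202, .bwd 35738],
   .loop none [.bwd 24205, .bwd 35738],
   .loop none [.fwd 24241, .bwd 35742],
   .loop none [.bwd 24245, .bwd 35742],
   .loop none [.bwd 24419, .fwd 35746, .bwd 12913],
   .loop none [.bwd 36199],
   .loop none [.bwd 24126, .fwd 35748, .bwd 23769],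
   .loop none [.bwd 36201],
   .loop none [.bwd 24375, .fwd 35751, .bwd 12873],
   .loop none [.bwd 36203],
   .loop none [.fwd 35650, .bwd 35757],
   .loop none [.fwd 27473, .bwd 35761],
   .loop none [.bwd 20202, .fwd 35764, .bwd 20662],
   .loop none [.fwd 36207],
   .loop none [.fwd 23074, .bwd 35764],
   .loop none [.bwd 25055, .bwd 35764],
   .loop none [.fwd 35205, .bwd 35764],
   .loop none [.bwd 24764, .bwd 35772],
   .loop none [.bwd 20300, .fwd 35777, .fwd 25816],
   .loop none [.fwd 36213],
   .loop none [.fwd 5535, .fwd 35787, .bwd 20594],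
   .loop none [.fwd 36215],
   .loop none [.fwd 9478, .fwd 35787, .bwd 22963],
   .loop none [.fwd 36217],
   .loop none [.bwd 35795, .bwd 36039, .bwd 27421],
   .loop none [.bwd 36219],
   .loop none [.bwd 16624, .bwd 35792],
   .loop none [.bwd 27680, .fwd 35794, .fwd 25228],
   .loop none [.bwd 36222],
   .loop none [.fwd 16619, .fwd 35797, .bwd 22278],
   .loop none [.fwd 36224],
   .loop none [.fwd 36225, .fwd 36223],
   .loop none [.bwd 18703, .bwd 35799],
   .loop none [.fwd 12365, .fwd 35802, .bwd 21314],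
   .loop none [.fwd 36228],
   .loop none [.bwd 24669, .fwd 35805, .fwd 27515],
   .loop none [.fwd 36230],
   .loop none [.fwd 27511, .bwd 35807],
   .loop none [.fwd 35822, .fwd 35810, .fwd 17055],
   .loop none [.bwd 36233],
   .loop none [.bwd 19998, .fwd 35815, .fwd 25679],
   .loop none [.fwd 36235],
   .loop none [.bwd 6718, .fwd 35817, .bwd 27614, .bwd 35815],
   .loop none [.fwd 36237],
   .loop none [.fwd 36038, .bwd 27448, .fwd 35817, .bwd 10308],
   .loop none [.bwd 36239],
   .loop none [.bwd 10309, .bwd 35817],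
   .loop none [.fwd 27371, .bwd 35817],
   .loop none [.fwd 36036, .fwd 35820, .bwd 16734],
   .loop none [.bwd 36243],
   .loop none [.fwd 27361, .bwd 35824],
   .loop none [.bwd 5588, .fwd 35829, .fwd 17440],
   .loop none [.fwd 36246],
   .loop none [.bwd 18023, .bwd 35829],
   .loop none [.bwd 18021, .bwd 35829]]

theorem just144_len : just144.length = 250 := by decide +kernel

theorem just144_ok : cert.okFacts 36000 just144 = true := by decide +kernel

/-- justifications -/
noncomputable def just145 : List Cert.Just :=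
  [.loop none [.fwd 36240, .fwd 36038],
   .loop none [.fwd 27452, .bwd 35837],
   .loop none [.fwd 33252, .bwd 35840],
   .loop none [.fwd 12107, .bwd 35840],
   .loop none [.bwd 12108, .bwd 35840],
   .loop none [.fwd 34447, .bwd 35840],
   .loop none [.bwd 33254, .bwd 35840],
   .loop none [.bwd 34006, .bwd 35840],
   .loop none [.fwd 35686, .bwd 35845],
   .loop none [.fwd 24615, .bwd 35845],
   .loop none [.fwd 35234, .bwd 35845],
   .loop none [.fwd 27351, .bwd 35848],
   .loop none [.fwd 25908, .bwd 35851],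
   .loop none [.bwd 14788, .bwd 35855],
   .loop none [.fwd 14264, .bwd 35855],
   .loop none [.bwd 36254, .fwd 35858, .bwd 24990, .bwd 36244],
   .loop none [.fwd 36265],
   .loop none [.fwd 20258, .fwd 35860, .fwd 25856],
   .loop none [.fwd 36267],
   .loop none [.fwd 36266, .fwd 36244],
   .loop none [.fwd 35841, .bwd 35860],
   .loop none [.fwd 36169, .fwd 35868],
   .loop none [.bwd 12144, .bwd 36271, .fwd 27276],
   .loop none [.fwd 36272],
   .loop none [.bwd 24080, .fwd 36271],
   .loop none [.bwd 5495, .fwd 35872, .bwd 26071],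
   .loop none [.fwd 36275],
   .loop none [.bwd 16498, .fwd 35874, .fwd 22243],
   .loop none [.fwd 36277],
   .loop none [.fwd 25384, .bwd 35874],
   .loop none [.bwd 25414, .bwd 35874],
   .loop none [.bwd 25004, .bwd 35878],
   .loop none [.bwd 36143, .fwd 35884, .fwd 16667],
   .loop none [.bwd 36282],
   .loop none [.fwd 35821, .fwd 35889, .fwd 17016],
   .loop none [.bwd 36284],
   .loop none [.fwd 35826, .fwd 35889, .bwd 19652],
   .loop none [.fwd 36286],
   .loop none [.fwd 27307, .bwd 35892],
   .loop none [.fwd 35261, .bwd 35894],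
   .loop none [.fwd 35831, .fwd 35896, .fwd 16253],
   .loop none [.fwd 36290],
   .loop none [.fwd 13372, .fwd 35898, .bwd 16002],
   .loop none [.fwd 36292],
   .loop none [.fwd 19337, .bwd 35898],
   .loop none [.fwd 5692, .fwd 35901, .bwd 20783],
   .loop none [.fwd 36295],
   .loop none [.fwd 24704, .bwd 35901],
   .loop none [.bwd 23161, .bwd 35903],
   .loop none [.fwd 25151, .fwd 35903, .bwd 23569],
   .loop none [.bwd 36299],
   .loop none [.bwd 18032, .bwd 35906],
   .loop none [.fwd 5592, .fwd 35906, .bwd 17444],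
   .loop none [.fwd 36302],
   .loop none [.fwd 36266, .fwd 35911],
   .loop none [.fwd 36254, .bwd 36304, .bwd 22344],
   .loop none [.fwd 36305],
   .loop none [.bwd 23427, .fwd 36304],
   .loop none [.bwd 6650, .fwd 36306, .fwd 27615, .bwd 35913],
   .loop none [.fwd 36308],
   .loop none [.fwd 36309, .fwd 35913],
   .loop none [.bwd 9658, .bwd 36310, .fwd 27389],
   .loop none [.bwd 36311],
   .loop none [.bwd 25051, .bwd 35915],
   .loop none [.fwd 16414, .fwd 35920, .bwd 22190],
   .loop none [.fwd 36314],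
   .loop none [.fwd 19526, .fwd 35920, .bwd 25394],
   .loop none [.fwd 36316],
   .loop none [.fwd 25398, .bwd 35922],
   .loop none [.fwd 11559, .fwd 35925, .bwd 24932],
   .loop none [.fwd 36319],
   .loop none [.bwd 27516, .fwd 35927, .fwd 24671],
   .loop none [.bwd 36321],
   .loop none [.bwd 13366, .fwd 35929, .fwd 15996],
   .loop none [.fwd 36323],
   .loop none [.fwd 35766, .bwd 35929],
   .loop none [.fwd 23883, .fwd 35929, .bwd 19330],
   .loop none [.bwd 36326],
   .loop none [.fwd 36278, .fwd 25386, .bwd 35931],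
   .loop none [.bwd 24887, .bwd 35931],
   .loop none [.fwd 24628, .bwd 35931],
   .loop none [.bwd 34251, .bwd 35938],
   .loop none [.fwd 35229, .bwd 35938],
   .loop none [.fwd 12115, .fwd 35938, .bwd 35200],
   .loop none [.bwd 36333],
   .loop none [.fwd 34613, .bwd 35938],
   .loop none [.fwd 35232, .bwd 35938],
   .loop none [.fwd 12529, .fwd 35951, .bwd 12566],
   .loop none [.fwd 36337],
   .loop none [.bwd 24379, .fwd 35951, .fwd 23688],
   .loop none [.fwd 36339],
   .loop none [.bwd 24380, .fwd 35951, .fwd 15167],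
   .loop none [.bwd 36341],
   .loop none [.fwd 18775, .bwd 35953],
   .loop none [.bwd 24379, .fwd 35953, .fwd 18776],
   .loop none [.bwd 36344],
   .loop none [.fwd 36345, .fwd 36340],
   .loop none [.bwd 35960, .bwd 35962],
   .loop none [.fwd 35956, .bwd 35972],
   .loop none [.fwd 35966, .bwd 35978],
   .loop none [.fwd 19790, .bwd 35978],
   .loop none [.fwd 27470, .bwd 35981],
   .loop none [.fwd 36154, .fwd 36103],
   .loop none [.fwd 27563, .bwd 35984],
   .loop none [.fwd 16987, .fwd 35988, .bwd 25954],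
   .loop none [.fwd 36354],
   .loop none [.fwd 20221, .fwd 35991, .fwd 25895],
   .loop none [.fwd 36356],
   .loop none [.fwd 16225, .fwd 35993, .bwd 19775],
   .loop none [.fwd 36358],
   .loop none [.bwd 32821, .fwd 35995, .fwd 25644],
   .loop none [.fwd 36360],
   .loop none [.fwd 35481, .fwd 35998, .bwd 20147],
   .loop none [.fwd 36362],
   .loop none [.bwd 23844, .bwd 36000],
   .loop none [.fwd 16685, .fwd 36000, .bwd 22321],
   .loop none [.fwd 36365],
   .loop none [.bwd 26015, .bwd 36002],
   .loop none [.bwd 25870, .bwd 36009],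
   .loop none [.bwd 24971, .bwd 36011],
   .loop none [.bwd 24467, .fwd 36013, .fwd 25953, .bwd 36355],
   .loop none [.bwd 36370],
   .loop none [.fwd 24640, .bwd 36015],
   .loop none [.bwd 36269, .bwd 24968, .bwd 36017],
   .loop none [.fwd 35825, .fwd 36019, .bwd 12111],
   .loop none [.bwd 36374],
   .loop none [.bwd 5662, .fwd 36021, .bwd 26928],
   .loop none [.fwd 36376],
   .loop none [.fwd 11900, .bwd 36025],
   .loop none [.fwd 35498, .bwd 36025],
   .loop none [.fwd 9000, .bwd 36028],
   .loop none [.bwd 35256, .fwd 36032, .bwd 18710],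
   .loop none [.fwd 36381],
   .loop none [.bwd 23881, .bwd 36035],
   .loop none [.fwd 27448, .fwd 36250],
   .loop none [.fwd 10307, .bwd 36250, .fwd 27449],
   .loop none [.bwd 36385],
   .loop none [.fwd 8951, .bwd 36042],
   .loop none [.fwd 9192, .bwd 36047],
   .loop none [.fwd 15627, .fwd 36055, .bwd 21796],
   .loop none [.fwd 36389],
   .loop none [.fwd 24135, .fwd 36055, .bwd 23760],
   .loop none [.bwd 36391],
   .loop none [.fwd 23155, .bwd 36060],
   .loop none [.fwd 5657, .fwd 36060, .bwd 20761],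
   .loop none [.fwd 36394],
   .loop none [.bwd 5688, .fwd 36062, .fwd 20779],
   .loop none [.fwd 36396],
   .loop none [.fwd 23102, .bwd 36062],
   .loop none [.fwd 18117, .bwd 36073],
   .loop none [.fwd 4581, .fwd 36073, .bwd 5150],
   .loop none [.fwd 36400],
   .loop none [.fwd 9419, .bwd 36073],
   .loop none [.fwd 36187, .fwd 36079],
   .loop none [.bwd 15123, .bwd 36403, .fwd 25198],
   .loop none [.fwd 36404],
   .loop none [.bwd 24414, .fwd 36081, .bwd 21435, .bwd 36405],
   .loop none [.bwd 36406],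
   .loop none [.bwd 27576, .bwd 36084],
   .loop none [.bwd 27575, .bwd 36084],
   .loop none [.bwd 4586, .fwd 36087, .bwd 25872],
   .loop none [.fwd 36410],
   .loop none [.bwd 5867, .fwd 36090, .bwd 35364],
   .loop none [.fwd 36412],
   .loop none [.bwd 34088, .bwd 36090],
   .loop none [.fwd 34404, .bwd 36090],
   .loop none [.bwd 19584, .bwd 36090],
   .loop none [.bwd 27387, .bwd 36095],
   .loop none [.fwd 36138, .fwd 36098, .bwd 24274],
   .loop none [.bwd 36418],
   .loop none [.fwd 24090, .fwd 36098, .bwd 25280],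
   .loop none [.bwd 36420],
   .loop none [.fwd 13141, .fwd 36101, .bwd 21580],
   .loop none [.fwd 36422],
   .loop none [.fwd 18784, .fwd 36101, .bwd 23680],
   .loop none [.bwd 36424],
   .loop none [.bwd 12521, .bwd 36352, .fwd 16872, .bwd 36425],
   .loop none [.fwd 36426],
   .loop none [.fwd 24510, .fwd 36352],
   .loop none [.bwd 17168, .bwd 36105],
   .loop none [.fwd 24629, .bwd 36105],
   .loop none [.bwd 27688, .bwd 36110],
   .loop none [.fwd 9697, .fwd 36110, .bwd 13309],
   .loop none [.fwd 36432],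
   .loop none [.fwd 36112, .bwd 36114],
   .loop none [.bwd 24842, .bwd 36114],
   .loop none [.fwd 22710, .bwd 36128],
   .loop none [.bwd 23425, .bwd 36134],
   .loop none [.fwd 24384, .bwd 36137],
   .loop none [.fwd 27499, .bwd 36140],
   .loop none [.bwd 10385, .fwd 36140, .fwd 26070, .bwd 36276],
   .loop none [.bwd 36440],
   .loop none [.bwd 26926, .bwd 36142],
   .loop none [.fwd 13218, .fwd 36145, .bwd 21630],
   .loop none [.fwd 36443],
   .loop none [.fwd 27445, .bwd 36148],
   .loop none [.bwd 27488, .bwd 36148],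
   .loop none [.bwd 36350, .fwd 36151, .bwd 25654],
   .loop none [.fwd 36447],
   .loop none [.fwd 36375, .fwd 36287],
   .loop none [.bwd 36428, .fwd 36154, .bwd 14970],
   .loop none [.bwd 36450],
   .loop none [.bwd 35705, .bwd 36159],
   .loop none [.bwd 4847, .fwd 36163, .fwd 21222, .bwd 36300],
   .loop none [.fwd 36453],
   .loop none [.fwd 23097, .bwd 36163],
   .loop none [.bwd 12606, .fwd 36167, .fwd 25899],
   .loop none [.fwd 36456],
   .loop none [.fwd 27352, .bwd 36167],
   .loop none [.fwd 12460, .bwd 36169],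
   .loop none [.fwd 20203, .bwd 36173],
   .loop none [.bwd 20204, .bwd 36173],
   .loop none [.bwd 24631, .bwd 36173],
   .loop none [.fwd 24890, .bwd 36173],
   .loop none [.bwd 16039, .bwd 36175],
   .loop none [.bwd 12463, .bwd 36178],
   .loop none [.fwd 14926, .bwd 36178],
   .loop none [.fwd 25278, .bwd 36180],
   .loop none [.bwd 35445, .bwd 36187],
   .loop none [.fwd 35057, .bwd 36187],
   .loop none [.fwd 34045, .bwd 36187],
   .loop none [.fwd 4403, .fwd 36193, .fwd 17288],
   .loop none [.fwd 36471],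
   .loop none [.fwd 24419, .bwd 36200],
   .loop none [.bwd 23768, .fwd 36200, .fwd 16407],
   .loop none [.bwd 36474],
   .loop none [.fwd 24126, .bwd 36202],
   .loop none [.fwd 36475, .bwd 23768, .fwd 36202, .fwd 24127],
   .loop none [.bwd 36477],
   .loop none [.fwd 36478, .fwd 36475],
   .loop none [.fwd 24375, .bwd 36204],
   .loop none [.bwd 16451, .bwd 36204],
   .loop none [.fwd 24381, .bwd 36204],
   .loop none [.bwd 24407, .bwd 36204],
   .loop none [.fwd 25056, .bwd 36208],
   .loop none [.fwd 27267, .bwd 36214],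
   .loop none [.bwd 9285, .fwd 36216, .fwd 22965],
   .loop none [.fwd 36486],
   .loop none [.fwd 9477, .fwd 36216, .bwd 22966],
   .loop none [.fwd 36488],
   .loop none [.fwd 11405, .bwd 36218],
   .loop none [.fwd 16621, .bwd 36220],
   .loop none [.fwd 35795, .bwd 36220],
   .loop none [.fwd 6648, .fwd 36220, .bwd 35800],
   .loop none [.fwd 36493],
   .loop none [.fwd 27680, .fwd 36226],
   .loop none [.bwd 36367, .fwd 36268, .fwd 25857, .fwd 36226],
   .loop none [.bwd 36496],
   .loop none [.bwd 14471, .fwd 36229, .fwd 25105],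
   .loop none [.fwd 36498]]

theorem just145_len : just145.length = 250 := by decide +kernel

theorem just145_ok : cert.okFacts 36250 just145 = true := by decide +kernel

/-- justifications -/
noncomputable def just146 : List Cert.Just :=
  [.loop none [.fwd 27513, .bwd 36231],
   .loop none [.fwd 24758, .bwd 36234],
   .loop none [.bwd 17056, .fwd 36234, .fwd 25904],
   .loop none [.fwd 36502],
   .loop none [.bwd 24707, .bwd 36234],
   .loop none [.fwd 27611, .bwd 36236],
   .loop none [.fwd 36285, .fwd 19997, .bwd 36238],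
   .loop none [.bwd 19998, .bwd 36238],
   .loop none [.fwd 24859, .bwd 36238],
   .loop none [.bwd 27391, .fwd 36240, .bwd 20222],
   .loop none [.fwd 36509],
   .loop none [.bwd 20223, .bwd 36240],
   .loop none [.fwd 20259, .fwd 36269],
   .loop none [.bwd 20260, .fwd 36269],
   .loop none [.bwd 5589, .fwd 36247, .fwd 17441],
   .loop none [.fwd 36514],
   .loop none [.bwd 18022, .bwd 36247],
   .loop none [.bwd 36512, .fwd 36266, .fwd 25140],
   .loop none [.bwd 36517],
   .loop none [.fwd 27359, .bwd 36273],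
   .loop none [.bwd 16499, .fwd 36278, .fwd 22244],
   .loop none [.fwd 36520],
   .loop none [.fwd 25387, .bwd 36278],
   .loop none [.fwd 36143, .bwd 36283],
   .loop none [.bwd 17017, .fwd 36285, .bwd 19996],
   .loop none [.fwd 36524],
   .loop none [.bwd 24838, .bwd 36285],
   .loop none [.bwd 35821, .bwd 36285],
   .loop none [.bwd 36227, .bwd 36449, .fwd 16986],
   .loop none [.fwd 36528],
   .loop none [.fwd 5586, .fwd 36291, .fwd 16254],
   .loop none [.fwd 36530],
   .loop none [.fwd 13371, .fwd 36293, .bwd 16001],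
   .loop none [.fwd 36532],
   .loop none [.fwd 19336, .bwd 36293],
   .loop none [.fwd 23092, .bwd 36296],
   .loop none [.fwd 5691, .fwd 36296, .bwd 20782],
   .loop none [.fwd 36536],
   .loop none [.fwd 23094, .bwd 36296],
   .loop none [.fwd 36454, .fwd 36300],
   .loop none [.bwd 25151, .fwd 36539],
   .loop none [.bwd 18030, .bwd 36303],
   .loop none [.fwd 5591, .fwd 36303, .bwd 17443],
   .loop none [.fwd 36542],
   .loop none [.bwd 11408, .fwd 36303, .fwd 18029],
   .loop none [.bwd 36544],
   .loop none [.fwd 35986, .fwd 36309, .fwd 24606],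
   .loop none [.fwd 36546],
   .loop none [.bwd 9660, .bwd 36312],
   .loop none [.fwd 9658, .bwd 36312],
   .loop none [.fwd 19525, .fwd 36315, .bwd 25393],
   .loop none [.fwd 36550],
   .loop none [.fwd 25396, .bwd 36317],
   .loop none [.fwd 24667, .bwd 36320],
   .loop none [.fwd 36478, .fwd 27517, .bwd 36322],
   .loop none [.fwd 27516, .bwd 36322],
   .loop none [.fwd 36108, .bwd 36322],
   .loop none [.bwd 13367, .fwd 36324, .fwd 15997],
   .loop none [.fwd 36557],
   .loop none [.fwd 23884, .fwd 36324, .bwd 19331],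
   .loop none [.bwd 36559],
   .loop none [.bwd 25382, .bwd 36327],
   .loop none [.bwd 23883, .bwd 36327],
   .loop none [.bwd 12115, .bwd 36334],
   .loop none [.fwd 12528, .fwd 36338, .bwd 12565],
   .loop none [.fwd 36564],
   .loop none [.fwd 23687, .bwd 36338],
   .loop none [.bwd 15164, .bwd 36338],
   .loop none [.fwd 14978, .bwd 36338],
   .loop none [.bwd 13134, .bwd 36346, .fwd 21573],
   .loop none [.fwd 36569],
   .loop none [.bwd 35312, .bwd 36342],
   .loop none [.fwd 12952, .fwd 36342, .fwd 35313],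
   .loop none [.fwd 36572],
   .loop none [.fwd 24369, .bwd 36342],
   .loop none [.fwd 24380, .bwd 36342],
   .loop none [.bwd 35314, .bwd 36342],
   .loop none [.fwd 13133, .fwd 36345, .fwd 16314],
   .loop none [.fwd 36577],
   .loop none [.fwd 36510, .fwd 36251, .bwd 36345],
   .loop none [.fwd 24379, .bwd 36345],
   .loop none [.bwd 19484, .bwd 36345],
   .loop none [.fwd 19565, .bwd 36345],
   .loop none [.bwd 36442, .fwd 36357, .fwd 25896],
   .loop none [.bwd 36583],
   .loop none [.fwd 16224, .fwd 36359, .bwd 19774],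
   .loop none [.fwd 36585],
   .loop none [.fwd 32500, .bwd 36359],
   .loop none [.fwd 33288, .fwd 36361, .fwd 25645],
   .loop none [.fwd 36588],
   .loop none [.bwd 15917, .fwd 36363, .bwd 20146],
   .loop none [.fwd 36590],
   .loop none [.fwd 23854, .bwd 36366],
   .loop none [.fwd 16684, .fwd 36366, .bwd 22320],
   .loop none [.fwd 36593],
   .loop none [.fwd 36529, .fwd 36371],
   .loop none [.fwd 16620, .bwd 36595, .fwd 20299],
   .loop none [.fwd 36596],
   .loop none [.bwd 35778, .fwd 36595],
   .loop none [.fwd 36495, .fwd 36375, .bwd 24607],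
   .loop none [.fwd 36599],
   .loop none [.bwd 35826, .bwd 36375],
   .loop none [.bwd 35827, .bwd 36375],
   .loop none [.bwd 9536, .fwd 36377, .bwd 26927, .bwd 36584],
   .loop none [.fwd 36603],
   .loop none [.bwd 9804, .fwd 36382, .fwd 16614],
   .loop none [.fwd 36605],
   .loop none [.bwd 27392, .bwd 36386],
   .loop none [.fwd 10306, .bwd 36386],
   .loop none [.bwd 10307, .bwd 36386],
   .loop none [.fwd 15626, .fwd 36390, .bwd 21795],
   .loop none [.fwd 36610],
   .loop none [.bwd 24135, .bwd 36392],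
   .loop none [.fwd 23156, .bwd 36395],
   .loop none [.fwd 5656, .fwd 36395, .bwd 20760],
   .loop none [.fwd 36614],
   .loop none [.bwd 23099, .fwd 36395, .fwd 23157],
   .loop none [.bwd 36616],
   .loop none [.fwd 24699, .bwd 36397],
   .loop none [.fwd 9418, .bwd 36401],
   .loop none [.bwd 35779, .bwd 36407],
   .loop none [.bwd 35780, .bwd 36407],
   .loop none [.fwd 12826, .fwd 36407, .fwd 35781],
   .loop none [.fwd 36622],
   .loop none [.fwd 24414, .bwd 36407],
   .loop none [.bwd 16497, .bwd 36407],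
   .loop none [.bwd 35782, .bwd 36407],
   .loop none [.bwd 35783, .bwd 36407],
   .loop none [.fwd 35866, .fwd 36411, .bwd 25871],
   .loop none [.fwd 36628],
   .loop none [.bwd 14554, .bwd 36413],
   .loop none [.bwd 6722, .bwd 36413],
   .loop none [.bwd 9661, .bwd 36413],
   .loop none [.fwd 9659, .bwd 36413],
   .loop none [.bwd 35091, .bwd 36413],
   .loop none [.fwd 34837, .bwd 36419],
   .loop none [.bwd 36138, .bwd 36419],
   .loop none [.fwd 19384, .bwd 36419],
   .loop none [.fwd 36115, .bwd 36421],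
   .loop none [.bwd 24090, .bwd 36421],
   .loop none [.fwd 13140, .fwd 36423, .bwd 21579],
   .loop none [.fwd 36640],
   .loop none [.fwd 36427, .fwd 36425],
   .loop none [.fwd 18783, .fwd 36642],
   .loop none [.bwd 12522, .bwd 36642, .fwd 16873],
   .loop none [.fwd 36644],
   .loop none [.bwd 18784, .fwd 36642],
   .loop none [.bwd 25213, .fwd 36642],
   .loop none [.bwd 12522, .fwd 36427, .fwd 12559],
   .loop none [.fwd 36648],
   .loop none [.bwd 36647, .fwd 36427, .fwd 15154],
   .loop none [.bwd 36650],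
   .loop none [.bwd 27689, .bwd 36433],
   .loop none [.fwd 10385, .bwd 36441],
   .loop none [.bwd 25257, .bwd 36444],
   .loop none [.fwd 19789, .fwd 36448, .bwd 25653],
   .loop none [.fwd 36655],
   .loop none [.fwd 36428, .bwd 36451],
   .loop none [.fwd 27354, .bwd 36457],
   .loop none [.bwd 22575, .fwd 36472, .fwd 17289],
   .loop none [.fwd 36659],
   .loop none [.bwd 15620, .bwd 36479, .fwd 21789],
   .loop none [.fwd 36661],
   .loop none [.fwd 23768, .fwd 36479],
   .loop none [.fwd 15619, .fwd 36478, .fwd 16408],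
   .loop none [.fwd 36664],
   .loop none [.bwd 36383, .bwd 36478],
   .loop none [.fwd 19519, .bwd 36478],
   .loop none [.fwd 18245, .bwd 36487],
   .loop none [.fwd 11406, .bwd 36489],
   .loop none [.fwd 12109, .bwd 36494],
   .loop none [.bwd 12110, .bwd 36494],
   .loop none [.fwd 36367, .bwd 36497],
   .loop none [.fwd 27268, .bwd 36499],
   .loop none [.bwd 17057, .fwd 36503, .fwd 25905],
   .loop none [.fwd 36674],
   .loop none [.fwd 27362, .bwd 36503],
   .loop none [.bwd 5870, .fwd 36510, .bwd 20221],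
   .loop none [.fwd 36677],
   .loop none [.bwd 18024, .bwd 36515],
   .loop none [.bwd 17122, .fwd 36518, .bwd 20258],
   .loop none [.fwd 36680],
   .loop none [.fwd 36512, .bwd 36518],
   .loop none [.bwd 35835, .bwd 36518],
   .loop none [.bwd 36270, .bwd 36518],
   .loop none [.bwd 16500, .fwd 36521, .fwd 22245],
   .loop none [.fwd 36685],
   .loop none [.bwd 17018, .fwd 36525, .fwd 25901],
   .loop none [.fwd 36687],
   .loop none [.bwd 24829, .bwd 36525],
   .loop none [.fwd 19654, .fwd 36525, .bwd 24834, .bwd 36597],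
   .loop none [.bwd 36690],
   .loop none [.bwd 16255, .bwd 36531],
   .loop none [.fwd 19335, .bwd 36533],
   .loop none [.fwd 23095, .bwd 36537],
   .loop none [.fwd 23098, .bwd 36537],
   .loop none [.bwd 18026, .bwd 36543],
   .loop none [.bwd 18025, .bwd 36543],
   .loop none [.fwd 11408, .bwd 36545],
   .loop none [.bwd 35875, .fwd 36547, .fwd 20301],
   .loop none [.fwd 36699],
   .loop none [.bwd 36485, .bwd 36547],
   .loop none [.fwd 25395, .bwd 36551],
   .loop none [.bwd 13368, .fwd 36558, .fwd 15998],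
   .loop none [.fwd 36703],
   .loop none [.fwd 23885, .fwd 36558, .bwd 19332],
   .loop none [.bwd 36705],
   .loop none [.bwd 23884, .bwd 36560],
   .loop none [.fwd 12527, .fwd 36565, .bwd 12564],
   .loop none [.fwd 36708],
   .loop none [.fwd 14977, .bwd 36565],
   .loop none [.bwd 18778, .fwd 36570, .bwd 23686, .bwd 36709],
   .loop none [.bwd 36711],
   .loop none [.fwd 36566, .bwd 36570],
   .loop none [.bwd 24636, .bwd 36573],
   .loop none [.fwd 17252, .bwd 36573],
   .loop none [.bwd 16315, .bwd 36578],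
   .loop none [.fwd 36678, .fwd 36408, .bwd 36578],
   .loop none [.bwd 19485, .bwd 36578],
   .loop none [.fwd 19567, .bwd 36578],
   .loop none [.fwd 36604, .fwd 36584],
   .loop none [.bwd 27626, .fwd 36720],
   .loop none [.bwd 24321, .bwd 36586],
   .loop none [.fwd 16223, .fwd 36586, .fwd 35018],
   .loop none [.bwd 36723],
   .loop none [.fwd 35660, .bwd 36586],
   .loop none [.fwd 35773, .bwd 36586],
   .loop none [.bwd 14011, .fwd 36589, .fwd 25646],
   .loop none [.fwd 36727],
   .loop none [.fwd 22783, .fwd 36591, .bwd 20145],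
   .loop none [.fwd 36729],
   .loop none [.bwd 25422, .bwd 36594],
   .loop none [.bwd 35916, .bwd 36600],
   .loop none [.bwd 35917, .bwd 36600],
   .loop none [.fwd 35212, .bwd 36600],
   .loop none [.bwd 34222, .fwd 36606, .fwd 16615],
   .loop none [.bwd 36735],
   .loop none [.fwd 23761, .bwd 36611],
   .loop none [.fwd 15625, .fwd 36611, .bwd 21794],
   .loop none [.fwd 36738],
   .loop none [.fwd 23158, .bwd 36615],
   .loop none [.fwd 23099, .bwd 36617],
   .loop none [.fwd 23101, .bwd 36617],
   .loop none [.fwd 33949, .bwd 36623],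
   .loop none [.fwd 22957, .bwd 36623],
   .loop none [.fwd 17469, .bwd 36623],
   .loop none [.fwd 36368, .bwd 36629],
   .loop none [.fwd 13139, .fwd 36641, .bwd 21578],
   .loop none [.fwd 36747],
   .loop none [.fwd 18782, .bwd 36645]]

theorem just146_len : just146.length = 250 := by decide +kernel

theorem just146_ok : cert.okFacts 36500 just146 = true := by decide +kernel

/-- justifications -/
noncomputable def just147 : List Cert.Just :=
  [.loop none [.bwd 12523, .fwd 36645, .fwd 16874],
   .loop none [.fwd 36750],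
   .loop none [.bwd 12523, .fwd 36649, .fwd 12560],
   .loop none [.fwd 36752],
   .loop none [.fwd 36647, .bwd 36651],
   .loop none [.fwd 19788, .fwd 36656, .bwd 25652],
   .loop none [.fwd 36755],
   .loop none [.bwd 17290, .bwd 36660],
   .loop none [.bwd 24129, .fwd 36662, .bwd 23766],
   .loop none [.bwd 36758],
   .loop none [.bwd 23767, .bwd 36662],
   .loop none [.bwd 16409, .bwd 36665],
   .loop none [.bwd 36561, .bwd 36665],
   .loop none [.bwd 36562, .bwd 36665],
   .loop none [.fwd 19520, .bwd 36665],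
   .loop none [.bwd 36205, .fwd 36675, .fwd 25906],
   .loop none [.fwd 36765],
   .loop none [.bwd 36409, .bwd 36678],
   .loop none [.fwd 36672, .bwd 36681],
   .loop none [.fwd 35834, .bwd 36681],
   .loop none [.bwd 16501, .fwd 36686, .fwd 22246],
   .loop none [.fwd 36770],
   .loop none [.fwd 27372, .bwd 36688],
   .loop none [.bwd 16988, .bwd 36691],
   .loop none [.fwd 33564, .bwd 36691],
   .loop none [.fwd 35923, .bwd 36700],
   .loop none [.fwd 19333, .bwd 36704],
   .loop none [.bwd 23885, .bwd 36706],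
   .loop none [.fwd 12526, .fwd 36709, .bwd 12563],
   .loop none [.fwd 36778],
   .loop none [.bwd 15161, .bwd 36709],
   .loop none [.fwd 14976, .bwd 36709],
   .loop none [.fwd 18778, .bwd 36712],
   .loop none [.fwd 12526, .fwd 36712, .bwd 16877],
   .loop none [.fwd 36783],
   .loop none [.fwd 24295, .fwd 36724, .bwd 16222],
   .loop none [.fwd 36785],
   .loop none [.bwd 16223, .bwd 36724],
   .loop none [.bwd 32454, .fwd 36728, .fwd 25647],
   .loop none [.fwd 36788],
   .loop none [.fwd 36045, .fwd 36730, .bwd 20144],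
   .loop none [.fwd 36790],
   .loop none [.bwd 33471, .bwd 36736],
   .loop none [.fwd 34612, .bwd 36736],
   .loop none [.bwd 33474, .bwd 36736],
   .loop none [.fwd 34222, .bwd 36736],
   .loop none [.bwd 33475, .bwd 36736],
   .loop none [.bwd 33476, .bwd 36736],
   .loop none [.fwd 23762, .bwd 36739],
   .loop none [.bwd 24132, .fwd 36739, .fwd 23763],
   .loop none [.bwd 36799],
   .loop none [.bwd 18781, .fwd 36748, .fwd 23683],
   .loop none [.bwd 36801],
   .loop none [.bwd 12524, .fwd 36751, .fwd 16875, .bwd 36802],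
   .loop none [.fwd 36803],
   .loop none [.bwd 25215, .bwd 36751],
   .loop none [.fwd 24513, .bwd 36751],
   .loop none [.bwd 36805, .fwd 36753, .fwd 15156],
   .loop none [.bwd 36807],
   .loop none [.bwd 36806, .fwd 36753, .bwd 14973],
   .loop none [.bwd 36809],
   .loop none [.fwd 19787, .fwd 36756, .bwd 25651],
   .loop none [.fwd 36811],
   .loop none [.fwd 24129, .bwd 36759],
   .loop none [.fwd 12909, .fwd 36759, .bwd 21487],
   .loop none [.fwd 36814],
   .loop none [.fwd 27364, .bwd 36766],
   .loop none [.fwd 25391, .bwd 36771],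
   .loop none [.bwd 15160, .bwd 36779],
   .loop none [.fwd 18779, .bwd 36784],
   .loop none [.fwd 36804, .fwd 36802],
   .loop none [.bwd 18780, .bwd 36784],
   .loop none [.bwd 6644, .fwd 36786, .bwd 16221],
   .loop none [.fwd 36822],
   .loop none [.bwd 16202, .fwd 36789, .fwd 25648],
   .loop none [.fwd 36824],
   .loop none [.fwd 36388, .fwd 36791, .bwd 20143],
   .loop none [.fwd 36826],
   .loop none [.fwd 24132, .bwd 36800],
   .loop none [.fwd 18781, .fwd 36820],
   .loop none [.fwd 36805, .bwd 36808],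
   .loop none [.fwd 36806, .bwd 36810],
   .loop none [.fwd 19786, .fwd 36812, .bwd 25650],
   .loop none [.fwd 36832],
   .loop none [.fwd 24130, .bwd 36815],
   .loop none [.bwd 35321, .fwd 36823, .bwd 16220],
   .loop none [.fwd 36835],
   .loop none [.fwd 33153, .fwd 36825, .fwd 25649, .bwd 36833],
   .loop none [.fwd 36837],
   .loop none [.fwd 20142, .bwd 36827],
   .loop none [.bwd 15681, .fwd 36836, .bwd 16219],
   .loop none [.fwd 36840],
   .loop none [.bwd 33154, .fwd 36838, .fwd 19786],
   .loop none [.fwd 36842],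
   .loop none [.bwd 19097, .fwd 36841, .bwd 16218],
   .loop none [.bwd 36844],
   .loop none [.bwd 24289, .fwd 36843, .fwd 19787],
   .loop none [.fwd 36846],
   .loop none [.fwd 19097, .bwd 36845],
   .loop none [.bwd 33412, .bwd 36845],
   .loop none [.bwd 16769, .bwd 36845],
   .loop none [.fwd 16217, .fwd 36845, .bwd 16768],
   .loop none [.bwd 36851],
   .loop none [.bwd 18367, .bwd 36845],
   .loop none [.fwd 18365, .bwd 36845],
   .loop none [.fwd 24295, .fwd 36847, .fwd 19788],
   .loop none [.fwd 36855],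
   .loop none [.bwd 16217, .bwd 36852],
   .loop none [.bwd 24296, .fwd 36856, .fwd 19789],
   .loop none [.fwd 36858],
   .loop none [.bwd 16208, .fwd 36859, .bwd 36350],
   .loop none [.fwd 36860],
   .loop none [.bwd 17171, .bwd 36861],
   .loop none [.bwd 36349, .bwd 36861],
   .loop none [.bwd 16209, .fwd 36861, .bwd 17170],
   .loop none [.fwd 36864],
   .loop none [.fwd 24635, .bwd 36861],
   .loop none [.bwd 16210, .fwd 36865, .fwd 35803],
   .loop none [.bwd 36867],
   .loop none [.bwd 25007, .bwd 36865],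
   .loop none [.fwd 17169, .bwd 36865],
   .loop none [.fwd 24633, .bwd 36865],
   .loop none [.fwd 16210, .bwd 36868],
   .loop (some (5, 3)) [.fwd 12228, .bwd 31477, .bwd 12759],
   .loop (some (9, 3)) [.bwd 14043, .fwd 14711, .fwd 32746],
   .loop (some (5, 3)) [.fwd 33234, .fwd 31953, .bwd 12797],
   .loop (some (1, 2)) [.fwd 14723, .bwd 36875, .fwd 15097],
   .loop (some (9, 1)) [.fwd 15544, .fwd 36875, .bwd 14704],
   .loop (some (16, 3)) [.fwd 34153, .fwd 13239, .bwd 32952, .bwd 12446, .fwd 33264],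
   .loop (some (1, 0)) [.bwd 33399, .bwd 12447, .fwd 12268],
   .loop (some (5, 3)) [.fwd 12270, .fwd 30848, .bwd 12888],
   .loop (some (9, 1)) [.fwd 15179, .fwd 36880, .fwd 14874],
   .loop (some (16, 3)) [.fwd 24593, .fwd 34858, .bwd 34556, .bwd 18669, .fwd 18799],
   .loop (some (9, 1)) [.fwd 13186, .fwd 36876, .bwd 12397],
   .loop (some (5, 3)) [.bwd 12338, .fwd 36881, .fwd 13099],
   .loop (some (1, 2)) [.fwd 12383, .bwd 36884, .bwd 13167],
   .loop (some (9, 1)) [.fwd 15209, .fwd 36884, .bwd 14725],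
   .loop (some (5, 3)) [.fwd 12345, .fwd 36879, .bwd 13107],
   .loop (some (18, 4)) [.bwd 14467, .fwd 12369, .fwd 12370, .fwd 35597, .bwd 35740],
   .loop (some (15, 0)) [.fwd 35266, .bwd 34701, .bwd 35340, .bwd 12369],
   .loop (some (20, 0)) [.fwd 4471, .fwd 35624, .bwd 36130, .fwd 10170, .fwd 10171, .fwd 36051, .fwd 36022, .bwd 35739],
   .loop (some (1, 2)) [.fwd 12370, .fwd 36890, .bwd 36116],
   .loop (some (9, 1)) [.fwd 9004, .bwd 36890, .fwd 35598],
   .loop (some (1, 0)) [.bwd 35031, .bwd 34439, .fwd 14464],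
   .loop (some (18, 2)) [.bwd 9744, .bwd 9743, .fwd 14464, .fwd 35045, .fwd 15826],
   .loop (some (16, 3)) [.fwd 35142, .fwd 34169, .bwd 14688, .bwd 12388, .fwd 34451],
   .loop (some (1, 2)) [.fwd 34183, .bwd 14688, .fwd 10340],
   .loop (some (9, 1)) [.fwd 12399, .fwd 14688, .bwd 34186],
   .loop (some (9, 1)) [.fwd 12403, .bwd 12390, .fwd 34320],
   .loop (some (9, 1)) [.fwd 15199, .bwd 36883, .bwd 14735],
   .loop (some (16, 3)) [.fwd 35085, .bwd 33398, .bwd 12447, .fwd 12449, .bwd 35295],
   .loop (some (18, 4)) [.bwd 12464, .bwd 36465, .bwd 9697, .bwd 9696, .fwd 35979],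
   .loop (some (17, 5)) [.fwd 12465, .fwd 36638, .fwd 35499, .bwd 20226, .bwd 20225],
   .loop (some (2, 1)) [.fwd 20174, .fwd 36901, .fwd 12465],
   .loop (some (4, 2)) [.fwd 12464, .bwd 36902, .bwd 20224],
   .loop (some (15, 0)) [.fwd 10301, .fwd 10302, .fwd 34719, .fwd 36901],
   .loop (some (20, 0)) [.fwd 15732, .bwd 22776, .bwd 4504, .bwd 4503, .fwd 9254, .fwd 6712, .fwd 6713, .bwd 36638],
   .loop (some (20, 5)) [.fwd 10454, .fwd 10455, .fwd 32372, .fwd 32265, .bwd 7232, .fwd 4458, .fwd 4459, .fwd 11100],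
   .loop (some (16, 3)) [.fwd 35337, .bwd 32743, .bwd 14711, .fwd 14712, .fwd 34054],
   .loop (some (20, 8)) [.fwd 17176, .bwd 35342, .bwd 5911, .bwd 5910, .fwd 34033, .bwd 17542, .fwd 34407, .fwd 20133, .fwd 20134],
   .loop none [.fwd 36909],
   .loop none [.fwd 20134, .bwd 36910],
   .loop none [.bwd 20135, .bwd 36910],
   .loop (some (1, 2)) [.bwd 12519, .bwd 35342, .fwd 5912],
   .loop (some (4, 2)) [.bwd 12519, .bwd 17176, .fwd 36912],
   .loop (some (9, 1)) [.fwd 9548, .fwd 35342, .fwd 35681],
   .loop (some (17, 3)) [.bwd 20137, .bwd 20136, .fwd 36914, .fwd 12520, .fwd 12521, .fwd 36643],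
   .loop none [.bwd 36916],
   .loop none [.fwd 13139, .fwd 36917, .fwd 20138],
   .loop none [.fwd 36918],
   .loop none [.fwd 36829, .fwd 36919, .fwd 20139],
   .loop none [.fwd 36920],
   .loop none [.fwd 12524, .fwd 36921, .fwd 20140],
   .loop none [.fwd 36922],
   .loop none [.bwd 20141, .bwd 36923],
   .loop (some (12, 1)) [.fwd 8985, .bwd 35678, .fwd 36156],
   .loop (some (9, 1)) [.fwd 9549, .fwd 36913, .fwd 36156],
   .loop (some (12, 1)) [.fwd 8988, .bwd 36152, .bwd 36657],
   .loop (some (17, 5)) [.fwd 12528, .fwd 12529, .fwd 36343, .fwd 36076, .bwd 16506],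
   .loop (some (4, 2)) [.fwd 12527, .bwd 36928, .bwd 16505],
   .loop (some (11, 1)) [.bwd 36318, .fwd 36928, .fwd 36710],
   .loop (some (20, 0)) [.bwd 5527, .bwd 5526, .fwd 35296, .bwd 11518, .bwd 34041, .bwd 24376, .fwd 14557, .bwd 12529],
   .loop (some (1, 2)) [.fwd 36713, .fwd 36931, .fwd 5528],
   .loop (some (9, 1)) [.fwd 9462, .bwd 36931, .fwd 36568],
   .loop (some (8, 0)) [.bwd 35684, .bwd 35119, .fwd 14557],
   .loop (some (15, 0)) [.bwd 11518, .bwd 34041, .bwd 24376, .fwd 14557],
   .loop (some (10, 1)) [.bwd 35935, .bwd 36343, .bwd 36482],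
   .loop (some (15, 0)) [.bwd 5686, .bwd 36689, .fwd 17018, .fwd 35562],
   .loop (some (1, 2)) [.bwd 12604, .fwd 35846, .fwd 36912],
   .loop (some (4, 2)) [.bwd 12604, .fwd 35688, .fwd 5912],
   .loop (some (18, 3)) [.bwd 36328, .bwd 14501, .fwd 12607, .bwd 34984, .fwd 35226],
   .loop (some (15, 0)) [.bwd 5485, .bwd 36458, .fwd 12606, .fwd 12607],
   .loop (some (1, 2)) [.bwd 12757, .bwd 36899, .fwd 12226],
   .loop (some (2, 0)) [.fwd 19819, .fwd 4473, .fwd 35430],
   .loop (some (18, 4)) [.bwd 12769, .bwd 35430, .fwd 35392, .fwd 3303, .fwd 3304],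
   .loop (some (3, 1)) [.bwd 12770, .bwd 12769, .fwd 36943],
   .loop (some (9, 3)) [.bwd 15072, .fwd 35885, .fwd 9627],
   .loop (some (10, 2)) [.bwd 36943, .bwd 15072, .bwd 36053],
   .loop (some (2, 1)) [.bwd 3305, .fwd 36944, .fwd 12770],
   .loop (some (1, 0)) [.bwd 6648, .fwd 36946, .fwd 12769],
   .loop (some (12, 1)) [.fwd 8887, .fwd 36944, .bwd 15073],
   .loop (some (9, 1)) [.fwd 9628, .bwd 36949, .bwd 15073],
   .loop (some (16, 0)) [.bwd 14466, .bwd 36252, .bwd 6649, .bwd 36949, .fwd 12770],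
   .loop (some (20, 7)) [.bwd 12772, .bwd 12771, .fwd 36952, .fwd 12369, .fwd 35340, .fwd 34701, .bwd 35266, .fwd 35632, .bwd 15628],
   .loop none [.fwd 36953],
   .loop none [.fwd 15627, .bwd 36954],
   .loop none [.bwd 15628, .bwd 36954],
   .loop none [.bwd 12773, .fwd 36954, .bwd 36612],
   .loop none [.fwd 36957],
   .loop none [.bwd 12774, .fwd 36958, .bwd 36737],
   .loop none [.fwd 36959],
   .loop none [.fwd 12904, .bwd 36958],
   .loop none [.bwd 12905, .bwd 36958],
   .loop none [.bwd 15117, .fwd 36958, .fwd 15075],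
   .loop none [.bwd 36963],
   .loop none [.fwd 15077, .fwd 36958, .bwd 15115],
   .loop none [.bwd 36965],
   .loop none [.fwd 15625, .bwd 36960],
   .loop none [.bwd 15626, .bwd 36960],
   .loop none [.bwd 12821, .bwd 36964],
   .loop none [.fwd 12820, .bwd 36964],
   .loop none [.fwd 15117, .bwd 36964],
   .loop none [.bwd 12907, .bwd 36966],
   .loop none [.fwd 12906, .bwd 36966],
   .loop none [.bwd 15077, .bwd 36966],
   .loop (some (1, 2)) [.fwd 36945, .fwd 36952, .fwd 14467],
   .loop (some (12, 1)) [.fwd 8889, .bwd 36948, .bwd 15074],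
   .loop (some (4, 2)) [.fwd 19818, .fwd 36945, .fwd 12771, .fwd 36970],
   .loop none [.bwd 36977],
   .loop none [.fwd 19817, .bwd 36978],
   .loop none [.bwd 19818, .bwd 36978],
   .loop (some (2, 1)) [.bwd 36955, .bwd 12772, .fwd 36969],
   .loop (some (3, 1)) [.fwd 19816, .bwd 36979, .bwd 36970, .fwd 36969],
   .loop none [.bwd 36982],
   .loop none [.bwd 36981, .fwd 36983, .bwd 19815],
   .loop none [.fwd 36984],
   .loop none [.fwd 19814, .bwd 36985],
   .loop (some (15, 0)) [.bwd 35266, .fwd 35632, .bwd 36956, .bwd 12772],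
   .loop (some (17, 3)) [.bwd 35886, .bwd 36053, .bwd 36956, .fwd 36955, .fwd 36986, .bwd 19813],
   .loop none [.fwd 36988],
   .loop none [.bwd 19813, .bwd 36989],
   .loop none [.fwd 19812, .bwd 36989],
   .loop (some (4, 1)) [.bwd 36986, .bwd 36968, .fwd 12775],
   .loop (some (3, 0)) [.bwd 36991, .fwd 36990, .bwd 36992],
   .loop (some (2, 0)) [.fwd 19811, .bwd 36993, .fwd 12776],
   .loop (some (3, 1)) [.bwd 12778, .bwd 12777, .fwd 36994],
   .loop (some (17, 5)) [.fwd 12778, .fwd 12779, .fwd 36468, .bwd 16461, .bwd 16460],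
   .loop (some (4, 2)) [.fwd 12777, .bwd 36996, .bwd 16459],
   .loop (some (11, 1)) [.fwd 19577, .fwd 36996, .bwd 15081],
   .loop (some (20, 0)) [.bwd 5584, .bwd 5583, .fwd 34999, .fwd 33972, .bwd 4851, .bwd 4850, .bwd 36469, .bwd 12779]]

theorem just147_len : just147.length = 250 := by decide +kernel

theorem just147_ok : cert.okFacts 36750 just147 = true := by decide +kernel

/-- justifications -/
noncomputable def just148 : List Cert.Just :=
  [.loop (some (1, 2)) [.fwd 36995, .fwd 36999, .fwd 5585],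
   .loop (some (9, 1)) [.fwd 9503, .bwd 36999, .bwd 15082],
   .loop (some (15, 0)) [.bwd 10581, .bwd 6794, .bwd 6793, .fwd 33548],
   .loop (some (16, 2)) [.bwd 6711, .fwd 33379, .bwd 12809, .bwd 14405, .fwd 34622],
   .loop (some (17, 5)) [.fwd 12809, .bwd 32497, .fwd 6711, .fwd 6712, .fwd 34622],
   .loop (some (18, 4)) [.bwd 12816, .bwd 35775, .fwd 35640, .fwd 4504, .fwd 4505],
   .loop (some (9, 3)) [.bwd 15109, .bwd 36946, .fwd 9651],
   .loop (some (17, 5)) [.fwd 12817, .fwd 12818, .fwd 36972, .fwd 12908, .fwd 36834],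
   .loop (some (2, 1)) [.bwd 4506, .fwd 37005, .fwd 12817],
   .loop (some (1, 0)) [.bwd 6718, .fwd 37006, .fwd 12816],
   .loop (some (4, 2)) [.fwd 12816, .bwd 37007, .fwd 15622],
   .loop (some (20, 0)) [.bwd 9747, .bwd 9746, .bwd 36888, .bwd 36118, .bwd 4508, .bwd 4507, .bwd 37008, .fwd 12818],
   .loop (some (1, 2)) [.bwd 36973, .fwd 37011, .fwd 9748],
   .loop (some (15, 0)) [.bwd 35943, .bwd 19819, .bwd 36980, .bwd 12819],
   .loop (some (15, 0)) [.bwd 4507, .bwd 37008, .fwd 12818, .fwd 12819],
   .loop (some (11, 3)) [.bwd 15120, .bwd 36997, .fwd 19576],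
   .loop (some (15, 0)) [.bwd 36986, .bwd 36981, .fwd 12822, .fwd 12823],
   .loop (some (1, 2)) [.bwd 36625, .fwd 36620, .fwd 16791],
   .loop (some (5, 1)) [.bwd 11516, .fwd 33062, .fwd 33529],
   .loop (some (5, 1)) [.bwd 35975, .bwd 36915, .bwd 36934],
   .loop (some (15, 0)) [.fwd 34517, .bwd 3315, .bwd 3314, .fwd 35684],
   .loop (some (9, 1)) [.fwd 11554, .bwd 36915, .bwd 15147],
   .loop (some (12, 1)) [.fwd 8987, .bwd 36925, .bwd 15149],
   .loop (some (9, 1)) [.fwd 11557, .bwd 36926, .bwd 15149],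
   .loop (some (12, 1)) [.bwd 36839, .fwd 8989, .bwd 36927, .bwd 15151],
   .loop none [.bwd 37024],
   .loop none [.bwd 12944, .fwd 37025, .bwd 36924],
   .loop none [.bwd 37026],
   .loop none [.fwd 36839, .bwd 37025],
   .loop none [.fwd 12944, .bwd 37027],
   .loop none [.bwd 12945, .bwd 37027],
   .loop none [.fwd 36830, .fwd 37027, .fwd 15152],
   .loop none [.bwd 37031],
   .loop none [.fwd 36831, .fwd 37027, .fwd 36754],
   .loop none [.bwd 37033],
   .loop none [.bwd 12947, .bwd 37032],
   .loop none [.bwd 36643, .fwd 37034, .fwd 12867],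
   .loop none [.bwd 37036],
   .loop none [.bwd 36646, .fwd 37034, .bwd 12866],
   .loop none [.bwd 37038],
   .loop none [.fwd 36643, .bwd 37037],
   .loop none [.bwd 13142, .bwd 37039],
   .loop (some (15, 0)) [.bwd 35556, .fwd 35452, .bwd 37041, .bwd 12865],
   .loop (some (4, 0)) [.fwd 13372, .bwd 36930, .bwd 12870],
   .loop (some (11, 1)) [.bwd 36534, .bwd 37043, .bwd 15159],
   .loop (some (11, 1)) [.bwd 36294, .bwd 36930, .bwd 15162],
   .loop (some (3, 1)) [.bwd 16452, .bwd 36481, .fwd 36936],
   .loop (some (7, 2)) [.bwd 33443, .fwd 33586, .fwd 9691],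
   .loop (some (5, 1)) [.fwd 33620, .fwd 14394, .fwd 33586],
   .loop (some (4, 2)) [.bwd 12902, .fwd 35886, .fwd 36991],
   .loop (some (11, 2)) [.bwd 35886, .bwd 15110, .bwd 37010],
   .loop (some (15, 0)) [.bwd 4404, .bwd 36976, .bwd 36961, .fwd 36962],
   .loop (some (4, 0)) [.fwd 16371, .bwd 36998, .bwd 12910],
   .loop (some (1, 2)) [.fwd 36760, .fwd 37001, .fwd 5684],
   .loop (some (15, 0)) [.fwd 11102, .bwd 12149, .bwd 35784, .bwd 36473],
   .loop (some (15, 0)) [.bwd 9210, .bwd 4413, .bwd 4412, .bwd 36157],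
   .loop (some (17, 5)) [.fwd 12943, .bwd 37029, .fwd 12524, .fwd 12525, .fwd 36819],
   .loop (some (4, 2)) [.fwd 12942, .bwd 37056, .fwd 13136],
   .loop (some (11, 2)) [.fwd 37056, .bwd 36155, .bwd 36914],
   .loop (some (15, 0)) [.bwd 36183, .bwd 3405, .bwd 3404, .bwd 37028],
   .loop (some (15, 0)) [.bwd 3404, .bwd 37028, .bwd 37029, .fwd 37030],
   .loop (some (15, 0)) [.fwd 16413, .fwd 16414, .bwd 37044, .bwd 12949],
   .loop (some (4, 1)) [.bwd 36716, .bwd 13132, .fwd 36076],
   .loop (some (17, 4)) [.bwd 36716, .fwd 13133, .fwd 13134, .bwd 36782, .bwd 36929],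
   .loop (some (15, 0)) [.bwd 35908, .fwd 9536, .bwd 5871, .bwd 36717],
   .loop (some (15, 0)) [.bwd 36904, .bwd 36511, .fwd 27391, .bwd 36579],
   .loop (some (15, 0)) [.bwd 22784, .bwd 37022, .bwd 37056, .bwd 13135],
   .loop (some (13, 2)) [.bwd 13136, .bwd 37058, .bwd 36912],
   .loop (some (15, 0)) [.fwd 27391, .bwd 36579, .fwd 13134, .fwd 13135],
   .loop (some (9, 3)) [.bwd 37058, .fwd 36938, .fwd 14789],
   .loop (some (20, 0)) [.fwd 36262, .fwd 4588, .fwd 4589, .bwd 9210, .bwd 4413, .bwd 4412, .bwd 36157, .bwd 37057],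
   .loop (some (15, 0)) [.fwd 15577, .fwd 33775, .fwd 14449, .fwd 34559],
   .loop (some (16, 1)) [.fwd 19719, .fwd 34381, .bwd 12078, .bwd 34429, .bwd 35038],
   .loop (some (1, 0)) [.bwd 9863, .bwd 12078, .bwd 34786],
   .loop (some (17, 2)) [.fwd 36997, .fwd 36994, .bwd 36033, .fwd 13365, .fwd 13366],
   .loop (some (4, 1)) [.fwd 16461, .bwd 36325, .fwd 13366],
   .loop (some (15, 0)) [.bwd 35512, .bwd 35695, .bwd 36209, .bwd 25415],
   .loop (some (20, 0)) [.fwd 4585, .fwd 35861, .fwd 35203, .bwd 35512, .bwd 35695, .bwd 36209, .bwd 25415, .fwd 13366],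
   .loop (some (2, 2)) [.bwd 13367, .fwd 37074, .bwd 16458],
   .loop (some (1, 2)) [.bwd 37075, .fwd 37077, .fwd 9290],
   .loop (some (9, 1)) [.bwd 35302, .bwd 37077, .bwd 36707],
   .loop (some (10, 1)) [.fwd 19575, .bwd 37074, .bwd 36707],
   .loop (some (3, 1)) [.bwd 13369, .bwd 13368, .bwd 37078],
   .loop (some (15, 0)) [.bwd 36209, .bwd 25415, .fwd 13366, .fwd 13367],
   .loop (some (4, 1)) [.fwd 16457, .fwd 37082, .fwd 13370],
   .loop (some (3, 0)) [.fwd 16455, .fwd 16456, .bwd 37084],
   .loop (some (13, 1)) [.fwd 19573, .bwd 37084, .fwd 36693],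
   .loop (some (15, 0)) [.fwd 12868, .fwd 12869, .fwd 37043, .bwd 13371],
   .loop (some (10, 1)) [.fwd 19569, .bwd 37085, .fwd 36693],
   .loop (some (2, 0)) [.fwd 16454, .bwd 37085, .fwd 13371],
   .loop (some (3, 1)) [.bwd 13373, .bwd 13372, .fwd 37089],
   .loop (some (10, 1)) [.fwd 19568, .bwd 37089, .fwd 36534],
   .loop (some (20, 0)) [.bwd 36689, .fwd 17018, .fwd 35562, .fwd 34696, .bwd 6655, .bwd 6654, .fwd 34969, .bwd 13374],
   .loop (some (1, 2)) [.fwd 37090, .fwd 37092, .fwd 35967],
   .loop (some (13, 1)) [.fwd 19568, .fwd 37090, .fwd 35899],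
   .loop (some (9, 1)) [.bwd 35968, .bwd 37092, .fwd 35899],
   .loop (some (20, 5)) [.fwd 10560, .fwd 10561, .fwd 32295, .bwd 32350, .bwd 6888, .fwd 3396, .fwd 3397, .fwd 11337],
   .loop (some (20, 5)) [.fwd 10524, .fwd 10525, .bwd 32515, .fwd 31551, .fwd 6888, .fwd 3298, .fwd 3299, .fwd 10290],
   .loop (some (18, 4)) [.bwd 15497, .bwd 36176, .bwd 6783, .bwd 6782, .fwd 35982],
   .loop (some (2, 1)) [.fwd 20206, .fwd 37098, .fwd 15498],
   .loop (some (15, 0)) [.bwd 11774, .bwd 35317, .bwd 20207, .fwd 37098],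
   .loop (some (15, 0)) [.bwd 14449, .bwd 33775, .bwd 15577, .fwd 15545],
   .loop (some (15, 0)) [.bwd 35201, .bwd 35866, .fwd 36746, .bwd 36762],
   .loop (some (9, 3)) [.fwd 36667, .bwd 37017, .fwd 35017],
   .loop (some (16, 4)) [.fwd 36813, .bwd 37053, .fwd 5685, .bwd 37092, .bwd 13373],
   .loop (some (20, 4)) [.bwd 20172, .bwd 20171, .fwd 36554, .fwd 15620, .bwd 37053, .bwd 36526, .bwd 36506, .fwd 36507],
   .loop (some (15, 0)) [.bwd 22777, .fwd 37005, .bwd 37007, .bwd 15621],
   .loop (some (15, 0)) [.bwd 20171, .fwd 36554, .fwd 15620, .fwd 15621],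
   .loop (some (20, 0)) [.bwd 23432, .fwd 5664, .fwd 5665, .fwd 34532, .bwd 3456, .bwd 3455, .fwd 35775, .bwd 37010],
   .loop (some (1, 2)) [.fwd 15622, .fwd 37108, .bwd 36527],
   .loop (some (15, 0)) [.fwd 37015, .bwd 12823, .bwd 12822, .fwd 36981],
   .loop (some (15, 0)) [.bwd 36671, .bwd 6647, .bwd 6646, .bwd 33154],
   .loop (some (1, 2)) [.bwd 15687, .bwd 35838, .bwd 36684],
   .loop (some (4, 2)) [.bwd 15687, .bwd 33253, .fwd 9744],
   .loop (some (17, 2)) [.bwd 14469, .bwd 9746, .bwd 9745, .fwd 37113, .fwd 15688, .fwd 15689],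
   .loop none [.fwd 37114],
   .loop none [.fwd 12365, .fwd 37115, .fwd 15690],
   .loop none [.fwd 37116],
   .loop none [.bwd 14471, .fwd 37117, .fwd 15691],
   .loop none [.fwd 37118],
   .loop none [.fwd 9749, .fwd 37119, .fwd 15692],
   .loop none [.fwd 37120],
   .loop none [.bwd 15693, .bwd 37121],
   .loop (some (2, 0)) [.fwd 10202, .fwd 37096, .bwd 10559, .bwd 35626],
   .loop none [.fwd 37123],
   .loop none [.fwd 35614, .fwd 37124, .bwd 15701],
   .loop none [.fwd 37125],
   .loop none [.bwd 35626, .bwd 37124],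
   .loop none [.bwd 19107, .bwd 37124],
   .loop none [.bwd 4411, .fwd 37126, .bwd 15700],
   .loop none [.fwd 37129],
   .loop none [.fwd 19442, .bwd 37126],
   .loop none [.fwd 35479, .fwd 37130, .bwd 15699],
   .loop none [.fwd 37132],
   .loop none [.bwd 3401, .fwd 37133, .bwd 15698],
   .loop none [.fwd 37134],
   .loop none [.bwd 22783, .fwd 37135, .bwd 15697],
   .loop none [.bwd 37136],
   .loop none [.fwd 15696, .fwd 37137, .bwd 35743],
   .loop none [.fwd 37138],
   .loop none [.fwd 22783, .bwd 37137],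
   .loop none [.fwd 15917, .bwd 37137],
   .loop none [.bwd 15918, .bwd 37137],
   .loop none [.fwd 35455, .bwd 37137],
   .loop none [.fwd 23316, .bwd 37137],
   .loop none [.fwd 15695, .fwd 37139, .bwd 36198],
   .loop none [.fwd 37145],
   .loop none [.fwd 36043, .bwd 37139],
   .loop none [.fwd 19253, .bwd 37139],
   .loop none [.fwd 15919, .bwd 37146],
   .loop none [.bwd 36197, .bwd 37146],
   .loop none [.bwd 19282, .bwd 37146],
   .loop (some (20, 0)) [.bwd 36903, .fwd 36638, .bwd 6713, .bwd 6712, .bwd 9254, .fwd 4503, .fwd 4504, .fwd 22776],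
   .loop (some (1, 2)) [.bwd 15733, .fwd 37152, .bwd 20173],
   .loop (some (20, 0)) [.fwd 35632, .bwd 36956, .bwd 12772, .bwd 12771, .fwd 36948, .fwd 3306, .fwd 3307, .bwd 36195],
   .loop (some (1, 2)) [.bwd 36196, .fwd 37154, .bwd 3410],
   .loop (some (9, 1)) [.fwd 8957, .bwd 37154, .bwd 37151],
   .loop (some (16, 5)) [.fwd 35128, .fwd 11074, .fwd 32273, .bwd 34058, .bwd 17387],
   .loop (some (2, 1)) [.bwd 6715, .fwd 35657, .bwd 37157],
   .loop (some (20, 0)) [.bwd 19819, .bwd 36980, .bwd 12819, .bwd 12818, .fwd 37008, .fwd 4507, .fwd 4508, .fwd 36118],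
   .loop (some (16, 5)) [.fwd 34824, .bwd 11063, .fwd 33389, .bwd 33842, .fwd 17177],
   .loop (some (2, 1)) [.bwd 6780, .fwd 35645, .bwd 37160],
   .loop (some (6, 1)) [.fwd 17964, .fwd 37160, .fwd 34825],
   .loop (some (10, 1)) [.fwd 17969, .fwd 37160, .bwd 18791],
   .loop (some (9, 1)) [.bwd 36866, .fwd 33695, .bwd 19315],
   .loop (some (16, 4)) [.bwd 15872, .bwd 34776, .bwd 36872, .fwd 35046, .bwd 4514],
   .loop (some (9, 1)) [.bwd 36871, .fwd 34776, .bwd 19317],
   .loop (some (1, 2)) [.bwd 36132, .bwd 37165, .bwd 4513],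
   .loop (some (9, 1)) [.fwd 9199, .fwd 37165, .bwd 19319],
   .loop (some (9, 1)) [.fwd 8954, .fwd 37155, .bwd 37148],
   .loop (some (5, 0)) [.bwd 37169, .fwd 37147, .bwd 36892],
   .loop (some (1, 2)) [.bwd 15879, .fwd 36892, .bwd 36387],
   .loop (some (6, 2)) [.bwd 36075, .fwd 37170, .fwd 36066],
   .loop (some (9, 1)) [.fwd 8952, .bwd 36892, .bwd 19189],
   .loop (some (9, 1)) [.fwd 9180, .fwd 37171, .bwd 19191],
   .loop (some (20, 0)) [.bwd 36511, .fwd 27391, .bwd 36579, .fwd 13134, .fwd 13135, .fwd 37056, .fwd 37022, .fwd 22784],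
   .loop (some (1, 2)) [.fwd 37142, .fwd 37175, .fwd 20224],
   .loop (some (1, 0)) [.fwd 3312, .bwd 37168, .fwd 36044],
   .loop (some (18, 1)) [.bwd 17291, .bwd 36757, .bwd 15960, .bwd 15959, .fwd 35168, .bwd 16156],
   .loop none [.bwd 37178],
   .loop none [.fwd 17291, .bwd 37179],
   .loop (some (2, 1)) [.bwd 9694, .fwd 35572, .fwd 37163],
   .loop (some (15, 0)) [.bwd 36607, .fwd 36608, .fwd 36434, .fwd 35572],
   .loop (some (16, 2)) [.bwd 36120, .bwd 37177, .fwd 35456, .fwd 37164, .fwd 20206],
   .loop (some (16, 2)) [.bwd 3313, .bwd 37168, .bwd 15961, .fwd 37166, .fwd 36351],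
   .loop (some (9, 1)) [.fwd 8904, .bwd 37168, .bwd 19318],
   .loop (some (5, 2)) [.bwd 37173, .bwd 35942, .fwd 37155],
   .loop (some (20, 0)) [.bwd 36608, .fwd 36607, .bwd 5868, .bwd 5867, .fwd 36414, .fwd 10162, .fwd 10163, .bwd 35092],
   .loop (some (1, 2)) [.fwd 35481, .fwd 37187, .fwd 36435],
   .loop (some (20, 0)) [.bwd 36757, .bwd 22575, .bwd 36950, .bwd 37049, .bwd 19811, .bwd 36033, .bwd 24928, .bwd 36460],
   .loop (some (16, 5)) [.bwd 16050, .bwd 10215, .fwd 31488, .bwd 32853, .bwd 17026],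
   .loop (some (10, 1)) [.fwd 18093, .fwd 37190, .fwd 34398],
   .loop (some (4, 1)) [.fwd 16105, .bwd 16067, .fwd 35876],
   .loop (some (3, 0)) [.fwd 16103, .fwd 16104, .bwd 37192],
   .loop (some (2, 0)) [.fwd 16102, .bwd 37193, .fwd 16086],
   .loop (some (3, 1)) [.bwd 16088, .bwd 16087, .fwd 37194],
   .loop (some (4, 1)) [.fwd 16101, .fwd 37195, .fwd 16089],
   .loop (some (3, 0)) [.fwd 16099, .fwd 16100, .bwd 37196],
   .loop (some (2, 0)) [.fwd 16098, .bwd 37197, .fwd 16090],
   .loop (some (3, 1)) [.bwd 16092, .bwd 16091, .fwd 37198],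
   .loop (some (4, 1)) [.fwd 16097, .fwd 37199, .fwd 16093],
   .loop (some (20, 0)) [.fwd 3303, .fwd 19425, .bwd 15870, .bwd 18264, .fwd 34725, .fwd 33685, .bwd 24290, .fwd 36787],
   .loop (some (2, 1)) [.bwd 36221, .bwd 16224, .fwd 36722],
   .loop (some (1, 2)) [.bwd 36725, .fwd 37201, .bwd 35392],
   .loop (some (15, 0)) [.fwd 24296, .fwd 16208, .fwd 36863, .bwd 16224],
   .loop (some (9, 1)) [.fwd 8882, .bwd 37201, .fwd 36726],
   .loop (some (16, 0)) [.bwd 35584, .bwd 36890, .fwd 12371, .fwd 36893, .bwd 36221],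
   .loop (some (1, 2)) [.bwd 16225, .fwd 37206, .fwd 3304],
   .loop (some (15, 0)) [.fwd 22854, .bwd 36598, .bwd 36491, .fwd 36492],
   .loop (some (11, 0)) [.bwd 23152, .fwd 9504, .fwd 36692],
   .loop (some (12, 0)) [.bwd 20075, .bwd 37209, .fwd 16256],
   .loop (some (13, 2)) [.bwd 16257, .fwd 37210, .fwd 20076],
   .loop (some (20, 0)) [.fwd 5494, .fwd 36289, .fwd 35936, .bwd 35908, .fwd 9536, .bwd 5871, .bwd 36717, .fwd 36716],
   .loop (some (2, 2)) [.bwd 16316, .bwd 37063, .bwd 16504],
   .loop (some (1, 2)) [.fwd 37062, .fwd 37212, .bwd 35831],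
   .loop (some (3, 1)) [.bwd 16318, .bwd 16317, .bwd 37213],
   .loop (some (15, 0)) [.bwd 5871, .bwd 36717, .fwd 36716, .fwd 16316],
   .loop (some (4, 1)) [.fwd 16503, .fwd 37215, .fwd 16319],
   .loop (some (3, 0)) [.fwd 16501, .fwd 16502, .bwd 37217],
   .loop (some (2, 0)) [.fwd 16500, .bwd 37218, .fwd 16320],
   .loop (some (3, 1)) [.bwd 16322, .bwd 16321, .fwd 37219],
   .loop (some (20, 0)) [.bwd 36164, .fwd 4846, .fwd 4847, .fwd 34682, .bwd 5919, .bwd 5918, .fwd 35226, .bwd 16323],
   .loop (some (1, 2)) [.fwd 37220, .fwd 37221, .fwd 35964],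
   .loop (some (15, 0)) [.fwd 36332, .fwd 36653, .fwd 36439, .bwd 24383],
   .loop (some (20, 0)) [.fwd 5539, .fwd 11298, .fwd 36563, .fwd 36332, .fwd 36653, .fwd 36439, .bwd 24383, .fwd 16365],
   .loop (some (15, 0)) [.fwd 12908, .fwd 12909, .fwd 37052, .bwd 16370],
   .loop (some (16, 0)) [.fwd 12871, .fwd 36933, .bwd 34866, .bwd 37080, .fwd 37081],
   .loop (some (1, 2)) [.bwd 16371, .fwd 37226, .bwd 12870],
   .loop (some (9, 1)) [.fwd 15162, .bwd 37226, .bwd 19491],
   .loop (some (9, 1)) [.fwd 15159, .fwd 37227, .bwd 19492],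
   .loop (some (20, 0)) [.bwd 36458, .fwd 12606, .fwd 12607, .fwd 14441, .fwd 34930, .bwd 35532, .bwd 36188, .fwd 36189],
   .loop (some (15, 0)) [.fwd 36746, .bwd 36762, .fwd 36761, .fwd 16410],
   .loop (some (15, 0)) [.fwd 12948, .fwd 12949, .fwd 37044, .bwd 16414],
   .loop (some (16, 0)) [.fwd 12825, .fwd 36743, .fwd 9280, .bwd 37224, .bwd 37091],
   .loop (some (1, 2)) [.bwd 16415, .fwd 37233, .bwd 12824],
   .loop (some (9, 1)) [.fwd 15121, .bwd 37233, .bwd 19526],
   .loop (some (9, 1)) [.fwd 15120, .fwd 37234, .bwd 19527],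
   .loop (some (15, 0)) [.fwd 11398, .bwd 36732, .bwd 36768, .fwd 36769],
   .loop (some (16, 4)) [.fwd 37089, .bwd 37093, .fwd 35327, .bwd 37001, .bwd 12911],
   .loop (some (15, 0)) [.bwd 36768, .fwd 36769, .fwd 16453, .fwd 16454],
   .loop (some (15, 0)) [.fwd 12775, .fwd 12776, .bwd 36997, .bwd 16458],
   .loop (some (16, 0)) [.fwd 12528, .fwd 36931, .bwd 9291, .bwd 37077, .fwd 37074],
   .loop (some (1, 2)) [.bwd 16459, .fwd 37241, .bwd 12527],
   .loop (some (15, 0)) [.fwd 11416, .bwd 36258, .bwd 9815, .fwd 36328],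
   .loop (some (15, 0)) [.bwd 9815, .fwd 36328, .fwd 16499, .fwd 16500],
   .loop (some (15, 0)) [.fwd 12525, .fwd 12526, .bwd 36929, .bwd 16504],
   .loop (some (4, 1)) [.fwd 16687, .bwd 16648, .bwd 36523],
   .loop (some (3, 0)) [.fwd 16685, .fwd 16686, .bwd 37246],
   .loop (some (2, 0)) [.fwd 16684, .bwd 37247, .fwd 16668],
   .loop (some (1, 2)) [.bwd 17056, .fwd 36501, .fwd 36991]]

theorem just148_len : just148.length = 250 := by decide +kernel

theorem just148_ok : cert.okFacts 37000 just148 = true := by decide +kernel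

/-- justifications -/
noncomputable def just149 : List Cert.Just :=
  [.loop (some (12, 2)) [.bwd 17153, .bwd 34865, .bwd 10711],
   .loop (some (15, 0)) [.bwd 36491, .fwd 36492, .bwd 36869, .fwd 36870],
   .loop (some (15, 0)) [.bwd 35974, .bwd 6782, .bwd 6781, .bwd 37161],
   .loop (some (15, 0)) [.bwd 36241, .bwd 6717, .bwd 6716, .bwd 37158],
   .loop (some (15, 0)) [.bwd 36652, .bwd 9696, .bwd 9695, .bwd 37181],
   .loop (some (5, 2)) [.fwd 19729, .bwd 36504, .fwd 36501],
   .loop (some (15, 0)) [.fwd 20053, .fwd 20054, .bwd 24721, .bwd 17524],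
   .loop (some (14, 1)) [.fwd 15122, .fwd 36744, .bwd 37255, .bwd 37050],
   .loop (some (15, 0)) [.bwd 22575, .bwd 36950, .bwd 37049, .bwd 19811],
   .loop (some (20, 4)) [.bwd 36757, .bwd 22575, .bwd 36950, .bwd 37049, .fwd 37249, .fwd 36676, .fwd 36692, .fwd 16256],
   .loop (some (15, 0)) [.fwd 36460, .fwd 24928, .fwd 36033, .fwd 19811],
   .loop (some (16, 2)) [.bwd 36670, .fwd 36946, .fwd 36943, .bwd 36975, .bwd 9745],
   .loop (some (16, 0)) [.fwd 4506, .bwd 37174, .fwd 15969, .fwd 37187, .bwd 36505],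
   .loop (some (18, 4)) [.bwd 19999, .bwd 36507, .bwd 6718, .bwd 6717, .fwd 36149],
   .loop (some (12, 0)) [.bwd 36492, .fwd 9654, .fwd 36507],
   .loop (some (4, 2)) [.bwd 19999, .fwd 37105, .fwd 20173],
   .loop (some (2, 1)) [.fwd 20225, .fwd 37263, .fwd 20000],
   .loop (some (15, 0)) [.bwd 37004, .bwd 20227, .bwd 20226, .fwd 37263],
   .loop (some (5, 0)) [.fwd 37205, .bwd 35482, .bwd 37188],
   .loop (some (6, 2)) [.fwd 20000, .fwd 37268, .bwd 9942],
   .loop (some (15, 0)) [.fwd 35002, .fwd 33945, .bwd 17274, .fwd 33699],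
   .loop (some (15, 0)) [.bwd 4515, .fwd 14892, .bwd 17176, .fwd 36911],
   .loop (some (20, 0)) [.bwd 20075, .bwd 23152, .bwd 36526, .bwd 36506, .fwd 36507, .fwd 37105, .bwd 20172, .bwd 20171],
   .loop (some (1, 2)) [.bwd 36555, .fwd 37272, .fwd 20076],
   .loop (some (15, 0)) [.bwd 37007, .bwd 15621, .bwd 15620, .bwd 36554],
   .loop (some (15, 0)) [.bwd 36506, .fwd 36507, .fwd 37105, .bwd 20172],
   .loop (some (16, 4)) [.bwd 36232, .fwd 37153, .fwd 15734, .fwd 37185, .fwd 4411],
   .loop (some (15, 0)) [.bwd 15620, .bwd 36554, .fwd 20171, .fwd 20172],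
   .loop (some (7, 0)) [.fwd 36135, .fwd 37269, .bwd 37265],
   .loop (some (6, 2)) [.bwd 20174, .fwd 37278, .fwd 15498],
   .loop (some (15, 0)) [.fwd 6712, .fwd 6713, .bwd 36638, .fwd 36903],
   .loop (some (15, 0)) [.fwd 35573, .fwd 37266, .fwd 36902, .bwd 36901],
   .loop (some (15, 0)) [.bwd 37049, .bwd 19811, .bwd 36033, .bwd 24928],
   .loop (some (9, 3)) [.bwd 24889, .fwd 37272, .bwd 37210],
   .loop (some (15, 0)) [.bwd 36033, .bwd 24928, .bwd 36460, .fwd 36461],
   .loop (some (15, 0)) [.fwd 6848, .fwd 6849, .bwd 35636, .fwd 37099],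
   .loop (some (16, 4)) [.bwd 36445, .bwd 37175, .bwd 37149, .fwd 37156, .fwd 3454],
   .loop (some (15, 0)) [.bwd 13134, .fwd 36579, .bwd 27391, .fwd 36511],
   .loop (some (16, 4)) [.bwd 20225, .fwd 37176, .bwd 15696, .fwd 37169, .fwd 36066],
   .loop (some (15, 0)) [.fwd 9691, .fwd 9692, .fwd 35573, .fwd 37266],
   .loop (some (15, 0)) [.bwd 36638, .fwd 36903, .fwd 37265, .bwd 37263],
   .loop (some (15, 0)) [.fwd 5906, .fwd 5907, .fwd 34741, .bwd 37202],
   .loop (some (15, 0)) [.fwd 9885, .fwd 9886, .fwd 11741, .bwd 35985],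
   .define,
   .define,
   .define,
   .loop (some (21, 4)) [.bwd 8202, .fwd 32062, .fwd 31765, .bwd 8044, .bwd 32170, .fwd 37293, .fwd 37294, .fwd 37295],
   .define,
   .define,
   .define,
   .define,
   .define,
   .define,
   .define,
   .define,
   .define,
   .define,
   .define,
   .loop (some (22, 21)) [.bwd 5584, .bwd 35519, .bwd 5496, .bwd 36332, .bwd 36563, .bwd 10315, .bwd 36793, .fwd 36794, .bwd 4569, .fwd 32170, .bwd 32081, .bwd 32141, .fwd 930, .bwd 32489, .bwd 6641, .fwd 32582, .bwd 33639, .bwd 11655, .bwd 11654, .bwd 35113, .fwd 37297, .fwd 37298, .fwd 37299, .fwd 37300, .fwd 37301, .fwd 37302, .fwd 37303, .fwd 37304, .fwd 37305, .fwd 37306, .fwd 37307],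
   .loop (some (7, 1)) [.bwd 37293, .bwd 6635, .fwd 6620],
   .define,
   .loop (some (5, 2)) [.bwd 32350, .bwd 11182, .fwd 37310],
   .define,
   .define,
   .loop (some (8, 2)) [.bwd 3299, .fwd 14417, .fwd 37313],
   .loop (some (15, 0)) [.bwd 10524, .bwd 37097, .bwd 10290, .bwd 3299],
   .define,
   .define,
   .define,
   .define,
   .define,
   .define,
   .loop (some (5, 2)) [.bwd 33278, .bwd 37314, .fwd 37321],
   .define,
   .loop (some (6, 2)) [.fwd 34467, .bwd 37314, .fwd 37323],
   .define,
   .loop (some (14, 2)) [.bwd 37317, .bwd 37316, .bwd 8872, .fwd 37325],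
   .define,
   .define,
   .loop (some (8, 1)) [.bwd 9965, .bwd 8423, .fwd 37327],
   .define,
   .loop (some (6, 2)) [.bwd 3301, .fwd 37320, .fwd 37330],
   .loop (some (14, 3)) [.bwd 37328, .bwd 37327, .bwd 8876, .bwd 33856, .fwd 11892],
   .loop none [.bwd 37332],
   .loop none [.fwd 37328, .bwd 37333],
   .define,
   .define,
   .loop (some (7, 2)) [.bwd 3302, .bwd 37331, .fwd 37336],
   .loop (some (8, 1)) [.bwd 9980, .bwd 8878, .fwd 37335],
   .define,
   .define,
   .define,
   .define,
   .define,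
   .loop (some (19, 5)) [.fwd 37337, .fwd 37339, .fwd 37340, .fwd 37341, .fwd 37342, .fwd 37343],
   .define,
   .define,
   .define,
   .define,
   .loop (some (21, 5)) [.fwd 37343, .fwd 37344, .fwd 37337, .bwd 35392, .fwd 37345, .fwd 37346, .fwd 37347, .fwd 37348],
   .define,
   .loop (some (8, 2)) [.bwd 3303, .fwd 37339, .fwd 37350],
   .loop (some (14, 4)) [.bwd 37339, .bwd 8882, .bwd 35482, .fwd 23403, .bwd 37172],
   .loop none [.bwd 37352],
   .loop none [.bwd 4504, .fwd 37353, .fwd 37350],
   .loop none [.fwd 37354],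
   .loop none [.bwd 37172, .fwd 37353, .fwd 37340],
   .loop none [.fwd 37356],
   .loop none [.fwd 37339, .bwd 37353],
   .loop none [.bwd 37351, .bwd 37355],
   .loop none [.bwd 37341, .bwd 37357],
   .define,
   .define,
   .define,
   .define,
   .define,
   .loop (some (19, 5)) [.fwd 37359, .fwd 37361, .fwd 37362, .fwd 37363, .fwd 37364, .fwd 37365],
   .define,
   .loop (some (6, 2)) [.fwd 35584, .bwd 37359, .bwd 36026],
   .define,
   .define,
   .define,
   .define,
   .define,
   .define,
   .define,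
   .define,
   .define,
   .define,
   .define,
   .define,
   .loop (some (19, 5)) [.bwd 37367, .fwd 37376, .fwd 37377, .fwd 37378, .fwd 37379, .fwd 37380],
   .define,
   .define,
   .loop (some (21, 5)) [.fwd 37380, .fwd 37381, .bwd 37367, .bwd 3304, .bwd 37359, .fwd 4505, .fwd 37382, .fwd 37383],
   .define,
   .define,
   .loop (some (20, 7)) [.fwd 22552, .fwd 37207, .bwd 36492, .fwd 36491, .fwd 36598, .bwd 22854, .fwd 37385, .fwd 37386],
   .define,
   .loop (some (5, 2)) [.bwd 37207, .fwd 37367, .fwd 37388],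
   .define,
   .loop (some (8, 2)) [.bwd 36944, .fwd 37376, .fwd 37390],
   .define,
   .loop (some (6, 2)) [.bwd 3305, .fwd 37367, .fwd 37392],
   .define,
   .define,
   .define,
   .loop (some (9, 2)) [.bwd 37207, .bwd 8887, .fwd 37396],
   .define,
   .define,
   .define,
   .define,
   .define,
   .define,
   .loop (some (19, 5)) [.fwd 37393, .fwd 37399, .fwd 37400, .fwd 37401, .fwd 37402, .fwd 37403],
   .define,
   .define,
   .loop (some (21, 5)) [.fwd 37403, .fwd 37404, .fwd 37393, .fwd 36116, .bwd 37368, .bwd 36380, .fwd 37405, .fwd 37406],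
   .define,
   .define,
   .loop (some (20, 5)) [.fwd 36195, .bwd 3307, .bwd 3306, .fwd 36891, .bwd 12369, .bwd 12368, .fwd 37408, .fwd 37409],
   .define,
   .loop (some (8, 2)) [.fwd 36948, .fwd 37399, .fwd 37411],
   .define,
   .loop (some (14, 2)) [.bwd 37400, .bwd 37399, .bwd 8889, .fwd 37413],
   .define,
   .define,
   .define,
   .define,
   .define,
   .define,
   .define,
   .define,
   .define,
   .define,
   .define,
   .loop (some (22, 14)) [.bwd 17069, .fwd 11024, .bwd 11810, .fwd 11807, .bwd 34599, .fwd 34716, .bwd 10301, .bwd 34746, .bwd 10164, .fwd 11886, .bwd 10524, .bwd 37097, .fwd 11185, .bwd 11877, .bwd 35624, .bwd 4471, .bwd 36116, .bwd 3305, .bwd 22552, .bwd 37387, .fwd 37415, .fwd 37416, .fwd 37417, .fwd 37418, .fwd 37419, .fwd 37420, .fwd 37421, .fwd 37422, .fwd 37423, .fwd 37424, .fwd 37425],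
   .loop (some (15, 0)) [.bwd 36956, .bwd 12772, .bwd 12771, .fwd 36948],
   .define,
   .define,
   .define,
   .define,
   .define,
   .define,
   .loop (some (20, 1)) [.fwd 34701, .bwd 35266, .fwd 35632, .bwd 36956, .bwd 12772, .bwd 12771, .fwd 36948, .fwd 3306, .fwd 37429],
   .loop none [.fwd 37434],
   .loop none [.fwd 37429, .bwd 37435],
   .loop (some (18, 2)) [.bwd 37371, .bwd 37370, .bwd 36131, .fwd 3307, .fwd 3308],
   .define,
   .loop (some (9, 1)) [.fwd 12060, .fwd 37436, .bwd 8891],
   .define,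
   .define,
   .define,
   .define,
   .loop (some (16, 4)) [.bwd 36185, .fwd 37440, .fwd 37441, .fwd 37442, .fwd 37443],
   .define,
   .define,
   .define,
   .loop (some (20, 1)) [.bwd 34701, .bwd 35340, .bwd 12369, .bwd 12368, .fwd 37408, .fwd 37409, .fwd 37410, .fwd 36195, .fwd 37440],
   .loop none [.fwd 37448],
   .loop none [.fwd 37440, .bwd 37449],
   .loop none [.bwd 10177, .fwd 37449, .fwd 37441],
   .loop none [.fwd 37451],
   .loop none [.bwd 32676, .fwd 37452, .fwd 37442],
   .loop none [.fwd 37453],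
   .loop none [.fwd 10490, .fwd 37454, .fwd 37443],
   .loop none [.fwd 37455],
   .loop none [.bwd 37444, .bwd 37456],
   .loop (some (1, 2)) [.bwd 3308, .bwd 37450, .bwd 10176],
   .define,
   .define,
   .define,
   .define,
   .define,
   .define,
   .define,
   .define,
   .define,
   .define,
   .define,
   .define,
   .define,
   .define,
   .define,
   .define,
   .define,
   .define,
   .define,
   .define,
   .define,
   .define,
   .define,
   .define,
   .define,
   .define,
   .define,
   .loop (some (22, 29)) [.bwd 37437, .bwd 3308, .fwd 36185, .bwd 4466, .bwd 36927, .fwd 37460, .fwd 37461, .fwd 37462, .fwd 37463, .fwd 37464, .fwd 37465, .fwd 37466, .fwd 37467, .fwd 37468, .fwd 37469, .fwd 37470, .fwd 37471, .fwd 37472, .fwd 37473, .fwd 37474, .fwd 37475, .fwd 37476, .fwd 37477, .fwd 37478, .fwd 37479, .fwd 37480, .fwd 37481, .fwd 37482, .fwd 37483, .fwd 37484, .fwd 37485],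
   .define,
   .define,
   .define,
   .loop (some (16, 4)) [.bwd 3309, .bwd 37458, .fwd 11924, .fwd 37488, .fwd 37489],
   .define,
   .loop (some (7, 2)) [.bwd 22568, .fwd 37445, .fwd 37491],
   .loop (some (2, 1)) [.bwd 37372, .bwd 37437, .fwd 3309],
   .define,
   .loop (some (5, 2)) [.fwd 37458, .fwd 37445, .fwd 37494],
   .define,
   .loop (some (6, 2)) [.bwd 3309, .fwd 37445, .fwd 37496],
   .loop (some (14, 4)) [.bwd 37487, .bwd 8896, .fwd 35497, .fwd 8999, .fwd 37430],
   .loop none [.bwd 37498]]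

theorem just149_len : just149.length = 250 := by decide +kernel

theorem just149_ok : cert.okFacts 37250 just149 = true := by decide +kernel

/-- justifications -/
noncomputable def just150 : List Cert.Just :=
  [.loop none [.fwd 37487, .bwd 37499],
   .define,
   .define,
   .loop (some (15, 2)) [.fwd 37486, .bwd 37437, .fwd 37501, .fwd 37502],
   .define,
   .define,
   .loop (some (7, 2)) [.bwd 3310, .bwd 37497, .fwd 37505],
   .define,
   .define,
   .loop (some (20, 3)) [.fwd 35603, .fwd 9780, .bwd 36121, .bwd 3311, .bwd 3310, .bwd 37490, .fwd 37507, .fwd 37508],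
   .define,
   .loop (some (5, 2)) [.fwd 37490, .bwd 37497, .fwd 37510],
   .loop (some (1, 1)) [.fwd 10489, .fwd 37457, .fwd 36124, .bwd 37490],
   .loop none [.fwd 37512],
   .loop none [.bwd 37490, .bwd 37513],
   .loop none [.fwd 10488, .fwd 37513, .fwd 37507],
   .loop none [.fwd 37515],
   .loop none [.fwd 37511, .bwd 37513],
   .loop none [.fwd 35706, .fwd 37516, .fwd 37508],
   .loop none [.fwd 37518],
   .loop none [.bwd 37509, .bwd 37519],
   .define,
   .define,
   .loop (some (15, 1)) [.bwd 37374, .bwd 37373, .bwd 37493, .fwd 37522],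
   .loop (some (9, 1)) [.fwd 12045, .fwd 37514, .bwd 8897],
   .define,
   .define,
   .define,
   .define,
   .define,
   .loop (some (19, 5)) [.fwd 37506, .fwd 37525, .fwd 37526, .fwd 37527, .fwd 37528, .fwd 37529],
   .define,
   .define,
   .define,
   .define,
   .define,
   .loop (some (21, 5)) [.fwd 37529, .fwd 37530, .fwd 37506, .bwd 36184, .fwd 37532, .fwd 37533, .fwd 37534, .fwd 37535],
   .define,
   .define,
   .loop (some (20, 3)) [.fwd 37523, .bwd 37374, .bwd 37373, .bwd 37493, .fwd 3310, .fwd 37531, .fwd 37537, .fwd 37538],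
   .define,
   .loop (some (8, 2)) [.bwd 3311, .fwd 37525, .fwd 37540],
   .loop (some (18, 2)) [.bwd 37460, .fwd 36927, .fwd 36184, .fwd 3311, .fwd 3312],
   .define,
   .loop (some (6, 2)) [.bwd 35713, .bwd 37506, .fwd 37543],
   .define,
   .loop (some (9, 2)) [.bwd 37531, .bwd 8899, .fwd 37545],
   .define,
   .loop (some (5, 1)) [.bwd 37545, .fwd 36048, .fwd 37177, .bwd 37541],
   .loop none [.bwd 37548],
   .loop none [.fwd 37545, .bwd 37549],
   .loop none [.bwd 37546, .bwd 37549],
   .define,
   .define,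
   .define,
   .define,
   .define,
   .define,
   .define,
   .define,
   .define,
   .loop (some (22, 29)) [.bwd 37542, .bwd 3312, .fwd 36120, .bwd 4462, .fwd 9225, .fwd 11127, .bwd 11120, .fwd 31362, .bwd 10973, .bwd 32560, .fwd 11063, .bwd 10216, .fwd 11962, .bwd 13962, .fwd 12446, .bwd 6728, .bwd 32684, .fwd 11607, .bwd 33910, .bwd 6654, .fwd 34969, .fwd 37046, .bwd 16452, .fwd 37553, .fwd 37554, .fwd 37555, .fwd 37556, .fwd 37557, .fwd 37558, .fwd 37559, .fwd 37560],
   .define,
   .define,
   .loop (some (7, 2)) [.bwd 35720, .fwd 37547, .fwd 37563],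
   .define,
   .define,
   .define,
   .define,
   .define,
   .define,
   .define,
   .define,
   .define,
   .loop (some (20, 7)) [.bwd 35720, .bwd 37168, .fwd 37568, .fwd 37569, .fwd 37570, .fwd 37571, .fwd 37572, .fwd 37573],
   .loop (some (2, 2)) [.bwd 37461, .bwd 37542, .fwd 3313, .fwd 35684],
   .loop none [.bwd 37575],
   .loop none [.bwd 37462, .bwd 37576],
   .loop (some (8, 2)) [.bwd 37542, .bwd 35251, .bwd 35934],
   .define,
   .loop (some (6, 2)) [.bwd 3313, .fwd 37547, .fwd 37579],
   .define,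
   .define,
   .define,
   .define,
   .loop (some (15, 2)) [.fwd 37561, .bwd 37542, .fwd 37583, .fwd 37584],
   .define,
   .define,
   .define,
   .loop (some (7, 2)) [.bwd 3314, .bwd 37580, .fwd 37588],
   .define,
   .define,
   .define,
   .define,
   .loop (some (5, 2)) [.fwd 37184, .bwd 37580, .fwd 37593],
   .define,
   .loop (some (14, 2)) [.bwd 37587, .fwd 35119, .bwd 8905, .fwd 37595],
   .define,
   .define,
   .define,
   .define,
   .define,
   .define,
   .define,
   .define,
   .define,
   .define,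
   .define,
   .define,
   .define,
   .define,
   .define,
   .define,
   .define,
   .define,
   .define,
   .define,
   .define,
   .loop (some (22, 24)) [.fwd 37409, .fwd 37410, .fwd 36196, .fwd 35736, .bwd 19634, .bwd 4463, .bwd 35685, .bwd 3313, .fwd 35720, .bwd 37574, .fwd 37597, .fwd 37598, .fwd 37599, .fwd 37600, .fwd 37601, .fwd 37602, .fwd 37603, .fwd 37604, .fwd 37605, .fwd 37606, .fwd 37607, .fwd 37608, .fwd 37609, .fwd 37610, .fwd 37611, .fwd 37612, .fwd 37613, .fwd 37614, .fwd 37615, .fwd 37616, .fwd 37617],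
   .define,
   .loop (some (15, 1)) [.bwd 37463, .bwd 37577, .bwd 35684, .fwd 37619],
   .define,
   .define,
   .loop (some (20, 3)) [.fwd 37620, .bwd 37463, .bwd 37577, .bwd 35684, .fwd 3314, .fwd 35129, .bwd 37161, .fwd 37622],
   .define,
   .loop (some (5, 2)) [.bwd 35129, .bwd 37589, .fwd 37624],
   .define,
   .loop (some (6, 2)) [.bwd 34888, .bwd 37589, .fwd 37626],
   .define,
   .loop (some (14, 2)) [.bwd 37621, .fwd 34114, .bwd 8907, .fwd 37628],
   .define,
   .define,
   .define,
   .define,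
   .define,
   .define,
   .define,
   .define,
   .define,
   .define,
   .define,
   .loop (some (22, 23)) [.bwd 17975, .fwd 15883, .bwd 11782, .bwd 9996, .bwd 34739, .bwd 6777, .bwd 9225, .fwd 34940, .fwd 34888, .fwd 11100, .fwd 36907, .bwd 11984, .fwd 11985, .bwd 36068, .bwd 15833, .bwd 36069, .bwd 15734, .bwd 22777, .fwd 37005, .bwd 12816, .fwd 37630, .fwd 37631, .fwd 37632, .fwd 37633, .fwd 37634, .fwd 37635, .fwd 37636, .fwd 37637, .fwd 37638, .fwd 37639, .fwd 37640],
   .define,
   .loop (some (15, 0)) [.bwd 37577, .bwd 35684, .fwd 3314, .fwd 3315],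
   .define,
   .define,
   .define,
   .loop (some (21, 4)) [.fwd 32976, .fwd 31707, .bwd 4773, .bwd 8229, .bwd 33382, .fwd 37644, .fwd 37645, .fwd 37646],
   .define,
   .define,
   .loop (some (21, 2)) [.fwd 10273, .bwd 33425, .bwd 8161, .bwd 8165, .bwd 8187, .fwd 8186, .fwd 8202, .fwd 37649],
   .loop (some (7, 1)) [.bwd 37649, .fwd 33328, .fwd 9685],
   .define,
   .loop (some (5, 2)) [.fwd 31551, .fwd 10627, .fwd 37652],
   .define,
   .define,
   .loop (some (8, 2)) [.bwd 3397, .fwd 14243, .fwd 37655],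
   .define,
   .loop (some (15, 0)) [.bwd 10560, .bwd 37096, .bwd 11337, .bwd 3397],
   .define,
   .define,
   .define,
   .define,
   .define,
   .loop (some (19, 5)) [.fwd 37656, .fwd 37659, .fwd 37660, .fwd 37661, .fwd 37662, .fwd 37663],
   .define,
   .loop (some (7, 2)) [.bwd 11337, .bwd 37656, .fwd 37665],
   .loop (some (21, 6)) [.fwd 37663, .fwd 37664, .fwd 37656, .fwd 3398, .bwd 33786, .fwd 11661, .bwd 33716, .fwd 32829, .bwd 11608],
   .loop none [.bwd 37667],
   .loop none [.bwd 37663, .bwd 37668],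
   .loop none [.fwd 37662, .bwd 37668],
   .loop (some (8, 1)) [.bwd 12344, .fwd 3397, .fwd 37659],
   .define,
   .loop (some (6, 2)) [.fwd 34647, .bwd 37656, .fwd 37672],
   .loop (some (14, 2)) [.bwd 37660, .bwd 37659, .bwd 8925, .fwd 10884],
   .define,
   .define,
   .define,
   .loop (some (8, 2)) [.fwd 11151, .fwd 37676, .fwd 37677],
   .define,
   .define,
   .define,
   .define,
   .define,
   .define,
   .loop (some (19, 5)) [.fwd 34693, .fwd 37680, .fwd 37681, .fwd 37682, .fwd 37683, .fwd 37684],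
   .define,
   .define,
   .define,
   .loop (some (21, 5)) [.fwd 37684, .fwd 37685, .fwd 34693, .bwd 34648, .bwd 37673, .fwd 37686, .fwd 37687, .fwd 37688],
   .define,
   .loop (some (8, 2)) [.bwd 11190, .fwd 37680, .fwd 37690],
   .define,
   .loop (some (15, 0)) [.bwd 35573, .bwd 9692, .bwd 9691, .bwd 11190],
   .define,
   .define,
   .define,
   .define,
   .define,
   .loop (some (19, 5)) [.bwd 35480, .fwd 37694, .fwd 37695, .fwd 37696, .fwd 37697, .fwd 37698],
   .define,
   .define,
   .define,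
   .define,
   .loop (some (21, 5)) [.fwd 37698, .fwd 37699, .bwd 35480, .fwd 35479, .fwd 37700, .fwd 37701, .fwd 37702, .fwd 37703],
   .define,
   .loop (some (8, 2)) [.bwd 3401, .fwd 37694, .fwd 37705],
   .define,
   .define,
   .define,
   .define,
   .define,
   .define,
   .define,
   .define,
   .define,
   .define,
   .define,
   .define,
   .define,
   .define,
   .define,
   .define,
   .loop (some (22, 22)) [.fwd 37062, .bwd 37063, .fwd 36929, .bwd 12526, .fwd 36821, .bwd 13137, .fwd 37057, .fwd 36157, .bwd 35479, .bwd 36056, .fwd 36057, .bwd 10200, .fwd 11955, .bwd 10482, .bwd 34611, .fwd 37707, .fwd 37708, .fwd 37709, .fwd 37710, .fwd 37711, .fwd 37712, .fwd 37713, .fwd 37714, .fwd 37715, .fwd 37716, .fwd 37717, .fwd 37718, .fwd 37719, .fwd 37720, .fwd 37721, .fwd 37722],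
   .define,
   .define,
   .define,
   .loop (some (16, 2)) [.bwd 37552, .fwd 37550, .fwd 36045, .fwd 37725, .fwd 37726],
   .define,
   .loop (some (20, 1)) [.bwd 36901, .bwd 34719, .bwd 10302, .bwd 10301, .bwd 34746, .fwd 19272, .bwd 37141, .fwd 37140, .fwd 37725],
   .loop none [.fwd 37729],
   .loop none [.fwd 37725, .bwd 37730],
   .loop none [.bwd 12465, .fwd 37730, .fwd 37726],
   .loop none [.fwd 37732],
   .loop none [.bwd 36906, .fwd 37733, .fwd 37727],
   .loop none [.fwd 37734],
   .loop none [.fwd 36067, .fwd 37735, .bwd 37552],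
   .loop none [.fwd 37736],
   .loop none [.bwd 35504, .fwd 37735, .fwd 37590],
   .loop none [.fwd 37738],
   .loop none [.bwd 37550, .bwd 37737],
   .loop none [.fwd 15833, .fwd 37737, .bwd 37540],
   .loop none [.fwd 37741],
   .loop none [.bwd 15834, .fwd 37737, .fwd 37565],
   .loop none [.fwd 37743],
   .loop none [.bwd 19001, .fwd 37737, .fwd 37551],
   .loop none [.fwd 37745],
   .loop none [.fwd 35053, .fwd 37739, .fwd 37591],
   .loop none [.fwd 37747],
   .loop none [.fwd 37525, .bwd 37742]]

theorem just150_len : just150.length = 250 := by decide +kernel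

theorem just150_ok : cert.okFacts 37500 just150 = true := by decide +kernel

/-- justifications -/
noncomputable def just151 : List Cert.Just :=
  [.loop none [.fwd 34968, .fwd 37744, .fwd 37566],
   .loop none [.fwd 37750],
   .loop none [.fwd 15925, .fwd 37746, .fwd 37537],
   .loop none [.fwd 37752],
   .loop none [.bwd 37592, .bwd 37748],
   .loop none [.bwd 37567, .bwd 37751],
   .loop none [.fwd 22708, .fwd 37753, .fwd 37538],
   .loop none [.fwd 37756],
   .loop none [.bwd 37539, .bwd 37757],
   .loop (some (1, 2)) [.bwd 3402, .bwd 37731, .bwd 12464],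
   .define,
   .loop (some (6, 2)) [.fwd 36045, .bwd 37706, .fwd 37760],
   .define,
   .loop (some (14, 2)) [.bwd 37724, .bwd 35461, .bwd 8938, .fwd 37762],
   .define,
   .define,
   .define,
   .define,
   .define,
   .define,
   .loop (some (16, 4)) [.bwd 3403, .bwd 37759, .fwd 37767, .fwd 37768, .fwd 37769],
   .define,
   .loop (some (7, 2)) [.bwd 22784, .fwd 37728, .fwd 37771],
   .define,
   .define,
   .define,
   .loop (some (20, 7)) [.bwd 22784, .bwd 37759, .bwd 36465, .fwd 36431, .fwd 36347, .bwd 35957, .fwd 12361, .fwd 37775],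
   .define,
   .loop (some (5, 2)) [.fwd 37759, .fwd 37728, .fwd 37777],
   .define,
   .loop (some (6, 2)) [.bwd 3403, .fwd 37728, .fwd 37779],
   .define,
   .loop (some (15, 0)) [.fwd 13134, .fwd 13135, .fwd 37056, .fwd 37022],
   .define,
   .loop (some (9, 2)) [.fwd 37759, .bwd 8941, .fwd 37783],
   .define,
   .define,
   .define,
   .loop (some (7, 2)) [.bwd 3404, .bwd 37780, .fwd 37787],
   .define,
   .define,
   .loop (some (20, 1)) [.bwd 37572, .bwd 37571, .bwd 37570, .bwd 37569, .bwd 37568, .bwd 36183, .bwd 3405, .bwd 3404, .bwd 37770],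
   .loop none [.fwd 37791],
   .loop none [.bwd 37770, .bwd 37792],
   .loop (some (1, 1)) [.bwd 15834, .fwd 37740, .bwd 36388, .bwd 37793],
   .loop none [.fwd 37794],
   .loop none [.bwd 37793, .bwd 37795],
   .loop none [.bwd 35625, .fwd 37795, .fwd 37573],
   .loop none [.fwd 37797],
   .loop none [.bwd 37574, .bwd 37798],
   .loop none [.fwd 10452, .fwd 37798, .fwd 37597],
   .loop none [.fwd 37800],
   .loop none [.fwd 11985, .fwd 37801, .fwd 37598],
   .loop none [.fwd 37802],
   .loop none [.fwd 10249, .fwd 37803, .fwd 37599],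
   .loop none [.fwd 37804],
   .loop none [.bwd 14679, .fwd 37805, .fwd 37600],
   .loop none [.fwd 37806],
   .loop none [.bwd 33377, .fwd 37807, .fwd 37601],
   .loop none [.fwd 37808],
   .loop none [.bwd 10978, .fwd 37809, .fwd 37602],
   .loop none [.fwd 37810],
   .loop none [.bwd 10993, .fwd 37811, .fwd 37603],
   .loop none [.fwd 37812],
   .loop none [.bwd 11786, .fwd 37813, .fwd 37604],
   .loop none [.fwd 37814],
   .loop none [.bwd 17386, .fwd 37815, .fwd 37605],
   .loop none [.fwd 37816],
   .loop none [.bwd 37157, .fwd 37817, .fwd 37606],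
   .loop none [.fwd 37818],
   .loop none [.fwd 18934, .fwd 37819, .fwd 37607],
   .loop none [.fwd 37820],
   .loop none [.bwd 37608, .bwd 37821],
   .loop (some (18, 1)) [.bwd 37582, .bwd 4410, .bwd 4409, .bwd 36388, .bwd 37028],
   .define,
   .define,
   .loop (some (15, 1)) [.bwd 37030, .fwd 37029, .fwd 37028, .fwd 37825],
   .loop (some (9, 1)) [.fwd 18942, .fwd 37796, .bwd 8942],
   .define,
   .define,
   .define,
   .define,
   .define,
   .loop (some (20, 3)) [.fwd 37826, .bwd 37030, .fwd 37029, .fwd 37028, .fwd 3404, .fwd 37830, .fwd 37831, .fwd 37832],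
   .define,
   .loop (some (5, 2)) [.bwd 37830, .bwd 37788, .fwd 37834],
   .define,
   .loop (some (8, 2)) [.bwd 3405, .fwd 37829, .fwd 37836],
   .loop (some (1, 1)) [.bwd 10452, .bwd 37524, .bwd 36058, .fwd 37830],
   .loop none [.fwd 37838],
   .loop none [.fwd 37830, .bwd 37839],
   .loop none [.bwd 37799, .fwd 37839, .fwd 37831],
   .loop none [.fwd 37841],
   .loop none [.bwd 34779, .fwd 37839, .bwd 37835],
   .loop none [.fwd 37843],
   .loop none [.fwd 35720, .fwd 37842, .fwd 37832],
   .loop none [.fwd 37845],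
   .loop none [.fwd 37834, .bwd 37844],
   .loop none [.bwd 37542, .fwd 37846, .fwd 37833],
   .loop none [.fwd 37848],
   .loop none [.fwd 37561, .fwd 37849, .fwd 37826],
   .loop none [.bwd 37850],
   .loop none [.fwd 37825, .bwd 37849],
   .loop none [.fwd 37030, .fwd 37851, .bwd 37585],
   .loop none [.fwd 37853],
   .loop none [.bwd 37029, .fwd 37854, .bwd 37584],
   .loop none [.fwd 37855],
   .loop none [.fwd 37583, .bwd 37856],
   .loop (some (18, 3)) [.bwd 37764, .bwd 37521, .bwd 36058, .fwd 3405, .fwd 3406, .fwd 37758],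
   .loop none [.bwd 37858],
   .loop none [.bwd 37765, .bwd 37859],
   .define,
   .loop (some (6, 2)) [.fwd 36065, .bwd 37788, .fwd 37861],
   .define,
   .loop (some (15, 0)) [.bwd 37569, .bwd 37568, .bwd 36183, .bwd 3405],
   .loop (some (9, 1)) [.fwd 12031, .fwd 37840, .bwd 8944],
   .define,
   .loop (some (16, 0)) [.fwd 9782, .bwd 37018, .bwd 10427, .bwd 37439, .bwd 36182],
   .loop (some (1, 2)) [.bwd 3406, .fwd 37867, .bwd 9781],
   .define,
   .loop (some (6, 2)) [.bwd 36182, .bwd 37837, .fwd 37869],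
   .define,
   .define,
   .loop (some (15, 0)) [.fwd 37029, .fwd 37028, .fwd 3404, .fwd 3405],
   .loop (some (9, 1)) [.fwd 11684, .bwd 37867, .bwd 8946],
   .define,
   .define,
   .define,
   .loop (some (16, 4)) [.bwd 3407, .bwd 37868, .fwd 11683, .fwd 37876, .fwd 37877],
   .loop (some (2, 1)) [.bwd 37860, .bwd 37758, .fwd 3407],
   .loop (some (9, 1)) [.fwd 11681, .fwd 37868, .bwd 8949],
   .loop (some (20, 1)) [.bwd 10425, .bwd 35717, .bwd 10140, .bwd 10139, .fwd 35731, .bwd 35941, .bwd 3409, .bwd 3408, .bwd 37878],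
   .loop none [.fwd 37881],
   .loop none [.bwd 37878, .bwd 37882],
   .define,
   .define,
   .define,
   .loop (some (20, 7)) [.bwd 37879, .fwd 3408, .bwd 36892, .bwd 15878, .bwd 22568, .fwd 37437, .bwd 37486, .bwd 37503, .bwd 37502],
   .loop none [.bwd 37887],
   .loop none [.fwd 37879, .bwd 37888],
   .define,
   .loop (some (8, 2)) [.bwd 3409, .fwd 37884, .fwd 37890],
   .loop (some (14, 5)) [.bwd 8952, .fwd 37368, .fwd 9001, .bwd 37186, .bwd 37492],
   .loop none [.fwd 37892],
   .loop none [.fwd 3408, .fwd 37893, .bwd 37491],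
   .loop none [.fwd 37894],
   .loop none [.bwd 37884, .fwd 37893, .fwd 37492],
   .loop none [.bwd 37896],
   .loop none [.fwd 37883, .fwd 37895, .fwd 37494],
   .loop none [.fwd 37898],
   .loop none [.fwd 3407, .fwd 37895, .fwd 37496],
   .loop none [.fwd 37900],
   .loop none [.fwd 36052, .fwd 37895, .fwd 37446],
   .loop none [.fwd 37902],
   .loop none [.bwd 15878, .fwd 37897, .fwd 37890],
   .loop none [.fwd 37904],
   .loop none [.fwd 37884, .bwd 37897],
   .loop none [.bwd 37495, .bwd 37899],
   .loop none [.fwd 37868, .fwd 37901, .fwd 37510],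
   .loop none [.fwd 37908],
   .loop none [.bwd 22708, .fwd 37901, .fwd 37505],
   .loop none [.fwd 37910],
   .loop none [.fwd 37870, .fwd 37903, .fwd 37447],
   .loop none [.bwd 37912],
   .loop none [.bwd 37891, .bwd 37905],
   .loop none [.fwd 37517, .bwd 37909],
   .loop none [.bwd 35456, .fwd 37911, .fwd 37543],
   .loop none [.fwd 37916],
   .loop none [.bwd 37506, .bwd 37911],
   .loop none [.fwd 36048, .fwd 37911, .bwd 37530],
   .loop none [.fwd 37919],
   .loop none [.bwd 37870, .bwd 37913],
   .loop none [.bwd 37724, .fwd 37917, .fwd 37544],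
   .loop none [.bwd 37922],
   .loop none [.fwd 37761, .fwd 37920, .bwd 37529],
   .loop none [.bwd 37924],
   .loop none [.fwd 37724, .bwd 37923],
   .loop none [.fwd 8984, .fwd 37923, .bwd 37763],
   .loop none [.fwd 37927],
   .loop none [.fwd 37760, .bwd 37925],
   .loop none [.fwd 37536, .fwd 37925, .fwd 37789],
   .loop none [.fwd 37930],
   .loop none [.fwd 37706, .fwd 37928, .bwd 37762],
   .loop none [.bwd 37932],
   .loop none [.bwd 37790, .bwd 37931],
   .loop none [.fwd 35594, .fwd 37933, .bwd 37929],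
   .loop none [.fwd 37935],
   .loop none [.fwd 3444, .fwd 37933, .bwd 37705],
   .loop none [.fwd 37937],
   .loop none [.bwd 3445, .fwd 37933, .fwd 37773],
   .loop none [.fwd 37939],
   .loop none [.fwd 36119, .fwd 37936, .bwd 37536],
   .loop none [.fwd 37941],
   .loop none [.fwd 37694, .bwd 37938],
   .loop none [.bwd 37774, .bwd 37940],
   .loop none [.bwd 37824, .fwd 37942, .bwd 37535],
   .loop none [.bwd 37945],
   .loop none [.bwd 37934, .bwd 37942],
   .loop none [.fwd 37824, .bwd 37946],
   .define,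
   .define,
   .define,
   .define,
   .loop (some (19, 4)) [.bwd 37170, .fwd 37914, .fwd 35942, .fwd 37950, .fwd 37951, .fwd 37952],
   .define,
   .define,
   .define,
   .define,
   .loop (some (21, 5)) [.fwd 37953, .bwd 37170, .fwd 37914, .fwd 3410, .fwd 37954, .fwd 37955, .fwd 37956, .fwd 37957],
   .loop (some (6, 3)) [.bwd 35940, .bwd 37914, .fwd 36075, .fwd 37360],
   .loop none [.fwd 37959],
   .loop none [.fwd 35482, .fwd 37960, .fwd 37342],
   .loop none [.fwd 37961],
   .loop none [.fwd 37360, .bwd 37960],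
   .loop none [.bwd 35481, .fwd 37962, .bwd 37349],
   .loop none [.fwd 37964],
   .loop none [.fwd 37348, .bwd 37965],
   .loop (some (15, 0)) [.bwd 37502, .fwd 37889, .fwd 3408, .fwd 3409],
   .define,
   .define,
   .define,
   .define,
   .define,
   .loop (some (19, 5)) [.bwd 37954, .fwd 37968, .fwd 37969, .fwd 37970, .fwd 37971, .fwd 37972],
   .loop (some (6, 1)) [.bwd 17971, .bwd 3411, .fwd 37954],
   .define,
   .define,
   .loop (some (12, 2)) [.bwd 35632, .bwd 8957, .fwd 37976],
   .loop (some (15, 0)) [.fwd 12771, .fwd 12772, .fwd 36956, .bwd 35632],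
   .define,
   .define,
   .define,
   .define,
   .loop (some (19, 4)) [.fwd 35006, .bwd 17971, .fwd 37979, .fwd 37980, .fwd 37981, .fwd 37982],
   .define,
   .define,
   .loop (some (21, 5)) [.fwd 37983, .fwd 35006, .bwd 17971, .fwd 35518, .fwd 37963, .fwd 35599, .fwd 37984, .fwd 37985],
   .define,
   .define,
   .loop (some (15, 1)) [.bwd 37872, .bwd 35886, .fwd 35887, .fwd 37988],
   .define,
   .define,
   .define,
   .define,
   .loop (some (21, 5)) [.fwd 35090, .bwd 34386, .fwd 17537, .fwd 34644, .fwd 37990, .fwd 37991, .fwd 37992, .fwd 37993],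
   .define,
   .define,
   .define,
   .define,
   .loop (some (21, 4)) [.fwd 33044, .fwd 31765, .bwd 8044, .bwd 8153, .fwd 8161, .fwd 37996, .fwd 37997, .fwd 37998]]

theorem just151_len : just151.length = 250 := by decide +kernel

theorem just151_ok : cert.okFacts 37750 just151 = true := by decide +kernel

/-- justifications -/
noncomputable def just152 : List Cert.Just :=
  [.define,
   .define,
   .define,
   .loop (some (21, 4)) [.fwd 33313, .fwd 32046, .fwd 31707, .bwd 4773, .bwd 32721, .fwd 38000, .fwd 38001, .fwd 38002],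
   .define,
   .define,
   .define,
   .loop (some (5, 2)) [.bwd 32673, .fwd 38005, .fwd 38006],
   .define,
   .loop (some (8, 2)) [.fwd 7347, .fwd 37679, .fwd 38008],
   .define,
   .loop (some (6, 2)) [.bwd 3442, .fwd 38005, .fwd 38010],
   .loop (some (7, 1)) [.fwd 3400, .bwd 37943, .bwd 3443, .bwd 38011],
   .loop none [.fwd 38012],
   .loop none [.fwd 3399, .fwd 38013, .bwd 38010],
   .loop none [.fwd 38014],
   .loop none [.bwd 37680, .fwd 38013, .fwd 38011],
   .loop none [.bwd 38016],
   .loop none [.bwd 33489, .fwd 38015, .fwd 38006],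
   .loop none [.fwd 38018],
   .loop none [.bwd 37676, .fwd 38015, .bwd 38005],
   .loop none [.bwd 38020],
   .loop none [.bwd 8971, .fwd 38017, .fwd 37690],
   .loop none [.fwd 38022],
   .loop none [.bwd 37692, .fwd 38017, .fwd 37681],
   .loop none [.bwd 38024],
   .loop none [.fwd 37680, .bwd 38017],
   .loop none [.bwd 38007, .bwd 38019],
   .loop none [.fwd 7347, .fwd 38021, .fwd 37677],
   .loop none [.fwd 38028],
   .loop none [.fwd 37676, .bwd 38021],
   .loop none [.bwd 37691, .bwd 38023],
   .loop none [.fwd 37692, .bwd 38025],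
   .loop none [.bwd 37678, .bwd 38029],
   .define,
   .loop (some (8, 2)) [.bwd 8971, .bwd 38032, .fwd 38034],
   .define,
   .loop (some (7, 2)) [.bwd 22689, .fwd 37944, .fwd 38036],
   .define,
   .define,
   .define,
   .define,
   .loop (some (20, 5)) [.bwd 37113, .bwd 36894, .bwd 22689, .fwd 37783, .fwd 38038, .fwd 38039, .fwd 38040, .fwd 38041],
   .define,
   .loop (some (5, 2)) [.bwd 37783, .fwd 37944, .fwd 38043],
   .define,
   .loop (some (8, 2)) [.fwd 35678, .fwd 37781, .fwd 38045],
   .define,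
   .define,
   .loop (some (15, 2)) [.fwd 36914, .fwd 35678, .fwd 38047, .fwd 38048],
   .define,
   .define,
   .loop (some (7, 2)) [.bwd 3447, .fwd 37947, .fwd 38051],
   .define,
   .define,
   .loop (some (20, 5)) [.bwd 36126, .bwd 3448, .bwd 3447, .fwd 37827, .fwd 18921, .bwd 16263, .fwd 38053, .fwd 38054],
   .define,
   .loop (some (15, 1)) [.bwd 12522, .bwd 12521, .fwd 36152, .fwd 38056],
   .define,
   .define,
   .define,
   .loop (some (16, 4)) [.fwd 36117, .fwd 37865, .fwd 10559, .fwd 38059, .fwd 38060],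
   .loop (some (20, 4)) [.fwd 38057, .bwd 12522, .bwd 12521, .fwd 36152, .fwd 3447, .fwd 37865, .bwd 37127, .bwd 35614, .fwd 37582],
   .loop none [.bwd 38062],
   .loop none [.fwd 38056, .bwd 38063],
   .define,
   .loop (some (5, 2)) [.bwd 37865, .bwd 38052, .fwd 38065],
   .define,
   .loop (some (8, 2)) [.bwd 3448, .fwd 37863, .fwd 38067],
   .loop (some (1, 2)) [.bwd 35611, .fwd 37865, .bwd 10558],
   .define,
   .loop (some (6, 2)) [.fwd 36117, .bwd 38052, .fwd 38070],
   .loop (some (15, 0)) [.fwd 38054, .fwd 38055, .bwd 36126, .bwd 3448],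
   .define,
   .define,
   .loop (some (5, 2)) [.bwd 37874, .bwd 38068, .fwd 38074],
   .define,
   .loop (some (6, 2)) [.bwd 36125, .bwd 38068, .fwd 38076],
   .define,
   .loop (some (7, 1)) [.fwd 3310, .bwd 37749, .bwd 22703, .fwd 38073],
   .loop none [.fwd 38079],
   .loop none [.bwd 37504, .fwd 38080, .bwd 38073],
   .loop none [.bwd 38081],
   .loop none [.fwd 37504, .bwd 38082],
   .loop (some (20, 3)) [.fwd 36029, .fwd 10451, .bwd 36068, .bwd 15833, .bwd 22703, .fwd 37880, .bwd 10200, .bwd 35484],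
   .loop (some (6, 3)) [.bwd 3450, .fwd 38083, .bwd 3309, .bwd 37500],
   .loop none [.fwd 38085],
   .loop none [.fwd 36070, .fwd 38086, .fwd 37431],
   .loop none [.fwd 38087],
   .loop none [.fwd 38077, .fwd 38088, .fwd 37432],
   .loop none [.bwd 38089],
   .loop none [.bwd 38077, .bwd 38090],
   .define,
   .define,
   .loop (some (21, 4)) [.fwd 15695, .fwd 37147, .bwd 37906, .fwd 37186, .bwd 36380, .fwd 37405, .fwd 38092, .fwd 38093],
   .loop (some (8, 2)) [.fwd 37953, .bwd 3452, .fwd 37368, .fwd 4471],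
   .loop none [.bwd 38095],
   .loop none [.bwd 4472, .fwd 38096, .bwd 37958],
   .loop none [.fwd 38097],
   .loop none [.bwd 37953, .bwd 38096],
   .loop none [.fwd 37957, .bwd 38098],
   .loop (some (6, 2)) [.fwd 37366, .bwd 36026, .bwd 37186, .fwd 35736],
   .loop none [.bwd 38101],
   .loop none [.bwd 37366, .bwd 38102],
   .define,
   .loop (some (22, 20)) [.fwd 37989, .bwd 37872, .fwd 36991, .bwd 36993, .bwd 12775, .fwd 36967, .bwd 36828, .bwd 36972, .bwd 12818, .fwd 37008, .fwd 36380, .fwd 36026, .fwd 22776, .bwd 15732, .fwd 35504, .bwd 15835, .fwd 35625, .fwd 37799, .bwd 9781, .fwd 11683, .bwd 10548, .bwd 8409, .bwd 6775, .fwd 11120, .bwd 33653, .bwd 11833, .fwd 33865, .bwd 37160, .fwd 37622, .fwd 37623, .fwd 38104],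
   .define,
   .define,
   .define,
   .define,
   .define,
   .define,
   .loop (some (19, 5)) [.fwd 14174, .fwd 37975, .fwd 38108, .fwd 38109, .fwd 38110, .fwd 38111],
   .define,
   .define,
   .loop (some (21, 5)) [.fwd 38111, .fwd 38112, .fwd 14174, .bwd 3453, .bwd 38099, .fwd 4472, .fwd 38113, .fwd 38114],
   .define,
   .loop (some (2, 3)) [.bwd 37976, .fwd 3454, .fwd 35775, .fwd 37630],
   .loop none [.bwd 38117],
   .loop none [.fwd 37976, .bwd 38118],
   .loop none [.bwd 37977, .bwd 38118],
   .define,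
   .loop (some (5, 2)) [.fwd 37156, .bwd 14174, .fwd 38121],
   .loop (some (14, 2)) [.bwd 38108, .bwd 37975, .bwd 9008, .fwd 38100],
   .define,
   .define,
   .define,
   .define,
   .define,
   .define,
   .loop (some (19, 5)) [.bwd 14173, .fwd 37987, .fwd 38126, .fwd 38127, .fwd 38128, .fwd 38129],
   .define,
   .loop (some (21, 5)) [.fwd 38129, .fwd 38130, .bwd 14173, .fwd 35640, .fwd 37358, .bwd 35392, .fwd 37345, .fwd 38131],
   .define,
   .loop (some (5, 2)) [.bwd 37286, .fwd 14173, .fwd 38133],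
   .define,
   .loop (some (14, 2)) [.bwd 38126, .bwd 37987, .bwd 9010, .fwd 38135],
   .define,
   .define,
   .define,
   .define,
   .define,
   .loop (some (19, 5)) [.fwd 11199, .fwd 37995, .fwd 38138, .fwd 38139, .fwd 38140, .fwd 38141],
   .define,
   .define,
   .define,
   .define,
   .loop (some (21, 5)) [.fwd 38141, .fwd 38142, .fwd 11199, .fwd 34798, .fwd 38143, .fwd 38144, .fwd 38145, .fwd 38146],
   .define,
   .loop (some (5, 2)) [.bwd 34641, .bwd 11199, .fwd 38148],
   .define,
   .define,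
   .define,
   .define,
   .define,
   .define,
   .define,
   .define,
   .define,
   .define,
   .define,
   .define,
   .define,
   .define,
   .define,
   .define,
   .define,
   .define,
   .define,
   .define,
   .define,
   .define,
   .loop (some (22, 23)) [.fwd 18339, .fwd 15838, .bwd 11786, .fwd 32727, .bwd 34622, .bwd 6712, .bwd 9254, .bwd 34798, .fwd 34795, .fwd 11379, .fwd 38151, .fwd 38152, .fwd 38153, .fwd 38154, .fwd 38155, .fwd 38156, .fwd 38157, .fwd 38158, .fwd 38159, .fwd 38160, .fwd 38161, .fwd 38162, .fwd 38163, .fwd 38164, .fwd 38165, .fwd 38166, .fwd 38167, .fwd 38168, .fwd 38169, .fwd 38170, .fwd 38171],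
   .define,
   .loop (some (15, 0)) [.fwd 37010, .bwd 35775, .fwd 3455, .fwd 3456],
   .define,
   .define,
   .define,
   .define,
   .define,
   .define,
   .define,
   .define,
   .define,
   .define,
   .loop (some (22, 21)) [.bwd 5683, .bwd 35642, .bwd 5663, .fwd 35908, .bwd 35936, .bwd 12116, .fwd 36331, .bwd 34206, .bwd 8198, .bwd 8185, .bwd 33352, .fwd 33353, .fwd 33152, .fwd 11131, .bwd 6847, .fwd 32411, .bwd 14663, .fwd 11661, .bwd 11067, .bwd 34180, .bwd 16156, .fwd 37180, .fwd 38176, .fwd 38177, .fwd 38178, .fwd 38179, .fwd 38180, .fwd 38181, .fwd 38182, .fwd 38183, .fwd 38184],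
   .define,
   .loop (some (14, 1)) [.bwd 37334, .bwd 33638, .bwd 38027, .fwd 33856, .bwd 9164],
   .loop none [.bwd 38187],
   .loop none [.bwd 9248, .fwd 38188, .fwd 37329],
   .loop none [.fwd 38189],
   .loop none [.bwd 33379, .fwd 38190, .bwd 32504],
   .loop none [.bwd 38191],
   .loop none [.bwd 6711, .fwd 38190, .fwd 11512],
   .loop none [.fwd 38193],
   .loop none [.fwd 6710, .fwd 38190, .bwd 34590],
   .loop none [.fwd 38195],
   .loop none [.bwd 11761, .fwd 38192, .bwd 12809],
   .loop none [.fwd 38197],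
   .loop none [.fwd 14679, .bwd 38192],
   .loop none [.bwd 15673, .fwd 38192, .fwd 33377],
   .loop none [.bwd 38200],
   .loop none [.bwd 15064, .bwd 38192],
   .loop none [.bwd 33378, .bwd 38192],
   .loop none [.fwd 37003, .fwd 38194, .bwd 34768],
   .loop none [.bwd 38204],
   .loop none [.bwd 6712, .fwd 38194, .fwd 11513],
   .loop none [.fwd 38206],
   .loop none [.fwd 9254, .fwd 38194, .bwd 37338],
   .loop none [.fwd 38208],
   .loop none [.fwd 11119, .fwd 38194, .bwd 34775],
   .loop none [.fwd 38210],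
   .loop none [.bwd 9981, .bwd 38194],
   .loop none [.fwd 8405, .fwd 38196, .fwd 20124],
   .loop none [.fwd 38213],
   .loop none [.bwd 16230, .fwd 38198, .fwd 34547],
   .loop none [.bwd 38215],
   .loop none [.bwd 14424, .bwd 38198],
   .loop none [.fwd 37267, .bwd 38198],
   .loop none [.bwd 23744, .bwd 38198],
   .loop none [.fwd 15673, .bwd 38201],
   .loop none [.fwd 9961, .fwd 38201, .fwd 15674],
   .loop none [.fwd 38221],
   .loop none [.bwd 37003, .bwd 38205],
   .loop none [.fwd 32727, .bwd 38205],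
   .loop none [.bwd 33985, .bwd 38205],
   .loop none [.fwd 11143, .bwd 38207],
   .loop none [.bwd 9995, .bwd 38207],
   .loop none [.bwd 38143, .fwd 38209, .bwd 37335],
   .loop none [.bwd 38228],
   .loop none [.fwd 10114, .fwd 38211, .fwd 19794],
   .loop none [.fwd 38230],
   .loop none [.fwd 8408, .fwd 38214, .fwd 33452],
   .loop none [.fwd 38232],
   .loop none [.fwd 16230, .bwd 38216],
   .loop none [.fwd 9976, .fwd 38216, .fwd 16231],
   .loop none [.fwd 38235],
   .loop none [.fwd 9960, .fwd 38222, .fwd 33848],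
   .loop none [.fwd 38237],
   .loop none [.fwd 34470, .fwd 38229, .fwd 38144],
   .loop none [.fwd 38239],
   .loop none [.fwd 11123, .fwd 38231, .fwd 34585],
   .loop none [.bwd 38241],
   .loop none [.fwd 32185, .fwd 38233, .bwd 8421],
   .loop none [.fwd 38243],
   .loop none [.fwd 6846, .bwd 38233],
   .loop none [.fwd 11148, .fwd 38233, .bwd 32205],
   .loop none [.fwd 38246],
   .loop none [.fwd 31288, .fwd 38233, .fwd 8425],
   .loop none [.fwd 38248]]

theorem just152_len : just152.length = 250 := by decide +kernel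

theorem just152_ok : cert.okFacts 38000 just152 = true := by decide +kernel

/-- justifications -/
noncomputable def just153 : List Cert.Just :=
  [.loop none [.fwd 8411, .fwd 38233, .bwd 9618],
   .loop none [.fwd 38250],
   .loop none [.bwd 30892, .fwd 38233, .fwd 32414],
   .loop none [.fwd 38252],
   .loop none [.bwd 9679, .fwd 38233, .bwd 34939],
   .loop none [.fwd 38254],
   .loop none [.fwd 9975, .fwd 38236, .fwd 34694],
   .loop none [.fwd 38256],
   .loop none [.fwd 10975, .fwd 38238, .bwd 14663],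
   .loop none [.fwd 38258],
   .loop none [.bwd 32624, .bwd 38238],
   .loop none [.fwd 9959, .fwd 38238, .fwd 32627],
   .loop none [.bwd 38261],
   .loop none [.fwd 10980, .fwd 38238, .fwd 32628],
   .loop none [.fwd 38263],
   .loop none [.fwd 10977, .fwd 38238, .bwd 38202],
   .loop none [.bwd 38265],
   .loop none [.fwd 37324, .fwd 38240, .fwd 38145],
   .loop none [.fwd 38267],
   .loop none [.bwd 33849, .fwd 38242, .bwd 33192],
   .loop none [.fwd 38269],
   .loop none [.fwd 11129, .bwd 38242],
   .loop none [.bwd 6848, .fwd 38242, .bwd 9947],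
   .loop none [.fwd 38272],
   .loop none [.fwd 9166, .fwd 38242, .bwd 33152],
   .loop none [.bwd 38274],
   .loop none [.bwd 11131, .bwd 38242],
   .loop none [.bwd 11123, .bwd 38242],
   .loop none [.fwd 32409, .fwd 38242, .fwd 11124],
   .loop none [.bwd 38278],
   .loop none [.bwd 9619, .fwd 38242, .fwd 32195],
   .loop none [.bwd 38280],
   .loop none [.fwd 9620, .fwd 38242, .bwd 11132],
   .loop none [.fwd 38282],
   .loop none [.fwd 37285, .fwd 38242, .bwd 33187],
   .loop none [.bwd 38284],
   .loop none [.bwd 23306, .fwd 38242, .fwd 32196],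
   .loop none [.bwd 38286],
   .loop none [.fwd 7862, .fwd 38244, .fwd 10512],
   .loop none [.fwd 38288],
   .loop none [.fwd 952, .fwd 38244, .bwd 4398],
   .loop none [.fwd 38290],
   .loop none [.bwd 945, .fwd 38244, .bwd 33856],
   .loop none [.fwd 38292],
   .loop none [.bwd 7856, .fwd 38244, .fwd 8876],
   .loop none [.fwd 38294],
   .loop none [.fwd 7836, .fwd 38244, .bwd 9164],
   .loop none [.fwd 38296],
   .loop none [.bwd 32113, .fwd 38244, .fwd 33622],
   .loop none [.fwd 38298],
   .loop none [.bwd 11145, .fwd 38247, .fwd 32206],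
   .loop none [.fwd 38300],
   .loop none [.bwd 11150, .fwd 38247, .bwd 31235],
   .loop none [.fwd 38302],
   .loop none [.bwd 11620, .fwd 38247, .fwd 32207],
   .loop none [.fwd 38304],
   .loop none [.bwd 32473, .bwd 38249],
   .loop none [.bwd 31289, .fwd 38249, .fwd 31206],
   .loop none [.fwd 38307],
   .loop none [.bwd 7892, .fwd 38249, .bwd 35734],
   .loop none [.fwd 38309],
   .loop none [.fwd 6710, .bwd 38251],
   .loop none [.bwd 30958, .fwd 38251, .fwd 32498],
   .loop none [.fwd 38312],
   .loop none [.bwd 9640, .fwd 38251, .bwd 35735],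
   .loop none [.fwd 38314],
   .loop none [.fwd 5550, .fwd 38253, .fwd 11940],
   .loop none [.fwd 38316],
   .loop none [.bwd 8467, .fwd 38253, .fwd 33852],
   .loop none [.fwd 38318],
   .loop none [.fwd 30774, .fwd 38255, .fwd 10138],
   .loop none [.fwd 38320],
   .loop none [.fwd 10985, .fwd 38257, .fwd 13942],
   .loop none [.fwd 38322],
   .loop none [.bwd 33583, .bwd 38257],
   .loop none [.fwd 9974, .fwd 38257, .fwd 33586],
   .loop none [.bwd 38325],
   .loop none [.fwd 10994, .fwd 38257, .bwd 33635],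
   .loop none [.fwd 38327],
   .loop none [.fwd 10988, .fwd 38257, .bwd 38217],
   .loop none [.fwd 38329],
   .loop none [.fwd 33191, .fwd 38257, .fwd 23751],
   .loop none [.bwd 38331],
   .loop none [.fwd 707, .fwd 38259, .fwd 11661],
   .loop none [.fwd 38333],
   .loop none [.bwd 693, .fwd 38259, .fwd 33786],
   .loop none [.fwd 38335],
   .loop none [.fwd 7721, .fwd 38259, .bwd 11932],
   .loop none [.fwd 38337],
   .loop none [.fwd 30932, .bwd 38262],
   .loop none [.fwd 30939, .bwd 38262],
   .loop none [.bwd 9959, .bwd 38262],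
   .loop none [.fwd 38033, .fwd 38262, .bwd 30235],
   .loop none [.fwd 38342],
   .loop none [.bwd 11285, .fwd 38262, .fwd 11763],
   .loop none [.fwd 38344],
   .loop none [.fwd 9953, .bwd 38264],
   .loop none [.fwd 31207, .bwd 38266],
   .loop none [.fwd 32118, .bwd 38266],
   .loop none [.bwd 38220, .bwd 38266],
   .loop none [.bwd 9962, .bwd 38266],
   .loop none [.bwd 10977, .bwd 38266],
   .loop none [.fwd 10974, .bwd 38266],
   .loop none [.bwd 30903, .bwd 38266],
   .loop none [.bwd 38146, .bwd 38268],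
   .loop none [.bwd 32923, .bwd 38270],
   .loop none [.fwd 9944, .fwd 38270, .bwd 33089],
   .loop none [.fwd 38356],
   .loop none [.fwd 9945, .bwd 38270],
   .loop none [.fwd 33126, .bwd 38270],
   .loop none [.fwd 37047, .fwd 38270, .fwd 32924],
   .loop none [.fwd 38360],
   .loop none [.bwd 11835, .fwd 38270, .fwd 32925],
   .loop none [.bwd 38362],
   .loop none [.fwd 38225, .fwd 38270, .fwd 32926],
   .loop none [.bwd 38364],
   .loop none [.bwd 32927, .bwd 38270],
   .loop none [.bwd 33439, .bwd 38273],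
   .loop none [.bwd 6849, .fwd 38273, .bwd 34316],
   .loop none [.fwd 38368],
   .loop none [.fwd 11515, .bwd 38273],
   .loop none [.fwd 33654, .bwd 38273],
   .loop none [.fwd 33620, .fwd 38273, .bwd 33461],
   .loop none [.bwd 38372],
   .loop none [.bwd 9621, .fwd 38273, .fwd 33442],
   .loop none [.fwd 38374],
   .loop none [.fwd 9643, .fwd 38273, .bwd 33497],
   .loop none [.fwd 38376],
   .loop none [.fwd 33847, .bwd 38273],
   .loop none [.fwd 33353, .fwd 38275, .fwd 4400],
   .loop none [.bwd 38379],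
   .loop none [.bwd 9166, .bwd 38275],
   .loop none [.fwd 919, .fwd 38275, .bwd 34644],
   .loop none [.fwd 38382],
   .loop none [.bwd 905, .fwd 38275, .bwd 34747],
   .loop none [.fwd 38384],
   .loop none [.fwd 904, .fwd 38275, .fwd 37990],
   .loop none [.fwd 38386],
   .loop none [.bwd 7831, .fwd 38275, .fwd 8879],
   .loop none [.fwd 38388],
   .loop none [.fwd 7830, .fwd 38275, .bwd 9168],
   .loop none [.fwd 38390],
   .loop none [.fwd 13752, .fwd 38275, .bwd 24231],
   .loop none [.fwd 38392],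
   .loop none [.bwd 33091, .fwd 38275, .bwd 35639],
   .loop none [.fwd 38394],
   .loop none [.bwd 32409, .bwd 38279],
   .loop none [.bwd 11544, .fwd 38279, .fwd 32410],
   .loop none [.bwd 38397],
   .loop none [.fwd 10126, .fwd 38279, .bwd 32524],
   .loop none [.fwd 38399],
   .loop none [.fwd 33105, .fwd 38279, .bwd 36905],
   .loop none [.fwd 38401],
   .loop none [.bwd 32212, .fwd 38279, .fwd 33853],
   .loop none [.fwd 38403],
   .loop none [.bwd 32489, .bwd 38281],
   .loop none [.fwd 9619, .bwd 38281],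
   .loop none [.fwd 17306, .fwd 38281, .bwd 24298],
   .loop none [.fwd 38407],
   .loop none [.fwd 33185, .fwd 38281, .fwd 23281],
   .loop none [.fwd 38409],
   .loop none [.fwd 11117, .bwd 38283],
   .loop none [.bwd 11119, .bwd 38283],
   .loop none [.bwd 32255, .bwd 38283],
   .loop none [.bwd 32256, .bwd 38283],
   .loop none [.fwd 37280, .fwd 38283, .bwd 33163],
   .loop none [.bwd 38415],
   .loop none [.bwd 23294, .fwd 38283, .fwd 32257],
   .loop none [.bwd 38417],
   .loop none [.fwd 11815, .fwd 38285, .fwd 20206],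
   .loop none [.fwd 38419],
   .loop none [.bwd 17025, .fwd 38285, .bwd 20205],
   .loop none [.fwd 38421],
   .loop none [.bwd 37285, .bwd 38285],
   .loop none [.bwd 31907, .fwd 38287, .bwd 35456],
   .loop none [.fwd 38424],
   .loop none [.bwd 9158, .fwd 38287, .fwd 15960],
   .loop none [.fwd 38426],
   .loop none [.bwd 837, .fwd 38287, .bwd 37926],
   .loop none [.fwd 38428],
   .loop none [.fwd 23306, .bwd 38287],
   .loop none [.bwd 36099, .bwd 38287],
   .loop none [.fwd 32028, .fwd 38289, .bwd 11924],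
   .loop none [.fwd 38432],
   .loop none [.fwd 1009, .fwd 38289, .bwd 11357],
   .loop none [.fwd 38434],
   .loop none [.bwd 998, .fwd 38289, .fwd 34294],
   .loop none [.fwd 38436],
   .loop none [.bwd 33516, .bwd 38291],
   .loop none [.fwd 951, .fwd 38291, .fwd 37325],
   .loop none [.fwd 38439],
   .loop none [.fwd 33992, .fwd 38291, .bwd 11156],
   .loop none [.bwd 38441],
   .loop none [.bwd 33279, .fwd 38291, .fwd 8872],
   .loop none [.fwd 38443],
   .loop none [.bwd 33280, .fwd 38291, .bwd 8422],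
   .loop none [.fwd 38445],
   .loop none [.fwd 33512, .fwd 38291, .fwd 32580],
   .loop none [.bwd 38447],
   .loop none [.fwd 20568, .fwd 38291, .fwd 9165],
   .loop none [.bwd 38449],
   .loop none [.fwd 32620, .fwd 38293, .bwd 11887],
   .loop none [.fwd 38451],
   .loop none [.bwd 7857, .fwd 38295, .fwd 32496],
   .loop none [.fwd 38453],
   .loop none [.bwd 32111, .fwd 38297, .fwd 33698],
   .loop none [.fwd 38455],
   .loop none [.bwd 31126, .fwd 38299, .fwd 11937],
   .loop none [.fwd 38457],
   .loop none [.fwd 5990, .fwd 38299, .fwd 11935],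
   .loop none [.fwd 38459],
   .loop none [.bwd 5980, .fwd 38299, .bwd 34606],
   .loop none [.fwd 38461],
   .loop none [.bwd 31403, .fwd 38301, .bwd 33673],
   .loop none [.fwd 38463],
   .loop none [.bwd 9677, .fwd 38301, .fwd 27580],
   .loop none [.fwd 38465],
   .loop none [.bwd 30242, .fwd 38303, .bwd 12029],
   .loop none [.fwd 38467],
   .loop none [.fwd 30901, .fwd 38305, .bwd 36378],
   .loop none [.fwd 38469],
   .loop none [.fwd 32233, .bwd 38305],
   .loop none [.bwd 30194, .fwd 38308, .fwd 11666],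
   .loop none [.fwd 38472],
   .loop none [.fwd 31178, .fwd 38310, .fwd 10169],
   .loop none [.fwd 38474],
   .loop none [.fwd 5672, .fwd 38313, .fwd 11988],
   .loop none [.fwd 38476],
   .loop none [.fwd 38203, .bwd 38313],
   .loop none [.bwd 30943, .fwd 38315, .bwd 36194],
   .loop none [.fwd 38479],
   .loop none [.bwd 29313, .fwd 38317, .bwd 35706],
   .loop none [.bwd 38481],
   .loop none [.bwd 9026, .fwd 38317, .fwd 34912],
   .loop none [.fwd 38483],
   .loop none [.fwd 30332, .fwd 38317, .bwd 35712],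
   .loop none [.fwd 38485],
   .loop none [.bwd 33470, .bwd 38319],
   .loop none [.fwd 30896, .fwd 38321, .fwd 10139],
   .loop none [.fwd 38488],
   .loop none [.bwd 5004, .fwd 38321, .bwd 36023],
   .loop none [.fwd 38490],
   .loop none [.fwd 6762, .fwd 38321, .bwd 35473],
   .loop none [.fwd 38492],
   .loop none [.fwd 741, .fwd 38323, .bwd 10189],
   .loop none [.fwd 38494],
   .loop none [.bwd 734, .fwd 38323, .fwd 34693],
   .loop none [.fwd 38496],
   .loop none [.fwd 733, .fwd 38323, .bwd 37685],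
   .loop none [.fwd 38498]]

theorem just153_len : just153.length = 250 := by decide +kernel

theorem just153_ok : cert.okFacts 38250 just153 = true := by decide +kernel

/-- justifications -/
noncomputable def just154 : List Cert.Just :=
  [.loop none [.bwd 15929, .fwd 38323, .bwd 35774],
   .loop none [.bwd 38500],
   .loop none [.bwd 9974, .bwd 38326],
   .loop none [.fwd 38031, .fwd 38326, .bwd 9973],
   .loop none [.fwd 38503],
   .loop none [.bwd 11287, .fwd 38326, .fwd 11766],
   .loop none [.fwd 38505],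
   .loop none [.fwd 37289, .fwd 38326, .bwd 19581],
   .loop none [.bwd 38507],
   .loop none [.fwd 37144, .fwd 38326, .fwd 11769],
   .loop none [.bwd 38509],
   .loop none [.fwd 10116, .bwd 38328],
   .loop none [.fwd 18198, .fwd 38328, .bwd 36587],
   .loop none [.fwd 38512],
   .loop none [.bwd 7762, .fwd 38328, .bwd 34728],
   .loop none [.fwd 38514],
   .loop none [.fwd 11761, .bwd 38330],
   .loop none [.fwd 38234, .bwd 38330],
   .loop none [.fwd 19466, .fwd 38330, .fwd 38218],
   .loop none [.fwd 38518],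
   .loop none [.bwd 33376, .fwd 38330, .fwd 38219],
   .loop none [.bwd 38520],
   .loop none [.bwd 37375, .fwd 38332, .bwd 33846],
   .loop none [.bwd 38522],
   .loop none [.fwd 36040, .fwd 38332, .fwd 33188],
   .loop none [.fwd 38524],
   .loop none [.bwd 33189, .bwd 38332],
   .loop none [.bwd 4402, .fwd 38332, .fwd 11345],
   .loop none [.fwd 38527],
   .loop none [.bwd 37369, .fwd 38332, .fwd 33190],
   .loop none [.bwd 38529],
   .loop none [.bwd 33191, .bwd 38332],
   .loop none [.bwd 32575, .bwd 38334],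
   .loop none [.bwd 15355, .fwd 38334, .bwd 33716],
   .loop none [.bwd 38533],
   .loop none [.bwd 32392, .fwd 38334, .fwd 11659],
   .loop none [.bwd 38535],
   .loop none [.fwd 32948, .fwd 38334, .bwd 11068],
   .loop none [.bwd 38537],
   .loop none [.fwd 11151, .bwd 38336],
   .loop none [.fwd 32395, .fwd 38336, .bwd 3398],
   .loop none [.bwd 38540],
   .loop none [.bwd 694, .fwd 38336, .bwd 38030],
   .loop none [.fwd 38542],
   .loop none [.bwd 7729, .fwd 38336, .fwd 8973],
   .loop none [.fwd 38544],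
   .loop none [.fwd 38199, .bwd 38338],
   .loop none [.fwd 30237, .bwd 38343],
   .loop none [.bwd 9917, .bwd 38343],
   .loop none [.fwd 38009, .fwd 38343, .fwd 30236],
   .loop none [.bwd 38549],
   .loop none [.fwd 30172, .bwd 38343],
   .loop none [.fwd 31154, .bwd 38345],
   .loop none [.fwd 31362, .bwd 38345],
   .loop none [.fwd 9960, .bwd 38345],
   .loop none [.bwd 11033, .bwd 38357],
   .loop none [.bwd 11595, .fwd 38357, .bwd 10013],
   .loop none [.fwd 38556],
   .loop none [.bwd 10006, .bwd 38357],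
   .loop none [.fwd 10005, .bwd 38357],
   .loop none [.fwd 24297, .fwd 38357, .bwd 11796],
   .loop none [.bwd 38560],
   .loop none [.fwd 35023, .fwd 38357, .bwd 11036],
   .loop none [.bwd 38562],
   .loop none [.bwd 33090, .bwd 38357],
   .loop none [.bwd 33113, .bwd 38361],
   .loop none [.bwd 9692, .fwd 38361, .fwd 11780],
   .loop none [.fwd 38566],
   .loop none [.fwd 9987, .bwd 38361],
   .loop none [.bwd 11545, .fwd 38361, .fwd 11775],
   .loop none [.fwd 38569],
   .loop none [.fwd 11547, .fwd 38361, .bwd 10001],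
   .loop none [.fwd 38571],
   .loop none [.bwd 18334, .bwd 38361],
   .loop none [.bwd 33193, .bwd 38363],
   .loop none [.fwd 11835, .bwd 38363],
   .loop none [.bwd 38223, .bwd 38365],
   .loop none [.bwd 38224, .bwd 38365],
   .loop none [.bwd 38225, .bwd 38365],
   .loop none [.bwd 34311, .bwd 38369],
   .loop none [.bwd 6850, .fwd 38369, .bwd 10058],
   .loop none [.fwd 38580],
   .loop none [.fwd 34722, .fwd 38369, .fwd 10053],
   .loop none [.bwd 38582],
   .loop none [.fwd 10052, .bwd 38369],
   .loop none [.bwd 9622, .fwd 38369, .bwd 11831],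
   .loop none [.fwd 38585],
   .loop none [.fwd 9644, .fwd 38369, .bwd 11806],
   .loop none [.fwd 38587],
   .loop none [.fwd 38501, .fwd 34315, .bwd 38369],
   .loop none [.fwd 37048, .bwd 38373],
   .loop none [.fwd 34716, .bwd 38373],
   .loop none [.bwd 33620, .bwd 38373],
   .loop none [.bwd 11790, .fwd 38373, .fwd 33621],
   .loop none [.bwd 38593],
   .loop none [.fwd 10079, .fwd 38373, .bwd 33711],
   .loop none [.fwd 38595],
   .loop none [.fwd 9983, .bwd 38375],
   .loop none [.bwd 32765, .bwd 38375],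
   .loop none [.fwd 10966, .bwd 38375],
   .loop none [.fwd 33690, .bwd 38375],
   .loop none [.bwd 32766, .bwd 38375],
   .loop none [.bwd 18317, .bwd 38375],
   .loop none [.bwd 33492, .bwd 38377],
   .loop none [.fwd 11778, .bwd 38377],
   .loop none [.fwd 34625, .bwd 38377],
   .loop none [.fwd 33494, .bwd 38377],
   .loop none [.fwd 35940, .fwd 38380, .fwd 33352],
   .loop none [.fwd 38607],
   .loop none [.bwd 33353, .bwd 38380],
   .loop none [.fwd 35518, .fwd 38380, .bwd 5499],
   .loop none [.fwd 38610],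
   .loop none [.fwd 35482, .fwd 38380, .fwd 33354],
   .loop none [.bwd 38612],
   .loop none [.bwd 37963, .fwd 38380, .bwd 9363],
   .loop none [.bwd 38614],
   .loop none [.bwd 8882, .fwd 38380, .fwd 9306],
   .loop none [.fwd 38616],
   .loop none [.fwd 9171, .fwd 38380, .bwd 9372],
   .loop none [.fwd 38618],
   .loop none [.bwd 33355, .bwd 38380],
   .loop none [.fwd 8025, .bwd 38383],
   .loop none [.bwd 17413, .fwd 38383, .bwd 17537],
   .loop none [.fwd 38622],
   .loop none [.bwd 9018, .fwd 38383, .fwd 9016],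
   .loop none [.bwd 38624],
   .loop none [.fwd 8962, .fwd 38383, .bwd 8960],
   .loop none [.bwd 38626],
   .loop none [.bwd 19760, .fwd 38383, .bwd 35520],
   .loop none [.bwd 38628],
   .loop none [.bwd 7957, .fwd 38385, .bwd 10164],
   .loop none [.fwd 38630],
   .loop none [.bwd 7838, .fwd 38385, .fwd 11890],
   .loop none [.fwd 38632],
   .loop none [.fwd 10997, .fwd 38385, .bwd 27191],
   .loop none [.fwd 38634],
   .loop none [.bwd 7925, .fwd 38387, .fwd 37991],
   .loop none [.fwd 38636],
   .loop none [.fwd 16328, .fwd 38389, .bwd 24191],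
   .loop none [.fwd 38638],
   .loop none [.bwd 31888, .fwd 38389, .fwd 27187],
   .loop none [.fwd 38640],
   .loop none [.bwd 9254, .bwd 38391],
   .loop none [.bwd 17380, .fwd 38391, .bwd 24156],
   .loop none [.fwd 38643],
   .loop none [.fwd 777, .fwd 38393, .fwd 35168],
   .loop none [.fwd 38645],
   .loop none [.fwd 765, .fwd 38393, .bwd 37699],
   .loop none [.fwd 38647],
   .loop none [.fwd 34989, .bwd 38393],
   .loop none [.bwd 11817, .fwd 38395, .bwd 15498],
   .loop none [.fwd 38650],
   .loop none [.bwd 35636, .bwd 38395],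
   .loop none [.fwd 10042, .fwd 38395, .bwd 36636],
   .loop none [.fwd 38653],
   .loop none [.bwd 10036, .fwd 38395, .fwd 37279],
   .loop none [.fwd 38655],
   .loop none [.fwd 11819, .fwd 38395, .bwd 36639],
   .loop none [.fwd 38657],
   .loop none [.fwd 11120, .bwd 38398],
   .loop none [.fwd 38277, .bwd 38398],
   .loop none [.fwd 11544, .bwd 38398],
   .loop none [.fwd 33483, .bwd 38400],
   .loop none [.fwd 32153, .fwd 38400, .fwd 33627],
   .loop none [.fwd 38663],
   .loop none [.bwd 17001, .fwd 38402, .bwd 12464],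
   .loop none [.bwd 38665],
   .loop none [.bwd 31843, .fwd 38404, .bwd 36045],
   .loop none [.fwd 38667],
   .loop none [.fwd 33108, .fwd 38404, .fwd 3402],
   .loop none [.bwd 38669],
   .loop none [.bwd 11195, .bwd 38404],
   .loop none [.fwd 31925, .fwd 38408, .fwd 36862],
   .loop none [.fwd 38672],
   .loop none [.bwd 10010, .fwd 38408, .fwd 16209],
   .loop none [.fwd 38674],
   .loop none [.fwd 580, .fwd 38410, .bwd 35620],
   .loop none [.fwd 38676],
   .loop none [.bwd 17069, .fwd 38416, .bwd 20173],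
   .loop none [.fwd 38678],
   .loop none [.bwd 37280, .bwd 38416],
   .loop none [.bwd 31898, .fwd 38418, .bwd 35505],
   .loop none [.fwd 38681],
   .loop none [.fwd 33170, .fwd 38418, .fwd 15733],
   .loop none [.fwd 38683],
   .loop none [.fwd 23294, .bwd 38418],
   .loop none [.bwd 32738, .fwd 38420, .fwd 37183],
   .loop none [.fwd 38686],
   .loop none [.bwd 11823, .fwd 38420, .fwd 20207],
   .loop none [.fwd 38688],
   .loop none [.fwd 34395, .fwd 38420, .bwd 35982],
   .loop none [.bwd 38690],
   .loop none [.fwd 36461, .bwd 38422],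
   .loop none [.bwd 37284, .bwd 38422],
   .loop none [.fwd 30293, .fwd 38425, .fwd 37177],
   .loop none [.fwd 38694],
   .loop none [.bwd 9565, .fwd 38425, .bwd 36044],
   .loop none [.fwd 38696],
   .loop none [.bwd 555, .fwd 38425, .fwd 37918],
   .loop none [.fwd 38698],
   .loop none [.fwd 4851, .fwd 38427, .fwd 36757],
   .loop none [.fwd 38700],
   .loop none [.fwd 18137, .fwd 38427, .bwd 37258],
   .loop none [.fwd 38702],
   .loop none [.fwd 7803, .fwd 38429, .fwd 19634],
   .loop none [.fwd 38704],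
   .loop none [.fwd 853, .fwd 38429, .fwd 4464],
   .loop none [.fwd 38706],
   .loop none [.bwd 34917, .bwd 38429],
   .loop none [.fwd 412, .fwd 38433, .fwd 10176],
   .loop none [.fwd 38709],
   .loop none [.fwd 396, .fwd 38433, .bwd 37907],
   .loop none [.fwd 38711],
   .loop none [.fwd 32610, .fwd 38435, .bwd 33596],
   .loop none [.fwd 38713],
   .loop none [.fwd 33679, .fwd 38435, .fwd 11358],
   .loop none [.fwd 38715],
   .loop none [.fwd 32470, .fwd 38435, .fwd 11359],
   .loop none [.fwd 38717],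
   .loop none [.fwd 32646, .fwd 38435, .bwd 11881],
   .loop none [.fwd 38719],
   .loop none [.fwd 33573, .fwd 38435, .fwd 14662],
   .loop none [.bwd 38721],
   .loop none [.fwd 33342, .fwd 38437, .fwd 11893],
   .loop none [.fwd 38723],
   .loop none [.fwd 34391, .fwd 38440, .fwd 37326],
   .loop none [.fwd 38725],
   .loop none [.bwd 9863, .fwd 38442, .fwd 33989],
   .loop none [.fwd 38727],
   .loop none [.bwd 33992, .bwd 38442],
   .loop none [.fwd 11154, .fwd 38442, .fwd 33993],
   .loop none [.fwd 38730],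
   .loop none [.bwd 33990, .bwd 38442],
   .loop none [.fwd 34390, .fwd 38442, .fwd 33991],
   .loop none [.bwd 38733],
   .loop none [.bwd 33717, .fwd 38442, .fwd 33994],
   .loop none [.fwd 38735],
   .loop none [.fwd 3299, .bwd 38444],
   .loop none [.bwd 14417, .fwd 38444, .fwd 37316],
   .loop none [.fwd 38738],
   .loop none [.fwd 14159, .fwd 38444, .bwd 37314],
   .loop none [.fwd 38740],
   .loop none [.fwd 4500, .bwd 38446],
   .loop none [.bwd 12440, .fwd 38446, .bwd 11292],
   .loop none [.bwd 38743],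
   .loop none [.bwd 9253, .bwd 38446],
   .loop none [.fwd 32538, .fwd 38448, .bwd 33825],
   .loop none [.fwd 38746],
   .loop none [.bwd 13097, .fwd 38448, .fwd 10884],
   .loop none [.bwd 38748]]

theorem just154_len : just154.length = 250 := by decide +kernel

theorem just154_ok : cert.okFacts 38500 just154 = true := by decide +kernel

/-- justifications -/
noncomputable def just155 : List Cert.Just :=
  [.loop none [.fwd 32563, .fwd 38448, .bwd 7360],
   .loop none [.bwd 38750],
   .loop none [.bwd 33589, .bwd 38448],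
   .loop none [.bwd 33512, .bwd 38448],
   .loop none [.fwd 32611, .fwd 38450, .fwd 9741],
   .loop none [.fwd 38754],
   .loop none [.bwd 32554, .bwd 38450],
   .loop none [.bwd 12336, .fwd 38450, .fwd 33517],
   .loop none [.fwd 38757],
   .loop none [.fwd 7233, .fwd 38450, .bwd 33771],
   .loop none [.fwd 38759],
   .loop none [.bwd 20568, .bwd 38450],
   .loop none [.fwd 33258, .bwd 38450],
   .loop none [.fwd 37315, .bwd 38452],
   .loop none [.bwd 8430, .fwd 38454, .fwd 11664],
   .loop none [.fwd 38764],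
   .loop none [.fwd 31087, .fwd 38454, .fwd 11662],
   .loop none [.bwd 38766],
   .loop none [.bwd 30971, .fwd 38456, .fwd 11985],
   .loop none [.fwd 38768],
   .loop none [.fwd 31103, .fwd 38456, .fwd 11984],
   .loop none [.bwd 38770],
   .loop none [.fwd 10411, .fwd 38458, .bwd 35483],
   .loop none [.fwd 38772],
   .loop none [.fwd 7220, .fwd 38458, .bwd 37915],
   .loop none [.fwd 38774],
   .loop none [.fwd 33436, .fwd 38460, .fwd 32570],
   .loop none [.bwd 38776],
   .loop none [.fwd 32516, .fwd 38462, .bwd 11687],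
   .loop none [.bwd 38778],
   .loop none [.fwd 5607, .fwd 38464, .bwd 11680],
   .loop none [.fwd 38780],
   .loop none [.bwd 33672, .bwd 38464],
   .loop none [.fwd 32446, .bwd 38466],
   .loop none [.fwd 5425, .fwd 38468, .bwd 11995],
   .loop none [.fwd 38784],
   .loop none [.bwd 32463, .bwd 38468],
   .loop none [.fwd 6696, .fwd 38470, .fwd 36379],
   .loop none [.fwd 38787],
   .loop none [.bwd 7789, .fwd 38473, .bwd 35587],
   .loop none [.fwd 38789],
   .loop none [.fwd 31014, .fwd 38473, .bwd 35588],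
   .loop none [.fwd 38791],
   .loop none [.fwd 31389, .fwd 38475, .bwd 35619],
   .loop none [.fwd 38793],
   .loop none [.bwd 10470, .fwd 38477, .bwd 36029],
   .loop none [.bwd 38795],
   .loop none [.bwd 30258, .fwd 38477, .bwd 36030],
   .loop none [.fwd 38797],
   .loop none [.fwd 6884, .fwd 38480, .bwd 35511],
   .loop none [.fwd 38799],
   .loop none [.bwd 31073, .bwd 38482],
   .loop none [.fwd 29313, .bwd 38482],
   .loop none [.bwd 37520, .fwd 38482, .bwd 10503],
   .loop none [.fwd 38803],
   .loop none [.fwd 36181, .fwd 38482, .fwd 29296],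
   .loop none [.bwd 38805],
   .loop none [.fwd 38804, .fwd 30131, .bwd 38482],
   .loop none [.bwd 35709, .fwd 38482, .bwd 30130],
   .loop none [.bwd 38808],
   .loop none [.fwd 10865, .bwd 38482],
   .loop none [.fwd 30300, .bwd 38482],
   .loop none [.fwd 30213, .fwd 38484, .bwd 35487],
   .loop none [.fwd 38812],
   .loop none [.bwd 10186, .fwd 38486, .bwd 3406],
   .loop none [.bwd 38814],
   .loop none [.fwd 3391, .fwd 38489, .fwd 10140],
   .loop none [.fwd 38816],
   .loop none [.fwd 3392, .fwd 38489, .fwd 36049],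
   .loop none [.fwd 38818],
   .loop none [.bwd 5501, .fwd 38491, .bwd 35593],
   .loop none [.fwd 38820],
   .loop none [.bwd 6763, .fwd 38493, .bwd 36052],
   .loop none [.bwd 38822],
   .loop none [.bwd 33781, .bwd 38495],
   .loop none [.fwd 15607, .fwd 38495, .bwd 13946],
   .loop none [.bwd 38825],
   .loop none [.bwd 33602, .fwd 38495, .fwd 11652],
   .loop none [.fwd 38827],
   .loop none [.fwd 34145, .fwd 38495, .bwd 11073],
   .loop none [.fwd 38829],
   .loop none [.fwd 35150, .fwd 38495, .bwd 34843],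
   .loop none [.fwd 38831],
   .loop none [.bwd 16154, .fwd 38495, .bwd 34167],
   .loop none [.bwd 38833],
   .loop none [.bwd 11190, .bwd 38497],
   .loop none [.fwd 33607, .fwd 38497, .bwd 34648],
   .loop none [.bwd 38836],
   .loop none [.bwd 735, .fwd 38497, .bwd 38026],
   .loop none [.fwd 38838],
   .loop none [.fwd 7746, .fwd 38497, .fwd 8975],
   .loop none [.fwd 38840],
   .loop none [.bwd 15971, .fwd 38497, .fwd 37693],
   .loop none [.fwd 38842],
   .loop none [.fwd 732, .fwd 38499, .bwd 37684],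
   .loop none [.fwd 38844],
   .loop none [.fwd 9942, .fwd 38501, .bwd 18350],
   .loop none [.fwd 38846],
   .loop none [.fwd 16430, .bwd 38501],
   .loop none [.fwd 11596, .fwd 38501, .fwd 18353],
   .loop none [.fwd 38849],
   .loop none [.bwd 18354, .bwd 38501],
   .loop none [.fwd 36726, .fwd 38501, .fwd 18195],
   .loop none [.bwd 38852],
   .loop none [.fwd 35790, .fwd 38501, .bwd 18356],
   .loop none [.bwd 38854],
   .loop none [.fwd 15929, .bwd 38501],
   .loop none [.fwd 38035, .fwd 38504, .bwd 9972],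
   .loop none [.bwd 38857],
   .loop none [.fwd 37291, .fwd 38504, .bwd 33632],
   .loop none [.bwd 38859],
   .loop none [.bwd 23198, .fwd 38504, .fwd 11767],
   .loop none [.bwd 38861],
   .loop none [.fwd 9982, .bwd 38506],
   .loop none [.bwd 9976, .bwd 38506],
   .loop none [.fwd 9975, .bwd 38506],
   .loop none [.fwd 38847, .fwd 19499, .bwd 38506],
   .loop none [.fwd 38172, .fwd 38508, .bwd 20224],
   .loop none [.bwd 38867],
   .loop none [.bwd 37289, .bwd 38508],
   .loop none [.bwd 8281, .fwd 38510, .bwd 15696],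
   .loop none [.fwd 38870],
   .loop none [.fwd 34326, .fwd 38510, .fwd 37142],
   .loop none [.fwd 38872],
   .loop none [.bwd 37143, .bwd 38510],
   .loop none [.bwd 37144, .bwd 38510],
   .loop none [.bwd 33297, .fwd 38513, .fwd 36221],
   .loop none [.fwd 38876],
   .loop none [.bwd 16277, .fwd 38513, .fwd 16225],
   .loop none [.bwd 38878],
   .loop none [.bwd 32037, .fwd 38515, .bwd 35584],
   .loop none [.fwd 38880],
   .loop none [.fwd 32757, .fwd 38515, .fwd 3304],
   .loop none [.bwd 38882],
   .loop none [.fwd 8884, .bwd 38515],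
   .loop none [.bwd 8888, .bwd 38515],
   .loop none [.fwd 19999, .bwd 38519],
   .loop none [.fwd 34366, .bwd 38521],
   .loop none [.fwd 36026, .fwd 38521, .fwd 33164],
   .loop none [.fwd 38888],
   .loop none [.bwd 33165, .bwd 38521],
   .loop none [.bwd 4505, .fwd 38521, .bwd 5877],
   .loop none [.fwd 38891],
   .loop none [.bwd 33166, .bwd 38521],
   .loop none [.bwd 33167, .bwd 38521],
   .loop none [.fwd 33376, .bwd 38521],
   .loop none [.fwd 37375, .bwd 38523],
   .loop none [.fwd 36892, .fwd 38525, .fwd 8253],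
   .loop none [.bwd 38897],
   .loop none [.bwd 32048, .bwd 38525],
   .loop none [.fwd 36387, .fwd 38525, .bwd 33316],
   .loop none [.fwd 38900],
   .loop none [.fwd 37906, .fwd 38525, .bwd 8242],
   .loop none [.bwd 38902],
   .loop none [.bwd 37949, .fwd 38525, .bwd 8493],
   .loop none [.bwd 38904],
   .loop none [.bwd 9162, .bwd 38525],
   .loop none [.bwd 33972, .bwd 38528],
   .loop none [.fwd 36950, .fwd 38528, .bwd 34999],
   .loop none [.bwd 38908],
   .loop none [.bwd 37394, .fwd 38528, .bwd 35014],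
   .loop none [.bwd 38910],
   .loop none [.fwd 11394, .bwd 38528],
   .loop none [.fwd 36470, .bwd 38528],
   .loop none [.fwd 37369, .bwd 38530],
   .loop none [.fwd 34786, .fwd 38534, .fwd 15356],
   .loop none [.bwd 38915],
   .loop none [.fwd 15355, .bwd 38534],
   .loop none [.bwd 32829, .fwd 38534, .bwd 15509],
   .loop none [.fwd 38918],
   .loop none [.fwd 18636, .bwd 38534],
   .loop none [.bwd 32830, .fwd 38534, .bwd 32835],
   .loop none [.bwd 38921],
   .loop none [.bwd 32274, .bwd 38536],
   .loop none [.fwd 10561, .bwd 38536],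
   .loop none [.bwd 32296, .bwd 38536],
   .loop none [.fwd 33520, .bwd 38536],
   .loop none [.fwd 37322, .fwd 38536, .bwd 33521],
   .loop none [.bwd 38927],
   .loop none [.fwd 32392, .bwd 38536],
   .loop none [.bwd 32273, .bwd 38538],
   .loop none [.fwd 10455, .bwd 38538],
   .loop none [.bwd 32944, .bwd 38538],
   .loop none [.bwd 32945, .bwd 38538],
   .loop none [.bwd 33787, .fwd 38538, .bwd 34147],
   .loop none [.fwd 38934],
   .loop none [.bwd 32948, .bwd 38538],
   .loop none [.fwd 38760, .bwd 32373, .bwd 38538],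
   .loop none [.bwd 32226, .bwd 38541],
   .loop none [.bwd 32395, .bwd 38541],
   .loop none [.bwd 37659, .fwd 38541, .bwd 33612],
   .loop none [.bwd 38940],
   .loop none [.fwd 37656, .fwd 38541, .bwd 33613],
   .loop none [.bwd 38942],
   .loop none [.bwd 32400, .bwd 38541],
   .loop none [.bwd 37675, .fwd 38541, .fwd 32371],
   .loop none [.bwd 38945],
   .loop none [.fwd 7347, .bwd 38543],
   .loop none [.fwd 8409, .bwd 38545],
   .loop none [.bwd 38009, .bwd 38550],
   .loop none [.bwd 11034, .bwd 38557],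
   .loop none [.fwd 34789, .bwd 38557],
   .loop none [.bwd 9625, .fwd 38557, .fwd 18004],
   .loop none [.fwd 38952],
   .loop none [.fwd 9649, .fwd 38557, .bwd 17538],
   .loop none [.fwd 38954],
   .loop none [.bwd 24297, .bwd 38561],
   .loop none [.bwd 35023, .bwd 38563],
   .loop none [.fwd 11021, .bwd 38567],
   .loop none [.bwd 9693, .fwd 38567, .fwd 17420],
   .loop none [.fwd 38959],
   .loop none [.bwd 10007, .bwd 38567],
   .loop none [.fwd 38558, .bwd 38567],
   .loop none [.bwd 11546, .fwd 38567, .fwd 11031],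
   .loop none [.fwd 38963],
   .loop none [.fwd 11548, .fwd 38567, .bwd 11038],
   .loop none [.bwd 38965],
   .loop none [.bwd 9990, .bwd 38570],
   .loop none [.fwd 38359, .bwd 38570],
   .loop none [.fwd 13770, .bwd 38570],
   .loop none [.bwd 18336, .bwd 38570],
   .loop none [.bwd 32451, .bwd 38572],
   .loop none [.fwd 38568, .bwd 38572],
   .loop none [.fwd 9986, .bwd 38572],
   .loop none [.bwd 18333, .bwd 38572],
   .loop none [.bwd 35032, .bwd 38581],
   .loop none [.bwd 34702, .bwd 38581],
   .loop none [.fwd 10057, .bwd 38581],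
   .loop none [.fwd 35039, .fwd 38581, .bwd 35566],
   .loop none [.fwd 38978],
   .loop none [.bwd 9623, .fwd 38581, .fwd 18394],
   .loop none [.fwd 38980],
   .loop none [.fwd 9647, .fwd 38581, .fwd 35033],
   .loop none [.fwd 38982],
   .loop none [.fwd 35576, .bwd 38583],
   .loop none [.bwd 33485, .fwd 38583, .bwd 35579],
   .loop none [.bwd 38985],
   .loop none [.bwd 34722, .bwd 38583],
   .loop none [.bwd 33141, .bwd 38586],
   .loop none [.bwd 11777, .bwd 38586],
   .loop none [.fwd 38588, .bwd 10050, .bwd 38586],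
   .loop none [.fwd 10049, .bwd 38586],
   .loop none [.bwd 34121, .bwd 38588],
   .loop none [.bwd 11798, .bwd 38588],
   .loop none [.bwd 10051, .bwd 38588],
   .loop none [.fwd 34740, .bwd 38594],
   .loop none [.fwd 38371, .bwd 38594],
   .loop none [.fwd 11790, .bwd 38594],
   .loop none [.fwd 38847, .fwd 33678, .bwd 38594],
   .loop none [.bwd 33649, .bwd 38596]]

theorem just155_len : just155.length = 250 := by decide +kernel

theorem just155_ok : cert.okFacts 38750 just155 = true := by decide +kernel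


end CfsgLib.ThCent.DX
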