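import Cfsg.Agent.Lib.ThCent.DXData

/-!
Justifications of the side facts (generated data).
-/

namespace CfsgLib.ThCent.DX

open CfsgLib.PresCert

set_option maxRecDepth 100000

/-- justifications -/
noncomputable def just168 : List Cert.Just :=
  [.loop none [.fwd 41999],
   .loop none [.fwd 38135, .bwd 41802],
   .loop none [.fwd 16455, .bwd 41811],
   .loop none [.fwd 41709, .bwd 41811],
   .loop none [.fwd 41347, .bwd 41813],
   .loop none [.bwd 13371, .fwd 41813, .bwd 15573],
   .loop none [.fwd 42005],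
   .loop none [.fwd 40966, .bwd 41813],
   .loop none [.fwd 38131, .bwd 41819],
   .loop none [.bwd 40131, .fwd 41828, .bwd 17524],
   .loop none [.fwd 42009],
   .loop none [.fwd 41324, .bwd 41833],
   .loop none [.fwd 6647, .fwd 41833, .fwd 15557],
   .loop none [.fwd 42012],
   .loop none [.fwd 41831, .bwd 41842],
   .loop none [.bwd 36817, .bwd 41844],
   .loop none [.fwd 42010, .fwd 37256, .bwd 41851],
   .loop none [.fwd 36262, .fwd 41855, .bwd 37612],
   .loop none [.fwd 42017],
   .loop none [.fwd 40978, .bwd 41860],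
   .loop none [.bwd 37999, .bwd 41860],
   .loop none [.bwd 35831, .fwd 41866, .fwd 10348],
   .loop none [.fwd 42021],
   .loop none [.fwd 37641, .fwd 41871, .bwd 17505],
   .loop none [.bwd 42023],
   .loop none [.bwd 9686, .fwd 41876, .bwd 16099],
   .loop none [.fwd 42025],
   .loop none [.fwd 16801, .bwd 41879],
   .loop none [.bwd 17026, .bwd 41882],
   .loop none [.fwd 39150, .bwd 41882],
   .loop none [.bwd 38692, .bwd 41882],
   .loop none [.fwd 17025, .bwd 41882],
   .loop none [.fwd 41047, .bwd 41882],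
   .loop none [.fwd 39531, .bwd 41882],
   .loop none [.bwd 17273, .bwd 41882],
   .loop none [.fwd 18093, .bwd 41882],
   .loop none [.fwd 39173, .bwd 41882],
   .loop none [.fwd 35196, .bwd 41884],
   .loop none [.fwd 36776, .bwd 41905],
   .loop none [.bwd 10361, .bwd 41909],
   .loop none [.fwd 41344, .bwd 41928],
   .loop none [.fwd 16684, .bwd 41928],
   .loop none [.fwd 5532, .fwd 41928, .fwd 16685],
   .loop none [.fwd 42042],
   .loop none [.bwd 40989, .bwd 41931],
   .loop none [.fwd 40596, .bwd 41931],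
   .loop none [.fwd 40200, .bwd 41948],
   .loop none [.fwd 10731, .bwd 41960],
   .loop none [.fwd 39313, .bwd 41960],
   .loop none [.bwd 14450, .bwd 41960],
   .loop none [.fwd 10703, .fwd 41960, .fwd 41701],
   .loop none [.fwd 42050],
   .loop none [.bwd 10732, .bwd 41960],
   .loop none [.bwd 41703, .bwd 41960],
   .loop none [.fwd 12006, .bwd 41960],
   .loop none [.bwd 41706, .bwd 41960],
   .loop none [.fwd 41998, .bwd 37400, .bwd 41964],
   .loop none [.fwd 37399, .bwd 41964],
   .loop none [.bwd 37295, .bwd 41980],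
   .loop none [.fwd 40440, .fwd 41990, .bwd 9883],
   .loop none [.bwd 42059],
   .loop none [.bwd 42027, .fwd 41995, .fwd 41183],
   .loop none [.bwd 42061],
   .loop none [.bwd 41185, .bwd 41995],
   .loop none [.fwd 5532, .fwd 41998, .fwd 40952],
   .loop none [.fwd 42064],
   .loop none [.fwd 41954, .bwd 41998],
   .loop none [.fwd 41952, .bwd 42000],
   .loop none [.fwd 38100, .bwd 42000],
   .loop none [.fwd 41063, .fwd 42006, .bwd 15572],
   .loop none [.fwd 42069],
   .loop none [.fwd 41877, .bwd 42006],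
   .loop none [.bwd 40072, .fwd 42013, .fwd 15558],
   .loop none [.bwd 42072],
   .loop none [.fwd 36652, .fwd 42018, .bwd 37611],
   .loop none [.fwd 42074],
   .loop none [.bwd 35078, .fwd 42022, .fwd 10349],
   .loop none [.fwd 42076],
   .loop none [.bwd 37641, .bwd 42024],
   .loop none [.bwd 11543, .fwd 42026, .bwd 16098],
   .loop none [.fwd 42079],
   .loop none [.fwd 41120, .bwd 42043],
   .loop none [.bwd 41009, .bwd 42051],
   .loop none [.fwd 41219, .bwd 42051],
   .loop none [.fwd 10702, .fwd 42051, .bwd 41061],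
   .loop none [.bwd 42084],
   .loop none [.fwd 41222, .bwd 42051],
   .loop none [.fwd 36534, .bwd 42051],
   .loop none [.fwd 19526, .bwd 42051],
   .loop none [.bwd 41011, .bwd 42051],
   .loop none [.bwd 40437, .bwd 42060],
   .loop none [.fwd 40841, .bwd 42060],
   .loop none [.bwd 40438, .bwd 42060],
   .loop none [.fwd 9882, .fwd 42060, .fwd 40439],
   .loop none [.bwd 42093],
   .loop none [.bwd 40440, .bwd 42060],
   .loop none [.bwd 10625, .bwd 42060],
   .loop none [.fwd 41426, .bwd 42060],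
   .loop none [.bwd 11720, .bwd 42060],
   .loop none [.fwd 10639, .bwd 42060],
   .loop none [.bwd 40441, .bwd 42060],
   .loop none [.bwd 40442, .bwd 42060],
   .loop none [.fwd 42027, .bwd 42062],
   .loop none [.bwd 40603, .bwd 42065],
   .loop none [.fwd 37644, .bwd 42065],
   .loop none [.fwd 40984, .fwd 42070, .bwd 15571],
   .loop none [.fwd 42105],
   .loop none [.fwd 41945, .bwd 42070],
   .loop none [.bwd 39421, .bwd 42073],
   .loop none [.bwd 15559, .fwd 42073, .bwd 33629],
   .loop none [.bwd 42109],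
   .loop none [.bwd 15790, .bwd 42073],
   .loop none [.bwd 16522, .bwd 42073],
   .loop none [.fwd 40072, .bwd 42073],
   .loop none [.fwd 18343, .bwd 42073],
   .loop none [.bwd 16524, .bwd 42073],
   .loop none [.fwd 18344, .bwd 42073],
   .loop none [.bwd 39422, .bwd 42073],
   .loop none [.fwd 15789, .bwd 42073],
   .loop none [.bwd 39423, .bwd 42073],
   .loop none [.fwd 36500, .fwd 42075, .bwd 37610],
   .loop none [.fwd 42120],
   .loop none [.fwd 41889, .fwd 42077, .fwd 10350],
   .loop none [.fwd 42122],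
   .loop none [.fwd 42081, .fwd 42080, .bwd 16097],
   .loop none [.fwd 42124],
   .loop none [.bwd 10341, .fwd 42085, .bwd 10701],
   .loop none [.fwd 42126],
   .loop none [.bwd 10702, .bwd 42085],
   .loop none [.bwd 9707, .fwd 42094, .bwd 9881],
   .loop none [.fwd 42129],
   .loop none [.bwd 9882, .bwd 42094],
   .loop none [.fwd 40949, .fwd 42106, .bwd 15570],
   .loop none [.fwd 42132],
   .loop none [.fwd 15559, .bwd 42110],
   .loop none [.bwd 33630, .fwd 42110, .fwd 15560],
   .loop none [.fwd 42135],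
   .loop none [.fwd 36553, .fwd 42121, .bwd 37609],
   .loop none [.fwd 42137],
   .loop none [.bwd 41890, .fwd 42123, .fwd 10351],
   .loop none [.bwd 42139],
   .loop none [.fwd 9287, .fwd 42125, .bwd 16096],
   .loop none [.fwd 42141],
   .loop none [.bwd 5532, .fwd 42125, .bwd 37200],
   .loop none [.fwd 42143],
   .loop none [.fwd 40873, .fwd 42127, .bwd 10700],
   .loop none [.fwd 42145],
   .loop none [.bwd 14026, .fwd 42130, .bwd 9880],
   .loop none [.bwd 42147],
   .loop none [.fwd 41204, .fwd 42133, .bwd 15569],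
   .loop none [.bwd 42149],
   .loop none [.bwd 10028, .fwd 42136, .fwd 15561],
   .loop none [.fwd 42151],
   .loop none [.fwd 37822, .bwd 42138],
   .loop none [.bwd 40384, .bwd 42140],
   .loop none [.fwd 41893, .bwd 42140],
   .loop none [.fwd 36460, .bwd 42140],
   .loop none [.fwd 41890, .bwd 42140],
   .loop none [.bwd 10352, .fwd 42140, .fwd 36206],
   .loop none [.bwd 42158],
   .loop none [.bwd 40385, .bwd 42140],
   .loop none [.bwd 36484, .bwd 42140],
   .loop none [.fwd 36430, .bwd 42140],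
   .loop none [.fwd 24889, .bwd 42140],
   .loop none [.fwd 39502, .bwd 42140],
   .loop none [.bwd 9286, .fwd 42142, .bwd 16095],
   .loop none [.fwd 42165],
   .loop none [.bwd 42041, .fwd 42144, .fwd 16094, .bwd 42166],
   .loop none [.bwd 42167],
   .loop none [.fwd 41106, .fwd 42146, .bwd 10699],
   .loop none [.fwd 42169],
   .loop none [.fwd 34365, .bwd 42148],
   .loop none [.fwd 14026, .bwd 42148],
   .loop none [.fwd 35319, .bwd 42148],
   .loop none [.bwd 34080, .bwd 42148],
   .loop none [.fwd 9879, .fwd 42148, .bwd 12589],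
   .loop none [.bwd 42175],
   .loop none [.fwd 41728, .bwd 42148],
   .loop none [.fwd 41667, .bwd 42148],
   .loop none [.bwd 14275, .bwd 42148],
   .loop none [.bwd 34083, .bwd 42148],
   .loop none [.bwd 14986, .bwd 42148],
   .loop none [.bwd 41202, .bwd 42150],
   .loop none [.bwd 34856, .bwd 42150],
   .loop none [.fwd 15568, .fwd 42150, .fwd 41203],
   .loop none [.bwd 42184],
   .loop none [.bwd 41204, .bwd 42150],
   .loop none [.bwd 41205, .bwd 42150],
   .loop none [.fwd 41804, .bwd 42150],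
   .loop none [.fwd 40226, .bwd 42150],
   .loop none [.bwd 41206, .bwd 42150],
   .loop none [.bwd 18735, .bwd 42150],
   .loop none [.fwd 39724, .fwd 42152, .fwd 15562],
   .loop none [.fwd 42192],
   .loop none [.fwd 10352, .bwd 42159],
   .loop none [.fwd 5533, .fwd 42168, .bwd 37248],
   .loop none [.fwd 42195],
   .loop none [.bwd 5534, .fwd 42168, .bwd 16683],
   .loop none [.fwd 42197],
   .loop none [.bwd 36731, .bwd 42168],
   .loop none [.bwd 7816, .fwd 42170, .bwd 10698],
   .loop none [.fwd 42200],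
   .loop none [.fwd 11648, .fwd 42176, .bwd 9878],
   .loop none [.fwd 42202],
   .loop none [.bwd 9879, .bwd 42176],
   .loop none [.bwd 15568, .bwd 42185],
   .loop none [.bwd 39721, .fwd 42193, .fwd 15563],
   .loop none [.fwd 42206],
   .loop none [.fwd 41929, .bwd 42196],
   .loop none [.fwd 41603, .bwd 42198],
   .loop none [.fwd 8270, .fwd 42201, .bwd 10697],
   .loop none [.fwd 42210],
   .loop none [.bwd 9767, .fwd 42203, .bwd 9877],
   .loop none [.fwd 42212],
   .loop none [.fwd 39449, .fwd 42207, .fwd 15564],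
   .loop none [.bwd 42214],
   .loop none [.fwd 41624, .fwd 42211, .bwd 10696],
   .loop none [.fwd 42216],
   .loop none [.bwd 39385, .fwd 42213, .bwd 9876],
   .loop none [.bwd 42218],
   .loop none [.fwd 37207, .bwd 42215],
   .loop none [.fwd 18487, .bwd 42215],
   .loop none [.bwd 39449, .bwd 42215],
   .loop none [.fwd 36492, .bwd 42215],
   .loop none [.bwd 39452, .bwd 42215],
   .loop none [.fwd 41589, .bwd 42215],
   .loop none [.fwd 37264, .bwd 42215],
   .loop none [.fwd 37397, .bwd 42215],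
   .loop none [.fwd 36280, .bwd 42215],
   .loop none [.fwd 40634, .bwd 42215],
   .loop none [.bwd 41623, .fwd 42217, .bwd 10695],
   .loop none [.bwd 42230],
   .loop none [.bwd 38923, .bwd 42219],
   .loop none [.fwd 39385, .bwd 42219],
   .loop none [.fwd 10560, .bwd 42219],
   .loop none [.fwd 42219, .fwd 38924, .bwd 42219],
   .loop none [.bwd 38925, .bwd 42219],
   .loop none [.fwd 40809, .bwd 42219],
   .loop none [.fwd 39516, .bwd 42219],
   .loop none [.bwd 11983, .bwd 42219],
   .loop none [.bwd 38929, .bwd 42219],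
   .loop none [.fwd 37658, .bwd 42219],
   .loop none [.bwd 39525, .bwd 42219],
   .loop none [.fwd 41623, .bwd 42231],
   .loop none [.bwd 42078, .bwd 42231],
   .loop none [.fwd 35228, .bwd 42231],
   .loop (some (21, 3)) [.fwd 42001, .fwd 35392, .bwd 37358, .fwd 39036, .fwd 39029, .bwd 35518, .bwd 41946, .bwd 4570],
   .loop (some (1, 2)) [.bwd 37396, .bwd 4402, .bwd 38896, .bwd 42244],
   .loop none [.bwd 42247],
   .loop none [.fwd 37396, .bwd 42248]]

theorem just168_len : just168.length = 250 := by decide +kernel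

theorem just168_ok : cert.okFacts 42000 just168 = true := by decide +kernel

/-- justifications -/
noncomputable def just169 : List Cert.Just :=
  [.loop none [.fwd 42227, .bwd 42248],
   .define,
   .loop (some (16, 2)) [.fwd 34516, .fwd 40133, .bwd 4403, .bwd 42249, .fwd 42251],
   .loop (some (21, 4)) [.bwd 9887, .fwd 41376, .bwd 14173, .bwd 40209, .bwd 4402, .bwd 38874, .bwd 34326, .bwd 42044],
   .loop (some (5, 2)) [.fwd 42249, .fwd 40209, .fwd 37286],
   .loop (some (8, 1)) [.bwd 41886, .fwd 39501, .bwd 41800],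
   .loop (some (14, 1)) [.fwd 9498, .bwd 41799, .fwd 41800, .bwd 9177],
   .loop (some (9, 2)) [.fwd 42249, .bwd 9177, .bwd 37262],
   .loop (some (21, 4)) [.bwd 11725, .fwd 41619, .fwd 14174, .bwd 40658, .fwd 36387, .bwd 39439, .bwd 33382, .bwd 42104],
   .loop (some (14, 2)) [.fwd 9501, .fwd 41886, .fwd 41996, .bwd 9180, .fwd 40126],
   .loop none [.fwd 42259],
   .loop none [.fwd 41982, .fwd 42260, .bwd 38002],
   .loop none [.fwd 42261],
   .loop none [.fwd 40126, .bwd 42260],
   .loop none [.fwd 36663, .fwd 42262, .bwd 38001],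
   .loop none [.fwd 42264],
   .loop none [.fwd 38000, .bwd 42265],
   .loop (some (15, 0)) [.bwd 6864, .bwd 40567, .fwd 40566, .fwd 40382],
   .loop (some (5, 2)) [.bwd 37276, .bwd 40275, .fwd 40213],
   .loop (some (15, 0)) [.fwd 36607, .bwd 5868, .bwd 5867, .fwd 40214],
   .loop (some (5, 2)) [.bwd 34616, .bwd 40738, .fwd 40512],
   .define,
   .loop (some (7, 2)) [.bwd 9210, .bwd 41803, .fwd 5591],
   .define,
   .loop (some (5, 2)) [.fwd 39533, .bwd 41803, .fwd 42273],
   .define,
   .define,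
   .loop (some (21, 4)) [.fwd 32721, .bwd 8229, .fwd 39439, .bwd 39498, .fwd 8241, .bwd 41413, .bwd 6648, .fwd 42276],
   .define,
   .loop (some (8, 1)) [.bwd 42246, .fwd 40673, .bwd 42068],
   .loop (some (6, 2)) [.bwd 37345, .bwd 4473, .bwd 41981, .fwd 36476],
   .loop none [.bwd 42280],
   .loop none [.bwd 15618, .fwd 42281, .fwd 37346],
   .loop none [.fwd 42282],
   .loop none [.fwd 37345, .bwd 42281],
   .loop none [.fwd 42008, .bwd 42281],
   .loop none [.bwd 37347, .bwd 42283],
   .define,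
   .loop (some (5, 2)) [.bwd 37203, .bwd 42284, .fwd 42287],
   .loop (some (5, 2)) [.bwd 34363, .bwd 41479, .fwd 41262],
   .loop (some (21, 2)) [.bwd 9701, .fwd 40218, .fwd 11426, .fwd 34326, .fwd 38874, .bwd 38914, .fwd 39174, .fwd 4505, .fwd 37382],
   .loop none [.fwd 42290],
   .loop none [.fwd 37382, .bwd 42291],
   .loop none [.fwd 41967, .bwd 42291],
   .loop (some (5, 2)) [.fwd 37262, .bwd 42292, .fwd 40389],
   .loop (some (14, 2)) [.bwd 36191, .fwd 42285, .bwd 42256, .bwd 9179, .fwd 37376],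
   .loop none [.fwd 42295],
   .loop none [.fwd 35226, .fwd 42296, .fwd 37390],
   .loop none [.fwd 42297],
   .loop none [.fwd 41933, .bwd 42296],
   .loop none [.fwd 37376, .bwd 42296],
   .loop none [.fwd 40117, .bwd 42298],
   .loop none [.fwd 42066, .bwd 42298],
   .loop (some (21, 4)) [.fwd 5654, .fwd 42067, .fwd 41951, .fwd 41127, .fwd 36380, .bwd 39497, .fwd 8241, .bwd 41413],
   .loop (some (5, 1)) [.fwd 42063, .fwd 40202, .bwd 41127],
   .loop (some (21, 3)) [.bwd 41848, .bwd 15618, .fwd 42284, .bwd 42001, .bwd 42246, .fwd 4570, .bwd 42046, .bwd 5916],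
   .define,
   .loop (some (5, 2)) [.fwd 33931, .fwd 42246, .fwd 42306],
   .loop (some (21, 3)) [.bwd 42019, .bwd 36625, .fwd 42056, .bwd 42302, .fwd 42301, .bwd 9277, .bwd 42067, .bwd 5654],
   .loop (some (5, 1)) [.bwd 42303, .bwd 40115, .bwd 42301],
   .loop (some (22, 9)) [.bwd 40774, .bwd 13372, .fwd 41034, .bwd 41090, .bwd 41303, .bwd 12268, .fwd 41191, .bwd 6650, .fwd 36253, .fwd 40098, .bwd 33297, .bwd 7058, .fwd 31893, .bwd 18379, .bwd 36848, .fwd 36849, .fwd 40074, .bwd 36254, .bwd 6649, .bwd 41661, .bwd 41690, .bwd 4574, .fwd 9280, .bwd 5538, .bwd 41567, .bwd 34319, .fwd 34317, .fwd 34815, .bwd 40594, .fwd 40595, .fwd 40967],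
   .loop (some (15, 0)) [.bwd 42222, .fwd 42223, .bwd 41661, .bwd 41690],
   .loop (some (20, 3)) [.fwd 41785, .fwd 12000, .bwd 41404, .bwd 4577, .bwd 4576, .bwd 42082, .fwd 10703, .fwd 42049],
   .loop (some (5, 2)) [.fwd 42082, .fwd 41420, .bwd 30530],
   .loop (some (15, 0)) [.bwd 34957, .bwd 41194, .bwd 10722, .bwd 41418],
   .define,
   .loop (some (15, 0)) [.fwd 41785, .fwd 12000, .bwd 41404, .bwd 4577],
   .loop (some (16, 4)) [.bwd 9284, .fwd 41401, .bwd 6859, .bwd 40750, .fwd 4845],
   .define,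
   .define,
   .loop (some (16, 3)) [.bwd 41934, .bwd 4579, .fwd 41668, .bwd 11602, .fwd 42319],
   .loop (some (15, 0)) [.bwd 36929, .bwd 41956, .bwd 14448, .bwd 41671],
   .define,
   .loop (some (20, 1)) [.fwd 41910, .fwd 35512, .bwd 40903, .bwd 40923, .bwd 4585, .bwd 41351, .bwd 4581, .bwd 4580, .fwd 41934],
   .loop none [.fwd 42323],
   .loop none [.fwd 41934, .bwd 42324],
   .loop none [.fwd 42039, .fwd 42324, .bwd 42320],
   .loop none [.fwd 42326],
   .loop none [.bwd 37778, .bwd 42324],
   .loop none [.fwd 42319, .bwd 42327],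
   .loop (some (9, 2)) [.bwd 41914, .fwd 42325, .bwd 36697, .fwd 42273],
   .loop none [.fwd 42330],
   .loop none [.fwd 42273, .bwd 42331],
   .loop none [.bwd 42274, .bwd 42331],
   .loop (some (16, 0)) [.bwd 42155, .fwd 42154, .bwd 4849, .bwd 42103, .bwd 9287],
   .loop (some (5, 1)) [.bwd 41895, .bwd 42334, .fwd 42253],
   .loop (some (8, 2)) [.bwd 4581, .fwd 42044, .bwd 35296],
   .loop (some (1, 2)) [.bwd 9286, .fwd 42334, .fwd 41894],
   .loop (some (9, 1)) [.bwd 41897, .bwd 42334, .fwd 36619],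
   .define,
   .define,
   .define,
   .loop (some (19, 4)) [.fwd 35406, .fwd 42336, .bwd 41895, .fwd 42339, .fwd 42340, .fwd 42341],
   .loop (some (16, 4)) [.bwd 41350, .bwd 42335, .fwd 9888, .bwd 11746, .bwd 11740],
   .loop (some (7, 2)) [.bwd 41351, .bwd 42336, .fwd 5526],
   .define,
   .define,
   .define,
   .define,
   .loop (some (21, 5)) [.fwd 42342, .fwd 35406, .fwd 42336, .fwd 4582, .fwd 42345, .fwd 42346, .fwd 42347, .fwd 42348],
   .loop (some (5, 1)) [.fwd 41379, .fwd 42335, .bwd 42336],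
   .loop (some (6, 2)) [.bwd 42345, .bwd 41350, .bwd 42336, .bwd 5525],
   .loop none [.bwd 42351],
   .loop none [.fwd 5524, .fwd 42352, .fwd 42346],
   .loop none [.fwd 42353],
   .loop none [.fwd 42345, .bwd 42352],
   .loop none [.bwd 42347, .bwd 42354],
   .define,
   .loop (some (14, 2)) [.bwd 42339, .fwd 41895, .fwd 36402, .fwd 42357],
   .loop (some (15, 0)) [.bwd 34815, .bwd 41935, .fwd 4580, .fwd 4581],
   .loop (some (9, 1)) [.bwd 41638, .fwd 42335, .fwd 36402],
   .define,
   .loop (some (19, 4)) [.fwd 34491, .fwd 42355, .bwd 42161, .fwd 42160, .fwd 42254, .fwd 42361],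
   .loop (some (7, 2)) [.bwd 41131, .bwd 42355, .fwd 40600],
   .define,
   .define,
   .loop (some (21, 5)) [.fwd 42362, .fwd 34491, .fwd 42355, .bwd 4582, .bwd 42336, .bwd 9294, .fwd 42364, .fwd 42365],
   .loop (some (14, 1)) [.fwd 42288, .fwd 9650, .bwd 42160, .fwd 42161, .bwd 41359],
   .loop none [.bwd 42367],
   .loop none [.fwd 42287, .bwd 42368],
   .loop none [.bwd 42288, .bwd 42368],
   .loop (some (15, 0)) [.fwd 41993, .fwd 11543, .bwd 42081, .bwd 41132],
   .define,
   .define,
   .loop (some (21, 4)) [.bwd 36553, .bwd 41397, .fwd 35390, .fwd 42344, .fwd 9290, .bwd 42363, .bwd 9748, .fwd 42373],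
   .loop (some (6, 2)) [.bwd 9291, .bwd 42344, .bwd 9292],
   .define,
   .loop (some (19, 2)) [.fwd 40365, .bwd 40889, .bwd 41660, .bwd 35862, .fwd 42375, .bwd 36160],
   .loop (some (21, 1)) [.fwd 39556, .fwd 38987, .fwd 38584, .bwd 39754, .bwd 40889, .bwd 41660, .bwd 35862, .fwd 4586],
   .loop (some (1, 2)) [.bwd 4586, .fwd 41773, .bwd 41901],
   .loop (some (14, 1)) [.bwd 36264, .fwd 36160, .bwd 42375, .fwd 35864],
   .loop (some (9, 1)) [.bwd 40469, .bwd 41773, .fwd 35864],
   .define,
   .define,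
   .define,
   .loop (some (19, 3)) [.fwd 42380, .fwd 42270, .bwd 42378, .fwd 42382, .fwd 42383, .fwd 42384],
   .loop (some (16, 4)) [.bwd 4587, .bwd 42379, .fwd 41899, .fwd 36898, .bwd 41207],
   .loop (some (7, 2)) [.bwd 35201, .fwd 42378, .fwd 9695],
   .define,
   .loop (some (8, 2)) [.fwd 35866, .fwd 42382, .fwd 42388],
   .loop (some (6, 2)) [.bwd 4587, .fwd 42378, .bwd 9694],
   .loop (some (14, 3)) [.bwd 42383, .bwd 42382, .bwd 35687, .fwd 41391, .fwd 19096],
   .loop none [.bwd 42391],
   .loop none [.bwd 42384, .bwd 42392],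
   .loop none [.fwd 42383, .bwd 42392],
   .loop (some (15, 0)) [.fwd 41043, .fwd 36762, .bwd 36746, .fwd 35866],
   .define,
   .define,
   .define,
   .loop (some (19, 3)) [.fwd 42389, .fwd 42333, .fwd 42390, .fwd 42396, .fwd 42397, .fwd 42398],
   .loop (some (7, 2)) [.bwd 42364, .bwd 4588, .bwd 42390, .bwd 36434],
   .loop none [.bwd 42400],
   .loop none [.fwd 42364, .bwd 42401],
   .loop none [.bwd 42365, .bwd 42401],
   .loop (some (21, 6)) [.fwd 42389, .fwd 42333, .fwd 42390, .bwd 9293, .bwd 35390, .bwd 35404, .fwd 41250, .bwd 41188, .fwd 34893],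
   .loop none [.bwd 42404],
   .loop none [.bwd 5482, .fwd 42405, .bwd 42388],
   .loop none [.fwd 42406],
   .loop none [.bwd 42389, .bwd 42405],
   .loop none [.fwd 42399, .bwd 42405],
   .loop none [.fwd 42394, .bwd 42407],
   .loop none [.fwd 42382, .bwd 42407],
   .loop (some (8, 1)) [.fwd 5596, .fwd 42380, .fwd 36262, .fwd 42396],
   .loop none [.fwd 42412],
   .loop none [.bwd 41847, .fwd 42413, .fwd 42397],
   .loop none [.fwd 42414],
   .loop none [.fwd 42396, .bwd 42413],
   .loop none [.bwd 42398, .bwd 42415],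
   .loop (some (15, 0)) [.fwd 9695, .fwd 9696, .fwd 36652, .fwd 36262],
   .define,
   .define,
   .define,
   .define,
   .loop (some (19, 4)) [.bwd 42403, .fwd 42402, .fwd 42419, .fwd 42420, .fwd 42421, .fwd 42422],
   .loop (some (16, 0)) [.bwd 6719, .bwd 40130, .bwd 5681, .fwd 18127, .bwd 9295],
   .loop (some (21, 6)) [.fwd 42423, .bwd 42403, .fwd 42402, .fwd 9294, .bwd 35406, .fwd 35405, .bwd 41339, .fwd 41340, .fwd 34870],
   .loop none [.bwd 42425],
   .loop none [.bwd 42423, .bwd 42426],
   .loop none [.fwd 42422, .bwd 42426],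
   .loop (some (5, 3)) [.bwd 42424, .bwd 42402, .bwd 39598, .fwd 39599],
   .loop none [.fwd 42429],
   .loop none [.fwd 42286, .bwd 42430],
   .loop none [.fwd 39599, .bwd 42430],
   .loop (some (8, 1)) [.bwd 5592, .fwd 42272, .bwd 4589, .fwd 42419],
   .loop none [.fwd 42433],
   .loop none [.bwd 42357, .fwd 42434, .fwd 42420],
   .loop none [.fwd 42435],
   .loop none [.fwd 42419, .bwd 42434],
   .loop none [.bwd 42421, .bwd 42436],
   .loop (some (6, 2)) [.bwd 42356, .bwd 9295, .bwd 42402, .bwd 36505],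
   .loop none [.bwd 42439],
   .loop none [.fwd 42356, .bwd 42440],
   .loop none [.fwd 42294, .fwd 42440, .fwd 42348],
   .loop none [.fwd 42442],
   .loop none [.bwd 36555, .fwd 42443, .fwd 42349],
   .loop none [.fwd 42444],
   .loop none [.bwd 42342, .bwd 42445],
   .loop none [.fwd 42341, .bwd 42445],
   .loop (some (14, 3)) [.bwd 42357, .fwd 42437, .bwd 34871, .bwd 41340, .bwd 40076],
   .loop none [.bwd 42448],
   .loop none [.bwd 42438, .bwd 42449],
   .loop none [.fwd 42357, .bwd 42449],
   .loop none [.bwd 40075, .fwd 42449, .fwd 42358],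
   .loop none [.fwd 42452],
   .loop none [.bwd 42340, .bwd 42453],
   .loop none [.fwd 42339, .bwd 42453],
   .define,
   .define,
   .loop (some (19, 5)) [.fwd 42272, .bwd 42432, .fwd 42431, .fwd 41848, .bwd 42305, .fwd 42457],
   .loop (some (5, 2)) [.bwd 42403, .bwd 39598, .bwd 42272, .fwd 42338],
   .loop none [.bwd 42459],
   .loop none [.fwd 35932, .fwd 42460, .fwd 42366],
   .loop none [.fwd 42461],
   .loop none [.fwd 42403, .bwd 42460],
   .loop none [.fwd 42427, .bwd 42460],
   .loop none [.bwd 42362, .bwd 42462],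
   .loop none [.fwd 42361, .bwd 42462],
   .loop (some (15, 0)) [.fwd 36652, .fwd 36262, .fwd 4588, .fwd 4589],
   .loop (some (21, 4)) [.fwd 6648, .fwd 41413, .bwd 4619, .bwd 4618, .fwd 33044, .bwd 32062, .fwd 8202, .bwd 42063],
   .loop (some (21, 5)) [.bwd 34984, .fwd 42301, .bwd 41953, .bwd 40174, .bwd 41885, .fwd 41886, .bwd 5487, .fwd 42468, .fwd 42276],
   .loop none [.fwd 42469],
   .loop none [.fwd 42276, .bwd 42470],
   .loop none [.bwd 42277, .bwd 42470],
   .define,
   .define,
   .loop (some (19, 3)) [.bwd 41873, .fwd 41872, .fwd 41597, .bwd 42225, .fwd 42473, .fwd 42474],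
   .loop (some (21, 5)) [.bwd 36107, .bwd 41873, .fwd 41872, .fwd 41597, .fwd 4840, .bwd 42465, .fwd 35932, .fwd 42464, .fwd 42428],
   .loop none [.fwd 42476],
   .loop none [.fwd 42428, .bwd 42477],
   .loop none [.fwd 42450, .bwd 42477],
   .loop (some (14, 3)) [.bwd 42473, .fwd 42225, .bwd 34498, .fwd 42355, .bwd 41358],
   .loop none [.bwd 42480],
   .loop none [.bwd 42474, .bwd 42481],
   .loop none [.fwd 42473, .bwd 42481],
   .loop (some (16, 4)) [.bwd 4841, .fwd 34489, .fwd 5582, .fwd 39500, .fwd 6855],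
   .loop (some (5, 1)) [.fwd 41799, .bwd 34489, .bwd 42465],
   .loop (some (14, 1)) [.fwd 41359, .bwd 42355, .bwd 34491, .bwd 35409],
   .define,
   .loop (some (15, 0)) [.fwd 6781, .fwd 6782, .fwd 35974, .bwd 4843],
   .loop (some (21, 3)) [.fwd 40904, .fwd 41919, .bwd 39725, .bwd 41111, .fwd 41110, .bwd 4844, .fwd 36160, .fwd 5528],
   .loop (some (6, 2)) [.bwd 4845, .bwd 41110, .fwd 5651],
   .define,
   .define,
   .define,
   .define,
   .define,
   .loop (some (19, 5)) [.fwd 42490, .fwd 42491, .fwd 42492, .fwd 42493, .fwd 42494, .fwd 42495],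
   .loop (some (7, 3)) [.bwd 4846, .bwd 42490, .fwd 5652, .fwd 42482],
   .loop none [.fwd 42497],
   .loop none [.bwd 42475, .bwd 42498]]

theorem just169_len : just169.length = 250 := by decide +kernel

theorem just169_ok : cert.okFacts 42250 just169 = true := by decide +kernel

/-- justifications -/
noncomputable def just170 : List Cert.Just :=
  [.loop none [.fwd 42482, .bwd 42498],
   .loop (some (21, 7)) [.fwd 42496, .fwd 42490, .bwd 41911, .fwd 41912, .fwd 9290, .bwd 42363, .fwd 40579, .fwd 14483, .fwd 41719],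
   .loop none [.bwd 42501],
   .loop none [.bwd 42496, .bwd 42502],
   .loop none [.fwd 41719, .fwd 42502, .bwd 42495],
   .loop none [.fwd 42504],
   .loop none [.fwd 41867, .fwd 42505, .bwd 42494],
   .loop none [.fwd 42506],
   .loop none [.fwd 41916, .fwd 42507, .bwd 42493],
   .loop none [.fwd 42508],
   .loop none [.bwd 41917, .fwd 42509, .bwd 42492],
   .loop none [.fwd 42510],
   .loop none [.fwd 42491, .bwd 42511],
   .define,
   .loop (some (15, 1)) [.bwd 5653, .bwd 5652, .bwd 36164, .fwd 42513],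
   .loop (some (16, 2)) [.bwd 34972, .fwd 39395, .fwd 35144, .fwd 42337, .bwd 5533],
   .loop (some (20, 5)) [.bwd 5653, .bwd 5652, .bwd 36164, .fwd 4846, .fwd 42337, .bwd 42208, .fwd 42040, .bwd 11531, .fwd 41602],
   .loop none [.fwd 42516],
   .loop none [.fwd 36694, .fwd 42517, .bwd 13216],
   .loop none [.fwd 42518],
   .loop none [.fwd 42514, .fwd 42517, .bwd 41602],
   .loop none [.bwd 42520],
   .loop none [.fwd 42199, .bwd 42517],
   .loop none [.fwd 36740, .fwd 42519, .bwd 13215],
   .loop none [.fwd 42523],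
   .loop none [.bwd 42514, .bwd 42521],
   .loop none [.fwd 42513, .bwd 42521],
   .loop none [.fwd 42279, .fwd 42524, .bwd 13214],
   .loop none [.fwd 42527],
   .loop none [.fwd 13213, .bwd 42528],
   .loop (some (5, 1)) [.fwd 42299, .bwd 42337, .fwd 42500],
   .define,
   .define,
   .define,
   .define,
   .define,
   .define,
   .define,
   .define,
   .define,
   .define,
   .define,
   .define,
   .define,
   .define,
   .loop (some (22, 21)) [.fwd 11181, .fwd 9686, .bwd 11615, .bwd 41677, .bwd 5588, .fwd 36248, .bwd 5492, .bwd 41634, .fwd 11744, .fwd 41894, .bwd 35144, .bwd 6785, .fwd 39673, .fwd 10042, .fwd 11817, .bwd 39412, .fwd 39413, .fwd 42531, .fwd 42532, .fwd 42533, .fwd 42534, .fwd 42535, .fwd 42536, .fwd 42537, .fwd 42538, .fwd 42539, .fwd 42540, .fwd 42541, .fwd 42542, .fwd 42543, .fwd 42544],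
   .loop (some (15, 0)) [.fwd 41622, .bwd 41514, .bwd 41788, .fwd 41789],
   .loop (some (9, 1)) [.bwd 36463, .fwd 39777, .bwd 34370],
   .define,
   .loop (some (15, 0)) [.bwd 41788, .fwd 41789, .fwd 4850, .fwd 4851],
   .loop (some (21, 2)) [.fwd 14501, .fwd 41924, .bwd 41764, .fwd 41610, .bwd 42500, .fwd 42499, .bwd 41873, .fwd 5479, .bwd 42307],
   .loop none [.fwd 42550],
   .loop none [.fwd 42306, .bwd 42551],
   .loop none [.bwd 42307, .bwd 42551],
   .define,
   .define,
   .define,
   .define,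
   .define,
   .loop (some (19, 5)) [.fwd 42553, .fwd 42554, .fwd 42555, .fwd 42556, .fwd 42557, .fwd 42558],
   .loop (some (7, 2)) [.bwd 40683, .bwd 42553, .bwd 12606],
   .loop (some (21, 7)) [.fwd 42559, .fwd 42553, .bwd 5479, .fwd 41873, .fwd 36107, .fwd 42479, .fwd 42451, .bwd 41880, .fwd 42370],
   .loop none [.bwd 42561],
   .loop none [.bwd 42559, .bwd 42562],
   .loop none [.fwd 42370, .fwd 42562, .bwd 42558],
   .loop none [.fwd 42564],
   .loop none [.fwd 42486, .fwd 42565, .bwd 42557],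
   .loop none [.fwd 42566],
   .loop none [.fwd 42441, .fwd 42567, .bwd 42556],
   .loop none [.fwd 42568],
   .loop none [.fwd 42294, .fwd 42569, .bwd 42555],
   .loop none [.fwd 42570],
   .loop none [.fwd 42554, .bwd 42571],
   .loop (some (7, 2)) [.bwd 42409, .bwd 5481, .bwd 42478, .bwd 5914],
   .loop none [.bwd 42573],
   .loop none [.fwd 42409, .bwd 42574],
   .loop none [.fwd 42417, .bwd 42574],
   .define,
   .loop (some (5, 2)) [.bwd 40599, .bwd 42478, .fwd 42577],
   .define,
   .loop (some (21, 3)) [.bwd 42289, .fwd 35673, .fwd 41847, .bwd 42576, .fwd 42575, .bwd 34893, .bwd 41657, .fwd 14502],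
   .loop (some (6, 2)) [.fwd 42385, .fwd 35125, .bwd 42575, .bwd 5913],
   .loop none [.bwd 42581],
   .loop none [.bwd 42385, .bwd 42582],
   .loop none [.fwd 42393, .bwd 42582],
   .loop (some (15, 0)) [.fwd 36939, .fwd 36261, .bwd 40885, .bwd 5482],
   .loop (some (7, 2)) [.bwd 40885, .fwd 42411, .fwd 35201],
   .loop (some (1, 2)) [.bwd 5483, .bwd 36933, .fwd 40949],
   .define,
   .define,
   .define,
   .define,
   .loop (some (19, 3)) [.fwd 42268, .fwd 42387, .fwd 42586, .fwd 42589, .fwd 42590, .fwd 42591],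
   .loop (some (5, 1)) [.fwd 40968, .fwd 42587, .bwd 42586],
   .define,
   .loop (some (8, 2)) [.fwd 36261, .fwd 42589, .fwd 42594],
   .loop (some (6, 2)) [.bwd 5484, .bwd 42586, .fwd 41091],
   .loop (some (14, 4)) [.bwd 42589, .bwd 9437, .fwd 41110, .bwd 36085, .bwd 42595],
   .loop none [.fwd 42597],
   .loop none [.bwd 42590, .fwd 42598, .fwd 42595],
   .loop none [.bwd 42599],
   .loop none [.bwd 42591, .bwd 42600],
   .loop none [.fwd 42590, .bwd 42600],
   .loop (some (15, 0)) [.bwd 36849, .bwd 40754, .fwd 36939, .fwd 36261],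
   .define,
   .loop (some (19, 3)) [.bwd 42374, .bwd 42373, .fwd 42596, .fwd 42289, .bwd 42580, .fwd 42560],
   .loop (some (20, 5)) [.fwd 11181, .fwd 42102, .bwd 5486, .bwd 5485, .bwd 41262, .bwd 5657, .bwd 5656, .bwd 42279, .fwd 42529],
   .loop none [.fwd 42606],
   .loop none [.bwd 11584, .fwd 42607, .bwd 13212],
   .loop none [.fwd 42608],
   .loop none [.fwd 42545, .fwd 42607, .bwd 42529],
   .loop none [.bwd 42610],
   .loop none [.bwd 10668, .fwd 42609, .bwd 13211],
   .loop none [.fwd 42612],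
   .loop none [.bwd 5655, .fwd 42611, .bwd 42544],
   .loop none [.fwd 42614],
   .loop none [.bwd 42545, .bwd 42611],
   .loop none [.bwd 12000, .fwd 42613, .bwd 13210],
   .loop none [.fwd 42617],
   .loop none [.bwd 36740, .fwd 42615, .bwd 42543],
   .loop none [.fwd 42619],
   .loop none [.fwd 41404, .fwd 42618, .bwd 13209],
   .loop none [.fwd 42621],
   .loop none [.bwd 5691, .fwd 42620, .bwd 42542],
   .loop none [.fwd 42623],
   .loop none [.bwd 9284, .fwd 42622, .bwd 13208],
   .loop none [.fwd 42625],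
   .loop none [.bwd 41609, .fwd 42624, .bwd 42541],
   .loop none [.fwd 42627],
   .loop none [.bwd 9285, .fwd 42626, .bwd 13207],
   .loop none [.fwd 42629],
   .loop none [.bwd 35308, .fwd 42628, .bwd 42540],
   .loop none [.fwd 42631],
   .loop none [.bwd 41935, .fwd 42630, .bwd 13206],
   .loop none [.fwd 42633],
   .loop none [.bwd 5650, .fwd 42632, .bwd 42539],
   .loop none [.fwd 42635],
   .loop none [.bwd 34815, .fwd 42634, .bwd 13205],
   .loop none [.bwd 42637],
   .loop none [.fwd 36452, .fwd 42636, .bwd 42538],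
   .loop none [.fwd 42639],
   .loop none [.fwd 41918, .bwd 42638],
   .loop none [.fwd 13204, .fwd 42638, .bwd 32831],
   .loop none [.bwd 42642],
   .loop none [.fwd 34815, .bwd 42638],
   .loop none [.fwd 40594, .bwd 42638],
   .loop none [.fwd 13339, .bwd 42638],
   .loop none [.fwd 40863, .bwd 42638],
   .loop none [.bwd 40728, .bwd 42638],
   .loop none [.bwd 40059, .bwd 42638],
   .loop none [.fwd 40970, .bwd 42638],
   .loop none [.fwd 42359, .bwd 42638],
   .loop none [.bwd 35944, .fwd 42640, .bwd 42537],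
   .loop none [.fwd 42652],
   .loop none [.bwd 13204, .bwd 42643],
   .loop none [.bwd 32833, .fwd 42643, .bwd 13203],
   .loop none [.fwd 42655],
   .loop none [.bwd 6784, .fwd 42653, .bwd 42536],
   .loop none [.fwd 42657],
   .loop none [.fwd 32827, .fwd 42656, .bwd 13202],
   .loop none [.fwd 42659],
   .loop none [.bwd 36464, .fwd 42658, .bwd 42535],
   .loop none [.fwd 42661],
   .loop none [.bwd 10672, .fwd 42660, .bwd 13201],
   .loop none [.fwd 42663],
   .loop none [.fwd 42030, .fwd 42662, .bwd 42534],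
   .loop none [.fwd 42665],
   .loop none [.fwd 42048, .fwd 42664, .bwd 13200],
   .loop none [.fwd 42667],
   .loop none [.bwd 10694, .fwd 42666, .bwd 42533],
   .loop none [.fwd 42669],
   .loop none [.bwd 10704, .fwd 42668, .bwd 13199],
   .loop none [.fwd 42671],
   .loop none [.bwd 42251, .fwd 42670, .bwd 42532],
   .loop none [.fwd 42673],
   .loop none [.fwd 41374, .bwd 42672],
   .loop none [.fwd 42531, .bwd 42674],
   .loop (some (15, 0)) [.bwd 14441, .bwd 12607, .bwd 12606, .fwd 36458],
   .define,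
   .loop (some (15, 0)) [.fwd 42616, .fwd 11181, .fwd 42102, .bwd 5486],
   .loop (some (6, 2)) [.fwd 42458, .fwd 36541, .fwd 42468, .fwd 36670],
   .loop none [.bwd 42680],
   .loop none [.bwd 42458, .bwd 42681],
   .loop none [.fwd 42578, .fwd 42681, .bwd 42457],
   .loop none [.bwd 42683],
   .loop none [.fwd 42577, .bwd 42684],
   .loop none [.bwd 42578, .bwd 42684],
   .loop (some (14, 3)) [.fwd 37296, .bwd 42063, .bwd 9440, .bwd 42303, .fwd 9654],
   .loop none [.bwd 42687],
   .loop none [.fwd 42058, .bwd 42688],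
   .loop none [.bwd 37296, .bwd 42688],
   .define,
   .loop (some (15, 0)) [.fwd 41498, .bwd 5490, .bwd 5489, .fwd 42255],
   .loop (some (9, 1)) [.bwd 40654, .bwd 41992, .bwd 9441],
   .loop (some (15, 0)) [.fwd 42081, .bwd 11543, .bwd 41993, .bwd 42255],
   .loop (some (9, 1)) [.fwd 14790, .bwd 41504, .bwd 9443],
   .define,
   .loop (some (15, 0)) [.bwd 41993, .bwd 42255, .fwd 5489, .fwd 5490],
   .loop (some (15, 0)) [.bwd 42644, .fwd 42645, .fwd 10710, .fwd 41640],
   .define,
   .loop (some (5, 2)) [.fwd 37212, .bwd 23196, .fwd 41296],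
   .define,
   .loop (some (15, 0)) [.fwd 14449, .fwd 41521, .fwd 5493, .fwd 5494],
   .loop (some (9, 1)) [.bwd 41714, .bwd 41749, .bwd 9448],
   .loop (some (7, 2)) [.bwd 42373, .fwd 40832, .bwd 42441, .bwd 39137],
   .loop none [.bwd 42704],
   .loop none [.fwd 42373, .bwd 42705],
   .loop none [.bwd 42374, .bwd 42705],
   .loop (some (21, 6)) [.bwd 42447, .fwd 42446, .fwd 35406, .bwd 9294, .bwd 42402, .bwd 39407, .fwd 39408, .fwd 38851, .bwd 42676],
   .loop none [.bwd 42708],
   .loop none [.fwd 42447, .bwd 42709],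
   .loop none [.fwd 42454, .bwd 42709],
   .define,
   .loop (some (19, 1)) [.fwd 39758, .bwd 40784, .bwd 41920, .bwd 40904, .bwd 42489, .fwd 40612],
   .loop (some (14, 2)) [.fwd 9645, .bwd 42713, .bwd 40612, .bwd 9465, .fwd 42589],
   .loop none [.fwd 42714],
   .loop none [.fwd 42602, .bwd 42715],
   .loop none [.fwd 42589, .bwd 42715],
   .loop (some (15, 0)) [.fwd 36904, .bwd 36465, .fwd 36431, .fwd 36347],
   .loop (some (15, 0)) [.fwd 11442, .fwd 40651, .bwd 12144, .fwd 36274],
   .define,
   .loop (some (15, 0)) [.bwd 41147, .bwd 5535, .bwd 5534, .bwd 42208],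
   .define,
   .define,
   .loop (some (15, 0)) [.bwd 5918, .fwd 35226, .bwd 41147, .bwd 5535],
   .loop (some (15, 0)) [.bwd 42040, .fwd 42208, .fwd 5534, .fwd 5535],
   .loop (some (1, 2)) [.bwd 5540, .fwd 41693, .bwd 41375],
   .loop (some (16, 2)) [.bwd 11614, .bwd 41968, .bwd 5541, .bwd 42726, .bwd 10705],
   .define,
   .loop (some (5, 2)) [.fwd 42726, .fwd 41756, .fwd 42728],
   .loop (some (15, 0)) [.bwd 41090, .bwd 41303, .bwd 14691, .bwd 41754],
   .loop (some (15, 0)) [.fwd 6646, .fwd 6647, .fwd 42011, .bwd 41969],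
   .define,
   .loop (some (22, 19)) [.fwd 42676, .fwd 17975, .bwd 17271, .bwd 33081, .bwd 10042, .fwd 11818, .bwd 40068, .fwd 41338, .bwd 41371, .bwd 6855, .fwd 41622, .bwd 41514, .bwd 5585, .bwd 35078, .bwd 5493, .bwd 41521, .fwd 34560, .bwd 41899, .fwd 41900, .fwd 35996, .bwd 13195, .fwd 34429, .fwd 10672, .fwd 10673, .bwd 42086, .fwd 42083, .fwd 10674, .bwd 10339, .fwd 41227, .bwd 11601, .bwd 6856, .fwd 40687],
   .loop none [.bwd 42733],
   .loop none [.bwd 42252, .bwd 42734],
   .loop none [.fwd 42251, .bwd 42734],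
   .loop none [.bwd 42676, .bwd 42734],
   .loop none [.bwd 42710, .bwd 42734],
   .loop none [.bwd 42711, .bwd 42734],
   .loop (some (15, 0)) [.fwd 10694, .fwd 42243, .fwd 41622, .bwd 41514],
   .loop (some (5, 2)) [.fwd 40811, .bwd 41535, .fwd 41531],
   .define,
   .loop (some (15, 0)) [.bwd 42322, .bwd 41939, .bwd 11618, .bwd 41677, .bwd 5588],
   .loop none [.bwd 42743],
   .loop none [.fwd 42322, .bwd 42744],
   .define,
   .define,
   .loop (some (15, 0)) [.bwd 40046, .bwd 35996, .bwd 41900, .bwd 41874],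
   .define]

theorem just170_len : just170.length = 250 := by decide +kernel

theorem just170_ok : cert.okFacts 42500 just170 = true := by decide +kernel

/-- justifications -/
noncomputable def just171 : List Cert.Just :=
  [.loop (some (15, 0)) [.fwd 11417, .bwd 5596, .bwd 41612, .bwd 5592],
   .define,
   .loop (some (15, 0)) [.bwd 41900, .bwd 41874, .fwd 5591, .fwd 5592],
   .define,
   .loop (some (7, 3)) [.fwd 11417, .bwd 42583, .fwd 36939, .fwd 42601],
   .loop none [.fwd 42754],
   .loop none [.bwd 42592, .bwd 42755],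
   .loop none [.fwd 42601, .bwd 42755],
   .loop (some (15, 0)) [.bwd 42749, .fwd 5591, .fwd 5592, .fwd 41612, .fwd 5596],
   .loop none [.bwd 42758],
   .loop none [.fwd 42749, .bwd 42759],
   .loop (some (9, 2)) [.fwd 40097, .bwd 8378, .bwd 42735],
   .loop (some (15, 0)) [.bwd 34682, .bwd 4847, .bwd 4846, .fwd 36164],
   .define,
   .loop (some (15, 0)) [.bwd 42722, .fwd 42040, .bwd 11531, .fwd 42525, .bwd 5653],
   .loop none [.bwd 42764],
   .loop none [.fwd 42722, .bwd 42765],
   .loop (some (15, 0)) [.bwd 41263, .bwd 5657, .bwd 5656, .bwd 42279],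
   .loop (some (15, 0)) [.bwd 42691, .bwd 42102, .bwd 11181, .bwd 42616, .fwd 42279],
   .loop none [.bwd 42768],
   .loop none [.fwd 42691, .bwd 42769],
   .define,
   .loop (some (15, 0)) [.bwd 35532, .bwd 36188, .bwd 41263, .bwd 5657],
   .define,
   .loop (some (15, 0)) [.bwd 42616, .fwd 42279, .fwd 5656, .fwd 5657],
   .loop (some (15, 0)) [.fwd 41900, .fwd 35996, .fwd 40046, .fwd 41906],
   .loop (some (15, 0)) [.bwd 10706, .bwd 42675, .bwd 41815, .fwd 41816],
   .define,
   .loop (some (5, 2)) [.fwd 40771, .fwd 41579, .fwd 42777],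
   .define,
   .loop (some (16, 2)) [.bwd 42777, .bwd 11448, .bwd 41826, .fwd 35324, .fwd 42703, .bwd 37085],
   .loop none [.bwd 42780],
   .loop none [.fwd 42777, .bwd 42781],
   .loop none [.bwd 42778, .bwd 42781],
   .loop (some (5, 2)) [.bwd 42703, .fwd 41825, .fwd 37874],
   .loop (some (15, 0)) [.bwd 41815, .fwd 41816, .fwd 5660, .fwd 5661],
   .loop (some (15, 0)) [.bwd 40820, .bwd 41081, .fwd 5871, .bwd 9536],
   .loop (some (15, 0)) [.fwd 6716, .fwd 6717, .fwd 41629, .bwd 41808],
   .define,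
   .loop (some (15, 0)) [.fwd 39137, .bwd 36507, .bwd 41546, .bwd 41777],
   .define,
   .loop (some (5, 2)) [.fwd 41033, .bwd 41824, .fwd 42703],
   .loop (some (15, 0)) [.bwd 34696, .bwd 41069, .bwd 14536, .bwd 41485],
   .define,
   .loop (some (15, 0)) [.bwd 42747, .fwd 41941, .bwd 11586, .bwd 41491, .bwd 5687],
   .loop none [.bwd 42794],
   .loop none [.fwd 42747, .bwd 42795],
   .define,
   .loop (some (15, 0)) [.fwd 42128, .fwd 10703, .fwd 42049, .fwd 42312],
   .loop (some (15, 0)) [.bwd 42699, .bwd 41634, .fwd 11744, .bwd 10362, .fwd 41910],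
   .loop none [.bwd 42799],
   .loop none [.fwd 42699, .bwd 42800],
   .loop (some (9, 2)) [.fwd 42735, .fwd 34522, .fwd 39598],
   .loop (some (7, 2)) [.fwd 40566, .bwd 41169, .bwd 10706],
   .loop (some (5, 1)) [.fwd 42756, .bwd 40213, .fwd 40588],
   .loop (some (15, 0)) [.bwd 36434, .bwd 36608, .fwd 36607, .bwd 5868],
   .loop (some (15, 0)) [.bwd 42271, .bwd 4412, .bwd 40214, .fwd 5867, .fwd 5868],
   .loop none [.bwd 42806],
   .loop none [.fwd 42271, .bwd 42807],
   .loop (some (15, 0)) [.bwd 40333, .fwd 14557, .bwd 12529, .fwd 40622],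
   .define,
   .loop (some (15, 0)) [.fwd 14452, .fwd 41711, .bwd 40820, .bwd 41081],
   .loop (some (15, 0)) [.bwd 42548, .bwd 4850, .bwd 41789, .fwd 41788, .fwd 41514],
   .loop none [.bwd 42812],
   .loop none [.fwd 42548, .bwd 42813],
   .define,
   .loop (some (15, 0)) [.bwd 42205, .bwd 40074, .bwd 36849, .bwd 40754],
   .loop (some (15, 0)) [.fwd 40166, .fwd 39551, .bwd 40166, .bwd 40304],
   .define,
   .define,
   .loop (some (15, 0)) [.bwd 40166, .bwd 40304, .fwd 5914, .fwd 5915],
   .loop (some (15, 0)) [.bwd 41661, .bwd 41690, .bwd 40633, .fwd 36624],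
   .loop (some (15, 0)) [.bwd 42723, .fwd 5534, .fwd 5535, .fwd 41147, .bwd 35226],
   .loop none [.bwd 42822],
   .loop none [.fwd 42723, .bwd 42823],
   .loop (some (16, 2)) [.fwd 11606, .fwd 32681, .bwd 33922, .fwd 40444, .bwd 11588],
   .loop (some (16, 2)) [.fwd 6727, .bwd 42090, .fwd 42091, .fwd 40840, .bwd 11691],
   .loop (some (5, 2)) [.bwd 33567, .bwd 41276, .bwd 40811],
   .loop (some (21, 4)) [.fwd 39317, .fwd 31225, .fwd 30511, .bwd 30267, .bwd 39298, .bwd 41774, .fwd 13372, .bwd 42783],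
   .loop (some (21, 4)) [.fwd 39298, .bwd 30975, .fwd 5978, .fwd 5979, .bwd 5990, .bwd 39314, .bwd 41375, .bwd 42729],
   .define,
   .loop (some (19, 2)) [.bwd 33701, .fwd 39314, .bwd 5989, .bwd 5988, .fwd 42313, .fwd 42830],
   .loop (some (14, 3)) [.bwd 42830, .bwd 42313, .bwd 39972, .fwd 11517, .fwd 9670],
   .loop none [.bwd 42832],
   .loop none [.bwd 42831, .bwd 42833],
   .loop none [.fwd 42830, .bwd 42833],
   .define,
   .loop (some (21, 4)) [.bwd 11607, .bwd 33701, .fwd 39314, .bwd 5989, .bwd 32691, .bwd 40526, .bwd 6656, .fwd 42836],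
   .loop (some (15, 0)) [.bwd 35784, .bwd 36473, .fwd 40769, .fwd 41777],
   .loop (some (15, 0)) [.bwd 42819, .bwd 5914, .fwd 40304, .fwd 40166, .fwd 39551],
   .loop none [.bwd 42839],
   .loop none [.fwd 42819, .bwd 42840],
   .loop (some (15, 0)) [.bwd 42732, .bwd 5542, .fwd 41969, .bwd 42011, .bwd 6647],
   .loop none [.bwd 42842],
   .loop none [.fwd 42732, .bwd 42843],
   .loop (some (15, 0)) [.fwd 42205, .fwd 42186, .fwd 12872, .fwd 36480],
   .loop (some (7, 3)) [.bwd 6654, .bwd 42237, .fwd 42234, .bwd 42829],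
   .loop none [.fwd 42846],
   .loop none [.fwd 42728, .bwd 42847],
   .loop none [.bwd 42729, .bwd 42847],
   .loop none [.bwd 42829, .bwd 42847],
   .loop (some (15, 0)) [.bwd 42004, .fwd 13371, .bwd 41063, .fwd 40939],
   .loop (some (21, 1)) [.bwd 32705, .bwd 42827, .bwd 42741, .fwd 42002, .fwd 42791, .fwd 41774, .bwd 42850, .fwd 35279],
   .loop (some (8, 2)) [.bwd 42836, .bwd 6655, .fwd 42849, .bwd 42675],
   .loop none [.bwd 42853],
   .loop none [.fwd 42836, .bwd 42854],
   .loop none [.bwd 42837, .bwd 42854],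
   .loop (some (6, 2)) [.bwd 33910, .fwd 42850, .bwd 39951],
   .loop (some (14, 1)) [.fwd 42053, .fwd 42828, .bwd 41066, .bwd 9635],
   .loop (some (8, 2)) [.fwd 34964, .fwd 40526, .fwd 41711],
   .loop (some (15, 0)) [.bwd 9699, .fwd 42153, .bwd 39553, .fwd 39554],
   .define,
   .loop (some (15, 0)) [.bwd 42788, .bwd 5664, .fwd 41808, .bwd 41629, .bwd 6717],
   .loop none [.bwd 42862],
   .loop none [.fwd 42788, .bwd 42863],
   .define,
   .loop (some (15, 0)) [.bwd 42865, .bwd 6716, .fwd 39529, .fwd 6716, .fwd 6717],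
   .loop none [.bwd 42866],
   .loop none [.fwd 42865, .bwd 42867],
   .loop (some (15, 0)) [.fwd 20171, .fwd 39737, .fwd 39137, .bwd 36507],
   .loop (some (15, 0)) [.bwd 9695, .fwd 39555, .bwd 36434, .bwd 36608],
   .loop (some (15, 0)) [.fwd 14448, .fwd 41956, .fwd 36929, .bwd 40760],
   .define,
   .loop (some (15, 0)) [.bwd 6856, .fwd 40687, .bwd 40161, .fwd 40162],
   .loop (some (15, 0)) [.bwd 42487, .fwd 4842, .fwd 4843, .bwd 35974, .bwd 6782],
   .loop none [.bwd 42874],
   .loop none [.fwd 42487, .bwd 42875],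
   .define,
   .loop (some (15, 0)) [.bwd 40161, .fwd 40162, .fwd 6781, .fwd 6782],
   .define,
   .loop (some (15, 0)) [.bwd 40448, .bwd 40450, .fwd 6793, .fwd 6794],
   .loop (some (15, 0)) [.bwd 42678, .fwd 5485, .fwd 5486, .bwd 42102, .bwd 11181],
   .loop none [.bwd 42881],
   .loop none [.fwd 42678, .bwd 42882],
   .loop (some (15, 0)) [.fwd 42156, .bwd 42030, .fwd 10694, .fwd 42243],
   .loop (some (15, 0)) [.bwd 42877, .bwd 6781, .bwd 40162, .fwd 40161, .bwd 40687],
   .loop none [.bwd 42885],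
   .loop none [.fwd 42877, .bwd 42886],
   .loop (some (15, 0)) [.bwd 42872, .fwd 40161, .bwd 40687, .fwd 6856, .fwd 6857],
   .loop none [.bwd 42888],
   .loop none [.fwd 42872, .bwd 42889],
   .loop (some (15, 0)) [.bwd 42773, .bwd 5656, .bwd 42279, .fwd 42616, .fwd 11181],
   .loop none [.bwd 42891],
   .loop none [.fwd 42773, .bwd 42892],
   .define,
   .loop (some (15, 0)) [.bwd 42720, .bwd 41131, .fwd 41132, .fwd 42081, .bwd 11543],
   .loop none [.bwd 42895],
   .loop none [.fwd 42720, .bwd 42896],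
   .loop (some (15, 0)) [.bwd 42456, .bwd 4588, .bwd 36262, .bwd 36652, .bwd 9696],
   .loop none [.bwd 42898],
   .loop none [.fwd 42456, .bwd 42899],
   .loop (some (15, 0)) [.fwd 36434, .bwd 39555, .fwd 9695, .fwd 9696],
   .loop (some (15, 0)) [.bwd 42810, .bwd 27391, .fwd 36511, .fwd 36904, .bwd 36465],
   .loop none [.bwd 42902],
   .loop none [.fwd 42810, .bwd 42903],
   .loop (some (15, 0)) [.bwd 39553, .fwd 39554, .fwd 39553, .bwd 42153],
   .loop (some (15, 0)) [.bwd 42861, .fwd 39553, .bwd 42153, .fwd 9699, .fwd 9700],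
   .loop none [.bwd 42906],
   .loop none [.fwd 42861, .bwd 42907],
   .loop (some (15, 0)) [.bwd 42771, .fwd 5656, .fwd 5657, .fwd 41263, .fwd 36188],
   .loop none [.bwd 42909],
   .loop none [.fwd 42771, .bwd 42910],
   .loop (some (15, 0)) [.bwd 42372, .fwd 41131, .bwd 36274, .fwd 12144, .bwd 40651],
   .loop none [.bwd 42912],
   .loop none [.fwd 42372, .bwd 42913],
   .loop (some (15, 0)) [.bwd 36746, .fwd 35866, .fwd 35201, .fwd 9759],
   .loop (some (15, 0)) [.bwd 42879, .bwd 6793, .fwd 40450, .fwd 40448, .bwd 10618],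
   .loop none [.bwd 42916],
   .loop none [.fwd 42879, .bwd 42917],
   .loop (some (15, 0)) [.bwd 42818, .fwd 5914, .fwd 5915, .fwd 35154, .bwd 11648],
   .loop none [.bwd 42919],
   .loop none [.fwd 42818, .bwd 42920],
   .loop (some (15, 0)) [.bwd 42763, .fwd 5652, .fwd 5653, .bwd 42525, .fwd 11531],
   .loop none [.bwd 42922],
   .loop none [.fwd 42763, .bwd 42923],
   .loop (some (15, 0)) [.fwd 42173, .bwd 36624, .fwd 40633, .fwd 41690],
   .define,
   .loop (some (15, 0)) [.bwd 42604, .bwd 40885, .bwd 5482, .bwd 5481, .fwd 34323],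
   .loop none [.bwd 42927],
   .loop none [.fwd 42604, .bwd 42928],
   .define,
   .loop (some (15, 0)) [.bwd 10694, .fwd 42030, .bwd 42156, .fwd 42157],
   .loop (some (15, 0)) [.bwd 42696, .bwd 5489, .fwd 42255, .fwd 41993, .fwd 11543],
   .loop none [.bwd 42932],
   .loop none [.fwd 42696, .bwd 42933],
   .define,
   .loop (some (15, 0)) [.bwd 41677, .bwd 5588, .bwd 5587, .fwd 41273],
   .define,
   .loop (some (15, 0)) [.bwd 36431, .fwd 36465, .bwd 36904, .bwd 36511],
   .loop (some (15, 0)) [.bwd 41404, .bwd 4577, .bwd 4576, .fwd 41418],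
   .define,
   .loop (some (15, 0)) [.bwd 14448, .bwd 41671, .bwd 41939, .bwd 11618],
   .loop (some (15, 0)) [.bwd 42278, .fwd 11100, .fwd 36907, .fwd 10454, .fwd 38931],
   .loop none [.bwd 42942],
   .loop none [.fwd 42278, .bwd 42943],
   .loop (some (15, 0)) [.bwd 42790, .bwd 40769, .fwd 36473, .fwd 35784, .fwd 12149],
   .loop none [.bwd 42945],
   .loop none [.fwd 42790, .bwd 42946],
   .loop (some (15, 0)) [.bwd 42742, .fwd 5587, .fwd 5588, .fwd 41677, .fwd 11618],
   .loop none [.bwd 42948],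
   .loop none [.fwd 42742, .bwd 42949],
   .define,
   .loop (some (15, 0)) [.fwd 42049, .fwd 42312, .fwd 41785, .fwd 12000],
   .loop (some (15, 0)) [.bwd 42315, .fwd 4576, .fwd 4577, .fwd 41404, .bwd 12000],
   .loop none [.bwd 42953],
   .loop none [.fwd 42315, .bwd 42954],
   .define,
   .loop (some (15, 0)) [.bwd 42793, .fwd 5686, .fwd 5687, .fwd 41491, .fwd 11586],
   .loop none [.bwd 42957],
   .loop none [.fwd 42793, .bwd 42958],
   .loop (some (15, 0)) [.fwd 42004, .bwd 41942, .fwd 41941, .bwd 11586],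
   .define,
   .loop (some (15, 0)) [.bwd 42961, .bwd 41491, .bwd 5687, .bwd 5686, .fwd 41485],
   .loop none [.bwd 42962],
   .loop none [.fwd 42961, .bwd 42963],
   .loop (some (15, 0)) [.bwd 42956, .bwd 41785, .bwd 42312, .bwd 42049, .bwd 10703],
   .loop none [.bwd 42965],
   .loop none [.fwd 42956, .bwd 42966],
   .loop (some (15, 0)) [.bwd 42310, .bwd 10707, .bwd 10706, .bwd 42675],
   .loop (some (15, 0)) [.bwd 42779, .bwd 5660, .bwd 41816, .fwd 41815, .fwd 42675],
   .loop none [.bwd 42969],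
   .loop none [.fwd 42779, .bwd 42970],
   .define,
   .loop (some (15, 0)) [.fwd 41090, .fwd 40774, .bwd 42310, .bwd 10707],
   .loop (some (15, 0)) [.fwd 41815, .fwd 42675, .fwd 10706, .fwd 10707],
   .define,
   .loop (some (15, 0)) [.fwd 40820, .bwd 41711, .bwd 14452, .bwd 40911],
   .loop (some (15, 0)) [.bwd 14452, .bwd 40911, .fwd 40910, .fwd 40664],
   .loop (some (15, 0)) [.bwd 36939, .fwd 40754, .fwd 36849, .fwd 40074],
   .loop (some (15, 0)) [.bwd 42275, .fwd 9210, .bwd 4589, .bwd 4588, .bwd 36262],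
   .loop none [.bwd 42979],
   .loop none [.fwd 42275, .bwd 42980],
   .loop (some (15, 0)) [.bwd 42712, .fwd 5526, .fwd 5527, .fwd 40927, .bwd 36347],
   .loop none [.bwd 42982],
   .loop none [.fwd 42712, .bwd 42983],
   .loop (some (15, 0)) [.bwd 42935, .bwd 42081, .bwd 41132, .fwd 41131, .bwd 36274],
   .loop none [.bwd 42985],
   .loop none [.fwd 42935, .bwd 42986],
   .loop (some (15, 0)) [.bwd 42975, .fwd 42310, .bwd 40774, .bwd 41090, .bwd 41303],
   .loop none [.bwd 42988],
   .loop none [.fwd 42975, .bwd 42989],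
   .loop (some (15, 0)) [.bwd 42746, .fwd 41677, .fwd 11618, .fwd 41939, .fwd 41671],
   .loop none [.bwd 42991],
   .loop none [.fwd 42746, .bwd 42992],
   .loop (some (15, 0)) [.bwd 42318, .fwd 41404, .bwd 12000, .bwd 41785, .bwd 42312],
   .loop none [.bwd 42994],
   .loop none [.fwd 42318, .bwd 42995],
   .loop (some (15, 0)) [.bwd 42579, .fwd 5481, .fwd 5482, .fwd 40885, .bwd 36261],
   .loop none [.bwd 42997],
   .loop none [.fwd 42579, .bwd 42998]]

theorem just171_len : just171.length = 250 := by decide +kernel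

theorem just171_ok : cert.okFacts 42750 just171 = true := by decide +kernel

/-- justifications -/
noncomputable def just172 : List Cert.Just :=
  [.loop (some (15, 0)) [.bwd 42894, .fwd 42102, .bwd 5486, .bwd 5485, .bwd 36458],
   .loop none [.bwd 43000],
   .loop none [.fwd 42894, .bwd 43001],
   .loop (some (15, 0)) [.fwd 36849, .fwd 40074, .fwd 42205, .fwd 42186],
   .define,
   .loop (some (15, 0)) [.bwd 42376, .bwd 41351, .bwd 4581, .bwd 4580, .fwd 41935],
   .loop none [.bwd 43005],
   .loop none [.fwd 42376, .bwd 43006],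
   .loop (some (15, 0)) [.bwd 42797, .fwd 41491, .fwd 11586, .bwd 41941, .fwd 41942],
   .loop none [.bwd 43008],
   .loop none [.fwd 42797, .bwd 43009],
   .loop (some (15, 0)) [.bwd 42751, .bwd 5591, .fwd 41874, .fwd 41900, .fwd 35996],
   .loop none [.bwd 43011],
   .loop none [.fwd 42751, .bwd 43012],
   .define,
   .loop (some (15, 0)) [.bwd 42930, .fwd 41634, .bwd 41640, .bwd 10710, .bwd 42645],
   .loop none [.bwd 43015],
   .loop none [.fwd 42930, .bwd 43016],
   .loop (some (15, 0)) [.bwd 42753, .bwd 41612, .bwd 5592, .bwd 5591, .fwd 41874],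
   .loop none [.bwd 43018],
   .loop none [.fwd 42753, .bwd 43019],
   .loop (some (15, 0)) [.bwd 42972, .fwd 10706, .fwd 10707, .fwd 42310, .bwd 40774],
   .loop none [.bwd 43021],
   .loop none [.fwd 42972, .bwd 43022],
   .loop (some (15, 0)) [.bwd 42937, .bwd 34098, .bwd 36480, .bwd 12872, .bwd 42186],
   .loop none [.bwd 43024],
   .loop none [.fwd 42937, .bwd 43025],
   .loop (some (15, 0)) [.bwd 42701, .bwd 5493, .bwd 41521, .bwd 14449, .bwd 40664],
   .loop none [.bwd 43027],
   .loop none [.fwd 42701, .bwd 43028],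
   .define,
   .define,
   .loop (some (15, 0)) [.bwd 39137, .bwd 39737, .bwd 20171, .fwd 36554],
   .loop (some (15, 0)) [.bwd 42926, .bwd 35154, .bwd 5915, .bwd 5914, .fwd 40304],
   .loop none [.bwd 43033],
   .loop none [.fwd 42926, .bwd 43034],
   .loop (some (15, 0)) [.bwd 42815, .bwd 41622, .bwd 42243, .bwd 10694, .fwd 42030],
   .loop none [.bwd 43036],
   .loop none [.fwd 42815, .bwd 43037],
   .loop (some (15, 0)) [.bwd 43031, .bwd 41043, .bwd 41906, .bwd 40046, .bwd 35996],
   .loop none [.bwd 43039],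
   .loop none [.fwd 43031, .bwd 43040],
   .loop (some (15, 0)) [.bwd 43004, .bwd 12872, .bwd 42186, .bwd 42205, .bwd 40074],
   .loop none [.bwd 43042],
   .loop none [.fwd 43004, .bwd 43043],
   .loop (some (15, 0)) [.bwd 42588, .fwd 40885, .bwd 36261, .bwd 36939, .fwd 40754],
   .loop none [.bwd 43045],
   .loop none [.fwd 42588, .bwd 43046],
   .loop (some (15, 0)) [.bwd 43030, .bwd 40910, .fwd 40911, .fwd 14452, .fwd 41711],
   .loop none [.bwd 43048],
   .loop none [.fwd 43030, .bwd 43049],
   .loop (some (15, 0)) [.bwd 35140, .bwd 9700, .bwd 9699, .fwd 42153],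
   .loop (some (15, 0)) [.bwd 42951, .fwd 41939, .fwd 41671, .fwd 14448, .fwd 41956],
   .loop none [.bwd 43052],
   .loop none [.fwd 42951, .bwd 43053],
   .loop (some (15, 0)) [.bwd 43014, .fwd 40046, .fwd 41906, .fwd 41043, .fwd 36762],
   .loop none [.bwd 43055],
   .loop none [.fwd 43014, .bwd 43056],
   .loop (some (15, 0)) [.bwd 42940, .bwd 35050, .bwd 6857, .bwd 6856, .fwd 40687],
   .loop none [.bwd 43058],
   .loop none [.fwd 42940, .bwd 43059],
   .loop none [.edge 1, .fwd 0],
   .loop none [.edge 0, .bwd 43061, .fwd 1],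
   .loop none [.edge 2, .bwd 43061, .fwd 3],
   .loop none [.edge 10, .bwd 43061, .bwd 1394],
   .loop none [.edge 9, .bwd 43061, .bwd 202],
   .loop none [.edge 2, .bwd 43062, .bwd 93],
   .loop none [.edge 3, .bwd 43063, .fwd 15],
   .loop none [.edge 9, .bwd 43063, .fwd 147],
   .loop none [.edge 1, .bwd 43064, .fwd 29425],
   .loop none [.edge 4, .bwd 43064, .bwd 30217],
   .loop none [.edge 1, .bwd 43065, .bwd 33],
   .loop none [.edge 4, .bwd 43065, .fwd 30712],
   .loop none [.edge 1, .bwd 43066, .fwd 92],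
   .loop none [.edge 4, .bwd 43067, .fwd 16],
   .loop none [.edge 1, .bwd 43068, .bwd 1257],
   .loop none [.edge 4, .bwd 43068, .fwd 96],
   .loop none [.edge 0, .bwd 43069, .fwd 30081],
   .loop none [.edge 2, .bwd 43069, .bwd 102],
   .loop none [.edge 4, .bwd 43069, .fwd 2351],
   .loop none [.edge 10, .bwd 43069, .bwd 6437],
   .loop none [.edge 3, .bwd 43070, .fwd 30349],
   .loop none [.edge 6, .bwd 43070, .bwd 30715],
   .loop none [.edge 5, .bwd 43070, .fwd 30350],
   .loop none [.edge 9, .bwd 43070, .fwd 30351],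
   .loop none [.edge 0, .bwd 43071, .bwd 28560],
   .loop none [.edge 4, .bwd 43071, .bwd 32],
   .loop none [.edge 10, .bwd 43071, .bwd 6602],
   .loop none [.edge 9, .bwd 43071, .fwd 28559],
   .loop none [.edge 6, .bwd 43072, .fwd 321],
   .loop none [.edge 5, .bwd 43072, .bwd 31180],
   .loop none [.edge 10, .bwd 43073, .fwd 29155],
   .loop none [.edge 6, .bwd 43074, .bwd 224],
   .loop none [.edge 5, .bwd 43074, .fwd 221],
   .loop none [.edge 10, .bwd 43074, .bwd 4778],
   .loop none [.edge 9, .bwd 43074, .fwd 296],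
   .loop none [.edge 2, .bwd 43075, .fwd 29160],
   .loop none [.edge 4, .bwd 43075, .bwd 1283],
   .loop none [.edge 6, .bwd 43076, .bwd 1274],
   .loop none [.edge 5, .bwd 43076, .bwd 291],
   .loop none [.edge 4, .bwd 43077, .bwd 29169],
   .loop none [.edge 4, .bwd 43078, .fwd 2240],
   .loop none [.edge 3, .bwd 43079, .bwd 31279],
   .loop none [.edge 6, .bwd 43079, .bwd 28977],
   .loop none [.edge 5, .bwd 43079, .fwd 31272],
   .loop none [.edge 9, .bwd 43079, .bwd 30513],
   .loop none [.edge 4, .bwd 43080, .bwd 28584],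
   .loop none [.edge 6, .bwd 43081, .fwd 460],
   .loop none [.edge 5, .bwd 43081, .fwd 408],
   .loop none [.edge 4, .bwd 43082, .bwd 30499],
   .loop none [.edge 6, .bwd 43082, .bwd 1346],
   .loop none [.edge 7, .bwd 43082, .bwd 30716],
   .loop none [.edge 9, .bwd 43082, .bwd 31460],
   .loop none [.edge 5, .bwd 43083, .bwd 30960],
   .loop none [.edge 9, .bwd 43083, .fwd 5879],
   .loop none [.edge 1, .bwd 43084, .fwd 31381],
   .loop none [.edge 4, .bwd 43085, .bwd 29492],
   .loop none [.edge 6, .bwd 43086, .fwd 1099],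
   .loop none [.edge 5, .bwd 43086, .bwd 30206],
   .loop none [.edge 10, .bwd 43086, .bwd 6978],
   .loop none [.edge 9, .bwd 43086, .bwd 29724],
   .loop none [.edge 4, .bwd 43089, .bwd 5004],
   .loop none [.edge 6, .bwd 43089, .fwd 322],
   .loop none [.edge 7, .bwd 43089, .bwd 5047],
   .loop none [.edge 5, .bwd 43090, .fwd 31181],
   .loop none [.edge 4, .bwd 43092, .fwd 3392],
   .loop none [.edge 6, .bwd 43092, .bwd 223],
   .loop none [.edge 7, .bwd 43092, .bwd 3373],
   .loop none [.edge 10, .bwd 43092, .bwd 8967],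
   .loop none [.edge 9, .bwd 43092, .fwd 3465],
   .loop none [.edge 5, .bwd 43093, .bwd 275],
   .loop none [.edge 10, .bwd 43093, .bwd 31709],
   .loop none [.edge 9, .bwd 43093, .bwd 31766],
   .loop none [.edge 1, .bwd 43094, .bwd 1467],
   .loop none [.edge 1, .bwd 43095, .bwd 31689],
   .loop none [.edge 4, .bwd 43096, .bwd 29323],
   .loop none [.edge 6, .bwd 43097, .fwd 2107],
   .loop none [.edge 5, .bwd 43097, .bwd 2102],
   .loop none [.edge 4, .bwd 43098, .bwd 4383],
   .loop none [.edge 6, .bwd 43098, .bwd 1273],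
   .loop none [.edge 7, .bwd 43098, .bwd 4447],
   .loop none [.edge 5, .bwd 43099, .bwd 2090],
   .loop none [.edge 6, .bwd 43100, .bwd 8455],
   .loop none [.edge 5, .bwd 43100, .bwd 31032],
   .loop none [.edge 6, .bwd 43101, .bwd 28700],
   .loop none [.edge 5, .bwd 43101, .bwd 29342],
   .loop none [.edge 10, .bwd 43101, .bwd 31005],
   .loop none [.edge 9, .bwd 43101, .bwd 31777],
   .loop none [.edge 6, .bwd 43102, .fwd 498],
   .loop none [.edge 5, .bwd 43102, .bwd 490],
   .loop none [.edge 4, .bwd 43103, .bwd 29778],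
   .loop none [.edge 6, .bwd 43103, .bwd 2368],
   .loop none [.edge 7, .bwd 43103, .bwd 29780],
   .loop none [.edge 9, .bwd 43103, .fwd 31565],
   .loop none [.edge 5, .bwd 43104, .bwd 31049],
   .loop none [.edge 9, .bwd 43104, .fwd 29960],
   .loop none [.edge 1, .bwd 43105, .fwd 30124],
   .loop none [.edge 6, .bwd 43106, .bwd 28596],
   .loop none [.edge 5, .bwd 43106, .fwd 31278],
   .loop none [.edge 4, .bwd 43107, .bwd 40029],
   .loop none [.edge 6, .bwd 43107, .fwd 461],
   .loop none [.edge 7, .bwd 43107, .bwd 6826],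
   .loop none [.edge 4, .bwd 43108, .fwd 409],
   .loop none [.edge 5, .bwd 43108, .bwd 465],
   .loop none [.edge 7, .bwd 43108, .bwd 6761],
   .loop none [.edge 9, .bwd 43109, .bwd 31757],
   .loop none [.edge 9, .bwd 43110, .bwd 30979],
   .loop none [.edge 9, .bwd 43111, .bwd 30899],
   .loop none [.edge 1, .bwd 43112, .fwd 31455],
   .loop none [.edge 4, .bwd 43112, .fwd 3296],
   .loop none [.edge 9, .bwd 43113, .fwd 30962],
   .loop none [.edge 1, .bwd 43114, .fwd 420],
   .loop none [.edge 4, .bwd 43114, .fwd 475],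
   .loop none [.edge 2, .bwd 43115, .bwd 30],
   .loop none [.edge 10, .bwd 43115, .bwd 29883],
   .loop none [.edge 6, .bwd 43116, .bwd 8451],
   .loop none [.edge 5, .bwd 43116, .bwd 30106],
   .loop none [.edge 4, .bwd 43117, .bwd 8013],
   .loop none [.edge 6, .bwd 43117, .fwd 1100],
   .loop none [.edge 7, .bwd 43117, .bwd 8002],
   .loop none [.edge 10, .bwd 43117, .bwd 9541],
   .loop none [.edge 9, .bwd 43117, .bwd 38551],
   .loop none [.edge 5, .bwd 43118, .bwd 30945],
   .loop none [.edge 10, .bwd 43118, .bwd 7892],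
   .loop none [.edge 9, .bwd 43118, .bwd 31191],
   .loop none [.edge 1, .bwd 43119, .bwd 3130],
   .loop none [.edge 1, .bwd 43120, .fwd 429],
   .loop none [.edge 10, .bwd 43125, .bwd 38906],
   .loop none [.edge 9, .bwd 43125, .fwd 4418],
   .loop none [.edge 10, .bwd 43126, .bwd 8916],
   .loop none [.edge 9, .bwd 43126, .fwd 3420],
   .loop none [.edge 10, .bwd 43127, .bwd 9219],
   .loop none [.edge 9, .bwd 43127, .fwd 39364],
   .loop none [.edge 1, .bwd 43128, .fwd 7840],
   .loop none [.edge 4, .bwd 43128, .bwd 32721],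
   .loop none [.edge 1, .bwd 43129, .fwd 39577],
   .loop none [.edge 4, .bwd 43129, .bwd 40181],
   .loop none [.edge 10, .bwd 43130, .bwd 39477],
   .loop none [.edge 9, .bwd 43130, .fwd 4522],
   .loop none [.edge 1, .bwd 43131, .bwd 32037],
   .loop none [.edge 4, .bwd 43131, .bwd 40108],
   .loop none [.edge 1, .bwd 43132, .bwd 32603],
   .loop none [.edge 4, .bwd 43132, .bwd 33044],
   .loop none [.edge 0, .bwd 43133, .bwd 5966],
   .loop none [.edge 2, .bwd 43133, .bwd 1477],
   .loop none [.edge 9, .bwd 43133, .bwd 31985],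
   .loop none [.edge 0, .bwd 43134, .bwd 32018],
   .loop none [.edge 2, .bwd 43134, .fwd 31690],
   .loop none [.edge 10, .bwd 43134, .fwd 32017],
   .loop none [.edge 9, .bwd 43134, .fwd 31691],
   .loop none [.edge 6, .bwd 43135, .fwd 2150],
   .loop none [.edge 5, .bwd 43135, .bwd 2114],
   .loop none [.edge 4, .bwd 43136, .bwd 8491],
   .loop none [.edge 6, .bwd 43136, .fwd 2108],
   .loop none [.edge 7, .bwd 43136, .bwd 8500],
   .loop none [.edge 5, .bwd 43137, .bwd 2112],
   .loop none [.edge 4, .bwd 43142, .fwd 9020],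
   .loop none [.edge 6, .bwd 43142, .bwd 8483],
   .loop none [.edge 7, .bwd 43142, .bwd 9021],
   .loop none [.edge 5, .bwd 43143, .fwd 31033],
   .loop none [.edge 4, .bwd 43144, .bwd 29353],
   .loop none [.edge 6, .bwd 43144, .bwd 2324],
   .loop none [.edge 7, .bwd 43144, .bwd 29359],
   .loop none [.edge 10, .bwd 43144, .bwd 31811],
   .loop none [.edge 9, .bwd 43144, .bwd 30853],
   .loop none [.edge 5, .bwd 43145, .bwd 29383],
   .loop none [.edge 10, .bwd 43145, .fwd 31070],
   .loop none [.edge 9, .bwd 43145, .bwd 31948],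
   .loop none [.edge 1, .bwd 43146, .bwd 32009],
   .loop none [.edge 4, .bwd 43148, .bwd 40517],
   .loop none [.edge 6, .bwd 43148, .fwd 499],
   .loop none [.edge 7, .bwd 43148, .bwd 7161],
   .loop none [.edge 4, .bwd 43149, .bwd 32306],
   .loop none [.edge 5, .bwd 43149, .bwd 503],
   .loop none [.edge 7, .bwd 43149, .bwd 7147],
   .loop none [.edge 9, .bwd 43150, .bwd 31037],
   .loop none [.edge 9, .bwd 43151, .bwd 30548],
   .loop none [.edge 9, .bwd 43152, .bwd 30529],
   .loop none [.edge 1, .bwd 43153, .bwd 8430],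
   .loop none [.edge 4, .bwd 43153, .bwd 30269],
   .loop none [.edge 9, .bwd 43154, .fwd 30856],
   .loop none [.edge 1, .bwd 43155, .bwd 30225],
   .loop none [.edge 4, .bwd 43155, .bwd 31643],
   .loop none [.edge 4, .bwd 43157, .bwd 40539],
   .loop none [.edge 6, .bwd 43157, .bwd 6378],
   .loop none [.edge 7, .bwd 43157, .fwd 39980],
   .loop none [.edge 5, .bwd 43158, .bwd 40531],
   .loop none [.edge 3, .bwd 43159, .bwd 4508],
   .loop none [.edge 6, .bwd 43159, .bwd 40855],
   .loop none [.edge 5, .bwd 43159, .bwd 41852]]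

theorem just172_len : just172.length = 250 := by decide +kernel

theorem just172_ok : cert.okFacts 43000 just172 = true := by decide +kernel

/-- justifications -/
noncomputable def just173 : List Cert.Just :=
  [.loop none [.edge 8, .bwd 43159, .fwd 9185],
   .loop none [.edge 7, .bwd 43159, .fwd 40033],
   .loop none [.edge 10, .bwd 43159, .bwd 40836],
   .loop none [.edge 9, .bwd 43159, .fwd 40035],
   .loop none [.edge 6, .bwd 43162, .fwd 41744],
   .loop none [.edge 5, .bwd 43162, .fwd 410],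
   .loop none [.edge 7, .bwd 43162, .fwd 39991],
   .loop none [.edge 10, .bwd 43162, .fwd 41745],
   .loop none [.edge 9, .bwd 43162, .fwd 9830],
   .loop none [.edge 1, .bwd 43165, .bwd 32260],
   .loop none [.edge 4, .bwd 43165, .fwd 5565],
   .loop none [.edge 1, .bwd 43166, .bwd 31365],
   .loop none [.edge 4, .bwd 43166, .fwd 5625],
   .loop none [.edge 1, .bwd 43167, .fwd 32028],
   .loop none [.edge 4, .bwd 43167, .bwd 412],
   .loop none [.edge 2, .bwd 43168, .bwd 7851],
   .loop none [.edge 4, .bwd 43168, .bwd 32469],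
   .loop none [.edge 10, .bwd 43168, .bwd 30988],
   .loop none [.edge 3, .bwd 43169, .fwd 5117],
   .loop none [.edge 6, .bwd 43169, .bwd 6819],
   .loop none [.edge 5, .bwd 43169, .bwd 41778],
   .loop none [.edge 1, .bwd 43170, .bwd 32071],
   .loop none [.edge 2, .bwd 43171, .bwd 1852],
   .loop none [.edge 4, .bwd 43171, .fwd 506],
   .loop none [.edge 10, .bwd 43171, .bwd 30699],
   .loop none [.edge 6, .bwd 43172, .fwd 41742],
   .loop none [.edge 5, .bwd 43172, .fwd 476],
   .loop none [.edge 4, .bwd 43175, .fwd 8457],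
   .loop none [.edge 6, .bwd 43175, .bwd 8462],
   .loop none [.edge 7, .bwd 43175, .bwd 8458],
   .loop none [.edge 5, .bwd 43176, .fwd 30107],
   .loop none [.edge 10, .bwd 43177, .bwd 9679],
   .loop none [.edge 9, .bwd 43177, .bwd 30796],
   .loop none [.edge 10, .bwd 43178, .bwd 11620],
   .loop none [.edge 9, .bwd 43178, .fwd 38471],
   .loop none [.edge 10, .bwd 43179, .bwd 9677],
   .loop none [.edge 9, .bwd 43179, .fwd 38783],
   .loop none [.edge 1, .bwd 43180, .bwd 10883],
   .loop none [.edge 1, .bwd 43181, .fwd 5905],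
   .loop none [.edge 10, .bwd 43182, .bwd 9640],
   .loop none [.edge 9, .bwd 43182, .bwd 38353],
   .loop none [.edge 1, .bwd 43183, .bwd 7680],
   .loop none [.edge 1, .bwd 43184, .fwd 6986],
   .loop none [.edge 0, .bwd 43185, .bwd 31298],
   .loop none [.edge 10, .bwd 43185, .bwd 31990],
   .loop none [.edge 1, .bwd 43187, .fwd 36040],
   .loop none [.edge 4, .bwd 43187, .bwd 36387],
   .loop none [.edge 1, .bwd 43188, .bwd 33329],
   .loop none [.edge 4, .bwd 43188, .fwd 8180],
   .loop none [.edge 1, .bwd 43189, .bwd 8281],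
   .loop none [.edge 4, .bwd 43189, .bwd 33382],
   .loop none [.edge 1, .bwd 43190, .fwd 39579],
   .loop none [.edge 4, .bwd 43190, .fwd 40678],
   .loop none [.edge 1, .bwd 43191, .bwd 8283],
   .loop none [.edge 4, .bwd 43191, .fwd 8241],
   .loop none [.edge 1, .bwd 43192, .fwd 35940],
   .loop none [.edge 4, .bwd 43192, .fwd 3410],
   .loop none [.edge 0, .bwd 43193, .bwd 33628],
   .loop none [.edge 2, .bwd 43193, .fwd 7794],
   .loop none [.edge 4, .bwd 43193, .bwd 33101],
   .loop none [.edge 9, .bwd 43193, .bwd 32450],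
   .loop none [.edge 3, .bwd 43194, .bwd 33932],
   .loop none [.edge 6, .bwd 43194, .bwd 42472],
   .loop none [.edge 5, .bwd 43194, .bwd 42266],
   .loop none [.edge 10, .bwd 43194, .bwd 33435],
   .loop none [.edge 9, .bwd 43194, .bwd 33429],
   .loop none [.edge 0, .bwd 43195, .bwd 42108],
   .loop none [.edge 2, .bwd 43195, .fwd 39030],
   .loop none [.edge 4, .bwd 43195, .bwd 35392],
   .loop none [.edge 10, .bwd 43195, .bwd 9624],
   .loop none [.edge 9, .bwd 43195, .fwd 39034],
   .loop none [.edge 3, .bwd 43196, .bwd 40673],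
   .loop none [.edge 6, .bwd 43196, .bwd 42068],
   .loop none [.edge 5, .bwd 43196, .bwd 41981],
   .loop none [.edge 1, .bwd 43197, .fwd 36026],
   .loop none [.edge 4, .bwd 43197, .bwd 36380],
   .loop none [.edge 1, .bwd 43198, .bwd 4591],
   .loop none [.edge 4, .bwd 43198, .fwd 8202],
   .loop none [.edge 0, .bwd 43199, .fwd 5968],
   .loop none [.edge 2, .bwd 43199, .bwd 33179],
   .loop none [.edge 4, .bwd 43199, .bwd 39463],
   .loop none [.edge 9, .bwd 43199, .fwd 38885],
   .loop none [.edge 3, .bwd 43200, .bwd 40199],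
   .loop none [.edge 6, .bwd 43200, .bwd 42057],
   .loop none [.edge 5, .bwd 43200, .fwd 40953],
   .loop none [.edge 10, .bwd 43200, .bwd 40642],
   .loop none [.edge 9, .bwd 43200, .bwd 40172],
   .loop none [.edge 0, .bwd 43201, .bwd 33287],
   .loop none [.edge 2, .bwd 43201, .bwd 914],
   .loop none [.edge 4, .bwd 43201, .bwd 33818],
   .loop none [.edge 10, .bwd 43201, .bwd 16228],
   .loop none [.edge 9, .bwd 43201, .fwd 7842],
   .loop none [.edge 3, .bwd 43202, .fwd 8059],
   .loop none [.edge 6, .bwd 43202, .bwd 42020],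
   .loop none [.edge 5, .bwd 43202, .fwd 4618],
   .loop none [.edge 2, .bwd 43206, .fwd 760],
   .loop none [.edge 9, .bwd 43207, .bwd 30676],
   .loop none [.edge 4, .bwd 43210, .bwd 8515],
   .loop none [.edge 6, .bwd 43210, .fwd 2151],
   .loop none [.edge 7, .bwd 43210, .fwd 8534],
   .loop none [.edge 5, .bwd 43211, .bwd 2155],
   .loop none [.edge 10, .bwd 43220, .fwd 31307],
   .loop none [.edge 9, .bwd 43220, .bwd 31386],
   .loop none [.edge 10, .bwd 43221, .fwd 31699],
   .loop none [.edge 9, .bwd 43221, .bwd 31617],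
   .loop none [.edge 10, .bwd 43222, .fwd 31063],
   .loop none [.edge 9, .bwd 43222, .bwd 31066],
   .loop none [.edge 1, .bwd 43223, .bwd 33075],
   .loop none [.edge 4, .bwd 43223, .fwd 9765],
   .loop none [.edge 4, .bwd 43224, .bwd 40308],
   .loop none [.edge 10, .bwd 43225, .fwd 31626],
   .loop none [.edge 9, .bwd 43225, .fwd 31627],
   .loop none [.edge 1, .bwd 43226, .bwd 30315],
   .loop none [.edge 4, .bwd 43226, .bwd 30325],
   .loop none [.edge 4, .bwd 43227, .bwd 31957],
   .loop none [.edge 3, .bwd 43229, .fwd 3448],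
   .loop none [.edge 6, .bwd 43229, .bwd 40897],
   .loop none [.edge 5, .bwd 43229, .bwd 41578],
   .loop none [.edge 8, .bwd 43229, .fwd 8944],
   .loop none [.edge 7, .bwd 43229, .fwd 40522],
   .loop none [.edge 10, .bwd 43229, .bwd 36129],
   .loop none [.edge 9, .bwd 43229, .bwd 40763],
   .loop none [.edge 6, .bwd 43232, .bwd 41420],
   .loop none [.edge 5, .bwd 43232, .fwd 1007],
   .loop none [.edge 7, .bwd 43232, .fwd 39990],
   .loop none [.edge 10, .bwd 43232, .bwd 42101],
   .loop none [.edge 9, .bwd 43232, .fwd 32310],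
   .loop none [.edge 1, .bwd 43235, .bwd 31374],
   .loop none [.edge 4, .bwd 43235, .bwd 39967],
   .loop none [.edge 1, .bwd 43236, .bwd 30971],
   .loop none [.edge 4, .bwd 43236, .bwd 39956],
   .loop none [.edge 1, .bwd 43237, .bwd 31126],
   .loop none [.edge 4, .bwd 43237, .bwd 9714],
   .loop none [.edge 4, .bwd 43238, .bwd 39298],
   .loop none [.edge 3, .bwd 43239, .bwd 39961],
   .loop none [.edge 6, .bwd 43239, .fwd 42857],
   .loop none [.edge 5, .bwd 43239, .bwd 41849],
   .loop none [.edge 1, .bwd 43240, .bwd 30334],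
   .loop none [.edge 4, .bwd 43241, .bwd 31396],
   .loop none [.edge 6, .bwd 43242, .fwd 42313],
   .loop none [.edge 5, .bwd 43242, .fwd 5988],
   .loop none [.edge 6, .bwd 43247, .bwd 41829],
   .loop none [.edge 5, .bwd 43247, .bwd 40556],
   .loop none [.edge 10, .bwd 43247, .bwd 41741],
   .loop none [.edge 9, .bwd 43247, .fwd 40009],
   .loop none [.edge 4, .bwd 43248, .fwd 34952],
   .loop none [.edge 6, .bwd 43248, .fwd 40854],
   .loop none [.edge 8, .bwd 43248, .fwd 40856],
   .loop none [.edge 7, .bwd 43248, .bwd 11572],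
   .loop none [.edge 10, .bwd 43248, .bwd 42677],
   .loop none [.edge 9, .bwd 43248, .bwd 41264],
   .loop none [.edge 5, .bwd 43249, .fwd 41853],
   .loop none [.edge 8, .bwd 43249, .fwd 9503],
   .loop none [.edge 10, .bwd 43249, .fwd 39748],
   .loop none [.edge 9, .bwd 43249, .fwd 34380],
   .loop none [.edge 5, .bwd 43250, .bwd 40546],
   .loop none [.edge 10, .bwd 43250, .fwd 39988],
   .loop none [.edge 9, .bwd 43250, .fwd 39989],
   .loop none [.edge 5, .bwd 43251, .bwd 9807],
   .loop none [.edge 10, .bwd 43251, .bwd 11643],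
   .loop none [.edge 9, .bwd 43251, .fwd 10398],
   .loop none [.edge 1, .bwd 43252, .bwd 41091],
   .loop none [.edge 4, .bwd 43252, .fwd 9748],
   .loop none [.edge 1, .bwd 43253, .bwd 40837],
   .loop none [.edge 4, .bwd 43253, .fwd 36973],
   .loop none [.edge 6, .bwd 43254, .fwd 41691],
   .loop none [.edge 7, .bwd 43254, .bwd 35084],
   .loop none [.edge 10, .bwd 43254, .fwd 40397],
   .loop none [.edge 9, .bwd 43254, .fwd 42311],
   .loop none [.edge 4, .bwd 43255, .bwd 41759],
   .loop none [.edge 8, .bwd 43255, .bwd 41972],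
   .loop none [.edge 7, .bwd 43255, .bwd 41809],
   .loop none [.edge 10, .bwd 43255, .fwd 41748],
   .loop none [.edge 9, .bwd 43255, .bwd 41868],
   .loop none [.edge 6, .bwd 43256, .bwd 40036],
   .loop none [.edge 1, .bwd 43257, .fwd 7843],
   .loop none [.edge 1, .bwd 43258, .bwd 41767],
   .loop none [.edge 2, .bwd 43259, .fwd 7859],
   .loop none [.edge 4, .bwd 43259, .bwd 33505],
   .loop none [.edge 10, .bwd 43259, .bwd 32223],
   .loop none [.edge 2, .bwd 43261, .fwd 7858],
   .loop none [.edge 4, .bwd 43261, .bwd 32645],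
   .loop none [.edge 10, .bwd 43261, .bwd 30984],
   .loop none [.edge 5, .bwd 43262, .bwd 40413],
   .loop none [.edge 2, .bwd 43263, .fwd 7862],
   .loop none [.edge 4, .bwd 43263, .bwd 1009],
   .loop none [.edge 10, .bwd 43263, .bwd 32102],
   .loop none [.edge 5, .bwd 43264, .fwd 41965],
   .loop none [.edge 4, .bwd 43265, .bwd 32292],
   .loop none [.edge 3, .bwd 43266, .bwd 6888],
   .loop none [.edge 6, .bwd 43266, .fwd 11587],
   .loop none [.edge 5, .bwd 43266, .bwd 41486],
   .loop none [.edge 9, .bwd 43266, .fwd 14158],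
   .loop none [.edge 4, .bwd 43267, .bwd 42236],
   .loop none [.edge 5, .bwd 43268, .fwd 9685],
   .loop none [.edge 4, .bwd 43269, .fwd 10330],
   .loop none [.edge 2, .bwd 43271, .bwd 7844],
   .loop none [.edge 10, .bwd 43271, .bwd 30926],
   .loop none [.edge 4, .bwd 43272, .fwd 564],
   .loop none [.edge 6, .bwd 43273, .bwd 41427],
   .loop none [.edge 5, .bwd 43273, .fwd 507],
   .loop none [.edge 10, .bwd 43273, .fwd 39196],
   .loop none [.edge 4, .bwd 43274, .fwd 641],
   .loop none [.edge 4, .bwd 43276, .fwd 5887],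
   .loop none [.edge 7, .bwd 43276, .bwd 9857],
   .loop none [.edge 1, .bwd 43281, .bwd 38271],
   .loop none [.edge 1, .bwd 43282, .fwd 10986],
   .loop none [.edge 1, .bwd 43283, .fwd 11133],
   .loop none [.edge 1, .bwd 43284, .fwd 9690],
   .loop none [.edge 1, .bwd 43285, .bwd 38659],
   .loop none [.edge 1, .bwd 43286, .fwd 6776],
   .loop none [.edge 0, .bwd 43287, .bwd 38971],
   .loop none [.edge 10, .bwd 43287, .bwd 32583],
   .loop none [.edge 1, .bwd 43289, .bwd 38411],
   .loop none [.edge 1, .bwd 43290, .bwd 38516],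
   .loop none [.edge 0, .bwd 43291, .bwd 9997],
   .loop none [.edge 10, .bwd 43291, .bwd 17306],
   .loop none [.edge 0, .bwd 43295, .bwd 38896],
   .loop none [.edge 2, .bwd 43295, .fwd 38526],
   .loop none [.edge 4, .bwd 43295, .fwd 4402],
   .loop none [.edge 9, .bwd 43295, .fwd 9178],
   .loop none [.edge 3, .bwd 43296, .bwd 40136],
   .loop none [.edge 6, .bwd 43296, .bwd 41996],
   .loop none [.edge 10, .bwd 43296, .fwd 39492],
   .loop none [.edge 9, .bwd 43296, .fwd 39493],
   .loop none [.edge 0, .bwd 43297, .bwd 34007],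
   .loop none [.edge 2, .bwd 43297, .fwd 33330],
   .loop none [.edge 4, .bwd 43297, .bwd 5700],
   .loop none [.edge 10, .bwd 43297, .bwd 34128],
   .loop none [.edge 9, .bwd 43297, .fwd 33336],
   .loop none [.edge 3, .bwd 43298, .bwd 34490],
   .loop none [.edge 6, .bwd 43298, .bwd 34525],
   .loop none [.edge 0, .bwd 43299, .fwd 18155],
   .loop none [.edge 2, .bwd 43299, .fwd 7797],
   .loop none [.edge 4, .bwd 43299, .bwd 34326],
   .loop none [.edge 9, .bwd 43299, .bwd 32654],
   .loop none [.edge 5, .bwd 43300, .bwd 42104],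
   .loop none [.edge 0, .bwd 43301, .bwd 39424],
   .loop none [.edge 2, .bwd 43301, .fwd 39035],
   .loop none [.edge 4, .bwd 43301, .bwd 35640],
   .loop none [.edge 10, .bwd 43301, .bwd 9646],
   .loop none [.edge 9, .bwd 43301, .fwd 39037],
   .loop none [.edge 5, .bwd 43302, .bwd 14174],
   .loop none [.edge 0, .bwd 43303, .bwd 39411],
   .loop none [.edge 2, .bwd 43303, .fwd 7803],
   .loop none [.edge 4, .bwd 43303, .bwd 5963],
   .loop none [.edge 9, .bwd 43303, .fwd 39176],
   .loop none [.edge 5, .bwd 43304, .bwd 41413],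
   .loop none [.edge 0, .bwd 43305, .bwd 37205],
   .loop none [.edge 2, .bwd 43305, .fwd 38609]]

theorem just173_len : just173.length = 250 := by decide +kernel

theorem just173_ok : cert.okFacts 43250 just173 = true := by decide +kernel

/-- justifications -/
noncomputable def just174 : List Cert.Just :=
  [.loop none [.edge 4, .bwd 43305, .bwd 35518],
   .loop none [.edge 10, .bwd 43305, .bwd 9680],
   .loop none [.edge 9, .bwd 43305, .fwd 38620],
   .loop none [.edge 5, .bwd 43306, .fwd 41953],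
   .loop none [.edge 4, .bwd 43307, .fwd 32454],
   .loop none [.edge 4, .bwd 43308, .bwd 39691],
   .loop none [.edge 3, .bwd 43309, .bwd 34323],
   .loop none [.edge 6, .bwd 43309, .bwd 42305],
   .loop none [.edge 5, .bwd 43309, .bwd 41848],
   .loop none [.edge 10, .bwd 43309, .bwd 36483],
   .loop none [.edge 9, .bwd 43309, .fwd 42929],
   .loop none [.edge 6, .bwd 43311, .bwd 42572],
   .loop none [.edge 5, .bwd 43311, .bwd 42553],
   .loop none [.edge 4, .bwd 43312, .bwd 34984],
   .loop none [.edge 6, .bwd 43312, .fwd 42471],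
   .loop none [.edge 7, .bwd 43312, .bwd 34685],
   .loop none [.edge 10, .bwd 43312, .fwd 35245],
   .loop none [.edge 9, .bwd 43312, .fwd 36941],
   .loop none [.edge 5, .bwd 43313, .bwd 42689],
   .loop none [.edge 8, .bwd 43313, .bwd 41892],
   .loop none [.edge 10, .bwd 43313, .fwd 42016],
   .loop none [.edge 9, .bwd 43313, .fwd 43032],
   .loop none [.edge 1, .bwd 43314, .fwd 5681],
   .loop none [.edge 1, .bwd 43315, .bwd 9295],
   .loop none [.edge 2, .bwd 43316, .fwd 42111],
   .loop none [.edge 4, .bwd 43316, .fwd 42113],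
   .loop none [.edge 4, .bwd 43317, .bwd 39049],
   .loop none [.edge 9, .bwd 43317, .fwd 31888],
   .loop none [.edge 3, .bwd 43318, .bwd 40204],
   .loop none [.edge 6, .bwd 43318, .bwd 42001],
   .loop none [.edge 4, .bwd 43319, .fwd 6644],
   .loop none [.edge 4, .bwd 43320, .bwd 33282],
   .loop none [.edge 6, .bwd 43321, .bwd 42293],
   .loop none [.edge 4, .bwd 43322, .bwd 5654],
   .loop none [.edge 7, .bwd 43322, .bwd 9474],
   .loop none [.edge 8, .bwd 43323, .bwd 41791],
   .loop none [.edge 0, .bwd 43324, .fwd 38887],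
   .loop none [.edge 2, .bwd 43324, .fwd 38890],
   .loop none [.edge 9, .bwd 43324, .fwd 9262],
   .loop none [.edge 5, .bwd 43325, .bwd 41127],
   .loop none [.edge 0, .bwd 43326, .bwd 17541],
   .loop none [.edge 2, .bwd 43326, .bwd 8201],
   .loop none [.edge 4, .bwd 43326, .bwd 4590],
   .loop none [.edge 10, .bwd 43326, .bwd 33488],
   .loop none [.edge 9, .bwd 43326, .fwd 9297],
   .loop none [.edge 5, .bwd 43327, .bwd 42063],
   .loop none [.edge 4, .bwd 43328, .bwd 42224],
   .loop none [.edge 6, .bwd 43330, .bwd 42300],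
   .loop none [.edge 5, .bwd 43332, .bwd 42046],
   .loop none [.edge 4, .bwd 43334, .bwd 41885],
   .loop none [.edge 7, .bwd 43334, .bwd 41888],
   .loop none [.edge 10, .bwd 43334, .fwd 41858],
   .loop none [.edge 1, .bwd 43335, .bwd 34484],
   .loop none [.edge 2, .bwd 43337, .fwd 33288],
   .loop none [.edge 4, .bwd 43337, .bwd 40098],
   .loop none [.edge 4, .bwd 43338, .fwd 850],
   .loop none [.edge 9, .bwd 43338, .fwd 17139],
   .loop none [.edge 3, .bwd 43339, .bwd 5600],
   .loop none [.edge 6, .bwd 43339, .fwd 39921],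
   .loop none [.edge 5, .bwd 43339, .bwd 34512],
   .loop none [.edge 10, .bwd 43339, .bwd 40475],
   .loop none [.edge 9, .bwd 43339, .bwd 34878],
   .loop none [.edge 4, .bwd 43340, .bwd 39867],
   .loop none [.edge 4, .bwd 43341, .bwd 32541],
   .loop none [.edge 5, .bwd 43342, .fwd 41873],
   .loop none [.edge 4, .bwd 43344, .bwd 41624],
   .loop none [.edge 7, .bwd 43344, .bwd 41631],
   .loop none [.edge 1, .bwd 43351, .bwd 31939],
   .loop none [.edge 4, .bwd 43351, .bwd 39762],
   .loop none [.edge 4, .bwd 43352, .fwd 9565],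
   .loop none [.edge 1, .bwd 43353, .bwd 32724],
   .loop none [.edge 4, .bwd 43353, .fwd 10243],
   .loop none [.edge 4, .bwd 43354, .bwd 39705],
   .loop none [.edge 1, .bwd 43355, .bwd 31878],
   .loop none [.edge 4, .bwd 43355, .bwd 644],
   .loop none [.edge 4, .bwd 43356, .bwd 567],
   .loop none [.edge 4, .bwd 43357, .bwd 34077],
   .loop none [.edge 3, .bwd 43358, .fwd 10618],
   .loop none [.edge 6, .bwd 43358, .fwd 40498],
   .loop none [.edge 5, .bwd 43358, .fwd 12756],
   .loop none [.edge 10, .bwd 43358, .bwd 36093],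
   .loop none [.edge 9, .bwd 43358, .fwd 42918],
   .loop none [.edge 5, .bwd 43359, .bwd 41320],
   .loop none [.edge 1, .bwd 43360, .bwd 31936],
   .loop none [.edge 4, .bwd 43360, .bwd 40266],
   .loop none [.edge 4, .bwd 43361, .fwd 9360],
   .loop none [.edge 4, .bwd 43362, .fwd 738],
   .loop none [.edge 3, .bwd 43363, .fwd 11610],
   .loop none [.edge 6, .bwd 43363, .bwd 39900],
   .loop none [.edge 5, .bwd 43363, .fwd 705],
   .loop none [.edge 10, .bwd 43363, .bwd 32874],
   .loop none [.edge 9, .bwd 43363, .bwd 31549],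
   .loop none [.edge 3, .bwd 43364, .bwd 32877],
   .loop none [.edge 6, .bwd 43364, .bwd 41216],
   .loop none [.edge 6, .bwd 43365, .bwd 41825],
   .loop none [.edge 4, .bwd 43366, .fwd 40449],
   .loop none [.edge 6, .bwd 43366, .bwd 10537],
   .loop none [.edge 8, .bwd 43366, .bwd 11752],
   .loop none [.edge 5, .bwd 43367, .fwd 41579],
   .loop none [.edge 8, .bwd 43367, .fwd 9447],
   .loop none [.edge 10, .bwd 43367, .bwd 42971],
   .loop none [.edge 9, .bwd 43367, .fwd 27368],
   .loop none [.edge 5, .bwd 43368, .bwd 40560],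
   .loop none [.edge 10, .bwd 43368, .bwd 40564],
   .loop none [.edge 9, .bwd 43368, .bwd 40381],
   .loop none [.edge 5, .bwd 43369, .bwd 10377],
   .loop none [.edge 10, .bwd 43369, .bwd 32688],
   .loop none [.edge 1, .bwd 43370, .bwd 40902],
   .loop none [.edge 4, .bwd 43370, .fwd 40568],
   .loop none [.edge 6, .bwd 43372, .fwd 41419],
   .loop none [.edge 7, .bwd 43372, .bwd 35832],
   .loop none [.edge 10, .bwd 43372, .bwd 42955],
   .loop none [.edge 9, .bwd 43372, .fwd 42314],
   .loop none [.edge 4, .bwd 43373, .bwd 41751],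
   .loop none [.edge 7, .bwd 43373, .bwd 41536],
   .loop none [.edge 9, .bwd 43373, .bwd 33061],
   .loop none [.edge 6, .bwd 43374, .bwd 40016],
   .loop none [.edge 1, .bwd 43376, .bwd 6727],
   .loop none [.edge 4, .bwd 43377, .bwd 39839],
   .loop none [.edge 6, .bwd 43378, .fwd 11517],
   .loop none [.edge 5, .bwd 43378, .bwd 40527],
   .loop none [.edge 5, .bwd 43380, .fwd 34779],
   .loop none [.edge 6, .bwd 43382, .bwd 9713],
   .loop none [.edge 5, .bwd 43382, .bwd 42052],
   .loop none [.edge 6, .bwd 43383, .bwd 42850],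
   .loop none [.edge 5, .bwd 43383, .bwd 41774],
   .loop none [.edge 6, .bwd 43384, .fwd 42784],
   .loop none [.edge 6, .bwd 43385, .bwd 42856],
   .loop none [.edge 5, .bwd 43386, .bwd 42783],
   .loop none [.edge 8, .bwd 43386, .fwd 40775],
   .loop none [.edge 7, .bwd 43389, .fwd 42088],
   .loop none [.edge 4, .bwd 43390, .bwd 32691],
   .loop none [.edge 7, .bwd 43390, .bwd 40666],
   .loop none [.edge 10, .bwd 43391, .fwd 35326],
   .loop none [.edge 9, .bwd 43391, .fwd 40253],
   .loop none [.edge 10, .bwd 43392, .bwd 42772],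
   .loop none [.edge 9, .bwd 43392, .bwd 35539],
   .loop none [.edge 1, .bwd 43393, .bwd 9864],
   .loop none [.edge 1, .bwd 43394, .bwd 40849],
   .loop none [.edge 10, .bwd 43395, .bwd 42724],
   .loop none [.edge 9, .bwd 43395, .bwd 35276],
   .loop none [.edge 10, .bwd 43396, .fwd 41834],
   .loop none [.edge 10, .bwd 43397, .bwd 42719],
   .loop none [.edge 9, .bwd 43397, .bwd 41077],
   .loop none [.edge 10, .bwd 43398, .bwd 42762],
   .loop none [.edge 9, .bwd 43398, .bwd 41148],
   .loop none [.edge 4, .bwd 43399, .fwd 35673],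
   .loop none [.edge 1, .bwd 43400, .fwd 36393],
   .loop none [.edge 4, .bwd 43400, .fwd 5658],
   .loop none [.edge 10, .bwd 43402, .bwd 42036],
   .loop none [.edge 9, .bwd 43402, .fwd 18137],
   .loop none [.edge 1, .bwd 43403, .bwd 39685],
   .loop none [.edge 4, .bwd 43403, .bwd 17069],
   .loop none [.edge 10, .bwd 43405, .bwd 42987],
   .loop none [.edge 9, .bwd 43405, .fwd 42934],
   .loop none [.edge 1, .bwd 43406, .bwd 34634],
   .loop none [.edge 1, .bwd 43407, .fwd 41731],
   .loop none [.edge 10, .bwd 43408, .fwd 41662],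
   .loop none [.edge 9, .bwd 43408, .fwd 42925],
   .loop none [.edge 1, .bwd 43409, .bwd 9761],
   .loop none [.edge 1, .bwd 43410, .fwd 41726],
   .loop none [.edge 0, .bwd 43411, .fwd 42593],
   .loop none [.edge 2, .bwd 43411, .bwd 35201],
   .loop none [.edge 4, .bwd 43411, .fwd 41092],
   .loop none [.edge 9, .bwd 43411, .bwd 41615],
   .loop none [.edge 0, .bwd 43413, .fwd 41537],
   .loop none [.edge 4, .bwd 43413, .fwd 41539],
   .loop none [.edge 10, .bwd 43413, .bwd 41817],
   .loop none [.edge 9, .bwd 43413, .bwd 41305],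
   .loop none [.edge 1, .bwd 43418, .bwd 39721],
   .loop none [.edge 10, .bwd 43419, .bwd 22889],
   .loop none [.edge 9, .bwd 43419, .fwd 39641],
   .loop none [.edge 10, .bwd 43421, .fwd 35644],
   .loop none [.edge 9, .bwd 43421, .fwd 42787],
   .loop none [.edge 1, .bwd 43422, .bwd 7834],
   .loop none [.edge 1, .bwd 43423, .bwd 6851],
   .loop none [.edge 4, .bwd 43423, .bwd 11595],
   .loop none [.edge 10, .bwd 43425, .bwd 33263],
   .loop none [.edge 9, .bwd 43425, .bwd 41313],
   .loop none [.edge 0, .bwd 43426, .fwd 34018],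
   .loop none [.edge 2, .bwd 43426, .fwd 41768],
   .loop none [.edge 10, .bwd 43426, .bwd 41976],
   .loop none [.edge 9, .bwd 43426, .bwd 41925],
   .loop none [.edge 4, .bwd 43427, .bwd 32621],
   .loop none [.edge 4, .bwd 43429, .bwd 39264],
   .loop none [.edge 4, .bwd 43430, .bwd 32930],
   .loop none [.edge 4, .bwd 43432, .bwd 38932],
   .loop none [.edge 5, .bwd 43435, .bwd 41695],
   .loop none [.edge 4, .bwd 43436, .bwd 707],
   .loop none [.edge 6, .bwd 43438, .bwd 41495],
   .loop none [.edge 10, .bwd 43438, .bwd 8931],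
   .loop none [.edge 9, .bwd 43438, .bwd 38763],
   .loop none [.edge 5, .bwd 43439, .fwd 10627],
   .loop none [.edge 6, .bwd 43443, .fwd 42237],
   .loop none [.edge 5, .bwd 43443, .fwd 42238],
   .loop none [.edge 5, .bwd 43448, .fwd 565],
   .loop none [.edge 4, .bwd 43450, .fwd 9910],
   .loop none [.edge 7, .bwd 43450, .fwd 41436],
   .loop none [.edge 10, .bwd 43450, .bwd 12086],
   .loop none [.edge 5, .bwd 43452, .fwd 642],
   .loop none [.edge 0, .bwd 43455, .fwd 33849],
   .loop none [.edge 10, .bwd 43455, .bwd 38423],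
   .loop none [.edge 0, .bwd 43457, .bwd 38565],
   .loop none [.edge 10, .bwd 43457, .bwd 33105],
   .loop none [.edge 0, .bwd 43459, .bwd 34619],
   .loop none [.edge 10, .bwd 43459, .bwd 39101],
   .loop none [.edge 4, .bwd 43462, .fwd 36857],
   .loop none [.edge 0, .bwd 43463, .bwd 38576],
   .loop none [.edge 4, .bwd 43467, .bwd 42244],
   .loop none [.edge 6, .bwd 43469, .bwd 41800],
   .loop none [.edge 10, .bwd 43472, .bwd 42371],
   .loop none [.edge 9, .bwd 43472, .fwd 42692],
   .loop none [.edge 1, .bwd 43473, .fwd 5525],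
   .loop none [.edge 2, .bwd 43475, .bwd 39539],
   .loop none [.edge 4, .bwd 43475, .bwd 42737],
   .loop none [.edge 4, .bwd 43476, .fwd 7925],
   .loop none [.edge 9, .bwd 43476, .fwd 33225],
   .loop none [.edge 3, .bwd 43477, .bwd 35423],
   .loop none [.edge 6, .bwd 43477, .bwd 40218],
   .loop none [.edge 10, .bwd 43477, .bwd 40225],
   .loop none [.edge 9, .bwd 43477, .bwd 35976],
   .loop none [.edge 4, .bwd 43478, .bwd 39754],
   .loop none [.edge 4, .bwd 43479, .bwd 39884],
   .loop none [.edge 5, .bwd 43480, .bwd 42465],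
   .loop none [.edge 4, .bwd 43482, .bwd 39436],
   .loop none [.edge 4, .bwd 43483, .bwd 39124],
   .loop none [.edge 5, .bwd 43484, .bwd 42044],
   .loop none [.edge 10, .bwd 43484, .bwd 36935],
   .loop none [.edge 9, .bwd 43484, .bwd 40615],
   .loop none [.edge 2, .bwd 43487, .fwd 15838],
   .loop none [.edge 4, .bwd 43487, .fwd 39425],
   .loop none [.edge 9, .bwd 43488, .bwd 32909],
   .loop none [.edge 5, .bwd 43489, .fwd 14173],
   .loop none [.edge 4, .bwd 43490, .fwd 6714],
   .loop none [.edge 4, .bwd 43491, .bwd 34141],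
   .loop none [.edge 4, .bwd 43493, .bwd 9941],
   .loop none [.edge 4, .bwd 43494, .bwd 853],
   .loop none [.edge 5, .bwd 43495, .bwd 41201],
   .loop none [.edge 10, .bwd 43495, .bwd 40883],
   .loop none [.edge 9, .bwd 43495, .bwd 40934],
   .loop none [.edge 9, .bwd 43499, .fwd 33091],
   .loop none [.edge 4, .bwd 43502, .bwd 741],
   .loop none [.edge 3, .bwd 43504, .fwd 40074],
   .loop none [.edge 6, .bwd 43504, .bwd 42479],
   .loop none [.edge 3, .bwd 43505, .bwd 40314],
   .loop none [.edge 6, .bwd 43505, .bwd 40319],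
   .loop none [.edge 10, .bwd 43505, .bwd 40323],
   .loop none [.edge 9, .bwd 43505, .bwd 41119],
   .loop none [.edge 2, .bwd 43506, .fwd 5481],
   .loop none [.edge 6, .bwd 43506, .bwd 42464]]

theorem just174_len : just174.length = 250 := by decide +kernel

theorem just174_ok : cert.okFacts 43500 just174 = true := by decide +kernel

/-- justifications -/
noncomputable def just175 : List Cert.Just :=
  [.loop none [.edge 10, .bwd 43506, .bwd 42999],
   .loop none [.edge 9, .bwd 43506, .bwd 34853],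
   .loop none [.edge 7, .bwd 43507, .bwd 9552],
   .loop none [.edge 5, .bwd 43508, .bwd 42431],
   .loop none [.edge 8, .bwd 43508, .bwd 41638],
   .loop none [.edge 4, .bwd 43511, .fwd 36555],
   .loop none [.edge 8, .bwd 43511, .bwd 42163],
   .loop none [.edge 7, .bwd 43512, .bwd 35554],
   .loop none [.edge 9, .bwd 43513, .fwd 42824],
   .loop none [.edge 9, .bwd 43515, .fwd 36540],
   .loop none [.edge 1, .bwd 43521, .fwd 36505],
   .loop none [.edge 2, .bwd 43523, .bwd 4588],
   .loop none [.edge 9, .bwd 43523, .fwd 9296],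
   .loop none [.edge 4, .bwd 43527, .bwd 18379],
   .loop none [.edge 2, .bwd 43540, .fwd 39406],
   .loop none [.edge 4, .bwd 43541, .fwd 7957],
   .loop none [.edge 9, .bwd 43541, .bwd 32732],
   .loop none [.edge 5, .bwd 43542, .bwd 42272],
   .loop none [.edge 10, .bwd 43542, .bwd 40216],
   .loop none [.edge 9, .bwd 43542, .fwd 42467],
   .loop none [.edge 4, .bwd 43543, .bwd 39556],
   .loop none [.edge 4, .bwd 43544, .bwd 39398],
   .loop none [.edge 2, .bwd 43552, .fwd 5648],
   .loop none [.edge 10, .bwd 43552, .bwd 40752],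
   .loop none [.edge 9, .bwd 43552, .bwd 34463],
   .loop none [.edge 4, .bwd 43553, .bwd 39919],
   .loop none [.edge 6, .bwd 43554, .bwd 41765],
   .loop none [.edge 6, .bwd 43555, .bwd 41563],
   .loop none [.edge 5, .bwd 43555, .fwd 851],
   .loop none [.edge 10, .bwd 43555, .bwd 35852],
   .loop none [.edge 9, .bwd 43555, .bwd 39936],
   .loop none [.edge 2, .bwd 43557, .bwd 5599],
   .loop none [.edge 10, .bwd 43558, .fwd 35160],
   .loop none [.edge 4, .bwd 43559, .bwd 41371],
   .loop none [.edge 7, .bwd 43559, .bwd 41380],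
   .loop none [.edge 4, .bwd 43561, .fwd 5912],
   .loop none [.edge 6, .bwd 43562, .bwd 41245],
   .loop none [.edge 9, .bwd 43562, .bwd 39891],
   .loop none [.edge 6, .bwd 43563, .bwd 40875],
   .loop none [.edge 5, .bwd 43563, .fwd 775],
   .loop none [.edge 4, .bwd 43567, .bwd 39749],
   .loop none [.edge 3, .bwd 43568, .bwd 40366],
   .loop none [.edge 6, .bwd 43568, .bwd 35251],
   .loop none [.edge 10, .bwd 43568, .bwd 40380],
   .loop none [.edge 9, .bwd 43568, .bwd 39775],
   .loop none [.edge 3, .bwd 43569, .bwd 5923],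
   .loop none [.edge 6, .bwd 43569, .bwd 41679],
   .loop none [.edge 4, .bwd 43570, .bwd 33934],
   .loop none [.edge 5, .bwd 43571, .bwd 40500],
   .loop none [.edge 5, .bwd 43572, .bwd 41672],
   .loop none [.edge 4, .bwd 43573, .bwd 777],
   .loop none [.edge 5, .bwd 43574, .bwd 33400],
   .loop none [.edge 5, .bwd 43575, .bwd 10723],
   .loop none [.edge 9, .bwd 43576, .fwd 42921],
   .loop none [.edge 5, .bwd 43579, .bwd 15188],
   .loop none [.edge 8, .bwd 43579, .bwd 39912],
   .loop none [.edge 10, .bwd 43579, .bwd 42973],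
   .loop none [.edge 5, .bwd 43582, .fwd 41321],
   .loop none [.edge 8, .bwd 43582, .fwd 9446],
   .loop none [.edge 6, .bwd 43587, .bwd 32829],
   .loop none [.edge 5, .bwd 43587, .bwd 40805],
   .loop none [.edge 7, .bwd 43588, .fwd 41062],
   .loop none [.edge 10, .bwd 43588, .bwd 42798],
   .loop none [.edge 9, .bwd 43588, .fwd 40938],
   .loop none [.edge 4, .bwd 43589, .bwd 32833],
   .loop none [.edge 7, .bwd 43589, .bwd 40913],
   .loop none [.edge 1, .bwd 43590, .bwd 13239],
   .loop none [.edge 1, .bwd 43591, .bwd 12446],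
   .loop none [.edge 5, .bwd 43592, .bwd 41407],
   .loop none [.edge 7, .bwd 43593, .bwd 36249],
   .loop none [.edge 2, .bwd 43607, .bwd 34696],
   .loop none [.edge 6, .bwd 43608, .fwd 40456],
   .loop none [.edge 9, .bwd 43613, .fwd 42702],
   .loop none [.edge 4, .bwd 43633, .fwd 34369],
   .loop none [.edge 4, .bwd 43634, .bwd 36553],
   .loop none [.edge 4, .bwd 43635, .bwd 36741],
   .loop none [.edge 4, .bwd 43636, .bwd 14502],
   .loop none [.edge 0, .bwd 43638, .bwd 42804],
   .loop none [.edge 2, .bwd 43638, .fwd 11417],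
   .loop none [.edge 4, .bwd 43639, .fwd 9285],
   .loop none [.edge 4, .bwd 43640, .bwd 41911],
   .loop none [.edge 4, .bwd 43642, .bwd 9290],
   .loop none [.edge 4, .bwd 43643, .fwd 5491],
   .loop none [.edge 4, .bwd 43644, .fwd 35964],
   .loop none [.edge 10, .bwd 43646, .bwd 43020],
   .loop none [.edge 9, .bwd 43647, .fwd 42796],
   .loop none [.edge 3, .bwd 43648, .bwd 41906],
   .loop none [.edge 5, .bwd 43648, .fwd 41573],
   .loop none [.edge 1, .bwd 43649, .fwd 42029],
   .loop none [.edge 1, .bwd 43653, .bwd 12143],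
   .loop none [.edge 4, .bwd 43653, .fwd 36459],
   .loop none [.edge 4, .bwd 43654, .bwd 36696],
   .loop none [.edge 0, .bwd 43655, .bwd 42641],
   .loop none [.edge 2, .bwd 43655, .bwd 35512],
   .loop none [.edge 9, .bwd 43655, .bwd 41357],
   .loop none [.edge 10, .bwd 43656, .fwd 41460],
   .loop none [.edge 9, .bwd 43656, .bwd 41085],
   .loop none [.edge 2, .bwd 43659, .fwd 11416],
   .loop none [.edge 4, .bwd 43661, .bwd 40595],
   .loop none [.edge 4, .bwd 43662, .bwd 4586],
   .loop none [.edge 9, .bwd 43663, .bwd 41898],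
   .loop none [.edge 1, .bwd 43668, .bwd 42183],
   .loop none [.edge 4, .bwd 43671, .bwd 36464],
   .loop none [.edge 2, .bwd 43675, .bwd 39102],
   .loop none [.edge 9, .bwd 43675, .bwd 39394],
   .loop none [.edge 4, .bwd 43695, .fwd 41227],
   .loop none [.edge 4, .bwd 43699, .bwd 34319],
   .loop none [.edge 4, .bwd 43703, .bwd 39116],
   .loop none [.edge 4, .bwd 43705, .bwd 10027],
   .loop none [.edge 2, .bwd 43712, .fwd 5526],
   .loop none [.edge 9, .bwd 43712, .bwd 35120],
   .loop none [.edge 4, .bwd 43713, .fwd 6779],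
   .loop none [.edge 10, .bwd 43715, .bwd 36161],
   .loop none [.edge 9, .bwd 43715, .bwd 40264],
   .loop none [.edge 2, .bwd 43717, .fwd 4842],
   .loop none [.edge 4, .bwd 43720, .fwd 6783],
   .loop none [.edge 6, .bwd 43721, .bwd 40889],
   .loop none [.edge 5, .bwd 43721, .bwd 40365],
   .loop none [.edge 9, .bwd 43721, .fwd 42873],
   .loop none [.edge 6, .bwd 43722, .bwd 40503],
   .loop none [.edge 10, .bwd 43725, .bwd 39720],
   .loop none [.edge 9, .bwd 43725, .bwd 40628],
   .loop none [.edge 2, .bwd 43760, .fwd 36434],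
   .loop none [.edge 3, .bwd 43761, .bwd 36262],
   .loop none [.edge 9, .bwd 43765, .fwd 39075],
   .loop none [.edge 9, .bwd 43777, .fwd 41564],
   .loop none [.edge 7, .bwd 43778, .bwd 41181],
   .loop none [.edge 4, .bwd 43789, .bwd 34818],
   .loop none [.edge 7, .bwd 43789, .bwd 40468],
   .loop none [.fwd 30772],
   .loop none [.bwd 43061, .fwd 11, .fwd 43061],
   .loop none [.bwd 43061, .fwd 13, .fwd 43061],
   .loop none [.bwd 43061, .bwd 12, .fwd 43061],
   .loop none [.bwd 43061, .bwd 46, .fwd 43061],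
   .loop none [.bwd 43062, .fwd 2, .fwd 43062],
   .loop none [.bwd 43062, .fwd 91, .fwd 43062],
   .loop none [.bwd 43062, .fwd 55, .fwd 43062],
   .loop none [.bwd 43062, .bwd 54, .fwd 43062],
   .loop none [.bwd 43062, .bwd 81, .fwd 43062],
   .loop none [.bwd 43065, .fwd 1239, .fwd 43062],
   .loop none [.bwd 43064, .bwd 122, .fwd 43062],
   .loop none [.bwd 43066, .fwd 131, .fwd 43063],
   .loop none [.bwd 43063, .fwd 29643, .fwd 43063],
   .loop none [.bwd 43063, .fwd 56, .fwd 43063],
   .loop none [.bwd 43063, .bwd 47, .fwd 43063],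
   .loop none [.bwd 43063, .bwd 79, .fwd 43063],
   .loop none [.bwd 43067, .fwd 269, .fwd 43063],
   .loop none [.bwd 43065, .bwd 1211, .fwd 43064],
   .loop none [.bwd 43068, .fwd 51, .fwd 43064],
   .loop none [.bwd 43065, .fwd 201, .fwd 43064],
   .loop none [.bwd 43064, .bwd 1215, .fwd 43064],
   .loop none [.bwd 43064, .bwd 1218, .fwd 43064],
   .loop none [.bwd 43067, .bwd 200, .fwd 43065],
   .loop none [.bwd 43065, .bwd 220, .fwd 43065],
   .loop none [.bwd 43065, .bwd 266, .fwd 43065],
   .loop none [.bwd 43068, .bwd 50, .fwd 43066],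
   .loop none [.bwd 43066, .fwd 95, .fwd 43066],
   .loop none [.bwd 43066, .bwd 94, .fwd 43066],
   .loop none [.bwd 43066, .bwd 121, .fwd 43066],
   .loop none [.bwd 43068, .fwd 1342, .fwd 43066],
   .loop none [.bwd 43067, .bwd 1262, .fwd 43066],
   .loop none [.bwd 43068, .fwd 227, .fwd 43067],
   .loop none [.bwd 43067, .fwd 29579, .fwd 43067],
   .loop none [.bwd 43067, .bwd 136, .fwd 43067],
   .loop none [.bwd 43067, .bwd 145, .fwd 43067],
   .loop none [.bwd 43068, .bwd 229, .fwd 43068],
   .loop none [.bwd 43068, .bwd 270, .fwd 43068],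
   .loop none [.bwd 43071, .bwd 28760, .fwd 43069],
   .loop none [.bwd 43069, .fwd 28245, .fwd 43069],
   .loop none [.bwd 43069, .bwd 2352, .fwd 43069],
   .loop none [.bwd 43078, .fwd 30099, .fwd 43069],
   .loop none [.bwd 43072, .bwd 30348, .fwd 43070],
   .loop none [.bwd 43079, .bwd 113, .fwd 43070],
   .loop none [.bwd 43076, .bwd 30216, .fwd 43070],
   .loop none [.bwd 43070, .bwd 2823, .fwd 43070],
   .loop none [.bwd 43081, .fwd 30756, .fwd 43070],
   .loop none [.bwd 43071, .fwd 31270, .fwd 43071],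
   .loop none [.bwd 43071, .bwd 1196, .fwd 43071],
   .loop none [.bwd 43071, .bwd 1125, .fwd 43071],
   .loop none [.bwd 43086, .bwd 30198, .fwd 43072],
   .loop none [.bwd 43074, .bwd 30199, .fwd 43072],
   .loop none [.bwd 43084, .bwd 19, .fwd 43072],
   .loop none [.bwd 43072, .bwd 320, .fwd 43072],
   .loop none [.bwd 43084, .fwd 457, .fwd 43072],
   .loop none [.bwd 43081, .bwd 1995, .fwd 43072],
   .loop none [.bwd 43073, .fwd 29633, .fwd 43073],
   .loop none [.bwd 43073, .fwd 85, .fwd 43073],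
   .loop none [.bwd 43075, .fwd 1258, .fwd 43073],
   .loop none [.bwd 43073, .fwd 1255, .fwd 43073],
   .loop none [.bwd 43073, .bwd 1250, .fwd 43073],
   .loop none [.bwd 43073, .bwd 1263, .fwd 43073],
   .loop none [.bwd 43091, .fwd 30119, .fwd 43073],
   .loop none [.bwd 43076, .fwd 230, .fwd 43074],
   .loop none [.bwd 43074, .fwd 29652, .fwd 43074],
   .loop none [.bwd 43074, .fwd 137, .fwd 43074],
   .loop none [.bwd 43074, .bwd 238, .fwd 43074],
   .loop none [.bwd 43075, .fwd 30116, .fwd 43075],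
   .loop none [.bwd 43075, .bwd 1275, .fwd 43075],
   .loop none [.bwd 43075, .bwd 1343, .fwd 43075],
   .loop none [.bwd 43096, .fwd 30122, .fwd 43075],
   .loop none [.bwd 43096, .bwd 29162, .fwd 43075],
   .loop none [.bwd 43097, .bwd 97, .fwd 43076],
   .loop none [.bwd 43076, .fwd 1249, .fwd 43076],
   .loop none [.bwd 43076, .bwd 297, .fwd 43076],
   .loop none [.bwd 43095, .fwd 4794, .fwd 43076],
   .loop none [.bwd 43094, .bwd 2104, .fwd 43076],
   .loop none [.bwd 43085, .fwd 377, .fwd 43077],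
   .loop none [.bwd 43080, .bwd 378, .fwd 43077],
   .loop none [.bwd 43085, .fwd 30087, .fwd 43077],
   .loop none [.bwd 43077, .fwd 28037, .fwd 43077],
   .loop none [.bwd 43077, .bwd 6179, .fwd 43077],
   .loop none [.bwd 43078, .bwd 6201, .fwd 43077],
   .loop none [.bwd 43080, .fwd 30095, .fwd 43077],
   .loop none [.bwd 43080, .bwd 30098, .fwd 43078],
   .loop none [.bwd 43096, .fwd 101, .fwd 43078],
   .loop none [.bwd 43087, .fwd 31275, .fwd 43078],
   .loop none [.bwd 43078, .fwd 28277, .fwd 43078],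
   .loop none [.bwd 43078, .bwd 2313, .fwd 43078],
   .loop none [.bwd 43100, .bwd 31271, .fwd 43079],
   .loop none [.bwd 43101, .bwd 114, .fwd 43079],
   .loop none [.bwd 43079, .bwd 2396, .fwd 43079],
   .loop none [.bwd 43102, .fwd 31281, .fwd 43079],
   .loop none [.bwd 43080, .fwd 30092, .fwd 43080],
   .loop none [.bwd 43088, .bwd 379, .fwd 43080],
   .loop none [.bwd 43080, .fwd 28236, .fwd 43080],
   .loop none [.bwd 43080, .bwd 6210, .fwd 43080],
   .loop none [.bwd 43084, .bwd 2043, .fwd 43081],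
   .loop none [.bwd 43102, .bwd 21, .fwd 43081],
   .loop none [.bwd 43094, .bwd 31290, .fwd 43081],
   .loop none [.bwd 43084, .fwd 20, .fwd 43081],
   .loop none [.bwd 43081, .bwd 424, .fwd 43081],
   .loop none [.bwd 43089, .fwd 31349, .fwd 43082],
   .loop none [.bwd 43103, .bwd 30714, .fwd 43082],
   .loop none [.bwd 43098, .bwd 8033, .fwd 43082],
   .loop none [.bwd 43108, .fwd 31388, .fwd 43082],
   .loop none [.bwd 43110, .bwd 4605, .fwd 43082],
   .loop none [.bwd 43107, .bwd 30773, .fwd 43082],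
   .loop none [.bwd 43090, .fwd 31177, .fwd 43083],
   .loop none [.bwd 43104, .bwd 3512, .fwd 43083],
   .loop none [.bwd 43099, .bwd 31067, .fwd 43083],
   .loop none [.bwd 43107, .bwd 1983, .fwd 43083],
   .loop none [.bwd 43110, .bwd 31068, .fwd 43083],
   .loop none [.bwd 43113, .fwd 30961, .fwd 43083],
   .loop none [.bwd 43109, .fwd 30894, .fwd 43083],
   .loop none [.bwd 43108, .fwd 6937, .fwd 43083],
   .loop none [.bwd 43095, .bwd 31382, .fwd 43084],
   .loop none [.bwd 43112, .bwd 393, .fwd 43084],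
   .loop none [.bwd 43114, .fwd 346, .fwd 43084],
   .loop none [.bwd 43084, .bwd 362, .fwd 43084],
   .loop none [.bwd 43085, .fwd 30086, .fwd 43085]]

theorem just175_len : just175.length = 250 := by decide +kernel

theorem just175_ok : cert.okFacts 43750 just175 = true := by decide +kernel

/-- justifications -/
noncomputable def just176 : List Cert.Just :=
  [.loop none [.bwd 43085, .fwd 28202, .fwd 43085],
   .loop none [.bwd 43085, .bwd 6052, .fwd 43085],
   .loop none [.bwd 43088, .fwd 6470, .fwd 43085],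
   .loop none [.bwd 43087, .bwd 28565, .fwd 43085],
   .loop none [.bwd 43116, .bwd 30100, .fwd 43086],
   .loop none [.bwd 43086, .fwd 30101, .fwd 43086],
   .loop none [.bwd 43115, .fwd 31, .fwd 43086],
   .loop none [.bwd 43086, .bwd 1067, .fwd 43086],
   .loop none [.bwd 43088, .bwd 28229, .fwd 43087],
   .loop none [.bwd 43091, .fwd 28570, .fwd 43087],
   .loop none [.bwd 43088, .bwd 31274, .fwd 43087],
   .loop none [.bwd 43087, .fwd 28230, .fwd 43087],
   .loop none [.bwd 43087, .bwd 6568, .fwd 43087],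
   .loop none [.bwd 43087, .bwd 6572, .fwd 43087],
   .loop none [.bwd 43088, .fwd 31273, .fwd 43088],
   .loop none [.bwd 43088, .fwd 28213, .fwd 43088],
   .loop none [.bwd 43088, .fwd 28218, .fwd 43088],
   .loop none [.bwd 43088, .bwd 6434, .fwd 43088],
   .loop none [.bwd 43117, .bwd 31350, .fwd 43089],
   .loop none [.bwd 43092, .bwd 31351, .fwd 43089],
   .loop none [.bwd 43114, .bwd 345, .fwd 43089],
   .loop none [.bwd 43122, .bwd 361, .fwd 43089],
   .loop none [.bwd 43112, .fwd 6670, .fwd 43089],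
   .loop none [.bwd 43107, .bwd 5501, .fwd 43089],
   .loop none [.bwd 43118, .bwd 31178, .fwd 43090],
   .loop none [.bwd 43093, .fwd 281, .fwd 43090],
   .loop none [.bwd 43112, .fwd 31457, .fwd 43090],
   .loop none [.bwd 43122, .bwd 31179, .fwd 43090],
   .loop none [.bwd 43124, .bwd 31182, .fwd 43090],
   .loop none [.bwd 43121, .bwd 31183, .fwd 43090],
   .loop none [.bwd 43114, .fwd 31703, .fwd 43090],
   .loop none [.bwd 43108, .fwd 31389, .fwd 43090],
   .loop none [.bwd 43091, .fwd 30117, .fwd 43091],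
   .loop none [.bwd 43091, .fwd 30118, .fwd 43091],
   .loop none [.bwd 43096, .fwd 30121, .fwd 43091],
   .loop none [.bwd 43091, .fwd 28571, .fwd 43091],
   .loop none [.bwd 43091, .bwd 28558, .fwd 43091],
   .loop none [.bwd 43091, .bwd 5289, .fwd 43091],
   .loop none [.bwd 43098, .bwd 3359, .fwd 43092],
   .loop none [.bwd 43092, .fwd 30770, .fwd 43092],
   .loop none [.bwd 43093, .bwd 292, .fwd 43092],
   .loop none [.bwd 43126, .bwd 295, .fwd 43092],
   .loop none [.bwd 43099, .bwd 290, .fwd 43093],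
   .loop none [.bwd 43093, .fwd 30702, .fwd 43093],
   .loop none [.bwd 43126, .bwd 222, .fwd 43093],
   .loop none [.bwd 43130, .fwd 3382, .fwd 43093],
   .loop none [.bwd 43125, .fwd 3388, .fwd 43093],
   .loop none [.bwd 43095, .fwd 4623, .fwd 43094],
   .loop none [.bwd 43095, .bwd 288, .fwd 43094],
   .loop none [.bwd 43095, .fwd 1476, .fwd 43094],
   .loop none [.bwd 43128, .fwd 4773, .fwd 43094],
   .loop none [.bwd 43131, .fwd 31707, .fwd 43094],
   .loop none [.bwd 43094, .bwd 1513, .fwd 43094],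
   .loop none [.bwd 43129, .fwd 8044, .fwd 43095],
   .loop none [.bwd 43132, .fwd 31765, .fwd 43095],
   .loop none [.bwd 43095, .bwd 1495, .fwd 43095],
   .loop none [.bwd 43096, .fwd 30120, .fwd 43096],
   .loop none [.bwd 43096, .fwd 28671, .fwd 43096],
   .loop none [.bwd 43096, .bwd 2242, .fwd 43096],
   .loop none [.bwd 43097, .fwd 30123, .fwd 43097],
   .loop none [.bwd 43135, .bwd 98, .fwd 43097],
   .loop none [.bwd 43097, .fwd 2084, .fwd 43097],
   .loop none [.bwd 43097, .bwd 2105, .fwd 43097],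
   .loop none [.bwd 43097, .fwd 29420, .fwd 43097],
   .loop none [.bwd 43136, .fwd 4799, .fwd 43098],
   .loop none [.bwd 43099, .bwd 2100, .fwd 43098],
   .loop none [.bwd 43139, .bwd 2103, .fwd 43098],
   .loop none [.bwd 43129, .fwd 8867, .fwd 43098],
   .loop none [.bwd 43128, .bwd 8103, .fwd 43098],
   .loop none [.bwd 43137, .bwd 2101, .fwd 43099],
   .loop none [.bwd 43139, .bwd 1272, .fwd 43099],
   .loop none [.bwd 43141, .bwd 4523, .fwd 43099],
   .loop none [.bwd 43138, .fwd 4384, .fwd 43099],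
   .loop none [.bwd 43132, .fwd 31767, .fwd 43099],
   .loop none [.bwd 43131, .fwd 31708, .fwd 43099],
   .loop none [.bwd 43116, .bwd 330, .fwd 43100],
   .loop none [.bwd 43106, .bwd 4732, .fwd 43100],
   .loop none [.bwd 43105, .fwd 4740, .fwd 43100],
   .loop none [.bwd 43100, .bwd 3550, .fwd 43100],
   .loop none [.bwd 43105, .fwd 30126, .fwd 43100],
   .loop none [.bwd 43102, .fwd 30129, .fwd 43100],
   .loop none [.bwd 43106, .fwd 31276, .fwd 43101],
   .loop none [.bwd 43135, .fwd 29321, .fwd 43101],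
   .loop none [.bwd 43101, .fwd 28688, .fwd 43101],
   .loop none [.bwd 43101, .bwd 2275, .fwd 43101],
   .loop none [.bwd 43105, .fwd 2063, .fwd 43102],
   .loop none [.bwd 43147, .bwd 22, .fwd 43102],
   .loop none [.bwd 43115, .bwd 31280, .fwd 43102],
   .loop none [.bwd 43102, .bwd 496, .fwd 43102],
   .loop none [.bwd 43142, .bwd 31563, .fwd 43103],
   .loop none [.bwd 43144, .fwd 8642, .fwd 43103],
   .loop none [.bwd 43149, .bwd 31564, .fwd 43103],
   .loop none [.bwd 43151, .fwd 29779, .fwd 43103],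
   .loop none [.bwd 43148, .fwd 31805, .fwd 43103],
   .loop none [.bwd 43143, .fwd 31029, .fwd 43104],
   .loop none [.bwd 43145, .fwd 31069, .fwd 43104],
   .loop none [.bwd 43148, .fwd 518, .fwd 43104],
   .loop none [.bwd 43151, .fwd 31061, .fwd 43104],
   .loop none [.bwd 43154, .fwd 31050, .fwd 43104],
   .loop none [.bwd 43150, .fwd 31028, .fwd 43104],
   .loop none [.bwd 43149, .fwd 30222, .fwd 43104],
   .loop none [.bwd 43146, .bwd 30125, .fwd 43105],
   .loop none [.bwd 43156, .bwd 30512, .fwd 43105],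
   .loop none [.bwd 43153, .bwd 7190, .fwd 43105],
   .loop none [.bwd 43155, .bwd 2067, .fwd 43105],
   .loop none [.bwd 43105, .bwd 2068, .fwd 43105],
   .loop none [.bwd 43106, .fwd 31277, .fwd 43106],
   .loop none [.bwd 43106, .fwd 28583, .fwd 43106],
   .loop none [.bwd 43106, .bwd 3585, .fwd 43106],
   .loop none [.bwd 43147, .fwd 29180, .fwd 43106],
   .loop none [.bwd 43146, .bwd 7237, .fwd 43106],
   .loop none [.bwd 43112, .bwd 6626, .fwd 43107],
   .loop none [.bwd 43148, .fwd 5840, .fwd 43107],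
   .loop none [.bwd 43128, .fwd 31684, .fwd 43107],
   .loop none [.bwd 43160, .bwd 491, .fwd 43107],
   .loop none [.bwd 43114, .bwd 2061, .fwd 43108],
   .loop none [.bwd 43149, .bwd 489, .fwd 43108],
   .loop none [.bwd 43131, .bwd 473, .fwd 43108],
   .loop none [.bwd 43163, .bwd 6896, .fwd 43108],
   .loop none [.bwd 43121, .bwd 30893, .fwd 43109],
   .loop none [.bwd 43150, .fwd 8826, .fwd 43109],
   .loop none [.bwd 43138, .fwd 31688, .fwd 43109],
   .loop none [.bwd 43161, .fwd 31702, .fwd 43109],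
   .loop none [.bwd 43111, .bwd 2865, .fwd 43109],
   .loop none [.bwd 43110, .fwd 30713, .fwd 43109],
   .loop none [.bwd 43113, .bwd 8827, .fwd 43109],
   .loop none [.bwd 43164, .fwd 31550, .fwd 43109],
   .loop none [.bwd 43122, .fwd 30900, .fwd 43110],
   .loop none [.bwd 43151, .bwd 30495, .fwd 43110],
   .loop none [.bwd 43139, .bwd 4830, .fwd 43110],
   .loop none [.bwd 43163, .fwd 30854, .fwd 43110],
   .loop none [.bwd 43111, .fwd 30717, .fwd 43110],
   .loop none [.bwd 43160, .fwd 31715, .fwd 43110],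
   .loop none [.bwd 43123, .bwd 30855, .fwd 43111],
   .loop none [.bwd 43152, .fwd 8830, .fwd 43111],
   .loop none [.bwd 43140, .fwd 31681, .fwd 43111],
   .loop none [.bwd 43164, .fwd 30902, .fwd 43111],
   .loop none [.bwd 43113, .bwd 30769, .fwd 43111],
   .loop none [.bwd 43113, .bwd 2866, .fwd 43111],
   .loop none [.bwd 43161, .fwd 31452, .fwd 43111],
   .loop none [.bwd 43129, .bwd 31456, .fwd 43112],
   .loop none [.bwd 43166, .bwd 394, .fwd 43112],
   .loop none [.bwd 43166, .bwd 423, .fwd 43112],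
   .loop none [.bwd 43167, .fwd 5516, .fwd 43112],
   .loop none [.bwd 43124, .fwd 30965, .fwd 43113],
   .loop none [.bwd 43154, .fwd 8661, .fwd 43113],
   .loop none [.bwd 43141, .fwd 30811, .fwd 43113],
   .loop none [.bwd 43160, .bwd 30959, .fwd 43113],
   .loop none [.bwd 43163, .fwd 31387, .fwd 43113],
   .loop none [.bwd 43132, .bwd 406, .fwd 43114],
   .loop none [.bwd 43170, .fwd 398, .fwd 43114],
   .loop none [.bwd 43170, .bwd 5519, .fwd 43114],
   .loop none [.bwd 43165, .fwd 5566, .fwd 43114],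
   .loop none [.bwd 43156, .fwd 29456, .fwd 43115],
   .loop none [.bwd 43168, .bwd 994, .fwd 43115],
   .loop none [.bwd 43171, .fwd 31327, .fwd 43115],
   .loop none [.bwd 43115, .bwd 990, .fwd 43115],
   .loop none [.bwd 43173, .bwd 30671, .fwd 43115],
   .loop none [.bwd 43116, .fwd 29144, .fwd 43116],
   .loop none [.bwd 43156, .fwd 30102, .fwd 43116],
   .loop none [.bwd 43116, .bwd 1933, .fwd 43116],
   .loop none [.bwd 43120, .fwd 30112, .fwd 43116],
   .loop none [.bwd 43119, .fwd 30115, .fwd 43116],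
   .loop none [.bwd 43175, .bwd 30168, .fwd 43117],
   .loop none [.bwd 43117, .fwd 30171, .fwd 43117],
   .loop none [.bwd 43171, .fwd 31324, .fwd 43117],
   .loop none [.bwd 43178, .bwd 1124, .fwd 43117],
   .loop none [.bwd 43176, .bwd 30204, .fwd 43118],
   .loop none [.bwd 43118, .fwd 30205, .fwd 43118],
   .loop none [.bwd 43168, .fwd 31384, .fwd 43118],
   .loop none [.bwd 43178, .fwd 30789, .fwd 43118],
   .loop none [.bwd 43182, .fwd 30946, .fwd 43118],
   .loop none [.bwd 43177, .bwd 30207, .fwd 43118],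
   .loop none [.bwd 43120, .fwd 29722, .fwd 43119],
   .loop none [.bwd 43120, .bwd 30208, .fwd 43119],
   .loop none [.bwd 43173, .fwd 30521, .fwd 43119],
   .loop none [.bwd 43120, .bwd 428, .fwd 43119],
   .loop none [.bwd 43180, .bwd 6961, .fwd 43119],
   .loop none [.bwd 43183, .fwd 31285, .fwd 43119],
   .loop none [.bwd 43119, .bwd 1871, .fwd 43119],
   .loop none [.bwd 43174, .fwd 579, .fwd 43120],
   .loop none [.bwd 43181, .bwd 38949, .fwd 43120],
   .loop none [.bwd 43184, .fwd 719, .fwd 43120],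
   .loop none [.bwd 43120, .bwd 723, .fwd 43120],
   .loop none [.bwd 43177, .bwd 30774, .fwd 43121],
   .loop none [.bwd 43125, .fwd 30896, .fwd 43121],
   .loop none [.bwd 43167, .fwd 5513, .fwd 43121],
   .loop none [.bwd 43123, .bwd 324, .fwd 43121],
   .loop none [.bwd 43122, .fwd 323, .fwd 43121],
   .loop none [.bwd 43124, .fwd 5039, .fwd 43121],
   .loop none [.bwd 43165, .fwd 6803, .fwd 43121],
   .loop none [.bwd 43164, .fwd 6762, .fwd 43121],
   .loop none [.bwd 43178, .bwd 30901, .fwd 43122],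
   .loop none [.bwd 43126, .fwd 30913, .fwd 43122],
   .loop none [.bwd 43170, .fwd 5454, .fwd 43122],
   .loop none [.bwd 43123, .bwd 5081, .fwd 43122],
   .loop none [.bwd 43166, .fwd 6739, .fwd 43122],
   .loop none [.bwd 43160, .fwd 6696, .fwd 43122],
   .loop none [.bwd 43179, .fwd 30967, .fwd 43123],
   .loop none [.bwd 43127, .bwd 33296, .fwd 43123],
   .loop none [.bwd 43165, .fwd 5564, .fwd 43123],
   .loop none [.bwd 43124, .fwd 1404, .fwd 43123],
   .loop none [.bwd 43124, .bwd 325, .fwd 43123],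
   .loop none [.bwd 43167, .fwd 6875, .fwd 43123],
   .loop none [.bwd 43161, .fwd 6827, .fwd 43123],
   .loop none [.bwd 43182, .fwd 30943, .fwd 43124],
   .loop none [.bwd 43130, .fwd 30964, .fwd 43124],
   .loop none [.bwd 43166, .fwd 5624, .fwd 43124],
   .loop none [.bwd 43170, .fwd 6895, .fwd 43124],
   .loop none [.bwd 43163, .fwd 6884, .fwd 43124],
   .loop none [.bwd 43138, .fwd 4380, .fwd 43125],
   .loop none [.bwd 43125, .fwd 30895, .fwd 43125],
   .loop none [.bwd 43127, .fwd 3391, .fwd 43125],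
   .loop none [.bwd 43127, .bwd 273, .fwd 43125],
   .loop none [.bwd 43126, .fwd 272, .fwd 43125],
   .loop none [.bwd 43130, .fwd 3381, .fwd 43125],
   .loop none [.bwd 43139, .fwd 3275, .fwd 43126],
   .loop none [.bwd 43126, .fwd 30912, .fwd 43126],
   .loop none [.bwd 43130, .fwd 3378, .fwd 43126],
   .loop none [.bwd 43127, .bwd 3362, .fwd 43126],
   .loop none [.bwd 43140, .fwd 4444, .fwd 43127],
   .loop none [.bwd 43127, .fwd 32031, .fwd 43127],
   .loop none [.bwd 43130, .fwd 283, .fwd 43127],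
   .loop none [.bwd 43130, .bwd 274, .fwd 43127],
   .loop none [.bwd 43129, .fwd 8865, .fwd 43128],
   .loop none [.bwd 43132, .fwd 31762, .fwd 43128],
   .loop none [.bwd 43189, .fwd 8229, .fwd 43128],
   .loop none [.bwd 43189, .fwd 8230, .fwd 43128],
   .loop none [.bwd 43191, .fwd 8207, .fwd 43128],
   .loop none [.bwd 43131, .fwd 31704, .fwd 43129],
   .loop none [.bwd 43190, .fwd 8153, .fwd 43129],
   .loop none [.bwd 43190, .fwd 8154, .fwd 43129],
   .loop none [.bwd 43192, .bwd 39578, .fwd 43129],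
   .loop none [.bwd 43141, .bwd 3274, .fwd 43130],
   .loop none [.bwd 43130, .fwd 30963, .fwd 43130],
   .loop none [.bwd 43132, .bwd 5337, .fwd 43131],
   .loop none [.bwd 43197, .fwd 39473, .fwd 43131],
   .loop none [.bwd 43197, .fwd 39474, .fwd 43131],
   .loop none [.bwd 43187, .bwd 39459, .fwd 43131],
   .loop none [.bwd 43198, .fwd 32062, .fwd 43132],
   .loop none [.bwd 43198, .fwd 32063, .fwd 43132],
   .loop none [.bwd 43188, .fwd 32069, .fwd 43132],
   .loop none [.bwd 43134, .bwd 31692, .fwd 43133],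
   .loop none [.bwd 43134, .bwd 31693, .fwd 43133],
   .loop none [.bwd 43193, .bwd 5954, .fwd 43133],
   .loop none [.bwd 43199, .bwd 1472, .fwd 43133],
   .loop none [.bwd 43133, .bwd 1473, .fwd 43133],
   .loop none [.bwd 43186, .fwd 6991, .fwd 43133],
   .loop none [.bwd 43195, .bwd 39608, .fwd 43134],
   .loop none [.bwd 43201, .fwd 32606, .fwd 43134]]

theorem just176_len : just176.length = 250 := by decide +kernel

theorem just176_ok : cert.okFacts 44000 just176 = true := by decide +kernel

/-- justifications -/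
noncomputable def just177 : List Cert.Just :=
  [.loop none [.bwd 43134, .bwd 1842, .fwd 43134],
   .loop none [.bwd 43135, .fwd 29705, .fwd 43135],
   .loop none [.bwd 43135, .fwd 29322, .fwd 43135],
   .loop none [.bwd 43135, .bwd 2148, .fwd 43135],
   .loop none [.bwd 43135, .fwd 29326, .fwd 43135],
   .loop none [.bwd 43136, .fwd 30780, .fwd 43136],
   .loop none [.bwd 43210, .fwd 8507, .fwd 43136],
   .loop none [.bwd 43137, .bwd 2124, .fwd 43136],
   .loop none [.bwd 43213, .bwd 2129, .fwd 43136],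
   .loop none [.bwd 43136, .fwd 30451, .fwd 43136],
   .loop none [.bwd 43137, .fwd 30771, .fwd 43137],
   .loop none [.bwd 43211, .bwd 2113, .fwd 43137],
   .loop none [.bwd 43213, .bwd 3096, .fwd 43137],
   .loop none [.bwd 43215, .bwd 8504, .fwd 43137],
   .loop none [.bwd 43212, .fwd 8492, .fwd 43137],
   .loop none [.bwd 43137, .fwd 30456, .fwd 43137],
   .loop none [.bwd 43212, .fwd 8489, .fwd 43138],
   .loop none [.bwd 43140, .bwd 4817, .fwd 43138],
   .loop none [.bwd 43140, .bwd 2088, .fwd 43138],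
   .loop none [.bwd 43139, .fwd 2087, .fwd 43138],
   .loop none [.bwd 43141, .fwd 4421, .fwd 43138],
   .loop none [.bwd 43188, .fwd 9214, .fwd 43138],
   .loop none [.bwd 43187, .bwd 39499, .fwd 43138],
   .loop none [.bwd 43213, .fwd 4808, .fwd 43139],
   .loop none [.bwd 43141, .bwd 4827, .fwd 43139],
   .loop none [.bwd 43140, .bwd 4481, .fwd 43139],
   .loop none [.bwd 43190, .fwd 8964, .fwd 43139],
   .loop none [.bwd 43189, .bwd 8100, .fwd 43139],
   .loop none [.bwd 43214, .fwd 8498, .fwd 43140],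
   .loop none [.bwd 43141, .fwd 2099, .fwd 43140],
   .loop none [.bwd 43141, .bwd 2089, .fwd 43140],
   .loop none [.bwd 43192, .bwd 39582, .fwd 43140],
   .loop none [.bwd 43191, .bwd 8501, .fwd 43140],
   .loop none [.bwd 43215, .fwd 4804, .fwd 43141],
   .loop none [.bwd 43198, .fwd 8919, .fwd 43141],
   .loop none [.bwd 43197, .bwd 40129, .fwd 43141],
   .loop none [.bwd 43175, .bwd 5425, .fwd 43142],
   .loop none [.bwd 43157, .bwd 29184, .fwd 43142],
   .loop none [.bwd 43155, .bwd 8453, .fwd 43142],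
   .loop none [.bwd 43217, .fwd 8484, .fwd 43142],
   .loop none [.bwd 43153, .fwd 29285, .fwd 43142],
   .loop none [.bwd 43148, .fwd 29290, .fwd 43142],
   .loop none [.bwd 43176, .fwd 30194, .fwd 43143],
   .loop none [.bwd 43158, .bwd 7789, .fwd 43143],
   .loop none [.bwd 43153, .bwd 31030, .fwd 43143],
   .loop none [.bwd 43217, .bwd 31031, .fwd 43143],
   .loop none [.bwd 43219, .bwd 31034, .fwd 43143],
   .loop none [.bwd 43216, .bwd 31035, .fwd 43143],
   .loop none [.bwd 43155, .bwd 31036, .fwd 43143],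
   .loop none [.bwd 43149, .fwd 31014, .fwd 43143],
   .loop none [.bwd 43157, .fwd 31806, .fwd 43144],
   .loop none [.bwd 43210, .bwd 29337, .fwd 43144],
   .loop none [.bwd 43145, .fwd 28788, .fwd 43144],
   .loop none [.bwd 43221, .fwd 29358, .fwd 43144],
   .loop none [.bwd 43158, .bwd 29341, .fwd 43145],
   .loop none [.bwd 43211, .fwd 2178, .fwd 43145],
   .loop none [.bwd 43221, .fwd 29376, .fwd 43145],
   .loop none [.bwd 43225, .fwd 29384, .fwd 43145],
   .loop none [.bwd 43220, .fwd 29389, .fwd 43145],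
   .loop none [.bwd 43147, .bwd 29181, .fwd 43146],
   .loop none [.bwd 43147, .fwd 23, .fwd 43146],
   .loop none [.bwd 43174, .bwd 24, .fwd 43146],
   .loop none [.bwd 43223, .bwd 625, .fwd 43146],
   .loop none [.bwd 43226, .fwd 29309, .fwd 43146],
   .loop none [.bwd 43146, .bwd 592, .fwd 43146],
   .loop none [.bwd 43204, .fwd 31991, .fwd 43147],
   .loop none [.bwd 43173, .fwd 33053, .fwd 43147],
   .loop none [.bwd 43224, .bwd 552, .fwd 43147],
   .loop none [.bwd 43227, .fwd 505, .fwd 43147],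
   .loop none [.bwd 43147, .bwd 547, .fwd 43147],
   .loop none [.bwd 43153, .bwd 6629, .fwd 43148],
   .loop none [.bwd 43224, .fwd 7189, .fwd 43148],
   .loop none [.bwd 43230, .bwd 523, .fwd 43148],
   .loop none [.bwd 43155, .bwd 516, .fwd 43149],
   .loop none [.bwd 43227, .bwd 504, .fwd 43149],
   .loop none [.bwd 43233, .bwd 7168, .fwd 43149],
   .loop none [.bwd 43216, .bwd 31026, .fwd 43150],
   .loop none [.bwd 43220, .fwd 8842, .fwd 43150],
   .loop none [.bwd 43231, .bwd 31027, .fwd 43150],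
   .loop none [.bwd 43152, .bwd 2909, .fwd 43150],
   .loop none [.bwd 43151, .bwd 30153, .fwd 43150],
   .loop none [.bwd 43154, .fwd 8828, .fwd 43150],
   .loop none [.bwd 43234, .fwd 31038, .fwd 43150],
   .loop none [.bwd 43217, .bwd 31059, .fwd 43151],
   .loop none [.bwd 43221, .bwd 8600, .fwd 43151],
   .loop none [.bwd 43233, .bwd 31060, .fwd 43151],
   .loop none [.bwd 43152, .fwd 29948, .fwd 43151],
   .loop none [.bwd 43230, .bwd 30223, .fwd 43151],
   .loop none [.bwd 43218, .bwd 31039, .fwd 43152],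
   .loop none [.bwd 43222, .fwd 8844, .fwd 43152],
   .loop none [.bwd 43234, .bwd 31040, .fwd 43152],
   .loop none [.bwd 43154, .fwd 30365, .fwd 43152],
   .loop none [.bwd 43154, .bwd 2910, .fwd 43152],
   .loop none [.bwd 43231, .fwd 31041, .fwd 43152],
   .loop none [.bwd 43223, .fwd 29750, .fwd 43153],
   .loop none [.bwd 43236, .bwd 7193, .fwd 43153],
   .loop none [.bwd 43236, .bwd 7204, .fwd 43153],
   .loop none [.bwd 43237, .fwd 7191, .fwd 43153],
   .loop none [.bwd 43219, .bwd 31047, .fwd 43154],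
   .loop none [.bwd 43225, .fwd 8597, .fwd 43154],
   .loop none [.bwd 43230, .bwd 31048, .fwd 43154],
   .loop none [.bwd 43233, .fwd 31044, .fwd 43154],
   .loop none [.bwd 43226, .bwd 6903, .fwd 43155],
   .loop none [.bwd 43240, .fwd 10410, .fwd 43155],
   .loop none [.bwd 43240, .bwd 10603, .fwd 43155],
   .loop none [.bwd 43235, .fwd 7188, .fwd 43155],
   .loop none [.bwd 43174, .fwd 29891, .fwd 43156],
   .loop none [.bwd 43238, .fwd 30267, .fwd 43156],
   .loop none [.bwd 43241, .fwd 30511, .fwd 43156],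
   .loop none [.bwd 43156, .bwd 1672, .fwd 43156],
   .loop none [.bwd 43173, .bwd 30103, .fwd 43156],
   .loop none [.bwd 43174, .bwd 6300, .fwd 43156],
   .loop none [.bwd 43157, .fwd 31807, .fwd 43157],
   .loop none [.bwd 43158, .bwd 31808, .fwd 43157],
   .loop none [.bwd 43244, .bwd 29189, .fwd 43157],
   .loop none [.bwd 43224, .fwd 29761, .fwd 43157],
   .loop none [.bwd 43223, .bwd 28601, .fwd 43157],
   .loop none [.bwd 43158, .fwd 30648, .fwd 43158],
   .loop none [.bwd 43244, .fwd 31072, .fwd 43158],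
   .loop none [.bwd 43246, .fwd 40533, .fwd 43158],
   .loop none [.bwd 43243, .fwd 40542, .fwd 43158],
   .loop none [.bwd 43227, .fwd 31949, .fwd 43158],
   .loop none [.bwd 43226, .fwd 31074, .fwd 43158],
   .loop none [.bwd 43169, .fwd 40523, .fwd 43159],
   .loop none [.bwd 43229, .bwd 36117, .fwd 43159],
   .loop none [.bwd 43194, .fwd 40573, .fwd 43159],
   .loop none [.bwd 43166, .bwd 6692, .fwd 43160],
   .loop none [.bwd 43230, .fwd 7135, .fwd 43160],
   .loop none [.bwd 43189, .fwd 32155, .fwd 43160],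
   .loop none [.bwd 43250, .fwd 39982, .fwd 43160],
   .loop none [.bwd 43164, .bwd 462, .fwd 43160],
   .loop none [.bwd 43161, .bwd 6876, .fwd 43160],
   .loop none [.bwd 43167, .bwd 6822, .fwd 43161],
   .loop none [.bwd 43231, .fwd 7159, .fwd 43161],
   .loop none [.bwd 43191, .fwd 32722, .fwd 43161],
   .loop none [.bwd 43251, .fwd 478, .fwd 43161],
   .loop none [.bwd 43163, .bwd 464, .fwd 43161],
   .loop none [.bwd 43164, .fwd 463, .fwd 43161],
   .loop none [.bwd 43172, .bwd 5891, .fwd 43162],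
   .loop none [.bwd 43232, .bwd 33524, .fwd 43162],
   .loop none [.bwd 43200, .fwd 40107, .fwd 43162],
   .loop none [.bwd 43251, .fwd 6929, .fwd 43162],
   .loop none [.bwd 43247, .fwd 40008, .fwd 43162],
   .loop none [.bwd 43170, .fwd 5890, .fwd 43163],
   .loop none [.bwd 43233, .bwd 6930, .fwd 43163],
   .loop none [.bwd 43197, .fwd 39470, .fwd 43163],
   .loop none [.bwd 43247, .fwd 40004, .fwd 43163],
   .loop none [.bwd 43164, .bwd 6804, .fwd 43163],
   .loop none [.bwd 43165, .bwd 6757, .fwd 43164],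
   .loop none [.bwd 43234, .fwd 7145, .fwd 43164],
   .loop none [.bwd 43187, .fwd 38899, .fwd 43164],
   .loop none [.bwd 43256, .fwd 39369, .fwd 43164],
   .loop none [.bwd 43188, .fwd 32066, .fwd 43165],
   .loop none [.bwd 43167, .bwd 396, .fwd 43165],
   .loop none [.bwd 43166, .fwd 395, .fwd 43165],
   .loop none [.bwd 43170, .fwd 5640, .fwd 43165],
   .loop none [.bwd 43190, .fwd 32177, .fwd 43166],
   .loop none [.bwd 43167, .bwd 5626, .fwd 43166],
   .loop none [.bwd 43192, .fwd 39002, .fwd 43167],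
   .loop none [.bwd 43170, .bwd 397, .fwd 43167],
   .loop none [.bwd 43238, .bwd 31383, .fwd 43168],
   .loop none [.bwd 43261, .bwd 995, .fwd 43168],
   .loop none [.bwd 43261, .bwd 1066, .fwd 43168],
   .loop none [.bwd 43263, .bwd 7907, .fwd 43168],
   .loop none [.bwd 43265, .bwd 31385, .fwd 43168],
   .loop none [.bwd 43266, .bwd 3297, .fwd 43169],
   .loop none [.bwd 43196, .fwd 40180, .fwd 43169],
   .loop none [.bwd 43262, .bwd 6706, .fwd 43169],
   .loop none [.bwd 43264, .fwd 6638, .fwd 43169],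
   .loop none [.bwd 43253, .fwd 40409, .fwd 43169],
   .loop none [.bwd 43252, .fwd 40835, .fwd 43169],
   .loop none [.bwd 43198, .bwd 33327, .fwd 43170],
   .loop none [.bwd 43268, .bwd 5455, .fwd 43170],
   .loop none [.bwd 43241, .bwd 31142, .fwd 43171],
   .loop none [.bwd 43271, .fwd 32074, .fwd 43171],
   .loop none [.bwd 43271, .fwd 32075, .fwd 43171],
   .loop none [.bwd 43259, .fwd 32263, .fwd 43171],
   .loop none [.bwd 43272, .bwd 31328, .fwd 43171],
   .loop none [.bwd 43273, .fwd 5899, .fwd 43172],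
   .loop none [.bwd 43202, .fwd 33041, .fwd 43172],
   .loop none [.bwd 43264, .fwd 5518, .fwd 43172],
   .loop none [.bwd 43268, .bwd 6890, .fwd 43172],
   .loop none [.bwd 43260, .fwd 5901, .fwd 43172],
   .loop none [.bwd 43258, .fwd 11709, .fwd 43172],
   .loop none [.bwd 43257, .bwd 41743, .fwd 43172],
   .loop none [.bwd 43174, .bwd 29884, .fwd 43173],
   .loop none [.bwd 43207, .fwd 29, .fwd 43173],
   .loop none [.bwd 43265, .bwd 941, .fwd 43173],
   .loop none [.bwd 43272, .fwd 31004, .fwd 43173],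
   .loop none [.bwd 43173, .bwd 939, .fwd 43173],
   .loop none [.bwd 43209, .bwd 25, .fwd 43174],
   .loop none [.bwd 43267, .bwd 689, .fwd 43174],
   .loop none [.bwd 43274, .bwd 640, .fwd 43174],
   .loop none [.bwd 43174, .bwd 656, .fwd 43174],
   .loop none [.bwd 43175, .fwd 30011, .fwd 43175],
   .loop none [.bwd 43241, .fwd 30226, .fwd 43175],
   .loop none [.bwd 43278, .fwd 8463, .fwd 43175],
   .loop none [.bwd 43181, .bwd 38786, .fwd 43175],
   .loop none [.bwd 43180, .fwd 30242, .fwd 43175],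
   .loop none [.bwd 43176, .fwd 30104, .fwd 43176],
   .loop none [.bwd 43238, .fwd 30508, .fwd 43176],
   .loop none [.bwd 43278, .bwd 30105, .fwd 43176],
   .loop none [.bwd 43280, .bwd 30108, .fwd 43176],
   .loop none [.bwd 43277, .bwd 30109, .fwd 43176],
   .loop none [.bwd 43184, .fwd 30052, .fwd 43176],
   .loop none [.bwd 43183, .fwd 31289, .fwd 43176],
   .loop none [.bwd 43277, .bwd 30028, .fwd 43177],
   .loop none [.bwd 43177, .fwd 30029, .fwd 43177],
   .loop none [.bwd 43263, .bwd 7944, .fwd 43177],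
   .loop none [.bwd 43179, .bwd 1102, .fwd 43177],
   .loop none [.bwd 43178, .fwd 1101, .fwd 43177],
   .loop none [.bwd 43182, .fwd 7976, .fwd 43177],
   .loop none [.bwd 43278, .bwd 30787, .fwd 43178],
   .loop none [.bwd 43178, .fwd 30788, .fwd 43178],
   .loop none [.bwd 43271, .fwd 7953, .fwd 43178],
   .loop none [.bwd 43179, .bwd 8075, .fwd 43178],
   .loop none [.bwd 43279, .bwd 30966, .fwd 43179],
   .loop none [.bwd 43179, .fwd 30968, .fwd 43179],
   .loop none [.bwd 43259, .fwd 7922, .fwd 43179],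
   .loop none [.bwd 43182, .fwd 1191, .fwd 43179],
   .loop none [.bwd 43182, .bwd 1103, .fwd 43179],
   .loop none [.bwd 43181, .fwd 38547, .fwd 43180],
   .loop none [.bwd 43181, .fwd 38548, .fwd 43180],
   .loop none [.bwd 43272, .fwd 5903, .fwd 43180],
   .loop none [.bwd 43181, .bwd 5904, .fwd 43180],
   .loop none [.bwd 43283, .fwd 11149, .fwd 43180],
   .loop none [.bwd 43283, .fwd 11150, .fwd 43180],
   .loop none [.bwd 43285, .fwd 7354, .fwd 43180],
   .loop none [.bwd 43274, .fwd 38947, .fwd 43181],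
   .loop none [.bwd 43284, .bwd 38033, .fwd 43181],
   .loop none [.bwd 43284, .bwd 11191, .fwd 43181],
   .loop none [.bwd 43286, .fwd 8972, .fwd 43181],
   .loop none [.bwd 43280, .bwd 30942, .fwd 43182],
   .loop none [.bwd 43182, .fwd 30944, .fwd 43182],
   .loop none [.bwd 43261, .fwd 7897, .fwd 43182],
   .loop none [.bwd 43184, .bwd 31282, .fwd 43183],
   .loop none [.bwd 43184, .bwd 31186, .fwd 43183],
   .loop none [.bwd 43265, .fwd 961, .fwd 43183],
   .loop none [.bwd 43183, .fwd 38306, .fwd 43183],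
   .loop none [.bwd 43289, .bwd 31286, .fwd 43183],
   .loop none [.bwd 43289, .bwd 31287, .fwd 43183],
   .loop none [.bwd 43281, .bwd 31288, .fwd 43183],
   .loop none [.bwd 43267, .fwd 718, .fwd 43184],
   .loop none [.bwd 43184, .fwd 38346, .fwd 43184],
   .loop none [.bwd 43290, .fwd 38350, .fwd 43184],
   .loop none [.bwd 43290, .fwd 38352, .fwd 43184],
   .loop none [.bwd 43282, .bwd 10980, .fwd 43184],
   .loop none [.bwd 43205, .fwd 31987, .fwd 43185],
   .loop none [.bwd 43207, .fwd 31297, .fwd 43185],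
   .loop none [.bwd 43186, .bwd 3134, .fwd 43185]]

theorem just177_len : just177.length = 250 := by decide +kernel

theorem just177_ok : cert.okFacts 44250 just177 = true := by decide +kernel

/-- justifications -/
noncomputable def just178 : List Cert.Just :=
  [.loop none [.bwd 43287, .fwd 10125, .fwd 43185],
   .loop none [.bwd 43291, .fwd 31989, .fwd 43185],
   .loop none [.bwd 43185, .bwd 3136, .fwd 43185],
   .loop none [.bwd 43204, .fwd 31992, .fwd 43185],
   .loop none [.bwd 43205, .fwd 31984, .fwd 43186],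
   .loop none [.bwd 43293, .bwd 430, .fwd 43186],
   .loop none [.bwd 43209, .fwd 715, .fwd 43186],
   .loop none [.bwd 43288, .bwd 39428, .fwd 43186],
   .loop none [.bwd 43292, .fwd 751, .fwd 43186],
   .loop none [.bwd 43186, .bwd 756, .fwd 43186],
   .loop none [.bwd 43203, .fwd 7782, .fwd 43186],
   .loop none [.bwd 43188, .fwd 39482, .fwd 43187],
   .loop none [.bwd 43192, .bwd 3409, .fwd 43187],
   .loop none [.bwd 43191, .fwd 39498, .fwd 43187],
   .loop none [.bwd 43189, .fwd 39439, .fwd 43187],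
   .loop none [.bwd 43197, .fwd 8952, .fwd 43187],
   .loop none [.bwd 43191, .fwd 4441, .fwd 43188],
   .loop none [.bwd 43192, .bwd 39485, .fwd 43188],
   .loop none [.bwd 43190, .bwd 8165, .fwd 43188],
   .loop none [.bwd 43198, .fwd 8181, .fwd 43188],
   .loop none [.bwd 43190, .bwd 8912, .fwd 43189],
   .loop none [.bwd 43198, .bwd 3354, .fwd 43189],
   .loop none [.bwd 43191, .bwd 8246, .fwd 43189],
   .loop none [.bwd 43197, .bwd 39580, .fwd 43190],
   .loop none [.bwd 43192, .bwd 39581, .fwd 43190],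
   .loop none [.bwd 43192, .bwd 39494, .fwd 43191],
   .loop none [.bwd 43197, .bwd 39497, .fwd 43191],
   .loop none [.bwd 43198, .fwd 39576, .fwd 43192],
   .loop none [.bwd 43201, .bwd 5970, .fwd 43193],
   .loop none [.bwd 43299, .bwd 5955, .fwd 43193],
   .loop none [.bwd 43299, .bwd 5972, .fwd 43193],
   .loop none [.bwd 43303, .fwd 8968, .fwd 43193],
   .loop none [.bwd 43288, .bwd 39435, .fwd 43193],
   .loop none [.bwd 43196, .bwd 40572, .fwd 43194],
   .loop none [.bwd 43309, .fwd 33795, .fwd 43194],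
   .loop none [.bwd 43300, .bwd 11338, .fwd 43194],
   .loop none [.bwd 43304, .fwd 33420, .fwd 43194],
   .loop none [.bwd 43199, .bwd 39031, .fwd 43195],
   .loop none [.bwd 43301, .fwd 37358, .fwd 43195],
   .loop none [.bwd 43301, .bwd 9174, .fwd 43195],
   .loop none [.bwd 43305, .fwd 8882, .fwd 43195],
   .loop none [.bwd 43318, .bwd 4473, .fwd 43196],
   .loop none [.bwd 43302, .bwd 9008, .fwd 43196],
   .loop none [.bwd 43306, .fwd 9009, .fwd 43196],
   .loop none [.bwd 43315, .bwd 40184, .fwd 43196],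
   .loop none [.bwd 43314, .bwd 40185, .fwd 43196],
   .loop none [.bwd 43198, .fwd 39573, .fwd 43197],
   .loop none [.bwd 43324, .fwd 38893, .fwd 43199],
   .loop none [.bwd 43324, .fwd 38894, .fwd 43199],
   .loop none [.bwd 43295, .bwd 38884, .fwd 43199],
   .loop none [.bwd 43292, .fwd 7762, .fwd 43199],
   .loop none [.bwd 43202, .fwd 40403, .fwd 43200],
   .loop none [.bwd 43330, .fwd 3305, .fwd 43200],
   .loop none [.bwd 43325, .bwd 9181, .fwd 43200],
   .loop none [.bwd 43296, .fwd 8889, .fwd 43200],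
   .loop none [.bwd 43326, .fwd 8206, .fwd 43201],
   .loop none [.bwd 43326, .bwd 8920, .fwd 43201],
   .loop none [.bwd 43297, .fwd 33334, .fwd 43201],
   .loop none [.bwd 43339, .fwd 33814, .fwd 43202],
   .loop none [.bwd 43327, .bwd 8918, .fwd 43202],
   .loop none [.bwd 43298, .fwd 8208, .fwd 43202],
   .loop none [.bwd 43336, .fwd 9499, .fwd 43202],
   .loop none [.bwd 43335, .fwd 33311, .fwd 43202],
   .loop none [.bwd 43206, .fwd 7027, .fwd 43203],
   .loop none [.bwd 43294, .fwd 7004, .fwd 43203],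
   .loop none [.bwd 43206, .bwd 780, .fwd 43203],
   .loop none [.bwd 43206, .fwd 7028, .fwd 43203],
   .loop none [.bwd 43307, .fwd 33631, .fwd 43203],
   .loop none [.bwd 43328, .fwd 5969, .fwd 43203],
   .loop none [.bwd 43203, .bwd 5974, .fwd 43203],
   .loop none [.bwd 43205, .fwd 31986, .fwd 43203],
   .loop none [.bwd 43294, .fwd 4702, .fwd 43204],
   .loop none [.bwd 43228, .fwd 27, .fwd 43204],
   .loop none [.bwd 43207, .bwd 28, .fwd 43204],
   .loop none [.bwd 43308, .bwd 834, .fwd 43204],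
   .loop none [.bwd 43329, .fwd 33181, .fwd 43204],
   .loop none [.bwd 43204, .bwd 802, .fwd 43204],
   .loop none [.bwd 43293, .bwd 897, .fwd 43204],
   .loop none [.bwd 43293, .bwd 7014, .fwd 43205],
   .loop none [.bwd 43208, .fwd 435, .fwd 43205],
   .loop none [.bwd 43293, .bwd 31988, .fwd 43205],
   .loop none [.bwd 43310, .bwd 10063, .fwd 43205],
   .loop none [.bwd 43331, .fwd 38601, .fwd 43205],
   .loop none [.bwd 43205, .bwd 7023, .fwd 43205],
   .loop none [.bwd 43316, .fwd 42115, .fwd 43206],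
   .loop none [.bwd 43337, .fwd 33290, .fwd 43206],
   .loop none [.bwd 43206, .bwd 7053, .fwd 43206],
   .loop none [.bwd 43209, .fwd 759, .fwd 43206],
   .loop none [.bwd 43208, .bwd 32008, .fwd 43206],
   .loop none [.bwd 43345, .fwd 4694, .fwd 43207],
   .loop none [.bwd 43317, .bwd 901, .fwd 43207],
   .loop none [.bwd 43338, .bwd 849, .fwd 43207],
   .loop none [.bwd 43207, .bwd 865, .fwd 43207],
   .loop none [.bwd 43228, .fwd 4654, .fwd 43207],
   .loop none [.bwd 43209, .bwd 32007, .fwd 43208],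
   .loop none [.bwd 43345, .bwd 7019, .fwd 43208],
   .loop none [.bwd 43346, .fwd 434, .fwd 43208],
   .loop none [.bwd 43346, .fwd 7035, .fwd 43208],
   .loop none [.bwd 43319, .fwd 38991, .fwd 43208],
   .loop none [.bwd 43340, .fwd 32823, .fwd 43208],
   .loop none [.bwd 43208, .bwd 7057, .fwd 43208],
   .loop none [.bwd 43228, .bwd 26, .fwd 43209],
   .loop none [.bwd 43228, .fwd 32010, .fwd 43209],
   .loop none [.bwd 43320, .bwd 730, .fwd 43209],
   .loop none [.bwd 43341, .fwd 721, .fwd 43209],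
   .loop none [.bwd 43209, .bwd 728, .fwd 43209],
   .loop none [.bwd 43210, .fwd 29687, .fwd 43210],
   .loop none [.bwd 43211, .fwd 30345, .fwd 43210],
   .loop none [.bwd 43348, .bwd 2203, .fwd 43210],
   .loop none [.bwd 43210, .bwd 29700, .fwd 43210],
   .loop none [.bwd 43211, .fwd 30778, .fwd 43211],
   .loop none [.bwd 43348, .bwd 3086, .fwd 43211],
   .loop none [.bwd 43350, .bwd 8523, .fwd 43211],
   .loop none [.bwd 43347, .fwd 8527, .fwd 43211],
   .loop none [.bwd 43211, .fwd 30346, .fwd 43211],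
   .loop none [.bwd 43212, .fwd 31680, .fwd 43212],
   .loop none [.bwd 43347, .fwd 8511, .fwd 43212],
   .loop none [.bwd 43214, .fwd 8499, .fwd 43212],
   .loop none [.bwd 43214, .bwd 2110, .fwd 43212],
   .loop none [.bwd 43213, .fwd 2109, .fwd 43212],
   .loop none [.bwd 43215, .fwd 8494, .fwd 43212],
   .loop none [.bwd 43212, .fwd 31696, .fwd 43212],
   .loop none [.bwd 43213, .fwd 31700, .fwd 43213],
   .loop none [.bwd 43348, .fwd 8506, .fwd 43213],
   .loop none [.bwd 43215, .bwd 8099, .fwd 43213],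
   .loop none [.bwd 43214, .bwd 8502, .fwd 43213],
   .loop none [.bwd 43213, .fwd 31679, .fwd 43213],
   .loop none [.bwd 43214, .fwd 32099, .fwd 43214],
   .loop none [.bwd 43349, .fwd 8517, .fwd 43214],
   .loop none [.bwd 43215, .fwd 2115, .fwd 43214],
   .loop none [.bwd 43215, .bwd 2111, .fwd 43214],
   .loop none [.bwd 43214, .fwd 31694, .fwd 43214],
   .loop none [.bwd 43215, .fwd 31697, .fwd 43215],
   .loop none [.bwd 43350, .bwd 8505, .fwd 43215],
   .loop none [.bwd 43215, .fwd 31695, .fwd 43215],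
   .loop none [.bwd 43277, .bwd 5550, .fwd 43216],
   .loop none [.bwd 43243, .fwd 40537, .fwd 43216],
   .loop none [.bwd 43237, .bwd 9042, .fwd 43216],
   .loop none [.bwd 43218, .fwd 9035, .fwd 43216],
   .loop none [.bwd 43217, .bwd 9026, .fwd 43216],
   .loop none [.bwd 43219, .fwd 9029, .fwd 43216],
   .loop none [.bwd 43235, .fwd 30253, .fwd 43216],
   .loop none [.bwd 43234, .fwd 30332, .fwd 43216],
   .loop none [.bwd 43278, .bwd 5507, .fwd 43217],
   .loop none [.bwd 43244, .bwd 29762, .fwd 43217],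
   .loop none [.bwd 43240, .bwd 11223, .fwd 43217],
   .loop none [.bwd 43218, .bwd 9037, .fwd 43217],
   .loop none [.bwd 43236, .fwd 30256, .fwd 43217],
   .loop none [.bwd 43230, .fwd 30213, .fwd 43217],
   .loop none [.bwd 43279, .bwd 5607, .fwd 43218],
   .loop none [.bwd 43245, .fwd 39345, .fwd 43218],
   .loop none [.bwd 43235, .bwd 9430, .fwd 43218],
   .loop none [.bwd 43219, .bwd 9033, .fwd 43218],
   .loop none [.bwd 43219, .bwd 9034, .fwd 43218],
   .loop none [.bwd 43237, .fwd 30261, .fwd 43218],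
   .loop none [.bwd 43231, .fwd 30264, .fwd 43218],
   .loop none [.bwd 43280, .bwd 5672, .fwd 43219],
   .loop none [.bwd 43246, .fwd 40529, .fwd 43219],
   .loop none [.bwd 43236, .bwd 9496, .fwd 43219],
   .loop none [.bwd 43240, .bwd 30257, .fwd 43219],
   .loop none [.bwd 43233, .bwd 30258, .fwd 43219],
   .loop none [.bwd 43243, .fwd 40536, .fwd 43220],
   .loop none [.bwd 43347, .fwd 30362, .fwd 43220],
   .loop none [.bwd 43222, .fwd 30354, .fwd 43220],
   .loop none [.bwd 43222, .bwd 2961, .fwd 43220],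
   .loop none [.bwd 43221, .bwd 29487, .fwd 43220],
   .loop none [.bwd 43225, .fwd 8577, .fwd 43220],
   .loop none [.bwd 43244, .bwd 31698, .fwd 43221],
   .loop none [.bwd 43348, .fwd 30347, .fwd 43221],
   .loop none [.bwd 43225, .fwd 30357, .fwd 43221],
   .loop none [.bwd 43222, .fwd 29371, .fwd 43221],
   .loop none [.bwd 43245, .fwd 39344, .fwd 43222],
   .loop none [.bwd 43349, .fwd 30361, .fwd 43222],
   .loop none [.bwd 43225, .fwd 30358, .fwd 43222],
   .loop none [.bwd 43225, .bwd 2962, .fwd 43222],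
   .loop none [.bwd 43224, .fwd 29753, .fwd 43223],
   .loop none [.bwd 43227, .bwd 649, .fwd 43223],
   .loop none [.bwd 43353, .bwd 626, .fwd 43223],
   .loop none [.bwd 43353, .bwd 655, .fwd 43223],
   .loop none [.bwd 43355, .bwd 7573, .fwd 43223],
   .loop none [.bwd 43308, .fwd 32151, .fwd 43224],
   .loop none [.bwd 43226, .bwd 29756, .fwd 43224],
   .loop none [.bwd 43354, .bwd 553, .fwd 43224],
   .loop none [.bwd 43354, .bwd 591, .fwd 43224],
   .loop none [.bwd 43356, .bwd 7297, .fwd 43224],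
   .loop none [.bwd 43246, .fwd 40528, .fwd 43225],
   .loop none [.bwd 43350, .fwd 30398, .fwd 43225],
   .loop none [.bwd 43227, .fwd 573, .fwd 43226],
   .loop none [.bwd 43360, .fwd 30287, .fwd 43226],
   .loop none [.bwd 43360, .fwd 30288, .fwd 43226],
   .loop none [.bwd 43351, .fwd 30299, .fwd 43226],
   .loop none [.bwd 43329, .bwd 580, .fwd 43227],
   .loop none [.bwd 43361, .fwd 557, .fwd 43227],
   .loop none [.bwd 43361, .bwd 7225, .fwd 43227],
   .loop none [.bwd 43352, .fwd 7229, .fwd 43227],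
   .loop none [.bwd 43346, .fwd 30672, .fwd 43228],
   .loop none [.bwd 43357, .bwd 762, .fwd 43228],
   .loop none [.bwd 43362, .bwd 32011, .fwd 43228],
   .loop none [.bwd 43228, .bwd 758, .fwd 43228],
   .loop none [.bwd 43345, .fwd 7056, .fwd 43228],
   .loop none [.bwd 43239, .bwd 40516, .fwd 43229],
   .loop none [.bwd 43359, .fwd 3447, .fwd 43229],
   .loop none [.bwd 43236, .bwd 7134, .fwd 43230],
   .loop none [.bwd 43354, .fwd 7192, .fwd 43230],
   .loop none [.bwd 43368, .fwd 40010, .fwd 43230],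
   .loop none [.bwd 43234, .bwd 500, .fwd 43230],
   .loop none [.bwd 43231, .bwd 7164, .fwd 43230],
   .loop none [.bwd 43237, .bwd 7158, .fwd 43231],
   .loop none [.bwd 43356, .fwd 7219, .fwd 43231],
   .loop none [.bwd 43369, .fwd 509, .fwd 43231],
   .loop none [.bwd 43233, .bwd 502, .fwd 43231],
   .loop none [.bwd 43234, .fwd 501, .fwd 43231],
   .loop none [.bwd 43242, .fwd 30530, .fwd 43232],
   .loop none [.bwd 43364, .bwd 7820, .fwd 43232],
   .loop none [.bwd 43369, .bwd 32305, .fwd 43232],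
   .loop none [.bwd 43365, .fwd 39998, .fwd 43232],
   .loop none [.bwd 43240, .bwd 9682, .fwd 43233],
   .loop none [.bwd 43361, .bwd 7184, .fwd 43233],
   .loop none [.bwd 43365, .fwd 39993, .fwd 43233],
   .loop none [.bwd 43234, .bwd 7149, .fwd 43233],
   .loop none [.bwd 43235, .bwd 7144, .fwd 43234],
   .loop none [.bwd 43352, .fwd 7208, .fwd 43234],
   .loop none [.bwd 43374, .fwd 39355, .fwd 43234],
   .loop none [.bwd 43351, .fwd 30296, .fwd 43235],
   .loop none [.bwd 43237, .bwd 7220, .fwd 43235],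
   .loop none [.bwd 43236, .fwd 7209, .fwd 43235],
   .loop none [.bwd 43240, .fwd 10534, .fwd 43235],
   .loop none [.bwd 43353, .fwd 30820, .fwd 43236],
   .loop none [.bwd 43237, .bwd 7224, .fwd 43236],
   .loop none [.bwd 43355, .fwd 30825, .fwd 43237],
   .loop none [.bwd 43240, .fwd 10411, .fwd 43237],
   .loop none [.bwd 43267, .fwd 30985, .fwd 43238],
   .loop none [.bwd 43379, .fwd 30975, .fwd 43238],
   .loop none [.bwd 43379, .fwd 30976, .fwd 43238],
   .loop none [.bwd 43381, .fwd 31128, .fwd 43238],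
   .loop none [.bwd 43265, .fwd 7857, .fwd 43238],
   .loop none [.bwd 43267, .fwd 30694, .fwd 43238],
   .loop none [.bwd 43383, .bwd 39951, .fwd 43239],
   .loop none [.bwd 43358, .fwd 10922, .fwd 43239],
   .loop none [.bwd 43380, .fwd 39958, .fwd 43239],
   .loop none [.bwd 43382, .fwd 31445, .fwd 43239],
   .loop none [.bwd 43371, .fwd 33930, .fwd 43239],
   .loop none [.bwd 43370, .fwd 40571, .fwd 43239],
   .loop none [.bwd 43360, .fwd 30284, .fwd 43240],
   .loop none [.bwd 43384, .fwd 39962, .fwd 43240],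
   .loop none [.bwd 43274, .fwd 702, .fwd 43241],
   .loop none [.bwd 43387, .fwd 31225, .fwd 43241],
   .loop none [.bwd 43387, .fwd 31226, .fwd 43241],
   .loop none [.bwd 43377, .fwd 31232, .fwd 43241],
   .loop none [.bwd 43272, .fwd 30670, .fwd 43241]]

theorem just178_len : just178.length = 250 := by decide +kernel

theorem just178_ok : cert.okFacts 44500 just178 = true := by decide +kernel

/-- justifications -/
noncomputable def just179 : List Cert.Just :=
  [.loop none [.bwd 43274, .fwd 31008, .fwd 43241],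
   .loop none [.bwd 43388, .bwd 31642, .fwd 43242],
   .loop none [.bwd 43363, .fwd 31780, .fwd 43242],
   .loop none [.bwd 43382, .fwd 31783, .fwd 43242],
   .loop none [.bwd 43384, .fwd 39963, .fwd 43242],
   .loop none [.bwd 43378, .fwd 39972, .fwd 43242],
   .loop none [.bwd 43376, .fwd 32345, .fwd 43242],
   .loop none [.bwd 43375, .fwd 42100, .fwd 43242],
   .loop none [.bwd 43243, .fwd 35608, .fwd 43243],
   .loop none [.bwd 43245, .bwd 40538, .fwd 43243],
   .loop none [.bwd 43245, .bwd 40540, .fwd 43243],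
   .loop none [.bwd 43244, .bwd 40541, .fwd 43243],
   .loop none [.bwd 43246, .fwd 11951, .fwd 43243],
   .loop none [.bwd 43352, .bwd 40543, .fwd 43243],
   .loop none [.bwd 43351, .bwd 40544, .fwd 43243],
   .loop none [.bwd 43244, .fwd 31071, .fwd 43244],
   .loop none [.bwd 43246, .fwd 40530, .fwd 43244],
   .loop none [.bwd 43245, .bwd 39351, .fwd 43244],
   .loop none [.bwd 43354, .fwd 30824, .fwd 43244],
   .loop none [.bwd 43353, .bwd 29186, .fwd 43244],
   .loop none [.bwd 43245, .fwd 35602, .fwd 43245],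
   .loop none [.bwd 43246, .fwd 9777, .fwd 43245],
   .loop none [.bwd 43246, .fwd 40532, .fwd 43245],
   .loop none [.bwd 43356, .bwd 39346, .fwd 43245],
   .loop none [.bwd 43355, .bwd 39347, .fwd 43245],
   .loop none [.bwd 43246, .fwd 36122, .fwd 43246],
   .loop none [.bwd 43361, .bwd 40534, .fwd 43246],
   .loop none [.bwd 43360, .bwd 40535, .fwd 43246],
   .loop none [.bwd 43268, .bwd 40003, .fwd 43247],
   .loop none [.bwd 43365, .fwd 36125, .fwd 43247],
   .loop none [.bwd 43325, .fwd 4507, .fwd 43247],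
   .loop none [.bwd 43256, .bwd 9183, .fwd 43247],
   .loop none [.bwd 43269, .bwd 40852, .fwd 43248],
   .loop none [.bwd 43366, .bwd 40853, .fwd 43248],
   .loop none [.bwd 43312, .fwd 14441, .fwd 43248],
   .loop none [.bwd 43392, .bwd 34930, .fwd 43248],
   .loop none [.bwd 43270, .fwd 40351, .fwd 43249],
   .loop none [.bwd 43367, .fwd 35327, .fwd 43249],
   .loop none [.bwd 43313, .fwd 40360, .fwd 43249],
   .loop none [.bwd 43391, .fwd 5683, .fwd 43249],
   .loop none [.bwd 43270, .bwd 5684, .fwd 43249],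
   .loop none [.bwd 43275, .bwd 34379, .fwd 43249],
   .loop none [.bwd 43262, .bwd 39981, .fwd 43250],
   .loop none [.bwd 43368, .bwd 36065, .fwd 43250],
   .loop none [.bwd 43300, .fwd 40081, .fwd 43250],
   .loop none [.bwd 43256, .fwd 4405, .fwd 43250],
   .loop none [.bwd 43260, .fwd 40545, .fwd 43250],
   .loop none [.bwd 43251, .bwd 39987, .fwd 43250],
   .loop none [.bwd 43264, .bwd 6828, .fwd 43251],
   .loop none [.bwd 43369, .fwd 7162, .fwd 43251],
   .loop none [.bwd 43304, .fwd 33417, .fwd 43251],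
   .loop none [.bwd 43276, .fwd 477, .fwd 43251],
   .loop none [.bwd 43253, .fwd 37011, .fwd 43252],
   .loop none [.bwd 43315, .bwd 40832, .fwd 43252],
   .loop none [.bwd 43394, .fwd 9747, .fwd 43252],
   .loop none [.bwd 43399, .bwd 42596, .fwd 43252],
   .loop none [.bwd 43403, .fwd 42706, .fwd 43252],
   .loop none [.bwd 43406, .bwd 40833, .fwd 43252],
   .loop none [.bwd 43409, .bwd 40834, .fwd 43252],
   .loop none [.bwd 43314, .fwd 40648, .fwd 43253],
   .loop none [.bwd 43393, .bwd 41821, .fwd 43253],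
   .loop none [.bwd 43400, .bwd 41822, .fwd 43253],
   .loop none [.bwd 43404, .bwd 41823, .fwd 43253],
   .loop none [.bwd 43407, .fwd 40422, .fwd 43253],
   .loop none [.bwd 43410, .bwd 40408, .fwd 43253],
   .loop none [.bwd 43275, .bwd 40395, .fwd 43254],
   .loop none [.bwd 43372, .bwd 4575, .fwd 43254],
   .loop none [.bwd 43333, .fwd 40633, .fwd 43254],
   .loop none [.bwd 43408, .bwd 41690, .fwd 43254],
   .loop none [.bwd 43275, .fwd 4574, .fwd 43254],
   .loop none [.bwd 43270, .fwd 35330, .fwd 43254],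
   .loop none [.bwd 43276, .bwd 6940, .fwd 43255],
   .loop none [.bwd 43373, .bwd 33012, .fwd 43255],
   .loop none [.bwd 43334, .fwd 34196, .fwd 43255],
   .loop none [.bwd 43276, .fwd 6942, .fwd 43255],
   .loop none [.bwd 43264, .bwd 411, .fwd 43255],
   .loop none [.bwd 43260, .fwd 39814, .fwd 43256],
   .loop none [.bwd 43374, .fwd 36182, .fwd 43256],
   .loop none [.bwd 43296, .fwd 4404, .fwd 43256],
   .loop none [.bwd 43262, .fwd 40037, .fwd 43256],
   .loop none [.bwd 43414, .fwd 37051, .fwd 43256],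
   .loop none [.bwd 43412, .fwd 40581, .fwd 43256],
   .loop none [.bwd 43258, .fwd 41716, .fwd 43257],
   .loop none [.bwd 43336, .fwd 41720, .fwd 43257],
   .loop none [.bwd 43410, .fwd 41727, .fwd 43257],
   .loop none [.bwd 43407, .fwd 41732, .fwd 43257],
   .loop none [.bwd 43417, .fwd 917, .fwd 43257],
   .loop none [.bwd 43422, .bwd 918, .fwd 43257],
   .loop none [.bwd 43393, .fwd 39611, .fwd 43257],
   .loop none [.bwd 43414, .fwd 41530, .fwd 43257],
   .loop none [.bwd 43335, .fwd 34203, .fwd 43258],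
   .loop none [.bwd 43409, .bwd 10325, .fwd 43258],
   .loop none [.bwd 43406, .fwd 14483, .fwd 43258],
   .loop none [.bwd 43418, .bwd 41719, .fwd 43258],
   .loop none [.bwd 43423, .fwd 41867, .fwd 43258],
   .loop none [.bwd 43394, .fwd 40429, .fwd 43258],
   .loop none [.bwd 43412, .fwd 40580, .fwd 43258],
   .loop none [.bwd 43377, .fwd 31774, .fwd 43259],
   .loop none [.bwd 43263, .bwd 997, .fwd 43259],
   .loop none [.bwd 43261, .fwd 996, .fwd 43259],
   .loop none [.bwd 43271, .fwd 7861, .fwd 43259],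
   .loop none [.bwd 43427, .bwd 32264, .fwd 43259],
   .loop none [.bwd 43428, .bwd 4457, .fwd 43260],
   .loop none [.bwd 43298, .fwd 33337, .fwd 43260],
   .loop none [.bwd 43262, .bwd 5627, .fwd 43260],
   .loop none [.bwd 43397, .fwd 5889, .fwd 43260],
   .loop none [.bwd 43268, .fwd 6772, .fwd 43260],
   .loop none [.bwd 43412, .fwd 40582, .fwd 43260],
   .loop none [.bwd 43414, .fwd 40044, .fwd 43260],
   .loop none [.bwd 43379, .fwd 30947, .fwd 43261],
   .loop none [.bwd 43263, .bwd 7864, .fwd 43261],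
   .loop none [.bwd 43430, .fwd 32246, .fwd 43261],
   .loop none [.bwd 43431, .bwd 4498, .fwd 43262],
   .loop none [.bwd 43302, .fwd 40187, .fwd 43262],
   .loop none [.bwd 43264, .bwd 6840, .fwd 43262],
   .loop none [.bwd 43407, .fwd 35260, .fwd 43262],
   .loop none [.bwd 43406, .bwd 18005, .fwd 43262],
   .loop none [.bwd 43381, .fwd 30877, .fwd 43263],
   .loop none [.bwd 43271, .bwd 998, .fwd 43263],
   .loop none [.bwd 43434, .fwd 32186, .fwd 43263],
   .loop none [.bwd 43435, .bwd 33295, .fwd 43264],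
   .loop none [.bwd 43306, .fwd 39558, .fwd 43264],
   .loop none [.bwd 43410, .fwd 11700, .fwd 43264],
   .loop none [.bwd 43409, .bwd 9908, .fwd 43264],
   .loop none [.bwd 43267, .bwd 30800, .fwd 43265],
   .loop none [.bwd 43317, .fwd 7828, .fwd 43265],
   .loop none [.bwd 43430, .bwd 942, .fwd 43265],
   .loop none [.bwd 43430, .bwd 966, .fwd 43265],
   .loop none [.bwd 43434, .fwd 7856, .fwd 43265],
   .loop none [.bwd 43383, .bwd 39953, .fwd 43266],
   .loop none [.bwd 43438, .bwd 3298, .fwd 43266],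
   .loop none [.bwd 43431, .bwd 8435, .fwd 43266],
   .loop none [.bwd 43435, .bwd 32470, .fwd 43266],
   .loop none [.bwd 43439, .fwd 39833, .fwd 43266],
   .loop none [.bwd 43320, .bwd 7719, .fwd 43267],
   .loop none [.bwd 43432, .bwd 690, .fwd 43267],
   .loop none [.bwd 43432, .bwd 722, .fwd 43267],
   .loop none [.bwd 43436, .fwd 7722, .fwd 43267],
   .loop none [.bwd 43439, .bwd 3395, .fwd 43268],
   .loop none [.bwd 43327, .fwd 33328, .fwd 43268],
   .loop none [.bwd 43401, .fwd 6623, .fwd 43268],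
   .loop none [.bwd 43394, .fwd 40430, .fwd 43268],
   .loop none [.bwd 43393, .fwd 41740, .fwd 43268],
   .loop none [.bwd 43440, .bwd 11584, .fwd 43269],
   .loop none [.bwd 43322, .fwd 42616, .fwd 43269],
   .loop none [.bwd 43444, .bwd 11181, .fwd 43269],
   .loop none [.bwd 43420, .fwd 41971, .fwd 43269],
   .loop none [.bwd 43424, .bwd 11290, .fwd 43269],
   .loop none [.bwd 43415, .fwd 11498, .fwd 43269],
   .loop none [.bwd 43400, .fwd 42774, .fwd 43269],
   .loop none [.bwd 43399, .bwd 42883, .fwd 43269],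
   .loop none [.bwd 43441, .bwd 5685, .fwd 43270],
   .loop none [.bwd 43323, .fwd 40769, .fwd 43270],
   .loop none [.bwd 43401, .bwd 41777, .fwd 43270],
   .loop none [.bwd 43391, .bwd 41779, .fwd 43270],
   .loop none [.bwd 43416, .bwd 9504, .fwd 43270],
   .loop none [.bwd 43404, .fwd 42947, .fwd 43270],
   .loop none [.bwd 43403, .bwd 42789, .fwd 43270],
   .loop none [.bwd 43387, .bwd 32070, .fwd 43271],
   .loop none [.bwd 43439, .fwd 33342, .fwd 43271],
   .loop none [.bwd 43446, .bwd 32076, .fwd 43271],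
   .loop none [.bwd 43274, .fwd 30993, .fwd 43272],
   .loop none [.bwd 43338, .fwd 32001, .fwd 43272],
   .loop none [.bwd 43446, .fwd 31557, .fwd 43272],
   .loop none [.bwd 43446, .fwd 31558, .fwd 43272],
   .loop none [.bwd 43427, .fwd 32222, .fwd 43272],
   .loop none [.bwd 43388, .fwd 9924, .fwd 43273],
   .loop none [.bwd 43448, .fwd 6955, .fwd 43273],
   .loop none [.bwd 43435, .bwd 32610, .fwd 43273],
   .loop none [.bwd 43439, .bwd 8442, .fwd 43273],
   .loop none [.bwd 43428, .fwd 6952, .fwd 43273],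
   .loop none [.bwd 43435, .bwd 39197, .fwd 43273],
   .loop none [.bwd 43341, .bwd 720, .fwd 43274],
   .loop none [.bwd 43447, .fwd 694, .fwd 43274],
   .loop none [.bwd 43447, .fwd 7728, .fwd 43274],
   .loop none [.bwd 43429, .fwd 7726, .fwd 43274],
   .loop none [.bwd 43449, .bwd 9280, .fwd 43275],
   .loop none [.bwd 43343, .bwd 40635, .fwd 43275],
   .loop none [.bwd 43437, .fwd 4573, .fwd 43275],
   .loop none [.bwd 43398, .bwd 41692, .fwd 43275],
   .loop none [.bwd 43402, .fwd 34065, .fwd 43275],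
   .loop none [.bwd 43418, .bwd 33957, .fwd 43275],
   .loop none [.bwd 43417, .bwd 33958, .fwd 43275],
   .loop none [.bwd 43450, .bwd 7180, .fwd 43276],
   .loop none [.bwd 43344, .fwd 34286, .fwd 43276],
   .loop none [.bwd 43396, .fwd 11438, .fwd 43276],
   .loop none [.bwd 43423, .fwd 41869, .fwd 43276],
   .loop none [.bwd 43422, .fwd 41734, .fwd 43276],
   .loop none [.bwd 43277, .fwd 29794, .fwd 43277],
   .loop none [.bwd 43381, .fwd 31127, .fwd 43277],
   .loop none [.bwd 43279, .fwd 8473, .fwd 43277],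
   .loop none [.bwd 43278, .bwd 8467, .fwd 43277],
   .loop none [.bwd 43280, .fwd 8468, .fwd 43277],
   .loop none [.bwd 43282, .fwd 30887, .fwd 43277],
   .loop none [.bwd 43281, .fwd 30892, .fwd 43277],
   .loop none [.bwd 43278, .fwd 29819, .fwd 43278],
   .loop none [.bwd 43387, .fwd 30335, .fwd 43278],
   .loop none [.bwd 43279, .bwd 8474, .fwd 43278],
   .loop none [.bwd 43284, .bwd 38487, .fwd 43278],
   .loop none [.bwd 43283, .fwd 30911, .fwd 43278],
   .loop none [.bwd 43279, .fwd 30884, .fwd 43279],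
   .loop none [.bwd 43377, .fwd 31375, .fwd 43279],
   .loop none [.bwd 43280, .bwd 8471, .fwd 43279],
   .loop none [.bwd 43280, .bwd 8472, .fwd 43279],
   .loop none [.bwd 43286, .bwd 38782, .fwd 43279],
   .loop none [.bwd 43285, .fwd 31403, .fwd 43279],
   .loop none [.bwd 43280, .fwd 29847, .fwd 43280],
   .loop none [.bwd 43379, .fwd 30972, .fwd 43280],
   .loop none [.bwd 43290, .bwd 38478, .fwd 43280],
   .loop none [.bwd 43289, .fwd 30958, .fwd 43280],
   .loop none [.bwd 43282, .bwd 31129, .fwd 43281],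
   .loop none [.bwd 43282, .bwd 31346, .fwd 43281],
   .loop none [.bwd 43434, .fwd 32185, .fwd 43281],
   .loop none [.bwd 43281, .fwd 38245, .fwd 43281],
   .loop none [.bwd 43285, .bwd 8408, .fwd 43281],
   .loop none [.bwd 43283, .fwd 11148, .fwd 43281],
   .loop none [.bwd 43289, .fwd 8411, .fwd 43281],
   .loop none [.bwd 43436, .fwd 10975, .fwd 43282],
   .loop none [.bwd 43282, .fwd 38260, .fwd 43282],
   .loop none [.bwd 43286, .fwd 38554, .fwd 43282],
   .loop none [.bwd 43284, .fwd 38341, .fwd 43282],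
   .loop none [.bwd 43290, .fwd 38351, .fwd 43282],
   .loop none [.bwd 43284, .fwd 38339, .fwd 43283],
   .loop none [.bwd 43284, .fwd 38340, .fwd 43283],
   .loop none [.bwd 43446, .fwd 31556, .fwd 43283],
   .loop none [.bwd 43284, .bwd 9689, .fwd 43283],
   .loop none [.bwd 43285, .bwd 11145, .fwd 43283],
   .loop none [.bwd 43447, .fwd 38539, .fwd 43284],
   .loop none [.bwd 43286, .bwd 11285, .fwd 43284],
   .loop none [.bwd 43286, .fwd 38552, .fwd 43285],
   .loop none [.bwd 43286, .fwd 38553, .fwd 43285],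
   .loop none [.bwd 43427, .fwd 32221, .fwd 43285],
   .loop none [.bwd 43286, .bwd 6775, .fwd 43285],
   .loop none [.bwd 43289, .bwd 8405, .fwd 43285],
   .loop none [.bwd 43429, .fwd 38948, .fwd 43286],
   .loop none [.bwd 43290, .fwd 9955, .fwd 43286],
   .loop none [.bwd 43310, .fwd 32669, .fwd 43287],
   .loop none [.bwd 43338, .fwd 32002, .fwd 43287],
   .loop none [.bwd 43288, .fwd 11108, .fwd 43287],
   .loop none [.bwd 43457, .bwd 10124, .fwd 43287],
   .loop none [.bwd 43457, .bwd 10126, .fwd 43287],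
   .loop none [.bwd 43459, .bwd 38662, .fwd 43287],
   .loop none [.bwd 43308, .fwd 32153, .fwd 43287],
   .loop none [.bwd 43310, .fwd 38999, .fwd 43288],
   .loop none [.bwd 43461, .bwd 5906, .fwd 43288],
   .loop none [.bwd 43341, .fwd 39404, .fwd 43288],
   .loop none [.bwd 43458, .bwd 38031, .fwd 43288],
   .loop none [.bwd 43458, .bwd 11194, .fwd 43288],
   .loop none [.bwd 43460, .fwd 9542, .fwd 43288],
   .loop none [.bwd 43307, .fwd 39432, .fwd 43288]]

theorem just179_len : just179.length = 250 := by decide +kernel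

theorem just179_ok : cert.okFacts 44750 just179 = true := by decide +kernel


end CfsgLib.ThCent.DX
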