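import Cfsg.Agent.Lib.ThCent.DXData

/-!
Justifications of the side facts (generated data).
-/

namespace CfsgLib.ThCent.DX

open CfsgLib.PresCert

set_option maxRecDepth 100000

/-- justifications -/
noncomputable def just180 : List Cert.Just :=
  [.loop none [.bwd 43290, .fwd 38347, .fwd 43289],
   .loop none [.bwd 43290, .fwd 38348, .fwd 43289],
   .loop none [.bwd 43430, .fwd 32245, .fwd 43289],
   .loop none [.bwd 43289, .fwd 38311, .fwd 43289],
   .loop none [.bwd 43432, .fwd 38546, .fwd 43290],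
   .loop none [.bwd 43290, .fwd 38349, .fwd 43290],
   .loop none [.bwd 43331, .fwd 38599, .fwd 43291],
   .loop none [.bwd 43317, .fwd 930, .fwd 43291],
   .loop none [.bwd 43291, .fwd 38405, .fwd 43291],
   .loop none [.bwd 43463, .fwd 38413, .fwd 43291],
   .loop none [.bwd 43463, .fwd 38414, .fwd 43291],
   .loop none [.bwd 43455, .bwd 38406, .fwd 43291],
   .loop none [.bwd 43329, .fwd 33185, .fwd 43291],
   .loop none [.bwd 43331, .fwd 38597, .fwd 43292],
   .loop none [.bwd 43465, .bwd 9978, .fwd 43292],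
   .loop none [.bwd 43320, .fwd 750, .fwd 43292],
   .loop none [.bwd 43292, .fwd 38511, .fwd 43292],
   .loop none [.bwd 43464, .fwd 9977, .fwd 43292],
   .loop none [.bwd 43464, .bwd 10983, .fwd 43292],
   .loop none [.bwd 43456, .bwd 10994, .fwd 43292],
   .loop none [.bwd 43328, .fwd 18198, .fwd 43292],
   .loop none [.bwd 43345, .bwd 431, .fwd 43293],
   .loop none [.bwd 43461, .fwd 38973, .fwd 43293],
   .loop none [.bwd 43465, .fwd 9979, .fwd 43293],
   .loop none [.bwd 43293, .bwd 6988, .fwd 43293],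
   .loop none [.bwd 43294, .bwd 7022, .fwd 43293],
   .loop none [.bwd 43346, .bwd 433, .fwd 43294],
   .loop none [.bwd 43346, .fwd 30675, .fwd 43294],
   .loop none [.bwd 43345, .fwd 432, .fwd 43294],
   .loop none [.bwd 43462, .bwd 10018, .fwd 43294],
   .loop none [.bwd 43466, .bwd 4706, .fwd 43294],
   .loop none [.bwd 43294, .bwd 4707, .fwd 43294],
   .loop none [.bwd 43305, .fwd 4401, .fwd 43295],
   .loop none [.bwd 43303, .fwd 38914, .fwd 43295],
   .loop none [.bwd 43299, .fwd 38874, .fwd 43295],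
   .loop none [.bwd 43324, .fwd 9173, .fwd 43295],
   .loop none [.bwd 43456, .bwd 38531, .fwd 43295],
   .loop none [.bwd 43298, .fwd 40133, .fwd 43296],
   .loop none [.bwd 43469, .fwd 4403, .fwd 43296],
   .loop none [.bwd 43302, .bwd 40658, .fwd 43296],
   .loop none [.bwd 43325, .fwd 9180, .fwd 43296],
   .loop none [.bwd 43303, .bwd 33331, .fwd 43297],
   .loop none [.bwd 43305, .bwd 39029, .fwd 43297],
   .loop none [.bwd 43301, .fwd 39036, .fwd 43297],
   .loop none [.bwd 43326, .bwd 33335, .fwd 43297],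
   .loop none [.bwd 43477, .fwd 34516, .fwd 43298],
   .loop none [.bwd 43300, .fwd 33383, .fwd 43298],
   .loop none [.bwd 43327, .fwd 9213, .fwd 43298],
   .loop none [.bwd 43474, .fwd 9530, .fwd 43298],
   .loop none [.bwd 43473, .bwd 23058, .fwd 43298],
   .loop none [.bwd 43326, .bwd 8913, .fwd 43299],
   .loop none [.bwd 43303, .bwd 7807, .fwd 43299],
   .loop none [.bwd 43458, .bwd 38875, .fwd 43299],
   .loop none [.bwd 43302, .fwd 40186, .fwd 43300],
   .loop none [.bwd 43484, .fwd 10210, .fwd 43300],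
   .loop none [.bwd 43473, .fwd 34502, .fwd 43300],
   .loop none [.bwd 43304, .fwd 33421, .fwd 43300],
   .loop none [.bwd 43471, .fwd 34501, .fwd 43300],
   .loop none [.bwd 43480, .fwd 34524, .fwd 43300],
   .loop none [.bwd 43324, .bwd 4504, .fwd 43301],
   .loop none [.bwd 43305, .bwd 9171, .fwd 43301],
   .loop none [.bwd 43489, .bwd 3454, .fwd 43302],
   .loop none [.bwd 43474, .fwd 40674, .fwd 43302],
   .loop none [.bwd 43306, .bwd 8957, .fwd 43302],
   .loop none [.bwd 43480, .fwd 40681, .fwd 43302],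
   .loop none [.bwd 43471, .fwd 40682, .fwd 43302],
   .loop none [.bwd 43324, .bwd 39174, .fwd 43303],
   .loop none [.bwd 43460, .bwd 39175, .fwd 43303],
   .loop none [.bwd 43306, .bwd 40143, .fwd 43304],
   .loop none [.bwd 43495, .bwd 8271, .fwd 43304],
   .loop none [.bwd 43335, .bwd 34208, .fwd 43304],
   .loop none [.bwd 43344, .fwd 4619, .fwd 43304],
   .loop none [.bwd 43332, .fwd 34195, .fwd 43304],
   .loop none [.bwd 43342, .bwd 22871, .fwd 43304],
   .loop none [.bwd 43326, .fwd 39026, .fwd 43305],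
   .loop none [.bwd 43500, .bwd 3411, .fwd 43306],
   .loop none [.bwd 43336, .fwd 40167, .fwd 43306],
   .loop none [.bwd 43334, .fwd 40174, .fwd 43306],
   .loop none [.bwd 43342, .fwd 40198, .fwd 43306],
   .loop none [.bwd 43332, .fwd 40201, .fwd 43306],
   .loop none [.bwd 43316, .bwd 42134, .fwd 43307],
   .loop none [.bwd 43462, .bwd 33630, .fwd 43307],
   .loop none [.bwd 43337, .fwd 14011, .fwd 43307],
   .loop none [.bwd 43482, .fwd 33854, .fwd 43307],
   .loop none [.bwd 43482, .fwd 33855, .fwd 43307],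
   .loop none [.bwd 43493, .bwd 39431, .fwd 43307],
   .loop none [.bwd 43310, .bwd 32670, .fwd 43307],
   .loop none [.bwd 43462, .fwd 11010, .fwd 43308],
   .loop none [.bwd 43362, .bwd 32152, .fwd 43308],
   .loop none [.bwd 43483, .bwd 835, .fwd 43308],
   .loop none [.bwd 43483, .bwd 864, .fwd 43308],
   .loop none [.bwd 43494, .bwd 7795, .fwd 43308],
   .loop none [.bwd 43461, .bwd 39113, .fwd 43308],
   .loop none [.bwd 43504, .bwd 33413, .fwd 43309],
   .loop none [.bwd 43505, .bwd 40077, .fwd 43309],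
   .loop none [.bwd 43484, .fwd 34327, .fwd 43309],
   .loop none [.bwd 43495, .bwd 33103, .fwd 43309],
   .loop none [.bwd 43461, .bwd 39000, .fwd 43310],
   .loop none [.bwd 43340, .fwd 32822, .fwd 43310],
   .loop none [.bwd 43461, .fwd 33646, .fwd 43310],
   .loop none [.bwd 43485, .bwd 10064, .fwd 43310],
   .loop none [.bwd 43485, .bwd 10079, .fwd 43310],
   .loop none [.bwd 43496, .bwd 39001, .fwd 43310],
   .loop none [.bwd 43321, .bwd 33931, .fwd 43311],
   .loop none [.bwd 43506, .bwd 5480, .fwd 43311],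
   .loop none [.bwd 43394, .bwd 40683, .fwd 43311],
   .loop none [.bwd 43342, .fwd 5479, .fwd 43311],
   .loop none [.bwd 43473, .bwd 9456, .fwd 43311],
   .loop none [.bwd 43335, .bwd 34497, .fwd 43311],
   .loop none [.bwd 43327, .fwd 23018, .fwd 43311],
   .loop none [.bwd 43325, .fwd 40127, .fwd 43311],
   .loop none [.bwd 43322, .fwd 42693, .fwd 43312],
   .loop none [.bwd 43507, .fwd 35153, .fwd 43312],
   .loop none [.bwd 43512, .fwd 12607, .fwd 43312],
   .loop none [.bwd 43481, .fwd 40654, .fwd 43312],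
   .loop none [.bwd 43323, .fwd 40768, .fwd 43313],
   .loop none [.bwd 43508, .fwd 15619, .fwd 43313],
   .loop none [.bwd 43511, .fwd 36554, .fwd 43313],
   .loop none [.bwd 43323, .bwd 36663, .fwd 43313],
   .loop none [.bwd 43343, .bwd 36667, .fwd 43313],
   .loop none [.bwd 43315, .bwd 18127, .fwd 43314],
   .loop none [.bwd 43325, .bwd 40649, .fwd 43314],
   .loop none [.bwd 43474, .fwd 5680, .fwd 43314],
   .loop none [.bwd 43516, .fwd 42285, .fwd 43314],
   .loop none [.bwd 43520, .fwd 42256, .fwd 43314],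
   .loop none [.bwd 43471, .bwd 9498, .fwd 43314],
   .loop none [.bwd 43332, .fwd 34193, .fwd 43314],
   .loop none [.bwd 43327, .fwd 5523, .fwd 43315],
   .loop none [.bwd 43473, .bwd 5524, .fwd 43315],
   .loop none [.bwd 43517, .bwd 42486, .fwd 43315],
   .loop none [.bwd 43521, .fwd 42441, .fwd 43315],
   .loop none [.bwd 43480, .bwd 35409, .fwd 43315],
   .loop none [.bwd 43342, .fwd 9454, .fwd 43315],
   .loop none [.bwd 43328, .bwd 42112, .fwd 43316],
   .loop none [.bwd 43487, .bwd 42114, .fwd 43316],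
   .loop none [.bwd 43487, .bwd 42116, .fwd 43316],
   .loop none [.bwd 43498, .bwd 42117, .fwd 43316],
   .loop none [.bwd 43320, .bwd 42118, .fwd 43316],
   .loop none [.bwd 43319, .bwd 42119, .fwd 43316],
   .loop none [.bwd 43524, .fwd 11028, .fwd 43317],
   .loop none [.bwd 43488, .bwd 902, .fwd 43317],
   .loop none [.bwd 43488, .bwd 934, .fwd 43317],
   .loop none [.bwd 43499, .fwd 7831, .fwd 43317],
   .loop none [.bwd 43357, .fwd 16328, .fwd 43317],
   .loop none [.bwd 43525, .bwd 37203, .fwd 43318],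
   .loop none [.bwd 43526, .bwd 4474, .fwd 43318],
   .loop none [.bwd 43516, .fwd 42284, .fwd 43318],
   .loop none [.bwd 43489, .bwd 9010, .fwd 43318],
   .loop none [.bwd 43500, .fwd 9011, .fwd 43318],
   .loop none [.bwd 43528, .bwd 35393, .fwd 43318],
   .loop none [.bwd 43514, .bwd 39590, .fwd 43318],
   .loop none [.bwd 43320, .bwd 38988, .fwd 43319],
   .loop none [.bwd 43524, .bwd 38989, .fwd 43319],
   .loop none [.bwd 43527, .fwd 39086, .fwd 43319],
   .loop none [.bwd 43331, .fwd 6643, .fwd 43319],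
   .loop none [.bwd 43490, .bwd 38990, .fwd 43319],
   .loop none [.bwd 43490, .bwd 9642, .fwd 43319],
   .loop none [.bwd 43501, .fwd 9622, .fwd 43319],
   .loop none [.bwd 43357, .fwd 7742, .fwd 43320],
   .loop none [.bwd 43491, .bwd 731, .fwd 43320],
   .loop none [.bwd 43491, .bwd 755, .fwd 43320],
   .loop none [.bwd 43502, .fwd 7743, .fwd 43320],
   .loop none [.bwd 43528, .fwd 9275, .fwd 43321],
   .loop none [.bwd 43393, .bwd 41966, .fwd 43321],
   .loop none [.bwd 43332, .bwd 4570, .fwd 43321],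
   .loop none [.bwd 43529, .bwd 42246, .fwd 43321],
   .loop none [.bwd 43474, .fwd 34506, .fwd 43321],
   .loop none [.bwd 43336, .fwd 34207, .fwd 43321],
   .loop none [.bwd 43325, .fwd 40128, .fwd 43321],
   .loop none [.bwd 43327, .bwd 33422, .fwd 43321],
   .loop none [.bwd 43529, .bwd 5655, .fwd 43322],
   .loop none [.bwd 43529, .bwd 42279, .fwd 43322],
   .loop none [.bwd 43528, .bwd 42067, .fwd 43322],
   .loop none [.bwd 43472, .bwd 9441, .fwd 43322],
   .loop none [.bwd 43517, .fwd 42679, .fwd 43322],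
   .loop none [.bwd 43516, .bwd 42767, .fwd 43322],
   .loop none [.bwd 43516, .bwd 36476, .fwd 43323],
   .loop none [.bwd 43532, .bwd 36473, .fwd 43323],
   .loop none [.bwd 43522, .bwd 41982, .fwd 43323],
   .loop none [.bwd 43333, .fwd 15125, .fwd 43323],
   .loop none [.bwd 43521, .bwd 40770, .fwd 43323],
   .loop none [.bwd 43520, .fwd 39481, .fwd 43323],
   .loop none [.bwd 43520, .bwd 4505, .fwd 43324],
   .loop none [.bwd 43464, .bwd 38895, .fwd 43324],
   .loop none [.bwd 43327, .fwd 40202, .fwd 43325],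
   .loop none [.bwd 43520, .fwd 4506, .fwd 43325],
   .loop none [.bwd 43522, .fwd 42263, .fwd 43325],
   .loop none [.bwd 43542, .fwd 8917, .fwd 43327],
   .loop none [.bwd 43518, .fwd 42690, .fwd 43327],
   .loop none [.bwd 43337, .bwd 33297, .fwd 43328],
   .loop none [.bwd 43466, .fwd 7058, .fwd 43328],
   .loop none [.bwd 43536, .fwd 18179, .fwd 43328],
   .loop none [.bwd 43536, .bwd 18188, .fwd 43328],
   .loop none [.bwd 43467, .fwd 17305, .fwd 43328],
   .loop none [.bwd 43331, .fwd 38602, .fwd 43328],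
   .loop none [.bwd 43466, .bwd 33178, .fwd 43329],
   .loop none [.bwd 43357, .bwd 33180, .fwd 43329],
   .loop none [.bwd 43417, .fwd 33227, .fwd 43329],
   .loop none [.bwd 43537, .bwd 33182, .fwd 43329],
   .loop none [.bwd 43537, .bwd 33183, .fwd 43329],
   .loop none [.bwd 43468, .bwd 33184, .fwd 43329],
   .loop none [.bwd 43465, .bwd 33186, .fwd 43329],
   .loop none [.bwd 43546, .fwd 42220, .fwd 43330],
   .loop none [.bwd 43417, .bwd 39460, .fwd 43330],
   .loop none [.bwd 43503, .fwd 40116, .fwd 43330],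
   .loop none [.bwd 43336, .fwd 41723, .fwd 43330],
   .loop none [.bwd 43520, .bwd 9179, .fwd 43330],
   .loop none [.bwd 43469, .fwd 8887, .fwd 43330],
   .loop none [.bwd 43333, .fwd 40122, .fwd 43330],
   .loop none [.bwd 43343, .fwd 40123, .fwd 43330],
   .loop none [.bwd 43465, .bwd 38598, .fwd 43331],
   .loop none [.bwd 43331, .fwd 38600, .fwd 43331],
   .loop none [.bwd 43538, .fwd 38226, .fwd 43331],
   .loop none [.bwd 43538, .bwd 9641, .fwd 43331],
   .loop none [.bwd 43470, .fwd 9621, .fwd 43331],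
   .loop none [.bwd 43342, .fwd 34284, .fwd 43332],
   .loop none [.bwd 43503, .bwd 4571, .fwd 43332],
   .loop none [.bwd 43410, .fwd 9805, .fwd 43332],
   .loop none [.bwd 43500, .bwd 41946, .fwd 43332],
   .loop none [.bwd 43471, .fwd 34500, .fwd 43332],
   .loop none [.bwd 43343, .bwd 40630, .fwd 43333],
   .loop none [.bwd 43547, .bwd 36621, .fwd 43333],
   .loop none [.bwd 43548, .bwd 36624, .fwd 43333],
   .loop none [.bwd 43343, .bwd 36625, .fwd 43333],
   .loop none [.bwd 43534, .bwd 42056, .fwd 43333],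
   .loop none [.bwd 43535, .fwd 41790, .fwd 43333],
   .loop none [.bwd 43546, .fwd 42229, .fwd 43333],
   .loop none [.bwd 43344, .fwd 9298, .fwd 43334],
   .loop none [.bwd 43336, .bwd 41856, .fwd 43334],
   .loop none [.bwd 43500, .fwd 41861, .fwd 43334],
   .loop none [.bwd 43528, .bwd 41857, .fwd 43334],
   .loop none [.bwd 43500, .fwd 41863, .fwd 43334],
   .loop none [.bwd 43336, .bwd 33301, .fwd 43335],
   .loop none [.bwd 43480, .bwd 4840, .fwd 43335],
   .loop none [.bwd 43546, .fwd 42225, .fwd 43335],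
   .loop none [.bwd 43551, .fwd 41597, .fwd 43335],
   .loop none [.bwd 43473, .fwd 34498, .fwd 43335],
   .loop none [.bwd 43471, .bwd 5581, .fwd 43336],
   .loop none [.bwd 43500, .fwd 41862, .fwd 43336],
   .loop none [.bwd 43474, .fwd 9301, .fwd 43336],
   .loop none [.bwd 43540, .fwd 33727, .fwd 43337],
   .loop none [.bwd 43540, .fwd 33728, .fwd 43337],
   .loop none [.bwd 43475, .fwd 34008, .fwd 43337],
   .loop none [.bwd 43341, .bwd 33291, .fwd 43337],
   .loop none [.bwd 43340, .bwd 33292, .fwd 43337],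
   .loop none [.bwd 43553, .bwd 928, .fwd 43338],
   .loop none [.bwd 43541, .fwd 906, .fwd 43338],
   .loop none [.bwd 43541, .fwd 7837, .fwd 43338],
   .loop none [.bwd 43476, .fwd 7835, .fwd 43338],
   .loop none [.bwd 43362, .bwd 32003, .fwd 43338]]

theorem just180_len : just180.length = 250 := by decide +kernel

theorem just180_ok : cert.okFacts 45000 just180 = true := by decide +kernel

/-- justifications -/
noncomputable def just181 : List Cert.Just :=
  [.loop none [.bwd 43554, .fwd 40097, .fwd 43339],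
   .loop none [.bwd 43555, .bwd 33815, .fwd 43339],
   .loop none [.bwd 43542, .fwd 34515, .fwd 43339],
   .loop none [.bwd 43477, .fwd 8378, .fwd 43339],
   .loop none [.bwd 43341, .fwd 748, .fwd 43340],
   .loop none [.bwd 43553, .bwd 32821, .fwd 43340],
   .loop none [.bwd 43556, .bwd 7736, .fwd 43340],
   .loop none [.bwd 43543, .fwd 33486, .fwd 43340],
   .loop none [.bwd 43543, .fwd 33487, .fwd 43340],
   .loop none [.bwd 43478, .fwd 33866, .fwd 43340],
   .loop none [.bwd 43362, .bwd 32014, .fwd 43341],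
   .loop none [.bwd 43544, .fwd 735, .fwd 43341],
   .loop none [.bwd 43544, .bwd 7730, .fwd 43341],
   .loop none [.bwd 43479, .bwd 7740, .fwd 43341],
   .loop none [.bwd 43557, .fwd 34869, .fwd 43342],
   .loop none [.bwd 43409, .bwd 34285, .fwd 43342],
   .loop none [.bwd 43551, .bwd 41872, .fwd 43342],
   .loop none [.bwd 43480, .bwd 35408, .fwd 43342],
   .loop none [.bwd 43558, .fwd 41836, .fwd 43343],
   .loop none [.bwd 43564, .fwd 36106, .fwd 43343],
   .loop none [.bwd 43515, .bwd 42019, .fwd 43343],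
   .loop none [.bwd 43519, .fwd 41891, .fwd 43343],
   .loop none [.bwd 43546, .fwd 42228, .fwd 43343],
   .loop none [.bwd 43559, .bwd 8270, .fwd 43344],
   .loop none [.bwd 43551, .fwd 41594, .fwd 43344],
   .loop none [.bwd 43514, .bwd 41586, .fwd 43344],
   .loop none [.bwd 43500, .fwd 41864, .fwd 43344],
   .loop none [.bwd 43551, .fwd 41600, .fwd 43344],
   .loop none [.bwd 43524, .bwd 10002, .fwd 43345],
   .loop none [.bwd 43553, .bwd 4698, .fwd 43345],
   .loop none [.bwd 43345, .bwd 4699, .fwd 43345],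
   .loop none [.bwd 43346, .bwd 30689, .fwd 43345],
   .loop none [.bwd 43527, .bwd 10032, .fwd 43346],
   .loop none [.bwd 43556, .fwd 31928, .fwd 43346],
   .loop none [.bwd 43346, .bwd 7061, .fwd 43346],
   .loop none [.bwd 43347, .fwd 30429, .fwd 43347],
   .loop none [.bwd 43349, .bwd 30363, .fwd 43347],
   .loop none [.bwd 43349, .bwd 2153, .fwd 43347],
   .loop none [.bwd 43348, .fwd 2152, .fwd 43347],
   .loop none [.bwd 43350, .fwd 8516, .fwd 43347],
   .loop none [.bwd 43347, .bwd 30786, .fwd 43347],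
   .loop none [.bwd 43348, .fwd 30459, .fwd 43348],
   .loop none [.bwd 43350, .fwd 30399, .fwd 43348],
   .loop none [.bwd 43349, .bwd 8521, .fwd 43348],
   .loop none [.bwd 43348, .bwd 30428, .fwd 43348],
   .loop none [.bwd 43349, .fwd 30783, .fwd 43349],
   .loop none [.bwd 43350, .fwd 3084, .fwd 43349],
   .loop none [.bwd 43350, .bwd 2154, .fwd 43349],
   .loop none [.bwd 43349, .bwd 30784, .fwd 43349],
   .loop none [.bwd 43350, .fwd 30779, .fwd 43350],
   .loop none [.bwd 43350, .bwd 30785, .fwd 43350],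
   .loop none [.bwd 43352, .bwd 30293, .fwd 43351],
   .loop none [.bwd 43356, .fwd 7301, .fwd 43351],
   .loop none [.bwd 43355, .bwd 628, .fwd 43351],
   .loop none [.bwd 43353, .fwd 627, .fwd 43351],
   .loop none [.bwd 43360, .fwd 7311, .fwd 43351],
   .loop none [.bwd 43468, .fwd 31907, .fwd 43352],
   .loop none [.bwd 43355, .bwd 7298, .fwd 43352],
   .loop none [.bwd 43356, .bwd 555, .fwd 43352],
   .loop none [.bwd 43354, .fwd 554, .fwd 43352],
   .loop none [.bwd 43361, .fwd 7218, .fwd 43352],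
   .loop none [.bwd 43354, .fwd 30823, .fwd 43353],
   .loop none [.bwd 43361, .fwd 7308, .fwd 43353],
   .loop none [.bwd 43355, .bwd 7574, .fwd 43353],
   .loop none [.bwd 43483, .fwd 31843, .fwd 43354],
   .loop none [.bwd 43360, .bwd 7296, .fwd 43354],
   .loop none [.bwd 43356, .bwd 7223, .fwd 43354],
   .loop none [.bwd 43356, .fwd 30828, .fwd 43355],
   .loop none [.bwd 43360, .bwd 629, .fwd 43355],
   .loop none [.bwd 43494, .fwd 31860, .fwd 43356],
   .loop none [.bwd 43361, .bwd 556, .fwd 43356],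
   .loop none [.bwd 43527, .fwd 31869, .fwd 43357],
   .loop none [.bwd 43570, .bwd 763, .fwd 43357],
   .loop none [.bwd 43570, .bwd 801, .fwd 43357],
   .loop none [.bwd 43573, .bwd 7765, .fwd 43357],
   .loop none [.bwd 43524, .fwd 11797, .fwd 43357],
   .loop none [.bwd 43359, .fwd 40307, .fwd 43358],
   .loop none [.bwd 43576, .bwd 9766, .fwd 43358],
   .loop none [.bwd 43571, .bwd 10933, .fwd 43358],
   .loop none [.bwd 43574, .fwd 10924, .fwd 43358],
   .loop none [.bwd 43505, .fwd 3446, .fwd 43359],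
   .loop none [.bwd 43578, .fwd 40350, .fwd 43359],
   .loop none [.bwd 43577, .fwd 40457, .fwd 43359],
   .loop none [.bwd 43572, .bwd 8942, .fwd 43359],
   .loop none [.bwd 43575, .bwd 40311, .fwd 43359],
   .loop none [.bwd 43581, .fwd 40756, .fwd 43359],
   .loop none [.bwd 43580, .fwd 40383, .fwd 43359],
   .loop none [.bwd 43361, .bwd 30281, .fwd 43360],
   .loop none [.bwd 43537, .fwd 31898, .fwd 43361],
   .loop none [.bwd 43556, .fwd 32584, .fwd 43362],
   .loop none [.bwd 43583, .bwd 31950, .fwd 43362],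
   .loop none [.bwd 43583, .bwd 31951, .fwd 43362],
   .loop none [.bwd 43567, .bwd 31952, .fwd 43362],
   .loop none [.bwd 43553, .fwd 32589, .fwd 43362],
   .loop none [.bwd 43364, .fwd 31953, .fwd 43363],
   .loop none [.bwd 43586, .fwd 7388, .fwd 43363],
   .loop none [.bwd 43584, .bwd 40346, .fwd 43363],
   .loop none [.bwd 43568, .bwd 40347, .fwd 43363],
   .loop none [.bwd 43417, .bwd 7785, .fwd 43364],
   .loop none [.bwd 43425, .bwd 950, .fwd 43364],
   .loop none [.bwd 43585, .bwd 31962, .fwd 43364],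
   .loop none [.bwd 43569, .bwd 31963, .fwd 43364],
   .loop none [.bwd 43591, .fwd 31983, .fwd 43364],
   .loop none [.bwd 43590, .fwd 31924, .fwd 43364],
   .loop none [.bwd 43384, .bwd 37874, .fwd 43365],
   .loop none [.bwd 43585, .bwd 39992, .fwd 43365],
   .loop none [.bwd 43371, .fwd 40551, .fwd 43365],
   .loop none [.bwd 43374, .bwd 8946, .fwd 43365],
   .loop none [.bwd 43366, .fwd 40552, .fwd 43365],
   .loop none [.bwd 43385, .fwd 40555, .fwd 43365],
   .loop none [.bwd 43385, .bwd 40447, .fwd 43366],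
   .loop none [.bwd 43577, .bwd 40448, .fwd 43366],
   .loop none [.bwd 43371, .fwd 40450, .fwd 43366],
   .loop none [.bwd 43375, .fwd 42098, .fwd 43366],
   .loop none [.bwd 43384, .bwd 40524, .fwd 43366],
   .loop none [.bwd 43386, .fwd 40771, .fwd 43367],
   .loop none [.bwd 43582, .fwd 5660, .fwd 43367],
   .loop none [.bwd 43594, .bwd 5661, .fwd 43367],
   .loop none [.bwd 43441, .fwd 35967, .fwd 43367],
   .loop none [.bwd 43449, .fwd 9487, .fwd 43367],
   .loop none [.bwd 43380, .fwd 37840, .fwd 43368],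
   .loop none [.bwd 43572, .fwd 3404, .fwd 43368],
   .loop none [.bwd 43374, .bwd 3405, .fwd 43368],
   .loop none [.bwd 43428, .fwd 40558, .fwd 43368],
   .loop none [.bwd 43369, .bwd 40015, .fwd 43368],
   .loop none [.bwd 43382, .fwd 10546, .fwd 43369],
   .loop none [.bwd 43575, .fwd 7222, .fwd 43369],
   .loop none [.bwd 43450, .fwd 508, .fwd 43369],
   .loop none [.bwd 43595, .bwd 10763, .fwd 43369],
   .loop none [.bwd 43371, .bwd 40565, .fwd 43370],
   .loop none [.bwd 43580, .bwd 40566, .fwd 43370],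
   .loop none [.bwd 43385, .bwd 40567, .fwd 43370],
   .loop none [.bwd 43384, .bwd 40900, .fwd 43370],
   .loop none [.bwd 43600, .fwd 42803, .fwd 43370],
   .loop none [.bwd 43603, .bwd 40569, .fwd 43370],
   .loop none [.bwd 43606, .bwd 40570, .fwd 43370],
   .loop none [.bwd 43392, .fwd 6792, .fwd 43371],
   .loop none [.bwd 43581, .bwd 6793, .fwd 43371],
   .loop none [.bwd 43597, .bwd 40451, .fwd 43371],
   .loop none [.bwd 43601, .fwd 41755, .fwd 43371],
   .loop none [.bwd 43604, .bwd 9558, .fwd 43371],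
   .loop none [.bwd 43595, .fwd 11575, .fwd 43371],
   .loop none [.bwd 43389, .fwd 42082, .fwd 43372],
   .loop none [.bwd 43593, .bwd 4576, .fwd 43372],
   .loop none [.bwd 43605, .bwd 41418, .fwd 43372],
   .loop none [.bwd 43449, .fwd 9281, .fwd 43372],
   .loop none [.bwd 43441, .fwd 35968, .fwd 43372],
   .loop none [.bwd 43390, .fwd 31786, .fwd 43373],
   .loop none [.bwd 43425, .fwd 7889, .fwd 43373],
   .loop none [.bwd 43450, .fwd 33005, .fwd 43373],
   .loop none [.bwd 43435, .bwd 1008, .fwd 43373],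
   .loop none [.bwd 43601, .fwd 41757, .fwd 43373],
   .loop none [.bwd 43449, .bwd 41459, .fwd 43373],
   .loop none [.bwd 43378, .bwd 37867, .fwd 43374],
   .loop none [.bwd 43569, .bwd 39354, .fwd 43374],
   .loop none [.bwd 43431, .fwd 40017, .fwd 43374],
   .loop none [.bwd 43597, .fwd 40019, .fwd 43374],
   .loop none [.bwd 43608, .fwd 40026, .fwd 43374],
   .loop none [.bwd 43376, .bwd 42090, .fwd 43375],
   .loop none [.bwd 43398, .bwd 42091, .fwd 43375],
   .loop none [.bwd 43590, .bwd 42092, .fwd 43375],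
   .loop none [.bwd 43595, .fwd 42131, .fwd 43375],
   .loop none [.bwd 43604, .bwd 42095, .fwd 43375],
   .loop none [.bwd 43611, .bwd 42096, .fwd 43375],
   .loop none [.bwd 43449, .bwd 42097, .fwd 43375],
   .loop none [.bwd 43597, .bwd 42099, .fwd 43375],
   .loop none [.bwd 43591, .bwd 6728, .fwd 43376],
   .loop none [.bwd 43606, .fwd 32684, .fwd 43376],
   .loop none [.bwd 43603, .fwd 32705, .fwd 43376],
   .loop none [.bwd 43612, .fwd 42852, .fwd 43376],
   .loop none [.bwd 43615, .bwd 11540, .fwd 43376],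
   .loop none [.bwd 43385, .bwd 9673, .fwd 43376],
   .loop none [.bwd 43608, .fwd 9672, .fwd 43376],
   .loop none [.bwd 43429, .fwd 32024, .fwd 43377],
   .loop none [.bwd 43381, .bwd 5979, .fwd 43377],
   .loop none [.bwd 43379, .fwd 5978, .fwd 43377],
   .loop none [.bwd 43387, .bwd 9582, .fwd 43377],
   .loop none [.bwd 43427, .bwd 31376, .fwd 43377],
   .loop none [.bwd 43429, .bwd 18201, .fwd 43377],
   .loop none [.bwd 43618, .bwd 9782, .fwd 43378],
   .loop none [.bwd 43568, .fwd 35720, .fwd 43378],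
   .loop none [.bwd 43380, .fwd 37799, .fwd 43378],
   .loop none [.bwd 43384, .fwd 11684, .fwd 43378],
   .loop none [.bwd 43608, .bwd 39973, .fwd 43378],
   .loop none [.bwd 43597, .bwd 39974, .fwd 43378],
   .loop none [.bwd 43432, .fwd 32244, .fwd 43379],
   .loop none [.bwd 43620, .fwd 39304, .fwd 43379],
   .loop none [.bwd 43381, .bwd 8305, .fwd 43379],
   .loop none [.bwd 43430, .fwd 32111, .fwd 43379],
   .loop none [.bwd 43432, .bwd 15319, .fwd 43379],
   .loop none [.bwd 43620, .bwd 10453, .fwd 43380],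
   .loop none [.bwd 43571, .fwd 40277, .fwd 43380],
   .loop none [.bwd 43618, .fwd 39842, .fwd 43380],
   .loop none [.bwd 43382, .bwd 39957, .fwd 43380],
   .loop none [.bwd 43604, .bwd 39959, .fwd 43380],
   .loop none [.bwd 43603, .bwd 39960, .fwd 43380],
   .loop none [.bwd 43436, .fwd 32179, .fwd 43381],
   .loop none [.bwd 43451, .fwd 5990, .fwd 43381],
   .loop none [.bwd 43387, .bwd 5980, .fwd 43381],
   .loop none [.bwd 43434, .fwd 32113, .fwd 43381],
   .loop none [.bwd 43436, .bwd 18204, .fwd 43381],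
   .loop none [.bwd 43451, .fwd 32376, .fwd 43382],
   .loop none [.bwd 43574, .fwd 32130, .fwd 43382],
   .loop none [.bwd 43595, .fwd 14444, .fwd 43382],
   .loop none [.bwd 43606, .fwd 32687, .fwd 43382],
   .loop none [.bwd 43443, .fwd 42234, .fwd 43383],
   .loop none [.bwd 43442, .fwd 37096, .fwd 43383],
   .loop none [.bwd 43620, .bwd 11986, .fwd 43383],
   .loop none [.bwd 43451, .bwd 39300, .fwd 43383],
   .loop none [.bwd 43442, .fwd 39321, .fwd 43383],
   .loop none [.bwd 43439, .bwd 39845, .fwd 43383],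
   .loop none [.bwd 43442, .bwd 10202, .fwd 43384],
   .loop none [.bwd 43584, .fwd 35614, .fwd 43384],
   .loop none [.bwd 43385, .bwd 39964, .fwd 43384],
   .loop none [.bwd 43624, .fwd 33910, .fwd 43385],
   .loop none [.bwd 43578, .bwd 6864, .fwd 43385],
   .loop none [.bwd 43606, .fwd 11607, .fwd 43385],
   .loop none [.bwd 43608, .bwd 9637, .fwd 43385],
   .loop none [.bwd 43625, .fwd 41034, .fwd 43386],
   .loop none [.bwd 43579, .fwd 41090, .fwd 43386],
   .loop none [.bwd 43626, .bwd 40774, .fwd 43386],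
   .loop none [.bwd 43625, .fwd 13372, .fwd 43386],
   .loop none [.bwd 43615, .fwd 41223, .fwd 43386],
   .loop none [.bwd 43601, .fwd 42730, .fwd 43386],
   .loop none [.bwd 43600, .bwd 43023, .fwd 43386],
   .loop none [.bwd 43447, .fwd 31244, .fwd 43387],
   .loop none [.bwd 43442, .fwd 39317, .fwd 43387],
   .loop none [.bwd 43446, .fwd 31337, .fwd 43387],
   .loop none [.bwd 43447, .bwd 18207, .fwd 43387],
   .loop none [.bwd 43452, .fwd 32287, .fwd 43388],
   .loop none [.bwd 43451, .fwd 32377, .fwd 43388],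
   .loop none [.bwd 43615, .bwd 39210, .fwd 43388],
   .loop none [.bwd 43622, .bwd 9712, .fwd 43388],
   .loop none [.bwd 43442, .fwd 39320, .fwd 43388],
   .loop none [.bwd 43618, .fwd 39843, .fwd 43388],
   .loop none [.bwd 43435, .bwd 39213, .fwd 43388],
   .loop none [.bwd 43451, .bwd 39214, .fwd 43388],
   .loop none [.bwd 43615, .bwd 42083, .fwd 43389],
   .loop none [.bwd 43588, .fwd 42128, .fwd 43389],
   .loop none [.bwd 43623, .bwd 10703, .fwd 43389],
   .loop none [.bwd 43615, .bwd 42086, .fwd 43389],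
   .loop none [.bwd 43617, .fwd 42835, .fwd 43389],
   .loop none [.bwd 43625, .bwd 42087, .fwd 43389],
   .loop none [.bwd 43612, .bwd 42089, .fwd 43389],
   .loop none [.bwd 43611, .bwd 42967, .fwd 43389],
   .loop none [.bwd 43622, .fwd 32662, .fwd 43390],
   .loop none [.bwd 43589, .fwd 32689, .fwd 43390],
   .loop none [.bwd 43622, .bwd 32564, .fwd 43390],
   .loop none [.bwd 43451, .bwd 5989, .fwd 43390],
   .loop none [.bwd 43600, .bwd 41961, .fwd 43390]]

theorem just181_len : just181.length = 250 := by decide +kernel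

theorem just181_ok : cert.okFacts 45250 just181 = true := by decide +kernel

/-- justifications -/
noncomputable def just182 : List Cert.Just :=
  [.loop none [.bwd 43615, .fwd 32693, .fwd 43390],
   .loop none [.bwd 43449, .fwd 41428, .fwd 43390],
   .loop none [.bwd 43401, .bwd 41826, .fwd 43391],
   .loop none [.bwd 43594, .bwd 35324, .fwd 43391],
   .loop none [.bwd 43522, .fwd 5682, .fwd 43391],
   .loop none [.bwd 43421, .fwd 35642, .fwd 43391],
   .loop none [.bwd 43419, .bwd 9502, .fwd 43391],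
   .loop none [.bwd 43437, .bwd 35325, .fwd 43391],
   .loop none [.bwd 43444, .bwd 40845, .fwd 43392],
   .loop none [.bwd 43539, .fwd 35532, .fwd 43392],
   .loop none [.bwd 43397, .bwd 40846, .fwd 43392],
   .loop none [.bwd 43420, .fwd 41970, .fwd 43392],
   .loop none [.bwd 43433, .bwd 9557, .fwd 43392],
   .loop none [.bwd 43395, .bwd 34664, .fwd 43392],
   .loop none [.bwd 43394, .bwd 41735, .fwd 43393],
   .loop none [.bwd 43410, .bwd 41738, .fwd 43393],
   .loop none [.bwd 43633, .fwd 40234, .fwd 43393],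
   .loop none [.bwd 43635, .fwd 41782, .fwd 43393],
   .loop none [.bwd 43414, .bwd 41739, .fwd 43393],
   .loop none [.bwd 43409, .bwd 40427, .fwd 43394],
   .loop none [.bwd 43634, .bwd 42605, .fwd 43394],
   .loop none [.bwd 43636, .fwd 42560, .fwd 43394],
   .loop none [.bwd 43412, .bwd 40428, .fwd 43394],
   .loop none [.bwd 43445, .bwd 40444, .fwd 43395],
   .loop none [.bwd 43595, .bwd 33922, .fwd 43395],
   .loop none [.bwd 43513, .fwd 5918, .fwd 43395],
   .loop none [.bwd 43398, .bwd 5919, .fwd 43395],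
   .loop none [.bwd 43437, .fwd 41950, .fwd 43395],
   .loop none [.bwd 43415, .bwd 40446, .fwd 43395],
   .loop none [.bwd 43433, .fwd 33927, .fwd 43395],
   .loop none [.bwd 43420, .fwd 41968, .fwd 43396],
   .loop none [.bwd 43596, .bwd 11614, .fwd 43396],
   .loop none [.bwd 43514, .fwd 42011, .fwd 43396],
   .loop none [.bwd 43420, .fwd 41969, .fwd 43396],
   .loop none [.bwd 43408, .bwd 10321, .fwd 43396],
   .loop none [.bwd 43444, .fwd 9841, .fwd 43396],
   .loop none [.bwd 43454, .bwd 11437, .fwd 43396],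
   .loop none [.bwd 43526, .bwd 41835, .fwd 43396],
   .loop none [.bwd 43424, .bwd 11444, .fwd 43397],
   .loop none [.bwd 43597, .bwd 11445, .fwd 43397],
   .loop none [.bwd 43481, .bwd 11442, .fwd 43397],
   .loop none [.bwd 43433, .bwd 40431, .fwd 43397],
   .loop none [.bwd 43453, .fwd 5888, .fwd 43397],
   .loop none [.bwd 43398, .fwd 40844, .fwd 43397],
   .loop none [.bwd 43415, .bwd 40840, .fwd 43398],
   .loop none [.bwd 43515, .fwd 34682, .fwd 43398],
   .loop none [.bwd 43433, .bwd 5920, .fwd 43398],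
   .loop none [.bwd 43445, .bwd 40842, .fwd 43398],
   .loop none [.bwd 43400, .fwd 41262, .fwd 43399],
   .loop none [.bwd 43510, .fwd 5484, .fwd 43399],
   .loop none [.bwd 43517, .bwd 5485, .fwd 43399],
   .loop none [.bwd 43636, .fwd 36458, .fwd 43399],
   .loop none [.bwd 43641, .bwd 42289, .fwd 43399],
   .loop none [.bwd 43642, .bwd 9467, .fwd 43399],
   .loop none [.bwd 43644, .fwd 9438, .fwd 43399],
   .loop none [.bwd 43516, .bwd 41263, .fwd 43400],
   .loop none [.bwd 43635, .fwd 5657, .fwd 43400],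
   .loop none [.bwd 43526, .bwd 41479, .fwd 43400],
   .loop none [.bwd 43643, .bwd 9444, .fwd 43400],
   .loop none [.bwd 43645, .fwd 9480, .fwd 43400],
   .loop none [.bwd 43598, .bwd 11448, .fwd 43401],
   .loop none [.bwd 43518, .bwd 41546, .fwd 43401],
   .loop none [.bwd 43454, .fwd 10337, .fwd 43401],
   .loop none [.bwd 43453, .bwd 9222, .fwd 43401],
   .loop none [.bwd 43408, .fwd 11499, .fwd 43401],
   .loop none [.bwd 43634, .bwd 41547, .fwd 43401],
   .loop none [.bwd 43633, .bwd 42838, .fwd 43401],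
   .loop none [.bwd 43416, .fwd 39787, .fwd 43402],
   .loop none [.bwd 43599, .fwd 35078, .fwd 43402],
   .loop none [.bwd 43519, .fwd 41889, .fwd 43402],
   .loop none [.bwd 43419, .fwd 5584, .fwd 43402],
   .loop none [.bwd 43416, .bwd 5585, .fwd 43402],
   .loop none [.bwd 43405, .bwd 41805, .fwd 43402],
   .loop none [.bwd 43454, .bwd 41806, .fwd 43402],
   .loop none [.bwd 43404, .bwd 33948, .fwd 43403],
   .loop none [.bwd 43521, .bwd 39137, .fwd 43403],
   .loop none [.bwd 43634, .fwd 39737, .fwd 43403],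
   .loop none [.bwd 43634, .bwd 42707, .fwd 43403],
   .loop none [.bwd 43649, .fwd 42035, .fwd 43403],
   .loop none [.bwd 43418, .fwd 18361, .fwd 43403],
   .loop none [.bwd 43585, .fwd 10580, .fwd 43404],
   .loop none [.bwd 43520, .fwd 39478, .fwd 43404],
   .loop none [.bwd 43633, .fwd 12149, .fwd 43404],
   .loop none [.bwd 43537, .bwd 33170, .fwd 43404],
   .loop none [.bwd 43633, .fwd 40233, .fwd 43404],
   .loop none [.bwd 43650, .bwd 33175, .fwd 43404],
   .loop none [.bwd 43417, .fwd 33232, .fwd 43404],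
   .loop none [.bwd 43433, .fwd 40410, .fwd 43405],
   .loop none [.bwd 43602, .bwd 11538, .fwd 43405],
   .loop none [.bwd 43486, .fwd 42081, .fwd 43405],
   .loop none [.bwd 43424, .fwd 11543, .fwd 43405],
   .loop none [.bwd 43415, .bwd 9904, .fwd 43405],
   .loop none [.bwd 43445, .bwd 11591, .fwd 43405],
   .loop none [.bwd 43444, .fwd 11525, .fwd 43405],
   .loop none [.bwd 43407, .fwd 35252, .fwd 43406],
   .loop none [.bwd 43480, .fwd 34523, .fwd 43406],
   .loop none [.bwd 43412, .bwd 40908, .fwd 43406],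
   .loop none [.bwd 43412, .fwd 40579, .fwd 43406],
   .loop none [.bwd 43653, .bwd 41962, .fwd 43406],
   .loop none [.bwd 43409, .bwd 14457, .fwd 43406],
   .loop none [.bwd 43471, .bwd 35255, .fwd 43407],
   .loop none [.bwd 43414, .bwd 40421, .fwd 43407],
   .loop none [.bwd 43414, .fwd 40043, .fwd 43407],
   .loop none [.bwd 43654, .fwd 41509, .fwd 43407],
   .loop none [.bwd 43410, .bwd 35258, .fwd 43407],
   .loop none [.bwd 43437, .fwd 41949, .fwd 43408],
   .loop none [.bwd 43605, .bwd 10376, .fwd 43408],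
   .loop none [.bwd 43497, .bwd 41661, .fwd 43408],
   .loop none [.bwd 43445, .fwd 10318, .fwd 43408],
   .loop none [.bwd 43453, .fwd 11510, .fwd 43408],
   .loop none [.bwd 43410, .bwd 11640, .fwd 43409],
   .loop none [.bwd 43423, .bwd 41916, .fwd 43409],
   .loop none [.bwd 43657, .bwd 41917, .fwd 43409],
   .loop none [.bwd 43422, .fwd 41733, .fwd 43410],
   .loop none [.bwd 43658, .fwd 42177, .fwd 43410],
   .loop none [.bwd 43638, .bwd 9759, .fwd 43411],
   .loop none [.bwd 43510, .bwd 42586, .fwd 43411],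
   .loop none [.bwd 43651, .fwd 42387, .fwd 43411],
   .loop none [.bwd 43655, .fwd 34638, .fwd 43411],
   .loop none [.bwd 43659, .fwd 14902, .fwd 43411],
   .loop none [.bwd 43508, .fwd 37102, .fwd 43411],
   .loop none [.bwd 43414, .bwd 37012, .fwd 43412],
   .loop none [.bwd 43663, .bwd 9749, .fwd 43412],
   .loop none [.bwd 43473, .fwd 40600, .fwd 43412],
   .loop none [.bwd 43642, .bwd 42363, .fwd 43412],
   .loop none [.bwd 43594, .fwd 23437, .fwd 43413],
   .loop none [.bwd 43637, .bwd 41538, .fwd 43413],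
   .loop none [.bwd 43647, .bwd 41540, .fwd 43413],
   .loop none [.bwd 43585, .bwd 41541, .fwd 43413],
   .loop none [.bwd 43656, .bwd 41542, .fwd 43413],
   .loop none [.bwd 43660, .bwd 41543, .fwd 43413],
   .loop none [.bwd 43666, .bwd 41524, .fwd 43414],
   .loop none [.bwd 43474, .bwd 40042, .fwd 43414],
   .loop none [.bwd 43643, .bwd 41529, .fwd 43414],
   .loop none [.bwd 43609, .fwd 11691, .fwd 43415],
   .loop none [.bwd 43534, .fwd 42040, .fwd 43415],
   .loop none [.bwd 43445, .fwd 11531, .fwd 43415],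
   .loop none [.bwd 43424, .fwd 9808, .fwd 43415],
   .loop none [.bwd 43645, .fwd 42725, .fwd 43415],
   .loop none [.bwd 43644, .bwd 42924, .fwd 43415],
   .loop none [.bwd 43610, .bwd 5586, .fwd 43416],
   .loop none [.bwd 43535, .fwd 41788, .fwd 43416],
   .loop none [.bwd 43453, .bwd 41514, .fwd 43416],
   .loop none [.bwd 43433, .bwd 41515, .fwd 43416],
   .loop none [.bwd 43421, .fwd 39635, .fwd 43416],
   .loop none [.bwd 43650, .fwd 42549, .fwd 43416],
   .loop none [.bwd 43649, .bwd 42740, .fwd 43416],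
   .loop none [.bwd 43418, .fwd 11005, .fwd 43417],
   .loop none [.bwd 43658, .fwd 42174, .fwd 43417],
   .loop none [.bwd 43645, .fwd 41415, .fwd 43417],
   .loop none [.bwd 43650, .fwd 11006, .fwd 43417],
   .loop none [.bwd 43546, .fwd 42222, .fwd 43418],
   .loop none [.bwd 43657, .fwd 33945, .fwd 43418],
   .loop none [.bwd 43466, .fwd 10010, .fwd 43418],
   .loop none [.bwd 43644, .bwd 42503, .fwd 43418],
   .loop none [.bwd 43649, .fwd 42034, .fwd 43418],
   .loop none [.bwd 43453, .bwd 41758, .fwd 43419],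
   .loop none [.bwd 43613, .fwd 35811, .fwd 43419],
   .loop none [.bwd 43549, .fwd 5583, .fwd 43419],
   .loop none [.bwd 43421, .fwd 35643, .fwd 43419],
   .loop none [.bwd 43424, .bwd 41760, .fwd 43419],
   .loop none [.bwd 43437, .bwd 35062, .fwd 43419],
   .loop none [.bwd 43601, .fwd 5541, .fwd 43420],
   .loop none [.bwd 43528, .bwd 5542, .fwd 43420],
   .loop none [.bwd 43437, .fwd 9278, .fwd 43420],
   .loop none [.bwd 43421, .bwd 9492, .fwd 43420],
   .loop none [.bwd 43526, .bwd 35394, .fwd 43420],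
   .loop none [.bwd 43641, .bwd 42731, .fwd 43420],
   .loop none [.bwd 43454, .bwd 41807, .fwd 43421],
   .loop none [.bwd 43614, .fwd 5663, .fwd 43421],
   .loop none [.bwd 43550, .bwd 5664, .fwd 43421],
   .loop none [.bwd 43454, .bwd 41808, .fwd 43421],
   .loop none [.bwd 43423, .fwd 38950, .fwd 43422],
   .loop none [.bwd 43500, .fwd 39013, .fwd 43422],
   .loop none [.bwd 43422, .fwd 38621, .fwd 43422],
   .loop none [.bwd 43499, .bwd 919, .fwd 43422],
   .loop none [.bwd 43526, .fwd 39054, .fwd 43422],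
   .loop none [.bwd 43672, .fwd 39063, .fwd 43422],
   .loop none [.bwd 43551, .bwd 6852, .fwd 43423],
   .loop none [.bwd 43423, .fwd 38951, .fwd 43423],
   .loop none [.bwd 43641, .bwd 9625, .fwd 43423],
   .loop none [.bwd 43673, .fwd 9649, .fwd 43423],
   .loop none [.bwd 43616, .fwd 11615, .fwd 43424],
   .loop none [.bwd 43472, .fwd 41993, .fwd 43424],
   .loop none [.bwd 43444, .fwd 9686, .fwd 43424],
   .loop none [.bwd 43643, .fwd 42697, .fwd 43424],
   .loop none [.bwd 43642, .bwd 42897, .fwd 43424],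
   .loop none [.bwd 43589, .bwd 33235, .fwd 43425],
   .loop none [.bwd 43660, .bwd 33236, .fwd 43425],
   .loop none [.bwd 43656, .fwd 34133, .fwd 43425],
   .loop none [.bwd 43674, .bwd 951, .fwd 43425],
   .loop none [.bwd 43637, .fwd 39225, .fwd 43425],
   .loop none [.bwd 43666, .fwd 33997, .fwd 43425],
   .loop none [.bwd 43659, .bwd 41769, .fwd 43426],
   .loop none [.bwd 43655, .fwd 41919, .fwd 43426],
   .loop none [.bwd 43669, .fwd 39725, .fwd 43426],
   .loop none [.bwd 43675, .fwd 38977, .fwd 43426],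
   .loop none [.bwd 43638, .bwd 41770, .fwd 43426],
   .loop none [.bwd 43663, .fwd 41978, .fwd 43426],
   .loop none [.bwd 43429, .fwd 31368, .fwd 43427],
   .loop none [.bwd 43476, .bwd 7832, .fwd 43427],
   .loop none [.bwd 43434, .bwd 944, .fwd 43427],
   .loop none [.bwd 43430, .fwd 943, .fwd 43427],
   .loop none [.bwd 43446, .bwd 7860, .fwd 43427],
   .loop none [.bwd 43618, .fwd 39838, .fwd 43428],
   .loop none [.bwd 43683, .bwd 4458, .fwd 43428],
   .loop none [.bwd 43431, .bwd 7232, .fwd 43428],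
   .loop none [.bwd 43597, .fwd 9912, .fwd 43428],
   .loop none [.bwd 43439, .fwd 8438, .fwd 43428],
   .loop none [.bwd 43620, .fwd 39307, .fwd 43428],
   .loop none [.bwd 43431, .fwd 39207, .fwd 43428],
   .loop none [.bwd 43479, .fwd 7723, .fwd 43429],
   .loop none [.bwd 43436, .bwd 692, .fwd 43429],
   .loop none [.bwd 43432, .fwd 691, .fwd 43429],
   .loop none [.bwd 43447, .fwd 7729, .fwd 43429],
   .loop none [.bwd 43432, .bwd 32110, .fwd 43430],
   .loop none [.bwd 43488, .bwd 7829, .fwd 43430],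
   .loop none [.bwd 43434, .bwd 7836, .fwd 43430],
   .loop none [.bwd 43620, .fwd 39303, .fwd 43431],
   .loop none [.bwd 43685, .bwd 4499, .fwd 43431],
   .loop none [.bwd 43604, .fwd 39834, .fwd 43431],
   .loop none [.bwd 43435, .bwd 32646, .fwd 43431],
   .loop none [.bwd 43618, .bwd 11291, .fwd 43431],
   .loop none [.bwd 43491, .fwd 7720, .fwd 43432],
   .loop none [.bwd 43436, .bwd 7721, .fwd 43432],
   .loop none [.bwd 43604, .bwd 5921, .fwd 43433],
   .loop none [.bwd 43492, .fwd 34985, .fwd 43433],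
   .loop none [.bwd 43654, .bwd 41991, .fwd 43433],
   .loop none [.bwd 43653, .bwd 33928, .fwd 43433],
   .loop none [.bwd 43436, .bwd 32112, .fwd 43434],
   .loop none [.bwd 43499, .bwd 7833, .fwd 43434],
   .loop none [.bwd 43674, .fwd 952, .fwd 43434],
   .loop none [.bwd 43446, .bwd 945, .fwd 43434],
   .loop none [.bwd 43451, .fwd 32180, .fwd 43435],
   .loop none [.bwd 43674, .bwd 7863, .fwd 43435],
   .loop none [.bwd 43502, .fwd 7724, .fwd 43436],
   .loop none [.bwd 43447, .bwd 693, .fwd 43436],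
   .loop none [.bwd 43687, .bwd 9279, .fwd 43437],
   .loop none [.bwd 43503, .fwd 4572, .fwd 43437],
   .loop none [.bwd 43658, .fwd 42181, .fwd 43437],
   .loop none [.bwd 43657, .bwd 34995, .fwd 43437],
   .loop none [.bwd 43443, .fwd 42232, .fwd 43438],
   .loop none [.bwd 43526, .fwd 39047, .fwd 43438],
   .loop none [.bwd 43438, .fwd 38737, .fwd 43438],
   .loop none [.bwd 43647, .fwd 41260, .fwd 43438],
   .loop none [.bwd 43685, .bwd 8873, .fwd 43438],
   .loop none [.bwd 43674, .fwd 33279, .fwd 43438],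
   .loop none [.bwd 43442, .fwd 39316, .fwd 43439],
   .loop none [.bwd 43691, .bwd 3396, .fwd 43439],
   .loop none [.bwd 43598, .bwd 11282, .fwd 43439]]

theorem just182_len : just182.length = 250 := by decide +kernel

theorem just182_ok : cert.okFacts 45500 just182 = true := by decide +kernel

/-- justifications -/
noncomputable def just183 : List Cert.Just :=
  [.loop none [.bwd 43624, .fwd 42848, .fwd 43440],
   .loop none [.bwd 43689, .fwd 41491, .fwd 43440],
   .loop none [.bwd 43692, .bwd 11586, .fwd 43440],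
   .loop none [.bwd 43611, .bwd 10668, .fwd 43440],
   .loop none [.bwd 43601, .fwd 41756, .fwd 43440],
   .loop none [.bwd 43616, .bwd 11619, .fwd 43440],
   .loop none [.bwd 43609, .fwd 12010, .fwd 43440],
   .loop none [.bwd 43598, .fwd 42964, .fwd 43440],
   .loop none [.bwd 43628, .bwd 42960, .fwd 43440],
   .loop none [.bwd 43625, .fwd 41033, .fwd 43441],
   .loop none [.bwd 43647, .bwd 5686, .fwd 43441],
   .loop none [.bwd 43598, .bwd 41485, .fwd 43441],
   .loop none [.bwd 43594, .fwd 41824, .fwd 43441],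
   .loop none [.bwd 43610, .bwd 9506, .fwd 43441],
   .loop none [.bwd 43692, .fwd 42959, .fwd 43441],
   .loop none [.bwd 43607, .bwd 42792, .fwd 43441],
   .loop none [.bwd 43690, .fwd 11337, .fwd 43442],
   .loop none [.bwd 43628, .fwd 42828, .fwd 43442],
   .loop none [.bwd 43607, .fwd 41066, .fwd 43442],
   .loop none [.bwd 43618, .bwd 11686, .fwd 43442],
   .loop none [.bwd 43531, .bwd 42233, .fwd 43443],
   .loop none [.bwd 43443, .fwd 42235, .fwd 43443],
   .loop none [.bwd 43686, .bwd 42239, .fwd 43443],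
   .loop none [.bwd 43688, .bwd 42240, .fwd 43443],
   .loop none [.bwd 43691, .bwd 42241, .fwd 43443],
   .loop none [.bwd 43690, .bwd 42242, .fwd 43443],
   .loop none [.bwd 43692, .bwd 11188, .fwd 43444],
   .loop none [.bwd 43545, .bwd 42102, .fwd 43444],
   .loop none [.bwd 43445, .fwd 11590, .fwd 43444],
   .loop none [.bwd 43636, .fwd 43002, .fwd 43444],
   .loop none [.bwd 43635, .bwd 42893, .fwd 43444],
   .loop none [.bwd 43611, .fwd 11588, .fwd 43445],
   .loop none [.bwd 43533, .bwd 42525, .fwd 43445],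
   .loop none [.bwd 43640, .bwd 42526, .fwd 43445],
   .loop none [.bwd 43639, .fwd 42209, .fwd 43445],
   .loop none [.bwd 43447, .fwd 31357, .fwd 43446],
   .loop none [.bwd 43541, .fwd 7813, .fwd 43446],
   .loop none [.bwd 43691, .fwd 32620, .fwd 43446],
   .loop none [.bwd 43544, .bwd 7665, .fwd 43447],
   .loop none [.bwd 43690, .fwd 38939, .fwd 43447],
   .loop none [.bwd 43452, .fwd 32286, .fwd 43448],
   .loop none [.bwd 43555, .fwd 32611, .fwd 43448],
   .loop none [.bwd 43452, .bwd 38756, .fwd 43448],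
   .loop none [.bwd 43678, .fwd 41312, .fwd 43448],
   .loop none [.bwd 43691, .bwd 8923, .fwd 43448],
   .loop none [.bwd 43683, .fwd 7233, .fwd 43448],
   .loop none [.bwd 43674, .bwd 38761, .fwd 43448],
   .loop none [.bwd 43688, .bwd 38762, .fwd 43448],
   .loop none [.bwd 43615, .bwd 41421, .fwd 43449],
   .loop none [.bwd 43678, .fwd 5538, .fwd 43449],
   .loop none [.bwd 43687, .bwd 5539, .fwd 43449],
   .loop none [.bwd 43599, .fwd 9485, .fwd 43449],
   .loop none [.bwd 43622, .fwd 10637, .fwd 43450],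
   .loop none [.bwd 43695, .bwd 7231, .fwd 43450],
   .loop none [.bwd 43596, .fwd 11718, .fwd 43450],
   .loop none [.bwd 43687, .fwd 41697, .fwd 43450],
   .loop none [.bwd 43688, .fwd 32391, .fwd 43451],
   .loop none [.bwd 43698, .fwd 39314, .fwd 43451],
   .loop none [.bwd 43620, .fwd 39306, .fwd 43451],
   .loop none [.bwd 43563, .fwd 32538, .fwd 43452],
   .loop none [.bwd 43677, .fwd 39259, .fwd 43452],
   .loop none [.bwd 43690, .fwd 38944, .fwd 43452],
   .loop none [.bwd 43684, .fwd 39269, .fwd 43452],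
   .loop none [.bwd 43688, .bwd 38752, .fwd 43452],
   .loop none [.bwd 43674, .bwd 38753, .fwd 43452],
   .loop none [.bwd 43696, .fwd 10332, .fwd 43453],
   .loop none [.bwd 43565, .fwd 41622, .fwd 43453],
   .loop none [.bwd 43454, .fwd 11490, .fwd 43453],
   .loop none [.bwd 43671, .fwd 43038, .fwd 43453],
   .loop none [.bwd 43670, .bwd 42814, .fwd 43453],
   .loop none [.bwd 43697, .bwd 41550, .fwd 43454],
   .loop none [.bwd 43566, .fwd 41629, .fwd 43454],
   .loop none [.bwd 43673, .bwd 41553, .fwd 43454],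
   .loop none [.bwd 43672, .bwd 41554, .fwd 43454],
   .loop none [.bwd 43470, .bwd 6848, .fwd 43455],
   .loop none [.bwd 43499, .fwd 38381, .fwd 43455],
   .loop none [.bwd 43455, .fwd 38276, .fwd 43455],
   .loop none [.bwd 43459, .fwd 38660, .fwd 43455],
   .loop none [.bwd 43457, .fwd 38396, .fwd 43455],
   .loop none [.bwd 43463, .fwd 9620, .fwd 43455],
   .loop none [.bwd 43468, .fwd 38430, .fwd 43455],
   .loop none [.bwd 43470, .fwd 38367, .fwd 43456],
   .loop none [.bwd 43700, .fwd 38355, .fwd 43456],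
   .loop none [.bwd 43502, .fwd 10985, .fwd 43456],
   .loop none [.bwd 43456, .fwd 38324, .fwd 43456],
   .loop none [.bwd 43460, .fwd 38865, .fwd 43456],
   .loop none [.bwd 43458, .fwd 38502, .fwd 43456],
   .loop none [.bwd 43464, .fwd 10988, .fwd 43456],
   .loop none [.bwd 43467, .fwd 19543, .fwd 43456],
   .loop none [.bwd 43485, .fwd 33458, .fwd 43457],
   .loop none [.bwd 43541, .fwd 32845, .fwd 43457],
   .loop none [.bwd 43458, .fwd 11193, .fwd 43457],
   .loop none [.bwd 43459, .fwd 38661, .fwd 43457],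
   .loop none [.bwd 43483, .bwd 32212, .fwd 43457],
   .loop none [.bwd 43485, .fwd 38590, .fwd 43458],
   .loop none [.bwd 43702, .bwd 9691, .fwd 43458],
   .loop none [.bwd 43544, .fwd 38835, .fwd 43458],
   .loop none [.bwd 43460, .bwd 11287, .fwd 43458],
   .loop none [.bwd 43482, .fwd 38869, .fwd 43458],
   .loop none [.bwd 43496, .fwd 11774, .fwd 43459],
   .loop none [.bwd 43476, .fwd 39076, .fwd 43459],
   .loop none [.bwd 43460, .fwd 38863, .fwd 43459],
   .loop none [.bwd 43463, .fwd 38212, .fwd 43459],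
   .loop none [.bwd 43494, .fwd 38708, .fwd 43459],
   .loop none [.bwd 43496, .fwd 34354, .fwd 43460],
   .loop none [.bwd 43704, .bwd 6777, .fwd 43460],
   .loop none [.bwd 43479, .fwd 39405, .fwd 43460],
   .loop none [.bwd 43464, .bwd 38864, .fwd 43460],
   .loop none [.bwd 43493, .bwd 38866, .fwd 43460],
   .loop none [.bwd 43553, .fwd 39544, .fwd 43461],
   .loop none [.bwd 43702, .bwd 38972, .fwd 43461],
   .loop none [.bwd 43702, .bwd 11547, .fwd 43461],
   .loop none [.bwd 43704, .fwd 9543, .fwd 43461],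
   .loop none [.bwd 43462, .bwd 38974, .fwd 43461],
   .loop none [.bwd 43527, .fwd 11003, .fwd 43462],
   .loop none [.bwd 43556, .bwd 10028, .fwd 43462],
   .loop none [.bwd 43703, .bwd 10019, .fwd 43462],
   .loop none [.bwd 43703, .bwd 10031, .fwd 43462],
   .loop none [.bwd 43705, .bwd 11813, .fwd 43462],
   .loop none [.bwd 43538, .bwd 6712, .fwd 43463],
   .loop none [.bwd 43488, .fwd 38642, .fwd 43463],
   .loop none [.bwd 43463, .fwd 38412, .fwd 43463],
   .loop none [.bwd 43652, .fwd 38680, .fwd 43463],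
   .loop none [.bwd 43537, .fwd 38685, .fwd 43463],
   .loop none [.bwd 43538, .fwd 38603, .fwd 43464],
   .loop none [.bwd 43707, .bwd 10993, .fwd 43464],
   .loop none [.bwd 43491, .fwd 10981, .fwd 43464],
   .loop none [.bwd 43464, .fwd 38517, .fwd 43464],
   .loop none [.bwd 43536, .fwd 19466, .fwd 43464],
   .loop none [.bwd 43524, .fwd 10014, .fwd 43465],
   .loop none [.bwd 43465, .fwd 38574, .fwd 43465],
   .loop none [.bwd 43707, .fwd 9991, .fwd 43465],
   .loop none [.bwd 43707, .bwd 11776, .fwd 43465],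
   .loop none [.bwd 43700, .bwd 38575, .fwd 43465],
   .loop none [.bwd 43466, .bwd 18313, .fwd 43465],
   .loop none [.bwd 43556, .fwd 31925, .fwd 43466],
   .loop none [.bwd 43527, .bwd 31893, .fwd 43466],
   .loop none [.bwd 43652, .fwd 10023, .fwd 43466],
   .loop none [.bwd 43652, .bwd 11019, .fwd 43466],
   .loop none [.bwd 43701, .fwd 11026, .fwd 43466],
   .loop none [.bwd 43475, .fwd 17975, .fwd 43467],
   .loop none [.bwd 43701, .fwd 17271, .fwd 43467],
   .loop none [.bwd 43498, .fwd 38848, .fwd 43467],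
   .loop none [.bwd 43493, .fwd 39417, .fwd 43467],
   .loop none [.bwd 43482, .bwd 18163, .fwd 43467],
   .loop none [.bwd 43536, .fwd 18181, .fwd 43467],
   .loop none [.bwd 43470, .fwd 38378, .fwd 43467],
   .loop none [.bwd 43701, .fwd 11013, .fwd 43468],
   .loop none [.bwd 43573, .fwd 7769, .fwd 43468],
   .loop none [.bwd 43650, .bwd 9158, .fwd 43468],
   .loop none [.bwd 43494, .bwd 837, .fwd 43468],
   .loop none [.bwd 43483, .fwd 836, .fwd 43468],
   .loop none [.bwd 43537, .fwd 7775, .fwd 43468],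
   .loop none [.bwd 43700, .bwd 38431, .fwd 43468],
   .loop none [.bwd 43708, .fwd 42249, .fwd 43469],
   .loop none [.bwd 43650, .bwd 38907, .fwd 43469],
   .loop none [.bwd 43549, .fwd 39501, .fwd 43469],
   .loop none [.bwd 43489, .bwd 40209, .fwd 43469],
   .loop none [.bwd 43520, .fwd 9177, .fwd 43469],
   .loop none [.bwd 43535, .fwd 41792, .fwd 43469],
   .loop none [.bwd 43519, .bwd 42037, .fwd 43469],
   .loop none [.bwd 43700, .bwd 11592, .fwd 43470],
   .loop none [.bwd 43501, .bwd 6849, .fwd 43470],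
   .loop none [.bwd 43470, .fwd 38370, .fwd 43470],
   .loop none [.bwd 43496, .fwd 38996, .fwd 43470],
   .loop none [.bwd 43485, .fwd 38592, .fwd 43470],
   .loop none [.bwd 43538, .fwd 9643, .fwd 43470],
   .loop none [.bwd 43480, .fwd 34489, .fwd 43471],
   .loop none [.bwd 43549, .bwd 5582, .fwd 43471],
   .loop none [.bwd 43474, .bwd 18134, .fwd 43471],
   .loop none [.bwd 43709, .fwd 41799, .fwd 43471],
   .loop none [.bwd 43481, .bwd 41992, .fwd 43472],
   .loop none [.bwd 43709, .bwd 5488, .fwd 43472],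
   .loop none [.bwd 43709, .fwd 42255, .fwd 43472],
   .loop none [.bwd 43545, .fwd 5487, .fwd 43472],
   .loop none [.bwd 43549, .fwd 41886, .fwd 43472],
   .loop none [.bwd 43534, .bwd 9473, .fwd 43472],
   .loop none [.bwd 43474, .bwd 18128, .fwd 43473],
   .loop none [.bwd 43710, .bwd 42355, .fwd 43473],
   .loop none [.bwd 43480, .fwd 34491, .fwd 43473],
   .loop none [.bwd 43550, .fwd 35410, .fwd 43474],
   .loop none [.bwd 43711, .bwd 41820, .fwd 43474],
   .loop none [.bwd 43493, .fwd 39413, .fwd 43475],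
   .loop none [.bwd 43498, .fwd 38851, .fwd 43475],
   .loop none [.bwd 43487, .bwd 18348, .fwd 43475],
   .loop none [.bwd 43540, .fwd 18349, .fwd 43475],
   .loop none [.bwd 43479, .fwd 15882, .fwd 43475],
   .loop none [.bwd 43478, .bwd 33867, .fwd 43475],
   .loop none [.bwd 43713, .fwd 39537, .fwd 43476],
   .loop none [.bwd 43499, .bwd 904, .fwd 43476],
   .loop none [.bwd 43488, .fwd 903, .fwd 43476],
   .loop none [.bwd 43541, .fwd 7838, .fwd 43476],
   .loop none [.bwd 43567, .bwd 17404, .fwd 43476],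
   .loop none [.bwd 43714, .fwd 42735, .fwd 43477],
   .loop none [.bwd 43715, .bwd 34517, .fwd 43477],
   .loop none [.bwd 43484, .bwd 11426, .fwd 43477],
   .loop none [.bwd 43542, .bwd 34522, .fwd 43477],
   .loop none [.bwd 43479, .bwd 33864, .fwd 43478],
   .loop none [.bwd 43713, .fwd 39538, .fwd 43478],
   .loop none [.bwd 43716, .fwd 11823, .fwd 43478],
   .loop none [.bwd 43496, .bwd 39147, .fwd 43478],
   .loop none [.bwd 43501, .fwd 38584, .fwd 43478],
   .loop none [.bwd 43490, .fwd 38994, .fwd 43478],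
   .loop none [.bwd 43543, .fwd 11802, .fwd 43478],
   .loop none [.bwd 43567, .fwd 7745, .fwd 43479],
   .loop none [.bwd 43502, .bwd 733, .fwd 43479],
   .loop none [.bwd 43491, .fwd 732, .fwd 43479],
   .loop none [.bwd 43544, .bwd 7746, .fwd 43479],
   .loop none [.bwd 43717, .bwd 4841, .fwd 43480],
   .loop none [.bwd 43718, .bwd 40650, .fwd 43481],
   .loop none [.bwd 43723, .bwd 40651, .fwd 43481],
   .loop none [.bwd 43539, .bwd 40652, .fwd 43481],
   .loop none [.bwd 43565, .fwd 41626, .fwd 43481],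
   .loop none [.bwd 43515, .bwd 40653, .fwd 43481],
   .loop none [.bwd 43711, .fwd 41503, .fwd 43481],
   .loop none [.bwd 43710, .bwd 42914, .fwd 43481],
   .loop none [.bwd 43487, .bwd 18339, .fwd 43482],
   .loop none [.bwd 43703, .fwd 16999, .fwd 43482],
   .loop none [.bwd 43540, .bwd 16475, .fwd 43482],
   .loop none [.bwd 43493, .fwd 39418, .fwd 43482],
   .loop none [.bwd 43485, .bwd 32655, .fwd 43482],
   .loop none [.bwd 43703, .fwd 11011, .fwd 43483],
   .loop none [.bwd 43583, .fwd 7772, .fwd 43483],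
   .loop none [.bwd 43494, .bwd 7796, .fwd 43483],
   .loop none [.bwd 43702, .bwd 38671, .fwd 43483],
   .loop none [.bwd 43724, .bwd 39440, .fwd 43484],
   .loop none [.bwd 43725, .bwd 39441, .fwd 43484],
   .loop none [.bwd 43712, .fwd 35296, .fwd 43484],
   .loop none [.bwd 43495, .fwd 34338, .fwd 43484],
   .loop none [.bwd 43702, .bwd 38591, .fwd 43485],
   .loop none [.bwd 43543, .fwd 11807, .fwd 43485],
   .loop none [.bwd 43702, .fwd 34599, .fwd 43485],
   .loop none [.bwd 43496, .fwd 38997, .fwd 43485],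
   .loop none [.bwd 43492, .bwd 42103, .fwd 43486],
   .loop none [.bwd 43726, .fwd 9287, .fwd 43486],
   .loop none [.bwd 43710, .fwd 41132, .fwd 43486],
   .loop none [.bwd 43534, .bwd 5532, .fwd 43486],
   .loop none [.bwd 43519, .bwd 42258, .fwd 43486],
   .loop none [.bwd 43533, .bwd 9472, .fwd 43486],
   .loop none [.bwd 43545, .fwd 9470, .fwd 43486],
   .loop none [.bwd 43709, .fwd 42694, .fwd 43486],
   .loop none [.bwd 43723, .fwd 36519, .fwd 43486],
   .loop none [.bwd 43536, .fwd 16342, .fwd 43487],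
   .loop none [.bwd 43498, .bwd 39426, .fwd 43487],
   .loop none [.bwd 43491, .fwd 15837, .fwd 43487],
   .loop none [.bwd 43490, .bwd 39427, .fwd 43487],
   .loop none [.bwd 43729, .fwd 11029, .fwd 43488],
   .loop none [.bwd 43672, .fwd 39058, .fwd 43488],
   .loop none [.bwd 43499, .bwd 7830, .fwd 43488],
   .loop none [.bwd 43570, .bwd 17380, .fwd 43488]]

theorem just183_len : just183.length = 250 := by decide +kernel

theorem just183_ok : cert.okFacts 45750 just183 = true := by decide +kernel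

/-- justifications -/
noncomputable def just184 : List Cert.Just :=
  [.loop none [.bwd 43730, .bwd 37286, .fwd 43489],
   .loop none [.bwd 43672, .bwd 3455, .fwd 43489],
   .loop none [.bwd 43550, .fwd 40206, .fwd 43489],
   .loop none [.bwd 43500, .bwd 8958, .fwd 43489],
   .loop none [.bwd 43550, .bwd 35641, .fwd 43489],
   .loop none [.bwd 43566, .fwd 40210, .fwd 43489],
   .loop none [.bwd 43491, .bwd 38992, .fwd 43490],
   .loop none [.bwd 43729, .bwd 38993, .fwd 43490],
   .loop none [.bwd 43731, .fwd 39108, .fwd 43490],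
   .loop none [.bwd 43538, .fwd 6713, .fwd 43490],
   .loop none [.bwd 43501, .bwd 9644, .fwd 43490],
   .loop none [.bwd 43570, .fwd 7744, .fwd 43491],
   .loop none [.bwd 43502, .bwd 7727, .fwd 43491],
   .loop none [.bwd 43732, .bwd 4849, .fwd 43492],
   .loop none [.bwd 43711, .bwd 41795, .fwd 43492],
   .loop none [.bwd 43515, .fwd 4848, .fwd 43492],
   .loop none [.bwd 43535, .fwd 41619, .fwd 43492],
   .loop none [.bwd 43513, .fwd 35227, .fwd 43492],
   .loop none [.bwd 43539, .fwd 35768, .fwd 43492],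
   .loop none [.bwd 43723, .bwd 34979, .fwd 43492],
   .loop none [.bwd 43709, .bwd 41796, .fwd 43492],
   .loop none [.bwd 43498, .bwd 9942, .fwd 43493],
   .loop none [.bwd 43705, .bwd 39412, .fwd 43493],
   .loop none [.bwd 43536, .bwd 39416, .fwd 43493],
   .loop none [.bwd 43496, .fwd 38998, .fwd 43493],
   .loop none [.bwd 43705, .fwd 11015, .fwd 43494],
   .loop none [.bwd 43567, .fwd 7766, .fwd 43494],
   .loop none [.bwd 43537, .bwd 838, .fwd 43494],
   .loop none [.bwd 43704, .fwd 38969, .fwd 43494],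
   .loop none [.bwd 43735, .fwd 40067, .fwd 43495],
   .loop none [.bwd 43736, .bwd 7806, .fwd 43495],
   .loop none [.bwd 43552, .bwd 9300, .fwd 43495],
   .loop none [.bwd 43559, .fwd 5962, .fwd 43495],
   .loop none [.bwd 43704, .fwd 34739, .fwd 43496],
   .loop none [.bwd 43704, .bwd 38995, .fwd 43496],
   .loop none [.bwd 43538, .fwd 38227, .fwd 43496],
   .loop none [.bwd 43503, .fwd 40115, .fwd 43497],
   .loop none [.bwd 43737, .bwd 6649, .fwd 43497],
   .loop none [.bwd 43546, .fwd 42223, .fwd 43497],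
   .loop none [.bwd 43514, .fwd 6648, .fwd 43497],
   .loop none [.bwd 43533, .bwd 42303, .fwd 43497],
   .loop none [.bwd 43518, .bwd 9654, .fwd 43497],
   .loop none [.bwd 43565, .fwd 9628, .fwd 43497],
   .loop none [.bwd 43548, .fwd 42821, .fwd 43497],
   .loop none [.bwd 43564, .bwd 40100, .fwd 43497],
   .loop none [.bwd 43676, .bwd 9943, .fwd 43498],
   .loop none [.bwd 43551, .fwd 11596, .fwd 43498],
   .loop none [.bwd 43540, .fwd 39408, .fwd 43498],
   .loop none [.bwd 43502, .bwd 38856, .fwd 43498],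
   .loop none [.bwd 43501, .fwd 38589, .fwd 43498],
   .loop none [.bwd 43676, .fwd 38555, .fwd 43499],
   .loop none [.bwd 43541, .bwd 905, .fwd 43499],
   .loop none [.bwd 43573, .fwd 13752, .fwd 43499],
   .loop none [.bwd 43551, .fwd 35630, .fwd 43500],
   .loop none [.bwd 43502, .bwd 38579, .fwd 43501],
   .loop none [.bwd 43676, .bwd 11594, .fwd 43501],
   .loop none [.bwd 43740, .fwd 38652, .fwd 43501],
   .loop none [.bwd 43675, .bwd 6850, .fwd 43501],
   .loop none [.bwd 43543, .fwd 38987, .fwd 43501],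
   .loop none [.bwd 43573, .fwd 7748, .fwd 43502],
   .loop none [.bwd 43544, .bwd 734, .fwd 43502],
   .loop none [.bwd 43528, .fwd 9277, .fwd 43503],
   .loop none [.bwd 43513, .fwd 42301, .fwd 43503],
   .loop none [.bwd 43522, .fwd 34580, .fwd 43503],
   .loop none [.bwd 43549, .fwd 35000, .fwd 43503],
   .loop none [.bwd 43564, .fwd 40345, .fwd 43503],
   .loop none [.bwd 43548, .fwd 35320, .fwd 43503],
   .loop none [.bwd 43525, .bwd 40073, .fwd 43504],
   .loop none [.bwd 43706, .fwd 36849, .fwd 43504],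
   .loop none [.bwd 43664, .bwd 42451, .fwd 43504],
   .loop none [.bwd 43724, .bwd 40075, .fwd 43504],
   .loop none [.bwd 43735, .bwd 40076, .fwd 43504],
   .loop none [.bwd 43510, .fwd 42603, .fwd 43504],
   .loop none [.bwd 43509, .bwd 43044, .fwd 43504],
   .loop none [.bwd 43706, .fwd 39700, .fwd 43505],
   .loop none [.bwd 43648, .fwd 41572, .fwd 43505],
   .loop none [.bwd 43725, .bwd 8941, .fwd 43505],
   .loop none [.bwd 43736, .bwd 39696, .fwd 43505],
   .loop none [.bwd 43742, .bwd 40599, .fwd 43506],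
   .loop none [.bwd 43557, .fwd 34870, .fwd 43506],
   .loop none [.bwd 43743, .fwd 42478, .fwd 43506],
   .loop none [.bwd 43712, .bwd 9459, .fwd 43506],
   .loop none [.bwd 43552, .fwd 9434, .fwd 43506],
   .loop none [.bwd 43743, .bwd 42685, .fwd 43507],
   .loop none [.bwd 43745, .bwd 35154, .fwd 43507],
   .loop none [.bwd 43743, .fwd 5915, .fwd 43507],
   .loop none [.bwd 43548, .bwd 5916, .fwd 43507],
   .loop none [.bwd 43742, .bwd 42686, .fwd 43507],
   .loop none [.bwd 43718, .bwd 11564, .fwd 43507],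
   .loop none [.bwd 43531, .fwd 39387, .fwd 43507],
   .loop none [.bwd 43530, .bwd 42820, .fwd 43507],
   .loop none [.bwd 43664, .fwd 42360, .fwd 43508],
   .loop none [.bwd 43648, .fwd 41043, .fwd 43508],
   .loop none [.bwd 43749, .bwd 36762, .fwd 43508],
   .loop none [.bwd 43516, .fwd 15618, .fwd 43508],
   .loop none [.bwd 43558, .fwd 41839, .fwd 43508],
   .loop none [.bwd 43661, .fwd 43041, .fwd 43508],
   .loop none [.bwd 43510, .bwd 42587, .fwd 43509],
   .loop none [.bwd 43694, .bwd 40984, .fwd 43509],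
   .loop none [.bwd 43747, .fwd 12872, .fwd 43509],
   .loop none [.bwd 43751, .bwd 36480, .fwd 43509],
   .loop none [.bwd 43747, .fwd 40949, .fwd 43509],
   .loop none [.bwd 43531, .bwd 40985, .fwd 43509],
   .loop none [.bwd 43661, .fwd 40968, .fwd 43509],
   .loop none [.bwd 43727, .bwd 36482, .fwd 43509],
   .loop none [.bwd 43738, .bwd 40986, .fwd 43509],
   .loop none [.bwd 43746, .fwd 40885, .fwd 43510],
   .loop none [.bwd 43750, .fwd 36261, .fwd 43510],
   .loop none [.bwd 43746, .fwd 5483, .fwd 43510],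
   .loop none [.bwd 43530, .fwd 42717, .fwd 43510],
   .loop none [.bwd 43728, .bwd 9465, .fwd 43510],
   .loop none [.bwd 43739, .fwd 9437, .fwd 43510],
   .loop none [.bwd 43532, .fwd 40389, .fwd 43511],
   .loop none [.bwd 43749, .fwd 20170, .fwd 43511],
   .loop none [.bwd 43634, .bwd 20171, .fwd 43511],
   .loop none [.bwd 43521, .bwd 42294, .fwd 43511],
   .loop none [.bwd 43564, .bwd 36556, .fwd 43511],
   .loop none [.bwd 43518, .fwd 42869, .fwd 43511],
   .loop none [.bwd 43522, .fwd 40132, .fwd 43511],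
   .loop none [.bwd 43529, .bwd 42552, .fwd 43512],
   .loop none [.bwd 43743, .bwd 35769, .fwd 43512],
   .loop none [.bwd 43636, .fwd 12606, .fwd 43512],
   .loop none [.bwd 43682, .bwd 14501, .fwd 43512],
   .loop none [.bwd 43525, .fwd 42563, .fwd 43512],
   .loop none [.bwd 43723, .bwd 14791, .fwd 43512],
   .loop none [.bwd 43545, .bwd 36658, .fwd 43512],
   .loop none [.bwd 43539, .bwd 14987, .fwd 43512],
   .loop none [.bwd 43533, .bwd 42309, .fwd 43513],
   .loop none [.bwd 43548, .fwd 5917, .fwd 43513],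
   .loop none [.bwd 43547, .bwd 35226, .fwd 43513],
   .loop none [.bwd 43534, .bwd 42302, .fwd 43513],
   .loop none [.bwd 43539, .bwd 11568, .fwd 43513],
   .loop none [.bwd 43757, .fwd 35555, .fwd 43513],
   .loop none [.bwd 43528, .fwd 40203, .fwd 43514],
   .loop none [.bwd 43742, .bwd 36670, .fwd 43514],
   .loop none [.bwd 43525, .fwd 6647, .fwd 43514],
   .loop none [.bwd 43545, .fwd 42468, .fwd 43514],
   .loop none [.bwd 43566, .bwd 9651, .fwd 43514],
   .loop none [.bwd 43525, .bwd 40598, .fwd 43514],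
   .loop none [.bwd 43534, .fwd 42515, .fwd 43515],
   .loop none [.bwd 43752, .fwd 34972, .fwd 43515],
   .loop none [.bwd 43757, .fwd 4847, .fwd 43515],
   .loop none [.bwd 43533, .fwd 42308, .fwd 43515],
   .loop none [.bwd 43547, .bwd 34657, .fwd 43515],
   .loop none [.bwd 43517, .fwd 42369, .fwd 43516],
   .loop none [.bwd 43539, .bwd 36188, .fwd 43516],
   .loop none [.bwd 43711, .fwd 41502, .fwd 43516],
   .loop none [.bwd 43547, .bwd 36191, .fwd 43516],
   .loop none [.bwd 43664, .fwd 36301, .fwd 43517],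
   .loop none [.bwd 43545, .bwd 5486, .fwd 43517],
   .loop none [.bwd 43664, .bwd 41880, .fwd 43517],
   .loop none [.bwd 43525, .bwd 42370, .fwd 43517],
   .loop none [.bwd 43710, .bwd 41359, .fwd 43517],
   .loop none [.bwd 43759, .fwd 9439, .fwd 43517],
   .loop none [.bwd 43522, .fwd 40130, .fwd 43518],
   .loop none [.bwd 43753, .bwd 6719, .fwd 43518],
   .loop none [.bwd 43521, .bwd 36507, .fwd 43518],
   .loop none [.bwd 43566, .fwd 6718, .fwd 43518],
   .loop none [.bwd 43565, .bwd 9655, .fwd 43518],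
   .loop none [.bwd 43532, .fwd 40390, .fwd 43518],
   .loop none [.bwd 43535, .fwd 11746, .fwd 43519],
   .loop none [.bwd 43754, .fwd 9888, .fwd 43519],
   .loop none [.bwd 43756, .fwd 42157, .fwd 43519],
   .loop none [.bwd 43535, .fwd 11725, .fwd 43519],
   .loop none [.bwd 43566, .fwd 41630, .fwd 43519],
   .loop none [.bwd 43708, .bwd 42931, .fwd 43519],
   .loop none [.bwd 43521, .fwd 37262, .fwd 43520],
   .loop none [.bwd 43522, .fwd 40131, .fwd 43520],
   .loop none [.bwd 43532, .fwd 42292, .fwd 43520],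
   .loop none [.bwd 43536, .fwd 38886, .fwd 43521],
   .loop none [.bwd 43708, .bwd 42257, .fwd 43521],
   .loop none [.bwd 43546, .fwd 42226, .fwd 43521],
   .loop none [.bwd 43550, .fwd 35411, .fwd 43522],
   .loop none [.bwd 43549, .bwd 9501, .fwd 43522],
   .loop none [.bwd 43532, .fwd 35323, .fwd 43522],
   .loop none [.bwd 43753, .bwd 42424, .fwd 43523],
   .loop none [.bwd 43542, .bwd 4589, .fwd 43523],
   .loop none [.bwd 43712, .bwd 9294, .fwd 43523],
   .loop none [.bwd 43664, .fwd 42437, .fwd 43523],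
   .loop none [.bwd 43760, .fwd 42402, .fwd 43523],
   .loop none [.bwd 43717, .bwd 35833, .fwd 43523],
   .loop none [.bwd 43557, .fwd 34871, .fwd 43523],
   .loop none [.bwd 43651, .fwd 42900, .fwd 43523],
   .loop none [.bwd 43641, .fwd 39527, .fwd 43524],
   .loop none [.bwd 43729, .bwd 10003, .fwd 43524],
   .loop none [.bwd 43729, .bwd 10017, .fwd 43524],
   .loop none [.bwd 43676, .bwd 38956, .fwd 43524],
   .loop none [.bwd 43527, .bwd 31885, .fwd 43524],
   .loop none [.bwd 43641, .fwd 6646, .fwd 43525],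
   .loop none [.bwd 43730, .bwd 9650, .fwd 43525],
   .loop none [.bwd 43551, .fwd 9626, .fwd 43525],
   .loop none [.bwd 43528, .bwd 42844, .fwd 43525],
   .loop none [.bwd 43641, .bwd 34363, .fwd 43526],
   .loop none [.bwd 43526, .fwd 39048, .fwd 43526],
   .loop none [.bwd 43635, .fwd 41783, .fwd 43526],
   .loop none [.bwd 43672, .bwd 9013, .fwd 43526],
   .loop none [.bwd 43731, .bwd 10033, .fwd 43527],
   .loop none [.bwd 43731, .bwd 10047, .fwd 43527],
   .loop none [.bwd 43740, .bwd 11825, .fwd 43527],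
   .loop none [.bwd 43539, .bwd 41951, .fwd 43528],
   .loop none [.bwd 43550, .bwd 9494, .fwd 43528],
   .loop none [.bwd 43635, .bwd 5656, .fwd 43529],
   .loop none [.bwd 43681, .bwd 36740, .fwd 43529],
   .loop none [.bwd 43709, .bwd 9442, .fwd 43529],
   .loop none [.bwd 43758, .fwd 9476, .fwd 43529],
   .loop none [.bwd 43539, .fwd 42911, .fwd 43529],
   .loop none [.bwd 43545, .bwd 42770, .fwd 43529],
   .loop none [.bwd 43531, .bwd 39548, .fwd 43530],
   .loop none [.bwd 43641, .bwd 6645, .fwd 43530],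
   .loop none [.bwd 43763, .fwd 40166, .fwd 43530],
   .loop none [.bwd 43530, .fwd 39551, .fwd 43530],
   .loop none [.bwd 43750, .bwd 42716, .fwd 43530],
   .loop none [.bwd 43733, .bwd 9645, .fwd 43530],
   .loop none [.bwd 43675, .fwd 9623, .fwd 43530],
   .loop none [.bwd 43743, .bwd 42841, .fwd 43530],
   .loop none [.bwd 43576, .fwd 9767, .fwd 43531],
   .loop none [.bwd 43531, .fwd 39386, .fwd 43531],
   .loop none [.bwd 43751, .fwd 40743, .fwd 43531],
   .loop none [.bwd 43734, .bwd 11653, .fwd 43531],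
   .loop none [.bwd 43741, .fwd 33602, .fwd 43531],
   .loop none [.bwd 43743, .fwd 35569, .fwd 43531],
   .loop none [.bwd 43539, .bwd 9702, .fwd 43532],
   .loop none [.bwd 43633, .bwd 35784, .fwd 43532],
   .loop none [.bwd 43718, .fwd 9701, .fwd 43532],
   .loop none [.bwd 43732, .bwd 35322, .fwd 43532],
   .loop none [.bwd 43548, .fwd 11566, .fwd 43532],
   .loop none [.bwd 43681, .fwd 36694, .fwd 43533],
   .loop none [.bwd 43759, .fwd 5653, .fwd 43533],
   .loop none [.bwd 43545, .bwd 9440, .fwd 43533],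
   .loop none [.bwd 43758, .bwd 42522, .fwd 43533],
   .loop none [.bwd 43757, .fwd 36455, .fwd 43533],
   .loop none [.bwd 43758, .bwd 5533, .fwd 43534],
   .loop none [.bwd 43758, .bwd 42208, .fwd 43534],
   .loop none [.bwd 43759, .fwd 42766, .fwd 43534],
   .loop none [.bwd 43547, .bwd 42721, .fwd 43534],
   .loop none [.bwd 43711, .fwd 11740, .fwd 43535],
   .loop none [.bwd 43732, .bwd 41789, .fwd 43535],
   .loop none [.bwd 43550, .fwd 41887, .fwd 43535],
   .loop none [.bwd 43708, .fwd 42245, .fwd 43535],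
   .loop none [.bwd 43540, .bwd 18176, .fwd 43536],
   .loop none [.bwd 43652, .fwd 18182, .fwd 43536],
   .loop none [.bwd 43538, .fwd 38606, .fwd 43536],
   .loop none [.bwd 43652, .bwd 11004, .fwd 43537],
   .loop none [.bwd 43570, .fwd 7764, .fwd 43537],
   .loop none [.bwd 43707, .bwd 11018, .fwd 43537],
   .loop none [.bwd 43707, .bwd 38604, .fwd 43538],
   .loop none [.bwd 43538, .fwd 38605, .fwd 43538],
   .loop none [.bwd 43545, .bwd 42304, .fwd 43539],
   .loop none [.bwd 43760, .bwd 39407, .fwd 43540],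
   .loop none [.bwd 43544, .fwd 15971, .fwd 43540]]

theorem just184_len : just184.length = 250 := by decide +kernel

theorem just184_ok : cert.okFacts 46000 just184 = true := by decide +kernel

/-- justifications -/
noncomputable def just185 : List Cert.Just :=
  [.loop none [.bwd 43543, .bwd 33857, .fwd 43540],
   .loop none [.bwd 43764, .fwd 38958, .fwd 43541],
   .loop none [.bwd 43583, .fwd 10997, .fwd 43541],
   .loop none [.bwd 43760, .bwd 39598, .fwd 43542],
   .loop none [.bwd 43765, .fwd 9210, .fwd 43542],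
   .loop none [.bwd 43753, .fwd 42432, .fwd 43542],
   .loop none [.bwd 43544, .bwd 33484, .fwd 43543],
   .loop none [.bwd 43764, .bwd 38984, .fwd 43543],
   .loop none [.bwd 43766, .bwd 11810, .fwd 43543],
   .loop none [.bwd 43583, .bwd 7738, .fwd 43544],
   .loop none [.bwd 43767, .fwd 36541, .fwd 43545],
   .loop none [.bwd 43554, .bwd 42221, .fwd 43546],
   .loop none [.bwd 43759, .fwd 42483, .fwd 43546],
   .loop none [.bwd 43708, .fwd 42250, .fwd 43546],
   .loop none [.bwd 43759, .fwd 42530, .fwd 43547],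
   .loop none [.bwd 43645, .fwd 41147, .fwd 43547],
   .loop none [.bwd 43558, .fwd 41838, .fwd 43547],
   .loop none [.bwd 43758, .bwd 42299, .fwd 43547],
   .loop none [.bwd 43711, .fwd 41501, .fwd 43547],
   .loop none [.bwd 43564, .fwd 40342, .fwd 43548],
   .loop none [.bwd 43658, .fwd 42173, .fwd 43548],
   .loop none [.bwd 43758, .fwd 41932, .fwd 43548],
   .loop none [.bwd 43732, .fwd 35152, .fwd 43548],
   .loop none [.bwd 43565, .bwd 39500, .fwd 43549],
   .loop none [.bwd 43550, .fwd 35412, .fwd 43549],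
   .loop none [.bwd 43756, .fwd 42164, .fwd 43549],
   .loop none [.bwd 43732, .bwd 18136, .fwd 43549],
   .loop none [.bwd 43566, .bwd 40205, .fwd 43550],
   .loop none [.bwd 43730, .fwd 42864, .fwd 43550],
   .loop none [.bwd 43735, .bwd 11597, .fwd 43551],
   .loop none [.bwd 43730, .fwd 9652, .fwd 43551],
   .loop none [.bwd 43559, .bwd 41330, .fwd 43552],
   .loop none [.bwd 43717, .fwd 35405, .fwd 43552],
   .loop none [.bwd 43554, .bwd 41333, .fwd 43552],
   .loop none [.bwd 43735, .fwd 41339, .fwd 43552],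
   .loop none [.bwd 43712, .fwd 9460, .fwd 43552],
   .loop none [.bwd 43764, .fwd 38961, .fwd 43553],
   .loop none [.bwd 43764, .bwd 39545, .fwd 43553],
   .loop none [.bwd 43713, .bwd 39546, .fwd 43553],
   .loop none [.bwd 43556, .fwd 16810, .fwd 43553],
   .loop none [.bwd 43775, .fwd 34807, .fwd 43554],
   .loop none [.bwd 43737, .fwd 36253, .fwd 43554],
   .loop none [.bwd 43760, .bwd 36437, .fwd 43554],
   .loop none [.bwd 43714, .fwd 42761, .fwd 43554],
   .loop none [.bwd 43561, .fwd 40337, .fwd 43554],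
   .loop none [.bwd 43560, .bwd 34438, .fwd 43554],
   .loop none [.bwd 43775, .fwd 39917, .fwd 43555],
   .loop none [.bwd 43563, .bwd 39274, .fwd 43555],
   .loop none [.bwd 43765, .bwd 9205, .fwd 43555],
   .loop none [.bwd 43715, .fwd 9209, .fwd 43555],
   .loop none [.bwd 43669, .fwd 39724, .fwd 43556],
   .loop none [.bwd 43766, .fwd 32730, .fwd 43556],
   .loop none [.bwd 43766, .fwd 32731, .fwd 43556],
   .loop none [.bwd 43716, .fwd 32740, .fwd 43556],
   .loop none [.bwd 43737, .bwd 40339, .fwd 43557],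
   .loop none [.bwd 43735, .fwd 41340, .fwd 43557],
   .loop none [.bwd 43682, .fwd 41923, .fwd 43557],
   .loop none [.bwd 43717, .fwd 35424, .fwd 43557],
   .loop none [.bwd 43669, .bwd 34872, .fwd 43557],
   .loop none [.bwd 43586, .bwd 40341, .fwd 43557],
   .loop none [.bwd 43776, .fwd 41761, .fwd 43558],
   .loop none [.bwd 43777, .bwd 41837, .fwd 43558],
   .loop none [.bwd 43682, .fwd 41922, .fwd 43558],
   .loop none [.bwd 43752, .bwd 35159, .fwd 43558],
   .loop none [.bwd 43754, .fwd 41637, .fwd 43558],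
   .loop none [.bwd 43659, .bwd 41840, .fwd 43558],
   .loop none [.bwd 43778, .fwd 7816, .fwd 43559],
   .loop none [.bwd 43735, .fwd 41338, .fwd 43559],
   .loop none [.bwd 43742, .bwd 41328, .fwd 43559],
   .loop none [.bwd 43774, .fwd 40868, .fwd 43559],
   .loop none [.bwd 43773, .bwd 41329, .fwd 43559],
   .loop none [.bwd 43561, .bwd 40471, .fwd 43560],
   .loop none [.bwd 43587, .bwd 9930, .fwd 43560],
   .loop none [.bwd 43780, .fwd 35099, .fwd 43560],
   .loop none [.bwd 43586, .bwd 11754, .fwd 43560],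
   .loop none [.bwd 43744, .fwd 9929, .fwd 43560],
   .loop none [.bwd 43782, .fwd 34433, .fwd 43560],
   .loop none [.bwd 43774, .fwd 40587, .fwd 43560],
   .loop none [.bwd 43768, .bwd 36417, .fwd 43560],
   .loop none [.bwd 43719, .bwd 11756, .fwd 43560],
   .loop none [.bwd 43657, .bwd 40335, .fwd 43561],
   .loop none [.bwd 43779, .fwd 35688, .fwd 43561],
   .loop none [.bwd 43669, .fwd 5911, .fwd 43561],
   .loop none [.bwd 43659, .fwd 41651, .fwd 43561],
   .loop none [.bwd 43773, .fwd 41101, .fwd 43561],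
   .loop none [.bwd 43769, .bwd 11556, .fwd 43561],
   .loop none [.bwd 43720, .fwd 9548, .fwd 43561],
   .loop none [.bwd 43563, .bwd 39866, .fwd 43562],
   .loop none [.bwd 43775, .fwd 5909, .fwd 43562],
   .loop none [.bwd 43669, .bwd 5910, .fwd 43562],
   .loop none [.bwd 43775, .fwd 39918, .fwd 43562],
   .loop none [.bwd 43680, .fwd 41473, .fwd 43562],
   .loop none [.bwd 43770, .bwd 11552, .fwd 43562],
   .loop none [.bwd 43721, .fwd 9546, .fwd 43562],
   .loop none [.bwd 43781, .bwd 34848, .fwd 43562],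
   .loop none [.bwd 43586, .bwd 7673, .fwd 43563],
   .loop none [.bwd 43771, .fwd 39403, .fwd 43563],
   .loop none [.bwd 43722, .fwd 39888, .fwd 43563],
   .loop none [.bwd 43787, .fwd 35843, .fwd 43563],
   .loop none [.bwd 43781, .fwd 39896, .fwd 43563],
   .loop none [.bwd 43682, .bwd 9814, .fwd 43564],
   .loop none [.bwd 43657, .bwd 40343, .fwd 43564],
   .loop none [.bwd 43743, .bwd 36107, .fwd 43564],
   .loop none [.bwd 43757, .fwd 42499, .fwd 43564],
   .loop none [.bwd 43756, .fwd 42162, .fwd 43564],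
   .loop none [.bwd 43783, .bwd 6855, .fwd 43565],
   .loop none [.bwd 43708, .fwd 42243, .fwd 43565],
   .loop none [.bwd 43566, .bwd 41625, .fwd 43565],
   .loop none [.bwd 43732, .fwd 42546, .fwd 43565],
   .loop none [.bwd 43756, .bwd 42884, .fwd 43565],
   .loop none [.bwd 43784, .fwd 36384, .fwd 43566],
   .loop none [.bwd 43730, .fwd 6717, .fwd 43566],
   .loop none [.bwd 43730, .bwd 42868, .fwd 43566],
   .loop none [.bwd 43716, .fwd 32738, .fwd 43567],
   .loop none [.bwd 43573, .bwd 765, .fwd 43567],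
   .loop none [.bwd 43570, .fwd 764, .fwd 43567],
   .loop none [.bwd 43583, .fwd 7747, .fwd 43567],
   .loop none [.bwd 43713, .fwd 39543, .fwd 43567],
   .loop none [.bwd 43569, .bwd 39759, .fwd 43568],
   .loop none [.bwd 43790, .bwd 3313, .fwd 43568],
   .loop none [.bwd 43686, .fwd 40379, .fwd 43568],
   .loop none [.bwd 43584, .fwd 8904, .fwd 43568],
   .loop none [.bwd 43650, .fwd 32853, .fwd 43569],
   .loop none [.bwd 43685, .bwd 10850, .fwd 43569],
   .loop none [.bwd 43585, .fwd 9560, .fwd 43569],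
   .loop none [.bwd 43794, .bwd 35549, .fwd 43569],
   .loop none [.bwd 43793, .fwd 39948, .fwd 43569],
   .loop none [.bwd 43731, .fwd 32905, .fwd 43570],
   .loop none [.bwd 43573, .bwd 7750, .fwd 43570],
   .loop none [.bwd 43729, .fwd 11799, .fwd 43570],
   .loop none [.bwd 43572, .bwd 40276, .fwd 43571],
   .loop none [.bwd 43797, .bwd 10244, .fwd 43571],
   .loop none [.bwd 43793, .fwd 39944, .fwd 43571],
   .loop none [.bwd 43684, .bwd 39916, .fwd 43571],
   .loop none [.bwd 43574, .bwd 10946, .fwd 43571],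
   .loop none [.bwd 43791, .bwd 33414, .fwd 43571],
   .loop none [.bwd 43795, .fwd 33388, .fwd 43571],
   .loop none [.bwd 43725, .fwd 3403, .fwd 43572],
   .loop none [.bwd 43794, .fwd 39772, .fwd 43572],
   .loop none [.bwd 43683, .fwd 40327, .fwd 43572],
   .loop none [.bwd 43575, .fwd 39776, .fwd 43572],
   .loop none [.bwd 43795, .fwd 40329, .fwd 43572],
   .loop none [.bwd 43791, .fwd 40369, .fwd 43572],
   .loop none [.bwd 43740, .fwd 33078, .fwd 43573],
   .loop none [.bwd 43583, .bwd 766, .fwd 43573],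
   .loop none [.bwd 43676, .bwd 38649, .fwd 43573],
   .loop none [.bwd 43575, .fwd 32135, .fwd 43574],
   .loop none [.bwd 43800, .fwd 32866, .fwd 43574],
   .loop none [.bwd 43590, .bwd 12262, .fwd 43574],
   .loop none [.bwd 43699, .fwd 643, .fwd 43574],
   .loop none [.bwd 43587, .fwd 33058, .fwd 43574],
   .loop none [.bwd 43592, .fwd 33140, .fwd 43574],
   .loop none [.bwd 43736, .fwd 33114, .fwd 43575],
   .loop none [.bwd 43591, .bwd 9401, .fwd 43575],
   .loop none [.bwd 43695, .fwd 566, .fwd 43575],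
   .loop none [.bwd 43592, .fwd 11625, .fwd 43575],
   .loop none [.bwd 43587, .fwd 31537, .fwd 43575],
   .loop none [.bwd 43763, .fwd 33404, .fwd 43576],
   .loop none [.bwd 43745, .bwd 11648, .fwd 43576],
   .loop none [.bwd 43744, .bwd 40757, .fwd 43576],
   .loop none [.bwd 43747, .fwd 41140, .fwd 43576],
   .loop none [.bwd 43797, .bwd 11077, .fwd 43576],
   .loop none [.bwd 43800, .bwd 34078, .fwd 43576],
   .loop none [.bwd 43745, .bwd 39655, .fwd 43576],
   .loop none [.bwd 43578, .fwd 32150, .fwd 43577],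
   .loop none [.bwd 43745, .bwd 9810, .fwd 43577],
   .loop none [.bwd 43592, .fwd 9809, .fwd 43577],
   .loop none [.bwd 43668, .bwd 39850, .fwd 43577],
   .loop none [.bwd 43793, .fwd 39947, .fwd 43577],
   .loop none [.bwd 43590, .fwd 14446, .fwd 43577],
   .loop none [.bwd 43585, .fwd 42880, .fwd 43577],
   .loop none [.bwd 43584, .bwd 40727, .fwd 43577],
   .loop none [.bwd 43744, .bwd 11609, .fwd 43578],
   .loop none [.bwd 43587, .bwd 11608, .fwd 43578],
   .loop none [.bwd 43667, .fwd 40159, .fwd 43578],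
   .loop none [.bwd 43794, .bwd 35552, .fwd 43578],
   .loop none [.bwd 43591, .fwd 9676, .fwd 43578],
   .loop none [.bwd 43584, .fwd 42267, .fwd 43578],
   .loop none [.bwd 43585, .bwd 11612, .fwd 43578],
   .loop none [.bwd 43582, .fwd 41315, .fwd 43579],
   .loop none [.bwd 43747, .fwd 41139, .fwd 43579],
   .loop none [.bwd 43668, .fwd 41303, .fwd 43579],
   .loop none [.bwd 43694, .bwd 12757, .fwd 43579],
   .loop none [.bwd 43677, .bwd 39907, .fwd 43579],
   .loop none [.bwd 43637, .fwd 41461, .fwd 43579],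
   .loop none [.bwd 43581, .bwd 36088, .fwd 43580],
   .loop none [.bwd 43768, .bwd 5866, .fwd 43580],
   .loop none [.bwd 43584, .bwd 40382, .fwd 43580],
   .loop none [.bwd 43794, .fwd 5865, .fwd 43580],
   .loop none [.bwd 43584, .bwd 40148, .fwd 43580],
   .loop none [.bwd 43806, .fwd 41169, .fwd 43580],
   .loop none [.bwd 43791, .bwd 36092, .fwd 43580],
   .loop none [.bwd 43587, .fwd 36096, .fwd 43580],
   .loop none [.bwd 43633, .fwd 14276, .fwd 43581],
   .loop none [.bwd 43585, .bwd 6794, .fwd 43581],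
   .loop none [.bwd 43793, .fwd 39945, .fwd 43581],
   .loop none [.bwd 43585, .fwd 40458, .fwd 43581],
   .loop none [.bwd 43637, .bwd 39849, .fwd 43581],
   .loop none [.bwd 43795, .bwd 9559, .fwd 43581],
   .loop none [.bwd 43592, .fwd 11455, .fwd 43581],
   .loop none [.bwd 43648, .fwd 5659, .fwd 43582],
   .loop none [.bwd 43667, .fwd 41816, .fwd 43582],
   .loop none [.bwd 43647, .fwd 36063, .fwd 43582],
   .loop none [.bwd 43678, .fwd 9484, .fwd 43582],
   .loop none [.bwd 43637, .fwd 41462, .fwd 43582],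
   .loop none [.bwd 43806, .bwd 42776, .fwd 43582],
   .loop none [.bwd 43766, .fwd 32728, .fwd 43583],
   .loop none [.bwd 43762, .fwd 39648, .fwd 43583],
   .loop none [.bwd 43764, .bwd 39081, .fwd 43583],
   .loop none [.bwd 43585, .bwd 40265, .fwd 43584],
   .loop none [.bwd 43762, .bwd 4411, .fwd 43584],
   .loop none [.bwd 43665, .fwd 40726, .fwd 43584],
   .loop none [.bwd 43669, .bwd 39869, .fwd 43586],
   .loop none [.bwd 43738, .fwd 40483, .fwd 43586],
   .loop none [.bwd 43679, .bwd 739, .fwd 43586],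
   .loop none [.bwd 43762, .bwd 39874, .fwd 43586],
   .loop none [.bwd 43790, .bwd 39875, .fwd 43586],
   .loop none [.bwd 43737, .fwd 36256, .fwd 43586],
   .loop none [.bwd 43592, .bwd 31534, .fwd 43587],
   .loop none [.bwd 43606, .bwd 9931, .fwd 43587],
   .loop none [.bwd 43791, .fwd 11611, .fwd 43587],
   .loop none [.bwd 43593, .fwd 41210, .fwd 43588],
   .loop none [.bwd 43738, .bwd 10341, .fwd 43588],
   .loop none [.bwd 43810, .bwd 40936, .fwd 43588],
   .loop none [.bwd 43677, .fwd 10340, .fwd 43588],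
   .loop none [.bwd 43810, .fwd 40806, .fwd 43588],
   .loop none [.bwd 43694, .bwd 39901, .fwd 43588],
   .loop none [.bwd 43679, .bwd 7737, .fwd 43589],
   .loop none [.bwd 43809, .fwd 32827, .fwd 43589],
   .loop none [.bwd 43688, .bwd 706, .fwd 43589],
   .loop none [.bwd 43806, .fwd 41172, .fwd 43589],
   .loop none [.bwd 43678, .fwd 41314, .fwd 43589],
   .loop none [.bwd 43677, .fwd 32837, .fwd 43589],
   .loop none [.bwd 43591, .fwd 32952, .fwd 43590],
   .loop none [.bwd 43795, .bwd 12263, .fwd 43590],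
   .loop none [.bwd 43812, .fwd 41787, .fwd 43590],
   .loop none [.bwd 43678, .fwd 41311, .fwd 43590],
   .loop none [.bwd 43793, .fwd 39946, .fwd 43590],
   .loop none [.bwd 43791, .bwd 10378, .fwd 43591],
   .loop none [.bwd 43813, .fwd 40497, .fwd 43591],
   .loop none [.bwd 43677, .fwd 10886, .fwd 43591],
   .loop none [.bwd 43794, .fwd 35547, .fwd 43591],
   .loop none [.bwd 43658, .fwd 42172, .fwd 43592],
   .loop none [.bwd 43595, .fwd 9707, .fwd 43592],
   .loop none [.bwd 43660, .bwd 11154, .fwd 43592],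
   .loop none [.bwd 43795, .fwd 11152, .fwd 43592],
   .loop none [.bwd 43645, .bwd 9283, .fwd 43593],
   .loop none [.bwd 43818, .bwd 4577, .fwd 43593],
   .loop none [.bwd 43678, .bwd 9282, .fwd 43593],
   .loop none [.bwd 43818, .bwd 41215, .fwd 43593]]

theorem just185_len : just185.length = 250 := by decide +kernel

theorem just185_ok : cert.okFacts 46250 just185 = true := by decide +kernel

/-- justifications -/
noncomputable def just186 : List Cert.Just :=
  [.loop none [.bwd 43647, .fwd 36064, .fwd 43593],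
   .loop none [.bwd 43813, .fwd 36775, .fwd 43593],
   .loop none [.bwd 43812, .bwd 42316, .fwd 43593],
   .loop none [.bwd 43626, .bwd 42703, .fwd 43594],
   .loop none [.bwd 43614, .bwd 5662, .fwd 43594],
   .loop none [.bwd 43613, .bwd 9448, .fwd 43594],
   .loop none [.bwd 43687, .fwd 9488, .fwd 43594],
   .loop none [.bwd 43596, .fwd 41557, .fwd 43594],
   .loop none [.bwd 43627, .bwd 42785, .fwd 43594],
   .loop none [.bwd 43606, .fwd 32681, .fwd 43595],
   .loop none [.bwd 43687, .fwd 41696, .fwd 43595],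
   .loop none [.bwd 43609, .bwd 39830, .fwd 43595],
   .loop none [.bwd 43604, .fwd 11576, .fwd 43595],
   .loop none [.bwd 43627, .fwd 42727, .fwd 43596],
   .loop none [.bwd 43668, .bwd 14691, .fwd 43596],
   .loop none [.bwd 43601, .fwd 41754, .fwd 43596],
   .loop none [.bwd 43605, .fwd 10536, .fwd 43596],
   .loop none [.bwd 43692, .fwd 10628, .fwd 43596],
   .loop none [.bwd 43697, .bwd 41555, .fwd 43596],
   .loop none [.bwd 43626, .bwd 41556, .fwd 43596],
   .loop none [.bwd 43608, .fwd 40455, .fwd 43597],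
   .loop none [.bwd 43793, .bwd 14535, .fwd 43597],
   .loop none [.bwd 43604, .bwd 40443, .fwd 43597],
   .loop none [.bwd 43696, .fwd 9911, .fwd 43597],
   .loop none [.bwd 43628, .fwd 42782, .fwd 43598],
   .loop none [.bwd 43807, .bwd 14536, .fwd 43598],
   .loop none [.bwd 43697, .fwd 41299, .fwd 43598],
   .loop none [.bwd 43696, .bwd 10685, .fwd 43598],
   .loop none [.bwd 43605, .fwd 11511, .fwd 43598],
   .loop none [.bwd 43624, .bwd 41293, .fwd 43598],
   .loop none [.bwd 43629, .fwd 37212, .fwd 43599],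
   .loop none [.bwd 43808, .fwd 5493, .fwd 43599],
   .loop none [.bwd 43613, .bwd 5494, .fwd 43599],
   .loop none [.bwd 43610, .fwd 35831, .fwd 43599],
   .loop none [.bwd 43602, .bwd 41518, .fwd 43599],
   .loop none [.bwd 43697, .fwd 23196, .fwd 43599],
   .loop none [.bwd 43632, .fwd 43029, .fwd 43599],
   .loop none [.bwd 43614, .fwd 35909, .fwd 43599],
   .loop none [.bwd 43601, .bwd 42726, .fwd 43600],
   .loop none [.bwd 43627, .fwd 10705, .fwd 43600],
   .loop none [.bwd 43806, .bwd 10706, .fwd 43600],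
   .loop none [.bwd 43627, .fwd 42675, .fwd 43600],
   .loop none [.bwd 43698, .bwd 41375, .fwd 43600],
   .loop none [.bwd 43624, .fwd 42849, .fwd 43600],
   .loop none [.bwd 43632, .fwd 42003, .fwd 43600],
   .loop none [.bwd 43637, .bwd 41753, .fwd 43601],
   .loop none [.bwd 43687, .fwd 5540, .fwd 43601],
   .loop none [.bwd 43614, .bwd 9490, .fwd 43601],
   .loop none [.bwd 43621, .bwd 40559, .fwd 43602],
   .loop none [.bwd 43799, .bwd 41939, .fwd 43602],
   .loop none [.bwd 43616, .fwd 11618, .fwd 43602],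
   .loop none [.bwd 43609, .bwd 10467, .fwd 43602],
   .loop none [.bwd 43611, .bwd 12001, .fwd 43602],
   .loop none [.bwd 43692, .fwd 11751, .fwd 43602],
   .loop none [.bwd 43630, .fwd 43054, .fwd 43602],
   .loop none [.bwd 43610, .bwd 42950, .fwd 43602],
   .loop none [.bwd 43604, .fwd 33567, .fwd 43603],
   .loop none [.bwd 43621, .fwd 33909, .fwd 43603],
   .loop none [.bwd 43791, .fwd 32843, .fwd 43603],
   .loop none [.bwd 43608, .fwd 33065, .fwd 43603],
   .loop none [.bwd 43620, .bwd 33073, .fwd 43603],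
   .loop none [.bwd 43630, .fwd 42827, .fwd 43603],
   .loop none [.bwd 43606, .fwd 32717, .fwd 43603],
   .loop none [.bwd 43795, .bwd 5922, .fwd 43604],
   .loop none [.bwd 43610, .fwd 41276, .fwd 43604],
   .loop none [.bwd 43623, .fwd 42047, .fwd 43605],
   .loop none [.bwd 43802, .bwd 10722, .fwd 43605],
   .loop none [.bwd 43611, .fwd 10626, .fwd 43605],
   .loop none [.bwd 43696, .fwd 11701, .fwd 43605],
   .loop none [.bwd 43617, .bwd 41400, .fwd 43605],
   .loop none [.bwd 43609, .bwd 42939, .fwd 43605],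
   .loop none [.bwd 43612, .fwd 11606, .fwd 43606],
   .loop none [.bwd 43698, .fwd 33701, .fwd 43606],
   .loop none [.bwd 43617, .fwd 42834, .fwd 43606],
   .loop none [.bwd 43692, .bwd 41065, .fwd 43607],
   .loop none [.bwd 43624, .fwd 6655, .fwd 43607],
   .loop none [.bwd 43619, .bwd 6656, .fwd 43607],
   .loop none [.bwd 43627, .fwd 42855, .fwd 43607],
   .loop none [.bwd 43621, .bwd 9667, .fwd 43607],
   .loop none [.bwd 43612, .fwd 9635, .fwd 43607],
   .loop none [.bwd 43625, .fwd 41035, .fwd 43607],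
   .loop none [.bwd 43619, .fwd 6657, .fwd 43608],
   .loop none [.bwd 43794, .fwd 35543, .fwd 43608],
   .loop none [.bwd 43618, .bwd 11516, .fwd 43608],
   .loop none [.bwd 43617, .bwd 42826, .fwd 43609],
   .loop none [.bwd 43818, .fwd 41404, .fwd 43609],
   .loop none [.bwd 43611, .fwd 12000, .fwd 43609],
   .loop none [.bwd 43616, .fwd 11168, .fwd 43609],
   .loop none [.bwd 43623, .bwd 42952, .fwd 43609],
   .loop none [.bwd 43630, .fwd 40811, .fwd 43610],
   .loop none [.bwd 43819, .bwd 5587, .fwd 43610],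
   .loop none [.bwd 43696, .bwd 41273, .fwd 43610],
   .loop none [.bwd 43614, .fwd 41535, .fwd 43610],
   .loop none [.bwd 43621, .bwd 41278, .fwd 43610],
   .loop none [.bwd 43612, .bwd 42825, .fwd 43611],
   .loop none [.bwd 43812, .fwd 41785, .fwd 43611],
   .loop none [.bwd 43692, .bwd 11616, .fwd 43611],
   .loop none [.bwd 43813, .fwd 34957, .fwd 43612],
   .loop none [.bwd 43617, .bwd 33893, .fwd 43612],
   .loop none [.bwd 43624, .fwd 35279, .fwd 43612],
   .loop none [.bwd 43623, .bwd 42858, .fwd 43612],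
   .loop none [.bwd 43621, .fwd 9669, .fwd 43612],
   .loop none [.bwd 43631, .bwd 41749, .fwd 43613],
   .loop none [.bwd 43656, .bwd 41750, .fwd 43613],
   .loop none [.bwd 43614, .bwd 23117, .fwd 43613],
   .loop none [.bwd 43616, .bwd 41752, .fwd 43613],
   .loop none [.bwd 43687, .bwd 9486, .fwd 43613],
   .loop none [.bwd 43697, .bwd 35812, .fwd 43613],
   .loop none [.bwd 43632, .bwd 41531, .fwd 43614],
   .loop none [.bwd 43666, .bwd 41532, .fwd 43614],
   .loop none [.bwd 43697, .bwd 9536, .fwd 43614],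
   .loop none [.bwd 43629, .bwd 42786, .fwd 43614],
   .loop none [.bwd 43677, .bwd 10674, .fwd 43615],
   .loop none [.bwd 43698, .fwd 10673, .fwd 43615],
   .loop none [.bwd 43629, .bwd 41224, .fwd 43615],
   .loop none [.bwd 43619, .fwd 40525, .fwd 43616],
   .loop none [.bwd 43796, .fwd 41677, .fwd 43616],
   .loop none [.bwd 43692, .fwd 11162, .fwd 43616],
   .loop none [.bwd 43696, .fwd 42936, .fwd 43616],
   .loop none [.bwd 43821, .bwd 42941, .fwd 43616],
   .loop none [.bwd 43810, .fwd 33901, .fwd 43617],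
   .loop none [.bwd 43621, .fwd 6726, .fwd 43617],
   .loop none [.bwd 43624, .fwd 33911, .fwd 43617],
   .loop none [.bwd 43619, .fwd 9670, .fwd 43617],
   .loop none [.bwd 43623, .fwd 42055, .fwd 43617],
   .loop none [.bwd 43684, .fwd 11100, .fwd 43618],
   .loop none [.bwd 43620, .bwd 36907, .fwd 43618],
   .loop none [.bwd 43620, .bwd 39844, .fwd 43618],
   .loop none [.bwd 43792, .fwd 34970, .fwd 43619],
   .loop none [.bwd 43621, .fwd 34964, .fwd 43619],
   .loop none [.bwd 43631, .bwd 40526, .fwd 43619],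
   .loop none [.bwd 43624, .bwd 33912, .fwd 43619],
   .loop none [.bwd 43821, .fwd 41958, .fwd 43619],
   .loop none [.bwd 43696, .fwd 41240, .fwd 43619],
   .loop none [.bwd 43686, .bwd 10454, .fwd 43620],
   .loop none [.bwd 43798, .fwd 34965, .fwd 43621],
   .loop none [.bwd 43629, .fwd 42859, .fwd 43621],
   .loop none [.bwd 43630, .fwd 40815, .fwd 43621],
   .loop none [.bwd 43699, .fwd 33393, .fwd 43622],
   .loop none [.bwd 43821, .bwd 10675, .fwd 43622],
   .loop none [.bwd 43627, .bwd 41846, .fwd 43622],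
   .loop none [.bwd 43822, .fwd 10720, .fwd 43622],
   .loop none [.bwd 43687, .fwd 41698, .fwd 43622],
   .loop none [.bwd 43698, .bwd 11631, .fwd 43622],
   .loop none [.bwd 43698, .bwd 42048, .fwd 43623],
   .loop none [.bwd 43801, .bwd 42049, .fwd 43623],
   .loop none [.bwd 43627, .bwd 10704, .fwd 43623],
   .loop none [.bwd 43628, .bwd 42053, .fwd 43623],
   .loop none [.bwd 43821, .bwd 42054, .fwd 43623],
   .loop none [.bwd 43693, .fwd 6654, .fwd 43624],
   .loop none [.bwd 43628, .bwd 40901, .fwd 43624],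
   .loop none [.bwd 43694, .fwd 41063, .fwd 43625],
   .loop none [.bwd 43628, .fwd 13371, .fwd 43625],
   .loop none [.bwd 43626, .fwd 42791, .fwd 43625],
   .loop none [.bwd 43630, .fwd 36552, .fwd 43625],
   .loop none [.bwd 43692, .bwd 42071, .fwd 43625],
   .loop none [.bwd 43628, .fwd 37085, .fwd 43626],
   .loop none [.bwd 43665, .fwd 42310, .fwd 43626],
   .loop none [.bwd 43632, .fwd 42002, .fwd 43626],
   .loop none [.bwd 43631, .fwd 41714, .fwd 43626],
   .loop none [.bwd 43698, .fwd 41433, .fwd 43626],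
   .loop none [.bwd 43627, .fwd 42968, .fwd 43626],
   .loop none [.bwd 43667, .fwd 41815, .fwd 43627],
   .loop none [.bwd 43822, .fwd 41814, .fwd 43627],
   .loop none [.bwd 43804, .bwd 42004, .fwd 43628],
   .loop none [.bwd 43822, .bwd 42007, .fwd 43628],
   .loop none [.bwd 43821, .fwd 41957, .fwd 43628],
   .loop none [.bwd 43630, .fwd 37063, .fwd 43629],
   .loop none [.bwd 43805, .fwd 40820, .fwd 43629],
   .loop none [.bwd 43631, .fwd 41711, .fwd 43629],
   .loop none [.bwd 43630, .fwd 40814, .fwd 43629],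
   .loop none [.bwd 43822, .fwd 42700, .fwd 43629],
   .loop none [.bwd 43632, .bwd 43050, .fwd 43629],
   .loop none [.bwd 43811, .bwd 36929, .fwd 43630],
   .loop none [.bwd 43821, .fwd 41956, .fwd 43630],
   .loop none [.bwd 43632, .fwd 42741, .fwd 43630],
   .loop none [.bwd 43821, .bwd 14290, .fwd 43631],
   .loop none [.bwd 43814, .fwd 14452, .fwd 43631],
   .loop none [.bwd 43632, .fwd 40665, .fwd 43631],
   .loop none [.bwd 43698, .fwd 39315, .fwd 43631],
   .loop none [.bwd 43822, .fwd 42977, .fwd 43631],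
   .loop none [.bwd 43697, .bwd 41715, .fwd 43631],
   .loop none [.bwd 43822, .fwd 40965, .fwd 43632],
   .loop none [.bwd 43815, .fwd 40910, .fwd 43632],
   .loop none [.bwd 43822, .bwd 40664, .fwd 43632],
   .loop none [.bwd 43634, .bwd 42547, .fwd 43633],
   .loop none [.bwd 43670, .bwd 34370, .fwd 43633],
   .loop none [.bwd 43658, .fwd 42179, .fwd 43633],
   .loop none [.bwd 43769, .bwd 36500, .fwd 43634],
   .loop none [.bwd 43671, .fwd 36463, .fwd 43634],
   .loop none [.bwd 43657, .fwd 39732, .fwd 43634],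
   .loop none [.bwd 43636, .bwd 42695, .fwd 43635],
   .loop none [.bwd 43689, .bwd 36613, .fwd 43635],
   .loop none [.bwd 43654, .bwd 9443, .fwd 43635],
   .loop none [.bwd 43639, .fwd 9479, .fwd 43635],
   .loop none [.bwd 43750, .fwd 12605, .fwd 43636],
   .loop none [.bwd 43641, .bwd 42580, .fwd 43636],
   .loop none [.bwd 43653, .bwd 14790, .fwd 43636],
   .loop none [.bwd 43640, .bwd 35538, .fwd 43636],
   .loop none [.bwd 43806, .fwd 41164, .fwd 43637],
   .loop none [.bwd 43660, .fwd 9863, .fwd 43637],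
   .loop none [.bwd 43689, .fwd 41494, .fwd 43637],
   .loop none [.bwd 43666, .bwd 39224, .fwd 43637],
   .loop none [.bwd 43659, .bwd 9760, .fwd 43638],
   .loop none [.bwd 43769, .bwd 42756, .fwd 43638],
   .loop none [.bwd 43750, .bwd 42757, .fwd 43638],
   .loop none [.bwd 43663, .fwd 40906, .fwd 43638],
   .loop none [.bwd 43767, .fwd 42750, .fwd 43638],
   .loop none [.bwd 43749, .bwd 42915, .fwd 43638],
   .loop none [.bwd 43640, .fwd 42317, .fwd 43639],
   .loop none [.bwd 43818, .fwd 9284, .fwd 43639],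
   .loop none [.bwd 43758, .fwd 5534, .fwd 43639],
   .loop none [.bwd 43645, .bwd 5535, .fwd 43639],
   .loop none [.bwd 43658, .fwd 42178, .fwd 43639],
   .loop none [.bwd 43645, .fwd 41414, .fwd 43639],
   .loop none [.bwd 43654, .fwd 9477, .fwd 43639],
   .loop none [.bwd 43773, .fwd 4845, .fwd 43640],
   .loop none [.bwd 43757, .bwd 4846, .fwd 43640],
   .loop none [.bwd 43644, .bwd 36164, .fwd 43640],
   .loop none [.bwd 43657, .fwd 42512, .fwd 43640],
   .loop none [.bwd 43644, .fwd 42490, .fwd 43640],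
   .loop none [.bwd 43653, .bwd 35275, .fwd 43640],
   .loop none [.bwd 43641, .fwd 39526, .fwd 43641],
   .loop none [.bwd 43673, .bwd 9648, .fwd 43641],
   .loop none [.bwd 43643, .fwd 41075, .fwd 43642],
   .loop none [.bwd 43728, .fwd 5529, .fwd 43642],
   .loop none [.bwd 43710, .fwd 41131, .fwd 43642],
   .loop none [.bwd 43653, .fwd 36274, .fwd 43642],
   .loop none [.bwd 43671, .bwd 40931, .fwd 43642],
   .loop none [.bwd 43644, .bwd 9468, .fwd 43642],
   .loop none [.bwd 43819, .bwd 36490, .fwd 43643],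
   .loop none [.bwd 43711, .fwd 41498, .fwd 43643],
   .loop none [.bwd 43654, .fwd 5490, .fwd 43643],
   .loop none [.bwd 43670, .bwd 41269, .fwd 43643],
   .loop none [.bwd 43645, .bwd 9478, .fwd 43643],
   .loop none [.bwd 43645, .fwd 41146, .fwd 43644],
   .loop none [.bwd 43739, .fwd 5651, .fwd 43644],
   .loop none [.bwd 43759, .bwd 5652, .fwd 43644],
   .loop none [.bwd 43777, .bwd 5536, .fwd 43645],
   .loop none [.bwd 43648, .fwd 41042, .fwd 43646],
   .loop none [.bwd 43746, .bwd 34866, .fwd 43646],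
   .loop none [.bwd 43664, .fwd 41612, .fwd 43646],
   .loop none [.bwd 43828, .bwd 5596, .fwd 43646],
   .loop none [.bwd 43706, .bwd 41847, .fwd 43646],
   .loop none [.bwd 43761, .bwd 42416, .fwd 43646],
   .loop none [.bwd 43831, .fwd 35302, .fwd 43646],
   .loop none [.bwd 43833, .fwd 9515, .fwd 43646],
   .loop none [.bwd 43662, .fwd 35202, .fwd 43646],
   .loop none [.bwd 43694, .bwd 41253, .fwd 43647],
   .loop none [.bwd 43689, .bwd 5687, .fwd 43647]]

theorem just186_len : just186.length = 250 := by decide +kernel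

theorem just186_ok : cert.okFacts 46500 just186 = true := by decide +kernel

/-- justifications -/
noncomputable def just187 : List Cert.Just :=
  [.loop none [.bwd 43819, .bwd 9507, .fwd 43647],
   .loop none [.bwd 43820, .fwd 36937, .fwd 43647],
   .loop none [.bwd 43832, .bwd 9445, .fwd 43648],
   .loop none [.bwd 43777, .fwd 9482, .fwd 43648],
   .loop none [.bwd 43662, .fwd 42395, .fwd 43648],
   .loop none [.bwd 43834, .bwd 42775, .fwd 43648],
   .loop none [.bwd 43650, .bwd 42028, .fwd 43649],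
   .loop none [.bwd 43708, .bwd 10694, .fwd 43649],
   .loop none [.bwd 43671, .bwd 42030, .fwd 43649],
   .loop none [.bwd 43701, .bwd 42031, .fwd 43649],
   .loop none [.bwd 43653, .bwd 42032, .fwd 43649],
   .loop none [.bwd 43673, .bwd 42033, .fwd 43649],
   .loop none [.bwd 43670, .fwd 4851, .fwd 43650],
   .loop none [.bwd 43654, .fwd 41510, .fwd 43650],
   .loop none [.bwd 43672, .bwd 39627, .fwd 43650],
   .loop none [.bwd 43762, .fwd 37276, .fwd 43651],
   .loop none [.bwd 43770, .fwd 9695, .fwd 43651],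
   .loop none [.bwd 43769, .bwd 9696, .fwd 43651],
   .loop none [.bwd 43766, .bwd 39686, .fwd 43651],
   .loop none [.bwd 43769, .fwd 42268, .fwd 43651],
   .loop none [.bwd 43838, .bwd 11553, .fwd 43651],
   .loop none [.bwd 43669, .fwd 11555, .fwd 43651],
   .loop none [.bwd 43753, .fwd 42870, .fwd 43651],
   .loop none [.bwd 43766, .bwd 11024, .fwd 43652],
   .loop none [.bwd 43731, .bwd 32917, .fwd 43652],
   .loop none [.bwd 43705, .fwd 10022, .fwd 43652],
   .loop none [.bwd 43701, .bwd 11014, .fwd 43652],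
   .loop none [.bwd 43707, .fwd 18337, .fwd 43652],
   .loop none [.bwd 43654, .fwd 41504, .fwd 43653],
   .loop none [.bwd 43723, .bwd 12144, .fwd 43653],
   .loop none [.bwd 43796, .bwd 36669, .fwd 43654],
   .loop none [.bwd 43709, .fwd 5489, .fwd 43654],
   .loop none [.bwd 43663, .fwd 40903, .fwd 43655],
   .loop none [.bwd 43663, .fwd 40904, .fwd 43655],
   .loop none [.bwd 43839, .bwd 41920, .fwd 43655],
   .loop none [.bwd 43659, .fwd 35197, .fwd 43655],
   .loop none [.bwd 43754, .fwd 41639, .fwd 43655],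
   .loop none [.bwd 43814, .fwd 14045, .fwd 43656],
   .loop none [.bwd 43666, .fwd 39859, .fwd 43656],
   .loop none [.bwd 43666, .fwd 32786, .fwd 43656],
   .loop none [.bwd 43796, .fwd 41678, .fwd 43656],
   .loop none [.bwd 43660, .bwd 39234, .fwd 43656],
   .loop none [.bwd 43658, .fwd 42171, .fwd 43657],
   .loop none [.bwd 43803, .fwd 40305, .fwd 43657],
   .loop none [.bwd 43671, .bwd 39733, .fwd 43657],
   .loop none [.bwd 43745, .fwd 42204, .fwd 43658],
   .loop none [.bwd 43670, .bwd 42180, .fwd 43658],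
   .loop none [.bwd 43782, .bwd 41647, .fwd 43659],
   .loop none [.bwd 43675, .bwd 41650, .fwd 43659],
   .loop none [.bwd 43776, .fwd 41611, .fwd 43659],
   .loop none [.bwd 43809, .fwd 12078, .fwd 43660],
   .loop none [.bwd 43687, .fwd 41694, .fwd 43660],
   .loop none [.bwd 43674, .bwd 38729, .fwd 43660],
   .loop none [.bwd 43699, .bwd 33717, .fwd 43660],
   .loop none [.bwd 43695, .bwd 11737, .fwd 43660],
   .loop none [.bwd 43665, .bwd 40967, .fwd 43661],
   .loop none [.bwd 43834, .fwd 41900, .fwd 43661],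
   .loop none [.bwd 43827, .bwd 35996, .fwd 43661],
   .loop none [.bwd 43762, .bwd 40969, .fwd 43661],
   .loop none [.bwd 43842, .fwd 42650, .fwd 43661],
   .loop none [.bwd 43782, .bwd 40971, .fwd 43661],
   .loop none [.bwd 43664, .fwd 42752, .fwd 43661],
   .loop none [.bwd 43834, .fwd 42379, .fwd 43662],
   .loop none [.bwd 43761, .bwd 4587, .fwd 43662],
   .loop none [.bwd 43840, .fwd 35866, .fwd 43662],
   .loop none [.bwd 43746, .fwd 42411, .fwd 43662],
   .loop none [.bwd 43770, .bwd 42378, .fwd 43662],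
   .loop none [.bwd 43843, .fwd 35513, .fwd 43662],
   .loop none [.bwd 43847, .fwd 35687, .fwd 43662],
   .loop none [.bwd 43848, .bwd 41977, .fwd 43663],
   .loop none [.bwd 43849, .fwd 40923, .fwd 43663],
   .loop none [.bwd 43728, .fwd 42489, .fwd 43663],
   .loop none [.bwd 43726, .bwd 36673, .fwd 43663],
   .loop none [.bwd 43767, .fwd 5592, .fwd 43664],
   .loop none [.bwd 43844, .fwd 36402, .fwd 43664],
   .loop none [.bwd 43776, .fwd 9512, .fwd 43664],
   .loop none [.bwd 43806, .fwd 10707, .fwd 43665],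
   .loop none [.bwd 43815, .bwd 10708, .fwd 43665],
   .loop none [.bwd 43694, .bwd 40975, .fwd 43665],
   .loop none [.bwd 43814, .bwd 40976, .fwd 43665],
   .loop none [.bwd 43809, .bwd 40977, .fwd 43665],
   .loop none [.bwd 43668, .fwd 42990, .fwd 43665],
   .loop none [.bwd 43667, .bwd 42974, .fwd 43665],
   .loop none [.bwd 43815, .fwd 40909, .fwd 43666],
   .loop none [.bwd 43819, .fwd 41055, .fwd 43666],
   .loop none [.bwd 43805, .bwd 33998, .fwd 43666],
   .loop none [.bwd 43808, .bwd 41290, .fwd 43666],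
   .loop none [.bwd 43668, .fwd 36879, .fwd 43667],
   .loop none [.bwd 43836, .fwd 18659, .fwd 43667],
   .loop none [.bwd 43801, .fwd 33399, .fwd 43667],
   .loop none [.bwd 43820, .fwd 40802, .fwd 43667],
   .loop none [.bwd 43845, .fwd 34563, .fwd 43667],
   .loop none [.bwd 43699, .bwd 14493, .fwd 43667],
   .loop none [.bwd 43802, .fwd 12268, .fwd 43668],
   .loop none [.bwd 43835, .fwd 41944, .fwd 43668],
   .loop none [.bwd 43846, .bwd 41304, .fwd 43668],
   .loop none [.bwd 43695, .bwd 14435, .fwd 43668],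
   .loop none [.bwd 43739, .fwd 41111, .fwd 43669],
   .loop none [.bwd 43838, .fwd 9547, .fwd 43669],
   .loop none [.bwd 43737, .fwd 40338, .fwd 43669],
   .loop none [.bwd 43671, .fwd 39777, .fwd 43670],
   .loop none [.bwd 43795, .bwd 34048, .fwd 43670],
   .loop none [.bwd 43732, .fwd 4850, .fwd 43670],
   .loop none [.bwd 43816, .bwd 34051, .fwd 43670],
   .loop none [.bwd 43672, .bwd 11199, .fwd 43670],
   .loop none [.bwd 43720, .bwd 36171, .fwd 43671],
   .loop none [.bwd 43756, .fwd 42156, .fwd 43671],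
   .loop none [.bwd 43673, .bwd 39778, .fwd 43671],
   .loop none [.bwd 43673, .bwd 34641, .fwd 43672],
   .loop none [.bwd 43685, .bwd 39056, .fwd 43672],
   .loop none [.bwd 43672, .fwd 39057, .fwd 43672],
   .loop none [.bwd 43733, .fwd 6715, .fwd 43673],
   .loop none [.bwd 43730, .bwd 6716, .fwd 43673],
   .loop none [.bwd 43673, .fwd 39529, .fwd 43673],
   .loop none [.bwd 43729, .bwd 39530, .fwd 43673],
   .loop none [.bwd 43688, .fwd 33257, .fwd 43674],
   .loop none [.bwd 43674, .fwd 38438, .fwd 43674],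
   .loop none [.bwd 43685, .bwd 33280, .fwd 43674],
   .loop none [.bwd 43741, .bwd 38975, .fwd 43675],
   .loop none [.bwd 43675, .fwd 38976, .fwd 43675],
   .loop none [.bwd 43733, .fwd 9647, .fwd 43675],
   .loop none [.bwd 43752, .fwd 34168, .fwd 43675],
   .loop none [.bwd 43700, .bwd 9944, .fwd 43676],
   .loop none [.bwd 43764, .fwd 38962, .fwd 43676],
   .loop none [.bwd 43713, .fwd 39540, .fwd 43676],
   .loop none [.bwd 43729, .fwd 38957, .fwd 43676],
   .loop none [.bwd 43740, .bwd 38564, .fwd 43676],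
   .loop none [.bwd 43678, .fwd 41306, .fwd 43677],
   .loop none [.bwd 43788, .fwd 40870, .fwd 43677],
   .loop none [.bwd 43695, .fwd 10339, .fwd 43677],
   .loop none [.bwd 43805, .fwd 12399, .fwd 43677],
   .loop none [.bwd 43777, .fwd 5537, .fwd 43678],
   .loop none [.bwd 43699, .fwd 41567, .fwd 43678],
   .loop none [.bwd 43808, .fwd 9483, .fwd 43678],
   .loop none [.bwd 43789, .bwd 7756, .fwd 43679],
   .loop none [.bwd 43782, .fwd 34430, .fwd 43679],
   .loop none [.bwd 43842, .fwd 42646, .fwd 43679],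
   .loop none [.bwd 43741, .bwd 740, .fwd 43679],
   .loop none [.bwd 43827, .fwd 40050, .fwd 43679],
   .loop none [.bwd 43848, .fwd 40864, .fwd 43679],
   .loop none [.bwd 43682, .fwd 41926, .fwd 43679],
   .loop none [.bwd 43681, .fwd 41975, .fwd 43679],
   .loop none [.bwd 43789, .bwd 41470, .fwd 43680],
   .loop none [.bwd 43772, .bwd 35233, .fwd 43680],
   .loop none [.bwd 43833, .fwd 5695, .fwd 43680],
   .loop none [.bwd 43843, .bwd 5696, .fwd 43680],
   .loop none [.bwd 43853, .bwd 41474, .fwd 43680],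
   .loop none [.bwd 43828, .bwd 9516, .fwd 43680],
   .loop none [.bwd 43849, .fwd 35863, .fwd 43680],
   .loop none [.bwd 43826, .fwd 36260, .fwd 43680],
   .loop none [.bwd 43825, .fwd 41987, .fwd 43680],
   .loop none [.bwd 43682, .fwd 41921, .fwd 43681],
   .loop none [.bwd 43825, .fwd 5690, .fwd 43681],
   .loop none [.bwd 43776, .bwd 5691, .fwd 43681],
   .loop none [.bwd 43737, .bwd 41973, .fwd 43681],
   .loop none [.bwd 43752, .bwd 41974, .fwd 43681],
   .loop none [.bwd 43767, .bwd 9511, .fwd 43681],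
   .loop none [.bwd 43726, .bwd 36695, .fwd 43681],
   .loop none [.bwd 43826, .bwd 9815, .fwd 43682],
   .loop none [.bwd 43854, .bwd 41924, .fwd 43682],
   .loop none [.bwd 43749, .bwd 36329, .fwd 43682],
   .loop none [.bwd 43850, .fwd 41896, .fwd 43682],
   .loop none [.bwd 43684, .bwd 39289, .fwd 43683],
   .loop none [.bwd 43715, .fwd 33842, .fwd 43683],
   .loop none [.bwd 43684, .bwd 4459, .fwd 43683],
   .loop none [.bwd 43793, .fwd 12283, .fwd 43683],
   .loop none [.bwd 43691, .fwd 8926, .fwd 43683],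
   .loop none [.bwd 43685, .fwd 38745, .fwd 43683],
   .loop none [.bwd 43686, .fwd 38937, .fwd 43683],
   .loop none [.bwd 43722, .fwd 34888, .fwd 43684],
   .loop none [.bwd 43794, .fwd 35546, .fwd 43684],
   .loop none [.bwd 43690, .fwd 8929, .fwd 43684],
   .loop none [.bwd 43686, .fwd 42944, .fwd 43684],
   .loop none [.bwd 43685, .bwd 9224, .fwd 43684],
   .loop none [.bwd 43686, .fwd 38930, .fwd 43685],
   .loop none [.bwd 43685, .fwd 38742, .fwd 43685],
   .loop none [.bwd 43795, .fwd 39241, .fwd 43685],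
   .loop none [.bwd 43734, .fwd 39388, .fwd 43686],
   .loop none [.bwd 43686, .fwd 38931, .fwd 43686],
   .loop none [.bwd 43791, .bwd 33787, .fwd 43686],
   .loop none [.bwd 43688, .bwd 38936, .fwd 43686],
   .loop none [.bwd 43698, .bwd 41693, .fwd 43687],
   .loop none [.bwd 43741, .fwd 7725, .fwd 43688],
   .loop none [.bwd 43688, .fwd 38532, .fwd 43688],
   .loop none [.bwd 43809, .fwd 38917, .fwd 43688],
   .loop none [.bwd 43693, .bwd 41488, .fwd 43689],
   .loop none [.bwd 43812, .bwd 5688, .fwd 43689],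
   .loop none [.bwd 43796, .bwd 9508, .fwd 43689],
   .loop none [.bwd 43818, .bwd 36398, .fwd 43689],
   .loop none [.bwd 43804, .fwd 43010, .fwd 43689],
   .loop none [.bwd 43807, .fwd 41071, .fwd 43689],
   .loop none [.bwd 43691, .bwd 38938, .fwd 43690],
   .loop none [.bwd 43771, .fwd 34647, .fwd 43690],
   .loop none [.bwd 43691, .fwd 3397, .fwd 43690],
   .loop none [.bwd 43804, .fwd 39519, .fwd 43690],
   .loop none [.bwd 43820, .fwd 40801, .fwd 43690],
   .loop none [.bwd 43765, .fwd 33839, .fwd 43691],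
   .loop none [.bwd 43807, .bwd 14243, .fwd 43691],
   .loop none [.bwd 43835, .fwd 41943, .fwd 43691],
   .loop none [.bwd 43835, .fwd 41941, .fwd 43692],
   .loop none [.bwd 43751, .fwd 6653, .fwd 43693],
   .loop none [.bwd 43694, .fwd 40939, .fwd 43693],
   .loop none [.bwd 43813, .fwd 35363, .fwd 43693],
   .loop none [.bwd 43806, .fwd 41170, .fwd 43693],
   .loop none [.bwd 43792, .bwd 9664, .fwd 43693],
   .loop none [.bwd 43810, .fwd 9633, .fwd 43693],
   .loop none [.bwd 43807, .fwd 41072, .fwd 43693],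
   .loop none [.bwd 43804, .bwd 42851, .fwd 43693],
   .loop none [.bwd 43811, .bwd 41064, .fwd 43694],
   .loop none [.bwd 43835, .bwd 42107, .fwd 43694],
   .loop none [.bwd 43820, .bwd 40941, .fwd 43694],
   .loop none [.bwd 43699, .fwd 33392, .fwd 43695],
   .loop none [.bwd 43778, .fwd 33834, .fwd 43695],
   .loop none [.bwd 43846, .bwd 41228, .fwd 43695],
   .loop none [.bwd 43809, .bwd 10885, .fwd 43695],
   .loop none [.bwd 43821, .fwd 10676, .fwd 43696],
   .loop none [.bwd 43855, .bwd 41239, .fwd 43696],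
   .loop none [.bwd 43697, .fwd 41300, .fwd 43696],
   .loop none [.bwd 43822, .bwd 41296, .fwd 43697],
   .loop none [.bwd 43846, .fwd 5871, .fwd 43697],
   .loop none [.bwd 43809, .fwd 10672, .fwd 43698],
   .loop none [.bwd 43789, .fwd 33743, .fwd 43699],
   .loop none [.bwd 43845, .fwd 34562, .fwd 43699],
   .loop none [.bwd 43809, .bwd 33397, .fwd 43699],
   .loop none [.bwd 43700, .fwd 38358, .fwd 43700],
   .loop none [.bwd 43704, .fwd 38968, .fwd 43700],
   .loop none [.bwd 43702, .fwd 37047, .fwd 43700],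
   .loop none [.bwd 43707, .fwd 38578, .fwd 43700],
   .loop none [.bwd 43701, .bwd 38366, .fwd 43700],
   .loop none [.bwd 43716, .fwd 11815, .fwd 43701],
   .loop none [.bwd 43740, .fwd 33081, .fwd 43701],
   .loop none [.bwd 43705, .bwd 10021, .fwd 43701],
   .loop none [.bwd 43703, .fwd 10020, .fwd 43701],
   .loop none [.bwd 43764, .bwd 9692, .fwd 43702],
   .loop none [.bwd 43704, .bwd 11545, .fwd 43702],
   .loop none [.bwd 43703, .bwd 38573, .fwd 43702],
   .loop none [.bwd 43731, .fwd 11814, .fwd 43703],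
   .loop none [.bwd 43766, .bwd 32914, .fwd 43703],
   .loop none [.bwd 43705, .bwd 11017, .fwd 43703],
   .loop none [.bwd 43713, .bwd 6778, .fwd 43704],
   .loop none [.bwd 43707, .bwd 38967, .fwd 43704],
   .loop none [.bwd 43705, .bwd 38970, .fwd 43704],
   .loop none [.bwd 43740, .fwd 11817, .fwd 43705],
   .loop none [.bwd 43716, .bwd 33096, .fwd 43705],
   .loop none [.bwd 43763, .bwd 36848, .fwd 43706],
   .loop none [.bwd 43785, .fwd 40754, .fwd 43706],
   .loop none [.bwd 43803, .fwd 42576, .fwd 43706],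
   .loop none [.bwd 43857, .bwd 39704, .fwd 43706],
   .loop none [.bwd 43858, .bwd 36854, .fwd 43706],
   .loop none [.bwd 43747, .fwd 43003, .fwd 43706]]

theorem just187_len : just187.length = 250 := by decide +kernel

theorem just187_ok : cert.okFacts 46750 just187 = true := by decide +kernel

/-- justifications -/
noncomputable def just188 : List Cert.Just :=
  [.loop none [.bwd 43746, .bwd 43047, .fwd 43706],
   .loop none [.bwd 43729, .bwd 11786, .fwd 43707],
   .loop none [.bwd 43707, .fwd 38577, .fwd 43707],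
   .loop none [.bwd 43714, .fwd 42736, .fwd 43708],
   .loop none [.bwd 43723, .fwd 42466, .fwd 43708],
   .loop none [.bwd 43730, .fwd 42254, .fwd 43708],
   .loop none [.bwd 43723, .fwd 42485, .fwd 43709],
   .loop none [.bwd 43767, .bwd 36698, .fwd 43709],
   .loop none [.bwd 43758, .bwd 9475, .fwd 43709],
   .loop none [.bwd 43711, .fwd 42343, .fwd 43710],
   .loop none [.bwd 43844, .fwd 41350, .fwd 43710],
   .loop none [.bwd 43844, .fwd 4582, .fwd 43710],
   .loop none [.bwd 43756, .fwd 42161, .fwd 43710],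
   .loop none [.bwd 43759, .fwd 41358, .fwd 43710],
   .loop none [.bwd 43754, .bwd 9887, .fwd 43711],
   .loop none [.bwd 43732, .bwd 41376, .fwd 43711],
   .loop none [.bwd 43784, .bwd 42350, .fwd 43712],
   .loop none [.bwd 43844, .bwd 42336, .fwd 43712],
   .loop none [.bwd 43717, .fwd 35406, .fwd 43712],
   .loop none [.bwd 43839, .fwd 42984, .fwd 43712],
   .loop none [.bwd 43729, .bwd 39541, .fwd 43713],
   .loop none [.bwd 43764, .fwd 11546, .fwd 43713],
   .loop none [.bwd 43716, .bwd 39542, .fwd 43713],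
   .loop none [.bwd 43861, .fwd 40161, .fwd 43714],
   .loop none [.bwd 43783, .fwd 40687, .fwd 43714],
   .loop none [.bwd 43755, .bwd 42738, .fwd 43714],
   .loop none [.bwd 43724, .bwd 42739, .fwd 43714],
   .loop none [.bwd 43760, .fwd 42802, .fwd 43714],
   .loop none [.bwd 43720, .fwd 42878, .fwd 43714],
   .loop none [.bwd 43719, .bwd 43060, .fwd 43714],
   .loop none [.bwd 43861, .fwd 40160, .fwd 43715],
   .loop none [.bwd 43722, .fwd 3315, .fwd 43715],
   .loop none [.bwd 43823, .fwd 40263, .fwd 43715],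
   .loop none [.bwd 43725, .bwd 39716, .fwd 43715],
   .loop none [.bwd 43765, .fwd 8909, .fwd 43715],
   .loop none [.bwd 43838, .fwd 39151, .fwd 43716],
   .loop none [.bwd 43740, .bwd 10035, .fwd 43716],
   .loop none [.bwd 43731, .fwd 10034, .fwd 43716],
   .loop none [.bwd 43766, .fwd 11816, .fwd 43716],
   .loop none [.bwd 43783, .fwd 42484, .fwd 43717],
   .loop none [.bwd 43755, .fwd 42446, .fwd 43717],
   .loop none [.bwd 43838, .fwd 42876, .fwd 43717],
   .loop none [.bwd 43790, .bwd 35407, .fwd 43717],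
   .loop none [.bwd 43755, .bwd 40810, .fwd 43718],
   .loop none [.bwd 43823, .bwd 35140, .fwd 43718],
   .loop none [.bwd 43755, .fwd 9700, .fwd 43718],
   .loop none [.bwd 43783, .fwd 41373, .fwd 43718],
   .loop none [.bwd 43752, .bwd 11562, .fwd 43718],
   .loop none [.bwd 43734, .fwd 39392, .fwd 43718],
   .loop none [.bwd 43733, .bwd 42908, .fwd 43718],
   .loop none [.bwd 43720, .bwd 40221, .fwd 43719],
   .loop none [.bwd 43791, .fwd 10379, .fwd 43719],
   .loop none [.bwd 43863, .fwd 35050, .fwd 43719],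
   .loop none [.bwd 43790, .bwd 40222, .fwd 43719],
   .loop none [.bwd 43817, .fwd 13962, .fwd 43719],
   .loop none [.bwd 43734, .bwd 40060, .fwd 43719],
   .loop none [.bwd 43727, .fwd 40692, .fwd 43719],
   .loop none [.bwd 43768, .fwd 36415, .fwd 43719],
   .loop none [.bwd 43862, .bwd 35974, .fwd 43720],
   .loop none [.bwd 43838, .fwd 6782, .fwd 43720],
   .loop none [.bwd 43733, .bwd 42713, .fwd 43720],
   .loop none [.bwd 43728, .fwd 40612, .fwd 43720],
   .loop none [.bwd 43769, .fwd 11554, .fwd 43720],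
   .loop none [.bwd 43722, .fwd 35129, .fwd 43721],
   .loop none [.bwd 43861, .fwd 6780, .fwd 43721],
   .loop none [.bwd 43838, .bwd 6781, .fwd 43721],
   .loop none [.bwd 43861, .fwd 40162, .fwd 43721],
   .loop none [.bwd 43770, .fwd 11551, .fwd 43721],
   .loop none [.bwd 43864, .fwd 42488, .fwd 43721],
   .loop none [.bwd 43790, .fwd 3314, .fwd 43722],
   .loop none [.bwd 43797, .bwd 40884, .fwd 43722],
   .loop none [.bwd 43771, .fwd 8907, .fwd 43722],
   .loop none [.bwd 43868, .fwd 40491, .fwd 43722],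
   .loop none [.bwd 43864, .fwd 35391, .fwd 43722],
   .loop none [.bwd 43755, .bwd 36005, .fwd 43723],
   .loop none [.bwd 43749, .bwd 35932, .fwd 43723],
   .loop none [.bwd 43757, .bwd 35933, .fwd 43723],
   .loop none [.bwd 43730, .bwd 36445, .fwd 43724],
   .loop none [.bwd 43857, .bwd 36904, .fwd 43724],
   .loop none [.bwd 43784, .fwd 36511, .fwd 43724],
   .loop none [.bwd 43850, .bwd 42455, .fwd 43724],
   .loop none [.bwd 43735, .bwd 36446, .fwd 43724],
   .loop none [.bwd 43728, .fwd 42718, .fwd 43724],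
   .loop none [.bwd 43727, .fwd 40096, .fwd 43724],
   .loop none [.bwd 43857, .fwd 37759, .fwd 43725],
   .loop none [.bwd 43869, .fwd 37022, .fwd 43725],
   .loop none [.bwd 43829, .fwd 41936, .fwd 43725],
   .loop none [.bwd 43736, .fwd 39179, .fwd 43725],
   .loop none [.bwd 43850, .bwd 42334, .fwd 43726],
   .loop none [.bwd 43829, .fwd 4580, .fwd 43726],
   .loop none [.bwd 43844, .bwd 4581, .fwd 43726],
   .loop none [.bwd 43758, .bwd 9286, .fwd 43726],
   .loop none [.bwd 43754, .bwd 42253, .fwd 43726],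
   .loop none [.bwd 43767, .bwd 36619, .fwd 43726],
   .loop none [.bwd 43848, .bwd 42045, .fwd 43726],
   .loop none [.bwd 43728, .fwd 40609, .fwd 43727],
   .loop none [.bwd 43811, .fwd 40616, .fwd 43727],
   .loop none [.bwd 43871, .fwd 12529, .fwd 43727],
   .loop none [.bwd 43860, .fwd 14557, .fwd 43727],
   .loop none [.bwd 43871, .fwd 40623, .fwd 43727],
   .loop none [.bwd 43848, .bwd 40693, .fwd 43727],
   .loop none [.bwd 43738, .fwd 40882, .fwd 43727],
   .loop none [.bwd 43870, .fwd 40927, .fwd 43728],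
   .loop none [.bwd 43839, .fwd 36347, .fwd 43728],
   .loop none [.bwd 43870, .fwd 5528, .fwd 43728],
   .loop none [.bwd 43739, .bwd 9466, .fwd 43728],
   .loop none [.bwd 43731, .bwd 32912, .fwd 43729],
   .loop none [.bwd 43756, .fwd 42160, .fwd 43730],
   .loop none [.bwd 43867, .bwd 32908, .fwd 43731],
   .loop none [.bwd 43740, .bwd 11819, .fwd 43731],
   .loop none [.bwd 43756, .fwd 42154, .fwd 43732],
   .loop none [.bwd 43752, .bwd 35151, .fwd 43732],
   .loop none [.bwd 43734, .bwd 39552, .fwd 43733],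
   .loop none [.bwd 43867, .bwd 39553, .fwd 43733],
   .loop none [.bwd 43733, .fwd 39554, .fwd 43733],
   .loop none [.bwd 43838, .bwd 39758, .fwd 43733],
   .loop none [.bwd 43755, .bwd 42860, .fwd 43733],
   .loop none [.bwd 43797, .fwd 10245, .fwd 43734],
   .loop none [.bwd 43734, .fwd 39389, .fwd 43734],
   .loop none [.bwd 43790, .fwd 40785, .fwd 43734],
   .loop none [.bwd 43741, .bwd 34145, .fwd 43734],
   .loop none [.bwd 43755, .fwd 35399, .fwd 43734],
   .loop none [.bwd 43858, .bwd 40068, .fwd 43735],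
   .loop none [.bwd 43739, .fwd 40935, .fwd 43735],
   .loop none [.bwd 43738, .bwd 41341, .fwd 43735],
   .loop none [.bwd 43858, .fwd 11016, .fwd 43736],
   .loop none [.bwd 43817, .fwd 33267, .fwd 43736],
   .loop none [.bwd 43778, .fwd 852, .fwd 43736],
   .loop none [.bwd 43787, .fwd 41001, .fwd 43736],
   .loop none [.bwd 43786, .fwd 9525, .fwd 43736],
   .loop none [.bwd 43788, .fwd 41031, .fwd 43736],
   .loop none [.bwd 43787, .bwd 6650, .fwd 43737],
   .loop none [.bwd 43742, .bwd 36254, .fwd 43737],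
   .loop none [.bwd 43753, .bwd 9656, .fwd 43737],
   .loop none [.bwd 43783, .fwd 9629, .fwd 43737],
   .loop none [.bwd 43739, .fwd 41109, .fwd 43738],
   .loop none [.bwd 43788, .bwd 10342, .fwd 43738],
   .loop none [.bwd 43774, .bwd 40880, .fwd 43738],
   .loop none [.bwd 43788, .fwd 40873, .fwd 43738],
   .loop none [.bwd 43774, .bwd 40481, .fwd 43738],
   .loop none [.bwd 43786, .fwd 41137, .fwd 43739],
   .loop none [.bwd 43773, .fwd 36452, .fwd 43739],
   .loop none [.bwd 43786, .fwd 5650, .fwd 43739],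
   .loop none [.bwd 43773, .bwd 41110, .fwd 43739],
   .loop none [.bwd 43853, .fwd 10042, .fwd 43740],
   .loop none [.bwd 43766, .bwd 10036, .fwd 43740],
   .loop none [.bwd 43800, .fwd 7749, .fwd 43741],
   .loop none [.bwd 43741, .fwd 38824, .fwd 43741],
   .loop none [.bwd 43782, .fwd 39379, .fwd 43741],
   .loop none [.bwd 43854, .fwd 35150, .fwd 43741],
   .loop none [.bwd 43752, .fwd 39397, .fwd 43741],
   .loop none [.bwd 43851, .bwd 42205, .fwd 43742],
   .loop none [.bwd 43767, .bwd 42682, .fwd 43742],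
   .loop none [.bwd 43784, .bwd 36307, .fwd 43742],
   .loop none [.bwd 43751, .fwd 42845, .fwd 43742],
   .loop none [.bwd 43750, .bwd 42978, .fwd 43742],
   .loop none [.bwd 43803, .fwd 5914, .fwd 43743],
   .loop none [.bwd 43755, .bwd 11563, .fwd 43743],
   .loop none [.bwd 43854, .fwd 9551, .fwd 43743],
   .loop none [.bwd 43785, .fwd 40753, .fwd 43744],
   .loop none [.bwd 43751, .fwd 34098, .fwd 43744],
   .loop none [.bwd 43836, .bwd 40586, .fwd 43744],
   .loop none [.bwd 43869, .bwd 40316, .fwd 43744],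
   .loop none [.bwd 43817, .fwd 14430, .fwd 43744],
   .loop none [.bwd 43851, .fwd 43026, .fwd 43744],
   .loop none [.bwd 43748, .fwd 34119, .fwd 43744],
   .loop none [.bwd 43803, .fwd 40303, .fwd 43745],
   .loop none [.bwd 43851, .fwd 42189, .fwd 43745],
   .loop none [.bwd 43823, .fwd 34152, .fwd 43745],
   .loop none [.bwd 43816, .fwd 14495, .fwd 43745],
   .loop none [.bwd 43763, .fwd 43035, .fwd 43745],
   .loop none [.bwd 43747, .fwd 36933, .fwd 43746],
   .loop none [.bwd 43748, .fwd 5482, .fwd 43746],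
   .loop none [.bwd 43763, .bwd 42410, .fwd 43746],
   .loop none [.bwd 43870, .bwd 9462, .fwd 43746],
   .loop none [.bwd 43786, .fwd 9436, .fwd 43746],
   .loop none [.bwd 43851, .fwd 42186, .fwd 43747],
   .loop none [.bwd 43834, .fwd 41902, .fwd 43747],
   .loop none [.bwd 43871, .fwd 36568, .fwd 43747],
   .loop none [.bwd 43788, .bwd 41142, .fwd 43747],
   .loop none [.bwd 43851, .fwd 42182, .fwd 43748],
   .loop none [.bwd 43828, .fwd 35125, .fwd 43748],
   .loop none [.bwd 43781, .fwd 34893, .fwd 43748],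
   .loop none [.bwd 43840, .bwd 42408, .fwd 43748],
   .loop none [.bwd 43803, .fwd 42575, .fwd 43748],
   .loop none [.bwd 43859, .bwd 9461, .fwd 43748],
   .loop none [.bwd 43772, .fwd 9435, .fwd 43748],
   .loop none [.bwd 43785, .bwd 42585, .fwd 43748],
   .loop none [.bwd 43767, .fwd 42338, .fwd 43749],
   .loop none [.bwd 43840, .fwd 36746, .fwd 43749],
   .loop none [.bwd 43760, .bwd 42463, .fwd 43749],
   .loop none [.bwd 43850, .fwd 41897, .fwd 43749],
   .loop none [.bwd 43827, .bwd 43057, .fwd 43749],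
   .loop none [.bwd 43751, .fwd 40509, .fwd 43750],
   .loop none [.bwd 43785, .fwd 36939, .fwd 43750],
   .loop none [.bwd 43779, .fwd 12604, .fwd 43750],
   .loop none [.bwd 43839, .bwd 14789, .fwd 43750],
   .loop none [.bwd 43773, .bwd 36085, .fwd 43750],
   .loop none [.bwd 43780, .fwd 6652, .fwd 43751],
   .loop none [.bwd 43827, .bwd 40742, .fwd 43751],
   .loop none [.bwd 43860, .bwd 9662, .fwd 43751],
   .loop none [.bwd 43774, .fwd 9632, .fwd 43751],
   .loop none [.bwd 43854, .bwd 39395, .fwd 43752],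
   .loop none [.bwd 43816, .bwd 34157, .fwd 43752],
   .loop none [.bwd 43854, .fwd 6786, .fwd 43752],
   .loop none [.bwd 43837, .bwd 36607, .fwd 43753],
   .loop none [.bwd 43760, .bwd 36608, .fwd 43753],
   .loop none [.bwd 43784, .bwd 36609, .fwd 43753],
   .loop none [.bwd 43783, .bwd 9657, .fwd 43753],
   .loop none [.bwd 43762, .fwd 42269, .fwd 43753],
   .loop none [.bwd 43844, .bwd 42335, .fwd 43754],
   .loop none [.bwd 43832, .bwd 41634, .fwd 43754],
   .loop none [.bwd 43850, .bwd 11744, .fwd 43754],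
   .loop none [.bwd 43784, .fwd 41379, .fwd 43754],
   .loop none [.bwd 43842, .fwd 43017, .fwd 43754],
   .loop none [.bwd 43824, .fwd 9699, .fwd 43755],
   .loop none [.bwd 43854, .bwd 11561, .fwd 43755],
   .loop none [.bwd 43850, .bwd 42155, .fwd 43756],
   .loop none [.bwd 43854, .fwd 42194, .fwd 43756],
   .loop none [.bwd 43758, .bwd 42337, .fwd 43757],
   .loop none [.bwd 43854, .fwd 35144, .fwd 43757],
   .loop none [.bwd 43850, .fwd 41894, .fwd 43757],
   .loop none [.bwd 43759, .bwd 42500, .fwd 43757],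
   .loop none [.bwd 43776, .fwd 36535, .fwd 43759],
   .loop none [.bwd 43776, .fwd 41610, .fwd 43759],
   .loop none [.bwd 43769, .fwd 42901, .fwd 43760],
   .loop none [.bwd 43768, .bwd 27612, .fwd 43760],
   .loop none [.bwd 43837, .fwd 42386, .fwd 43761],
   .loop none [.bwd 43859, .fwd 9293, .fwd 43761],
   .loop none [.bwd 43872, .fwd 42390, .fwd 43761],
   .loop none [.bwd 43864, .bwd 35853, .fwd 43761],
   .loop none [.bwd 43781, .bwd 35451, .fwd 43761],
   .loop none [.bwd 43771, .fwd 11279, .fwd 43761],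
   .loop none [.bwd 43770, .bwd 42418, .fwd 43761],
   .loop none [.bwd 43771, .bwd 4412, .fwd 43762],
   .loop none [.bwd 43768, .fwd 40214, .fwd 43762],
   .loop none [.bwd 43768, .fwd 40275, .fwd 43762],
   .loop none [.bwd 43790, .bwd 8905, .fwd 43762],
   .loop none [.bwd 43803, .fwd 40304, .fwd 43763],
   .loop none [.bwd 43785, .fwd 42584, .fwd 43763],
   .loop none [.bwd 43867, .bwd 33146, .fwd 43763],
   .loop none [.bwd 43853, .fwd 19096, .fwd 43763],
   .loop none [.bwd 43803, .fwd 42817, .fwd 43763],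
   .loop none [.bwd 43872, .bwd 9693, .fwd 43764],
   .loop none [.bwd 43766, .fwd 39107, .fwd 43764],
   .loop none [.bwd 43872, .fwd 39533, .fwd 43765],
   .loop none [.bwd 43771, .fwd 4413, .fwd 43765],
   .loop none [.bwd 43837, .fwd 41209, .fwd 43765],
   .loop none [.bwd 43841, .fwd 41803, .fwd 43765],
   .loop none [.bwd 43873, .fwd 42981, .fwd 43765]]

theorem just188_len : just188.length = 250 := by decide +kernel

theorem just188_ok : cert.okFacts 47000 just188 = true := by decide +kernel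

/-- justifications -/
noncomputable def just189 : List Cert.Just :=
  [.loop none [.bwd 43841, .fwd 5591, .fwd 43767],
   .loop none [.bwd 43827, .fwd 43013, .fwd 43767],
   .loop none [.bwd 43769, .bwd 40213, .fwd 43768],
   .loop none [.bwd 43874, .bwd 5867, .fwd 43768],
   .loop none [.bwd 43869, .bwd 40215, .fwd 43768],
   .loop none [.bwd 43827, .bwd 40588, .fwd 43768],
   .loop none [.bwd 43873, .bwd 36652, .fwd 43769],
   .loop none [.bwd 43866, .bwd 9697, .fwd 43769],
   .loop none [.bwd 43771, .fwd 34616, .fwd 43770],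
   .loop none [.bwd 43872, .fwd 9694, .fwd 43770],
   .loop none [.bwd 43872, .bwd 39555, .fwd 43770],
   .loop none [.bwd 43873, .fwd 42270, .fwd 43770],
   .loop none [.bwd 43837, .bwd 39557, .fwd 43770],
   .loop none [.bwd 43834, .fwd 41903, .fwd 43771],
   .loop none [.bwd 43874, .fwd 40738, .fwd 43771],
   .loop none [.bwd 43837, .fwd 42808, .fwd 43771],
   .loop none [.bwd 43778, .bwd 41246, .fwd 43772],
   .loop none [.bwd 43786, .bwd 5649, .fwd 43772],
   .loop none [.bwd 43864, .bwd 35404, .fwd 43772],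
   .loop none [.bwd 43775, .bwd 41249, .fwd 43772],
   .loop none [.bwd 43858, .bwd 41250, .fwd 43772],
   .loop none [.bwd 43859, .fwd 9463, .fwd 43772],
   .loop none [.bwd 43817, .bwd 34466, .fwd 43772],
   .loop none [.bwd 43865, .fwd 40302, .fwd 43772],
   .loop none [.bwd 43774, .bwd 40750, .fwd 43773],
   .loop none [.bwd 43865, .bwd 35944, .fwd 43773],
   .loop none [.bwd 43862, .fwd 4844, .fwd 43773],
   .loop none [.bwd 43839, .bwd 35945, .fwd 43773],
   .loop none [.bwd 43810, .bwd 6859, .fwd 43774],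
   .loop none [.bwd 43817, .bwd 34035, .fwd 43774],
   .loop none [.bwd 43863, .fwd 6858, .fwd 43774],
   .loop none [.bwd 43860, .fwd 9663, .fwd 43774],
   .loop none [.bwd 43833, .fwd 41468, .fwd 43775],
   .loop none [.bwd 43872, .bwd 11550, .fwd 43775],
   .loop none [.bwd 43861, .fwd 9545, .fwd 43775],
   .loop none [.bwd 43780, .bwd 35371, .fwd 43775],
   .loop none [.bwd 43779, .fwd 39929, .fwd 43775],
   .loop none [.bwd 43833, .bwd 41609, .fwd 43776],
   .loop none [.bwd 43854, .bwd 41764, .fwd 43776],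
   .loop none [.bwd 43844, .bwd 36538, .fwd 43776],
   .loop none [.bwd 43782, .bwd 41766, .fwd 43776],
   .loop none [.bwd 43833, .bwd 41004, .fwd 43777],
   .loop none [.bwd 43789, .bwd 42014, .fwd 43777],
   .loop none [.bwd 43816, .bwd 41562, .fwd 43777],
   .loop none [.bwd 43832, .fwd 9481, .fwd 43777],
   .loop none [.bwd 43847, .fwd 41395, .fwd 43777],
   .loop none [.bwd 43788, .bwd 41106, .fwd 43778],
   .loop none [.bwd 43868, .fwd 41161, .fwd 43778],
   .loop none [.bwd 43851, .fwd 42191, .fwd 43778],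
   .loop none [.bwd 43865, .bwd 41138, .fwd 43778],
   .loop none [.bwd 43817, .fwd 40749, .fwd 43778],
   .loop none [.bwd 43780, .fwd 39930, .fwd 43779],
   .loop none [.bwd 43826, .fwd 14503, .fwd 43779],
   .loop none [.bwd 43781, .bwd 35689, .fwd 43779],
   .loop none [.bwd 43847, .fwd 41392, .fwd 43779],
   .loop none [.bwd 43865, .fwd 41025, .fwd 43779],
   .loop none [.bwd 43873, .bwd 14787, .fwd 43779],
   .loop none [.bwd 43862, .fwd 36263, .fwd 43779],
   .loop none [.bwd 43813, .bwd 35749, .fwd 43780],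
   .loop none [.bwd 43787, .fwd 6651, .fwd 43780],
   .loop none [.bwd 43875, .bwd 40292, .fwd 43780],
   .loop none [.bwd 43817, .fwd 40746, .fwd 43780],
   .loop none [.bwd 43874, .fwd 36633, .fwd 43780],
   .loop none [.bwd 43863, .fwd 9631, .fwd 43780],
   .loop none [.bwd 43787, .bwd 39892, .fwd 43781],
   .loop none [.bwd 43847, .fwd 5598, .fwd 43781],
   .loop none [.bwd 43858, .bwd 41188, .fwd 43781],
   .loop none [.bwd 43826, .fwd 41657, .fwd 43781],
   .loop none [.bwd 43864, .fwd 35856, .fwd 43781],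
   .loop none [.bwd 43809, .bwd 34429, .fwd 43782],
   .loop none [.bwd 43875, .fwd 39664, .fwd 43782],
   .loop none [.bwd 43827, .bwd 13195, .fwd 43782],
   .loop none [.bwd 43842, .fwd 42649, .fwd 43782],
   .loop none [.bwd 43868, .bwd 6856, .fwd 43783],
   .loop none [.bwd 43784, .bwd 41372, .fwd 43783],
   .loop none [.bwd 43790, .bwd 40688, .fwd 43783],
   .loop none [.bwd 43838, .bwd 42887, .fwd 43783],
   .loop none [.bwd 43876, .bwd 27391, .fwd 43784],
   .loop none [.bwd 43860, .fwd 40334, .fwd 43784],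
   .loop none [.bwd 43839, .bwd 42938, .fwd 43784],
   .loop none [.bwd 43803, .bwd 5913, .fwd 43785],
   .loop none [.bwd 43828, .bwd 42583, .fwd 43785],
   .loop none [.bwd 43866, .bwd 11558, .fwd 43785],
   .loop none [.bwd 43865, .fwd 9549, .fwd 43785],
   .loop none [.bwd 43851, .bwd 42816, .fwd 43785],
   .loop none [.bwd 43788, .bwd 41241, .fwd 43786],
   .loop none [.bwd 43833, .fwd 35308, .fwd 43786],
   .loop none [.bwd 43865, .bwd 41244, .fwd 43786],
   .loop none [.bwd 43870, .fwd 9464, .fwd 43786],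
   .loop none [.bwd 43858, .fwd 18377, .fwd 43786],
   .loop none [.bwd 43802, .fwd 41191, .fwd 43787],
   .loop none [.bwd 43851, .fwd 42187, .fwd 43787],
   .loop none [.bwd 43825, .fwd 41985, .fwd 43787],
   .loop none [.bwd 43837, .fwd 36549, .fwd 43787],
   .loop none [.bwd 43868, .fwd 9630, .fwd 43787],
   .loop none [.bwd 43817, .bwd 40874, .fwd 43788],
   .loop none [.bwd 43871, .bwd 41030, .fwd 43788],
   .loop none [.bwd 43858, .fwd 41145, .fwd 43788],
   .loop none [.bwd 43800, .bwd 776, .fwd 43789],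
   .loop none [.bwd 43836, .fwd 34820, .fwd 43789],
   .loop none [.bwd 43825, .fwd 41988, .fwd 43789],
   .loop none [.bwd 43826, .bwd 41845, .fwd 43789],
   .loop none [.bwd 43838, .fwd 37184, .fwd 43790],
   .loop none [.bwd 43860, .fwd 35119, .fwd 43790],
   .loop none [.bwd 43795, .bwd 32842, .fwd 43791],
   .loop none [.bwd 43811, .fwd 40790, .fwd 43791],
   .loop none [.bwd 43796, .fwd 41676, .fwd 43792],
   .loop none [.bwd 43860, .fwd 6723, .fwd 43792],
   .loop none [.bwd 43811, .bwd 40760, .fwd 43792],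
   .loop none [.bwd 43820, .fwd 14551, .fwd 43792],
   .loop none [.bwd 43814, .fwd 40803, .fwd 43792],
   .loop none [.bwd 43810, .bwd 9665, .fwd 43792],
   .loop none [.bwd 43855, .bwd 35284, .fwd 43792],
   .loop none [.bwd 43856, .bwd 42871, .fwd 43792],
   .loop none [.bwd 43794, .bwd 39943, .fwd 43793],
   .loop none [.bwd 43823, .fwd 40261, .fwd 43793],
   .loop none [.bwd 43855, .fwd 41023, .fwd 43793],
   .loop none [.bwd 43869, .bwd 39771, .fwd 43794],
   .loop none [.bwd 43856, .bwd 39915, .fwd 43794],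
   .loop none [.bwd 43819, .fwd 41054, .fwd 43795],
   .loop none [.bwd 43819, .fwd 5588, .fwd 43796],
   .loop none [.bwd 43835, .bwd 5589, .fwd 43796],
   .loop none [.bwd 43818, .bwd 36516, .fwd 43796],
   .loop none [.bwd 43856, .fwd 42993, .fwd 43796],
   .loop none [.bwd 43855, .fwd 36816, .fwd 43796],
   .loop none [.bwd 43867, .fwd 34566, .fwd 43797],
   .loop none [.bwd 43823, .fwd 34150, .fwd 43797],
   .loop none [.bwd 43863, .fwd 40283, .fwd 43797],
   .loop none [.bwd 43800, .bwd 33938, .fwd 43797],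
   .loop none [.bwd 43823, .bwd 39660, .fwd 43797],
   .loop none [.bwd 43824, .fwd 36111, .fwd 43797],
   .loop none [.bwd 43799, .fwd 41668, .fwd 43798],
   .loop none [.bwd 43863, .fwd 11602, .fwd 43798],
   .loop none [.bwd 43855, .bwd 9936, .fwd 43798],
   .loop none [.bwd 43810, .bwd 11603, .fwd 43798],
   .loop none [.bwd 43805, .fwd 41024, .fwd 43798],
   .loop none [.bwd 43813, .bwd 35752, .fwd 43798],
   .loop none [.bwd 43820, .fwd 14550, .fwd 43798],
   .loop none [.bwd 43811, .fwd 40621, .fwd 43798],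
   .loop none [.bwd 43819, .fwd 41056, .fwd 43798],
   .loop none [.bwd 43829, .bwd 4579, .fwd 43799],
   .loop none [.bwd 43856, .bwd 41671, .fwd 43799],
   .loop none [.bwd 43818, .fwd 4578, .fwd 43799],
   .loop none [.bwd 43808, .bwd 41673, .fwd 43799],
   .loop none [.bwd 43812, .fwd 36618, .fwd 43799],
   .loop none [.bwd 43835, .fwd 36679, .fwd 43799],
   .loop none [.bwd 43819, .fwd 42745, .fwd 43799],
   .loop none [.bwd 43811, .bwd 42321, .fwd 43799],
   .loop none [.bwd 43853, .fwd 34066, .fwd 43800],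
   .loop none [.bwd 43816, .fwd 32957, .fwd 43800],
   .loop none [.bwd 43875, .fwd 34074, .fwd 43800],
   .loop none [.bwd 43816, .fwd 39663, .fwd 43800],
   .loop none [.bwd 43852, .fwd 35880, .fwd 43800],
   .loop none [.bwd 43802, .fwd 12447, .fwd 43801],
   .loop none [.bwd 43875, .bwd 33398, .fwd 43801],
   .loop none [.bwd 43812, .bwd 42312, .fwd 43801],
   .loop none [.bwd 43813, .fwd 40741, .fwd 43801],
   .loop none [.bwd 43804, .bwd 33403, .fwd 43801],
   .loop none [.bwd 43856, .fwd 14745, .fwd 43801],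
   .loop none [.bwd 43810, .bwd 41955, .fwd 43801],
   .loop none [.bwd 43818, .bwd 42996, .fwd 43801],
   .loop none [.bwd 43813, .bwd 41194, .fwd 43802],
   .loop none [.bwd 43812, .fwd 41786, .fwd 43802],
   .loop none [.bwd 43807, .bwd 14738, .fwd 43802],
   .loop none [.bwd 43855, .bwd 41195, .fwd 43802],
   .loop none [.bwd 43818, .fwd 41410, .fwd 43802],
   .loop none [.bwd 43810, .bwd 41198, .fwd 43802],
   .loop none [.bwd 43824, .bwd 11560, .fwd 43803],
   .loop none [.bwd 43852, .fwd 9550, .fwd 43803],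
   .loop none [.bwd 43807, .bwd 36898, .fwd 43804],
   .loop none [.bwd 43834, .fwd 41899, .fwd 43804],
   .loop none [.bwd 43835, .fwd 41942, .fwd 43804],
   .loop none [.bwd 43845, .fwd 34560, .fwd 43804],
   .loop none [.bwd 43856, .fwd 34320, .fwd 43804],
   .loop none [.bwd 43808, .fwd 41279, .fwd 43805],
   .loop none [.bwd 43871, .bwd 41057, .fwd 43805],
   .loop none [.bwd 43846, .fwd 41081, .fwd 43805],
   .loop none [.bwd 43811, .bwd 41058, .fwd 43805],
   .loop none [.bwd 43845, .bwd 39911, .fwd 43805],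
   .loop none [.bwd 43815, .fwd 42976, .fwd 43805],
   .loop none [.bwd 43827, .bwd 41165, .fwd 43806],
   .loop none [.bwd 43809, .bwd 41168, .fwd 43806],
   .loop none [.bwd 43815, .bwd 41171, .fwd 43806],
   .loop none [.bwd 43837, .fwd 41207, .fwd 43807],
   .loop none [.bwd 43820, .bwd 41069, .fwd 43807],
   .loop none [.bwd 43846, .fwd 41082, .fwd 43807],
   .loop none [.bwd 43855, .bwd 41070, .fwd 43807],
   .loop none [.bwd 43832, .fwd 5492, .fwd 43808],
   .loop none [.bwd 43845, .fwd 41521, .fwd 43808],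
   .loop none [.bwd 43819, .fwd 36248, .fwd 43808],
   .loop none [.bwd 43846, .bwd 27355, .fwd 43808],
   .loop none [.bwd 43815, .bwd 41283, .fwd 43808],
   .loop none [.bwd 43814, .fwd 39514, .fwd 43809],
   .loop none [.bwd 43818, .fwd 41401, .fwd 43810],
   .loop none [.bwd 43819, .fwd 40816, .fwd 43811],
   .loop none [.bwd 43815, .bwd 40791, .fwd 43811],
   .loop none [.bwd 43813, .bwd 41784, .fwd 43812],
   .loop none [.bwd 43825, .bwd 5689, .fwd 43812],
   .loop none [.bwd 43835, .bwd 9509, .fwd 43812],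
   .loop none [.bwd 43820, .fwd 35754, .fwd 43813],
   .loop none [.bwd 43842, .bwd 42654, .fwd 43814],
   .loop none [.bwd 43815, .fwd 40911, .fwd 43814],
   .loop none [.bwd 43815, .fwd 40912, .fwd 43814],
   .loop none [.bwd 43846, .fwd 42811, .fwd 43814],
   .loop none [.bwd 43845, .bwd 39515, .fwd 43814],
   .loop none [.bwd 43848, .bwd 10709, .fwd 43815],
   .loop none [.bwd 43852, .fwd 39670, .fwd 43816],
   .loop none [.bwd 43825, .fwd 41986, .fwd 43816],
   .loop none [.bwd 43823, .fwd 34151, .fwd 43816],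
   .loop none [.bwd 43853, .bwd 39662, .fwd 43816],
   .loop none [.bwd 43865, .fwd 40295, .fwd 43817],
   .loop none [.bwd 43869, .bwd 39797, .fwd 43817],
   .loop none [.bwd 43835, .fwd 41940, .fwd 43820],
   .loop none [.bwd 43874, .fwd 36630, .fwd 43820],
   .loop none [.bwd 43856, .fwd 14448, .fwd 43821],
   .loop none [.bwd 43822, .bwd 12004, .fwd 43821],
   .loop none [.bwd 43845, .bwd 14449, .fwd 43822],
   .loop none [.bwd 43824, .fwd 41114, .fwd 43823],
   .loop none [.bwd 43868, .fwd 41163, .fwd 43823],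
   .loop none [.bwd 43867, .fwd 43051, .fwd 43823],
   .loop none [.bwd 43866, .fwd 9698, .fwd 43824],
   .loop none [.bwd 43867, .bwd 42153, .fwd 43824],
   .loop none [.bwd 43864, .fwd 41397, .fwd 43824],
   .loop none [.bwd 43861, .bwd 41116, .fwd 43824],
   .loop none [.bwd 43852, .bwd 11559, .fwd 43824],
   .loop none [.bwd 43867, .bwd 42905, .fwd 43824],
   .loop none [.bwd 43826, .bwd 41983, .fwd 43825],
   .loop none [.bwd 43875, .bwd 41984, .fwd 43825],
   .loop none [.bwd 43841, .bwd 9510, .fwd 43825],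
   .loop none [.bwd 43829, .bwd 36742, .fwd 43825],
   .loop none [.bwd 43847, .bwd 36258, .fwd 43826],
   .loop none [.bwd 43852, .bwd 41658, .fwd 43826],
   .loop none [.bwd 43840, .fwd 35870, .fwd 43826],
   .loop none [.bwd 43830, .fwd 41913, .fwd 43826],
   .loop none [.bwd 43836, .bwd 40046, .fwd 43827],
   .loop none [.bwd 43848, .fwd 40865, .fwd 43827],
   .loop none [.bwd 43836, .bwd 42381, .fwd 43828],
   .loop none [.bwd 43847, .bwd 5597, .fwd 43828],
   .loop none [.bwd 43873, .bwd 42380, .fwd 43828],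
   .loop none [.bwd 43849, .fwd 35864, .fwd 43828],
   .loop none [.bwd 43840, .fwd 14931, .fwd 43828],
   .loop none [.bwd 43841, .bwd 42760, .fwd 43828],
   .loop none [.bwd 43830, .fwd 42325, .fwd 43829],
   .loop none [.bwd 43877, .bwd 41935, .fwd 43829],
   .loop none [.bwd 43832, .bwd 41937, .fwd 43829],
   .loop none [.bwd 43841, .fwd 36697, .fwd 43829],
   .loop none [.bwd 43849, .fwd 40926, .fwd 43829],
   .loop none [.bwd 43878, .bwd 41938, .fwd 43829],
   .loop none [.bwd 43862, .fwd 42039, .fwd 43830],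
   .loop none [.bwd 43850, .bwd 10362, .fwd 43830]]

theorem just189_len : just189.length = 250 := by decide +kernel

theorem just189_ok : cert.okFacts 47250 just189 = true := by decide +kernel

/-- justifications -/
noncomputable def just190 : List Cert.Just :=
  [.loop none [.bwd 43843, .bwd 41910, .fwd 43830],
   .loop none [.bwd 43857, .bwd 42328, .fwd 43830],
   .loop none [.bwd 43831, .bwd 41912, .fwd 43830],
   .loop none [.bwd 43840, .bwd 41914, .fwd 43830],
   .loop none [.bwd 43878, .fwd 12087, .fwd 43830],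
   .loop none [.bwd 43849, .bwd 41915, .fwd 43830],
   .loop none [.bwd 43832, .fwd 40827, .fwd 43831],
   .loop none [.bwd 43870, .bwd 9291, .fwd 43831],
   .loop none [.bwd 43844, .fwd 41351, .fwd 43831],
   .loop none [.bwd 43849, .bwd 4585, .fwd 43831],
   .loop none [.bwd 43859, .fwd 42344, .fwd 43831],
   .loop none [.bwd 43833, .fwd 35311, .fwd 43831],
   .loop none [.bwd 43877, .fwd 43007, .fwd 43831],
   .loop none [.bwd 43843, .fwd 35514, .fwd 43831],
   .loop none [.bwd 43878, .fwd 41640, .fwd 43832],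
   .loop none [.bwd 43876, .fwd 27356, .fwd 43832],
   .loop none [.bwd 43843, .fwd 42801, .fwd 43832],
   .loop none [.bwd 43877, .bwd 42698, .fwd 43832],
   .loop none [.bwd 43852, .bwd 41467, .fwd 43833],
   .loop none [.bwd 43875, .bwd 41469, .fwd 43833],
   .loop none [.bwd 43847, .bwd 23164, .fwd 43833],
   .loop none [.bwd 43841, .fwd 41874, .fwd 43834],
   .loop none [.bwd 43878, .bwd 41901, .fwd 43834],
   .loop none [.bwd 43877, .fwd 42015, .fwd 43834],
   .loop none [.bwd 43875, .fwd 42038, .fwd 43834],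
   .loop none [.bwd 43841, .bwd 5590, .fwd 43835],
   .loop none [.bwd 43875, .bwd 17831, .fwd 43836],
   .loop none [.bwd 43874, .fwd 40739, .fwd 43836],
   .loop none [.bwd 43878, .fwd 40469, .fwd 43836],
   .loop none [.bwd 43841, .fwd 42748, .fwd 43836],
   .loop none [.bwd 43840, .bwd 41907, .fwd 43836],
   .loop none [.bwd 43874, .fwd 5868, .fwd 43837],
   .loop none [.bwd 43876, .bwd 5869, .fwd 43837],
   .loop none [.bwd 43868, .bwd 36548, .fwd 43837],
   .loop none [.bwd 43839, .fwd 40784, .fwd 43838],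
   .loop none [.bwd 43860, .fwd 40330, .fwd 43839],
   .loop none [.bwd 43866, .fwd 36431, .fwd 43839],
   .loop none [.bwd 43873, .fwd 12142, .fwd 43839],
   .loop none [.bwd 43841, .bwd 42332, .fwd 43840],
   .loop none [.bwd 43873, .bwd 35865, .fwd 43840],
   .loop none [.bwd 43872, .bwd 42333, .fwd 43840],
   .loop none [.bwd 43851, .fwd 42188, .fwd 43841],
   .loop none [.bwd 43877, .bwd 42644, .fwd 43842],
   .loop none [.bwd 43848, .bwd 42645, .fwd 43842],
   .loop none [.bwd 43848, .bwd 42647, .fwd 43842],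
   .loop none [.bwd 43860, .bwd 42648, .fwd 43842],
   .loop none [.bwd 43844, .bwd 42651, .fwd 43842],
   .loop none [.bwd 43877, .bwd 41659, .fwd 43843],
   .loop none [.bwd 43864, .bwd 36004, .fwd 43843],
   .loop none [.bwd 43849, .fwd 35862, .fwd 43843],
   .loop none [.bwd 43866, .bwd 41660, .fwd 43843],
   .loop none [.bwd 43847, .bwd 9519, .fwd 43843],
   .loop none [.bwd 43850, .fwd 41895, .fwd 43844],
   .loop none [.bwd 43846, .fwd 41078, .fwd 43845],
   .loop none [.bwd 43878, .fwd 40463, .fwd 43845],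
   .loop none [.bwd 43856, .fwd 14742, .fwd 43845],
   .loop none [.bwd 43876, .fwd 5870, .fwd 43846],
   .loop none [.bwd 43855, .fwd 41022, .fwd 43846],
   .loop none [.bwd 43875, .bwd 41386, .fwd 43847],
   .loop none [.bwd 43853, .bwd 41391, .fwd 43847],
   .loop none [.bwd 43878, .bwd 10710, .fwd 43848],
   .loop none [.bwd 43850, .fwd 12002, .fwd 43848],
   .loop none [.bwd 43878, .bwd 41773, .fwd 43849],
   .loop none [.bwd 43859, .bwd 9292, .fwd 43849],
   .loop none [.bwd 43870, .bwd 42375, .fwd 43849],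
   .loop none [.bwd 43876, .bwd 42190, .fwd 43851],
   .loop none [.bwd 43865, .fwd 6784, .fwd 43852],
   .loop none [.bwd 43854, .bwd 6785, .fwd 43852],
   .loop none [.bwd 43853, .bwd 39673, .fwd 43852],
   .loop none [.bwd 43853, .bwd 35881, .fwd 43852],
   .loop none [.bwd 43858, .bwd 11818, .fwd 43853],
   .loop none [.bwd 43867, .bwd 34069, .fwd 43853],
   .loop none [.bwd 43856, .bwd 41019, .fwd 43855],
   .loop none [.bwd 43868, .fwd 11601, .fwd 43855],
   .loop none [.bwd 43877, .bwd 34317, .fwd 43856],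
   .loop none [.bwd 43867, .fwd 39699, .fwd 43857],
   .loop none [.bwd 43866, .fwd 36465, .fwd 43857],
   .loop none [.bwd 43861, .fwd 40164, .fwd 43857],
   .loop none [.bwd 43858, .fwd 39679, .fwd 43857],
   .loop none [.bwd 43871, .fwd 40629, .fwd 43857],
   .loop none [.bwd 43870, .fwd 40928, .fwd 43857],
   .loop none [.bwd 43865, .fwd 40298, .fwd 43858],
   .loop none [.bwd 43876, .bwd 41478, .fwd 43859],
   .loop none [.bwd 43870, .bwd 5527, .fwd 43859],
   .loop none [.bwd 43864, .fwd 35390, .fwd 43859],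
   .loop none [.bwd 43869, .fwd 39715, .fwd 43859],
   .loop none [.bwd 43866, .bwd 40608, .fwd 43859],
   .loop none [.bwd 43869, .bwd 40333, .fwd 43860],
   .loop none [.bwd 43874, .fwd 36631, .fwd 43860],
   .loop none [.bwd 43872, .fwd 11549, .fwd 43861],
   .loop none [.bwd 43863, .fwd 42890, .fwd 43861],
   .loop none [.bwd 43862, .bwd 40165, .fwd 43861],
   .loop none [.bwd 43863, .bwd 42329, .fwd 43862],
   .loop none [.bwd 43864, .fwd 4843, .fwd 43862],
   .loop none [.bwd 43867, .bwd 42377, .fwd 43862],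
   .loop none [.bwd 43870, .bwd 36160, .fwd 43862],
   .loop none [.bwd 43873, .bwd 36264, .fwd 43862],
   .loop none [.bwd 43868, .fwd 6857, .fwd 43863],
   .loop none [.bwd 43871, .fwd 40737, .fwd 43863],
   .loop none [.bwd 43874, .fwd 36632, .fwd 43863],
   .loop none [.bwd 43868, .bwd 41396, .fwd 43864],
   .loop none [.bwd 43866, .fwd 11557, .fwd 43865],
   .loop none [.bwd 43869, .fwd 37023, .fwd 43866],
   .loop none [.bwd 43876, .bwd 42904, .fwd 43866],
   .loop none [.bwd 43876, .bwd 41162, .fwd 43868],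
   .loop none [.bwd 43877, .fwd 40597, .fwd 43869],
   .loop none [.bwd 43876, .fwd 42809, .fwd 43869],
   .loop none [.bwd 43871, .fwd 36931, .fwd 43870],
   .loop none [.bwd 43876, .bwd 40622, .fwd 43871],
   .loop none [.bwd 43878, .bwd 40983, .fwd 43871],
   .loop none [.bwd 43874, .fwd 42805, .fwd 43872],
   .loop none [.bwd 43873, .bwd 39536, .fwd 43872],
   .loop none [.bwd 43874, .fwd 40512, .fwd 43873],
   .loop none [.bwd 43877, .fwd 15178, .fwd 43875],
   .loop none [.bwd 43878, .fwd 40467, .fwd 43877]]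

theorem just190_len : just190.length = 115 := by decide +kernel

theorem just190_ok : cert.okFacts 47500 just190 = true := by decide +kernel


end CfsgLib.ThCent.DX
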