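import Cfsg.Agent.Lib.ThCent.DXData

/-!
Justifications of the side facts (generated data).
-/

namespace CfsgLib.ThCent.DX

open CfsgLib.PresCert

set_option maxRecDepth 100000

/-- justifications -/
noncomputable def just24 : List Cert.Just :=
  [.loop (some (1, 2)) [.fwd 1605, .fwd 5982, .fwd 5999],
   .loop (some (18, 2)) [.bwd 2926, .bwd 804, .bwd 803, .fwd 1605, .fwd 375, .fwd 376],
   .loop none [.bwd 6001],
   .loop none [.bwd 2372, .bwd 6002],
   .loop none [.fwd 2926, .bwd 6002],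
   .loop (some (6, 1)) [.fwd 639, .bwd 1493, .bwd 1644],
   .loop (some (14, 2)) [.bwd 5977, .bwd 5976, .bwd 1672, .fwd 5976],
   .loop (some (12, 2)) [.bwd 375, .bwd 1672, .fwd 375],
   .loop (some (15, 0)) [.fwd 1652, .fwd 1653, .fwd 1654, .bwd 375],
   .define,
   .define,
   .define,
   .define,
   .define,
   .define,
   .loop (some (19, 5)) [.fwd 5998, .fwd 6010, .fwd 6011, .fwd 6012, .fwd 6013, .fwd 6014],
   .define,
   .define,
   .define,
   .define,
   .loop (some (16, 4)) [.fwd 5994, .fwd 6016, .fwd 6017, .fwd 6018, .fwd 6019],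
   .loop (some (17, 5)) [.fwd 1654, .bwd 5994, .bwd 513, .bwd 989, .fwd 5265, .fwd 2920],
   .loop none [.fwd 6021],
   .loop none [.fwd 4137, .bwd 6022],
   .loop none [.fwd 2920, .bwd 6022],
   .loop none [.fwd 5837, .bwd 6022],
   .define,
   .loop (some (7, 2)) [.fwd 1654, .bwd 5998, .fwd 6026],
   .define,
   .define,
   .define,
   .define,
   .loop (some (21, 5)) [.fwd 6014, .fwd 6015, .fwd 5998, .fwd 376, .fwd 6028, .fwd 6029, .fwd 6030, .fwd 6031],
   .define,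
   .loop (some (20, 2)) [.fwd 1649, .fwd 1650, .fwd 1651, .fwd 1652, .fwd 1653, .fwd 1654, .fwd 6016, .fwd 6033],
   .loop (some (8, 1)) [.fwd 1644, .fwd 375, .fwd 6010],
   .define,
   .loop (some (1, 2)) [.bwd 376, .fwd 6016, .fwd 6036],
   .define,
   .loop (some (6, 2)) [.fwd 5994, .bwd 5998, .fwd 6038],
   .loop (some (3, 3)) [.bwd 376, .bwd 5994, .fwd 1714, .fwd 1715],
   .loop none [.fwd 6040],
   .loop none [.bwd 377, .fwd 6041, .bwd 1715],
   .loop none [.fwd 6042],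
   .loop none [.bwd 6003, .fwd 6041, .fwd 1716],
   .loop none [.bwd 6044],
   .loop none [.fwd 1714, .bwd 6043],
   .loop none [.fwd 6003, .bwd 6045],
   .loop none [.bwd 1717, .fwd 6045, .fwd 2373],
   .loop none [.fwd 6048],
   .loop none [.bwd 2354, .bwd 6049],
   .loop none [.fwd 2353, .bwd 6049],
   .loop (some (13, 2)) [.bwd 376, .bwd 6007, .fwd 376],
   .loop (some (4, 2)) [.fwd 6047, .bwd 376, .bwd 1654, .fwd 6025],
   .loop none [.fwd 6053],
   .loop none [.bwd 1717, .fwd 6054, .bwd 5836],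
   .loop none [.fwd 6055],
   .loop none [.fwd 6025, .bwd 6054],
   .loop none [.bwd 6050, .fwd 6056, .bwd 5835],
   .loop none [.fwd 6058],
   .loop none [.fwd 4727, .fwd 6059, .bwd 5834],
   .loop none [.fwd 6060],
   .loop none [.bwd 988, .fwd 6061, .bwd 5833],
   .loop none [.fwd 6062],
   .loop none [.fwd 5281, .fwd 6063, .bwd 5832],
   .loop none [.fwd 6064],
   .loop none [.fwd 5736, .fwd 6065, .bwd 5831],
   .loop none [.fwd 6066],
   .loop none [.bwd 5735, .fwd 6067, .bwd 5830],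
   .loop none [.fwd 6068],
   .loop none [.bwd 5733, .fwd 6069, .bwd 5829],
   .loop none [.fwd 6070],
   .loop none [.fwd 5815, .fwd 6071, .bwd 5828],
   .loop none [.fwd 6072],
   .loop none [.bwd 5814, .fwd 6073, .bwd 5827],
   .loop none [.fwd 6074],
   .loop none [.fwd 5748, .fwd 6075, .bwd 5826],
   .loop none [.fwd 6076],
   .loop none [.fwd 5753, .fwd 6077, .bwd 5825],
   .loop none [.fwd 6078],
   .loop none [.bwd 512, .fwd 6079, .bwd 5824],
   .loop none [.fwd 6080],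
   .loop none [.bwd 513, .fwd 6081, .bwd 5823],
   .loop none [.fwd 6082],
   .loop none [.fwd 6020, .fwd 6083, .bwd 4082],
   .loop none [.bwd 6084],
   .loop none [.bwd 5994, .fwd 6083, .bwd 2497],
   .loop none [.fwd 6086],
   .loop none [.bwd 6020, .bwd 6085],
   .loop none [.bwd 6016, .fwd 6087, .fwd 2453],
   .loop none [.bwd 6089],
   .loop none [.fwd 375, .fwd 6087, .fwd 2510],
   .loop none [.fwd 6091],
   .loop none [.bwd 376, .fwd 6087, .bwd 2452],
   .loop none [.fwd 6093],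
   .loop none [.fwd 5998, .fwd 6087, .bwd 2519],
   .loop none [.bwd 6095],
   .loop none [.fwd 6016, .bwd 6090],
   .loop none [.fwd 5328, .fwd 6090, .fwd 6033],
   .loop none [.fwd 6098],
   .loop none [.fwd 104, .fwd 6090, .fwd 6036],
   .loop none [.fwd 6100],
   .loop none [.bwd 1494, .fwd 6092, .fwd 2511],
   .loop none [.fwd 6102],
   .loop none [.bwd 377, .fwd 6094, .fwd 2434],
   .loop none [.fwd 6104],
   .loop none [.bwd 6004, .fwd 6094, .fwd 2447],
   .loop none [.fwd 6106],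
   .loop none [.bwd 6028, .fwd 6094, .bwd 2450],
   .loop none [.bwd 6108],
   .loop none [.bwd 6038, .bwd 6096],
   .loop none [.bwd 6026, .bwd 6096],
   .loop none [.fwd 5997, .bwd 6096],
   .loop none [.bwd 5998, .bwd 6096],
   .loop none [.fwd 6015, .bwd 6096],
   .loop none [.bwd 5327, .fwd 6099, .fwd 6034],
   .loop none [.bwd 6115],
   .loop none [.bwd 6037, .bwd 6101],
   .loop none [.fwd 1312, .fwd 6103, .fwd 2512],
   .loop none [.fwd 6118],
   .loop none [.fwd 4243, .bwd 6105],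
   .loop none [.fwd 4728, .bwd 6107],
   .loop none [.bwd 4290, .bwd 6107],
   .loop none [.bwd 6029, .bwd 6109],
   .loop none [.fwd 6028, .bwd 6109],
   .loop none [.bwd 1640, .fwd 6116, .bwd 2487],
   .loop none [.fwd 6125],
   .loop none [.fwd 5327, .bwd 6116],
   .loop none [.bwd 1649, .fwd 6116, .bwd 2528],
   .loop none [.fwd 6128],
   .loop none [.fwd 1664, .fwd 6119, .fwd 2513],
   .loop none [.fwd 6130],
   .loop none [.fwd 2486, .bwd 6126],
   .loop none [.bwd 1650, .fwd 6129, .bwd 2527],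
   .loop none [.fwd 6133],
   .loop none [.bwd 4118, .bwd 6129],
   .loop none [.bwd 1076, .fwd 6131, .fwd 2514],
   .loop none [.fwd 6136],
   .loop none [.fwd 2526, .bwd 6134],
   .loop none [.fwd 1674, .fwd 6137, .fwd 2515],
   .loop none [.fwd 6139],
   .loop none [.fwd 5993, .fwd 6140, .fwd 2516],
   .loop none [.bwd 6141],
   .loop none [.bwd 2558, .bwd 6140],
   .loop none [.bwd 2460, .fwd 6142, .bwd 5992],
   .loop none [.fwd 6144],
   .loop none [.bwd 5993, .bwd 6142],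
   .loop none [.fwd 5328, .fwd 6145, .bwd 5991],
   .loop none [.fwd 6147],
   .loop none [.fwd 5982, .bwd 6148],
   .loop none [.bwd 612, .fwd 6148, .fwd 5983],
   .loop none [.fwd 6150],
   .loop none [.fwd 611, .fwd 6148, .fwd 5999],
   .loop none [.fwd 6152],
   .loop none [.bwd 5331, .fwd 6148, .bwd 5996],
   .loop none [.fwd 6154],
   .loop none [.bwd 5984, .bwd 6151],
   .loop none [.bwd 6000, .bwd 6153],
   .loop none [.fwd 5995, .bwd 6155],
   .loop (some (11, 2)) [.fwd 1654, .bwd 6007, .bwd 1654],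
   .loop (some (15, 0)) [.fwd 1664, .fwd 1312, .bwd 1494, .fwd 375],
   .define,
   .define,
   .define,
   .define,
   .define,
   .loop (some (19, 5)) [.fwd 6124, .fwd 6161, .fwd 6162, .fwd 6163, .fwd 6164, .fwd 6165],
   .define,
   .define,
   .loop (some (7, 2)) [.fwd 6047, .bwd 6124, .fwd 6168],
   .define,
   .define,
   .define,
   .loop (some (21, 5)) [.fwd 6165, .fwd 6166, .fwd 6124, .bwd 376, .bwd 6113, .fwd 6170, .fwd 6171, .fwd 6172],
   .loop (some (2, 1)) [.bwd 805, .bwd 6004, .fwd 377],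
   .loop (some (8, 1)) [.bwd 2927, .bwd 6004, .fwd 6161],
   .define,
   .loop (some (6, 2)) [.bwd 377, .bwd 6124, .fwd 6176],
   .loop (some (15, 0)) [.fwd 5274, .fwd 987, .bwd 6121, .bwd 6004],
   .loop (some (10, 2)) [.bwd 377, .bwd 6052, .fwd 377],
   .define,
   .define,
   .define,
   .define,
   .define,
   .define,
   .loop (some (19, 5)) [.fwd 6177, .fwd 6181, .fwd 6182, .fwd 6183, .fwd 6184, .fwd 6185],
   .define,
   .loop (some (7, 2)) [.bwd 378, .bwd 6177, .fwd 6187],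
   .define,
   .define,
   .define,
   .loop (some (21, 5)) [.fwd 6185, .fwd 6186, .fwd 6177, .fwd 6046, .bwd 6039, .fwd 6189, .fwd 6190, .fwd 6191],
   .loop (some (20, 9)) [.fwd 6120, .fwd 2331, .fwd 2332, .bwd 103, .bwd 102, .fwd 2301, .fwd 1317, .fwd 1318, .bwd 6050],
   .loop none [.fwd 6193],
   .loop none [.bwd 378, .fwd 6194, .fwd 6050],
   .loop none [.fwd 6195],
   .loop none [.bwd 6174, .fwd 6194, .bwd 1717],
   .loop none [.fwd 6197],
   .loop none [.bwd 6046, .fwd 6194, .fwd 1718],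
   .loop none [.fwd 6199],
   .loop none [.bwd 6051, .bwd 6194],
   .loop none [.bwd 4284, .bwd 6196],
   .loop none [.bwd 6167, .fwd 6196, .bwd 4727],
   .loop none [.bwd 6203],
   .loop none [.bwd 379, .fwd 6196, .bwd 1318],
   .loop none [.fwd 6205],
   .loop none [.fwd 4713, .bwd 6196],
   .loop none [.fwd 6188, .fwd 6196, .fwd 4287],
   .loop none [.bwd 6208],
   .loop none [.fwd 6196, .bwd 4288, .bwd 6196],
   .loop none [.bwd 806, .fwd 6198, .fwd 6047],
   .loop none [.bwd 6211],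
   .loop none [.bwd 6057, .bwd 6198],
   .loop none [.fwd 6169, .bwd 6198],
   .loop none [.bwd 5994, .fwd 6200, .fwd 1719],
   .loop none [.fwd 6215],
   .loop none [.fwd 6167, .bwd 6204],
   .loop none [.fwd 3000, .bwd 6206],
   .loop none [.fwd 1317, .bwd 6206],
   .loop none [.fwd 2490, .bwd 6206],
   .loop none [.fwd 6187, .bwd 6209],
   .loop none [.bwd 6188, .bwd 6209],
   .loop none [.fwd 806, .bwd 6212],
   .loop none [.bwd 6004, .fwd 6212, .fwd 807],
   .loop none [.fwd 6224],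
   .loop none [.fwd 1654, .fwd 6216, .fwd 1720],
   .loop none [.fwd 6226],
   .loop none [.fwd 804, .fwd 6225, .fwd 808],
   .loop none [.fwd 6228],
   .loop none [.fwd 1653, .fwd 6227, .fwd 1721],
   .loop none [.fwd 6230],
   .loop none [.fwd 6024, .fwd 6229, .fwd 809],
   .loop none [.bwd 6232],
   .loop none [.bwd 1722, .bwd 6231],
   .loop none [.bwd 6023, .bwd 6233],
   .loop none [.bwd 6024, .bwd 6233],
   .loop none [.bwd 810, .fwd 6233, .fwd 1654],
   .loop none [.bwd 6237],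
   .loop none [.fwd 1653, .bwd 6233],
   .loop none [.fwd 6213, .bwd 6233],
   .loop none [.fwd 6027, .bwd 6233],
   .loop none [.fwd 6233, .bwd 6159, .bwd 6233],
   .loop none [.fwd 810, .bwd 6238],
   .loop none [.fwd 375, .fwd 6238, .fwd 811],
   .loop none [.fwd 6244],
   .loop none [.fwd 1605, .fwd 6245, .fwd 812],
   .loop none [.fwd 6246],
   .loop none [.fwd 2051, .fwd 6247, .fwd 813],
   .loop none [.fwd 6248]]

theorem just24_len : just24.length = 250 := by decide +kernel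

theorem just24_ok : cert.okFacts 6000 just24 = true := by decide +kernel

/-- justifications -/
noncomputable def just25 : List Cert.Just :=
  [.loop none [.bwd 2052, .fwd 6249, .fwd 814],
   .loop none [.fwd 6250],
   .loop none [.bwd 579, .fwd 6251, .fwd 815],
   .loop none [.fwd 6252],
   .loop none [.fwd 428, .fwd 6253, .fwd 816],
   .loop none [.fwd 6254],
   .loop none [.fwd 3130, .fwd 6255, .fwd 817],
   .loop none [.fwd 6256],
   .loop none [.fwd 438, .fwd 6257, .fwd 818],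
   .loop none [.fwd 6258],
   .loop none [.fwd 5224, .fwd 6259, .fwd 819],
   .loop none [.fwd 6260],
   .loop none [.fwd 787, .fwd 6261, .fwd 820],
   .loop none [.fwd 6262],
   .loop none [.bwd 769, .fwd 6263, .fwd 821],
   .loop none [.fwd 6264],
   .loop none [.bwd 822, .bwd 6265],
   .loop (some (5, 1)) [.bwd 4249, .bwd 6120, .bwd 6177],
   .loop (some (8, 1)) [.bwd 6214, .bwd 6174, .fwd 6181],
   .loop (some (18, 4)) [.bwd 514, .bwd 6046, .fwd 6174, .bwd 6240, .fwd 6239, .fwd 6234],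
   .loop none [.fwd 6269],
   .loop none [.fwd 1493, .fwd 6270, .fwd 1723],
   .loop none [.fwd 6271],
   .loop none [.fwd 2055, .fwd 6270, .bwd 6234],
   .loop none [.fwd 6273],
   .loop none [.bwd 1494, .fwd 6272, .fwd 1724],
   .loop none [.fwd 6275],
   .loop none [.bwd 2052, .fwd 6274, .bwd 1652],
   .loop none [.fwd 6277],
   .loop none [.bwd 533, .fwd 6274, .bwd 6239],
   .loop none [.fwd 6279],
   .loop none [.fwd 1312, .fwd 6276, .fwd 1725],
   .loop none [.fwd 6281],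
   .loop none [.bwd 579, .fwd 6278, .bwd 1651],
   .loop none [.fwd 6283],
   .loop none [.bwd 729, .fwd 6278, .bwd 6008],
   .loop none [.bwd 6285],
   .loop none [.bwd 6235, .bwd 6280],
   .loop none [.bwd 6236, .bwd 6280],
   .loop none [.bwd 2062, .fwd 6280, .bwd 6243],
   .loop none [.bwd 6289],
   .loop none [.bwd 534, .fwd 6280, .fwd 6240],
   .loop none [.fwd 6291],
   .loop none [.bwd 6241, .bwd 6280],
   .loop none [.fwd 6280, .bwd 6242, .bwd 6280],
   .loop none [.bwd 1313, .fwd 6282, .fwd 1726],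
   .loop none [.fwd 6295],
   .loop none [.fwd 686, .fwd 6284, .bwd 1650],
   .loop none [.fwd 6297],
   .loop none [.bwd 6138, .bwd 6284],
   .loop none [.fwd 729, .bwd 6286],
   .loop none [.fwd 2062, .bwd 6290],
   .loop none [.fwd 375, .fwd 6290, .bwd 712],
   .loop none [.fwd 6302],
   .loop none [.fwd 4119, .bwd 6292],
   .loop none [.bwd 535, .fwd 6292, .bwd 805],
   .loop none [.fwd 6305],
   .loop none [.fwd 6223, .bwd 6292],
   .loop none [.fwd 6174, .bwd 6292],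
   .loop none [.bwd 6214, .bwd 6292],
   .loop none [.fwd 661, .fwd 6296, .fwd 1727],
   .loop none [.fwd 6310],
   .loop none [.fwd 726, .fwd 6298, .bwd 1649],
   .loop none [.fwd 6312],
   .loop none [.bwd 6135, .bwd 6298],
   .loop none [.bwd 1494, .fwd 6303, .bwd 711],
   .loop none [.fwd 6315],
   .loop none [.bwd 2923, .bwd 6306],
   .loop none [.bwd 536, .fwd 6306, .fwd 6121],
   .loop none [.fwd 6318],
   .loop none [.fwd 6004, .bwd 6306],
   .loop none [.fwd 804, .bwd 6306],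
   .loop none [.bwd 2927, .bwd 6306],
   .loop none [.bwd 6122, .bwd 6306],
   .loop none [.fwd 4663, .fwd 6311, .fwd 1728],
   .loop none [.fwd 6324],
   .loop none [.bwd 1640, .bwd 6313],
   .loop none [.fwd 725, .fwd 6313, .fwd 6127],
   .loop none [.bwd 6327],
   .loop none [.bwd 2050, .fwd 6313, .bwd 1601],
   .loop none [.bwd 6329],
   .loop none [.fwd 1667, .bwd 6313],
   .loop none [.fwd 1312, .fwd 6316, .bwd 710],
   .loop none [.bwd 6332],
   .loop none [.bwd 4726, .bwd 6319],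
   .loop none [.bwd 6217, .bwd 6319],
   .loop none [.bwd 537, .fwd 6319, .bwd 987],
   .loop none [.fwd 6336],
   .loop none [.bwd 988, .bwd 6319],
   .loop none [.bwd 4731, .bwd 6319],
   .loop none [.fwd 742, .fwd 6325, .fwd 1729],
   .loop none [.fwd 6340],
   .loop none [.bwd 725, .bwd 6328],
   .loop none [.fwd 724, .bwd 6328],
   .loop none [.fwd 771, .fwd 6330, .fwd 1897],
   .loop none [.fwd 6344],
   .loop none [.fwd 2050, .bwd 6330],
   .loop none [.fwd 1661, .bwd 6333],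
   .loop none [.fwd 709, .fwd 6333, .bwd 1664],
   .loop none [.fwd 6348],
   .loop none [.bwd 1312, .bwd 6333],
   .loop none [.bwd 1313, .bwd 6333],
   .loop none [.fwd 1669, .bwd 6333],
   .loop none [.bwd 4735, .bwd 6337],
   .loop none [.fwd 5274, .bwd 6337],
   .loop none [.bwd 752, .fwd 6341, .fwd 1730],
   .loop none [.fwd 6355],
   .loop none [.bwd 1898, .bwd 6345],
   .loop none [.fwd 708, .fwd 6349, .fwd 1076],
   .loop none [.fwd 6358],
   .loop none [.fwd 6160, .bwd 6349],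
   .loop none [.fwd 634, .fwd 6356, .fwd 1731],
   .loop none [.fwd 6361],
   .loop none [.fwd 1674, .bwd 6359],
   .loop none [.fwd 4759, .fwd 6359, .fwd 1077],
   .loop none [.fwd 6364],
   .loop none [.bwd 1732, .bwd 6362],
   .loop none [.fwd 4765, .fwd 6365, .fwd 1078],
   .loop none [.fwd 6367],
   .loop none [.bwd 1079, .bwd 6368],
   .loop (some (15, 0)) [.bwd 536, .fwd 6320, .bwd 6307, .fwd 6308],
   .define,
   .define,
   .define,
   .define,
   .define,
   .loop (some (19, 5)) [.fwd 6222, .fwd 6371, .fwd 6372, .fwd 6373, .fwd 6374, .fwd 6375],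
   .define,
   .define,
   .define,
   .loop (some (21, 5)) [.fwd 6375, .fwd 6376, .fwd 6222, .fwd 6207, .fwd 4714, .fwd 6377, .fwd 6378, .fwd 6379],
   .loop (some (2, 3)) [.bwd 379, .bwd 6335, .fwd 537, .fwd 6353],
   .loop none [.fwd 6381],
   .loop none [.bwd 6218, .fwd 6382, .bwd 6353],
   .loop none [.bwd 6383],
   .loop none [.bwd 380, .fwd 6382, .bwd 2574],
   .loop none [.fwd 6385],
   .loop none [.fwd 6218, .bwd 6384],
   .loop none [.bwd 538, .fwd 6384, .bwd 2999],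
   .loop none [.fwd 6388],
   .loop none [.fwd 2573, .bwd 6386],
   .loop none [.fwd 2998, .bwd 6389],
   .define,
   .loop (some (8, 2)) [.bwd 379, .fwd 6371, .fwd 6392],
   .loop (some (18, 3)) [.bwd 5753, .fwd 512, .bwd 6207, .fwd 379, .fwd 380, .fwd 6390],
   .loop none [.fwd 6394],
   .loop none [.fwd 5742, .fwd 6395, .bwd 2572],
   .loop none [.fwd 6396],
   .loop none [.fwd 2195, .fwd 6395, .bwd 6390],
   .loop none [.bwd 6398],
   .loop none [.fwd 1934, .fwd 6397, .bwd 2571],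
   .loop none [.fwd 6400],
   .loop none [.bwd 381, .fwd 6399, .bwd 539],
   .loop none [.fwd 6402],
   .loop none [.bwd 540, .bwd 6399],
   .loop none [.bwd 2195, .bwd 6399],
   .loop none [.bwd 2196, .bwd 6399],
   .loop none [.fwd 1931, .fwd 6401, .bwd 2570],
   .loop none [.fwd 6407],
   .loop none [.bwd 3544, .fwd 6403, .fwd 6391],
   .loop none [.fwd 6409],
   .loop none [.fwd 538, .bwd 6403],
   .loop none [.bwd 5727, .fwd 6408, .bwd 2569],
   .loop none [.fwd 6412],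
   .loop none [.fwd 5814, .fwd 6410, .bwd 2997],
   .loop none [.fwd 6414],
   .loop none [.bwd 5721, .fwd 6413, .bwd 2568],
   .loop none [.fwd 6416],
   .loop none [.fwd 1134, .fwd 6415, .bwd 2996],
   .loop none [.fwd 6418],
   .loop none [.fwd 1809, .fwd 6417, .bwd 2567],
   .loop none [.fwd 6420],
   .loop none [.fwd 5733, .fwd 6419, .bwd 2995],
   .loop none [.fwd 6422],
   .loop none [.fwd 2566, .bwd 6421],
   .loop none [.fwd 1010, .fwd 6423, .bwd 2994],
   .loop none [.fwd 6425],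
   .loop none [.bwd 5738, .fwd 6426, .bwd 2993],
   .loop none [.fwd 6427],
   .loop none [.fwd 909, .fwd 6428, .bwd 2992],
   .loop none [.fwd 6429],
   .loop none [.fwd 2991, .bwd 6430],
   .loop (some (6, 1)) [.bwd 6339, .fwd 6335, .bwd 6222],
   .loop (some (14, 2)) [.bwd 6372, .bwd 6371, .bwd 6210, .fwd 6371],
   .loop (some (12, 2)) [.bwd 379, .bwd 6210, .fwd 379],
   .loop (some (15, 0)) [.bwd 2426, .bwd 102, .fwd 2301, .bwd 6219, .bwd 379],
   .loop none [.bwd 6435],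
   .loop none [.fwd 2426, .bwd 6436],
   .define,
   .define,
   .define,
   .define,
   .define,
   .loop (some (19, 5)) [.fwd 6393, .fwd 6438, .fwd 6439, .fwd 6440, .fwd 6441, .fwd 6442],
   .define,
   .define,
   .define,
   .define,
   .loop (some (16, 4)) [.fwd 6387, .fwd 6444, .fwd 6445, .fwd 6446, .fwd 6447],
   .loop (some (7, 1)) [.fwd 2336, .bwd 6219, .bwd 6393],
   .define,
   .define,
   .define,
   .define,
   .loop (some (21, 5)) [.fwd 6442, .fwd 6443, .fwd 6393, .fwd 380, .fwd 6450, .fwd 6451, .fwd 6452, .fwd 6453],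
   .loop (some (20, 1)) [.fwd 5275, .fwd 4252, .fwd 2331, .fwd 2332, .bwd 103, .bwd 102, .fwd 2301, .bwd 6219, .fwd 6444],
   .loop none [.fwd 6455],
   .loop none [.fwd 6444, .bwd 6456],
   .loop none [.bwd 604, .fwd 6456, .fwd 6445],
   .loop none [.fwd 6458],
   .loop none [.bwd 6446, .bwd 6459],
   .loop (some (5, 1)) [.bwd 5277, .fwd 6457, .bwd 6393],
   .loop (some (8, 1)) [.fwd 6222, .fwd 379, .fwd 6438],
   .loop (some (1, 2)) [.bwd 380, .bwd 6457, .fwd 5276],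
   .define,
   .loop (some (6, 2)) [.fwd 6387, .bwd 6393, .fwd 6464],
   .loop (some (14, 2)) [.bwd 6439, .bwd 6438, .bwd 6434, .fwd 6438],
   .loop (some (13, 2)) [.bwd 380, .bwd 6434, .fwd 380],
   .loop (some (15, 0)) [.bwd 6180, .bwd 6307, .fwd 6308, .fwd 378, .fwd 379],
   .loop none [.bwd 6468],
   .loop none [.fwd 6180, .bwd 6469],
   .loop (some (10, 2)) [.fwd 6387, .bwd 6434, .bwd 6387],
   .define,
   .define,
   .define,
   .define,
   .define,
   .loop (some (19, 5)) [.bwd 6450, .fwd 6472, .fwd 6473, .fwd 6474, .fwd 6475, .fwd 6476],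
   .define,
   .define,
   .define,
   .loop (some (16, 4)) [.bwd 381, .bwd 6463, .fwd 6478, .fwd 6479, .fwd 6480],
   .loop (some (17, 3)) [.fwd 4762, .fwd 3067, .bwd 6404, .fwd 381, .fwd 382, .fwd 6478],
   .loop none [.fwd 6482],
   .loop none [.bwd 4761, .fwd 6483, .bwd 6478],
   .loop none [.bwd 6484],
   .loop none [.fwd 4761, .bwd 6485],
   .loop none [.fwd 382, .fwd 6485, .fwd 3869],
   .loop none [.fwd 6487],
   .loop none [.fwd 5276, .fwd 6485, .bwd 1089],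
   .loop none [.fwd 6489],
   .loop none [.bwd 3544, .fwd 6488, .fwd 2941],
   .loop none [.fwd 6491],
   .loop none [.bwd 5275, .fwd 6490, .bwd 1088],
   .loop none [.fwd 6493],
   .loop none [.bwd 3064, .fwd 6492, .fwd 2942],
   .loop none [.fwd 6495],
   .loop none [.bwd 4252, .fwd 6494, .bwd 1087],
   .loop none [.bwd 6497],
   .loop none [.fwd 3565, .fwd 6496, .fwd 2943]]

theorem just25_len : just25.length = 250 := by decide +kernel

theorem just25_ok : cert.okFacts 6250 just25 = true := by decide +kernel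

/-- justifications -/
noncomputable def just26 : List Cert.Just :=
  [.loop none [.fwd 6499],
   .loop none [.fwd 6120, .bwd 6498],
   .loop none [.fwd 1086, .fwd 6498, .fwd 4244],
   .loop none [.fwd 6502],
   .loop none [.fwd 4252, .bwd 6498],
   .loop none [.bwd 2331, .bwd 6498],
   .loop none [.fwd 4259, .bwd 6498],
   .loop none [.bwd 4249, .bwd 6498],
   .loop none [.fwd 4732, .fwd 6500, .fwd 2944],
   .loop none [.fwd 6508],
   .loop none [.bwd 2437, .bwd 6503],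
   .loop none [.bwd 4224, .bwd 6503],
   .loop none [.bwd 4225, .bwd 6503],
   .loop none [.fwd 1085, .fwd 6503, .fwd 4087],
   .loop none [.fwd 6513],
   .loop none [.fwd 2775, .bwd 6503],
   .loop none [.bwd 4226, .bwd 6503],
   .loop none [.fwd 4740, .fwd 6509, .fwd 2945],
   .loop none [.fwd 6517],
   .loop none [.bwd 4064, .bwd 6514],
   .loop none [.bwd 4052, .bwd 6514],
   .loop none [.bwd 4053, .bwd 6514],
   .loop none [.fwd 1084, .fwd 6514, .fwd 2405],
   .loop none [.fwd 6522],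
   .loop none [.bwd 4071, .bwd 6514],
   .loop none [.fwd 6514, .bwd 4072, .bwd 6514],
   .loop none [.bwd 2066, .fwd 6518, .fwd 2946],
   .loop none [.fwd 6526],
   .loop none [.fwd 1083, .fwd 6523, .bwd 4095],
   .loop none [.fwd 6528],
   .loop none [.bwd 2406, .bwd 6523],
   .loop none [.fwd 402, .fwd 6527, .fwd 2947],
   .loop none [.fwd 6531],
   .loop none [.bwd 2544, .bwd 6529],
   .loop none [.fwd 4335, .bwd 6529],
   .loop none [.fwd 4747, .fwd 6532, .fwd 2948],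
   .loop none [.fwd 6535],
   .loop none [.bwd 568, .fwd 6536, .fwd 2949],
   .loop none [.fwd 6537],
   .loop none [.bwd 4759, .fwd 6538, .fwd 2950],
   .loop none [.fwd 6539],
   .loop none [.bwd 695, .fwd 6540, .fwd 2951],
   .loop none [.fwd 6541],
   .loop none [.bwd 2952, .bwd 6542],
   .loop (some (7, 1)) [.fwd 6404, .fwd 3074, .bwd 6404, .fwd 6450],
   .loop none [.fwd 6544],
   .loop none [.fwd 380, .fwd 6545, .fwd 6451],
   .loop none [.fwd 6546],
   .loop none [.bwd 6472, .fwd 6545, .bwd 6450],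
   .loop none [.bwd 6548],
   .loop none [.fwd 6477, .bwd 6545],
   .loop none [.fwd 6393, .fwd 6547, .fwd 6452],
   .loop none [.fwd 6551],
   .loop none [.fwd 6549, .bwd 6472, .fwd 6549, .fwd 6473],
   .loop none [.fwd 6553],
   .loop none [.bwd 6550, .fwd 6549, .bwd 6472],
   .loop none [.bwd 6555],
   .loop none [.fwd 6443, .fwd 6552, .fwd 6453],
   .loop none [.fwd 6557],
   .loop none [.bwd 6474, .bwd 6554],
   .loop none [.bwd 6559, .fwd 6556, .bwd 6550],
   .loop none [.bwd 6560],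
   .loop none [.fwd 6476, .bwd 6556],
   .loop none [.bwd 6454, .bwd 6558],
   .loop none [.fwd 6561, .bwd 6559, .fwd 6561, .fwd 6475],
   .loop none [.fwd 6564],
   .loop none [.fwd 6562, .bwd 6565],
   .loop (some (21, 2)) [.bwd 6439, .bwd 6438, .fwd 380, .fwd 6566, .fwd 6566, .fwd 6566, .bwd 380, .bwd 6393],
   .loop (some (5, 2)) [.fwd 6463, .bwd 6566, .bwd 6463],
   .loop (some (8, 2)) [.bwd 6405, .fwd 6566, .fwd 6405],
   .loop (some (6, 2)) [.bwd 381, .bwd 6566, .fwd 381],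
   .loop (some (15, 0)) [.fwd 5809, .bwd 5743, .fwd 5742, .bwd 6405],
   .loop (some (9, 2)) [.fwd 6463, .bwd 6467, .bwd 6463],
   .define,
   .define,
   .loop (some (21, 4)) [.bwd 6411, .fwd 6570, .fwd 6570, .fwd 6570, .fwd 6411, .bwd 6465, .fwd 6573, .fwd 6574],
   .loop (some (20, 1)) [.fwd 2188, .fwd 1269, .fwd 1055, .bwd 219, .bwd 3115, .bwd 3534, .bwd 383, .bwd 382, .bwd 6481],
   .loop none [.fwd 6576],
   .loop none [.bwd 6481, .bwd 6577],
   .loop (some (1, 2)) [.fwd 6448, .bwd 6411, .bwd 6578, .bwd 2342],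
   .loop none [.bwd 6579],
   .loop none [.bwd 6448, .bwd 6580],
   .loop none [.fwd 5295, .fwd 6580, .bwd 6447],
   .loop none [.fwd 6582],
   .loop none [.fwd 6460, .bwd 6583],
   .loop (some (15, 0)) [.bwd 5809, .bwd 5815, .fwd 5814, .bwd 3544],
   .define,
   .define,
   .loop (some (21, 4)) [.fwd 5276, .fwd 6568, .fwd 6568, .fwd 6568, .bwd 5276, .fwd 5277, .fwd 6586, .fwd 6587],
   .loop (some (8, 2)) [.bwd 3557, .bwd 383, .fwd 6568, .fwd 383],
   .loop none [.bwd 6589],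
   .loop none [.fwd 3483, .fwd 6590, .fwd 3558],
   .loop none [.fwd 6591],
   .loop none [.fwd 3557, .bwd 6590],
   .loop none [.fwd 3523, .fwd 6592, .fwd 3559],
   .loop none [.fwd 6594],
   .loop none [.fwd 3556, .fwd 6595, .fwd 3560],
   .loop none [.fwd 6596],
   .loop none [.bwd 3561, .bwd 6597],
   .loop (some (6, 2)) [.bwd 6486, .bwd 6568, .fwd 6486],
   .loop (some (15, 0)) [.bwd 1205, .bwd 219, .bwd 3115, .bwd 3534, .bwd 383],
   .loop none [.bwd 6600],
   .loop none [.fwd 1205, .bwd 6601],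
   .define,
   .loop (some (21, 2)) [.bwd 3552, .bwd 3551, .fwd 3483, .fwd 6593, .fwd 6593, .fwd 6593, .bwd 3483, .bwd 3523],
   .loop (some (15, 0)) [.fwd 5814, .bwd 3544, .fwd 382, .fwd 383],
   .define,
   .define,
   .define,
   .define,
   .define,
   .loop (some (19, 5)) [.bwd 3178, .fwd 6606, .fwd 6607, .fwd 6608, .fwd 6609, .fwd 6610],
   .loop (some (8, 1)) [.bwd 4045, .fwd 4043, .fwd 6606],
   .define,
   .define,
   .define,
   .define,
   .define,
   .loop (some (16, 4)) [.fwd 5114, .fwd 6614, .fwd 6615, .fwd 6616, .fwd 6617],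
   .loop (some (17, 3)) [.fwd 5545, .fwd 4874, .bwd 5114, .fwd 5133, .bwd 5077],
   .define,
   .define,
   .define,
   .loop (some (21, 4)) [.bwd 5455, .fwd 398, .fwd 346, .fwd 393, .fwd 3296, .fwd 6620, .fwd 6621, .fwd 6622],
   .loop (some (20, 1)) [.bwd 1983, .fwd 3509, .bwd 4538, .bwd 5441, .fwd 3511, .fwd 473, .bwd 5448, .fwd 4874, .fwd 6614],
   .loop none [.fwd 6624],
   .loop none [.fwd 6614, .bwd 6625],
   .loop none [.fwd 5840, .fwd 6625, .fwd 6615],
   .loop none [.fwd 6627],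
   .loop none [.bwd 6616, .bwd 6628],
   .loop (some (1, 2)) [.bwd 3296, .bwd 6626, .fwd 5841],
   .loop (some (3, 3)) [.bwd 3296, .bwd 5114, .fwd 4566, .fwd 4567],
   .loop none [.fwd 6631],
   .loop none [.bwd 3297, .fwd 6632, .bwd 4567],
   .loop none [.fwd 6633],
   .loop none [.bwd 4568, .bwd 6632],
   .loop none [.bwd 5946, .bwd 6634],
   .loop none [.fwd 4566, .bwd 6634],
   .loop (some (13, 2)) [.bwd 3296, .bwd 5516, .bwd 412],
   .loop (some (4, 1)) [.bwd 6635, .bwd 3296, .bwd 4874],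
   .define,
   .define,
   .define,
   .define,
   .define,
   .define,
   .define,
   .define,
   .define,
   .define,
   .define,
   .define,
   .define,
   .define,
   .define,
   .define,
   .define,
   .define,
   .define,
   .define,
   .define,
   .define,
   .define,
   .define,
   .define,
   .define,
   .loop (some (22, 29)) [.bwd 5117, .bwd 3296, .bwd 5114, .fwd 5133, .bwd 5951, .fwd 6640, .fwd 6641, .fwd 6642, .fwd 6643, .fwd 6644, .fwd 6645, .fwd 6646, .fwd 6647, .fwd 6648, .fwd 6649, .fwd 6650, .fwd 6651, .fwd 6652, .fwd 6653, .fwd 6654, .fwd 6655, .fwd 6656, .fwd 6657, .fwd 6658, .fwd 6659, .fwd 6660, .fwd 6661, .fwd 6662, .fwd 6663, .fwd 6664, .fwd 6665],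
   .loop (some (11, 2)) [.fwd 4874, .bwd 5516, .fwd 5512],
   .loop (some (15, 0)) [.bwd 5504, .fwd 4917, .fwd 317, .fwd 306, .bwd 417],
   .loop none [.bwd 6668],
   .loop none [.fwd 5504, .bwd 6669],
   .loop (some (9, 1)) [.fwd 5852, .fwd 6626, .bwd 5516],
   .define,
   .define,
   .define,
   .define,
   .loop (some (16, 4)) [.fwd 5674, .fwd 6672, .fwd 6673, .fwd 6674, .fwd 6675],
   .loop (some (17, 3)) [.fwd 5667, .bwd 5623, .bwd 5674, .bwd 4962, .bwd 4961],
   .loop (some (7, 3)) [.bwd 5623, .bwd 394, .bwd 4874, .fwd 5449],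
   .loop none [.fwd 6678],
   .loop none [.bwd 5346, .bwd 6679],
   .loop none [.fwd 5449, .bwd 6679],
   .define,
   .define,
   .define,
   .loop (some (21, 4)) [.bwd 475, .fwd 346, .fwd 393, .fwd 394, .fwd 5625, .fwd 6682, .fwd 6683, .fwd 6684],
   .loop (some (20, 1)) [.bwd 5383, .bwd 5356, .bwd 5385, .bwd 5388, .fwd 5389, .fwd 5085, .fwd 5086, .bwd 5623, .fwd 6672],
   .loop none [.fwd 6686],
   .loop none [.fwd 6672, .bwd 6687],
   .loop none [.bwd 6673, .bwd 6687],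
   .loop (some (5, 3)) [.fwd 6688, .bwd 394, .bwd 6626, .fwd 461],
   .loop none [.bwd 6690],
   .loop none [.bwd 6688, .bwd 6691],
   .loop none [.bwd 6689, .bwd 6691],
   .loop none [.bwd 4970, .bwd 6691],
   .loop none [.fwd 5383, .bwd 6691],
   .loop none [.fwd 5546, .bwd 6691],
   .define,
   .loop (some (1, 2)) [.bwd 5625, .bwd 6692, .fwd 6697],
   .loop (some (6, 3)) [.fwd 5674, .bwd 394, .bwd 5114, .fwd 1873],
   .loop none [.bwd 6699],
   .loop none [.fwd 6676, .bwd 6700],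
   .loop none [.bwd 5674, .bwd 6700],
   .loop none [.fwd 4962, .bwd 6700],
   .loop none [.fwd 5639, .bwd 6700],
   .loop (some (3, 1)) [.bwd 4498, .bwd 5625, .bwd 6702],
   .loop (some (13, 2)) [.bwd 5625, .bwd 423, .fwd 3296],
   .define,
   .loop (some (4, 2)) [.bwd 5625, .fwd 5623, .fwd 6707],
   .define,
   .define,
   .define,
   .define,
   .define,
   .define,
   .define,
   .define,
   .define,
   .define,
   .define,
   .define,
   .define,
   .define,
   .define,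
   .define,
   .define,
   .define,
   .define,
   .define,
   .define,
   .define,
   .define,
   .define,
   .define,
   .define,
   .define,
   .loop (some (22, 29)) [.fwd 5627, .bwd 5625, .bwd 6702, .fwd 6703, .fwd 6709, .fwd 6710, .fwd 6711, .fwd 6712, .fwd 6713, .fwd 6714, .fwd 6715, .fwd 6716, .fwd 6717, .fwd 6718, .fwd 6719, .fwd 6720, .fwd 6721, .fwd 6722, .fwd 6723, .fwd 6724, .fwd 6725, .fwd 6726, .fwd 6727, .fwd 6728, .fwd 6729, .fwd 6730, .fwd 6731, .fwd 6732, .fwd 6733, .fwd 6734, .fwd 6735],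
   .loop (some (15, 0)) [.bwd 5547, .fwd 4886, .bwd 3389, .bwd 4868, .bwd 5624],
   .loop none [.bwd 6737],
   .loop none [.fwd 5547, .bwd 6738],
   .define,
   .define,
   .define,
   .loop (some (16, 4)) [.fwd 5638, .fwd 5932, .fwd 6740, .fwd 6741, .fwd 6742],
   .loop (some (17, 3)) [.fwd 5701, .bwd 5563, .bwd 5638, .bwd 4909, .bwd 4908],
   .loop (some (7, 3)) [.bwd 5563, .bwd 395, .fwd 5623, .fwd 6680],
   .loop none [.fwd 6745],
   .loop none [.bwd 5347, .bwd 6746],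
   .loop none [.fwd 6680, .bwd 6746],
   .loop (some (21, 1)) [.bwd 6697, .bwd 461, .bwd 460, .bwd 20, .fwd 393, .fwd 394, .fwd 395, .fwd 5565]]

theorem just26_len : just26.length = 250 := by decide +kernel

theorem just26_ok : cert.okFacts 6500 just26 = true := by decide +kernel

/-- justifications -/
noncomputable def just27 : List Cert.Just :=
  [.loop (some (20, 1)) [.bwd 5620, .fwd 5619, .bwd 5378, .bwd 5557, .fwd 5558, .fwd 5051, .fwd 5052, .bwd 5563, .fwd 5932],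
   .loop none [.fwd 6750],
   .loop none [.fwd 5932, .bwd 6751],
   .loop none [.bwd 6740, .bwd 6751],
   .loop none [.bwd 5933, .bwd 6751],
   .loop (some (5, 3)) [.fwd 6752, .bwd 395, .bwd 6692, .fwd 462],
   .loop none [.bwd 6755],
   .loop none [.bwd 6752, .bwd 6756],
   .loop none [.bwd 6753, .bwd 6756],
   .loop none [.bwd 5009, .bwd 6756],
   .loop none [.fwd 5620, .bwd 6756],
   .loop none [.bwd 6754, .bwd 6756],
   .loop none [.fwd 5602, .bwd 6756],
   .define,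
   .loop (some (6, 3)) [.fwd 5638, .bwd 395, .bwd 6702, .fwd 1874],
   .loop none [.bwd 6764],
   .loop none [.fwd 6743, .bwd 6765],
   .loop none [.bwd 5638, .bwd 6765],
   .loop none [.fwd 4909, .bwd 6765],
   .loop none [.fwd 5124, .bwd 6765],
   .loop none [.bwd 5934, .bwd 6765],
   .loop (some (3, 1)) [.bwd 4457, .bwd 5565, .bwd 6767],
   .loop (some (13, 2)) [.bwd 5565, .bwd 5640, .fwd 5455],
   .loop (some (4, 1)) [.fwd 6736, .bwd 5565, .fwd 5563],
   .define,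
   .define,
   .define,
   .define,
   .define,
   .define,
   .define,
   .define,
   .define,
   .define,
   .define,
   .define,
   .define,
   .define,
   .define,
   .define,
   .define,
   .define,
   .define,
   .define,
   .define,
   .define,
   .define,
   .define,
   .define,
   .define,
   .loop (some (22, 28)) [.fwd 6708, .bwd 5627, .bwd 5565, .bwd 6767, .fwd 6768, .fwd 6774, .fwd 6775, .fwd 6776, .fwd 6777, .fwd 6778, .fwd 6779, .fwd 6780, .fwd 6781, .fwd 6782, .fwd 6783, .fwd 6784, .fwd 6785, .fwd 6786, .fwd 6787, .fwd 6788, .fwd 6789, .fwd 6790, .fwd 6791, .fwd 6792, .fwd 6793, .fwd 6794, .fwd 6795, .fwd 6796, .fwd 6797, .fwd 6798, .fwd 6799],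
   .loop (some (15, 0)) [.bwd 5604, .fwd 5002, .bwd 4453, .bwd 5045, .bwd 5564],
   .loop none [.bwd 6801],
   .loop none [.fwd 5604, .bwd 6802],
   .loop (some (9, 2)) [.fwd 6757, .bwd 5640, .fwd 5890],
   .loop (some (10, 2)) [.fwd 6767, .bwd 5640, .bwd 5894],
   .define,
   .define,
   .define,
   .loop (some (16, 4)) [.fwd 5552, .fwd 6671, .fwd 6806, .fwd 6807, .fwd 6808],
   .loop (some (17, 3)) [.fwd 5500, .bwd 5512, .bwd 5552, .bwd 4994, .bwd 4993],
   .loop (some (7, 3)) [.bwd 5512, .bwd 396, .fwd 5563, .fwd 6747],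
   .loop none [.fwd 6811],
   .loop none [.fwd 5353, .bwd 6812],
   .loop none [.fwd 5886, .bwd 6812],
   .loop none [.fwd 6747, .bwd 6812],
   .define,
   .define,
   .define,
   .loop (some (21, 4)) [.bwd 3296, .fwd 394, .fwd 395, .fwd 396, .bwd 412, .fwd 6816, .fwd 6817, .fwd 6818],
   .loop (some (5, 3)) [.bwd 6671, .bwd 396, .bwd 6757, .fwd 463],
   .loop none [.bwd 6820],
   .loop none [.fwd 6671, .bwd 6821],
   .loop none [.bwd 6806, .bwd 6821],
   .loop none [.bwd 5051, .bwd 6821],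
   .loop none [.fwd 5558, .bwd 6821],
   .loop none [.bwd 5852, .bwd 6821],
   .loop none [.fwd 5668, .bwd 6821],
   .loop (some (1, 2)) [.fwd 412, .bwd 6822, .bwd 478],
   .loop (some (6, 3)) [.fwd 5552, .bwd 396, .bwd 6767, .fwd 1875],
   .loop none [.bwd 6829],
   .loop none [.fwd 6809, .bwd 6830],
   .loop none [.bwd 5552, .bwd 6830],
   .loop none [.fwd 4994, .bwd 6830],
   .loop none [.fwd 5572, .bwd 6830],
   .loop none [.bwd 5948, .bwd 6830],
   .loop (some (3, 2)) [.bwd 5517, .fwd 412, .bwd 6832, .bwd 1881],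
   .loop none [.bwd 6836],
   .loop none [.fwd 5517, .bwd 6837],
   .loop none [.bwd 4396, .bwd 6837],
   .loop (some (13, 2)) [.fwd 412, .bwd 5626, .fwd 5625],
   .loop (some (4, 2)) [.fwd 5930, .fwd 412, .fwd 5512, .fwd 6813],
   .loop none [.bwd 6841],
   .loop none [.fwd 5929, .bwd 6842],
   .loop none [.bwd 5930, .bwd 6842],
   .define,
   .define,
   .define,
   .define,
   .define,
   .define,
   .define,
   .define,
   .define,
   .define,
   .define,
   .define,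
   .define,
   .define,
   .define,
   .define,
   .define,
   .define,
   .define,
   .define,
   .define,
   .define,
   .define,
   .define,
   .define,
   .define,
   .loop (some (22, 28)) [.fwd 5902, .bwd 5518, .fwd 412, .bwd 6832, .fwd 6833, .fwd 6845, .fwd 6846, .fwd 6847, .fwd 6848, .fwd 6849, .fwd 6850, .fwd 6851, .fwd 6852, .fwd 6853, .fwd 6854, .fwd 6855, .fwd 6856, .fwd 6857, .fwd 6858, .fwd 6859, .fwd 6860, .fwd 6861, .fwd 6862, .fwd 6863, .fwd 6864, .fwd 6865, .fwd 6866, .fwd 6867, .fwd 6868, .fwd 6869, .fwd 6870],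
   .loop (some (11, 2)) [.bwd 5512, .bwd 5626, .fwd 5623],
   .loop (some (15, 0)) [.bwd 5670, .fwd 5045, .fwd 4453, .bwd 5002, .bwd 5513],
   .loop none [.bwd 6873],
   .loop none [.fwd 5670, .bwd 6874],
   .loop (some (9, 2)) [.fwd 6822, .bwd 5626, .bwd 6692],
   .loop (some (10, 2)) [.fwd 6832, .bwd 5626, .bwd 6702],
   .loop (some (17, 3)) [.fwd 5160, .bwd 5453, .bwd 5894, .fwd 5895, .bwd 5036],
   .loop (some (20, 1)) [.bwd 5389, .fwd 5388, .fwd 5385, .fwd 5356, .bwd 6695, .fwd 6694, .fwd 4971, .bwd 5453, .fwd 5890],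
   .loop none [.bwd 6879],
   .loop none [.bwd 5085, .bwd 6880],
   .loop none [.fwd 5389, .bwd 6880],
   .loop none [.fwd 5843, .bwd 6880],
   .loop none [.fwd 5702, .bwd 6880],
   .loop (some (1, 2)) [.bwd 5455, .fwd 5890, .fwd 6883],
   .loop (some (3, 2)) [.bwd 3395, .bwd 5455, .bwd 5894, .bwd 5947],
   .loop none [.fwd 6886],
   .loop none [.fwd 6636, .bwd 6887],
   .loop none [.bwd 5947, .bwd 6887],
   .loop (some (13, 2)) [.bwd 5455, .bwd 5519, .fwd 475],
   .loop (some (4, 1)) [.fwd 6666, .bwd 5455, .fwd 5453],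
   .loop (some (11, 2)) [.bwd 5453, .bwd 5519, .fwd 406],
   .loop (some (15, 0)) [.bwd 5705, .fwd 4868, .fwd 3389, .bwd 4886, .bwd 5454],
   .loop none [.bwd 6893],
   .loop none [.fwd 5705, .bwd 6894],
   .loop (some (9, 2)) [.bwd 5890, .bwd 5519, .bwd 2061],
   .loop (some (10, 2)) [.fwd 5894, .bwd 5519, .fwd 420],
   .loop (some (17, 3)) [.bwd 1865, .bwd 559, .fwd 4747, .fwd 402, .fwd 5721, .bwd 1809],
   .loop none [.fwd 6898],
   .loop none [.fwd 1808, .bwd 6899],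
   .loop none [.bwd 1809, .bwd 6899],
   .loop none [.bwd 6424, .bwd 6899],
   .loop (some (7, 1)) [.fwd 574, .fwd 4747, .fwd 2067],
   .loop (some (7, 1)) [.fwd 1867, .bwd 5721, .bwd 1885],
   .loop (some (8, 0)) [.bwd 5935, .fwd 1929, .fwd 5727],
   .loop (some (1, 1)) [.fwd 5174, .fwd 1767, .fwd 5184],
   .loop (some (15, 0)) [.bwd 1696, .fwd 68, .fwd 69, .fwd 586, .fwd 5199],
   .loop none [.bwd 6907],
   .loop none [.fwd 1696, .bwd 6908],
   .loop (some (1, 2)) [.bwd 5175, .bwd 5337, .fwd 5350],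
   .loop (some (6, 2)) [.bwd 5355, .bwd 5885, .bwd 5160],
   .loop (some (3, 2)) [.fwd 6871, .bwd 5175, .fwd 5355, .bwd 5601],
   .loop none [.bwd 6912],
   .loop none [.bwd 6871, .bwd 6913],
   .loop none [.bwd 5601, .fwd 6913, .bwd 6870],
   .loop none [.fwd 6915],
   .loop none [.fwd 6869, .bwd 6916],
   .loop (some (12, 2)) [.fwd 4927, .bwd 5931, .bwd 5052],
   .loop (some (13, 2)) [.bwd 5175, .bwd 5931, .fwd 6773],
   .loop (some (10, 2)) [.bwd 5355, .bwd 5931, .bwd 5701],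
   .loop (some (7, 2)) [.fwd 5169, .bwd 473, .bwd 465, .fwd 6881],
   .loop none [.bwd 6921],
   .loop none [.bwd 5169, .bwd 6922],
   .loop none [.fwd 5168, .bwd 6922],
   .loop (some (2, 2)) [.bwd 5440, .fwd 3511, .fwd 489, .bwd 3529],
   .loop none [.bwd 6925],
   .loop none [.bwd 5424, .bwd 6926],
   .loop none [.fwd 5440, .bwd 6926],
   .loop (some (18, 4)) [.bwd 409, .bwd 3511, .bwd 5559, .bwd 6825, .bwd 478],
   .loop (some (6, 1)) [.fwd 503, .bwd 489, .bwd 465],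
   .loop (some (3, 2)) [.bwd 409, .fwd 489, .fwd 1878],
   .loop (some (13, 2)) [.bwd 409, .bwd 6761, .fwd 6763],
   .loop (some (4, 2)) [.bwd 409, .fwd 473, .fwd 5350],
   .loop (some (11, 2)) [.bwd 473, .bwd 6761, .fwd 6759],
   .loop (some (15, 0)) [.bwd 5881, .fwd 3509, .bwd 4538, .bwd 5441, .fwd 3511],
   .loop none [.bwd 6935],
   .loop none [.fwd 5881, .bwd 6936],
   .loop (some (10, 2)) [.bwd 489, .bwd 6761, .fwd 6758],
   .loop (some (7, 1)) [.bwd 5351, .fwd 6933, .fwd 410],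
   .loop (some (5, 1)) [.bwd 476, .bwd 5891, .fwd 410],
   .loop (some (6, 1)) [.bwd 1879, .fwd 6931, .fwd 410],
   .loop (some (8, 3)) [.bwd 410, .bwd 6929, .bwd 477],
   .loop (some (2, 1)) [.fwd 5899, .bwd 5518, .bwd 6838],
   .loop (some (14, 1)) [.fwd 6932, .fwd 410, .fwd 411, .bwd 6840],
   .loop (some (11, 2)) [.fwd 6844, .bwd 6840, .bwd 6708],
   .loop (some (9, 2)) [.fwd 6828, .bwd 6840, .bwd 6698],
   .loop (some (10, 2)) [.fwd 6838, .bwd 6840, .fwd 4498],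
   .loop (some (7, 2)) [.fwd 1851, .fwd 1852, .bwd 1877, .fwd 5895],
   .loop none [.fwd 6948],
   .loop none [.fwd 5036, .bwd 6949],
   .loop none [.fwd 5895, .bwd 6949],
   .loop (some (13, 2)) [.bwd 506, .bwd 6770, .fwd 6771],
   .loop (some (4, 2)) [.bwd 5900, .bwd 506, .bwd 1852, .fwd 564],
   .loop none [.bwd 6953],
   .loop none [.fwd 5900, .bwd 6954],
   .loop none [.bwd 3440, .bwd 6954],
   .loop (some (11, 2)) [.fwd 1852, .bwd 6770, .fwd 6768],
   .loop (some (9, 2)) [.bwd 1884, .bwd 6770, .fwd 6766],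
   .loop (some (17, 3)) [.fwd 620, .fwd 621, .bwd 3130, .bwd 438, .bwd 437],
   .loop (some (20, 0)) [.bwd 1860, .bwd 5721, .bwd 5727, .fwd 1926, .bwd 1010, .fwd 5738, .bwd 1065, .fwd 621],
   .loop (some (8, 0)) [.bwd 5903, .bwd 563, .fwd 427],
   .loop (some (6, 1)) [.bwd 3135, .fwd 3130, .bwd 1869],
   .loop (some (4, 2)) [.fwd 686, .bwd 428, .bwd 621, .fwd 5771],
   .loop none [.fwd 6963],
   .loop none [.fwd 685, .fwd 6964, .fwd 5772],
   .loop none [.fwd 6965],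
   .loop none [.bwd 6314, .fwd 6964, .bwd 5771],
   .loop none [.bwd 6967],
   .loop none [.bwd 5773, .bwd 6966],
   .loop none [.fwd 620, .fwd 6968, .fwd 3880],
   .loop none [.fwd 6970],
   .loop none [.fwd 6314, .bwd 6968],
   .loop none [.fwd 6959, .fwd 6971, .fwd 3881],
   .loop none [.fwd 6973],
   .loop none [.bwd 3882, .bwd 6974],
   .loop (some (15, 0)) [.bwd 1127, .bwd 1043, .bwd 73, .bwd 72, .fwd 427],
   .loop none [.bwd 6976],
   .loop none [.fwd 1127, .bwd 6977],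
   .loop (some (9, 2)) [.bwd 6960, .bwd 1871, .fwd 6960],
   .loop (some (17, 3)) [.bwd 6969, .fwd 685, .fwd 686, .fwd 429, .fwd 430, .bwd 1739],
   .loop none [.bwd 6980],
   .loop none [.fwd 6969, .bwd 6981],
   .loop none [.bwd 5774, .bwd 6981],
   .loop (some (20, 0)) [.bwd 708, .fwd 6363, .bwd 6146, .fwd 2460, .bwd 5328, .fwd 6342, .fwd 726, .fwd 686],
   .loop (some (1, 1)) [.bwd 6960, .fwd 428, .fwd 6984],
   .loop (some (6, 1)) [.fwd 751, .bwd 429, .bwd 719],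
   .loop (some (4, 1)) [.fwd 438, .fwd 3134, .fwd 430],
   .loop (some (11, 2)) [.bwd 430, .bwd 756, .fwd 430],
   .loop (some (15, 0)) [.bwd 5975, .bwd 1477, .bwd 27, .bwd 26, .fwd 715],
   .loop none [.bwd 6989],
   .loop none [.fwd 5975, .bwd 6990],
   .loop (some (20, 0)) [.bwd 789, .fwd 4640, .bwd 1470, .bwd 1477, .bwd 27, .bwd 26, .fwd 715, .fwd 430],
   .loop (some (2, 2)) [.bwd 4695, .bwd 431, .bwd 1739, .fwd 6983],
   .loop none [.fwd 6993],
   .loop none [.fwd 6983, .bwd 6994],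
   .loop none [.bwd 5775, .bwd 6994],
   .loop (some (1, 2)) [.bwd 6987, .fwd 6992, .bwd 660],
   .loop (some (18, 3)) [.fwd 787, .fwd 5224, .bwd 6987, .fwd 431, .fwd 432, .fwd 4705],
   .loop none [.fwd 6998]]

theorem just27_len : just27.length = 250 := by decide +kernel

theorem just27_ok : cert.okFacts 6750 just27 = true := by decide +kernel

/-- justifications -/
noncomputable def just28 : List Cert.Just :=
  [.loop none [.bwd 855, .bwd 6999],
   .loop none [.bwd 778, .fwd 6999, .bwd 4705],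
   .loop none [.bwd 7001],
   .loop none [.bwd 4680, .bwd 6999],
   .loop none [.bwd 779, .bwd 7002],
   .loop none [.fwd 778, .bwd 7002],
   .loop (some (3, 2)) [.fwd 437, .bwd 6987, .bwd 1739, .bwd 1738],
   .loop none [.fwd 7006],
   .loop none [.bwd 6975, .fwd 7007, .bwd 1737],
   .loop none [.bwd 7008],
   .loop none [.fwd 436, .fwd 7007, .fwd 1738],
   .loop none [.fwd 7010],
   .loop none [.fwd 6975, .bwd 7009],
   .loop none [.bwd 3883, .bwd 7009],
   .loop none [.bwd 1739, .bwd 7011],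
   .loop none [.bwd 6982, .bwd 7011],
   .loop none [.fwd 435, .fwd 7011, .bwd 6995],
   .loop none [.fwd 7016],
   .loop none [.bwd 908, .bwd 7017],
   .loop none [.fwd 4695, .bwd 7017],
   .loop none [.bwd 6996, .bwd 7017],
   .loop (some (13, 2)) [.bwd 6987, .bwd 6988, .fwd 6987],
   .loop (some (15, 0)) [.fwd 7004, .fwd 780, .fwd 760, .bwd 431],
   .loop (some (10, 2)) [.fwd 7014, .bwd 6988, .bwd 7014],
   .loop (some (17, 5)) [.fwd 760, .bwd 7019, .bwd 434, .bwd 433, .fwd 7004, .fwd 5967],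
   .loop none [.fwd 7024],
   .loop none [.fwd 4629, .bwd 7025],
   .loop none [.fwd 5967, .bwd 7025],
   .loop none [.fwd 5971, .bwd 7025],
   .loop (some (3, 3)) [.bwd 432, .bwd 7019, .fwd 7020, .fwd 5776],
   .loop none [.fwd 7029],
   .loop none [.bwd 433, .fwd 7030, .bwd 5776],
   .loop none [.fwd 7031],
   .loop none [.bwd 7004, .fwd 7030, .fwd 5777],
   .loop none [.fwd 7033],
   .loop none [.fwd 7020, .bwd 7032],
   .loop none [.bwd 780, .fwd 7034, .fwd 5778],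
   .loop none [.fwd 7036],
   .loop none [.bwd 7028, .fwd 7037, .fwd 5779],
   .loop none [.fwd 7038],
   .loop none [.fwd 7027, .fwd 7039, .fwd 5780],
   .loop none [.fwd 7040],
   .loop none [.bwd 760, .fwd 7041, .fwd 5781],
   .loop none [.fwd 7042],
   .loop none [.fwd 431, .fwd 7043, .fwd 5782],
   .loop none [.fwd 7044],
   .loop none [.bwd 6987, .fwd 7045, .fwd 5783],
   .loop none [.fwd 7046],
   .loop none [.fwd 437, .fwd 7047, .fwd 5784],
   .loop none [.fwd 7048],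
   .loop none [.bwd 6959, .fwd 7049, .fwd 5785],
   .loop none [.fwd 7050],
   .loop none [.bwd 5786, .bwd 7051],
   .loop (some (11, 2)) [.fwd 760, .bwd 4699, .bwd 760],
   .loop (some (15, 0)) [.bwd 833, .bwd 26, .fwd 715, .fwd 430, .fwd 431],
   .loop none [.bwd 7054],
   .loop none [.fwd 833, .bwd 7055],
   .loop (some (10, 2)) [.fwd 7019, .bwd 4699, .bwd 7019],
   .loop (some (7, 1)) [.fwd 5969, .bwd 7004, .fwd 4706],
   .loop (some (2, 1)) [.bwd 769, .bwd 7005, .fwd 433],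
   .loop (some (15, 0)) [.bwd 4663, .bwd 742, .bwd 7000, .bwd 7005],
   .loop (some (10, 2)) [.bwd 433, .bwd 4707, .fwd 433],
   .loop (some (1, 2)) [.bwd 7018, .bwd 7035, .fwd 4716, .fwd 5822],
   .loop none [.fwd 7062],
   .loop none [.fwd 7052, .bwd 7063],
   .loop none [.bwd 6431, .fwd 7063, .bwd 5822],
   .loop none [.bwd 7065],
   .loop none [.fwd 2990, .bwd 7066],
   .loop none [.fwd 6431, .bwd 7066],
   .loop (some (18, 1)) [.bwd 7013, .fwd 7012, .bwd 436, .bwd 435, .bwd 7035, .fwd 7059],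
   .loop none [.bwd 7069],
   .loop none [.fwd 769, .fwd 7070, .fwd 3884],
   .loop none [.fwd 7071],
   .loop none [.fwd 7013, .bwd 7070],
   .loop none [.bwd 7000, .fwd 7072, .fwd 3885],
   .loop none [.fwd 7074],
   .loop none [.bwd 742, .fwd 7075, .fwd 3886],
   .loop none [.fwd 7076],
   .loop none [.bwd 3887, .bwd 7077],
   .loop (some (20, 5)) [.bwd 823, .bwd 6266, .bwd 7059, .fwd 434, .fwd 7018, .fwd 7064, .bwd 6959, .bwd 7012, .bwd 1736],
   .loop none [.fwd 7079],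
   .loop none [.fwd 1735, .bwd 7080],
   .loop none [.bwd 1736, .bwd 7080],
   .loop (some (13, 2)) [.bwd 436, .bwd 7023, .fwd 436],
   .loop (some (4, 2)) [.bwd 6959, .bwd 436, .fwd 7015, .bwd 684],
   .loop none [.fwd 7084],
   .loop none [.fwd 7064, .fwd 7085, .bwd 683],
   .loop none [.bwd 7086],
   .loop none [.fwd 619, .fwd 7085, .fwd 684],
   .loop none [.fwd 7088],
   .loop none [.fwd 7018, .bwd 7087],
   .loop none [.bwd 909, .bwd 7087],
   .loop none [.fwd 682, .fwd 7087, .fwd 2895],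
   .loop none [.fwd 7092],
   .loop none [.bwd 7064, .bwd 7087],
   .loop none [.fwd 7068, .bwd 7087],
   .loop none [.bwd 685, .bwd 7089],
   .loop none [.fwd 7015, .bwd 7089],
   .loop none [.bwd 2685, .bwd 7093],
   .loop (some (2, 3)) [.fwd 7012, .fwd 437, .bwd 5224, .bwd 1642],
   .loop none [.bwd 7099],
   .loop none [.fwd 7082, .bwd 7100],
   .loop none [.bwd 7012, .bwd 7100],
   .loop none [.fwd 7073, .bwd 7100],
   .loop (some (15, 0)) [.bwd 1800, .fwd 586, .fwd 5199, .bwd 404, .bwd 3133],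
   .loop none [.bwd 7104],
   .loop none [.fwd 1800, .bwd 7105],
   .loop (some (21, 3)) [.bwd 3517, .bwd 3516, .fwd 3121, .fwd 3118, .fwd 3118, .fwd 3118, .bwd 3121, .bwd 519, .fwd 5851],
   .loop none [.fwd 7107],
   .loop none [.bwd 5506, .bwd 7108],
   .loop none [.fwd 5505, .bwd 7108],
   .loop none [.fwd 5851, .bwd 7108],
   .loop (some (5, 2)) [.bwd 5714, .bwd 3112, .bwd 3118, .fwd 3112],
   .loop none [.bwd 7112],
   .loop none [.fwd 3530, .fwd 7113, .fwd 5715],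
   .loop none [.fwd 7114],
   .loop none [.fwd 5714, .bwd 7113],
   .loop none [.fwd 3528, .fwd 7115, .fwd 5716],
   .loop none [.fwd 7117],
   .loop none [.fwd 5711, .fwd 7118, .fwd 5717],
   .loop none [.fwd 7119],
   .loop none [.bwd 5718, .bwd 7120],
   .loop (some (13, 2)) [.bwd 5841, .bwd 6826, .bwd 478],
   .loop (some (15, 0)) [.fwd 5441, .fwd 4538, .bwd 3509, .fwd 1983],
   .loop (some (10, 2)) [.fwd 5840, .bwd 6826, .fwd 6823],
   .loop (some (7, 3)) [.bwd 6694, .bwd 461, .fwd 4938, .fwd 5340],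
   .loop none [.fwd 7125],
   .loop none [.bwd 5166, .bwd 7126],
   .loop none [.fwd 5340, .bwd 7126],
   .loop none [.fwd 5343, .bwd 7126],
   .loop (some (2, 1)) [.fwd 5847, .bwd 6695, .fwd 6693],
   .loop (some (18, 4)) [.bwd 6697, .fwd 6695, .fwd 3510, .bwd 6760, .fwd 6763],
   .loop (some (6, 3)) [.bwd 6693, .bwd 461, .bwd 5840, .fwd 499],
   .loop none [.bwd 7132],
   .loop none [.bwd 6674, .bwd 7133],
   .loop none [.fwd 6693, .bwd 7133],
   .loop none [.bwd 7130, .bwd 7133],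
   .loop (some (7, 3)) [.bwd 6759, .bwd 462, .fwd 6694, .fwd 7127],
   .loop none [.fwd 7137],
   .loop none [.bwd 5167, .bwd 7138],
   .loop none [.fwd 7127, .bwd 7138],
   .loop (some (2, 1)) [.bwd 5618, .bwd 6760, .fwd 6758],
   .loop (some (6, 3)) [.bwd 6758, .bwd 462, .bwd 7135, .fwd 500],
   .loop none [.bwd 7142],
   .loop none [.bwd 6741, .bwd 7143],
   .loop none [.fwd 6758, .bwd 7143],
   .loop none [.bwd 7141, .bwd 7143],
   .loop none [.bwd 6938, .bwd 7143],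
   .loop (some (13, 2)) [.bwd 6763, .bwd 6804, .fwd 6883],
   .loop (some (10, 2)) [.fwd 7145, .bwd 6804, .fwd 6930],
   .loop (some (7, 3)) [.bwd 6824, .bwd 463, .fwd 6759, .fwd 7139],
   .loop none [.fwd 7150],
   .loop none [.fwd 5178, .bwd 7151],
   .loop none [.fwd 6924, .bwd 7151],
   .loop none [.fwd 7139, .bwd 7151],
   .loop (some (2, 1)) [.bwd 5556, .bwd 6825, .fwd 6823],
   .loop (some (6, 3)) [.bwd 6823, .bwd 463, .bwd 7145, .fwd 501],
   .loop none [.bwd 7156],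
   .loop none [.bwd 6807, .bwd 7157],
   .loop none [.fwd 6823, .bwd 7157],
   .loop none [.bwd 7155, .bwd 7157],
   .loop none [.bwd 7124, .bwd 7157],
   .loop (some (3, 2)) [.fwd 478, .bwd 7159, .bwd 509],
   .loop (some (4, 2)) [.fwd 478, .fwd 6824, .fwd 7152],
   .loop (some (10, 2)) [.fwd 7159, .bwd 6876, .bwd 7135],
   .loop (some (2, 1)) [.fwd 7110, .bwd 6882, .fwd 6930],
   .loop (some (13, 2)) [.bwd 6883, .bwd 6896, .fwd 409],
   .loop (some (11, 2)) [.bwd 6881, .bwd 6896, .fwd 473],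
   .loop (some (10, 2)) [.bwd 6930, .bwd 6896, .fwd 489],
   .loop (some (20, 1)) [.fwd 1709, .fwd 1695, .bwd 1665, .fwd 830, .bwd 659, .fwd 68, .fwd 69, .fwd 586, .bwd 5174],
   .loop none [.fwd 7169],
   .loop none [.bwd 5174, .bwd 7170],
   .loop none [.fwd 6906, .bwd 7170],
   .loop (some (8, 0)) [.bwd 6917, .fwd 1811, .bwd 5199],
   .loop (some (9, 2)) [.fwd 7171, .bwd 1798, .bwd 7171],
   .loop (some (2, 1)) [.fwd 5545, .fwd 5448, .fwd 5342],
   .loop (some (18, 4)) [.bwd 5350, .bwd 5448, .fwd 6639, .fwd 4569, .fwd 4570],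
   .loop (some (6, 2)) [.bwd 5342, .bwd 6923, .bwd 5878],
   .loop (some (7, 1)) [.bwd 5176, .fwd 5902, .fwd 476],
   .loop (some (8, 1)) [.bwd 6816, .fwd 5518, .bwd 6685],
   .loop (some (6, 1)) [.bwd 507, .fwd 5899, .fwd 476],
   .loop (some (14, 2)) [.fwd 6684, .fwd 6685, .bwd 5901, .bwd 5889],
   .loop (some (2, 1)) [.bwd 6941, .bwd 6942, .fwd 7180],
   .loop (some (2, 1)) [.fwd 6931, .bwd 6929, .bwd 7162],
   .loop (some (7, 1)) [.fwd 557, .bwd 504, .bwd 503],
   .loop (some (18, 1)) [.bwd 7160, .bwd 509, .fwd 7183, .bwd 1878, .bwd 3529],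
   .loop (some (12, 2)) [.fwd 3529, .bwd 7147, .fwd 7146],
   .loop (some (4, 2)) [.bwd 1878, .fwd 504, .fwd 1853],
   .loop (some (9, 2)) [.bwd 516, .bwd 7147, .fwd 7144],
   .loop (some (7, 3)) [.bwd 498, .fwd 22, .fwd 552],
   .loop (some (5, 2)) [.bwd 6629, .bwd 498, .bwd 2063],
   .loop (some (9, 2)) [.bwd 6629, .bwd 7161, .fwd 7158],
   .loop (some (7, 3)) [.bwd 499, .bwd 7189, .fwd 553],
   .loop (some (5, 2)) [.bwd 7134, .bwd 499, .fwd 6629],
   .loop (some (8, 2)) [.fwd 3520, .bwd 7136, .fwd 500, .fwd 7146],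
   .loop none [.fwd 7194],
   .loop none [.bwd 5606, .bwd 7195],
   .loop none [.fwd 5618, .bwd 7195],
   .loop none [.bwd 5850, .fwd 7195, .bwd 7146],
   .loop none [.bwd 7198],
   .loop none [.bwd 7186, .bwd 7195],
   .loop none [.fwd 5413, .bwd 7199],
   .loop none [.fwd 5850, .bwd 7199],
   .loop (some (12, 2)) [.bwd 7136, .bwd 523, .fwd 518],
   .loop (some (9, 2)) [.bwd 7134, .bwd 523, .fwd 6629],
   .loop (some (7, 3)) [.bwd 7201, .bwd 500, .bwd 7192, .fwd 554],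
   .loop none [.bwd 7205],
   .loop none [.fwd 5412, .bwd 7206],
   .loop none [.fwd 7201, .bwd 7206],
   .loop (some (5, 2)) [.bwd 7144, .bwd 500, .fwd 7134],
   .loop (some (8, 2)) [.fwd 3519, .bwd 7202, .fwd 501, .fwd 7160],
   .loop none [.fwd 7210],
   .loop none [.bwd 5549, .bwd 7211],
   .loop none [.fwd 5556, .bwd 7211],
   .loop none [.fwd 7160, .bwd 7211],
   .loop none [.fwd 7185, .bwd 7211],
   .loop none [.bwd 5880, .bwd 7211],
   .loop (some (12, 2)) [.bwd 7202, .bwd 7149, .fwd 7165],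
   .loop (some (11, 2)) [.fwd 7208, .bwd 7149, .fwd 7184],
   .loop (some (7, 3)) [.bwd 501, .bwd 7208, .fwd 555],
   .loop (some (5, 2)) [.bwd 7158, .bwd 501, .fwd 7144],
   .loop (some (12, 2)) [.fwd 7214, .bwd 7164, .fwd 7136],
   .loop (some (4, 2)) [.fwd 509, .bwd 7219, .bwd 567],
   .loop (some (11, 2)) [.fwd 7219, .bwd 7164, .bwd 7192],
   .loop (some (9, 2)) [.bwd 7158, .bwd 7164, .fwd 7134],
   .loop (some (11, 2)) [.bwd 7184, .bwd 7168, .fwd 504],
   .loop (some (2, 2)) [.fwd 649, .fwd 580, .bwd 1712],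
   .loop (some (6, 1)) [.fwd 1746, .bwd 580, .bwd 557],
   .loop (some (3, 2)) [.bwd 1853, .fwd 580, .fwd 1812],
   .loop (some (0, 2)) [.fwd 7225, .fwd 7218],
   .loop (some (10, 2)) [.bwd 580, .bwd 7229, .fwd 7207],
   .loop (some (7, 1)) [.bwd 565, .fwd 6955, .fwd 507],
   .loop (some (12, 1)) [.fwd 6947, .fwd 6943, .bwd 6952],
   .loop (some (11, 2)) [.fwd 6955, .bwd 6952, .fwd 4458],
   .loop (some (6, 1)) [.fwd 3023, .bwd 3565, .bwd 3574],
   .loop (some (15, 0)) [.bwd 688, .bwd 515, .bwd 514, .bwd 513, .bwd 512],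
   .loop none [.bwd 7235],
   .loop none [.fwd 688, .bwd 7236],
   .loop (some (7, 1)) [.fwd 6039, .bwd 513, .fwd 4714],
   .loop (some (6, 1)) [.bwd 4722, .fwd 989, .fwd 4714],
   .loop (some (15, 0)) [.fwd 4747, .fwd 4740, .fwd 4732, .fwd 512],
   .loop (some (5, 1)) [.fwd 3594, .fwd 6088, .bwd 6039],
   .loop (some (15, 0)) [.bwd 551, .fwd 22, .fwd 23, .bwd 515, .bwd 514],
   .loop none [.bwd 7242],
   .loop none [.fwd 551, .bwd 7243],
   .loop (some (20, 1)) [.fwd 570, .fwd 549, .bwd 243, .bwd 242, .bwd 486, .fwd 22, .fwd 23, .bwd 515, .bwd 5986],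
   .loop none [.fwd 7245],
   .loop none [.bwd 5986, .bwd 7246],
   .loop none [.fwd 5985, .bwd 7246],
   .loop (some (1, 2)) [.fwd 2055, .bwd 7247, .fwd 4094]]

theorem just28_len : just28.length = 250 := by decide +kernel

theorem just28_ok : cert.okFacts 7000 just28 = true := by decide +kernel

/-- justifications -/
noncomputable def just29 : List Cert.Just :=
  [.loop (some (15, 0)) [.bwd 5794, .fwd 4732, .fwd 512, .fwd 513, .fwd 514],
   .loop none [.bwd 7250],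
   .loop none [.fwd 5794, .bwd 7251],
   .loop (some (2, 2)) [.fwd 5739, .fwd 5882, .bwd 5803],
   .loop (some (7, 1)) [.fwd 3556, .bwd 3522, .bwd 3521],
   .loop (some (5, 2)) [.fwd 5711, .bwd 3527, .bwd 3521, .fwd 5846],
   .loop none [.bwd 7255],
   .loop none [.bwd 7121, .bwd 7256],
   .loop none [.bwd 5711, .bwd 7256],
   .loop none [.fwd 5710, .bwd 7256],
   .loop (some (1, 1)) [.bwd 7109, .fwd 7111, .fwd 3527],
   .loop (some (4, 2)) [.fwd 7111, .fwd 3522, .fwd 6604],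
   .loop (some (9, 2)) [.bwd 3527, .bwd 7216, .fwd 7212],
   .loop (some (20, 1)) [.bwd 6146, .fwd 2460, .bwd 5328, .fwd 6342, .fwd 726, .fwd 686, .bwd 579, .bwd 2052, .bwd 7249],
   .loop none [.bwd 7263],
   .loop none [.fwd 6363, .bwd 7264],
   .loop none [.fwd 6146, .bwd 7264],
   .loop none [.fwd 4094, .fwd 7264, .fwd 6143],
   .loop none [.fwd 7267],
   .loop none [.bwd 7248, .fwd 7268, .fwd 2559],
   .loop none [.bwd 7269],
   .loop none [.fwd 6156, .bwd 7270],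
   .loop none [.fwd 7248, .bwd 7270],
   .loop (some (6, 1)) [.fwd 1590, .bwd 2051, .fwd 2056],
   .loop (some (5, 1)) [.fwd 2505, .bwd 6287, .fwd 6293],
   .loop (some (6, 1)) [.fwd 2930, .bwd 6288, .fwd 6293],
   .loop (some (5, 1)) [.fwd 2441, .bwd 6304, .fwd 6309],
   .loop (some (6, 1)) [.bwd 6322, .bwd 535, .fwd 6309],
   .loop (some (15, 0)) [.bwd 6219, .bwd 379, .bwd 378, .bwd 6308],
   .loop (some (7, 1)) [.bwd 6339, .bwd 536, .fwd 6322],
   .loop (some (7, 1)) [.bwd 5277, .bwd 6354, .bwd 6465],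
   .loop (some (5, 1)) [.fwd 2336, .fwd 6581, .bwd 6465],
   .loop (some (8, 1)) [.bwd 6339, .fwd 537, .bwd 6575],
   .loop (some (14, 2)) [.fwd 6574, .fwd 6575, .bwd 6471, .bwd 6575],
   .loop (some (15, 0)) [.fwd 6307, .bwd 6320, .fwd 536, .fwd 537],
   .loop (some (2, 2)) [.fwd 7272, .fwd 570, .bwd 6520, .bwd 1084],
   .loop none [.bwd 7285],
   .loop none [.bwd 7271, .bwd 7286],
   .loop none [.bwd 7272, .bwd 7286],
   .loop none [.fwd 1083, .fwd 7286, .fwd 2560],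
   .loop none [.fwd 7289],
   .loop none [.bwd 6533, .fwd 7290, .fwd 2561],
   .loop none [.fwd 7291],
   .loop none [.bwd 2562, .bwd 7292],
   .loop (some (6, 1)) [.bwd 6524, .fwd 6520, .bwd 3594],
   .loop (some (2, 0)) [.fwd 1758, .bwd 652, .bwd 575],
   .loop (some (8, 1)) [.fwd 630, .bwd 575, .fwd 553],
   .loop (some (14, 0)) [.fwd 556, .fwd 7218, .bwd 554, .bwd 553],
   .loop (some (8, 1)) [.fwd 629, .bwd 7296, .fwd 554],
   .loop (some (6, 3)) [.bwd 553, .fwd 7295, .fwd 1742],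
   .loop (some (12, 2)) [.bwd 7296, .bwd 591, .fwd 575],
   .loop (some (8, 1)) [.fwd 628, .bwd 7298, .fwd 555],
   .loop (some (6, 3)) [.bwd 7207, .bwd 554, .bwd 7299, .fwd 1743],
   .loop none [.bwd 7302],
   .loop none [.fwd 7207, .bwd 7303],
   .loop none [.fwd 5411, .bwd 7303],
   .loop none [.bwd 7230, .bwd 7303],
   .loop (some (10, 2)) [.fwd 7304, .bwd 7218, .fwd 7227],
   .loop (some (8, 1)) [.fwd 627, .bwd 7301, .fwd 556],
   .loop (some (6, 3)) [.bwd 555, .bwd 7304, .fwd 1744],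
   .loop (some (3, 2)) [.fwd 567, .bwd 7309, .bwd 1753],
   .loop (some (12, 2)) [.bwd 7301, .bwd 7223, .fwd 7296],
   .loop (some (17, 1)) [.fwd 5878, .bwd 6881, .fwd 6930, .fwd 7184, .fwd 7227],
   .loop (some (10, 2)) [.bwd 7227, .bwd 7225, .fwd 580],
   .loop (some (2, 1)) [.fwd 4765, .bwd 568, .fwd 559],
   .loop (some (3, 1)) [.bwd 6902, .fwd 6901, .bwd 577, .fwd 559],
   .loop none [.bwd 7315],
   .loop none [.bwd 7314, .fwd 7316, .bwd 2565],
   .loop none [.fwd 7317],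
   .loop none [.fwd 6902, .bwd 7316],
   .loop none [.bwd 6369, .fwd 7318, .bwd 2564],
   .loop none [.fwd 7320],
   .loop none [.fwd 2563, .bwd 7321],
   .loop (some (10, 2)) [.bwd 559, .bwd 623, .fwd 559],
   .loop (some (18, 3)) [.bwd 668, .bwd 667, .bwd 7319, .fwd 7314, .fwd 4766, .bwd 3890],
   .loop none [.fwd 7324],
   .loop none [.fwd 3889, .bwd 7325],
   .loop none [.bwd 3890, .bwd 7325],
   .loop (some (9, 2)) [.bwd 560, .bwd 7323, .fwd 560],
   .loop (some (20, 9)) [.bwd 584, .bwd 69, .bwd 68, .fwd 659, .bwd 830, .fwd 1665, .bwd 1695, .bwd 1709, .bwd 1708],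
   .loop none [.fwd 7329],
   .loop none [.bwd 1708, .bwd 7330],
   .loop none [.bwd 1754, .fwd 7330, .bwd 1707],
   .loop none [.bwd 7332],
   .loop none [.bwd 1755, .bwd 7333],
   .loop none [.fwd 1754, .bwd 7333],
   .loop (some (2, 1)) [.fwd 634, .fwd 7335, .bwd 561],
   .loop (some (18, 4)) [.fwd 1665, .bwd 5262, .bwd 7335, .bwd 752, .fwd 742, .fwd 7078],
   .loop none [.fwd 7337],
   .loop none [.fwd 829, .fwd 7338, .fwd 3888],
   .loop none [.fwd 7339],
   .loop none [.fwd 7078, .bwd 7338],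
   .loop none [.fwd 7326, .bwd 7340],
   .loop (some (4, 2)) [.fwd 1695, .bwd 5262, .fwd 7331, .fwd 7172],
   .loop none [.fwd 7343],
   .loop none [.fwd 5184, .bwd 7344],
   .loop (some (15, 0)) [.bwd 438, .bwd 5224, .bwd 7334, .fwd 7335],
   .loop (some (18, 2)) [.bwd 3441, .bwd 6956, .bwd 564, .fwd 5903, .fwd 5904],
   .loop (some (6, 2)) [.fwd 1806, .fwd 1839, .bwd 1851, .fwd 6950],
   .loop none [.fwd 7348],
   .loop none [.fwd 6950, .bwd 7349],
   .loop none [.bwd 6878, .bwd 7349],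
   .loop none [.fwd 5035, .bwd 7349],
   .loop (some (3, 2)) [.bwd 564, .bwd 1839, .fwd 1750],
   .loop (some (12, 2)) [.bwd 5903, .bwd 6957, .fwd 6774],
   .loop (some (13, 1)) [.fwd 7233, .bwd 564, .bwd 6957],
   .loop (some (10, 2)) [.fwd 1839, .bwd 6957, .bwd 4908],
   .loop (some (17, 1)) [.fwd 6914, .fwd 5902, .bwd 5899, .bwd 6955, .bwd 7353],
   .loop (some (2, 2)) [.bwd 6956, .bwd 7353, .fwd 5472],
   .loop (some (6, 1)) [.bwd 1751, .fwd 7353, .fwd 565],
   .loop (some (12, 2)) [.bwd 6956, .bwd 7233, .fwd 4459],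
   .loop (some (17, 3)) [.fwd 1083, .fwd 7288, .bwd 569, .bwd 4765, .fwd 6369, .fwd 7322],
   .loop none [.fwd 7361],
   .loop none [.fwd 1082, .fwd 7362, .bwd 7322],
   .loop none [.bwd 7363],
   .loop none [.fwd 7293, .bwd 7362],
   .loop none [.bwd 1082, .bwd 7364],
   .loop none [.fwd 1081, .bwd 7364],
   .loop (some (3, 2)) [.bwd 695, .bwd 4759, .bwd 4765, .fwd 4766],
   .loop none [.fwd 7368],
   .loop none [.fwd 7327, .bwd 7369],
   .loop none [.fwd 4766, .bwd 7369],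
   .loop (some (15, 0)) [.bwd 4732, .bwd 4740, .bwd 4747, .fwd 568],
   .loop (some (3, 3)) [.bwd 4094, .bwd 7288, .fwd 6530, .fwd 2407],
   .loop none [.fwd 7373],
   .loop none [.bwd 1379, .fwd 7374, .bwd 2407],
   .loop none [.fwd 7375],
   .loop none [.bwd 7265, .fwd 7374, .fwd 2408],
   .loop none [.fwd 7377],
   .loop none [.fwd 6530, .bwd 7376],
   .loop none [.bwd 708, .fwd 7378, .fwd 2409],
   .loop none [.fwd 7380],
   .loop none [.bwd 6985, .fwd 7381, .fwd 2410],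
   .loop none [.fwd 7382],
   .loop none [.fwd 4693, .fwd 7383, .fwd 2411],
   .loop none [.fwd 7384],
   .loop none [.bwd 2412, .bwd 7385],
   .loop (some (6, 1)) [.fwd 1702, .bwd 652, .bwd 630],
   .loop (some (3, 2)) [.bwd 704, .fwd 652, .fwd 738],
   .loop (some (12, 0)) [.bwd 7301, .bwd 7297, .fwd 575],
   .loop (some (15, 0)) [.bwd 3522, .bwd 518, .bwd 7189, .fwd 575],
   .loop (some (2, 2)) [.fwd 4693, .bwd 1860, .bwd 6901, .fwd 667],
   .loop none [.bwd 7391],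
   .loop none [.bwd 4693, .bwd 7392],
   .loop none [.bwd 7386, .bwd 7392],
   .loop none [.bwd 668, .fwd 7392, .bwd 1386],
   .loop none [.fwd 7395],
   .loop none [.fwd 7370, .fwd 7396, .bwd 1385],
   .loop none [.fwd 7397],
   .loop none [.bwd 6543, .fwd 7398, .bwd 1384],
   .loop none [.bwd 7399],
   .loop none [.fwd 6543, .bwd 7400],
   .loop none [.bwd 2953, .bwd 7400],
   .loop (some (15, 0)) [.bwd 1098, .bwd 30, .fwd 927, .fwd 662, .bwd 1860],
   .loop none [.bwd 7403],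
   .loop none [.fwd 1098, .bwd 7404],
   .loop (some (14, 2)) [.bwd 1741, .fwd 589, .bwd 7306, .fwd 1744],
   .loop (some (13, 2)) [.bwd 1812, .bwd 7306, .fwd 7305],
   .loop (some (8, 1)) [.bwd 3595, .bwd 5275, .bwd 6588],
   .loop (some (6, 1)) [.bwd 5288, .bwd 604, .fwd 5277],
   .loop (some (14, 2)) [.fwd 6587, .fwd 6588, .bwd 5278, .bwd 6588],
   .loop (some (7, 1)) [.bwd 5299, .bwd 605, .fwd 5288],
   .loop (some (5, 1)) [.bwd 5299, .fwd 6584, .fwd 5288],
   .loop (some (15, 0)) [.bwd 3788, .fwd 3974, .bwd 247, .bwd 246, .bwd 5286],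
   .loop none [.bwd 7413],
   .loop none [.fwd 3788, .bwd 7414],
   .loop (some (6, 1)) [.fwd 2336, .bwd 5295, .fwd 5299],
   .loop (some (15, 0)) [.bwd 3831, .fwd 3958, .fwd 3734, .bwd 2239, .fwd 5308],
   .loop none [.bwd 7417],
   .loop none [.fwd 3831, .bwd 7418],
   .loop (some (17, 3)) [.bwd 6357, .fwd 771, .bwd 5334, .fwd 5333, .bwd 5305, .fwd 5304],
   .loop none [.fwd 7420],
   .loop none [.fwd 5304, .bwd 7421],
   .loop none [.fwd 1900, .bwd 7421],
   .loop (some (7, 1)) [.fwd 1599, .bwd 5334, .fwd 5336],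
   .loop (some (5, 1)) [.fwd 1590, .bwd 6157, .fwd 5336],
   .loop (some (6, 1)) [.bwd 3507, .bwd 5333, .fwd 5336],
   .loop (some (17, 3)) [.bwd 5770, .bwd 6326, .bwd 6342, .fwd 612, .fwd 613, .fwd 5312],
   .loop none [.fwd 7427],
   .loop none [.fwd 5312, .bwd 7428],
   .loop (some (7, 1)) [.bwd 6331, .bwd 6342, .fwd 5331],
   .loop (some (6, 1)) [.bwd 5324, .bwd 612, .fwd 5331],
   .loop (some (15, 0)) [.bwd 7265, .fwd 7266, .fwd 2460, .bwd 5328],
   .loop (some (4, 2)) [.fwd 5305, .bwd 5323, .fwd 613, .fwd 5315],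
   .loop none [.fwd 7433],
   .loop none [.fwd 7422, .fwd 7434, .fwd 2988],
   .loop none [.fwd 7435],
   .loop none [.bwd 615, .fwd 7434, .bwd 5315],
   .loop none [.bwd 7437],
   .loop none [.fwd 6357, .fwd 7436, .fwd 2989],
   .loop none [.fwd 7439],
   .loop none [.fwd 7429, .fwd 7438, .fwd 616],
   .loop none [.bwd 7441],
   .loop none [.fwd 615, .bwd 7438],
   .loop none [.fwd 7067, .bwd 7440],
   .loop none [.bwd 7429, .bwd 7442],
   .loop none [.bwd 617, .fwd 7442, .bwd 5770],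
   .loop none [.fwd 7446],
   .loop none [.bwd 2800, .bwd 7442],
   .loop none [.bwd 1641, .bwd 7447],
   .loop none [.fwd 6326, .bwd 7447],
   .loop none [.bwd 6132, .bwd 7447],
   .loop (some (11, 2)) [.bwd 613, .bwd 5325, .fwd 613],
   .loop (some (20, 0)) [.fwd 6533, .fwd 2545, .bwd 2626, .fwd 2625, .bwd 107, .bwd 106, .bwd 5322, .fwd 613],
   .loop (some (2, 2)) [.fwd 7422, .bwd 614, .bwd 7445, .fwd 7448],
   .loop none [.fwd 7454],
   .loop none [.bwd 1899, .fwd 7455, .bwd 7448],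
   .loop none [.bwd 7456],
   .loop none [.fwd 1899, .bwd 7457],
   .loop none [.fwd 7423, .bwd 7457],
   .loop (some (1, 2)) [.bwd 7443, .fwd 7453, .fwd 7365],
   .loop (some (15, 0)) [.bwd 4336, .bwd 2218, .bwd 3505, .bwd 5305, .bwd 614],
   .loop none [.bwd 7461],
   .loop none [.fwd 4336, .bwd 7462],
   .loop (some (20, 0)) [.bwd 823, .bwd 6266, .bwd 7059, .fwd 434, .fwd 435, .bwd 7097, .bwd 618, .bwd 617],
   .loop (some (4, 2)) [.fwd 6357, .bwd 7459, .fwd 617, .fwd 7451],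
   .loop none [.fwd 7465],
   .loop none [.bwd 7444, .fwd 7466, .bwd 2485],
   .loop none [.fwd 7467],
   .loop none [.bwd 5326, .fwd 7466, .bwd 7451],
   .loop none [.bwd 7469],
   .loop none [.bwd 1834, .fwd 7468, .bwd 2484],
   .loop none [.fwd 7471],
   .loop none [.bwd 618, .fwd 7470, .bwd 2421],
   .loop none [.fwd 7473],
   .loop none [.fwd 5326, .bwd 7470],
   .loop none [.fwd 2483, .bwd 7472],
   .loop none [.bwd 7097, .fwd 7474, .bwd 2420],
   .loop none [.fwd 7477],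
   .loop none [.bwd 7014, .fwd 7478, .bwd 2419],
   .loop none [.fwd 7479],
   .loop none [.bwd 6987, .fwd 7480, .bwd 2418],
   .loop none [.fwd 7481],
   .loop none [.fwd 5224, .fwd 7482, .bwd 2417],
   .loop none [.fwd 7483],
   .loop none [.fwd 7334, .fwd 7484, .bwd 2416],
   .loop none [.fwd 7485],
   .loop none [.fwd 634, .fwd 7486, .bwd 2415],
   .loop none [.fwd 7487],
   .loop none [.fwd 2414, .bwd 7488],
   .loop (some (20, 6)) [.fwd 6357, .bwd 7458, .fwd 617, .fwd 7449, .fwd 7102, .fwd 6959, .bwd 7094, .bwd 682, .fwd 7098],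
   .loop none [.fwd 7490],
   .loop none [.bwd 7444, .fwd 7491, .bwd 7098],
   .loop none [.bwd 7492],
   .loop none [.fwd 4716, .bwd 7493],
   .loop none [.fwd 681, .fwd 7493, .fwd 843],
   .loop none [.fwd 7495],
   .loop none [.bwd 682, .fwd 7493, .fwd 1834],
   .loop none [.fwd 7497],
   .loop none [.fwd 7444, .bwd 7493]]

theorem just29_len : just29.length = 250 := by decide +kernel

theorem just29_ok : cert.okFacts 7250 just29 = true := by decide +kernel

/-- justifications -/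
noncomputable def just30 : List Cert.Just :=
  [.loop none [.fwd 7095, .bwd 7493],
   .loop none [.bwd 5309, .bwd 7496],
   .loop none [.fwd 5319, .bwd 7496],
   .loop none [.fwd 680, .fwd 7496, .bwd 963],
   .loop none [.fwd 7503],
   .loop none [.fwd 1552, .bwd 7496],
   .loop none [.fwd 7504, .bwd 7091, .fwd 7498, .fwd 7476],
   .loop none [.fwd 7506],
   .loop none [.fwd 7091, .bwd 7504],
   .loop none [.fwd 5738, .bwd 7504],
   .loop none [.fwd 679, .fwd 7504, .bwd 1065],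
   .loop none [.bwd 7510],
   .loop none [.fwd 960, .bwd 7504],
   .loop none [.bwd 680, .fwd 7507, .bwd 2482],
   .loop none [.fwd 7513],
   .loop none [.bwd 621, .fwd 7511, .bwd 678],
   .loop none [.fwd 7515],
   .loop none [.bwd 679, .bwd 7511],
   .loop none [.bwd 7502, .fwd 7514, .bwd 2481],
   .loop none [.fwd 7518],
   .loop none [.fwd 3130, .fwd 7516, .bwd 677],
   .loop none [.fwd 7520],
   .loop none [.fwd 5334, .fwd 7519, .bwd 2480],
   .loop none [.fwd 7522],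
   .loop none [.bwd 3134, .fwd 7521, .bwd 676],
   .loop none [.fwd 7524],
   .loop none [.bwd 5333, .fwd 7523, .bwd 2479],
   .loop none [.fwd 7526],
   .loop none [.fwd 715, .fwd 7525, .bwd 675],
   .loop none [.fwd 7528],
   .loop none [.fwd 5323, .fwd 7527, .bwd 2478],
   .loop none [.fwd 7530],
   .loop none [.bwd 26, .fwd 7529, .bwd 674],
   .loop none [.fwd 7532],
   .loop none [.bwd 5322, .fwd 7531, .bwd 2477],
   .loop none [.fwd 7534],
   .loop none [.fwd 795, .fwd 7533, .bwd 673],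
   .loop none [.fwd 7536],
   .loop none [.bwd 106, .fwd 7535, .bwd 2476],
   .loop none [.fwd 7538],
   .loop none [.bwd 66, .fwd 7537, .bwd 672],
   .loop none [.fwd 7540],
   .loop none [.bwd 2624, .fwd 7539, .bwd 2475],
   .loop none [.fwd 7542],
   .loop none [.fwd 6350, .fwd 7541, .bwd 671],
   .loop none [.bwd 7544],
   .loop none [.bwd 108, .fwd 7543, .bwd 2474],
   .loop none [.fwd 7546],
   .loop none [.bwd 6347, .bwd 7545],
   .loop none [.fwd 670, .fwd 7545, .bwd 709],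
   .loop none [.fwd 7549],
   .loop none [.bwd 6350, .bwd 7545],
   .loop none [.bwd 6351, .bwd 7545],
   .loop none [.bwd 6352, .bwd 7545],
   .loop none [.bwd 2612, .fwd 7547, .bwd 2473],
   .loop none [.fwd 7554],
   .loop none [.fwd 6984, .bwd 7550],
   .loop none [.fwd 708, .bwd 7550],
   .loop none [.bwd 6985, .bwd 7550],
   .loop none [.bwd 6360, .bwd 7550],
   .loop none [.bwd 4209, .fwd 7555, .bwd 2472],
   .loop none [.fwd 7560],
   .loop none [.fwd 4208, .fwd 7561, .bwd 2471],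
   .loop none [.bwd 7562],
   .loop none [.bwd 4208, .bwd 7563],
   .loop (some (20, 0)) [.bwd 7102, .fwd 7101, .bwd 823, .bwd 6266, .bwd 7059, .fwd 434, .fwd 435, .bwd 7097],
   .loop (some (1, 2)) [.bwd 619, .fwd 7565, .bwd 436],
   .loop (some (15, 0)) [.fwd 6357, .bwd 7458, .fwd 617, .fwd 618],
   .loop (some (16, 4)) [.bwd 620, .bwd 7566, .fwd 7014, .fwd 6992, .fwd 661],
   .loop (some (1, 2)) [.bwd 6972, .bwd 7568, .bwd 7552],
   .loop (some (15, 0)) [.bwd 5839, .fwd 1926, .bwd 1010, .bwd 7509, .bwd 7517],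
   .loop none [.bwd 7570],
   .loop none [.fwd 5839, .bwd 7571],
   .loop (some (14, 0)) [.fwd 629, .fwd 7311, .bwd 627, .bwd 626],
   .loop (some (0, 1)) [.bwd 7573, .fwd 655],
   .loop (some (6, 3)) [.bwd 626, .bwd 7226, .fwd 1698],
   .loop (some (15, 0)) [.fwd 7261, .bwd 7165, .fwd 7184, .fwd 7308],
   .loop (some (6, 3)) [.bwd 627, .bwd 7575, .fwd 1699],
   .loop (some (10, 2)) [.fwd 7577, .bwd 7311, .fwd 7387],
   .loop (some (6, 3)) [.bwd 628, .bwd 7577, .fwd 1700],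
   .loop (some (3, 2)) [.fwd 644, .bwd 7579, .bwd 1706],
   .loop (some (10, 2)) [.fwd 7579, .bwd 7574, .bwd 7575],
   .loop (some (2, 1)) [.fwd 7299, .fwd 7296, .fwd 7387],
   .loop (some (15, 0)) [.bwd 7254, .bwd 7136, .bwd 7192, .fwd 7296],
   .loop (some (10, 2)) [.bwd 7387, .bwd 7300, .fwd 652],
   .loop (some (1, 2)) [.bwd 696, .fwd 7371, .fwd 633, .fwd 7489],
   .loop none [.fwd 7585],
   .loop none [.fwd 2413, .bwd 7586],
   .loop none [.fwd 7489, .bwd 7586],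
   .loop (some (4, 2)) [.fwd 7401, .fwd 7371, .fwd 6369, .fwd 7367],
   .loop none [.bwd 7589],
   .loop none [.fwd 1383, .bwd 7590],
   .loop none [.bwd 7401, .bwd 7590],
   .loop none [.fwd 1080, .fwd 7590, .fwd 7402],
   .loop none [.fwd 7593],
   .loop none [.bwd 7367, .fwd 7594, .fwd 2954],
   .loop none [.fwd 7595],
   .loop none [.bwd 7591, .fwd 7596, .fwd 2955],
   .loop none [.fwd 7597],
   .loop none [.bwd 7460, .bwd 7598],
   .loop none [.bwd 2545, .bwd 7598],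
   .loop none [.fwd 6533, .bwd 7598],
   .loop none [.fwd 1382, .fwd 7598, .bwd 7365],
   .loop none [.bwd 7602],
   .loop none [.fwd 7601, .fwd 7603, .bwd 1381],
   .loop none [.bwd 7604],
   .loop none [.fwd 7605, .bwd 1382, .bwd 7603],
   .loop none [.bwd 7599, .bwd 7605],
   .loop none [.fwd 7591, .bwd 7605],
   .loop none [.fwd 1380, .fwd 7605, .fwd 7600],
   .loop none [.fwd 7609],
   .loop none [.bwd 7601, .bwd 7605],
   .loop none [.fwd 2626, .bwd 7610],
   .loop none [.bwd 7379, .fwd 7610, .fwd 2630],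
   .loop none [.fwd 7613],
   .loop none [.bwd 7288, .fwd 7614, .fwd 2631],
   .loop none [.fwd 7615],
   .loop none [.fwd 569, .fwd 7616, .fwd 2632],
   .loop none [.fwd 7617],
   .loop none [.fwd 568, .fwd 7618, .fwd 2633],
   .loop none [.fwd 7619],
   .loop none [.bwd 577, .fwd 7620, .fwd 2634],
   .loop none [.fwd 7621],
   .loop none [.fwd 6901, .fwd 7622, .fwd 2635],
   .loop none [.fwd 7623],
   .loop none [.fwd 1865, .fwd 7624, .fwd 2636],
   .loop none [.fwd 7625],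
   .loop none [.bwd 7314, .fwd 7626, .fwd 2637],
   .loop none [.fwd 7627],
   .loop none [.fwd 7371, .fwd 7628, .fwd 2638],
   .loop none [.fwd 7629],
   .loop none [.fwd 695, .fwd 7630, .fwd 2639],
   .loop none [.fwd 7631],
   .loop none [.fwd 7265, .fwd 7632, .fwd 2640],
   .loop none [.fwd 7633],
   .loop none [.bwd 7266, .fwd 7634, .fwd 2641],
   .loop none [.fwd 7635],
   .loop none [.fwd 2459, .fwd 7636, .fwd 2642],
   .loop none [.fwd 7637],
   .loop none [.bwd 4120, .fwd 7638, .fwd 2643],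
   .loop none [.fwd 7639],
   .loop none [.fwd 4121, .fwd 7640, .fwd 2644],
   .loop none [.fwd 7641],
   .loop none [.bwd 2612, .fwd 7642, .fwd 2645],
   .loop none [.fwd 7643],
   .loop none [.fwd 2462, .fwd 7644, .fwd 2646],
   .loop none [.fwd 7645],
   .loop none [.bwd 2726, .fwd 7646, .fwd 2647],
   .loop none [.fwd 7647],
   .loop none [.bwd 4209, .fwd 7648, .fwd 2648],
   .loop none [.fwd 7649],
   .loop none [.fwd 2465, .fwd 7650, .fwd 2649],
   .loop none [.fwd 7651],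
   .loop none [.bwd 4201, .fwd 7652, .fwd 2650],
   .loop none [.fwd 7653],
   .loop none [.fwd 7564, .fwd 7654, .fwd 2651],
   .loop none [.fwd 7655],
   .loop none [.bwd 2652, .bwd 7656],
   .loop (some (15, 0)) [.bwd 7394, .bwd 667, .bwd 1865, .fwd 7314],
   .loop (some (17, 5)) [.bwd 6366, .fwd 634, .fwd 7334, .bwd 1642, .fwd 7101, .fwd 7081],
   .loop none [.fwd 7659],
   .loop none [.fwd 7081, .bwd 7660],
   .loop none [.fwd 1734, .bwd 7660],
   .loop (some (20, 6)) [.bwd 1733, .bwd 6366, .bwd 633, .bwd 7314, .fwd 1865, .fwd 667, .fwd 7394, .bwd 7587],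
   .loop (some (7, 1)) [.fwd 1691, .bwd 7334, .bwd 1711],
   .loop (some (6, 1)) [.fwd 735, .bwd 720, .bwd 694],
   .loop (some (3, 2)) [.bwd 641, .fwd 720, .fwd 1703],
   .loop (some (6, 1)) [.bwd 1704, .fwd 7666, .fwd 642],
   .loop (some (15, 0)) [.bwd 6009, .fwd 1494, .bwd 7551, .bwd 670, .fwd 7557],
   .loop none [.bwd 7668],
   .loop none [.fwd 6009, .bwd 7669],
   .loop (some (7, 1)) [.fwd 1680, .fwd 1681, .bwd 1702],
   .loop (some (0, 2)) [.fwd 7584, .fwd 7578],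
   .loop (some (4, 2)) [.bwd 738, .bwd 1681, .fwd 774],
   .loop (some (6, 1)) [.bwd 7553, .fwd 7548, .bwd 1693],
   .loop (some (17, 4)) [.bwd 4662, .fwd 4663, .fwd 661, .fwd 662, .bwd 7393, .fwd 7394],
   .loop none [.fwd 7675],
   .loop none [.fwd 7394, .bwd 7676],
   .loop none [.fwd 7587, .bwd 7676],
   .loop none [.fwd 7658, .bwd 7676],
   .loop (some (6, 1)) [.fwd 962, .bwd 661, .bwd 931],
   .loop (some (15, 0)) [.bwd 900, .fwd 1477, .fwd 1470, .bwd 4640, .fwd 789],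
   .loop none [.bwd 7681],
   .loop none [.fwd 900, .bwd 7682],
   .loop (some (15, 0)) [.bwd 1926, .fwd 5727, .fwd 5721, .fwd 1860],
   .loop (some (10, 2)) [.fwd 7393, .bwd 6979, .bwd 7393],
   .loop (some (20, 1)) [.fwd 7342, .bwd 7370, .bwd 7592, .bwd 1080, .bwd 6369, .bwd 7314, .fwd 1865, .fwd 6900],
   .loop (some (20, 0)) [.bwd 892, .bwd 5271, .fwd 7336, .fwd 6366, .fwd 1733, .bwd 7663, .bwd 7678, .fwd 7677],
   .loop (some (1, 2)) [.bwd 668, .fwd 7687, .fwd 893],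
   .loop (some (13, 2)) [.bwd 668, .bwd 7685, .fwd 668],
   .loop (some (4, 2)) [.fwd 7342, .bwd 668, .bwd 7677, .bwd 893],
   .loop none [.fwd 7690],
   .loop none [.fwd 7687, .bwd 7691],
   .loop none [.fwd 7686, .fwd 7691, .bwd 892],
   .loop none [.bwd 7693],
   .loop none [.fwd 828, .fwd 7691, .fwd 893],
   .loop none [.fwd 7695],
   .loop none [.fwd 6900, .bwd 7694],
   .loop none [.bwd 7686, .bwd 7694],
   .loop none [.bwd 7688, .bwd 7696],
   .loop none [.fwd 4662, .bwd 7696],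
   .loop none [.bwd 7677, .bwd 7696],
   .loop none [.fwd 827, .fwd 7696, .fwd 7678],
   .loop none [.bwd 7702],
   .loop none [.bwd 7679, .bwd 7696],
   .loop none [.bwd 7663, .fwd 7703, .bwd 826],
   .loop none [.bwd 7705],
   .loop none [.bwd 827, .bwd 7703],
   .loop none [.fwd 7663, .bwd 7706],
   .loop none [.fwd 1733, .bwd 7706],
   .loop none [.fwd 7662, .bwd 7706],
   .loop (some (16, 2)) [.bwd 429, .bwd 7556, .bwd 669, .bwd 7699, .fwd 7700],
   .loop (some (7, 1)) [.fwd 1016, .bwd 7509, .fwd 7512],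
   .loop (some (7, 1)) [.fwd 1530, .bwd 7501, .fwd 7505],
   .loop (some (15, 0)) [.bwd 3005, .bwd 114, .bwd 5335, .fwd 5334, .bwd 7502],
   .loop none [.bwd 7714],
   .loop none [.fwd 3005, .bwd 7715],
   .loop (some (15, 0)) [.bwd 7101, .fwd 7102, .fwd 6959, .bwd 7094],
   .loop (some (15, 0)) [.fwd 2460, .bwd 5328, .fwd 6342, .fwd 726],
   .loop (some (2, 0)) [.fwd 750, .bwd 6986, .bwd 718],
   .loop (some (6, 3)) [.bwd 690, .fwd 7719, .fwd 731],
   .loop (some (14, 2)) [.bwd 692, .bwd 691, .bwd 722, .fwd 690],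
   .loop (some (0, 1)) [.fwd 722, .fwd 7721],
   .loop (some (6, 3)) [.bwd 691, .bwd 7720, .fwd 732],
   .loop (some (6, 3)) [.bwd 692, .bwd 7723, .fwd 733],
   .loop (some (3, 2)) [.fwd 707, .bwd 7724, .bwd 741],
   .loop (some (14, 2)) [.bwd 694, .bwd 693, .bwd 7721, .fwd 691],
   .loop (some (10, 2)) [.fwd 7724, .bwd 7721, .bwd 7720],
   .loop (some (14, 0)) [.bwd 640, .fwd 656, .fwd 640, .bwd 694],
   .loop (some (0, 0)) [.fwd 7726, .bwd 7728],
   .loop (some (10, 2)) [.bwd 7665, .fwd 7728, .fwd 720],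
   .loop (some (15, 0)) [.fwd 5271, .fwd 7698, .fwd 7342, .bwd 7370],
   .loop (some (17, 4)) [.fwd 825, .fwd 7708, .fwd 697, .bwd 7000, .fwd 769, .fwd 6266],
   .loop none [.bwd 7732],
   .loop none [.fwd 824, .bwd 7733],
   .loop (some (15, 0)) [.fwd 1865, .fwd 667, .bwd 7701, .bwd 7707],
   .loop (some (7, 1)) [.fwd 784, .fwd 7000, .bwd 749],
   .loop (some (6, 1)) [.bwd 739, .fwd 7388, .fwd 705],
   .loop (some (7, 1)) [.fwd 767, .bwd 736, .bwd 735],
   .loop (some (4, 2)) [.bwd 1703, .fwd 736, .fwd 1682],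
   .loop (some (10, 0)) [.fwd 7723, .fwd 7726, .fwd 720],
   .loop (some (15, 0)) [.fwd 2052, .fwd 579, .bwd 686, .bwd 726],
   .loop (some (7, 3)) [.bwd 730, .fwd 26, .fwd 762],
   .loop (some (0, 2)) [.fwd 755, .fwd 7727],
   .loop (some (7, 3)) [.bwd 731, .bwd 7742, .fwd 763],
   .loop (some (7, 3)) [.bwd 732, .bwd 7744, .fwd 764],
   .loop (some (14, 0)) [.fwd 735, .fwd 7730, .bwd 734, .bwd 733],
   .loop (some (11, 2)) [.fwd 7745, .fwd 7746, .fwd 7738],
   .loop (some (7, 3)) [.bwd 733, .bwd 7745, .fwd 765],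
   .loop (some (4, 2)) [.fwd 741, .bwd 7748, .bwd 777]]

theorem just30_len : just30.length = 250 := by decide +kernel

theorem just30_ok : cert.okFacts 7500 just30 = true := by decide +kernel

/-- justifications -/
noncomputable def just31 : List Cert.Just :=
  [.loop (some (11, 2)) [.fwd 7748, .bwd 7727, .bwd 7744],
   .loop (some (11, 2)) [.bwd 7738, .bwd 7730, .fwd 736],
   .loop (some (2, 2)) [.fwd 858, .fwd 790, .bwd 1553],
   .loop (some (6, 1)) [.fwd 1588, .bwd 790, .bwd 767],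
   .loop (some (3, 2)) [.bwd 1682, .fwd 790, .fwd 1645],
   .loop (some (0, 2)) [.fwd 7751, .fwd 7747],
   .loop (some (7, 1)) [.bwd 775, .fwd 7673, .fwd 739],
   .loop (some (1, 2)) [.fwd 7341, .fwd 7711, .bwd 3134],
   .loop (some (15, 0)) [.bwd 7004, .fwd 7005, .fwd 7000, .fwd 742],
   .loop (some (15, 0)) [.bwd 761, .fwd 26, .fwd 27, .fwd 1477, .fwd 1470],
   .loop none [.bwd 7759],
   .loop none [.fwd 761, .bwd 7760],
   .loop (some (15, 0)) [.bwd 847, .bwd 785, .fwd 7742, .fwd 750],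
   .loop (some (2, 0)) [.fwd 1600, .bwd 861, .bwd 785],
   .loop (some (8, 1)) [.fwd 839, .bwd 785, .fwd 763],
   .loop (some (14, 0)) [.fwd 766, .fwd 7747, .bwd 764, .bwd 763],
   .loop (some (8, 1)) [.fwd 838, .bwd 7764, .fwd 764],
   .loop (some (6, 3)) [.bwd 763, .fwd 7763, .fwd 1584],
   .loop (some (12, 2)) [.bwd 7764, .bwd 801, .fwd 785],
   .loop (some (8, 1)) [.fwd 837, .bwd 7766, .fwd 765],
   .loop (some (6, 3)) [.bwd 764, .bwd 7767, .fwd 1585],
   .loop (some (10, 2)) [.fwd 7770, .bwd 7747, .fwd 7753],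
   .loop (some (8, 1)) [.fwd 836, .bwd 7769, .fwd 766],
   .loop (some (6, 3)) [.bwd 765, .bwd 7770, .fwd 1586],
   .loop (some (3, 2)) [.fwd 777, .bwd 7773, .bwd 1595],
   .loop (some (12, 2)) [.bwd 7769, .bwd 7750, .fwd 7764],
   .loop (some (10, 2)) [.fwd 7773, .bwd 7750, .bwd 7767],
   .loop (some (10, 2)) [.bwd 7753, .bwd 7751, .fwd 790],
   .loop (some (15, 0)) [.bwd 5736, .fwd 5737, .bwd 7501, .fwd 7502],
   .loop (some (6, 1)) [.fwd 1639, .fwd 1670, .bwd 1680],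
   .loop (some (3, 2)) [.bwd 774, .bwd 1670, .fwd 1592],
   .loop (some (6, 1)) [.bwd 1593, .fwd 7780, .fwd 775],
   .loop (some (15, 0)) [.fwd 430, .fwd 431, .bwd 760, .bwd 780],
   .loop (some (7, 1)) [.fwd 5959, .bwd 847, .bwd 839],
   .loop (some (6, 1)) [.fwd 1543, .bwd 861, .bwd 839],
   .loop (some (3, 2)) [.bwd 916, .fwd 861, .fwd 949],
   .loop (some (12, 0)) [.bwd 7769, .bwd 7765, .fwd 785],
   .loop (some (0, 2)) [.fwd 7777, .fwd 7771],
   .loop (some (4, 2)) [.bwd 1645, .fwd 1589, .fwd 5987],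
   .loop (some (7, 1)) [.bwd 4722, .fwd 5265, .bwd 2930],
   .loop (some (15, 0)) [.bwd 1537, .fwd 64, .fwd 65, .fwd 796, .fwd 803],
   .loop none [.bwd 7790],
   .loop none [.fwd 1537, .bwd 7791],
   .loop (some (15, 0)) [.bwd 434, .fwd 7059, .fwd 6266, .fwd 823],
   .loop (some (7, 3)) [.bwd 834, .fwd 1477, .fwd 5954],
   .loop (some (14, 0)) [.fwd 838, .fwd 7775, .bwd 836, .bwd 835],
   .loop (some (0, 1)) [.bwd 7795, .fwd 864],
   .loop (some (7, 3)) [.bwd 835, .bwd 7794, .fwd 5955],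
   .loop (some (6, 3)) [.bwd 835, .bwd 7752, .fwd 1539],
   .loop (some (7, 3)) [.bwd 836, .bwd 7797, .fwd 5956],
   .loop (some (6, 3)) [.bwd 836, .bwd 7798, .fwd 1540],
   .loop (some (11, 2)) [.fwd 7799, .bwd 7775, .fwd 7783],
   .loop (some (10, 2)) [.fwd 7800, .bwd 7775, .fwd 7784],
   .loop (some (7, 3)) [.bwd 837, .bwd 7799, .fwd 5957],
   .loop (some (6, 3)) [.bwd 837, .bwd 7800, .fwd 1541],
   .loop (some (3, 2)) [.fwd 853, .bwd 7804, .bwd 1547],
   .loop (some (4, 2)) [.fwd 853, .bwd 7803, .bwd 5963],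
   .loop (some (11, 2)) [.fwd 7803, .bwd 7796, .bwd 7797],
   .loop (some (2, 1)) [.fwd 7767, .fwd 7764, .fwd 7784],
   .loop (some (11, 2)) [.bwd 7783, .bwd 7768, .fwd 847],
   .loop (some (10, 2)) [.bwd 7784, .bwd 7768, .fwd 861],
   .loop (some (6, 1)) [.fwd 4611, .fwd 4774, .bwd 5959],
   .loop (some (0, 2)) [.fwd 7809, .fwd 7801],
   .loop (some (6, 1)) [.fwd 946, .bwd 932, .bwd 906],
   .loop (some (3, 2)) [.bwd 850, .fwd 932, .fwd 1544],
   .loop (some (4, 2)) [.bwd 850, .fwd 914, .fwd 5960],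
   .loop (some (7, 1)) [.bwd 5961, .fwd 7815, .fwd 851],
   .loop (some (6, 1)) [.bwd 1545, .fwd 7814, .fwd 851],
   .loop (some (7, 1)) [.fwd 1519, .fwd 1520, .bwd 1543],
   .loop (some (0, 2)) [.fwd 7810, .fwd 7802],
   .loop (some (4, 2)) [.bwd 949, .bwd 1520, .fwd 1006],
   .loop (some (5, 2)) [.bwd 1350, .bwd 1532, .fwd 4603],
   .loop (some (8, 1)) [.bwd 1005, .fwd 868, .bwd 4352],
   .loop (some (14, 2)) [.fwd 4351, .fwd 4352, .bwd 1534, .bwd 4352],
   .loop (some (15, 0)) [.bwd 796, .bwd 65, .bwd 64, .fwd 868],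
   .loop (some (15, 0)) [.bwd 1740, .bwd 68, .fwd 659, .bwd 830, .fwd 1665],
   .loop none [.bwd 7825],
   .loop none [.fwd 1740, .bwd 7826],
   .loop (some (2, 0)) [.fwd 961, .bwd 7680, .bwd 930],
   .loop (some (6, 3)) [.bwd 902, .fwd 7828, .fwd 942],
   .loop (some (14, 2)) [.bwd 904, .bwd 903, .bwd 934, .fwd 902],
   .loop (some (0, 1)) [.fwd 934, .fwd 7830],
   .loop (some (6, 3)) [.bwd 903, .bwd 7829, .fwd 943],
   .loop (some (6, 3)) [.bwd 904, .bwd 7832, .fwd 944],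
   .loop (some (3, 2)) [.fwd 919, .bwd 7833, .bwd 952],
   .loop (some (14, 2)) [.bwd 906, .bwd 905, .bwd 7830, .fwd 903],
   .loop (some (10, 2)) [.fwd 7833, .bwd 7830, .bwd 7829],
   .loop (some (14, 0)) [.bwd 849, .fwd 865, .fwd 849, .bwd 906],
   .loop (some (0, 0)) [.fwd 7835, .bwd 7837],
   .loop (some (10, 2)) [.bwd 7813, .fwd 7837, .fwd 932],
   .loop (some (2, 2)) [.fwd 5970, .bwd 4790, .bwd 3432],
   .loop (some (3, 2)) [.bwd 5960, .bwd 4790, .fwd 4617],
   .loop (some (15, 0)) [.fwd 736, .bwd 858, .bwd 7794, .fwd 5970],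
   .loop (some (6, 1)) [.bwd 950, .fwd 7785, .fwd 917],
   .loop (some (7, 1)) [.fwd 999, .bwd 947, .bwd 946],
   .loop (some (4, 2)) [.bwd 1544, .fwd 947, .fwd 1521],
   .loop (some (10, 0)) [.fwd 7832, .fwd 7835, .fwd 932],
   .loop (some (7, 4)) [.bwd 941, .fwd 30, .fwd 994, .fwd 4564],
   .loop none [.fwd 7847],
   .loop none [.fwd 7828, .fwd 7848, .bwd 4477],
   .loop none [.fwd 7849],
   .loop none [.fwd 4564, .bwd 7848],
   .loop none [.bwd 961, .fwd 7848, .bwd 5939],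
   .loop none [.fwd 7852],
   .loop none [.fwd 4476, .bwd 7850],
   .loop none [.fwd 5938, .bwd 7853],
   .loop (some (0, 2)) [.fwd 966, .fwd 7836],
   .loop (some (15, 0)) [.fwd 5936, .fwd 5937, .bwd 7855, .bwd 961],
   .loop (some (7, 3)) [.bwd 942, .fwd 7851, .fwd 995],
   .loop (some (7, 3)) [.bwd 943, .bwd 7858, .fwd 996],
   .loop (some (14, 0)) [.fwd 946, .fwd 7839, .bwd 945, .bwd 944],
   .loop (some (11, 2)) [.fwd 7859, .fwd 7860, .fwd 7844],
   .loop (some (7, 3)) [.bwd 944, .bwd 7859, .fwd 997],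
   .loop (some (4, 2)) [.fwd 952, .bwd 7862, .bwd 1009],
   .loop (some (11, 2)) [.fwd 7862, .bwd 7836, .bwd 7858],
   .loop (some (11, 2)) [.bwd 7844, .bwd 7839, .fwd 947],
   .loop (some (16, 1)) [.bwd 1529, .bwd 1512, .bwd 1458, .bwd 1022, .fwd 1015],
   .loop (some (2, 4)) [.fwd 1022, .bwd 1434, .bwd 3419, .fwd 5474],
   .loop none [.fwd 7867],
   .loop none [.fwd 1120, .fwd 7868, .bwd 5474],
   .loop none [.fwd 7869],
   .loop none [.bwd 1521, .fwd 7868, .fwd 5475],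
   .loop none [.fwd 7871],
   .loop none [.bwd 3419, .bwd 7870],
   .loop none [.fwd 5435, .bwd 7870],
   .loop none [.fwd 3418, .bwd 7870],
   .loop none [.bwd 5476, .bwd 7872],
   .loop (some (6, 1)) [.fwd 1441, .bwd 1022, .bwd 999],
   .loop (some (3, 3)) [.bwd 1521, .fwd 1022, .fwd 1507, .fwd 4941],
   .loop none [.fwd 7878],
   .loop none [.bwd 7876, .fwd 7879, .bwd 4941],
   .loop none [.bwd 7880],
   .loop none [.bwd 7845, .fwd 7879, .fwd 4942],
   .loop none [.fwd 7882],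
   .loop none [.fwd 7876, .bwd 7881],
   .loop none [.bwd 5477, .bwd 7881],
   .loop none [.bwd 4943, .bwd 7883],
   .loop (some (0, 2)) [.fwd 7865, .fwd 7861],
   .loop (some (15, 0)) [.fwd 1852, .bwd 1930, .bwd 7874, .fwd 1120],
   .loop (some (7, 1)) [.bwd 1007, .fwd 7820, .fwd 950],
   .loop (some (15, 0)) [.bwd 5953, .bwd 1110, .bwd 1017, .bwd 7851, .fwd 961],
   .loop none [.bwd 7890],
   .loop none [.fwd 5953, .bwd 7891],
   .loop (some (21, 2)) [.bwd 6607, .bwd 6606, .bwd 4767, .fwd 4768, .fwd 4768, .fwd 4768, .fwd 4767, .fwd 3178],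
   .loop (some (15, 0)) [.fwd 7501, .bwd 5737, .fwd 5736, .fwd 5281],
   .loop (some (8, 1)) [.bwd 5675, .fwd 1104, .bwd 1017, .fwd 995],
   .loop none [.bwd 7895],
   .loop none [.fwd 5675, .bwd 7896],
   .loop none [.bwd 5676, .bwd 7896],
   .loop (some (18, 4)) [.bwd 5135, .fwd 1017, .bwd 1201, .bwd 4417, .fwd 5520],
   .loop (some (3, 3)) [.bwd 5135, .fwd 4542, .fwd 4546, .fwd 4888],
   .loop none [.bwd 7900],
   .loop none [.fwd 4888, .fwd 7901, .fwd 5136],
   .loop none [.fwd 7902],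
   .loop none [.fwd 7899, .bwd 7901],
   .loop none [.fwd 5135, .bwd 7901],
   .loop none [.bwd 5137, .bwd 7903],
   .loop (some (14, 0)) [.fwd 998, .fwd 7861, .bwd 996, .bwd 995],
   .loop (some (12, 1)) [.bwd 5576, .fwd 4595, .bwd 1017, .fwd 7907],
   .loop none [.bwd 7908],
   .loop none [.fwd 5576, .bwd 7909],
   .loop none [.fwd 1009, .fwd 7909, .fwd 5577],
   .loop none [.fwd 7911],
   .loop none [.bwd 5578, .bwd 7912],
   .loop (some (13, 2)) [.fwd 7905, .fwd 7907, .bwd 1009],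
   .loop (some (4, 1)) [.bwd 4889, .fwd 7905, .bwd 7851],
   .loop (some (10, 1)) [.fwd 4565, .bwd 4542, .fwd 7907],
   .loop (some (2, 0)) [.fwd 3422, .bwd 4551, .bwd 7897],
   .loop (some (8, 1)) [.bwd 4555, .fwd 1103, .bwd 7897, .fwd 996],
   .loop none [.bwd 7918],
   .loop none [.bwd 7859, .fwd 7919, .bwd 3318],
   .loop none [.fwd 7920],
   .loop none [.fwd 4555, .bwd 7919],
   .loop none [.bwd 7832, .fwd 7921, .bwd 3317],
   .loop none [.fwd 7923],
   .loop none [.fwd 3316, .bwd 7924],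
   .loop (some (6, 3)) [.bwd 7917, .bwd 995, .fwd 4542, .fwd 1437],
   .loop none [.bwd 7926],
   .loop none [.fwd 7917, .bwd 7927],
   .loop none [.fwd 3421, .bwd 7927],
   .loop none [.bwd 3422, .bwd 7927],
   .loop none [.bwd 5087, .bwd 7927],
   .loop (some (3, 3)) [.bwd 7898, .bwd 7928, .fwd 7931, .fwd 5088],
   .loop none [.bwd 7932],
   .loop none [.fwd 5088, .fwd 7933, .fwd 5677],
   .loop none [.fwd 7934],
   .loop none [.fwd 7898, .bwd 7933],
   .loop none [.bwd 5678, .bwd 7935],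
   .loop (some (4, 1)) [.bwd 5089, .fwd 7936, .fwd 7858],
   .loop (some (15, 0)) [.bwd 6703, .fwd 6704, .fwd 5121, .bwd 7897],
   .loop (some (8, 2)) [.fwd 1102, .bwd 7922, .fwd 997, .fwd 7910],
   .loop none [.fwd 7940],
   .loop none [.fwd 4366, .bwd 7941],
   .loop none [.fwd 5571, .bwd 7941],
   .loop none [.fwd 7910, .bwd 7941],
   .loop none [.fwd 4521, .bwd 7941],
   .loop none [.bwd 4595, .bwd 7941],
   .loop (some (6, 3)) [.bwd 996, .bwd 7928, .fwd 1438],
   .loop (some (10, 2)) [.fwd 7947, .bwd 7861, .fwd 7877],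
   .loop (some (8, 1)) [.fwd 4417, .fwd 1101, .fwd 7944, .fwd 998],
   .loop none [.bwd 7949],
   .loop none [.fwd 7844, .fwd 7950, .bwd 4416],
   .loop none [.fwd 7951],
   .loop none [.bwd 4417, .bwd 7950],
   .loop none [.bwd 5520, .bwd 7950],
   .loop none [.fwd 7813, .fwd 7952, .bwd 4415],
   .loop none [.fwd 7955],
   .loop none [.fwd 4414, .bwd 7956],
   .loop (some (6, 3)) [.bwd 7916, .bwd 997, .bwd 7947, .fwd 1439],
   .loop none [.bwd 7958],
   .loop none [.fwd 7916, .bwd 7959],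
   .loop none [.fwd 4375, .bwd 7959],
   .loop none [.bwd 4376, .bwd 7959],
   .loop none [.fwd 1448, .fwd 7959, .fwd 5015],
   .loop none [.fwd 7963],
   .loop none [.bwd 4565, .bwd 7959],
   .loop none [.bwd 5016, .bwd 7964],
   .loop (some (3, 3)) [.fwd 1009, .bwd 7960, .bwd 1448, .fwd 7966],
   .loop none [.fwd 7967],
   .loop none [.bwd 7913, .fwd 7968, .bwd 7966],
   .loop none [.bwd 7969],
   .loop none [.bwd 7863, .fwd 7968, .fwd 5017],
   .loop none [.fwd 7971],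
   .loop none [.fwd 7913, .bwd 7970],
   .loop none [.bwd 5579, .bwd 7970],
   .loop none [.bwd 5018, .bwd 7972],
   .loop (some (12, 2)) [.fwd 7944, .bwd 7864, .fwd 7897],
   .loop (some (13, 2)) [.fwd 1009, .bwd 7864, .bwd 7936],
   .loop (some (15, 0)) [.bwd 6833, .fwd 6834, .bwd 7943, .fwd 7944],
   .loop (some (10, 2)) [.fwd 7960, .bwd 7864, .bwd 7928],
   .loop (some (2, 1)) [.fwd 3356, .bwd 4558, .bwd 7953, .fwd 7877],
   .loop none [.bwd 7980],
   .loop none [.fwd 3355, .bwd 7981],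
   .loop none [.bwd 3356, .bwd 7981],
   .loop none [.fwd 4548, .bwd 7981],
   .loop (some (3, 3)) [.bwd 7954, .fwd 7877, .fwd 7984, .fwd 4973],
   .loop none [.bwd 7985],
   .loop none [.fwd 4973, .fwd 7986, .fwd 5521],
   .loop none [.fwd 7987],
   .loop none [.fwd 7904, .bwd 7986],
   .loop none [.fwd 7954, .bwd 7986],
   .loop none [.bwd 5522, .bwd 7988],
   .loop (some (13, 2)) [.fwd 7990, .bwd 7865, .fwd 1521],
   .loop (some (4, 1)) [.bwd 4974, .fwd 7990, .bwd 7844],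
   .loop (some (10, 2)) [.bwd 7877, .bwd 7865, .fwd 1022],
   .loop (some (2, 2)) [.fwd 7822, .bwd 1512, .bwd 4600],
   .loop (some (6, 1)) [.fwd 1504, .fwd 1512, .bwd 1519],
   .loop (some (3, 2)) [.bwd 1006, .bwd 1512, .fwd 1445],
   .loop (some (6, 1)) [.bwd 1446, .fwd 7997, .fwd 1007],
   .loop (some (11, 2)) [.bwd 7863, .bwd 7977, .fwd 5089]]

theorem just31_len : just31.length = 250 := by decide +kernel

theorem just31_ok : cert.okFacts 7750 just31 = true := by decide +kernel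

/-- justifications -/
noncomputable def just32 : List Cert.Just :=
  [.loop (some (10, 2)) [.fwd 7973, .bwd 7977, .bwd 5088],
   .loop (some (15, 0)) [.bwd 621, .fwd 7517, .fwd 7509, .fwd 1010],
   .loop (some (14, 2)) [.bwd 1099, .bwd 1018, .bwd 7946, .fwd 1102],
   .loop (some (13, 2)) [.fwd 1124, .fwd 1201, .bwd 7946, .fwd 7945],
   .loop none [.fwd 8003],
   .loop none [.bwd 1120, .fwd 8004, .bwd 4520],
   .loop none [.fwd 8005],
   .loop none [.bwd 7875, .fwd 8004, .bwd 7945],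
   .loop none [.bwd 8007],
   .loop none [.fwd 947, .fwd 8006, .bwd 4519],
   .loop none [.fwd 8009],
   .loop none [.bwd 7944, .fwd 8008, .bwd 3417],
   .loop none [.fwd 8011],
   .loop none [.fwd 7875, .bwd 8008],
   .loop none [.fwd 932, .fwd 8010, .bwd 4518],
   .loop none [.fwd 8014],
   .loop none [.bwd 7862, .fwd 8012, .bwd 3416],
   .loop none [.fwd 8016],
   .loop none [.bwd 850, .fwd 8015, .bwd 4517],
   .loop none [.fwd 8018],
   .loop none [.bwd 7833, .fwd 8017, .bwd 3415],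
   .loop none [.fwd 8020],
   .loop none [.fwd 4516, .bwd 8019],
   .loop none [.fwd 919, .fwd 8021, .bwd 3414],
   .loop none [.fwd 8023],
   .loop none [.fwd 3413, .bwd 8024],
   .loop (some (15, 0)) [.bwd 7855, .bwd 961, .fwd 7851, .fwd 1017],
   .loop (some (7, 2)) [.fwd 4784, .bwd 1442, .bwd 1441, .fwd 7982],
   .loop none [.bwd 8027],
   .loop none [.bwd 4784, .bwd 8028],
   .loop none [.fwd 4783, .bwd 8028],
   .loop (some (20, 2)) [.bwd 3268, .fwd 2100, .fwd 2098, .bwd 1511, .fwd 3431, .fwd 3432, .bwd 1442, .fwd 1458, .bwd 4600],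
   .loop none [.bwd 8031],
   .loop none [.fwd 3268, .bwd 8032],
   .loop none [.bwd 4600, .fwd 8032, .fwd 3269],
   .loop none [.fwd 8034],
   .loop none [.bwd 1505, .fwd 8035, .fwd 3270],
   .loop none [.fwd 8036],
   .loop none [.fwd 4592, .bwd 8035],
   .loop none [.fwd 4789, .fwd 8037, .fwd 3271],
   .loop none [.bwd 8039],
   .loop none [.fwd 4862, .bwd 8037],
   .loop none [.bwd 4789, .bwd 8040],
   .loop none [.bwd 4780, .bwd 8040],
   .loop none [.fwd 4779, .bwd 8040],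
   .loop none [.bwd 4791, .bwd 8040],
   .loop (some (5, 1)) [.fwd 1504, .bwd 1458, .bwd 1441],
   .loop (some (1, 2)) [.bwd 1507, .fwd 1458, .fwd 1445],
   .loop (some (18, 4)) [.bwd 1507, .bwd 1434, .bwd 4368, .bwd 7962, .bwd 1448],
   .loop (some (14, 0)) [.fwd 1439, .fwd 7965, .bwd 1436, .fwd 1032],
   .loop (some (12, 1)) [.bwd 4435, .fwd 4436, .fwd 1434, .fwd 8049],
   .loop none [.bwd 8050],
   .loop none [.fwd 4419, .bwd 8051],
   .loop none [.fwd 4435, .bwd 8051],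
   .loop none [.bwd 5056, .bwd 8051],
   .loop (some (13, 2)) [.bwd 1507, .fwd 8049, .fwd 8054],
   .loop (some (4, 2)) [.bwd 7885, .bwd 1507, .fwd 1442, .fwd 4617],
   .loop none [.bwd 8056],
   .loop none [.fwd 7885, .bwd 8057],
   .loop none [.bwd 5478, .bwd 8057],
   .loop (some (11, 2)) [.bwd 1442, .fwd 8049, .fwd 8052],
   .loop (some (15, 0)) [.bwd 4596, .bwd 281, .bwd 292, .bwd 3344, .fwd 1434],
   .loop none [.bwd 8061],
   .loop none [.fwd 4596, .bwd 8062],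
   .loop (some (15, 0)) [.bwd 2905, .fwd 2218, .bwd 3859, .bwd 6521, .bwd 1084],
   .loop none [.bwd 8064],
   .loop none [.fwd 2905, .bwd 8065],
   .loop (some (7, 1)) [.bwd 3955, .bwd 6521, .fwd 6524],
   .loop (some (7, 1)) [.fwd 3957, .bwd 6511, .fwd 6515],
   .loop (some (6, 1)) [.bwd 6507, .bwd 1086, .fwd 6515],
   .loop (some (15, 0)) [.bwd 4209, .bwd 2612, .fwd 4121, .bwd 6512],
   .loop (some (15, 0)) [.bwd 2086, .fwd 85, .bwd 1258, .bwd 118, .bwd 2138],
   .loop none [.bwd 8071],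
   .loop none [.fwd 2086, .bwd 8072],
   .loop (some (18, 2)) [.fwd 1009, .bwd 7944, .fwd 8013, .fwd 1120, .fwd 1521],
   .loop (some (0, 1)) [.fwd 8002, .fwd 1124],
   .loop (some (11, 1)) [.bwd 5632, .fwd 5637, .bwd 7874, .bwd 8002],
   .loop none [.bwd 8076],
   .loop none [.fwd 4433, .bwd 8077],
   .loop none [.fwd 5632, .bwd 8077],
   .loop none [.fwd 7922, .fwd 8077, .fwd 5641],
   .loop none [.fwd 8080],
   .loop none [.fwd 1191, .fwd 8077, .bwd 3461],
   .loop none [.fwd 8082],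
   .loop none [.bwd 5642, .bwd 8081],
   .loop none [.fwd 7897, .fwd 8083, .bwd 3460],
   .loop none [.fwd 8085],
   .loop none [.bwd 7858, .fwd 8086, .bwd 3459],
   .loop none [.fwd 8087],
   .loop none [.bwd 7829, .fwd 8088, .bwd 3458],
   .loop none [.fwd 8089],
   .loop none [.fwd 3457, .bwd 8090],
   .loop (some (18, 2)) [.fwd 7936, .fwd 7897, .fwd 1191, .bwd 7922, .fwd 8084],
   .loop (some (7, 1)) [.fwd 3023, .bwd 5736, .bwd 7821],
   .loop (some (15, 0)) [.bwd 6603, .bwd 382, .fwd 3544, .bwd 5814, .fwd 5815],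
   .loop none [.bwd 8094],
   .loop none [.fwd 6603, .bwd 8095],
   .loop (some (5, 1)) [.bwd 1346, .fwd 4545, .fwd 1207],
   .loop (some (1, 1)) [.fwd 4860, .fwd 4368, .fwd 8097],
   .loop (some (2, 1)) [.fwd 4804, .bwd 4827, .bwd 4808],
   .loop (some (15, 0)) [.bwd 3353, .bwd 3352, .fwd 4823, .bwd 4827],
   .loop (some (3, 1)) [.bwd 4381, .fwd 4383, .bwd 4799],
   .loop (some (11, 2)) [.fwd 8033, .bwd 4447, .fwd 4811],
   .loop (some (15, 0)) [.bwd 3431, .fwd 1511, .bwd 2098, .bwd 2100],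
   .loop (some (10, 2)) [.fwd 4799, .bwd 4447, .fwd 4445],
   .loop (some (2, 2)) [.fwd 1511, .bwd 4604, .bwd 1531],
   .loop (some (6, 2)) [.fwd 4604, .bwd 4824, .bwd 4857],
   .loop (some (3, 2)) [.bwd 1345, .bwd 4604, .fwd 4350],
   .loop (some (12, 2)) [.fwd 1511, .bwd 4861, .fwd 4439],
   .loop (some (15, 0)) [.fwd 1442, .bwd 3432, .bwd 3431, .fwd 1511],
   .loop (some (14, 2)) [.bwd 4598, .bwd 4597, .bwd 4605, .bwd 1346],
   .loop (some (12, 2)) [.bwd 4831, .bwd 4605, .fwd 4600],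
   .loop (some (0, 1)) [.fwd 8102, .fwd 4605, .fwd 8110],
   .loop none [.fwd 8112],
   .loop none [.fwd 4825, .bwd 8113],
   .loop none [.fwd 8110, .bwd 8113],
   .loop (some (15, 0)) [.fwd 7929, .bwd 4495, .bwd 4494, .bwd 4831],
   .loop (some (8, 2)) [.fwd 1504, .bwd 4600, .bwd 1346, .fwd 4831],
   .loop none [.fwd 8117],
   .loop none [.bwd 4494, .bwd 8118],
   .loop none [.fwd 4831, .bwd 8118],
   .loop none [.fwd 8111, .bwd 8118],
   .loop (some (12, 2)) [.bwd 4600, .bwd 8102, .fwd 4372],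
   .loop (some (15, 0)) [.bwd 3272, .fwd 8042, .bwd 1505, .bwd 4600],
   .loop (some (9, 1)) [.fwd 4436, .fwd 8097, .bwd 8102],
   .loop (some (7, 1)) [.bwd 3718, .bwd 4042, .fwd 4045],
   .loop (some (8, 0)) [.bwd 5390, .bwd 3178, .bwd 4043],
   .loop (some (15, 0)) [.bwd 6613, .fwd 3185, .fwd 3184, .bwd 3185, .bwd 4043],
   .loop none [.bwd 8127],
   .loop none [.fwd 6613, .bwd 8128],
   .loop (some (15, 0)) [.bwd 6342, .fwd 5328, .bwd 2460, .bwd 7266],
   .loop (some (15, 0)) [.bwd 2584, .fwd 106, .fwd 107, .bwd 2625, .bwd 7612],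
   .loop none [.bwd 8131],
   .loop none [.fwd 2584, .bwd 8132],
   .loop (some (15, 0)) [.bwd 2314, .fwd 2239, .bwd 3734, .fwd 3958, .fwd 3734],
   .loop none [.bwd 8134],
   .loop none [.fwd 2314, .bwd 8135],
   .loop (some (5, 1)) [.fwd 2758, .fwd 4143, .bwd 3784],
   .loop (some (15, 0)) [.bwd 3893, .fwd 250, .fwd 251, .bwd 3929, .fwd 3753],
   .loop none [.bwd 8138],
   .loop none [.fwd 3893, .bwd 8139],
   .loop (some (6, 1)) [.bwd 3718, .bwd 1423, .fwd 3955],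
   .loop (some (15, 0)) [.bwd 2149, .fwd 98, .fwd 99, .bwd 2146, .bwd 3229],
   .loop none [.bwd 8142],
   .loop none [.fwd 2149, .bwd 8143],
   .loop (some (18, 2)) [.bwd 7931, .fwd 7930, .fwd 1432, .bwd 8053, .fwd 8054],
   .loop (some (20, 0)) [.fwd 1511, .bwd 2098, .bwd 2100, .bwd 8033, .fwd 4600, .fwd 1505, .bwd 8042, .fwd 3272],
   .loop (some (4, 1)) [.bwd 7906, .bwd 4546, .bwd 3272],
   .loop (some (11, 2)) [.fwd 3272, .bwd 7965, .fwd 7961],
   .loop (some (9, 1)) [.fwd 8108, .bwd 8146, .bwd 7965],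
   .loop (some (7, 3)) [.bwd 7929, .bwd 1437, .bwd 3272, .fwd 8043],
   .loop none [.fwd 8150],
   .loop none [.bwd 4781, .bwd 8151],
   .loop none [.fwd 8043, .bwd 8151],
   .loop none [.fwd 8045, .bwd 8151],
   .loop (some (20, 0)) [.bwd 3352, .fwd 4823, .bwd 4827, .bwd 4830, .bwd 8120, .fwd 8119, .fwd 4495, .bwd 7929],
   .loop (some (5, 3)) [.bwd 8155, .bwd 1437, .fwd 8146, .fwd 1500],
   .loop none [.bwd 8156],
   .loop none [.fwd 8155, .bwd 8157],
   .loop none [.bwd 3353, .bwd 8157],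
   .loop none [.fwd 3352, .bwd 8157],
   .loop (some (4, 1)) [.bwd 7937, .bwd 7931, .fwd 7929],
   .loop (some (7, 3)) [.bwd 8052, .bwd 1438, .fwd 7929, .fwd 8152],
   .loop none [.fwd 8162],
   .loop none [.bwd 4782, .bwd 8163],
   .loop none [.fwd 8152, .bwd 8163],
   .loop (some (20, 0)) [.bwd 4372, .bwd 4811, .bwd 4817, .fwd 4816, .fwd 4439, .fwd 4440, .fwd 4441, .bwd 8052],
   .loop (some (5, 3)) [.bwd 8166, .bwd 1438, .bwd 8158, .fwd 1501],
   .loop none [.bwd 8167],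
   .loop none [.fwd 8166, .bwd 8168],
   .loop none [.bwd 4373, .bwd 8168],
   .loop none [.fwd 4372, .bwd 8168],
   .loop none [.bwd 8122, .bwd 8168],
   .loop (some (3, 3)) [.bwd 8054, .fwd 7947, .fwd 8084, .fwd 5643],
   .loop none [.fwd 8173],
   .loop none [.bwd 5057, .fwd 8174, .bwd 5643],
   .loop none [.fwd 8175],
   .loop none [.bwd 5644, .bwd 8174],
   .loop none [.bwd 8092, .bwd 8176],
   .loop none [.fwd 8084, .bwd 8176],
   .loop (some (4, 1)) [.bwd 8177, .bwd 8054, .fwd 8052],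
   .loop (some (11, 2)) [.bwd 8052, .bwd 7948, .fwd 7982],
   .loop (some (9, 2)) [.fwd 8169, .bwd 7948, .fwd 8046],
   .loop (some (7, 3)) [.bwd 7961, .bwd 1439, .fwd 8052, .fwd 8164],
   .loop none [.fwd 8183],
   .loop none [.fwd 4788, .bwd 8184],
   .loop none [.fwd 8030, .bwd 8184],
   .loop none [.fwd 8164, .bwd 8184],
   .loop (some (5, 3)) [.bwd 8149, .bwd 1439, .bwd 8169, .fwd 1502],
   .loop none [.bwd 8188],
   .loop none [.fwd 8149, .bwd 8189],
   .loop none [.bwd 4440, .bwd 8189],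
   .loop none [.fwd 4439, .bwd 8189],
   .loop none [.bwd 8108, .bwd 8189],
   .loop (some (1, 2)) [.fwd 1448, .bwd 8190, .bwd 1510],
   .loop (some (4, 2)) [.bwd 7974, .fwd 1448, .fwd 7961, .fwd 8185],
   .loop none [.bwd 8195],
   .loop none [.fwd 7974, .bwd 8196],
   .loop none [.bwd 5580, .bwd 8196],
   .loop (some (11, 2)) [.bwd 7961, .bwd 7979, .fwd 7929],
   .loop (some (9, 2)) [.fwd 8190, .bwd 7979, .bwd 8158],
   .loop (some (17, 3)) [.fwd 4591, .bwd 7982, .bwd 7877, .bwd 7844, .bwd 7813],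
   .loop (some (4, 1)) [.bwd 7991, .bwd 7984, .fwd 7982],
   .loop (some (11, 2)) [.bwd 7982, .bwd 7994, .fwd 1442],
   .loop (some (5, 1)) [.fwd 4611, .fwd 4769, .bwd 8029],
   .loop (some (1, 2)) [.bwd 4617, .bwd 4769, .fwd 4785],
   .loop (some (6, 2)) [.bwd 4790, .bwd 8029, .bwd 4591],
   .loop (some (12, 2)) [.fwd 3432, .bwd 8060, .bwd 4441],
   .loop (some (13, 2)) [.bwd 4617, .bwd 8060, .fwd 8180],
   .loop (some (15, 0)) [.bwd 4864, .fwd 2098, .bwd 1511, .fwd 3431, .fwd 3432],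
   .loop none [.bwd 8209],
   .loop none [.fwd 4864, .bwd 8210],
   .loop (some (7, 2)) [.fwd 4611, .bwd 1505, .bwd 1504, .fwd 8119],
   .loop none [.bwd 8212],
   .loop none [.fwd 8204, .bwd 8213],
   .loop none [.fwd 7811, .bwd 8213],
   .loop (some (18, 4)) [.bwd 1445, .bwd 4600, .fwd 8098, .bwd 8192, .bwd 1510],
   .loop (some (4, 2)) [.bwd 1445, .fwd 1505, .fwd 4785],
   .loop (some (11, 2)) [.bwd 1505, .bwd 8172, .fwd 8170],
   .loop (some (15, 0)) [.bwd 2098, .bwd 2100, .bwd 8033, .fwd 4600],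
   .loop (some (7, 1)) [.bwd 4786, .fwd 8217, .fwd 1446],
   .loop (some (5, 1)) [.bwd 1508, .bwd 8047, .fwd 1446],
   .loop (some (8, 3)) [.bwd 1446, .bwd 8216, .bwd 1509],
   .loop (some (11, 2)) [.fwd 8197, .bwd 8000, .fwd 7937],
   .loop (some (17, 1)) [.fwd 7752, .bwd 7794, .bwd 7840, .bwd 3431, .bwd 8105],
   .loop (some (15, 0)) [.fwd 8033, .fwd 2100, .fwd 2098, .bwd 1511],
   .loop (some (7, 3)) [.bwd 8159, .bwd 1500, .fwd 3431, .fwd 4772],
   .loop none [.fwd 8226],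
   .loop none [.bwd 4608, .bwd 8227],
   .loop none [.fwd 4772, .bwd 8227],
   .loop none [.fwd 4775, .bwd 8227],
   .loop (some (6, 3)) [.bwd 1500, .bwd 8105, .fwd 1515],
   .loop (some (15, 0)) [.fwd 4830, .fwd 4827, .bwd 4823, .bwd 8160],
   .loop (some (7, 3)) [.bwd 8170, .bwd 1501, .fwd 8159, .fwd 8228],
   .loop none [.fwd 8233],
   .loop none [.bwd 4609, .bwd 8234],
   .loop none [.fwd 8228, .bwd 8234],
   .loop (some (6, 3)) [.bwd 1501, .bwd 8231, .fwd 1516],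
   .loop (some (10, 2)) [.fwd 8237, .bwd 8182, .bwd 7996],
   .loop (some (7, 3)) [.bwd 8191, .bwd 1502, .fwd 8170, .fwd 8235],
   .loop none [.fwd 8239],
   .loop none [.fwd 4620, .bwd 8240],
   .loop none [.fwd 8235, .bwd 8240],
   .loop (some (6, 3)) [.bwd 1502, .bwd 8237, .fwd 1517],
   .loop (some (3, 2)) [.fwd 1510, .bwd 8243, .bwd 1524],
   .loop (some (4, 2)) [.fwd 1510, .fwd 8191, .fwd 8241],
   .loop (some (11, 2)) [.bwd 8191, .bwd 8200, .fwd 8159],
   .loop (some (2, 1)) [.fwd 8107, .bwd 8120, .bwd 7996],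
   .loop (some (10, 2)) [.fwd 7996, .fwd 8121, .fwd 1512],
   .loop (some (18, 4)) [.bwd 4785, .bwd 8042, .fwd 8147, .fwd 5138, .fwd 5139]]

theorem just32_len : just32.length = 250 := by decide +kernel

theorem just32_ok : cert.okFacts 8000 just32 = true := by decide +kernel

/-- justifications -/
noncomputable def just33 : List Cert.Just :=
  [.loop (some (15, 0)) [.bwd 3333, .fwd 281, .bwd 1459, .bwd 3272, .fwd 8042],
   .loop none [.bwd 8250],
   .loop none [.fwd 3333, .bwd 8251],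
   .loop (some (9, 1)) [.fwd 8060, .bwd 4769, .bwd 8218],
   .loop (some (10, 1)) [.fwd 7812, .bwd 4774, .bwd 8218],
   .loop (some (7, 1)) [.bwd 4618, .fwd 8058, .fwd 1508],
   .loop (some (6, 1)) [.bwd 1522, .bwd 7884, .fwd 1508],
   .loop (some (10, 2)) [.bwd 7884, .bwd 8055, .fwd 5057],
   .loop (some (2, 1)) [.fwd 7998, .bwd 8222, .fwd 8256],
   .loop (some (2, 1)) [.bwd 7997, .bwd 8216, .bwd 8244],
   .loop (some (8, 1)) [.fwd 8106, .bwd 1531, .fwd 1515],
   .loop (some (14, 0)) [.fwd 1518, .fwd 8238, .bwd 1516, .bwd 1515],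
   .loop (some (7, 3)) [.bwd 1515, .fwd 8224, .fwd 1539],
   .loop (some (17, 5)) [.fwd 8237, .fwd 8170, .fwd 8254, .fwd 7799, .bwd 7800],
   .loop (some (0, 0)) [.fwd 8248, .fwd 8238],
   .loop (some (7, 3)) [.bwd 1517, .bwd 8263, .fwd 1541],
   .loop (some (4, 2)) [.fwd 1524, .bwd 8265, .bwd 1547],
   .loop (some (7, 1)) [.bwd 1545, .bwd 7845, .fwd 1522],
   .loop (some (0, 1)) [.fwd 8257, .fwd 7992],
   .loop (some (11, 2)) [.bwd 7845, .bwd 8257, .fwd 5058],
   .loop (some (17, 2)) [.bwd 7816, .fwd 7817, .bwd 8267, .bwd 8256, .fwd 8255],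
   .loop (some (17, 2)) [.fwd 7806, .bwd 7805, .fwd 8266, .fwd 8244, .bwd 8245],
   .loop (some (15, 0)) [.bwd 1633, .fwd 796, .fwd 803, .bwd 5265, .bwd 5281],
   .loop none [.bwd 8272],
   .loop none [.fwd 1633, .bwd 8273],
   .loop (some (7, 1)) [.fwd 3011, .fwd 3012, .bwd 8106],
   .loop (some (4, 2)) [.bwd 4350, .bwd 3012, .fwd 3059],
   .loop (some (15, 0)) [.bwd 1589, .bwd 1553, .bwd 8224, .fwd 1531],
   .loop (some (8, 1)) [.fwd 1588, .bwd 1553, .fwd 1539],
   .loop (some (14, 0)) [.fwd 1542, .fwd 7802, .bwd 1540, .bwd 1539],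
   .loop (some (12, 1)) [.fwd 7787, .bwd 1553, .fwd 8279],
   .loop (some (17, 2)) [.bwd 8159, .bwd 8231, .bwd 8262, .fwd 7798, .bwd 7797],
   .loop (some (8, 1)) [.fwd 1587, .bwd 8278, .fwd 1540],
   .loop (some (17, 2)) [.bwd 8191, .bwd 8243, .bwd 8265, .fwd 7804, .bwd 7803],
   .loop (some (2, 2)) [.bwd 7886, .fwd 7814, .fwd 8022],
   .loop (some (12, 2)) [.bwd 7886, .bwd 8269, .fwd 5059],
   .loop (some (13, 1)) [.bwd 7846, .fwd 1544, .bwd 8269],
   .loop (some (14, 0)) [.fwd 1587, .fwd 7771, .bwd 1585, .bwd 1584],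
   .loop (some (15, 0)) [.fwd 8276, .bwd 8247, .bwd 7818, .fwd 7808],
   .loop (some (15, 0)) [.bwd 8275, .bwd 8260, .bwd 8262, .fwd 8278],
   .loop (some (20, 2)) [.fwd 2973, .fwd 3012, .bwd 1531, .fwd 8224, .fwd 1553, .fwd 1589, .bwd 7425, .bwd 2931],
   .loop (some (7, 1)) [.fwd 5981, .bwd 1643, .bwd 1639],
   .loop (some (7, 3)) [.bwd 1634, .bwd 1494, .fwd 5976],
   .loop (some (2, 0)) [.fwd 1692, .fwd 7674, .bwd 1668],
   .loop (some (7, 3)) [.bwd 1635, .bwd 8292, .fwd 5977],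
   .loop (some (6, 3)) [.bwd 1635, .fwd 8293, .fwd 1676],
   .loop (some (14, 2)) [.bwd 1637, .bwd 1636, .bwd 1671, .fwd 1635],
   .loop (some (0, 1)) [.fwd 1671, .fwd 8296],
   .loop (some (7, 3)) [.bwd 1636, .bwd 8294, .fwd 5978],
   .loop (some (6, 3)) [.bwd 1636, .bwd 8295, .fwd 1677],
   .loop (some (7, 3)) [.bwd 1637, .bwd 8298, .fwd 5979],
   .loop (some (6, 3)) [.bwd 1637, .bwd 8299, .fwd 1678],
   .loop (some (3, 2)) [.fwd 1648, .bwd 8301, .bwd 1685],
   .loop (some (14, 2)) [.bwd 1639, .bwd 1638, .bwd 8296, .fwd 1636],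
   .loop (some (4, 2)) [.fwd 1648, .bwd 8300, .bwd 5990],
   .loop (some (11, 2)) [.fwd 8300, .bwd 8296, .bwd 8294],
   .loop (some (10, 2)) [.fwd 8301, .bwd 8296, .bwd 8295],
   .loop (some (14, 0)) [.bwd 1591, .fwd 1604, .fwd 1591, .bwd 1639],
   .loop (some (0, 0)) [.fwd 8303, .bwd 8307],
   .loop (some (11, 2)) [.bwd 8291, .fwd 8307, .fwd 1643],
   .loop (some (10, 2)) [.fwd 7779, .fwd 8307, .fwd 1670],
   .loop (some (15, 0)) [.fwd 682, .fwd 7094, .bwd 6959, .bwd 7102],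
   .loop (some (11, 0)) [.fwd 8298, .fwd 8303, .fwd 1643],
   .loop (some (7, 1)) [.bwd 5988, .fwd 7788, .fwd 1646],
   .loop (some (6, 1)) [.bwd 1683, .bwd 7754, .fwd 1646],
   .loop (some (7, 3)) [.bwd 1675, .fwd 68, .fwd 1697],
   .loop (some (7, 3)) [.bwd 1676, .bwd 8315, .fwd 1698],
   .loop (some (7, 3)) [.bwd 1677, .bwd 8316, .fwd 1699],
   .loop (some (14, 0)) [.fwd 1680, .fwd 8310, .bwd 1679, .bwd 1678],
   .loop (some (0, 0)) [.fwd 8310, .bwd 8318],
   .loop (some (7, 3)) [.bwd 1678, .bwd 8317, .fwd 1700],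
   .loop (some (4, 2)) [.fwd 1685, .bwd 8320, .bwd 1706],
   .loop (some (7, 1)) [.bwd 1704, .bwd 7739, .fwd 1683],
   .loop (some (8, 1)) [.fwd 1746, .bwd 1712, .fwd 1698],
   .loop (some (14, 0)) [.fwd 1701, .fwd 7578, .bwd 1699, .bwd 1698],
   .loop (some (12, 1)) [.fwd 7306, .bwd 1712, .fwd 8324],
   .loop (some (15, 0)) [.fwd 6619, .bwd 7175, .bwd 1747, .bwd 1712],
   .loop (some (8, 1)) [.fwd 1745, .bwd 8323, .fwd 1699],
   .loop (some (7, 4)) [.bwd 1741, .fwd 586, .fwd 7173, .bwd 6868],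
   .loop none [.fwd 8328],
   .loop none [.fwd 7295, .fwd 8329, .bwd 6867],
   .loop none [.fwd 8330],
   .loop none [.bwd 6868, .bwd 8329],
   .loop none [.fwd 6866, .bwd 8331],
   .loop (some (8, 2)) [.bwd 7175, .fwd 1748, .fwd 5199],
   .loop (some (13, 2)) [.bwd 1750, .bwd 7356, .bwd 4907],
   .loop (some (12, 2)) [.bwd 5472, .bwd 8335, .bwd 4906],
   .loop (some (10, 1)) [.fwd 7233, .bwd 7353, .bwd 8335],
   .loop (some (7, 4)) [.bwd 1801, .fwd 404, .fwd 8334, .bwd 6619],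
   .loop none [.fwd 8338],
   .loop none [.bwd 5077, .bwd 8339],
   .loop none [.bwd 6619, .bwd 8339],
   .loop none [.fwd 5076, .bwd 8339],
   .loop none [.fwd 8326, .bwd 8339],
   .loop (some (2, 2)) [.fwd 6962, .bwd 1837, .fwd 8340, .bwd 5951],
   .loop none [.fwd 8344],
   .loop none [.fwd 5950, .bwd 8345],
   .loop none [.fwd 1868, .fwd 8345, .fwd 5951],
   .loop none [.fwd 8347],
   .loop none [.bwd 6640, .bwd 8345],
   .loop none [.fwd 8340, .bwd 8348],
   .loop none [.fwd 5133, .bwd 8348],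
   .loop (some (4, 2)) [.bwd 8342, .fwd 8341, .bwd 5544],
   .loop (some (6, 3)) [.bwd 1802, .bwd 8350, .fwd 1847],
   .loop (some (14, 2)) [.bwd 1804, .bwd 1803, .bwd 1840, .fwd 1802],
   .loop (some (0, 1)) [.fwd 1840, .fwd 8354],
   .loop (some (6, 3)) [.bwd 1803, .bwd 8353, .fwd 1848],
   .loop (some (6, 3)) [.bwd 1804, .bwd 8356, .fwd 1849],
   .loop (some (3, 2)) [.fwd 1815, .bwd 8357, .bwd 1856],
   .loop (some (14, 2)) [.fwd 7356, .bwd 1806, .bwd 1805, .bwd 8354, .fwd 1803],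
   .loop none [.bwd 8359],
   .loop none [.fwd 8356, .fwd 8360, .fwd 4908],
   .loop none [.fwd 8361],
   .loop none [.bwd 6744, .bwd 8360],
   .loop none [.fwd 4907, .bwd 8360],
   .loop none [.bwd 7356, .bwd 8360],
   .loop none [.fwd 6768, .bwd 8362],
   .loop none [.bwd 6774, .bwd 8362],
   .loop none [.bwd 7355, .bwd 8362],
   .loop none [.bwd 6957, .bwd 8362],
   .loop (some (10, 2)) [.fwd 8357, .bwd 8354, .bwd 8353],
   .loop (some (14, 0)) [.bwd 1749, .fwd 1762, .fwd 1749, .bwd 1806],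
   .loop (some (0, 0)) [.fwd 8365, .bwd 8371],
   .loop (some (13, 2)) [.bwd 7352, .fwd 8371, .fwd 1750],
   .loop (some (4, 2)) [.bwd 7352, .fwd 7351, .bwd 5159],
   .loop (some (11, 2)) [.bwd 7351, .fwd 8371, .fwd 1810],
   .loop (some (10, 2)) [.bwd 7350, .fwd 8371, .fwd 1839],
   .loop (some (2, 2)) [.bwd 6917, .bwd 5355, .bwd 4927],
   .loop (some (13, 2)) [.fwd 5601, .bwd 6920, .bwd 5700],
   .loop (some (6, 1)) [.bwd 1854, .bwd 7228, .fwd 1813],
   .loop (some (3, 3)) [.bwd 6962, .fwd 8349, .fwd 6641],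
   .loop (some (20, 0)) [.fwd 5937, .bwd 7855, .bwd 961, .fwd 7851, .fwd 1017, .fwd 1110, .bwd 1886, .bwd 8351],
   .loop (some (5, 2)) [.bwd 8381, .bwd 1846, .bwd 578],
   .loop (some (0, 2)) [.fwd 1870, .fwd 8370],
   .loop (some (4, 3)) [.fwd 8351, .bwd 6637, .fwd 3298],
   .loop (some (11, 1)) [.bwd 6833, .fwd 6835, .bwd 8351, .bwd 8383],
   .loop none [.bwd 8385],
   .loop none [.bwd 8357, .fwd 8386, .bwd 4993],
   .loop none [.fwd 8387],
   .loop none [.fwd 6833, .bwd 8386],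
   .loop none [.bwd 6845, .bwd 8386],
   .loop none [.fwd 7978, .bwd 8386],
   .loop none [.bwd 6810, .bwd 8388],
   .loop none [.fwd 1815, .fwd 8388, .bwd 4992],
   .loop none [.fwd 8393],
   .loop none [.fwd 4991, .bwd 8394],
   .loop (some (7, 4)) [.bwd 1847, .fwd 8351, .fwd 1873, .fwd 6703],
   .loop none [.fwd 8396],
   .loop none [.bwd 8353, .fwd 8397, .bwd 4961],
   .loop none [.fwd 8398],
   .loop none [.fwd 6703, .bwd 8397],
   .loop none [.bwd 6709, .bwd 8397],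
   .loop none [.fwd 7939, .bwd 8397],
   .loop none [.bwd 6677, .bwd 8399],
   .loop none [.fwd 4960, .bwd 8399],
   .loop (some (8, 2)) [.bwd 8401, .fwd 1848, .fwd 8367],
   .loop (some (12, 2)) [.bwd 8401, .bwd 1870, .fwd 1868],
   .loop (some (4, 3)) [.fwd 8400, .fwd 6705, .fwd 4499],
   .loop (some (8, 2)) [.bwd 8367, .fwd 1849, .fwd 8390],
   .loop (some (18, 2)) [.bwd 4460, .bwd 4459, .bwd 8368, .fwd 8367, .fwd 6775],
   .loop (some (14, 0)) [.fwd 1851, .fwd 8376, .bwd 1850, .bwd 1849],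
   .loop (some (12, 2)) [.bwd 8390, .bwd 8370, .fwd 8401],
   .loop (some (13, 2)) [.fwd 1856, .bwd 8370, .bwd 8407],
   .loop (some (4, 3)) [.fwd 1856, .fwd 8389, .bwd 1881, .fwd 6839],
   .loop none [.fwd 8413],
   .loop none [.fwd 6839, .bwd 8414],
   .loop none [.bwd 4397, .bwd 8414],
   .loop (some (4, 3)) [.fwd 6951, .bwd 6889, .fwd 3396],
   .loop (some (7, 1)) [.bwd 1879, .bwd 7187, .fwd 1854],
   .loop (some (17, 1)) [.bwd 6843, .fwd 6844, .bwd 6838, .bwd 8415, .fwd 8358],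
   .loop (some (2, 2)) [.bwd 8416, .fwd 8358, .fwd 8395],
   .loop (some (18, 2)) [.bwd 6846, .bwd 8390, .bwd 1856, .fwd 8416, .fwd 4398],
   .loop (some (12, 2)) [.bwd 8416, .bwd 8412, .fwd 4500],
   .loop (some (18, 4)) [.bwd 8349, .bwd 1868, .bwd 8384, .fwd 3299, .fwd 3300],
   .loop (some (14, 0)) [.fwd 8408, .fwd 7354, .bwd 6961, .bwd 1869],
   .loop (some (13, 2)) [.bwd 8349, .fwd 8424, .fwd 6846],
   .loop (some (15, 0)) [.fwd 1110, .bwd 1886, .bwd 8351, .fwd 1868],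
   .loop (some (5, 3)) [.fwd 6618, .bwd 1872, .bwd 403, .fwd 6905],
   .loop none [.bwd 8427],
   .loop none [.bwd 6618, .bwd 8428],
   .loop none [.fwd 6617, .bwd 8428],
   .loop (some (13, 2)) [.fwd 6637, .bwd 6835, .bwd 1881],
   .loop (some (15, 0)) [.fwd 7851, .fwd 1017, .fwd 1110, .bwd 1886],
   .loop (some (9, 2)) [.fwd 8429, .bwd 6835, .fwd 6831],
   .loop (some (5, 2)) [.bwd 6701, .bwd 1873, .bwd 8429],
   .loop (some (13, 2)) [.bwd 6705, .bwd 1887, .bwd 6637],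
   .loop (some (9, 2)) [.bwd 6701, .bwd 1887, .bwd 8429],
   .loop (some (5, 2)) [.bwd 6766, .bwd 1874, .fwd 6701],
   .loop (some (13, 2)) [.bwd 6771, .bwd 6805, .bwd 6889],
   .loop (some (15, 0)) [.bwd 7859, .fwd 7922, .fwd 8079, .bwd 6769],
   .loop (some (5, 2)) [.bwd 6831, .bwd 1875, .fwd 6766],
   .loop (some (9, 2)) [.bwd 6831, .bwd 6877, .fwd 6701],
   .loop (some (13, 2)) [.fwd 6889, .bwd 6897, .fwd 506],
   .loop (some (15, 0)) [.fwd 7844, .fwd 7953, .bwd 5128, .bwd 5896],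
   .loop (some (15, 0)) [.bwd 7097, .bwd 618, .bwd 617, .fwd 7458],
   .loop (some (5, 3)) [.bwd 5433, .bwd 1917, .fwd 354, .fwd 5795],
   .loop none [.fwd 8445],
   .loop none [.fwd 5425, .fwd 8446, .fwd 7253],
   .loop none [.fwd 8447],
   .loop none [.bwd 5803, .bwd 8446],
   .loop none [.bwd 5796, .bwd 8446],
   .loop none [.fwd 5795, .bwd 8446],
   .loop none [.bwd 5804, .bwd 8446],
   .loop none [.bwd 5739, .bwd 8448],
   .loop none [.bwd 5707, .bwd 8448],
   .loop none [.fwd 5706, .bwd 8448],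
   .loop none [.bwd 5745, .bwd 8448],
   .loop (some (1, 1)) [.bwd 5569, .fwd 5573, .fwd 5433],
   .loop (some (9, 2)) [.bwd 5433, .bwd 5637, .fwd 5630],
   .loop (some (5, 3)) [.fwd 5508, .bwd 1918, .fwd 5433, .fwd 8450],
   .loop none [.fwd 8459],
   .loop none [.bwd 5797, .bwd 8460],
   .loop none [.fwd 8450, .bwd 8460],
   .loop none [.fwd 8452, .bwd 8460],
   .loop (some (5, 3)) [.bwd 5569, .bwd 1919, .bwd 5508, .fwd 8461],
   .loop none [.fwd 8464],
   .loop none [.bwd 5798, .bwd 8465],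
   .loop none [.fwd 8461, .bwd 8465],
   .loop (some (9, 2)) [.bwd 5569, .bwd 5603, .bwd 5673],
   .loop (some (5, 3)) [.bwd 5630, .bwd 1920, .fwd 5569, .fwd 8466],
   .loop none [.fwd 8469],
   .loop none [.fwd 5942, .bwd 8470],
   .loop none [.fwd 5944, .bwd 8470],
   .loop none [.fwd 8466, .bwd 8470],
   .loop (some (9, 2)) [.bwd 5630, .bwd 5669, .bwd 5508],
   .loop (some (9, 2)) [.fwd 5673, .bwd 5704, .fwd 1928],
   .loop (some (2, 1)) [.bwd 8430, .bwd 5935, .bwd 5113],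
   .loop (some (12, 1)) [.fwd 8433, .bwd 5935, .bwd 5952],
   .loop (some (15, 0)) [.fwd 7855, .bwd 5937, .bwd 5936, .bwd 5935],
   .loop (some (15, 0)) [.bwd 6404, .fwd 6405, .bwd 5742, .fwd 5743],
   .loop (some (21, 3)) [.bwd 8454, .fwd 8455, .fwd 3530, .fwd 7116, .fwd 7116, .fwd 7116, .bwd 3530, .bwd 3528, .fwd 7260],
   .loop none [.bwd 8480],
   .loop none [.bwd 5708, .bwd 8481],
   .loop none [.fwd 8454, .bwd 8481],
   .loop none [.fwd 8456, .bwd 8481],
   .loop (some (2, 1)) [.bwd 4445, .bwd 4817, .fwd 4381],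
   .loop (some (6, 3)) [.bwd 4381, .bwd 2087, .bwd 4808, .fwd 2109],
   .loop none [.bwd 8486],
   .loop none [.bwd 4357, .bwd 8487],
   .loop none [.fwd 4381, .bwd 8487],
   .loop none [.bwd 8485, .bwd 8487],
   .loop none [.fwd 8101, .bwd 8487],
   .loop none [.bwd 4863, .bwd 8487],
   .loop (some (15, 0)) [.bwd 8170, .fwd 8171, .bwd 4811, .bwd 4817],
   .loop (some (10, 2)) [.fwd 8489, .bwd 4421, .bwd 4804],
   .loop (some (6, 3)) [.bwd 4445, .bwd 2088, .bwd 8489, .fwd 2110],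
   .loop none [.bwd 8495],
   .loop none [.bwd 4425, .bwd 8496],
   .loop none [.fwd 4445, .bwd 8496],
   .loop none [.fwd 8490, .bwd 8496]]

theorem just33_len : just33.length = 250 := by decide +kernel

theorem just33_ok : cert.okFacts 8250 just33 = true := by decide +kernel

/-- justifications -/
noncomputable def just34 : List Cert.Just :=
  [.loop none [.bwd 8104, .bwd 8496],
   .loop (some (15, 0)) [.bwd 8191, .fwd 8192, .bwd 4816, .fwd 4817],
   .loop (some (10, 2)) [.fwd 8498, .bwd 4481, .bwd 4808],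
   .loop (some (15, 0)) [.bwd 8119, .fwd 8120, .fwd 4830, .fwd 4827],
   .loop (some (10, 2)) [.fwd 4804, .bwd 4523, .fwd 2101],
   .loop (some (7, 1)) [.fwd 2155, .bwd 2113, .bwd 2112],
   .loop (some (4, 2)) [.bwd 3096, .fwd 2113, .fwd 3086],
   .loop (some (7, 3)) [.bwd 2107, .fwd 98, .fwd 2150],
   .loop (some (1, 1)) [.bwd 8488, .fwd 8491, .bwd 5359],
   .loop (some (9, 2)) [.fwd 5359, .bwd 8500, .fwd 8497],
   .loop (some (17, 4)) [.fwd 8506, .fwd 4808, .bwd 4830, .bwd 8107, .bwd 8276],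
   .loop (some (7, 3)) [.bwd 2109, .bwd 8506, .fwd 2152],
   .loop (some (5, 3)) [.bwd 8488, .bwd 2109, .bwd 5368, .fwd 4526],
   .loop none [.fwd 8512],
   .loop none [.bwd 4527, .bwd 8513],
   .loop (some (4, 1)) [.fwd 8507, .bwd 8491, .bwd 8511],
   .loop (some (11, 2)) [.fwd 8511, .bwd 8494, .fwd 8505],
   .loop (some (7, 3)) [.bwd 2110, .bwd 8511, .fwd 2153],
   .loop (some (5, 3)) [.bwd 8497, .bwd 2110, .fwd 8488, .fwd 8514],
   .loop none [.fwd 8518],
   .loop none [.fwd 5364, .bwd 8519],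
   .loop (some (11, 2)) [.fwd 8517, .bwd 8502, .bwd 8506],
   .loop (some (17, 4)) [.bwd 8505, .fwd 4804, .bwd 4823, .bwd 4857, .fwd 8275],
   .loop (some (11, 2)) [.bwd 8505, .bwd 8504, .fwd 2113],
   .loop (some (2, 2)) [.fwd 2230, .fwd 2178, .bwd 2973],
   .loop (some (5, 1)) [.fwd 6611, .bwd 2171, .bwd 2155],
   .loop (some (1, 2)) [.bwd 3086, .fwd 2171, .fwd 7893],
   .loop (some (0, 2)) [.fwd 8523, .fwd 8516],
   .loop (some (7, 1)) [.fwd 6611, .bwd 4530, .bwd 5365],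
   .loop (some (12, 1)) [.fwd 8509, .fwd 4532, .bwd 5421],
   .loop (some (4, 2)) [.bwd 3259, .fwd 4530, .fwd 7893],
   .loop (some (2, 0)) [.fwd 3024, .bwd 2233, .bwd 2173],
   .loop (some (5, 3)) [.bwd 2150, .bwd 3173, .fwd 6606],
   .loop (some (8, 1)) [.fwd 2212, .bwd 2173, .fwd 2151],
   .loop (some (14, 0)) [.fwd 2154, .fwd 8516, .bwd 2152, .bwd 2151],
   .loop (some (8, 1)) [.fwd 2211, .bwd 8533, .fwd 2152],
   .loop (some (12, 2)) [.bwd 8533, .bwd 2203, .fwd 2173],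
   .loop (some (5, 3)) [.bwd 2152, .bwd 8526, .fwd 6608],
   .loop (some (8, 1)) [.fwd 2210, .bwd 8535, .fwd 2153],
   .loop (some (1, 1)) [.fwd 8532, .bwd 8515, .bwd 8537],
   .loop (some (18, 2)) [.bwd 2291, .bwd 2173, .bwd 8515, .fwd 8535, .bwd 2225],
   .loop (some (6, 3)) [.bwd 2152, .bwd 8510, .fwd 3008],
   .loop (some (3, 1)) [.bwd 8531, .bwd 8515, .bwd 8541],
   .loop (some (9, 2)) [.fwd 8537, .bwd 8516, .fwd 8525],
   .loop (some (10, 2)) [.fwd 8541, .bwd 8516, .bwd 8522],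
   .loop (some (5, 3)) [.bwd 2153, .bwd 8537, .fwd 6609],
   .loop (some (8, 1)) [.fwd 2209, .bwd 8538, .fwd 2154],
   .loop (some (6, 3)) [.bwd 2153, .bwd 8541, .fwd 3009],
   .loop (some (12, 2)) [.bwd 8538, .bwd 8521, .fwd 8533],
   .loop (some (10, 2)) [.fwd 8547, .bwd 8521, .bwd 8510],
   .loop (some (9, 2)) [.bwd 8525, .bwd 8523, .fwd 2171],
   .loop (some (10, 2)) [.fwd 8522, .bwd 8523, .fwd 2178],
   .loop (some (2, 2)) [.bwd 5390, .bwd 3582, .bwd 3604],
   .loop (some (6, 1)) [.fwd 3556, .fwd 3582, .bwd 6611],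
   .loop (some (3, 2)) [.bwd 7893, .bwd 3582, .fwd 6604],
   .loop (some (0, 2)) [.fwd 8550, .fwd 8543],
   .loop (some (11, 1)) [.fwd 5421, .fwd 4530, .bwd 8555],
   .loop (some (7, 1)) [.fwd 4342, .bwd 2219, .bwd 2212],
   .loop (some (1, 2)) [.bwd 2291, .fwd 2228, .fwd 3670],
   .loop (some (6, 1)) [.fwd 2963, .bwd 2233, .bwd 2212],
   .loop (some (3, 2)) [.bwd 2291, .fwd 2233, .fwd 2323],
   .loop (some (15, 0)) [.bwd 2113, .bwd 2124, .bwd 8507, .fwd 2173],
   .loop (some (0, 2)) [.fwd 8551, .fwd 8544],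
   .loop (some (15, 0)) [.bwd 7424, .bwd 2931, .fwd 8290, .fwd 2973],
   .loop (some (7, 3)) [.bwd 2207, .bwd 2146, .fwd 4337],
   .loop (some (5, 3)) [.bwd 2207, .bwd 4039, .fwd 8126],
   .loop (some (1, 2)) [.bwd 4832, .bwd 8565, .fwd 5391],
   .loop (some (3, 1)) [.bwd 4833, .bwd 4832, .bwd 8524],
   .loop (some (14, 0)) [.fwd 2211, .fwd 8548, .bwd 2209, .bwd 2208],
   .loop (some (0, 1)) [.bwd 8568, .fwd 2241],
   .loop (some (13, 2)) [.bwd 4832, .fwd 8568, .bwd 2225],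
   .loop (some (15, 0)) [.fwd 8507, .fwd 2124, .fwd 2113, .bwd 2230],
   .loop (some (7, 3)) [.bwd 2208, .bwd 8564, .fwd 4338],
   .loop (some (6, 3)) [.bwd 2208, .bwd 8524, .fwd 2959],
   .loop (some (7, 3)) [.bwd 2209, .bwd 8572, .fwd 4339],
   .loop (some (6, 3)) [.bwd 2209, .bwd 8573, .fwd 2960],
   .loop (some (11, 2)) [.fwd 8574, .bwd 8548, .fwd 8557],
   .loop (some (10, 2)) [.fwd 8575, .bwd 8548, .fwd 8559],
   .loop (some (7, 3)) [.bwd 2210, .bwd 8574, .fwd 4340],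
   .loop (some (6, 3)) [.bwd 2210, .bwd 8575, .fwd 2961],
   .loop (some (3, 2)) [.fwd 2225, .bwd 8579, .bwd 2967],
   .loop (some (4, 2)) [.fwd 2225, .bwd 8578, .bwd 4346],
   .loop (some (2, 1)) [.fwd 8510, .fwd 8533, .fwd 8559],
   .loop (some (11, 2)) [.bwd 8557, .bwd 8536, .fwd 2219],
   .loop (some (10, 2)) [.bwd 8559, .bwd 8536, .fwd 2233],
   .loop (some (6, 1)) [.fwd 4328, .fwd 4334, .bwd 4342],
   .loop (some (0, 2)) [.fwd 8583, .fwd 8576],
   .loop (some (5, 1)) [.fwd 3667, .bwd 2302, .bwd 2281],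
   .loop (some (6, 1)) [.fwd 2320, .bwd 2306, .bwd 2281],
   .loop (some (3, 2)) [.bwd 2222, .fwd 2306, .fwd 2964],
   .loop (some (4, 2)) [.bwd 2222, .fwd 2289, .fwd 4343],
   .loop (some (7, 1)) [.bwd 4344, .fwd 8590, .fwd 2223],
   .loop (some (6, 1)) [.bwd 2965, .fwd 8589, .fwd 2223],
   .loop (some (2, 1)) [.fwd 8560, .bwd 8540, .bwd 8580],
   .loop (some (8, 1)) [.bwd 2292, .bwd 8540, .bwd 2224],
   .loop (some (2, 2)) [.fwd 6612, .bwd 3607, .bwd 3575],
   .loop (some (3, 2)) [.bwd 3670, .bwd 3607, .fwd 3637],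
   .loop (some (7, 1)) [.fwd 2911, .fwd 2912, .bwd 2963],
   .loop (some (18, 2)) [.bwd 2967, .fwd 8593, .bwd 2323, .bwd 3024, .bwd 8542],
   .loop (some (0, 2)) [.fwd 8584, .fwd 8577],
   .loop (some (4, 2)) [.bwd 2323, .bwd 2912, .fwd 2367],
   .loop (some (2, 0)) [.fwd 2335, .bwd 7416, .bwd 2304],
   .loop (some (5, 3)) [.bwd 2276, .bwd 3617, .fwd 3662],
   .loop (some (5, 3)) [.bwd 2277, .bwd 8602, .fwd 3663],
   .loop (some (6, 3)) [.bwd 2277, .fwd 8601, .fwd 2316],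
   .loop (some (14, 2)) [.bwd 2279, .bwd 2278, .bwd 2308, .fwd 2277],
   .loop (some (5, 3)) [.bwd 2278, .bwd 8603, .fwd 3664],
   .loop (some (6, 3)) [.bwd 2278, .bwd 8604, .fwd 2317],
   .loop (some (5, 3)) [.bwd 2279, .bwd 8606, .fwd 3665],
   .loop (some (1, 2)) [.fwd 2294, .bwd 8608, .bwd 3673],
   .loop (some (6, 3)) [.bwd 2279, .bwd 8607, .fwd 2318],
   .loop (some (3, 2)) [.fwd 2294, .bwd 8610, .bwd 2326],
   .loop (some (14, 2)) [.bwd 2281, .bwd 2280, .bwd 8605, .fwd 2278],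
   .loop (some (9, 2)) [.fwd 8608, .bwd 8605, .bwd 8603],
   .loop (some (10, 2)) [.fwd 8610, .bwd 8605, .bwd 8604],
   .loop (some (14, 0)) [.bwd 2221, .fwd 2242, .fwd 2221, .bwd 2281],
   .loop (some (0, 0)) [.fwd 8612, .bwd 8615],
   .loop (some (9, 2)) [.bwd 8587, .fwd 8615, .fwd 2302],
   .loop (some (10, 2)) [.bwd 8588, .fwd 8615, .fwd 2306],
   .loop (some (2, 2)) [.fwd 3827, .bwd 4322, .fwd 4009],
   .loop (some (5, 1)) [.bwd 3671, .fwd 8558, .fwd 2292],
   .loop (some (6, 1)) [.bwd 2324, .fwd 8560, .fwd 2292],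
   .loop (some (2, 1)) [.bwd 8592, .fwd 8594, .fwd 8621],
   .loop (some (8, 3)) [.bwd 2293, .bwd 8594, .bwd 2223],
   .loop (some (7, 1)) [.fwd 3712, .bwd 3668, .bwd 3667],
   .loop (some (6, 1)) [.fwd 3631, .fwd 3654, .bwd 3667],
   .loop (some (7, 1)) [.fwd 2360, .bwd 2321, .bwd 2320],
   .loop (some (4, 2)) [.bwd 2964, .fwd 2321, .fwd 2913],
   .loop (some (7, 3)) [.bwd 2315, .fwd 102, .fwd 2355],
   .loop (some (0, 2)) [.fwd 2350, .fwd 8614],
   .loop (some (7, 3)) [.bwd 2316, .bwd 8628, .fwd 2356],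
   .loop (some (7, 3)) [.bwd 2317, .bwd 8630, .fwd 2357],
   .loop (some (14, 0)) [.fwd 2320, .fwd 8618, .bwd 2319, .bwd 2318],
   .loop (some (11, 2)) [.fwd 8631, .fwd 8632, .fwd 8626],
   .loop (some (7, 3)) [.bwd 2318, .bwd 8631, .fwd 2358],
   .loop (some (4, 2)) [.fwd 2326, .bwd 8634, .bwd 2370],
   .loop (some (11, 2)) [.fwd 8634, .bwd 8614, .bwd 8630],
   .loop (some (11, 2)) [.bwd 8626, .bwd 8618, .fwd 2321],
   .loop (some (16, 3)) [.fwd 4129, .bwd 2383, .fwd 2376, .bwd 7277, .fwd 7276],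
   .loop (some (2, 2)) [.fwd 2451, .fwd 2383, .bwd 2776],
   .loop (some (6, 1)) [.fwd 2808, .bwd 2383, .bwd 2360],
   .loop (some (3, 2)) [.bwd 2913, .fwd 2383, .fwd 2873],
   .loop (some (7, 1)) [.bwd 2368, .fwd 8600, .fwd 2324],
   .loop (some (2, 3)) [.fwd 8611, .bwd 8623, .bwd 8589],
   .loop (some (15, 0)) [.fwd 6354, .fwd 5275, .bwd 6504, .fwd 6505],
   .loop (some (2, 2)) [.fwd 7282, .bwd 6432, .bwd 6462],
   .loop (some (2, 0)) [.fwd 2820, .bwd 2454, .bwd 2378],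
   .loop (some (8, 1)) [.fwd 2432, .bwd 2378, .fwd 2356],
   .loop (some (14, 0)) [.fwd 2359, .fwd 8633, .bwd 2357, .bwd 2356],
   .loop (some (8, 1)) [.fwd 2431, .bwd 8647, .fwd 2357],
   .loop (some (6, 3)) [.bwd 2356, .fwd 8646, .fwd 2804],
   .loop (some (12, 2)) [.bwd 8647, .bwd 2394, .fwd 2378],
   .loop (some (8, 1)) [.fwd 2430, .bwd 8649, .fwd 2358],
   .loop (some (6, 3)) [.bwd 2357, .bwd 8650, .fwd 2805],
   .loop (some (10, 2)) [.fwd 8653, .bwd 8633, .fwd 8640],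
   .loop (some (8, 1)) [.fwd 2429, .bwd 8652, .fwd 2359],
   .loop (some (6, 3)) [.bwd 2358, .bwd 8653, .fwd 2806],
   .loop (some (3, 2)) [.fwd 2370, .bwd 8656, .bwd 2815],
   .loop (some (12, 2)) [.bwd 8652, .bwd 8636, .fwd 8647],
   .loop (some (10, 2)) [.bwd 8640, .bwd 8637, .fwd 2383],
   .loop (some (16, 3)) [.fwd 4140, .fwd 2900, .fwd 2929, .bwd 7275, .fwd 7274],
   .loop (some (6, 1)) [.fwd 2867, .fwd 2900, .bwd 2911],
   .loop (some (3, 2)) [.bwd 2367, .bwd 2900, .fwd 2812],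
   .loop (some (6, 1)) [.bwd 2813, .fwd 8662, .fwd 2368],
   .loop (some (2, 2)) [.fwd 6175, .bwd 7277, .bwd 6268],
   .loop (some (5, 1)) [.fwd 6166, .bwd 2449, .bwd 2432],
   .loop (some (1, 2)) [.bwd 2506, .fwd 2449, .fwd 6123],
   .loop (some (6, 1)) [.fwd 2766, .bwd 2454, .bwd 2432],
   .loop (some (3, 2)) [.bwd 2506, .fwd 2454, .fwd 2538],
   .loop (some (12, 0)) [.bwd 8652, .bwd 8648, .fwd 2378],
   .loop (some (7, 1)) [.fwd 4188, .fwd 4008, .bwd 2808],
   .loop (some (0, 2)) [.fwd 8659, .fwd 8654],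
   .loop (some (4, 2)) [.bwd 2873, .bwd 4008, .fwd 4329],
   .loop (some (5, 3)) [.bwd 2427, .fwd 6117, .fwd 6161],
   .loop (some (14, 0)) [.fwd 2431, .fwd 8658, .bwd 2429, .bwd 2428],
   .loop (some (0, 1)) [.bwd 8674, .fwd 2457],
   .loop (some (5, 3)) [.bwd 2428, .bwd 8673, .fwd 6162],
   .loop (some (6, 3)) [.bwd 2428, .bwd 8639, .fwd 2762],
   .loop (some (5, 3)) [.bwd 2429, .bwd 8676, .fwd 6163],
   .loop (some (6, 3)) [.bwd 2429, .bwd 8677, .fwd 2763],
   .loop (some (9, 2)) [.fwd 8678, .bwd 8658, .fwd 8665],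
   .loop (some (10, 2)) [.fwd 8679, .bwd 8658, .fwd 8667],
   .loop (some (5, 3)) [.bwd 2430, .bwd 8678, .fwd 6164],
   .loop (some (1, 2)) [.fwd 2446, .bwd 8682, .bwd 6173],
   .loop (some (6, 3)) [.bwd 2430, .bwd 8679, .fwd 2764],
   .loop (some (3, 2)) [.fwd 2446, .bwd 8684, .bwd 2770],
   .loop (some (2, 1)) [.fwd 8650, .fwd 8647, .fwd 8667],
   .loop (some (9, 2)) [.bwd 8665, .bwd 8651, .fwd 2449],
   .loop (some (10, 2)) [.bwd 8667, .bwd 8651, .fwd 2454],
   .loop (some (20, 2)) [.fwd 6392, .fwd 6449, .bwd 2335, .bwd 8628, .fwd 2378, .fwd 2440, .bwd 7276, .bwd 6268],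
   .loop (some (5, 1)) [.bwd 6114, .bwd 2518, .bwd 2496],
   .loop (some (1, 2)) [.bwd 2443, .fwd 2518, .fwd 6170],
   .loop (some (6, 1)) [.fwd 2535, .bwd 2522, .bwd 2496],
   .loop (some (3, 2)) [.bwd 2443, .fwd 2522, .fwd 2767],
   .loop (some (5, 1)) [.bwd 6171, .fwd 8691, .fwd 2444],
   .loop (some (6, 1)) [.fwd 6186, .bwd 6176, .bwd 6166],
   .loop (some (0, 2)) [.fwd 8687, .fwd 8680],
   .loop (some (7, 1)) [.fwd 2745, .fwd 2746, .bwd 2766],
   .loop (some (0, 2)) [.fwd 8688, .fwd 8681],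
   .loop (some (4, 2)) [.bwd 2538, .bwd 2746, .fwd 2597],
   .loop (some (17, 4)) [.fwd 4203, .fwd 2730, .fwd 2726, .fwd 4209, .bwd 7564, .fwd 7657],
   .loop none [.fwd 8700],
   .loop none [.bwd 2468, .fwd 8701, .bwd 7657],
   .loop none [.fwd 8702],
   .loop none [.bwd 2653, .bwd 8701],
   .loop none [.bwd 7564, .bwd 8703],
   .loop (some (7, 1)) [.bwd 4202, .fwd 2730, .bwd 2758],
   .loop (some (6, 1)) [.fwd 2734, .bwd 2726, .bwd 2758],
   .loop (some (7, 1)) [.fwd 3914, .bwd 4209, .bwd 2734],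
   .loop (some (15, 0)) [.bwd 6511, .fwd 6512, .bwd 4121, .fwd 2612],
   .loop (some (2, 2)) [.fwd 8705, .bwd 2465, .bwd 4203, .fwd 8704],
   .loop none [.fwd 8710],
   .loop none [.bwd 2469, .fwd 8711, .bwd 8704],
   .loop none [.bwd 8712],
   .loop none [.fwd 2469, .bwd 8713],
   .loop (some (15, 0)) [.bwd 4121, .fwd 2612, .fwd 4209, .bwd 2465],
   .loop (some (2, 0)) [.fwd 2550, .bwd 7431, .bwd 2520],
   .loop (some (5, 3)) [.bwd 2491, .fwd 6097, .fwd 6010],
   .loop (some (5, 3)) [.bwd 2492, .bwd 8717, .fwd 6011],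
   .loop (some (6, 3)) [.bwd 2492, .fwd 8716, .fwd 2531],
   .loop (some (14, 2)) [.bwd 2494, .bwd 2493, .bwd 2524, .fwd 2492],
   .loop (some (0, 1)) [.fwd 2524, .fwd 8720],
   .loop (some (5, 3)) [.bwd 2493, .bwd 8718, .fwd 6012],
   .loop (some (6, 3)) [.bwd 2493, .bwd 8719, .fwd 2532],
   .loop (some (5, 3)) [.bwd 2494, .bwd 8722, .fwd 6013],
   .loop (some (1, 2)) [.fwd 2509, .bwd 8724, .bwd 6032],
   .loop (some (6, 3)) [.bwd 2494, .bwd 8723, .fwd 2533],
   .loop (some (3, 2)) [.fwd 2509, .bwd 8726, .bwd 2541],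
   .loop (some (14, 2)) [.bwd 2496, .bwd 2495, .bwd 8720, .fwd 2493],
   .loop (some (9, 2)) [.fwd 8724, .bwd 8720, .bwd 8718],
   .loop (some (10, 2)) [.fwd 8726, .bwd 8720, .bwd 8719],
   .loop (some (14, 0)) [.bwd 2442, .fwd 2458, .fwd 2442, .bwd 2496],
   .loop (some (0, 0)) [.fwd 8728, .bwd 8731],
   .loop (some (9, 2)) [.bwd 8690, .fwd 8731, .fwd 2518],
   .loop (some (10, 2)) [.bwd 8692, .fwd 8731, .fwd 2522],
   .loop (some (5, 1)) [.bwd 6030, .fwd 8666, .fwd 2507],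
   .loop (some (6, 1)) [.bwd 2539, .fwd 8668, .fwd 2507],
   .loop (some (3, 2)) [.bwd 6170, .fwd 6110, .fwd 6189],
   .loop (some (9, 0)) [.fwd 8722, .fwd 8728, .fwd 2518],
   .loop (some (7, 1)) [.fwd 2590, .bwd 2536, .bwd 2535],
   .loop (some (10, 0)) [.fwd 8723, .fwd 8728, .fwd 2522],
   .loop (some (7, 3)) [.bwd 2530, .fwd 106, .fwd 2585],
   .loop (some (0, 2)) [.fwd 2555, .fwd 8730],
   .loop (some (7, 3)) [.bwd 2531, .bwd 8741, .fwd 2586],
   .loop (some (7, 3)) [.bwd 2532, .bwd 8743, .fwd 2587],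
   .loop (some (14, 0)) [.fwd 2535, .fwd 8734, .bwd 2534, .bwd 2533],
   .loop (some (11, 2)) [.fwd 8744, .fwd 8745, .fwd 8739],
   .loop (some (7, 3)) [.bwd 2533, .bwd 8744, .fwd 2588],
   .loop (some (4, 2)) [.fwd 2541, .bwd 8747, .bwd 2600],
   .loop (some (11, 2)) [.fwd 8747, .bwd 8730, .bwd 8743]]

theorem just34_len : just34.length = 250 := by decide +kernel

theorem just34_ok : cert.okFacts 8500 just34 = true := by decide +kernel

/-- justifications -/
noncomputable def just35 : List Cert.Just :=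
  [.loop (some (11, 2)) [.bwd 8739, .bwd 8734, .fwd 2536],
   .loop (some (2, 2)) [.fwd 2674, .bwd 2627, .bwd 2608],
   .loop (some (6, 1)) [.fwd 2662, .fwd 2627, .bwd 2590],
   .loop (some (3, 2)) [.bwd 2747, .bwd 2627, .fwd 2713],
   .loop (some (0, 2)) [.fwd 8750, .fwd 8746],
   .loop (some (8, 1)) [.fwd 2662, .bwd 2608, .fwd 2586],
   .loop (some (14, 0)) [.fwd 2589, .fwd 8746, .bwd 2587, .bwd 2586],
   .loop (some (8, 1)) [.fwd 2661, .bwd 8755, .fwd 2587],
   .loop (some (6, 3)) [.bwd 2586, .fwd 8751, .fwd 2658],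
   .loop (some (12, 2)) [.bwd 8755, .bwd 2628, .fwd 2608],
   .loop (some (8, 1)) [.fwd 2660, .bwd 8757, .fwd 2588],
   .loop (some (6, 3)) [.bwd 2587, .bwd 8758, .fwd 2659],
   .loop (some (10, 2)) [.fwd 8761, .bwd 8746, .fwd 8752],
   .loop (some (2, 0)) [.bwd 8757, .bwd 8761, .bwd 8760],
   .loop (some (8, 1)) [.fwd 2659, .bwd 8760, .fwd 2589],
   .loop (some (3, 2)) [.fwd 2600, .fwd 8763, .bwd 2669],
   .loop (some (6, 1)) [.fwd 2710, .fwd 2735, .bwd 2745],
   .loop (some (3, 2)) [.bwd 2597, .bwd 2735, .fwd 2666],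
   .loop (some (6, 1)) [.bwd 2667, .fwd 8767, .fwd 2598],
   .loop (some (2, 2)) [.fwd 4333, .fwd 8141, .bwd 4348],
   .loop (some (5, 1)) [.fwd 4328, .bwd 2672, .bwd 2662],
   .loop (some (5, 3)) [.bwd 2657, .bwd 4003, .fwd 4323],
   .loop (some (14, 0)) [.fwd 2661, .fwd 8762, .bwd 2659, .bwd 2658],
   .loop (some (5, 3)) [.bwd 2658, .bwd 8771, .fwd 4324],
   .loop (some (5, 3)) [.bwd 2659, .bwd 8773, .fwd 4325],
   .loop (some (9, 2)) [.fwd 8774, .bwd 8762, .fwd 8770],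
   .loop (some (5, 3)) [.bwd 2660, .bwd 8774, .fwd 4326],
   .loop (some (1, 2)) [.fwd 2669, .bwd 8776, .bwd 4332],
   .loop (some (9, 2)) [.bwd 8770, .bwd 8759, .fwd 2672],
   .loop (some (1, 2)) [.bwd 2666, .fwd 2731, .fwd 4329],
   .loop (some (5, 1)) [.bwd 4330, .fwd 8779, .fwd 2667],
   .loop (some (7, 1)) [.fwd 2867, .bwd 4028, .bwd 4328],
   .loop (some (0, 2)) [.fwd 8778, .fwd 8775],
   .loop (some (4, 2)) [.bwd 4189, .fwd 4028, .fwd 2812],
   .loop (some (10, 1)) [.fwd 8586, .bwd 4334, .bwd 8782],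
   .loop (some (2, 0)) [.fwd 2757, .fwd 8707, .bwd 2733],
   .loop (some (5, 3)) [.bwd 2705, .bwd 3979, .fwd 4183],
   .loop (some (5, 3)) [.bwd 2706, .bwd 8786, .fwd 4184],
   .loop (some (6, 3)) [.bwd 2706, .fwd 8785, .fwd 2741],
   .loop (some (14, 2)) [.bwd 2708, .bwd 2707, .bwd 2736, .fwd 2706],
   .loop (some (0, 1)) [.fwd 2736, .fwd 8789],
   .loop (some (5, 3)) [.bwd 2707, .bwd 8787, .fwd 4185],
   .loop (some (6, 3)) [.bwd 2707, .bwd 8788, .fwd 2742],
   .loop (some (5, 3)) [.bwd 2708, .bwd 8791, .fwd 4186],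
   .loop (some (6, 3)) [.bwd 2708, .bwd 8792, .fwd 2743],
   .loop (some (3, 2)) [.fwd 2716, .bwd 8794, .bwd 2750],
   .loop (some (14, 2)) [.bwd 2710, .bwd 2709, .bwd 8789, .fwd 2707],
   .loop (some (9, 2)) [.fwd 8793, .bwd 8789, .bwd 8787],
   .loop (some (14, 0)) [.bwd 2665, .fwd 2677, .fwd 2665, .bwd 2710],
   .loop (some (10, 2)) [.fwd 8766, .fwd 8798, .fwd 2735],
   .loop (some (6, 1)) [.bwd 2748, .bwd 8753, .fwd 2714],
   .loop (some (9, 0)) [.fwd 8791, .fwd 8796, .fwd 2731],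
   .loop (some (7, 3)) [.bwd 2740, .fwd 110, .fwd 2761],
   .loop (some (7, 3)) [.bwd 2741, .bwd 8802, .fwd 2762],
   .loop (some (7, 3)) [.bwd 2742, .bwd 8803, .fwd 2763],
   .loop (some (14, 0)) [.fwd 2745, .fwd 8799, .bwd 2744, .bwd 2743],
   .loop (some (0, 0)) [.fwd 8799, .bwd 8805],
   .loop (some (7, 3)) [.bwd 2743, .bwd 8804, .fwd 2764],
   .loop (some (4, 2)) [.fwd 2750, .bwd 8807, .bwd 2770],
   .loop (some (8, 1)) [.fwd 2808, .bwd 2776, .fwd 2762],
   .loop (some (14, 0)) [.fwd 2765, .fwd 8681, .bwd 2763, .bwd 2762],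
   .loop (some (12, 1)) [.fwd 8671, .bwd 2776, .fwd 8810],
   .loop (some (8, 1)) [.fwd 2807, .bwd 8809, .fwd 2763],
   .loop (some (7, 3)) [.bwd 2803, .bwd 2827, .fwd 4183],
   .loop (some (14, 0)) [.fwd 2807, .fwd 8654, .bwd 2805, .bwd 2804],
   .loop (some (7, 3)) [.bwd 2804, .bwd 8813, .fwd 4184],
   .loop (some (7, 3)) [.bwd 2805, .bwd 8815, .fwd 4185],
   .loop (some (7, 3)) [.bwd 2806, .bwd 8816, .fwd 4186],
   .loop (some (4, 2)) [.fwd 2815, .bwd 8817, .bwd 4192],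
   .loop (some (7, 3)) [.bwd 2862, .fwd 2218, .fwd 4323],
   .loop (some (2, 0)) [.fwd 2931, .fwd 7426, .bwd 2898],
   .loop (some (7, 3)) [.bwd 2863, .bwd 8819, .fwd 4324],
   .loop (some (6, 3)) [.bwd 2863, .fwd 8820, .fwd 2907],
   .loop (some (14, 2)) [.bwd 2865, .bwd 2864, .bwd 2901, .fwd 2863],
   .loop (some (0, 1)) [.fwd 2901, .fwd 8823],
   .loop (some (7, 3)) [.bwd 2864, .bwd 8821, .fwd 4325],
   .loop (some (6, 3)) [.bwd 2864, .bwd 8822, .fwd 2908],
   .loop (some (11, 0)) [.bwd 8781, .fwd 8775, .fwd 8825],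
   .loop (some (10, 2)) [.fwd 8826, .fwd 8827, .bwd 8661],
   .loop (some (7, 3)) [.bwd 2865, .bwd 8825, .fwd 4326],
   .loop (some (6, 3)) [.bwd 2865, .bwd 8826, .fwd 2909],
   .loop (some (3, 2)) [.fwd 2876, .bwd 8830, .bwd 2916],
   .loop (some (14, 2)) [.bwd 2867, .bwd 2866, .bwd 8823, .fwd 2864],
   .loop (some (4, 2)) [.fwd 2876, .bwd 8829, .bwd 4332],
   .loop (some (10, 2)) [.fwd 8830, .bwd 8823, .bwd 8822],
   .loop (some (14, 0)) [.bwd 2811, .fwd 2823, .fwd 2811, .bwd 2867],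
   .loop (some (10, 2)) [.fwd 8661, .fwd 8835, .fwd 2900],
   .loop (some (7, 1)) [.bwd 4330, .fwd 8672, .fwd 2874],
   .loop (some (6, 1)) [.bwd 2914, .bwd 8641, .fwd 2874],
   .loop (some (14, 0)) [.fwd 2910, .fwd 8828, .bwd 2908, .bwd 2907],
   .loop (some (4, 3)) [.fwd 8290, .fwd 8567, .fwd 4834],
   .loop (some (7, 3)) [.bwd 2907, .fwd 8290, .fwd 2959],
   .loop (some (17, 5)) [.fwd 8826, .bwd 8825, .fwd 8784, .fwd 8574, .bwd 8575],
   .loop (some (0, 0)) [.fwd 8836, .fwd 8828],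
   .loop (some (7, 3)) [.bwd 2909, .bwd 8842, .fwd 2961],
   .loop (some (4, 2)) [.fwd 2916, .bwd 8844, .bwd 2967],
   .loop (some (7, 1)) [.bwd 2965, .bwd 8627, .fwd 2914],
   .loop (some (17, 2)) [.bwd 8591, .fwd 8592, .bwd 8846, .bwd 8838, .fwd 8837],
   .loop (some (17, 2)) [.fwd 8581, .bwd 8580, .fwd 8845, .fwd 8831, .bwd 8833],
   .loop (some (8, 1)) [.fwd 3011, .bwd 2973, .fwd 2959],
   .loop (some (14, 0)) [.fwd 2962, .fwd 8577, .bwd 2960, .bwd 2959],
   .loop (some (13, 2)) [.bwd 8567, .fwd 8850, .bwd 2967],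
   .loop (some (15, 0)) [.bwd 8224, .fwd 1531, .bwd 3012, .bwd 2973],
   .loop (some (17, 2)) [.fwd 8821, .bwd 8822, .bwd 8841, .fwd 8573, .bwd 8572],
   .loop (some (8, 1)) [.fwd 3010, .bwd 8849, .fwd 2960],
   .loop (some (15, 0)) [.fwd 8262, .fwd 8260, .fwd 8275, .bwd 8849],
   .loop (some (17, 2)) [.fwd 8829, .bwd 8830, .bwd 8844, .fwd 8579, .bwd 8578],
   .loop (some (15, 0)) [.fwd 7818, .fwd 8247, .bwd 8276, .bwd 8582],
   .loop (some (17, 5)) [.bwd 8531, .fwd 8507, .fwd 4799, .bwd 8033, .fwd 7995],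
   .loop (some (14, 0)) [.fwd 3010, .fwd 8544, .bwd 3008, .bwd 3007],
   .loop (some (4, 0)) [.fwd 4856, .fwd 8275, .fwd 3055],
   .loop (some (11, 2)) [.bwd 8860, .bwd 8549, .fwd 8276],
   .loop (some (7, 2)) [.fwd 8275, .bwd 3010, .fwd 8860],
   .loop (some (7, 1)) [.fwd 6607, .fwd 8530, .fwd 3260],
   .loop (some (17, 3)) [.fwd 8595, .bwd 8863, .fwd 5360, .bwd 5441, .bwd 6928],
   .loop (some (20, 0)) [.fwd 3432, .bwd 1442, .bwd 1434, .fwd 3344, .fwd 292, .fwd 281, .bwd 1459, .bwd 3272],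
   .loop (some (13, 2)) [.bwd 8147, .bwd 8148, .fwd 8185],
   .loop (some (15, 0)) [.bwd 8033, .fwd 4600, .fwd 1505, .bwd 8042],
   .loop (some (14, 2)) [.fwd 6818, .fwd 6819, .bwd 6638, .bwd 411],
   .loop (some (11, 2)) [.bwd 6635, .bwd 6638, .bwd 6844],
   .loop (some (11, 2)) [.bwd 3298, .bwd 8431, .bwd 8415],
   .loop (some (3, 0)) [.bwd 8342, .bwd 8350, .bwd 8384],
   .loop (some (12, 2)) [.bwd 3299, .bwd 8870, .fwd 8416],
   .loop (some (0, 0)) [.fwd 8412, .fwd 8870],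
   .loop (some (2, 0)) [.fwd 5075, .bwd 8871, .fwd 3299],
   .loop (some (3, 1)) [.bwd 3301, .bwd 3300, .fwd 8874],
   .loop (some (13, 2)) [.bwd 3300, .bwd 8872, .fwd 4398],
   .loop (some (10, 2)) [.bwd 8874, .bwd 8872, .bwd 8420],
   .loop (some (2, 1)) [.bwd 6641, .bwd 8423, .fwd 3301],
   .loop (some (10, 2)) [.bwd 3301, .bwd 8876, .fwd 4399],
   .loop (some (13, 1)) [.fwd 8877, .fwd 8875, .bwd 8879],
   .loop (some (4, 1)) [.fwd 5074, .fwd 8875, .fwd 3302],
   .loop (some (11, 2)) [.bwd 3302, .bwd 8879, .fwd 4400],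
   .loop (some (3, 0)) [.fwd 5072, .fwd 5073, .bwd 8881],
   .loop (some (12, 2)) [.bwd 3303, .bwd 8882, .fwd 4401],
   .loop (some (2, 0)) [.fwd 5071, .bwd 8883, .fwd 3303],
   .loop (some (3, 1)) [.bwd 3305, .bwd 3304, .fwd 8885],
   .loop (some (13, 2)) [.bwd 3304, .bwd 8884, .fwd 4402],
   .loop (some (15, 0)) [.bwd 6642, .bwd 8878, .fwd 3302, .fwd 3303],
   .loop (some (10, 2)) [.bwd 3305, .bwd 8887, .fwd 4403],
   .loop (some (4, 1)) [.fwd 5070, .fwd 8886, .fwd 3306],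
   .loop (some (11, 2)) [.bwd 3306, .bwd 8889, .fwd 4404],
   .loop (some (3, 0)) [.fwd 5068, .fwd 5069, .bwd 8890],
   .loop (some (12, 2)) [.bwd 3307, .bwd 8891, .fwd 4405],
   .loop (some (2, 0)) [.fwd 5067, .bwd 8892, .fwd 3307],
   .loop (some (3, 1)) [.bwd 3309, .bwd 3308, .fwd 8894],
   .loop (some (13, 2)) [.bwd 3308, .bwd 8893, .fwd 4406],
   .loop (some (10, 2)) [.bwd 3309, .bwd 8896, .fwd 4407],
   .loop (some (4, 1)) [.fwd 5066, .fwd 8895, .fwd 3310],
   .loop (some (11, 2)) [.bwd 3310, .bwd 8897, .fwd 4408],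
   .loop (some (3, 0)) [.fwd 5064, .fwd 5065, .bwd 8898],
   .loop (some (12, 2)) [.bwd 3311, .bwd 8899, .fwd 4409],
   .loop (some (2, 0)) [.fwd 5063, .bwd 8900, .fwd 3311],
   .loop (some (3, 1)) [.bwd 3313, .bwd 3312, .fwd 8902],
   .loop (some (13, 2)) [.bwd 3312, .bwd 8901, .fwd 4410],
   .loop (some (10, 2)) [.bwd 3313, .bwd 8904, .fwd 4411],
   .loop (some (4, 1)) [.fwd 5062, .fwd 8903, .fwd 3314],
   .loop (some (11, 2)) [.bwd 3314, .bwd 8905, .fwd 4412],
   .loop (some (3, 0)) [.fwd 5060, .fwd 5061, .bwd 8906],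
   .loop (some (12, 2)) [.bwd 3315, .bwd 8907, .fwd 4413],
   .loop (some (2, 0)) [.fwd 5059, .bwd 8908, .fwd 3315],
   .loop (some (6, 1)) [.fwd 8862, .fwd 4857, .bwd 8114],
   .loop (some (20, 0)) [.bwd 4495, .bwd 8119, .fwd 8120, .fwd 4830, .fwd 4827, .bwd 4823, .bwd 8160, .fwd 8159],
   .loop (some (2, 1)) [.fwd 4591, .bwd 3354, .bwd 8281],
   .loop (some (15, 0)) [.bwd 3423, .bwd 3295, .bwd 7983, .fwd 7982, .bwd 3354],
   .loop none [.bwd 8914],
   .loop none [.fwd 3423, .bwd 8915],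
   .loop (some (3, 2)) [.bwd 8202, .bwd 4591, .bwd 4590],
   .loop (some (13, 2)) [.bwd 8202, .bwd 8203, .fwd 4617],
   .loop (some (15, 0)) [.bwd 4823, .bwd 8160, .fwd 8159, .fwd 3354],
   .loop (some (10, 2)) [.fwd 4591, .bwd 8203, .fwd 4790],
   .loop (some (8, 1)) [.bwd 6620, .fwd 5117, .bwd 6623],
   .loop (some (14, 2)) [.fwd 6622, .fwd 6623, .bwd 6890, .bwd 6685],
   .loop (some (11, 2)) [.bwd 3396, .bwd 8442, .bwd 6955],
   .loop (some (3, 0)) [.bwd 7352, .fwd 7350, .bwd 8417],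
   .loop (some (12, 2)) [.bwd 3397, .bwd 8923, .fwd 6956],
   .loop (some (0, 0)) [.fwd 7233, .fwd 8923],
   .loop (some (2, 0)) [.fwd 5034, .bwd 8924, .fwd 3397],
   .loop (some (3, 1)) [.bwd 3399, .bwd 3398, .fwd 8927],
   .loop (some (0, 0)) [.fwd 7360, .fwd 8925],
   .loop (some (13, 2)) [.bwd 3398, .bwd 8925, .fwd 3441],
   .loop (some (15, 0)) [.bwd 3298, .bwd 6888, .fwd 3396, .fwd 3397],
   .loop (some (10, 2)) [.bwd 8927, .bwd 8925, .bwd 7358],
   .loop (some (10, 2)) [.bwd 3399, .bwd 8930, .fwd 3442],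
   .loop (some (13, 1)) [.fwd 8932, .fwd 8928, .bwd 8933],
   .loop (some (4, 1)) [.fwd 5033, .fwd 8928, .fwd 3400],
   .loop (some (11, 2)) [.bwd 3400, .bwd 8933, .fwd 3443],
   .loop (some (3, 0)) [.fwd 5031, .fwd 5032, .bwd 8935],
   .loop (some (12, 2)) [.bwd 3401, .bwd 8936, .fwd 3444],
   .loop (some (2, 0)) [.fwd 5030, .bwd 8937, .fwd 3401],
   .loop (some (3, 1)) [.bwd 3403, .bwd 3402, .fwd 8939],
   .loop (some (13, 2)) [.bwd 3402, .bwd 8938, .fwd 3445],
   .loop (some (10, 2)) [.bwd 3403, .bwd 8941, .fwd 3446],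
   .loop (some (4, 1)) [.fwd 5029, .fwd 8940, .fwd 3404],
   .loop (some (11, 2)) [.bwd 3404, .bwd 8942, .fwd 3447],
   .loop (some (3, 0)) [.fwd 5027, .fwd 5028, .bwd 8943],
   .loop (some (12, 2)) [.bwd 3405, .bwd 8944, .fwd 3448],
   .loop (some (2, 0)) [.fwd 5026, .bwd 8945, .fwd 3405],
   .loop (some (3, 1)) [.bwd 3407, .bwd 3406, .fwd 8947],
   .loop (some (13, 2)) [.bwd 3406, .bwd 8946, .fwd 3449],
   .loop (some (10, 2)) [.bwd 3407, .bwd 8949, .fwd 3450],
   .loop (some (4, 1)) [.fwd 5025, .fwd 8948, .fwd 3408],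
   .loop (some (11, 2)) [.bwd 3408, .bwd 8950, .fwd 3451],
   .loop (some (3, 0)) [.fwd 5023, .fwd 5024, .bwd 8951],
   .loop (some (12, 2)) [.bwd 3409, .bwd 8952, .fwd 3452],
   .loop (some (2, 0)) [.fwd 5022, .bwd 8953, .fwd 3409],
   .loop (some (3, 1)) [.bwd 3411, .bwd 3410, .fwd 8955],
   .loop (some (13, 2)) [.bwd 3410, .bwd 8954, .fwd 3453],
   .loop (some (10, 2)) [.bwd 3411, .bwd 8957, .fwd 3454],
   .loop (some (4, 1)) [.fwd 5021, .fwd 8956, .fwd 3412],
   .loop (some (11, 2)) [.bwd 3412, .bwd 8958, .fwd 3455],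
   .loop (some (2, 0)) [.bwd 7975, .fwd 7834, .fwd 8025],
   .loop (some (12, 2)) [.fwd 8025, .bwd 8960, .fwd 3456],
   .loop (some (13, 2)) [.bwd 8161, .fwd 8154, .fwd 8147],
   .loop (some (15, 0)) [.bwd 4830, .bwd 8120, .fwd 8119, .fwd 4495],
   .loop (some (15, 0)) [.bwd 3470, .bwd 3344, .fwd 1434, .fwd 1442, .bwd 3432],
   .loop none [.bwd 8965],
   .loop none [.fwd 3470, .bwd 8966],
   .loop (some (10, 2)) [.bwd 7840, .bwd 8207, .bwd 8283],
   .loop (some (13, 2)) [.bwd 3441, .bwd 7360, .fwd 4460],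
   .loop (some (10, 1)) [.fwd 8336, .fwd 7358, .bwd 7360],
   .loop (some (2, 1)) [.bwd 5905, .fwd 7347, .fwd 3442],
   .loop (some (12, 2)) [.fwd 7347, .bwd 8969, .bwd 8409],
   .loop (some (0, 1)) [.fwd 8969, .fwd 8930],
   .loop (some (10, 2)) [.bwd 3442, .bwd 8969, .fwd 4461],
   .loop (some (0, 1)) [.fwd 8974, .fwd 8933],
   .loop (some (13, 1)) [.fwd 8336, .bwd 8934, .bwd 8974],
   .loop (some (4, 1)) [.fwd 5105, .bwd 8934, .fwd 3443],
   .loop (some (11, 2)) [.bwd 3443, .bwd 8974, .fwd 4462],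
   .loop (some (3, 0)) [.fwd 5103, .fwd 5104, .bwd 8977],
   .loop (some (12, 2)) [.bwd 3444, .bwd 8978, .fwd 4463],
   .loop (some (0, 1)) [.fwd 8978, .fwd 8936],
   .loop (some (2, 0)) [.fwd 5102, .bwd 8979, .fwd 3444],
   .loop (some (3, 1)) [.bwd 3446, .bwd 3445, .fwd 8982],
   .loop (some (0, 1)) [.fwd 8980, .fwd 8938],
   .loop (some (13, 2)) [.bwd 3445, .bwd 8980, .fwd 4464],
   .loop (some (15, 0)) [.bwd 5906, .bwd 8971, .fwd 3443, .fwd 3444],
   .loop (some (0, 1)) [.fwd 8985, .fwd 8941],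
   .loop (some (10, 2)) [.bwd 3446, .bwd 8985, .fwd 4465],
   .loop (some (0, 1)) [.fwd 8988, .fwd 8942],
   .loop (some (4, 1)) [.fwd 5101, .fwd 8983, .fwd 3447],
   .loop (some (11, 2)) [.bwd 3447, .bwd 8988, .fwd 4466],
   .loop (some (3, 0)) [.fwd 5099, .fwd 5100, .bwd 8990],
   .loop (some (12, 2)) [.bwd 3448, .bwd 8991, .fwd 4467],
   .loop (some (2, 0)) [.fwd 5098, .bwd 8992, .fwd 3448],
   .loop (some (3, 1)) [.bwd 3450, .bwd 3449, .fwd 8994],
   .loop (some (0, 1)) [.fwd 8993, .fwd 8946],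
   .loop (some (13, 2)) [.bwd 3449, .bwd 8993, .fwd 4468],
   .loop (some (10, 2)) [.bwd 3450, .bwd 8997, .fwd 4469],
   .loop (some (0, 1)) [.fwd 8998, .fwd 8950]]

theorem just35_len : just35.length = 250 := by decide +kernel

theorem just35_ok : cert.okFacts 8750 just35 = true := by decide +kernel


end CfsgLib.ThCent.DX
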