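import Cfsg.Agent.Lib.ThCent.DXData

/-!
Justifications of the side facts (generated data).
-/

namespace CfsgLib.ThCent.DX

open CfsgLib.PresCert

set_option maxRecDepth 100000

/-- justifications -/
noncomputable def just36 : List Cert.Just :=
  [.loop (some (4, 1)) [.fwd 5097, .fwd 8995, .fwd 3451],
   .loop (some (11, 2)) [.bwd 3451, .bwd 8998, .fwd 4470],
   .loop (some (3, 0)) [.fwd 5095, .fwd 5096, .bwd 9000],
   .loop (some (12, 2)) [.bwd 3452, .bwd 9001, .fwd 4471],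
   .loop (some (0, 1)) [.fwd 9001, .fwd 8952],
   .loop (some (2, 0)) [.fwd 5094, .bwd 9002, .fwd 3452],
   .loop (some (3, 1)) [.bwd 3454, .bwd 3453, .fwd 9005],
   .loop (some (0, 1)) [.fwd 9003, .fwd 8954],
   .loop (some (13, 2)) [.bwd 3453, .bwd 9003, .fwd 4472],
   .loop (some (0, 1)) [.fwd 9008, .fwd 8957],
   .loop (some (10, 2)) [.bwd 3454, .bwd 9008, .fwd 4473],
   .loop (some (0, 1)) [.fwd 9010, .fwd 8958],
   .loop (some (4, 1)) [.fwd 5093, .fwd 9006, .fwd 3455],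
   .loop (some (11, 2)) [.bwd 3455, .bwd 9010, .fwd 4474],
   .loop (some (3, 0)) [.fwd 5091, .fwd 5092, .bwd 9012],
   .loop (some (12, 2)) [.bwd 3456, .bwd 9013, .fwd 4475],
   .loop (some (0, 1)) [.fwd 9013, .fwd 8960],
   .loop (some (2, 0)) [.fwd 5090, .bwd 9014, .fwd 3456],
   .loop (some (0, 1)) [.fwd 9015, .fwd 8962],
   .loop (some (15, 0)) [.fwd 5453, .bwd 4971, .bwd 6694, .fwd 6695],
   .loop (some (1, 1)) [.bwd 7212, .fwd 7215, .fwd 6927],
   .loop (some (9, 2)) [.bwd 6927, .bwd 7200, .fwd 7196],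
   .loop (some (7, 3)) [.bwd 3518, .bwd 7261, .fwd 3553],
   .loop (some (5, 3)) [.bwd 7212, .bwd 3518, .fwd 7109, .fwd 8482],
   .loop none [.fwd 9023],
   .loop none [.bwd 5709, .bwd 9024],
   .loop none [.fwd 8482, .bwd 9024],
   .loop (some (4, 1)) [.bwd 8864, .bwd 7215, .bwd 9022],
   .loop (some (11, 2)) [.fwd 9022, .bwd 7221, .fwd 7254],
   .loop (some (9, 2)) [.bwd 7212, .bwd 7221, .fwd 5846],
   .loop (some (7, 3)) [.bwd 3519, .bwd 9022, .fwd 3554],
   .loop (some (5, 3)) [.bwd 7196, .bwd 3519, .fwd 7212, .fwd 9025],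
   .loop none [.fwd 9031],
   .loop none [.fwd 7257, .bwd 9032],
   .loop none [.fwd 7259, .bwd 9032],
   .loop none [.fwd 9025, .bwd 9032],
   .loop (some (11, 2)) [.fwd 9030, .bwd 7217, .bwd 7261],
   .loop (some (9, 2)) [.bwd 7196, .bwd 7217, .fwd 7109],
   .loop (some (11, 2)) [.bwd 7254, .bwd 7203, .fwd 3522],
   .loop (some (9, 2)) [.bwd 5846, .bwd 7203, .fwd 3527],
   .loop (some (0, 2)) [.fwd 9038, .fwd 9028],
   .loop (some (10, 1)) [.fwd 8555, .bwd 3582, .bwd 9040],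
   .loop (some (12, 1)) [.fwd 7191, .bwd 8476, .bwd 7262],
   .loop (some (8, 1)) [.fwd 3591, .bwd 3575, .fwd 3552],
   .loop (some (14, 0)) [.fwd 3555, .fwd 9028, .bwd 3553, .bwd 3552],
   .loop (some (8, 1)) [.fwd 3590, .bwd 9043, .fwd 3553],
   .loop (some (12, 2)) [.bwd 9043, .bwd 3583, .fwd 3575],
   .loop (some (8, 1)) [.fwd 3589, .bwd 9045, .fwd 3554],
   .loop (some (18, 2)) [.bwd 3637, .bwd 3575, .bwd 9027, .fwd 9045, .bwd 3599],
   .loop (some (8, 1)) [.fwd 3588, .bwd 9047, .fwd 3555],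
   .loop (some (6, 3)) [.bwd 3554, .fwd 9041, .fwd 6609],
   .loop (some (12, 2)) [.bwd 9047, .bwd 9036, .fwd 9043],
   .loop (some (1, 2)) [.bwd 3637, .fwd 3602, .fwd 6377],
   .loop (some (12, 0)) [.bwd 9047, .bwd 9044, .fwd 3575],
   .loop (some (3, 3)) [.bwd 5853, .fwd 8552, .fwd 5391, .fwd 5392],
   .loop none [.bwd 9054],
   .loop none [.fwd 5392, .fwd 9055, .fwd 5854],
   .loop none [.fwd 9056],
   .loop none [.fwd 5853, .bwd 9055],
   .loop none [.bwd 5855, .bwd 9057],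
   .loop (some (14, 0)) [.fwd 3590, .fwd 9051, .bwd 3588, .bwd 3587],
   .loop (some (0, 1)) [.bwd 9060, .fwd 3622],
   .loop (some (13, 2)) [.fwd 9058, .fwd 9060, .bwd 3599],
   .loop (some (15, 0)) [.fwd 7189, .fwd 518, .fwd 3522, .bwd 3604],
   .loop (some (15, 0)) [.fwd 7192, .fwd 7136, .fwd 7254, .fwd 9049],
   .loop (some (15, 0)) [.fwd 7208, .fwd 7202, .bwd 9030, .fwd 9047],
   .loop (some (15, 0)) [.fwd 7219, .bwd 7214, .bwd 9022, .fwd 9045],
   .loop (some (5, 1)) [.fwd 6376, .bwd 3650, .bwd 3631],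
   .loop (some (4, 2)) [.bwd 6377, .fwd 7238, .fwd 6189],
   .loop (some (2, 0)) [.fwd 3676, .bwd 7409, .bwd 3652],
   .loop (some (5, 3)) [.bwd 3626, .bwd 6202, .fwd 6371],
   .loop (some (5, 3)) [.bwd 3627, .bwd 9070, .fwd 6372],
   .loop (some (6, 3)) [.bwd 3627, .fwd 9069, .fwd 3663],
   .loop (some (14, 2)) [.bwd 3629, .bwd 3628, .bwd 3655, .fwd 3627],
   .loop (some (0, 1)) [.fwd 3655, .fwd 9073],
   .loop (some (5, 3)) [.bwd 3628, .bwd 9071, .fwd 6373],
   .loop (some (6, 3)) [.bwd 3628, .bwd 9072, .fwd 3664],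
   .loop (some (5, 3)) [.bwd 3629, .bwd 9075, .fwd 6374],
   .loop (some (1, 2)) [.fwd 3640, .bwd 9077, .bwd 6380],
   .loop (some (6, 3)) [.bwd 3629, .bwd 9076, .fwd 3665],
   .loop (some (3, 2)) [.fwd 3640, .bwd 9079, .bwd 3673],
   .loop (some (14, 2)) [.bwd 3631, .bwd 3630, .bwd 9073, .fwd 3628],
   .loop (some (9, 2)) [.fwd 9077, .bwd 9073, .bwd 9071],
   .loop (some (8, 3)) [.fwd 3631, .bwd 7408, .bwd 6587],
   .loop (some (14, 0)) [.bwd 3595, .fwd 3623, .fwd 3595, .bwd 3631],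
   .loop (some (0, 0)) [.fwd 9081, .bwd 9084],
   .loop (some (5, 1)) [.bwd 6378, .fwd 9052, .fwd 3638],
   .loop (some (6, 1)) [.bwd 3671, .bwd 8596, .fwd 3638],
   .loop (some (7, 1)) [.fwd 6186, .bwd 6221, .bwd 6376],
   .loop (some (9, 0)) [.fwd 9075, .fwd 9081, .fwd 3650],
   .loop (some (4, 2)) [.bwd 6586, .bwd 7280, .fwd 6573],
   .loop (some (7, 3)) [.bwd 3662, .fwd 246, .fwd 3707],
   .loop (some (7, 3)) [.bwd 3663, .bwd 9091, .fwd 3708],
   .loop (some (7, 3)) [.bwd 3664, .bwd 9092, .fwd 3709],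
   .loop (some (14, 0)) [.fwd 3667, .fwd 8617, .bwd 3666, .bwd 3665],
   .loop (some (11, 2)) [.fwd 9093, .fwd 9094, .fwd 8624],
   .loop (some (7, 3)) [.bwd 3665, .bwd 9093, .fwd 3710],
   .loop (some (11, 2)) [.fwd 9096, .bwd 8613, .bwd 9092],
   .loop (some (11, 2)) [.bwd 8624, .bwd 8617, .fwd 3668],
   .loop (some (0, 2)) [.fwd 9098, .fwd 9095],
   .loop (some (8, 1)) [.fwd 3762, .bwd 3728, .fwd 3708],
   .loop (some (8, 1)) [.fwd 3761, .bwd 9100, .fwd 3709],
   .loop (some (12, 2)) [.bwd 9100, .bwd 3755, .fwd 3728],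
   .loop (some (8, 1)) [.fwd 3760, .bwd 9101, .fwd 3710],
   .loop (some (8, 1)) [.fwd 3759, .bwd 9103, .fwd 3711],
   .loop (some (12, 2)) [.bwd 9103, .bwd 9097, .fwd 9100],
   .loop (some (15, 0)) [.fwd 2113, .bwd 2230, .bwd 8564, .fwd 4348],
   .loop (some (7, 1)) [.fwd 3762, .fwd 4000, .bwd 3762],
   .loop (some (5, 1)) [.fwd 3794, .bwd 3781, .bwd 3762],
   .loop (some (7, 3)) [.bwd 3757, .bwd 3974, .fwd 3757],
   .loop (some (5, 3)) [.bwd 3757, .bwd 3777, .fwd 3789],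
   .loop (some (14, 0)) [.fwd 3761, .fwd 9105, .bwd 3759, .bwd 3758],
   .loop (some (11, 1)) [.bwd 9111, .fwd 9109, .fwd 9111],
   .loop (some (7, 3)) [.bwd 3758, .bwd 9109, .fwd 3758],
   .loop (some (5, 3)) [.bwd 3758, .bwd 9110, .fwd 3790],
   .loop (some (5, 3)) [.bwd 3759, .bwd 9114, .fwd 3791],
   .loop (some (9, 2)) [.fwd 9115, .bwd 9105, .fwd 9108],
   .loop (some (5, 3)) [.bwd 3760, .bwd 9115, .fwd 3792],
   .loop (some (9, 2)) [.bwd 9108, .bwd 9102, .fwd 3781],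
   .loop (some (6, 1)) [.fwd 3837, .bwd 3828, .bwd 3794],
   .loop (some (20, 6)) [.bwd 3934, .fwd 4174, .fwd 8137, .bwd 2757, .bwd 8802, .fwd 2776, .bwd 4008, .fwd 4009],
   .loop (some (7, 3)) [.bwd 3789, .bwd 3958, .fwd 3789],
   .loop (some (14, 0)) [.fwd 3793, .fwd 9116, .bwd 3791, .bwd 3790],
   .loop (some (11, 1)) [.bwd 9122, .fwd 9121, .fwd 9122],
   .loop (some (7, 3)) [.bwd 3790, .bwd 9121, .fwd 3790],
   .loop (some (6, 3)) [.bwd 3790, .bwd 8619, .fwd 3833],
   .loop (some (6, 3)) [.bwd 3791, .bwd 9125, .fwd 3834],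
   .loop (some (10, 2)) [.fwd 9126, .bwd 9116, .fwd 9119],
   .loop (some (6, 3)) [.bwd 3792, .bwd 9126, .fwd 3835],
   .loop (some (3, 2)) [.fwd 3801, .bwd 9128, .bwd 3843],
   .loop (some (10, 2)) [.bwd 9119, .bwd 9118, .fwd 3828],
   .loop (some (7, 1)) [.fwd 3899, .bwd 3838, .bwd 3837],
   .loop (some (8, 1)) [.fwd 4188, .fwd 4009, .fwd 3833],
   .loop (some (14, 0)) [.fwd 3836, .fwd 9127, .bwd 3834, .bwd 3833],
   .loop (some (12, 1)) [.bwd 8801, .fwd 4009, .fwd 9133],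
   .loop (some (7, 3)) [.bwd 3833, .fwd 9120, .fwd 3895],
   .loop (some (8, 1)) [.fwd 4187, .bwd 9132, .fwd 3834],
   .loop (some (7, 3)) [.bwd 3834, .bwd 9135, .fwd 3896],
   .loop (some (12, 1)) [.fwd 8797, .bwd 9136, .bwd 9127],
   .loop (some (11, 2)) [.fwd 9137, .bwd 9127, .fwd 9131],
   .loop (some (7, 3)) [.bwd 3835, .bwd 9137, .fwd 3897],
   .loop (some (4, 2)) [.fwd 3843, .bwd 9140, .bwd 3906],
   .loop (some (11, 2)) [.bwd 9131, .bwd 9130, .fwd 3838],
   .loop (some (8, 1)) [.fwd 4173, .fwd 3934, .fwd 3895],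
   .loop (some (14, 0)) [.fwd 3898, .fwd 9139, .bwd 3896, .bwd 3895],
   .loop (some (8, 1)) [.fwd 4172, .bwd 9143, .fwd 3896],
   .loop (some (8, 1)) [.fwd 4171, .bwd 9145, .fwd 3897],
   .loop (some (8, 1)) [.fwd 4170, .bwd 9146, .fwd 3898],
   .loop (some (12, 0)) [.bwd 9146, .bwd 9144, .bwd 3934],
   .loop (some (14, 0)) [.fwd 4327, .fwd 8775, .bwd 4325, .bwd 4324],
   .loop (some (0, 1)) [.fwd 7823, .fwd 8861],
   .loop (some (12, 2)) [.fwd 8264, .bwd 7822, .bwd 9150, .bwd 4855],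
   .loop none [.fwd 9151],
   .loop none [.fwd 8263, .fwd 9152, .bwd 4854],
   .loop none [.fwd 9153],
   .loop none [.bwd 4855, .bwd 9152],
   .loop none [.bwd 7800, .fwd 9154, .bwd 4853],
   .loop none [.fwd 9156],
   .loop none [.fwd 4852, .bwd 9157],
   .loop (some (15, 0)) [.fwd 7961, .bwd 4374, .bwd 8170, .fwd 8171],
   .loop (some (15, 0)) [.bwd 4423, .bwd 4367, .bwd 7962, .fwd 7961, .bwd 4374],
   .loop none [.bwd 9160],
   .loop none [.fwd 4423, .bwd 9161],
   .loop (some (15, 0)) [.fwd 4811, .bwd 8171, .fwd 8170, .fwd 4374],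
   .loop (some (13, 2)) [.bwd 4398, .bwd 8422, .fwd 4501],
   .loop (some (15, 0)) [.fwd 6955, .bwd 6943, .bwd 8415, .fwd 8416],
   .loop (some (2, 1)) [.bwd 6847, .bwd 8421, .fwd 4399],
   .loop (some (0, 1)) [.fwd 9164, .fwd 8876],
   .loop (some (10, 2)) [.bwd 4399, .bwd 9164, .fwd 4502],
   .loop (some (0, 1)) [.fwd 9168, .fwd 8879],
   .loop (some (4, 1)) [.fwd 4990, .bwd 8880, .fwd 4400],
   .loop (some (11, 2)) [.bwd 4400, .bwd 9168, .fwd 4503],
   .loop (some (3, 0)) [.fwd 4988, .fwd 4989, .bwd 9170],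
   .loop (some (12, 2)) [.bwd 4401, .bwd 9171, .fwd 4504],
   .loop (some (0, 1)) [.fwd 9171, .fwd 8882],
   .loop (some (2, 0)) [.fwd 4987, .bwd 9172, .fwd 4401],
   .loop (some (3, 1)) [.bwd 4403, .bwd 4402, .fwd 9175],
   .loop (some (13, 2)) [.bwd 4402, .bwd 9173, .fwd 4505],
   .loop (some (15, 0)) [.bwd 6848, .bwd 9166, .fwd 4400, .fwd 4401],
   .loop (some (0, 1)) [.fwd 9177, .fwd 8887],
   .loop (some (10, 2)) [.bwd 4403, .bwd 9177, .fwd 4506],
   .loop (some (0, 1)) [.fwd 9180, .fwd 8889],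
   .loop (some (4, 1)) [.fwd 4986, .fwd 9176, .fwd 4404],
   .loop (some (11, 2)) [.bwd 4404, .bwd 9180, .fwd 4507],
   .loop (some (3, 0)) [.fwd 4984, .fwd 4985, .bwd 9182],
   .loop (some (12, 2)) [.bwd 4405, .bwd 9183, .fwd 4508],
   .loop (some (0, 1)) [.fwd 9183, .fwd 8891],
   .loop (some (2, 0)) [.fwd 4983, .bwd 9184, .fwd 4405],
   .loop (some (3, 1)) [.bwd 4407, .bwd 4406, .fwd 9187],
   .loop (some (13, 2)) [.bwd 4406, .bwd 9185, .fwd 4509],
   .loop (some (0, 1)) [.fwd 9189, .fwd 8896],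
   .loop (some (10, 2)) [.bwd 4407, .bwd 9189, .fwd 4510],
   .loop (some (4, 1)) [.fwd 4982, .fwd 9188, .fwd 4408],
   .loop (some (11, 2)) [.bwd 4408, .bwd 9191, .fwd 4511],
   .loop (some (3, 0)) [.fwd 4980, .fwd 4981, .bwd 9192],
   .loop (some (12, 2)) [.bwd 4409, .bwd 9193, .fwd 4512],
   .loop (some (2, 0)) [.fwd 4979, .bwd 9194, .fwd 4409],
   .loop (some (3, 1)) [.bwd 4411, .bwd 4410, .fwd 9196],
   .loop (some (13, 2)) [.bwd 4410, .bwd 9195, .fwd 4513],
   .loop (some (0, 1)) [.fwd 9198, .fwd 8904],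
   .loop (some (10, 2)) [.bwd 4411, .bwd 9198, .fwd 4514],
   .loop (some (0, 1)) [.fwd 9200, .fwd 8905],
   .loop (some (4, 1)) [.fwd 4978, .fwd 9197, .fwd 4412],
   .loop (some (11, 2)) [.bwd 4412, .bwd 9200, .fwd 4515],
   .loop (some (3, 0)) [.fwd 4976, .fwd 4977, .bwd 9202],
   .loop (some (12, 2)) [.bwd 4413, .bwd 9203, .bwd 8022],
   .loop (some (0, 1)) [.fwd 9203, .fwd 8907],
   .loop (some (10, 2)) [.bwd 9204, .bwd 9203, .fwd 8284],
   .loop (some (2, 0)) [.fwd 4975, .bwd 9204, .fwd 4413],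
   .loop (some (0, 1)) [.fwd 9205, .fwd 8909],
   .loop (some (4, 0)) [.fwd 4590, .bwd 8201, .fwd 7957],
   .loop (some (10, 2)) [.bwd 9208, .bwd 9205, .bwd 7814],
   .loop (some (18, 2)) [.bwd 5646, .bwd 5645, .bwd 8180, .bwd 4441, .fwd 8241],
   .loop (some (13, 2)) [.bwd 8180, .bwd 8181, .fwd 8202],
   .loop (some (15, 0)) [.fwd 4816, .bwd 8192, .fwd 8191, .fwd 4441],
   .loop (some (17, 5)) [.fwd 4426, .bwd 5619, .bwd 7197, .bwd 9030, .bwd 9050],
   .loop (some (15, 0)) [.fwd 8052, .bwd 4441, .bwd 8191, .fwd 8192],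
   .loop (some (15, 0)) [.bwd 4483, .bwd 4434, .bwd 8053, .fwd 8052, .bwd 4441],
   .loop none [.bwd 9217],
   .loop none [.fwd 4483, .bwd 9218],
   .loop (some (17, 3)) [.fwd 6735, .fwd 6736, .fwd 4457, .fwd 4458, .bwd 8337],
   .loop (some (8, 1)) [.bwd 6682, .bwd 5627, .bwd 5889],
   .loop (some (14, 2)) [.fwd 5888, .fwd 5889, .bwd 6772, .bwd 6623],
   .loop (some (10, 2)) [.fwd 8337, .bwd 8926, .fwd 8924],
   .loop (some (15, 0)) [.bwd 4499, .bwd 7232, .fwd 4458, .fwd 4459],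
   .loop (some (2, 1)) [.bwd 6776, .fwd 8409, .fwd 4461],
   .loop (some (4, 1)) [.fwd 4905, .bwd 8976, .fwd 4462],
   .loop (some (3, 0)) [.fwd 4903, .fwd 4904, .bwd 9226],
   .loop (some (13, 2)) [.bwd 9226, .bwd 8981, .fwd 8935],
   .loop (some (2, 0)) [.fwd 4902, .bwd 9227, .fwd 4463],
   .loop (some (3, 1)) [.bwd 4465, .bwd 4464, .fwd 9229],
   .loop (some (4, 1)) [.fwd 4901, .fwd 9230, .fwd 4466],
   .loop (some (3, 0)) [.fwd 4899, .fwd 4900, .bwd 9231],
   .loop (some (2, 0)) [.fwd 4898, .bwd 9232, .fwd 4467],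
   .loop (some (3, 1)) [.bwd 4469, .bwd 4468, .fwd 9233],
   .loop (some (4, 1)) [.fwd 4897, .fwd 9234, .fwd 4470],
   .loop (some (3, 0)) [.fwd 4895, .fwd 4896, .bwd 9235],
   .loop (some (2, 0)) [.fwd 4894, .bwd 9236, .fwd 4471],
   .loop (some (3, 1)) [.bwd 4473, .bwd 4472, .fwd 9237],
   .loop (some (4, 1)) [.fwd 4893, .fwd 9238, .fwd 4474],
   .loop (some (3, 0)) [.fwd 4891, .fwd 4892, .bwd 9239],
   .loop (some (10, 2)) [.bwd 9240, .bwd 9016, .fwd 8961],
   .loop (some (2, 0)) [.fwd 4890, .bwd 9240, .fwd 4475],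
   .loop (some (10, 2)) [.bwd 9242, .bwd 9018, .bwd 7834],
   .loop (some (15, 0)) [.bwd 4525, .fwd 3263, .bwd 7930, .fwd 7929, .bwd 4495],
   .loop none [.bwd 9244],
   .loop none [.fwd 4525, .bwd 9245],
   .loop (some (11, 2)) [.fwd 6708, .bwd 6706, .fwd 6635],
   .loop (some (18, 2)) [.bwd 6710, .bwd 8401, .bwd 8407, .fwd 4500, .fwd 4501],
   .loop (some (3, 0)) [.bwd 8404, .bwd 8353, .bwd 8407]]

theorem just36_len : just36.length = 250 := by decide +kernel

theorem just36_ok : cert.okFacts 9000 just36 = true := by decide +kernel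

/-- justifications -/
noncomputable def just37 : List Cert.Just :=
  [.loop (some (10, 2)) [.bwd 9249, .bwd 8873, .fwd 8871],
   .loop (some (2, 0)) [.fwd 4959, .bwd 9249, .fwd 4500],
   .loop (some (3, 1)) [.bwd 4502, .bwd 4501, .fwd 9251],
   .loop (some (15, 0)) [.bwd 4458, .fwd 7232, .fwd 4499, .fwd 4500],
   .loop (some (2, 1)) [.bwd 6711, .bwd 9248, .fwd 4502],
   .loop (some (12, 2)) [.bwd 9248, .bwd 9167, .fwd 8423],
   .loop (some (12, 2)) [.bwd 9254, .bwd 9169, .fwd 8878],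
   .loop (some (4, 1)) [.fwd 4958, .fwd 9252, .fwd 4503],
   .loop (some (3, 0)) [.fwd 4956, .fwd 4957, .bwd 9257],
   .loop (some (10, 2)) [.bwd 9258, .bwd 9174, .fwd 8883],
   .loop (some (2, 0)) [.fwd 4955, .bwd 9258, .fwd 4504],
   .loop (some (3, 1)) [.bwd 4506, .bwd 4505, .fwd 9260],
   .loop (some (15, 0)) [.bwd 6712, .bwd 9254, .fwd 4503, .fwd 4504],
   .loop (some (4, 1)) [.fwd 4954, .fwd 9261, .fwd 4507],
   .loop (some (3, 0)) [.fwd 4952, .fwd 4953, .bwd 9263],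
   .loop (some (10, 2)) [.bwd 9264, .bwd 9186, .fwd 8892],
   .loop (some (2, 0)) [.fwd 4951, .bwd 9264, .fwd 4508],
   .loop (some (3, 1)) [.bwd 4510, .bwd 4509, .fwd 9266],
   .loop (some (4, 1)) [.fwd 4950, .fwd 9267, .fwd 4511],
   .loop (some (3, 0)) [.fwd 4948, .fwd 4949, .bwd 9268],
   .loop (some (2, 0)) [.fwd 4947, .bwd 9269, .fwd 4512],
   .loop (some (3, 1)) [.bwd 4514, .bwd 4513, .fwd 9270],
   .loop (some (4, 1)) [.fwd 4946, .fwd 9271, .fwd 4515],
   .loop (some (13, 2)) [.bwd 9272, .bwd 9206, .fwd 8906],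
   .loop (some (17, 0)) [.fwd 8352, .bwd 8871, .bwd 3298, .bwd 3297, .fwd 6635],
   .loop (some (2, 2)) [.bwd 4569, .fwd 9274, .bwd 5543],
   .loop (some (10, 2)) [.bwd 9274, .bwd 8869, .fwd 6843],
   .loop (some (3, 1)) [.bwd 4571, .bwd 4570, .bwd 9275],
   .loop (some (4, 1)) [.fwd 5542, .fwd 9277, .fwd 4572],
   .loop (some (3, 0)) [.fwd 5540, .fwd 5541, .bwd 9278],
   .loop (some (2, 0)) [.fwd 5539, .bwd 9279, .fwd 4573],
   .loop (some (3, 1)) [.bwd 4575, .bwd 4574, .fwd 9280],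
   .loop (some (4, 1)) [.fwd 5538, .fwd 9281, .fwd 4576],
   .loop (some (3, 0)) [.fwd 5536, .fwd 5537, .bwd 9282],
   .loop (some (2, 0)) [.fwd 5535, .bwd 9283, .fwd 4577],
   .loop (some (3, 1)) [.bwd 4579, .bwd 4578, .fwd 9284],
   .loop (some (4, 1)) [.fwd 5534, .fwd 9285, .fwd 4580],
   .loop (some (3, 0)) [.fwd 5532, .fwd 5533, .bwd 9286],
   .loop (some (2, 0)) [.fwd 5531, .bwd 9287, .fwd 4581],
   .loop (some (3, 1)) [.bwd 4583, .bwd 4582, .fwd 9288],
   .loop (some (4, 1)) [.fwd 5530, .fwd 9289, .fwd 4584],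
   .loop (some (3, 0)) [.fwd 5528, .fwd 5529, .bwd 9290],
   .loop (some (2, 0)) [.fwd 5527, .bwd 9291, .fwd 4585],
   .loop (some (3, 1)) [.bwd 4587, .bwd 4586, .fwd 9292],
   .loop (some (4, 1)) [.fwd 5526, .fwd 9293, .fwd 4588],
   .loop (some (2, 0)) [.bwd 5523, .bwd 8917, .bwd 4589],
   .loop (some (15, 0)) [.fwd 4412, .fwd 4413, .fwd 9210, .bwd 4589],
   .loop (some (15, 0)) [.fwd 7738, .fwd 7772, .bwd 7797, .fwd 8913],
   .loop (some (5, 1)) [.bwd 4786, .fwd 8205, .fwd 4618],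
   .loop (some (12, 2)) [.bwd 8059, .bwd 8208, .fwd 5645],
   .loop (some (2, 1)) [.bwd 5647, .bwd 9212, .fwd 8271],
   .loop (some (12, 2)) [.bwd 8198, .bwd 8223, .fwd 5679],
   .loop (some (11, 2)) [.bwd 4834, .bwd 8851, .fwd 8845],
   .loop (some (20, 0)) [.fwd 4927, .bwd 406, .bwd 345, .fwd 4917, .fwd 317, .fwd 306, .bwd 417, .bwd 4874],
   .loop (some (15, 0)) [.bwd 5441, .fwd 3511, .fwd 473, .bwd 5448],
   .loop (some (9, 1)) [.fwd 6918, .bwd 9303, .bwd 6667],
   .loop (some (10, 2)) [.fwd 5545, .bwd 6667, .bwd 5500],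
   .loop (some (13, 2)) [.bwd 4891, .bwd 9241, .fwd 5019],
   .loop (some (4, 2)) [.bwd 8363, .fwd 8364, .fwd 9220, .bwd 6734],
   .loop none [.fwd 9308],
   .loop none [.fwd 6733, .bwd 9309],
   .loop none [.fwd 5700, .fwd 9309, .fwd 6734],
   .loop none [.fwd 9311],
   .loop none [.bwd 6735, .bwd 9312],
   .loop none [.fwd 9220, .bwd 9312],
   .loop (some (13, 2)) [.bwd 4944, .bwd 8285, .fwd 5060],
   .loop (some (15, 0)) [.bwd 7863, .bwd 8074, .fwd 7845, .fwd 7886],
   .loop (some (13, 2)) [.bwd 4956, .bwd 9259, .fwd 5072],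
   .loop (some (17, 5)) [.bwd 9249, .bwd 4499, .bwd 4498, .bwd 6708, .bwd 6800],
   .loop (some (4, 2)) [.bwd 8403, .fwd 8404, .bwd 9318, .bwd 6799],
   .loop none [.fwd 9319],
   .loop none [.fwd 6798, .bwd 9320],
   .loop none [.fwd 5666, .fwd 9320, .fwd 6799],
   .loop none [.fwd 9322],
   .loop none [.bwd 6800, .bwd 9323],
   .loop none [.bwd 9318, .bwd 9323],
   .loop (some (11, 2)) [.fwd 9325, .bwd 9250, .bwd 8352],
   .loop (some (20, 0)) [.bwd 5086, .bwd 6881, .fwd 6882, .fwd 5388, .fwd 5385, .fwd 5356, .bwd 6695, .fwd 6694],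
   .loop (some (6, 2)) [.fwd 5160, .bwd 6814, .bwd 5500],
   .loop (some (3, 2)) [.fwd 6665, .bwd 6891, .bwd 5160, .bwd 5159],
   .loop none [.bwd 9329],
   .loop none [.bwd 6665, .bwd 9330],
   .loop none [.bwd 5159, .fwd 9330, .bwd 6664],
   .loop none [.fwd 9332],
   .loop none [.fwd 6663, .bwd 9333],
   .loop (some (13, 2)) [.bwd 4976, .bwd 9207, .fwd 4944],
   .loop (some (15, 0)) [.bwd 4889, .bwd 7989, .fwd 4974, .fwd 4975],
   .loop (some (0, 0)) [.fwd 9315, .fwd 9335],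
   .loop (some (10, 2)) [.bwd 4977, .bwd 9335, .fwd 4945],
   .loop (some (0, 0)) [.fwd 9273, .fwd 9338],
   .loop (some (11, 2)) [.bwd 4978, .bwd 9338, .fwd 4946],
   .loop (some (12, 2)) [.bwd 4979, .bwd 9340, .fwd 4947],
   .loop (some (13, 2)) [.bwd 4980, .bwd 9341, .fwd 4948],
   .loop (some (10, 2)) [.bwd 4981, .bwd 9342, .fwd 4949],
   .loop (some (11, 2)) [.bwd 4982, .bwd 9343, .fwd 4950],
   .loop (some (12, 2)) [.bwd 4983, .bwd 9344, .fwd 4951],
   .loop (some (0, 0)) [.fwd 9265, .fwd 9345],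
   .loop (some (13, 2)) [.bwd 4984, .bwd 9345, .fwd 4952],
   .loop (some (10, 2)) [.bwd 4985, .bwd 9347, .fwd 4953],
   .loop (some (11, 2)) [.bwd 4986, .bwd 9348, .fwd 4954],
   .loop (some (12, 2)) [.bwd 4987, .bwd 9349, .fwd 4955],
   .loop (some (13, 2)) [.bwd 4988, .bwd 9350, .fwd 4956],
   .loop (some (0, 0)) [.fwd 9317, .fwd 9351],
   .loop (some (2, 2)) [.fwd 5878, .fwd 5086, .bwd 5667, .fwd 9321],
   .loop none [.fwd 9353],
   .loop none [.fwd 7312, .fwd 9354, .bwd 6797],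
   .loop none [.fwd 9355],
   .loop none [.fwd 9321, .bwd 9354],
   .loop none [.fwd 7227, .fwd 9356, .bwd 6796],
   .loop none [.fwd 9358],
   .loop none [.fwd 6795, .bwd 9359],
   .loop (some (6, 2)) [.fwd 5667, .fwd 6681, .bwd 5545],
   .loop (some (1, 2)) [.bwd 6813, .fwd 9305, .fwd 7152],
   .loop (some (6, 2)) [.fwd 5500, .fwd 6815, .bwd 5701],
   .loop (some (3, 2)) [.bwd 6843, .bwd 6813, .bwd 5500, .bwd 5499],
   .loop none [.bwd 9364],
   .loop none [.fwd 6843, .bwd 9365],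
   .loop none [.fwd 8419, .bwd 9365],
   .loop none [.bwd 5499, .fwd 9365, .bwd 5928],
   .loop none [.fwd 9368],
   .loop none [.bwd 9276, .bwd 9365],
   .loop none [.fwd 5927, .bwd 9369],
   .loop (some (10, 2)) [.fwd 5500, .bwd 6872, .bwd 5667],
   .loop (some (12, 0)) [.bwd 5090, .fwd 7999, .fwd 7975],
   .loop (some (13, 2)) [.bwd 5019, .fwd 9373, .fwd 5091],
   .loop (some (15, 0)) [.bwd 7845, .fwd 8074, .fwd 7863, .fwd 7975],
   .loop (some (0, 1)) [.fwd 9374, .fwd 9307],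
   .loop (some (10, 2)) [.bwd 5020, .bwd 9374, .fwd 5092],
   .loop (some (11, 2)) [.bwd 5021, .bwd 9377, .fwd 5093],
   .loop (some (12, 2)) [.bwd 5022, .bwd 9378, .fwd 5094],
   .loop (some (13, 2)) [.bwd 5023, .bwd 9379, .fwd 5095],
   .loop (some (10, 2)) [.bwd 5024, .bwd 9380, .fwd 5096],
   .loop (some (11, 2)) [.bwd 5025, .bwd 9381, .fwd 5097],
   .loop (some (12, 2)) [.bwd 5026, .bwd 9382, .fwd 5098],
   .loop (some (13, 2)) [.bwd 5027, .bwd 9383, .fwd 5099],
   .loop (some (10, 2)) [.bwd 5028, .bwd 9384, .fwd 5100],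
   .loop (some (11, 2)) [.bwd 5029, .bwd 9385, .fwd 5101],
   .loop (some (12, 2)) [.bwd 5030, .bwd 9386, .fwd 5102],
   .loop (some (13, 2)) [.bwd 5031, .bwd 9387, .fwd 5103],
   .loop (some (10, 2)) [.bwd 5032, .bwd 9388, .fwd 5104],
   .loop (some (0, 1)) [.fwd 9389, .fwd 9228],
   .loop (some (11, 2)) [.fwd 8374, .bwd 8373, .fwd 7357],
   .loop (some (2, 2)) [.fwd 5052, .bwd 5701, .fwd 9310],
   .loop (some (6, 2)) [.fwd 5701, .fwd 6748, .bwd 5667],
   .loop (some (17, 3)) [.fwd 7219, .fwd 7159, .fwd 6824, .bwd 9392, .bwd 6732, .bwd 6731],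
   .loop none [.fwd 9394],
   .loop none [.fwd 7309, .fwd 9395, .fwd 6731],
   .loop none [.fwd 9396],
   .loop none [.fwd 567, .fwd 9395, .bwd 6730],
   .loop none [.fwd 9398],
   .loop none [.bwd 6732, .bwd 9397],
   .loop none [.fwd 6729, .bwd 9399],
   .loop (some (15, 0)) [.fwd 5542, .fwd 5543, .fwd 8352, .bwd 5075],
   .loop (some (6, 2)) [.fwd 5878, .bwd 7153, .bwd 9392],
   .loop (some (15, 0)) [.fwd 5599, .fwd 5600, .bwd 7357, .fwd 5472],
   .loop (some (12, 2)) [.bwd 5138, .bwd 8866, .fwd 8198],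
   .loop (some (13, 2)) [.bwd 5139, .bwd 9405, .fwd 5581],
   .loop (some (15, 0)) [.bwd 7991, .bwd 4547, .fwd 7906, .fwd 5138],
   .loop (some (15, 0)) [.fwd 8245, .fwd 8216, .bwd 8217, .bwd 8249],
   .loop (some (10, 2)) [.bwd 5140, .bwd 9406, .fwd 5582],
   .loop (some (11, 2)) [.bwd 5141, .bwd 9409, .fwd 5583],
   .loop (some (12, 2)) [.bwd 5142, .bwd 9410, .fwd 5584],
   .loop (some (13, 2)) [.bwd 5143, .bwd 9411, .fwd 5585],
   .loop (some (10, 2)) [.bwd 5144, .bwd 9412, .fwd 5586],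
   .loop (some (11, 2)) [.bwd 5145, .bwd 9413, .fwd 5587],
   .loop (some (12, 2)) [.bwd 5146, .bwd 9414, .fwd 5588],
   .loop (some (13, 2)) [.bwd 5147, .bwd 9415, .fwd 5589],
   .loop (some (10, 2)) [.bwd 5148, .bwd 9416, .fwd 5590],
   .loop (some (11, 2)) [.bwd 5149, .bwd 9417, .fwd 5591],
   .loop (some (12, 2)) [.bwd 5150, .bwd 9418, .fwd 5592],
   .loop (some (13, 2)) [.bwd 5151, .bwd 9419, .fwd 5593],
   .loop (some (10, 2)) [.bwd 5152, .bwd 9420, .fwd 5594],
   .loop (some (11, 2)) [.bwd 5153, .bwd 9421, .fwd 5595],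
   .loop (some (12, 2)) [.bwd 5154, .bwd 9422, .fwd 5596],
   .loop (some (13, 2)) [.bwd 5155, .bwd 9423, .fwd 5597],
   .loop (some (10, 2)) [.bwd 5156, .bwd 9424, .fwd 5598],
   .loop (some (2, 2)) [.bwd 9334, .fwd 5160, .bwd 4971],
   .loop (some (8, 2)) [.bwd 9334, .fwd 6911, .fwd 6917],
   .loop (some (5, 1)) [.bwd 5351, .fwd 6910, .fwd 5176],
   .loop (some (10, 2)) [.fwd 9366, .bwd 6945, .bwd 9324],
   .loop (some (12, 1)) [.fwd 7188, .bwd 8453, .bwd 9021],
   .loop (some (12, 1)) [.fwd 6958, .bwd 8449, .bwd 8458],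
   .loop (some (13, 2)) [.bwd 5479, .bwd 9299, .fwd 5646],
   .loop (some (15, 0)) [.fwd 8197, .fwd 8048, .bwd 8058, .fwd 8059],
   .loop (some (10, 2)) [.bwd 5480, .bwd 9432, .fwd 5647],
   .loop (some (11, 2)) [.bwd 5481, .bwd 9434, .fwd 5648],
   .loop (some (12, 2)) [.bwd 5482, .bwd 9435, .fwd 5649],
   .loop (some (13, 2)) [.bwd 5483, .bwd 9436, .fwd 5650],
   .loop (some (10, 2)) [.bwd 5484, .bwd 9437, .fwd 5651],
   .loop (some (11, 2)) [.bwd 5485, .bwd 9438, .fwd 5652],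
   .loop (some (12, 2)) [.bwd 5486, .bwd 9439, .fwd 5653],
   .loop (some (13, 2)) [.bwd 5487, .bwd 9440, .fwd 5654],
   .loop (some (10, 2)) [.bwd 5488, .bwd 9441, .fwd 5655],
   .loop (some (11, 2)) [.bwd 5489, .bwd 9442, .fwd 5656],
   .loop (some (12, 2)) [.bwd 5490, .bwd 9443, .fwd 5657],
   .loop (some (13, 2)) [.bwd 5491, .bwd 9444, .fwd 5658],
   .loop (some (10, 2)) [.bwd 5492, .bwd 9445, .fwd 5659],
   .loop (some (11, 2)) [.bwd 5493, .bwd 9446, .fwd 5660],
   .loop (some (12, 2)) [.bwd 5494, .bwd 9447, .fwd 5661],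
   .loop (some (13, 2)) [.bwd 5495, .bwd 9448, .fwd 5662],
   .loop (some (10, 2)) [.bwd 5496, .bwd 9449, .fwd 5663],
   .loop (some (11, 2)) [.bwd 5497, .bwd 9450, .fwd 5664],
   .loop (some (2, 2)) [.bwd 9371, .fwd 5500, .bwd 5010],
   .loop (some (8, 2)) [.bwd 9371, .fwd 9328, .fwd 9334],
   .loop (some (12, 2)) [.bwd 5523, .bwd 8918, .fwd 8059],
   .loop (some (0, 0)) [.fwd 9299, .fwd 9454],
   .loop (some (13, 2)) [.bwd 5524, .bwd 9454, .fwd 5479],
   .loop (some (15, 0)) [.bwd 7906, .fwd 4547, .fwd 7991, .fwd 5523],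
   .loop (some (0, 0)) [.fwd 9432, .fwd 9456],
   .loop (some (10, 2)) [.bwd 5525, .bwd 9456, .fwd 5480],
   .loop (some (0, 0)) [.fwd 9434, .fwd 9459],
   .loop (some (11, 2)) [.bwd 5526, .bwd 9459, .fwd 5481],
   .loop (some (12, 2)) [.bwd 5527, .bwd 9461, .fwd 5482],
   .loop (some (0, 0)) [.fwd 9435, .fwd 9461],
   .loop (some (0, 0)) [.fwd 9436, .fwd 9462],
   .loop (some (13, 2)) [.bwd 5528, .bwd 9462, .fwd 5483],
   .loop (some (0, 0)) [.fwd 9437, .fwd 9465],
   .loop (some (10, 2)) [.bwd 5529, .bwd 9465, .fwd 5484],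
   .loop (some (0, 0)) [.fwd 9438, .fwd 9467],
   .loop (some (11, 2)) [.bwd 5530, .bwd 9467, .fwd 5485],
   .loop (some (12, 2)) [.bwd 5531, .bwd 9469, .fwd 5486],
   .loop (some (0, 0)) [.fwd 9439, .fwd 9469],
   .loop (some (0, 0)) [.fwd 9440, .fwd 9470],
   .loop (some (13, 2)) [.bwd 5532, .bwd 9470, .fwd 5487],
   .loop (some (0, 0)) [.fwd 9441, .fwd 9473],
   .loop (some (10, 2)) [.bwd 5533, .bwd 9473, .fwd 5488],
   .loop (some (0, 0)) [.fwd 9442, .fwd 9475],
   .loop (some (11, 2)) [.bwd 5534, .bwd 9475, .fwd 5489],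
   .loop (some (12, 2)) [.bwd 5535, .bwd 9477, .fwd 5490],
   .loop (some (0, 0)) [.fwd 9443, .fwd 9477],
   .loop (some (0, 0)) [.fwd 9444, .fwd 9478],
   .loop (some (13, 2)) [.bwd 5536, .bwd 9478, .fwd 5491],
   .loop (some (0, 0)) [.fwd 9445, .fwd 9481],
   .loop (some (10, 2)) [.bwd 5537, .bwd 9481, .fwd 5492],
   .loop (some (0, 0)) [.fwd 9446, .fwd 9483],
   .loop (some (11, 2)) [.bwd 5538, .bwd 9483, .fwd 5493],
   .loop (some (12, 2)) [.bwd 5539, .bwd 9485, .fwd 5494],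
   .loop (some (0, 0)) [.fwd 9447, .fwd 9485],
   .loop (some (0, 0)) [.fwd 9448, .fwd 9486],
   .loop (some (13, 2)) [.bwd 5540, .bwd 9486, .fwd 5495],
   .loop (some (0, 0)) [.fwd 9449, .fwd 9489],
   .loop (some (10, 2)) [.bwd 5541, .bwd 9489, .fwd 5496],
   .loop (some (0, 0)) [.fwd 9450, .fwd 9491],
   .loop (some (11, 2)) [.bwd 5542, .bwd 9491, .fwd 5497],
   .loop (some (0, 0)) [.fwd 9451, .fwd 9493],
   .loop (some (15, 0)) [.fwd 5074, .fwd 5075, .bwd 8352, .bwd 5543],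
   .loop (some (12, 1)) [.fwd 7224, .bwd 9042, .bwd 9029],
   .loop (some (12, 1)) [.fwd 8441, .bwd 8477, .bwd 8468],
   .loop (some (13, 2)) [.bwd 5581, .bwd 9301, .fwd 5680],
   .loop (some (15, 0)) [.fwd 8058, .bwd 8048, .bwd 8197, .fwd 8198]]

theorem just37_len : just37.length = 250 := by decide +kernel

theorem just37_ok : cert.okFacts 9250 just37 = true := by decide +kernel

/-- justifications -/
noncomputable def just38 : List Cert.Just :=
  [.loop (some (0, 1)) [.fwd 9498, .fwd 9406],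
   .loop (some (10, 2)) [.bwd 5582, .bwd 9498, .fwd 5681],
   .loop (some (11, 2)) [.bwd 5583, .bwd 9501, .fwd 5682],
   .loop (some (12, 2)) [.bwd 5584, .bwd 9502, .fwd 5683],
   .loop (some (13, 2)) [.bwd 5585, .bwd 9503, .fwd 5684],
   .loop (some (0, 1)) [.fwd 9504, .fwd 9412],
   .loop (some (10, 2)) [.bwd 5586, .bwd 9504, .fwd 5685],
   .loop (some (11, 2)) [.bwd 5587, .bwd 9506, .fwd 5686],
   .loop (some (12, 2)) [.bwd 5588, .bwd 9507, .fwd 5687],
   .loop (some (13, 2)) [.bwd 5589, .bwd 9508, .fwd 5688],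
   .loop (some (10, 2)) [.bwd 5590, .bwd 9509, .fwd 5689],
   .loop (some (11, 2)) [.bwd 5591, .bwd 9510, .fwd 5690],
   .loop (some (12, 2)) [.bwd 5592, .bwd 9511, .fwd 5691],
   .loop (some (13, 2)) [.bwd 5593, .bwd 9512, .fwd 5692],
   .loop (some (10, 2)) [.bwd 5594, .bwd 9513, .fwd 5693],
   .loop (some (11, 2)) [.bwd 5595, .bwd 9514, .fwd 5694],
   .loop (some (12, 2)) [.bwd 5596, .bwd 9515, .fwd 5695],
   .loop (some (0, 1)) [.fwd 9515, .fwd 9422],
   .loop (some (0, 1)) [.fwd 9516, .fwd 9423],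
   .loop (some (13, 2)) [.bwd 5597, .bwd 9516, .fwd 5696],
   .loop (some (0, 1)) [.fwd 9519, .fwd 9424],
   .loop (some (10, 2)) [.bwd 5598, .bwd 9519, .fwd 5697],
   .loop (some (11, 2)) [.bwd 5599, .bwd 9521, .fwd 5698],
   .loop (some (15, 0)) [.bwd 7937, .bwd 8145, .fwd 8177, .fwd 5645],
   .loop (some (15, 0)) [.fwd 8217, .bwd 8216, .bwd 8245, .fwd 9212],
   .loop (some (15, 0)) [.bwd 7806, .fwd 9300, .fwd 5648, .fwd 5649],
   .loop (some (18, 5)) [.fwd 5665, .fwd 5666, .bwd 9357, .bwd 5877, .bwd 5876],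
   .loop (some (13, 2)) [.fwd 9526, .bwd 9494, .fwd 9277],
   .loop (some (4, 1)) [.fwd 5875, .fwd 9526, .bwd 5664],
   .loop (some (15, 0)) [.fwd 4958, .fwd 4959, .bwd 9325, .bwd 5665],
   .loop (some (15, 0)) [.bwd 8177, .fwd 8145, .fwd 7937, .fwd 5679],
   .loop (some (8, 2)) [.bwd 9310, .fwd 9363, .fwd 9371],
   .loop (some (21, 8)) [.bwd 5841, .bwd 460, .bwd 20, .bwd 346, .bwd 398, .fwd 5455, .bwd 6623, .bwd 6622],
   .loop (some (5, 1)) [.bwd 6620, .bwd 6630, .bwd 9532],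
   .loop (some (3, 0)) [.fwd 5663, .fwd 9528, .bwd 5874, .bwd 5873],
   .loop none [.fwd 9534],
   .loop none [.fwd 5872, .bwd 9535],
   .loop none [.fwd 5662, .fwd 9535, .fwd 5873],
   .loop none [.fwd 9537],
   .loop none [.bwd 5874, .bwd 9538],
   .loop (some (13, 0)) [.fwd 9278, .fwd 9492, .fwd 9528],
   .loop (some (15, 0)) [.fwd 7874, .fwd 1930, .bwd 1852, .fwd 5903],
   .loop (some (10, 2)) [.bwd 5905, .bwd 8972, .fwd 6776],
   .loop (some (11, 2)) [.bwd 5906, .bwd 9542, .fwd 6777],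
   .loop (some (12, 2)) [.bwd 5907, .bwd 9543, .fwd 6778],
   .loop (some (13, 2)) [.bwd 5908, .bwd 9544, .fwd 6779],
   .loop (some (10, 2)) [.bwd 5909, .bwd 9545, .fwd 6780],
   .loop (some (11, 2)) [.bwd 5910, .bwd 9546, .fwd 6781],
   .loop (some (12, 2)) [.bwd 5911, .bwd 9547, .fwd 6782],
   .loop (some (13, 2)) [.bwd 5912, .bwd 9548, .fwd 6783],
   .loop (some (10, 2)) [.bwd 5913, .bwd 9549, .fwd 6784],
   .loop (some (11, 2)) [.bwd 5914, .bwd 9550, .fwd 6785],
   .loop (some (12, 2)) [.bwd 5915, .bwd 9551, .fwd 6786],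
   .loop (some (13, 2)) [.bwd 5916, .bwd 9552, .fwd 6787],
   .loop (some (10, 2)) [.bwd 5917, .bwd 9553, .fwd 6788],
   .loop (some (11, 2)) [.bwd 5918, .bwd 9554, .fwd 6789],
   .loop (some (12, 2)) [.bwd 5919, .bwd 9555, .fwd 6790],
   .loop (some (13, 2)) [.bwd 5920, .bwd 9556, .fwd 6791],
   .loop (some (10, 2)) [.bwd 5921, .bwd 9557, .fwd 6792],
   .loop (some (11, 2)) [.bwd 5922, .bwd 9558, .fwd 6793],
   .loop (some (12, 2)) [.bwd 5923, .bwd 9559, .fwd 6794],
   .loop (some (13, 3)) [.bwd 5924, .bwd 9560, .bwd 9360, .fwd 7218],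
   .loop none [.bwd 9561],
   .loop none [.fwd 7304, .fwd 9562, .fwd 5925],
   .loop none [.fwd 9563],
   .loop none [.fwd 5924, .bwd 9562],
   .loop none [.bwd 5926, .bwd 9564],
   .loop (some (7, 2)) [.fwd 1743, .fwd 9566, .bwd 9453, .bwd 6662],
   .loop none [.fwd 9567],
   .loop none [.bwd 7299, .fwd 9568, .bwd 6661],
   .loop none [.fwd 9569],
   .loop none [.bwd 6662, .bwd 9568],
   .loop none [.fwd 6660, .bwd 9570],
   .loop (some (15, 0)) [.bwd 7851, .fwd 961, .fwd 7855, .bwd 5937],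
   .loop (some (20, 0)) [.bwd 1868, .fwd 8351, .fwd 1886, .bwd 1110, .bwd 1017, .bwd 7851, .fwd 961, .fwd 7855],
   .loop (some (8, 0)) [.bwd 1860, .fwd 8382, .fwd 5937],
   .loop (some (15, 0)) [.bwd 5801, .fwd 5935, .fwd 5936, .fwd 5937],
   .loop (some (20, 0)) [.bwd 961, .fwd 7851, .fwd 1017, .fwd 1110, .bwd 1886, .bwd 8351, .fwd 1868, .fwd 8346],
   .loop (some (8, 1)) [.bwd 6114, .fwd 6112, .fwd 5977],
   .loop (some (0, 2)) [.fwd 6006, .fwd 8305],
   .loop (some (8, 1)) [.fwd 6014, .bwd 9578, .fwd 5978],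
   .loop (some (8, 1)) [.fwd 6013, .bwd 9580, .fwd 5979],
   .loop (some (14, 0)) [.fwd 5981, .fwd 8309, .bwd 5980, .bwd 5979],
   .loop (some (12, 1)) [.fwd 8729, .bwd 9580, .fwd 9582],
   .loop (some (12, 2)) [.bwd 9581, .bwd 8305, .fwd 9578],
   .loop (some (14, 0)) [.fwd 6014, .fwd 9584, .bwd 6012, .bwd 6011],
   .loop (some (14, 0)) [.fwd 6165, .fwd 8680, .bwd 6163, .bwd 6162],
   .loop (some (6, 3)) [.bwd 6162, .bwd 8664, .fwd 6182],
   .loop (some (6, 3)) [.bwd 6163, .bwd 9587, .fwd 6183],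
   .loop (some (10, 2)) [.fwd 9588, .bwd 8680, .fwd 8695],
   .loop (some (6, 3)) [.bwd 6164, .bwd 9588, .fwd 6184],
   .loop (some (3, 2)) [.fwd 6173, .bwd 9590, .bwd 6192],
   .loop (some (10, 2)) [.bwd 8695, .bwd 8687, .fwd 6176],
   .loop (some (6, 1)) [.bwd 6190, .fwd 8737, .fwd 6171],
   .loop (some (0, 2)) [.fwd 9592, .fwd 9589],
   .loop (some (11, 1)) [.bwd 9089, .fwd 6221, .bwd 9594],
   .loop (some (14, 0)) [.fwd 6185, .fwd 9589, .bwd 6183, .bwd 6182],
   .loop (some (7, 3)) [.bwd 6182, .fwd 8689, .fwd 6372],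
   .loop (some (11, 2)) [.bwd 9595, .bwd 9589, .bwd 9088],
   .loop (some (7, 3)) [.bwd 6184, .fwd 9595, .fwd 6374],
   .loop (some (4, 2)) [.fwd 6192, .bwd 9599, .bwd 6380],
   .loop (some (7, 1)) [.bwd 6378, .bwd 9068, .fwd 6190],
   .loop (some (8, 1)) [.fwd 6443, .bwd 6392, .fwd 6372],
   .loop (some (14, 0)) [.fwd 6375, .fwd 9598, .bwd 6373, .bwd 6372],
   .loop (some (8, 1)) [.fwd 6442, .bwd 9602, .fwd 6373],
   .loop (some (12, 2)) [.bwd 9602, .bwd 6433, .fwd 6392],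
   .loop (some (8, 1)) [.fwd 6441, .bwd 9604, .fwd 6374],
   .loop (some (8, 1)) [.fwd 6440, .bwd 9606, .fwd 6375],
   .loop (some (12, 2)) [.bwd 9606, .bwd 9082, .fwd 9602],
   .loop (some (3, 2)) [.bwd 6567, .fwd 6464, .fwd 6573],
   .loop (some (12, 0)) [.bwd 9606, .bwd 9603, .fwd 6392],
   .loop (some (13, 1)) [.fwd 6466, .bwd 6567, .fwd 9610],
   .loop (some (15, 0)) [.fwd 6168, .bwd 6268, .fwd 8689, .fwd 6392],
   .loop (some (14, 0)) [.fwd 6442, .fwd 9608, .bwd 6440, .bwd 6439],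
   .loop (some (0, 1)) [.bwd 9613, .fwd 6466],
   .loop (some (7, 1)) [.bwd 6587, .bwd 9090, .fwd 6574],
   .loop (some (14, 0)) [.fwd 6610, .fwd 8543, .bwd 6608, .bwd 6607],
   .loop (some (15, 0)) [.bwd 8564, .fwd 4348, .bwd 8125, .bwd 6612],
   .loop (some (0, 1)) [.fwd 8425, .fwd 9255],
   .loop (some (10, 2)) [.bwd 6641, .bwd 8425, .fwd 6847],
   .loop (some (0, 1)) [.fwd 9619, .fwd 9256],
   .loop (some (11, 2)) [.bwd 6642, .bwd 9619, .fwd 6848],
   .loop (some (12, 2)) [.bwd 6643, .bwd 9621, .fwd 6849],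
   .loop (some (13, 2)) [.bwd 6644, .bwd 9622, .fwd 6850],
   .loop (some (15, 0)) [.bwd 3302, .fwd 8878, .fwd 6642, .fwd 6643],
   .loop (some (10, 2)) [.bwd 6645, .bwd 9623, .fwd 6851],
   .loop (some (11, 2)) [.bwd 6646, .bwd 9625, .fwd 6852],
   .loop (some (12, 2)) [.bwd 6647, .bwd 9626, .fwd 6853],
   .loop (some (13, 2)) [.bwd 6648, .bwd 9627, .fwd 6854],
   .loop (some (10, 2)) [.bwd 6649, .bwd 9628, .fwd 6855],
   .loop (some (11, 2)) [.bwd 6650, .bwd 9629, .fwd 6856],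
   .loop (some (12, 2)) [.bwd 6651, .bwd 9630, .fwd 6857],
   .loop (some (13, 2)) [.bwd 6652, .bwd 9631, .fwd 6858],
   .loop (some (10, 2)) [.bwd 6653, .bwd 9632, .fwd 6859],
   .loop (some (11, 2)) [.bwd 6654, .bwd 9633, .fwd 6860],
   .loop (some (12, 2)) [.bwd 6655, .bwd 9634, .fwd 6861],
   .loop (some (13, 2)) [.bwd 6656, .bwd 9635, .fwd 6862],
   .loop (some (10, 2)) [.bwd 6657, .bwd 9636, .fwd 6863],
   .loop (some (11, 2)) [.bwd 6658, .bwd 9637, .fwd 6864],
   .loop (some (8, 0)) [.bwd 1868, .fwd 1847, .fwd 8401],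
   .loop (some (15, 0)) [.bwd 5121, .bwd 6704, .bwd 8400, .fwd 8401],
   .loop (some (11, 2)) [.bwd 6712, .bwd 9256, .fwd 6642],
   .loop (some (12, 2)) [.bwd 6713, .bwd 9641, .fwd 6643],
   .loop (some (0, 0)) [.fwd 9621, .fwd 9641],
   .loop (some (0, 0)) [.fwd 9622, .fwd 9642],
   .loop (some (13, 2)) [.bwd 6714, .bwd 9642, .fwd 6644],
   .loop (some (15, 0)) [.bwd 4503, .fwd 9254, .fwd 6712, .fwd 6713],
   .loop (some (0, 0)) [.fwd 9623, .fwd 9645],
   .loop (some (10, 2)) [.bwd 6715, .bwd 9645, .fwd 6645],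
   .loop (some (0, 0)) [.fwd 9625, .fwd 9648],
   .loop (some (11, 2)) [.bwd 6716, .bwd 9648, .fwd 6646],
   .loop (some (12, 2)) [.bwd 6717, .bwd 9650, .fwd 6647],
   .loop (some (0, 0)) [.fwd 9626, .fwd 9650],
   .loop (some (0, 0)) [.fwd 9627, .fwd 9651],
   .loop (some (13, 2)) [.bwd 6718, .bwd 9651, .fwd 6648],
   .loop (some (0, 0)) [.fwd 9628, .fwd 9654],
   .loop (some (10, 2)) [.bwd 6719, .bwd 9654, .fwd 6649],
   .loop (some (0, 0)) [.fwd 9629, .fwd 9656],
   .loop (some (11, 2)) [.bwd 6720, .bwd 9656, .fwd 6650],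
   .loop (some (12, 2)) [.bwd 6721, .bwd 9658, .fwd 6651],
   .loop (some (0, 0)) [.fwd 9630, .fwd 9658],
   .loop (some (0, 0)) [.fwd 9631, .fwd 9659],
   .loop (some (13, 2)) [.bwd 6722, .bwd 9659, .fwd 6652],
   .loop (some (0, 0)) [.fwd 9632, .fwd 9662],
   .loop (some (10, 2)) [.bwd 6723, .bwd 9662, .fwd 6653],
   .loop (some (0, 0)) [.fwd 9633, .fwd 9664],
   .loop (some (11, 2)) [.bwd 6724, .bwd 9664, .fwd 6654],
   .loop (some (12, 2)) [.bwd 6725, .bwd 9666, .fwd 6655],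
   .loop (some (0, 0)) [.fwd 9634, .fwd 9666],
   .loop (some (0, 0)) [.fwd 9635, .fwd 9667],
   .loop (some (13, 2)) [.bwd 6726, .bwd 9667, .fwd 6656],
   .loop (some (0, 0)) [.fwd 9636, .fwd 9670],
   .loop (some (10, 2)) [.bwd 6727, .bwd 9670, .fwd 6657],
   .loop (some (0, 0)) [.fwd 9637, .fwd 9672],
   .loop (some (11, 2)) [.bwd 6728, .bwd 9672, .fwd 6658],
   .loop (some (12, 2)) [.fwd 9401, .bwd 9674, .fwd 6659],
   .loop (some (0, 0)) [.fwd 9638, .fwd 9674],
   .loop (some (15, 0)) [.fwd 8079, .bwd 6769, .bwd 8366, .fwd 8367],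
   .loop (some (13, 0)) [.bwd 1853, .fwd 7225, .fwd 9360],
   .loop (some (15, 0)) [.fwd 7943, .bwd 6834, .bwd 8389, .fwd 8390],
   .loop (some (15, 0)) [.bwd 4400, .fwd 9166, .fwd 6848, .fwd 6849],
   .loop (some (12, 2)) [.bwd 6865, .bwd 9676, .bwd 9401],
   .define,
   .define,
   .loop (some (16, 4)) [.fwd 5894, .fwd 5890, .fwd 6930, .fwd 9682, .fwd 9683],
   .define,
   .define,
   .loop (some (21, 3)) [.bwd 6944, .bwd 5625, .fwd 395, .fwd 396, .fwd 397, .fwd 5455, .fwd 9685, .fwd 9686],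
   .define,
   .define,
   .define,
   .define,
   .define,
   .define,
   .define,
   .define,
   .define,
   .define,
   .define,
   .define,
   .define,
   .define,
   .define,
   .define,
   .define,
   .define,
   .define,
   .define,
   .loop (some (22, 22)) [.bwd 1853, .fwd 580, .fwd 1747, .fwd 7175, .bwd 5544, .bwd 9274, .bwd 6635, .fwd 5117, .bwd 5455, .bwd 5894, .bwd 6951, .fwd 9688, .fwd 9689, .fwd 9690, .fwd 9691, .fwd 9692, .fwd 9693, .fwd 9694, .fwd 9695, .fwd 9696, .fwd 9697, .fwd 9698, .fwd 9699, .fwd 9700, .fwd 9701, .fwd 9702, .fwd 9703, .fwd 9704, .fwd 9705, .fwd 9706, .fwd 9707],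
   .define,
   .loop (some (19, 5)) [.bwd 2067, .fwd 7190, .fwd 7193, .fwd 7209, .fwd 7220, .fwd 9709],
   .define,
   .define,
   .define,
   .loop (some (21, 5)) [.fwd 9709, .fwd 9710, .bwd 2067, .fwd 2066, .bwd 1885, .fwd 9711, .fwd 9712, .fwd 9713],
   .define,
   .loop (some (19, 5)) [.fwd 1885, .fwd 6905, .fwd 8434, .fwd 8437, .fwd 8440, .fwd 9715],
   .define,
   .define,
   .define,
   .loop (some (21, 5)) [.fwd 9715, .fwd 9716, .fwd 1885, .bwd 2066, .fwd 2067, .fwd 9717, .fwd 9718, .fwd 9719],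
   .define,
   .define,
   .loop (some (21, 4)) [.fwd 5499, .fwd 9328, .fwd 6911, .fwd 1811, .bwd 1767, .bwd 1748, .fwd 9721, .fwd 9722],
   .define,
   .loop (some (5, 2)) [.fwd 7345, .bwd 1811, .fwd 9724],
   .define,
   .loop (some (16, 3)) [.bwd 9724, .bwd 5355, .bwd 5337, .fwd 5342, .fwd 9726],
   .define,
   .define,
   .loop (some (21, 4)) [.bwd 6773, .bwd 6815, .fwd 6814, .fwd 5885, .fwd 5175, .fwd 5176, .fwd 9728, .fwd 9729],
   .define,
   .define,
   .define,
   .loop (some (18, 4)) [.bwd 5175, .bwd 4927, .fwd 9731, .fwd 9732, .fwd 9733],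
   .define,
   .define,
   .define,
   .define,
   .define,
   .define,
   .define,
   .define,
   .define,
   .define,
   .define,
   .define,
   .define,
   .define,
   .define]

theorem just38_len : just38.length = 250 := by decide +kernel

theorem just38_ok : cert.okFacts 9500 just38 = true := by decide +kernel

/-- justifications -/
noncomputable def just39 : List Cert.Just :=
  [.define,
   .define,
   .define,
   .define,
   .define,
   .define,
   .define,
   .define,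
   .define,
   .define,
   .define,
   .define,
   .loop (some (22, 29)) [.fwd 9734, .bwd 5175, .fwd 5355, .bwd 1810, .fwd 9735, .fwd 9736, .fwd 9737, .fwd 9738, .fwd 9739, .fwd 9740, .fwd 9741, .fwd 9742, .fwd 9743, .fwd 9744, .fwd 9745, .fwd 9746, .fwd 9747, .fwd 9748, .fwd 9749, .fwd 9750, .fwd 9751, .fwd 9752, .fwd 9753, .fwd 9754, .fwd 9755, .fwd 9756, .fwd 9757, .fwd 9758, .fwd 9759, .fwd 9760, .fwd 9761],
   .define,
   .loop (some (21, 3)) [.fwd 9687, .bwd 6763, .fwd 463, .fwd 464, .fwd 465, .fwd 409, .fwd 410, .fwd 9763],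
   .define,
   .define,
   .define,
   .define,
   .define,
   .define,
   .define,
   .define,
   .define,
   .define,
   .define,
   .define,
   .define,
   .define,
   .define,
   .define,
   .define,
   .define,
   .define,
   .define,
   .define,
   .define,
   .define,
   .define,
   .define,
   .loop (some (22, 28)) [.fwd 7163, .fwd 6929, .bwd 409, .fwd 489, .fwd 504, .bwd 649, .fwd 9765, .fwd 9766, .fwd 9767, .fwd 9768, .fwd 9769, .fwd 9770, .fwd 9771, .fwd 9772, .fwd 9773, .fwd 9774, .fwd 9775, .fwd 9776, .fwd 9777, .fwd 9778, .fwd 9779, .fwd 9780, .fwd 9781, .fwd 9782, .fwd 9783, .fwd 9784, .fwd 9785, .fwd 9786, .fwd 9787, .fwd 9788, .fwd 9789],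
   .define,
   .define,
   .define,
   .loop (some (19, 3)) [.bwd 6816, .bwd 411, .bwd 410, .fwd 9791, .fwd 9792, .fwd 9793],
   .define,
   .define,
   .loop (some (16, 4)) [.fwd 6931, .fwd 5891, .bwd 5899, .fwd 9795, .fwd 9796],
   .define,
   .loop (some (17, 4)) [.fwd 6933, .bwd 6931, .bwd 7187, .bwd 7228, .fwd 9798],
   .define,
   .loop (some (21, 4)) [.bwd 6817, .bwd 6816, .bwd 411, .bwd 410, .bwd 409, .bwd 465, .fwd 6883, .fwd 9800],
   .define,
   .define,
   .define,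
   .loop (some (20, 6)) [.fwd 7176, .fwd 6933, .fwd 5891, .bwd 5518, .bwd 6844, .fwd 9802, .fwd 9803, .fwd 9804],
   .define,
   .loop (some (8, 2)) [.fwd 6929, .fwd 9791, .fwd 9806],
   .loop (some (14, 2)) [.bwd 9792, .bwd 9791, .bwd 6932, .bwd 9687],
   .define,
   .define,
   .define,
   .define,
   .define,
   .define,
   .define,
   .define,
   .define,
   .define,
   .define,
   .define,
   .define,
   .define,
   .define,
   .define,
   .define,
   .define,
   .loop (some (22, 21)) [.bwd 9049, .fwd 6598, .bwd 9050, .fwd 9215, .bwd 8529, .bwd 8508, .fwd 5360, .bwd 5441, .fwd 3511, .fwd 409, .bwd 6931, .bwd 7187, .bwd 9708, .fwd 9809, .fwd 9810, .fwd 9811, .fwd 9812, .fwd 9813, .fwd 9814, .fwd 9815, .fwd 9816, .fwd 9817, .fwd 9818, .fwd 9819, .fwd 9820, .fwd 9821, .fwd 9822, .fwd 9823, .fwd 9824, .fwd 9825, .fwd 9826],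
   .define,
   .loop (some (11, 2)) [.fwd 6933, .bwd 6932, .fwd 9828],
   .define,
   .define,
   .loop (some (15, 2)) [.fwd 7163, .fwd 6929, .fwd 9830, .fwd 9831],
   .define,
   .loop (some (10, 2)) [.fwd 6931, .bwd 6932, .fwd 9833],
   .define,
   .define,
   .define,
   .loop (some (16, 4)) [.bwd 6941, .fwd 6940, .fwd 7180, .fwd 9836, .fwd 9837],
   .define,
   .loop (some (17, 4)) [.bwd 6939, .fwd 6941, .bwd 8418, .bwd 8379, .fwd 9839],
   .define,
   .define,
   .loop (some (21, 5)) [.fwd 9794, .bwd 6816, .bwd 411, .fwd 9763, .fwd 9764, .bwd 9686, .fwd 9841, .fwd 9842],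
   .define,
   .define,
   .loop (some (20, 5)) [.bwd 9845, .bwd 9844, .bwd 6939, .fwd 6940, .fwd 6942, .fwd 6939, .fwd 9844, .fwd 9845],
   .loop (some (1, 2)) [.bwd 9763, .fwd 6940, .fwd 5887],
   .define,
   .define,
   .loop (some (18, 4)) [.bwd 9763, .bwd 6942, .fwd 5887, .fwd 9848, .fwd 9849],
   .define,
   .loop (some (3, 2)) [.bwd 9763, .fwd 6941, .fwd 9851],
   .define,
   .define,
   .loop (some (14, 2)) [.bwd 9791, .fwd 410, .fwd 9853, .fwd 9854],
   .define,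
   .loop (some (12, 2)) [.fwd 6942, .fwd 9853, .fwd 9856],
   .define,
   .loop (some (13, 2)) [.bwd 9763, .fwd 9853, .fwd 9858],
   .define,
   .loop (some (4, 2)) [.bwd 9763, .fwd 6939, .fwd 9860],
   .define,
   .define,
   .define,
   .define,
   .define,
   .define,
   .define,
   .define,
   .define,
   .define,
   .define,
   .define,
   .define,
   .define,
   .define,
   .define,
   .define,
   .define,
   .define,
   .define,
   .define,
   .define,
   .define,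
   .define,
   .define,
   .define,
   .define,
   .loop (some (22, 29)) [.fwd 9850, .bwd 9763, .fwd 6941, .bwd 8418, .fwd 9862, .fwd 9863, .fwd 9864, .fwd 9865, .fwd 9866, .fwd 9867, .fwd 9868, .fwd 9869, .fwd 9870, .fwd 9871, .fwd 9872, .fwd 9873, .fwd 9874, .fwd 9875, .fwd 9876, .fwd 9877, .fwd 9878, .fwd 9879, .fwd 9880, .fwd 9881, .fwd 9882, .fwd 9883, .fwd 9884, .fwd 9885, .fwd 9886, .fwd 9887, .fwd 9888],
   .define,
   .loop (some (11, 2)) [.bwd 6939, .fwd 9853, .fwd 9890],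
   .define,
   .define,
   .loop (some (15, 2)) [.bwd 7178, .fwd 6942, .fwd 9892, .fwd 9893],
   .loop (some (9, 1)) [.fwd 9857, .bwd 6940, .fwd 9853],
   .define,
   .loop (some (10, 2)) [.bwd 6941, .fwd 9853, .fwd 9896],
   .define,
   .define,
   .loop (some (16, 4)) [.fwd 6838, .bwd 6828, .bwd 7162, .fwd 9898, .fwd 9899],
   .define,
   .loop (some (7, 2)) [.fwd 6844, .fwd 6816, .fwd 9901],
   .define,
   .loop (some (21, 5)) [.fwd 9793, .fwd 9794, .bwd 6816, .fwd 412, .bwd 396, .fwd 5565, .fwd 6749, .fwd 9903],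
   .loop (some (5, 1)) [.fwd 9807, .fwd 6828, .fwd 6816],
   .define,
   .loop (some (6, 2)) [.fwd 6838, .fwd 6816, .fwd 9906],
   .loop (some (15, 0)) [.fwd 9762, .fwd 9734, .fwd 5902, .bwd 5518],
   .define,
   .define,
   .define,
   .loop (some (21, 4)) [.bwd 6771, .fwd 1875, .fwd 1876, .fwd 1877, .fwd 506, .fwd 507, .fwd 9910, .fwd 9911],
   .define,
   .define,
   .define,
   .define,
   .loop (some (20, 6)) [.bwd 5903, .fwd 1852, .fwd 1884, .bwd 8449, .fwd 9913, .fwd 9914, .fwd 9915, .fwd 9916],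
   .loop (some (5, 2)) [.fwd 9716, .bwd 1884, .bwd 1877, .bwd 9684],
   .loop none [.bwd 9918],
   .loop none [.bwd 9716, .bwd 9919],
   .loop none [.fwd 9715, .bwd 9919],
   .loop (some (1, 2)) [.bwd 9795, .bwd 506, .fwd 1884, .fwd 9711],
   .loop none [.bwd 9922],
   .loop none [.fwd 9795, .bwd 9923],
   .loop none [.bwd 9796, .bwd 9923],
   .define,
   .define,
   .define,
   .define,
   .define,
   .define,
   .define,
   .define,
   .define,
   .define,
   .define,
   .define,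
   .define,
   .define,
   .define,
   .define,
   .define,
   .define,
   .define,
   .define,
   .define,
   .define,
   .loop (some (22, 26)) [.bwd 1815, .bwd 8358, .fwd 8415, .fwd 6943, .bwd 506, .bwd 420, .fwd 406, .bwd 4927, .fwd 9731, .fwd 9926, .fwd 9927, .fwd 9928, .fwd 9929, .fwd 9930, .fwd 9931, .fwd 9932, .fwd 9933, .fwd 9934, .fwd 9935, .fwd 9936, .fwd 9937, .fwd 9938, .fwd 9939, .fwd 9940, .fwd 9941, .fwd 9942, .fwd 9943, .fwd 9944, .fwd 9945, .fwd 9946, .fwd 9947],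
   .define,
   .define,
   .loop (some (19, 2)) [.fwd 8408, .fwd 8405, .fwd 9639, .fwd 1869, .fwd 6961, .fwd 9950],
   .loop (some (7, 2)) [.fwd 621, .bwd 1869, .fwd 8346],
   .define,
   .define,
   .loop (some (21, 4)) [.bwd 6775, .fwd 8405, .fwd 9639, .fwd 1869, .fwd 428, .bwd 719, .fwd 9953, .fwd 9954],
   .loop (some (14, 2)) [.bwd 9950, .bwd 6961, .bwd 1871, .fwd 6961],
   .define,
   .define,
   .define,
   .define,
   .define,
   .loop (some (19, 5)) [.fwd 719, .fwd 9957, .fwd 9958, .fwd 9959, .fwd 9960, .fwd 9961],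
   .define,
   .loop (some (7, 2)) [.fwd 686, .bwd 719, .fwd 9963],
   .define,
   .define,
   .loop (some (21, 5)) [.fwd 9961, .fwd 9962, .fwd 719, .bwd 428, .bwd 1869, .fwd 8349, .fwd 9965, .fwd 9966],
   .define,
   .loop (some (5, 2)) [.fwd 7556, .bwd 719, .fwd 9968],
   .loop (some (8, 1)) [.bwd 640, .fwd 579, .fwd 9957],
   .loop (some (14, 2)) [.bwd 9958, .bwd 9957, .bwd 723, .fwd 9957],
   .define,
   .define,
   .define,
   .define,
   .define,
   .loop (some (19, 5)) [.fwd 751, .fwd 9972, .fwd 9973, .fwd 9974, .fwd 9975, .fwd 9976],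
   .define,
   .loop (some (7, 2)) [.bwd 430, .bwd 751, .fwd 9978],
   .define,
   .define,
   .loop (some (21, 5)) [.fwd 9976, .fwd 9977, .fwd 751, .bwd 3134, .fwd 3135, .bwd 8380, .fwd 9980, .fwd 9981],
   .define,
   .loop (some (5, 2)) [.fwd 7711, .bwd 751, .fwd 9983],
   .loop (some (8, 1)) [.fwd 721, .fwd 715, .fwd 9972],
   .define,
   .define,
   .define,
   .define,
   .define,
   .loop (some (19, 5)) [.fwd 9979, .fwd 9986, .fwd 9987, .fwd 9988, .fwd 9989, .fwd 9990],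
   .define,
   .define,
   .define,
   .define,
   .loop (some (21, 5)) [.fwd 9990, .fwd 9991, .fwd 9979, .fwd 6987, .fwd 9992, .fwd 9993, .fwd 9994, .fwd 9995],
   .loop (some (5, 1)) [.fwd 931, .bwd 6992, .bwd 9979],
   .loop (some (8, 1)) [.bwd 4698, .bwd 431, .fwd 9986],
   .define]

theorem just39_len : just39.length = 250 := by decide +kernel

theorem just39_ok : cert.okFacts 9750 just39 = true := by decide +kernel

/-- justifications -/
noncomputable def just40 : List Cert.Just :=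
  [.loop (some (6, 2)) [.fwd 7014, .bwd 9979, .fwd 9999],
   .loop (some (14, 2)) [.bwd 9987, .bwd 9986, .bwd 6988, .fwd 9986],
   .define,
   .define,
   .define,
   .define,
   .define,
   .loop (some (19, 5)) [.bwd 4698, .fwd 10002, .fwd 10003, .fwd 10004, .fwd 10005, .fwd 10006],
   .define,
   .loop (some (7, 2)) [.fwd 760, .fwd 4698, .fwd 10008],
   .define,
   .define,
   .define,
   .loop (some (21, 5)) [.fwd 10006, .fwd 10007, .bwd 4698, .fwd 432, .fwd 4706, .fwd 10010, .fwd 10011, .fwd 10012],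
   .loop (some (8, 1)) [.fwd 9979, .fwd 431, .fwd 10002],
   .define,
   .loop (some (6, 2)) [.fwd 7019, .fwd 4698, .fwd 10015],
   .loop (some (14, 2)) [.bwd 10003, .bwd 10002, .bwd 4699, .fwd 10002],
   .define,
   .define,
   .define,
   .define,
   .define,
   .loop (some (19, 5)) [.bwd 4706, .fwd 10018, .fwd 10019, .fwd 10020, .fwd 10021, .fwd 10022],
   .define,
   .define,
   .define,
   .loop (some (21, 5)) [.fwd 10022, .fwd 10023, .bwd 4706, .bwd 432, .fwd 4698, .fwd 10024, .fwd 10025, .fwd 10026],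
   .loop (some (8, 1)) [.fwd 784, .bwd 7005, .fwd 10018],
   .define,
   .loop (some (6, 2)) [.bwd 433, .fwd 4706, .fwd 10029],
   .loop (some (14, 2)) [.bwd 10019, .bwd 10018, .bwd 4707, .fwd 10018],
   .define,
   .define,
   .define,
   .define,
   .define,
   .loop (some (19, 5)) [.fwd 10030, .fwd 10032, .fwd 10033, .fwd 10034, .fwd 10035, .fwd 10036],
   .loop (some (7, 1)) [.fwd 10016, .bwd 434, .bwd 10030],
   .define,
   .define,
   .define,
   .loop (some (21, 5)) [.fwd 10036, .fwd 10037, .fwd 10030, .fwd 7035, .bwd 10016, .fwd 10039, .fwd 10040, .fwd 10041],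
   .define,
   .loop (some (5, 2)) [.fwd 7494, .bwd 10030, .fwd 10043],
   .define,
   .loop (some (8, 2)) [.bwd 7059, .fwd 10032, .fwd 10045],
   .loop (some (14, 2)) [.bwd 10033, .bwd 10032, .bwd 7061, .fwd 10032],
   .loop (some (15, 0)) [.fwd 7101, .bwd 823, .bwd 6266, .bwd 7059],
   .define,
   .define,
   .define,
   .define,
   .define,
   .loop (some (19, 5)) [.fwd 10016, .fwd 10049, .fwd 10050, .fwd 10051, .fwd 10052, .fwd 10053],
   .define,
   .define,
   .define,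
   .loop (some (21, 5)) [.fwd 10053, .fwd 10054, .fwd 10016, .bwd 7035, .bwd 10030, .fwd 10055, .fwd 10056, .fwd 10057],
   .define,
   .loop (some (5, 2)) [.fwd 7090, .bwd 10016, .fwd 10059],
   .loop (some (8, 1)) [.fwd 10000, .bwd 435, .fwd 10049],
   .loop (some (15, 0)) [.fwd 617, .fwd 618, .fwd 7097, .bwd 435],
   .define,
   .define,
   .define,
   .define,
   .define,
   .loop (some (19, 5)) [.fwd 10000, .fwd 10063, .fwd 10064, .fwd 10065, .fwd 10066, .fwd 10067],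
   .define,
   .loop (some (7, 2)) [.fwd 7097, .bwd 10000, .fwd 10069],
   .define,
   .define,
   .define,
   .define,
   .loop (some (21, 5)) [.fwd 10067, .fwd 10068, .fwd 10000, .fwd 436, .fwd 10071, .fwd 10072, .fwd 10073, .fwd 10074],
   .define,
   .loop (some (5, 2)) [.bwd 7566, .bwd 10000, .fwd 10076],
   .loop (some (8, 1)) [.fwd 10016, .fwd 435, .fwd 10063],
   .loop (some (14, 2)) [.bwd 10064, .bwd 10063, .bwd 7023, .fwd 10063],
   .define,
   .define,
   .define,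
   .define,
   .define,
   .loop (some (19, 5)) [.bwd 10071, .fwd 10080, .fwd 10081, .fwd 10082, .fwd 10083, .fwd 10084],
   .loop (some (7, 1)) [.fwd 10077, .bwd 6959, .fwd 10071],
   .define,
   .define,
   .define,
   .loop (some (21, 5)) [.fwd 10084, .fwd 10085, .bwd 10071, .bwd 436, .bwd 10000, .fwd 10087, .fwd 10088, .fwd 10089],
   .loop (some (5, 1)) [.fwd 10070, .fwd 7565, .fwd 10071],
   .define,
   .loop (some (8, 2)) [.fwd 7102, .fwd 10080, .fwd 10092],
   .loop (some (6, 1)) [.bwd 9992, .bwd 437, .fwd 10071],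
   .loop (some (14, 2)) [.bwd 10081, .bwd 10080, .bwd 7083, .fwd 10080],
   .define,
   .define,
   .define,
   .define,
   .define,
   .loop (some (19, 5)) [.bwd 9992, .fwd 10096, .fwd 10097, .fwd 10098, .fwd 10099, .fwd 10100],
   .loop (some (7, 1)) [.bwd 3135, .bwd 438, .fwd 9992],
   .define,
   .define,
   .define,
   .loop (some (21, 5)) [.fwd 10100, .fwd 10101, .bwd 9992, .bwd 6987, .bwd 9979, .fwd 10103, .fwd 10104, .fwd 10105],
   .loop (some (5, 1)) [.fwd 1693, .fwd 6997, .fwd 9992],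
   .loop (some (8, 1)) [.fwd 1691, .fwd 5224, .fwd 10096],
   .loop (some (14, 2)) [.bwd 10097, .bwd 10096, .bwd 7021, .fwd 10096],
   .define,
   .define,
   .define,
   .define,
   .define,
   .loop (some (19, 5)) [.bwd 3135, .fwd 10110, .fwd 10111, .fwd 10112, .fwd 10113, .fwd 10114],
   .define,
   .define,
   .define,
   .loop (some (21, 5)) [.fwd 10114, .fwd 10115, .bwd 3135, .fwd 3134, .bwd 751, .fwd 10116, .fwd 10117, .fwd 10118],
   .define,
   .loop (some (5, 2)) [.bwd 7757, .fwd 3135, .fwd 10120],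
   .loop (some (8, 1)) [.bwd 9735, .bwd 1749, .bwd 3133, .fwd 10110],
   .loop none [.fwd 10122],
   .loop none [.bwd 10111, .bwd 10123],
   .loop none [.fwd 10110, .bwd 10123],
   .loop (some (14, 2)) [.bwd 10124, .fwd 10125, .bwd 3136, .bwd 10125],
   .define,
   .loop (some (21, 4)) [.bwd 6883, .fwd 465, .bwd 408, .fwd 460, .fwd 5841, .bwd 9532, .bwd 6621, .fwd 10127],
   .define,
   .loop (some (3, 2)) [.bwd 5841, .bwd 5840, .fwd 10129],
   .loop (some (4, 2)) [.bwd 5841, .fwd 4938, .fwd 9731],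
   .define,
   .define,
   .define,
   .define,
   .define,
   .define,
   .define,
   .define,
   .define,
   .define,
   .define,
   .define,
   .define,
   .define,
   .define,
   .define,
   .define,
   .define,
   .define,
   .define,
   .define,
   .define,
   .define,
   .loop (some (22, 29)) [.bwd 5842, .bwd 5841, .bwd 5840, .bwd 7189, .fwd 575, .fwd 704, .bwd 7388, .bwd 7673, .fwd 10132, .fwd 10133, .fwd 10134, .fwd 10135, .fwd 10136, .fwd 10137, .fwd 10138, .fwd 10139, .fwd 10140, .fwd 10141, .fwd 10142, .fwd 10143, .fwd 10144, .fwd 10145, .fwd 10146, .fwd 10147, .fwd 10148, .fwd 10149, .fwd 10150, .fwd 10151, .fwd 10152, .fwd 10153, .fwd 10154],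
   .define,
   .loop (some (3, 2)) [.bwd 6697, .bwd 7135, .fwd 10156],
   .define,
   .loop (some (4, 2)) [.bwd 6697, .fwd 6694, .fwd 10158],
   .define,
   .define,
   .define,
   .define,
   .define,
   .define,
   .define,
   .define,
   .define,
   .define,
   .define,
   .define,
   .define,
   .define,
   .define,
   .define,
   .define,
   .define,
   .define,
   .define,
   .define,
   .define,
   .define,
   .define,
   .define,
   .loop (some (22, 28)) [.bwd 9828, .fwd 7131, .bwd 6697, .bwd 7135, .bwd 7192, .fwd 7296, .fwd 10160, .fwd 10161, .fwd 10162, .fwd 10163, .fwd 10164, .fwd 10165, .fwd 10166, .fwd 10167, .fwd 10168, .fwd 10169, .fwd 10170, .fwd 10171, .fwd 10172, .fwd 10173, .fwd 10174, .fwd 10175, .fwd 10176, .fwd 10177, .fwd 10178, .fwd 10179, .fwd 10180, .fwd 10181, .fwd 10182, .fwd 10183, .fwd 10184],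
   .loop (some (3, 1)) [.bwd 9833, .bwd 6763, .bwd 7145],
   .loop (some (4, 1)) [.bwd 9828, .bwd 6763, .fwd 6759],
   .define,
   .define,
   .define,
   .define,
   .define,
   .define,
   .define,
   .define,
   .define,
   .define,
   .define,
   .define,
   .define,
   .define,
   .define,
   .define,
   .define,
   .define,
   .define,
   .define,
   .define,
   .define,
   .loop (some (22, 28)) [.fwd 10159, .bwd 7131, .bwd 6763, .bwd 7145, .bwd 7208, .fwd 7298, .bwd 644, .bwd 7580, .fwd 8321, .fwd 10188, .fwd 10189, .fwd 10190, .fwd 10191, .fwd 10192, .fwd 10193, .fwd 10194, .fwd 10195, .fwd 10196, .fwd 10197, .fwd 10198, .fwd 10199, .fwd 10200, .fwd 10201, .fwd 10202, .fwd 10203, .fwd 10204, .fwd 10205, .fwd 10206, .fwd 10207, .fwd 10208, .fwd 10209],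
   .define,
   .define,
   .loop (some (21, 4)) [.bwd 5841, .fwd 461, .fwd 462, .fwd 463, .bwd 478, .bwd 9807, .fwd 10211, .fwd 10212],
   .define,
   .define,
   .define,
   .define,
   .define,
   .define,
   .define,
   .define,
   .define,
   .define,
   .define,
   .define,
   .define,
   .define,
   .define,
   .define,
   .define,
   .define,
   .define,
   .define,
   .define,
   .define,
   .define,
   .define,
   .loop (some (22, 27)) [.fwd 9799, .fwd 6933, .bwd 6929, .fwd 478, .bwd 7159, .bwd 7219, .fwd 7301, .fwd 10214, .fwd 10215, .fwd 10216, .fwd 10217, .fwd 10218, .fwd 10219, .fwd 10220, .fwd 10221, .fwd 10222, .fwd 10223, .fwd 10224, .fwd 10225, .fwd 10226, .fwd 10227, .fwd 10228, .fwd 10229, .fwd 10230, .fwd 10231, .fwd 10232, .fwd 10233, .fwd 10234, .fwd 10235, .fwd 10236, .fwd 10237],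
   .loop (some (21, 2)) [.fwd 5889, .fwd 6749, .bwd 6697, .fwd 462, .fwd 463, .fwd 464, .fwd 6883, .fwd 9800],
   .define,
   .loop (some (3, 2)) [.bwd 6883, .fwd 6930, .fwd 10240],
   .loop (some (4, 1)) [.fwd 10155, .bwd 6883, .fwd 6881],
   .define,
   .define,
   .define,
   .define,
   .define,
   .define,
   .define]

theorem just40_len : just40.length = 250 := by decide +kernel

theorem just40_ok : cert.okFacts 10000 just40 = true := by decide +kernel

/-- justifications -/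
noncomputable def just41 : List Cert.Just :=
  [.define,
   .define,
   .define,
   .define,
   .define,
   .define,
   .define,
   .define,
   .define,
   .define,
   .define,
   .define,
   .define,
   .define,
   .define,
   .define,
   .define,
   .loop (some (22, 27)) [.bwd 9926, .fwd 10131, .fwd 5842, .bwd 6883, .fwd 6930, .fwd 7184, .fwd 7308, .fwd 10243, .fwd 10244, .fwd 10245, .fwd 10246, .fwd 10247, .fwd 10248, .fwd 10249, .fwd 10250, .fwd 10251, .fwd 10252, .fwd 10253, .fwd 10254, .fwd 10255, .fwd 10256, .fwd 10257, .fwd 10258, .fwd 10259, .fwd 10260, .fwd 10261, .fwd 10262, .fwd 10263, .fwd 10264, .fwd 10265, .fwd 10266],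
   .define,
   .define,
   .loop (some (21, 5)) [.fwd 9403, .fwd 7177, .fwd 1748, .fwd 1767, .bwd 1811, .bwd 5601, .fwd 10268, .fwd 10269],
   .loop (some (5, 2)) [.fwd 7171, .bwd 1748, .fwd 9726],
   .define,
   .loop (some (21, 4)) [.bwd 10187, .bwd 7154, .fwd 7153, .fwd 6923, .fwd 5350, .fwd 5351, .fwd 9860, .fwd 10272],
   .loop (some (3, 2)) [.fwd 9799, .bwd 5350, .fwd 5342, .fwd 9721],
   .loop none [.bwd 10274],
   .loop none [.bwd 9799, .bwd 10275],
   .loop none [.fwd 9798, .bwd 10275],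
   .loop none [.fwd 9721, .fwd 10275, .bwd 10238],
   .loop none [.fwd 10278],
   .loop none [.bwd 7175, .fwd 10279, .bwd 10237],
   .loop none [.fwd 10280],
   .loop none [.fwd 8341, .fwd 10281, .bwd 10236],
   .loop none [.fwd 10282],
   .loop none [.fwd 8350, .fwd 10283, .bwd 10235],
   .loop none [.fwd 10284],
   .loop none [.fwd 8384, .fwd 10285, .bwd 10234],
   .loop none [.fwd 10286],
   .loop none [.bwd 3299, .fwd 10287, .bwd 10233],
   .loop none [.fwd 10288],
   .loop none [.fwd 10232, .bwd 10289],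
   .define,
   .define,
   .define,
   .define,
   .define,
   .define,
   .define,
   .define,
   .define,
   .define,
   .define,
   .define,
   .define,
   .define,
   .define,
   .define,
   .define,
   .define,
   .define,
   .define,
   .define,
   .define,
   .define,
   .define,
   .define,
   .loop (some (22, 28)) [.fwd 9805, .fwd 7176, .bwd 5350, .fwd 5342, .bwd 1747, .bwd 1712, .fwd 10291, .fwd 10292, .fwd 10293, .fwd 10294, .fwd 10295, .fwd 10296, .fwd 10297, .fwd 10298, .fwd 10299, .fwd 10300, .fwd 10301, .fwd 10302, .fwd 10303, .fwd 10304, .fwd 10305, .fwd 10306, .fwd 10307, .fwd 10308, .fwd 10309, .fwd 10310, .fwd 10311, .fwd 10312, .fwd 10313, .fwd 10314, .fwd 10315],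
   .define,
   .loop (some (19, 3)) [.fwd 9807, .bwd 477, .bwd 476, .bwd 6685, .bwd 6684, .fwd 10317],
   .loop (some (21, 5)) [.bwd 10211, .fwd 9807, .bwd 477, .bwd 476, .bwd 475, .bwd 398, .fwd 5455, .fwd 9685, .fwd 9841],
   .loop none [.bwd 10319],
   .loop none [.fwd 10211, .bwd 10320],
   .loop none [.bwd 9842, .fwd 10320, .fwd 10212],
   .loop none [.fwd 10322],
   .loop none [.bwd 10213, .bwd 10323],
   .loop (some (20, 5)) [.fwd 9762, .fwd 9734, .fwd 5902, .bwd 5891, .bwd 6929, .bwd 7163, .bwd 9832, .bwd 9831],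
   .loop (some (15, 0)) [.bwd 9803, .bwd 9802, .fwd 6844, .fwd 5518],
   .define,
   .define,
   .loop (some (17, 4)) [.bwd 7178, .fwd 7180, .fwd 7231, .fwd 7359, .fwd 10328],
   .loop (some (21, 5)) [.fwd 10318, .fwd 9807, .bwd 477, .fwd 5887, .fwd 5888, .bwd 10239, .fwd 9801, .fwd 6818],
   .loop (some (20, 5)) [.fwd 9893, .fwd 9894, .bwd 7178, .bwd 6940, .bwd 6942, .fwd 7178, .bwd 9894, .bwd 9893],
   .loop (some (3, 2)) [.bwd 5887, .fwd 7180, .fwd 9910],
   .define,
   .loop (some (14, 2)) [.fwd 6685, .fwd 476, .bwd 9857, .fwd 10333],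
   .define,
   .loop (some (0, 1)) [.fwd 9857, .fwd 10335],
   .loop (some (13, 1)) [.fwd 9222, .bwd 5887, .bwd 9857],
   .loop (some (4, 2)) [.bwd 5887, .fwd 7178, .fwd 9728],
   .define,
   .define,
   .define,
   .define,
   .define,
   .define,
   .define,
   .define,
   .define,
   .define,
   .define,
   .define,
   .define,
   .define,
   .define,
   .define,
   .define,
   .define,
   .define,
   .define,
   .define,
   .define,
   .define,
   .define,
   .define,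
   .define,
   .define,
   .loop (some (22, 29)) [.bwd 9848, .bwd 5887, .fwd 7180, .fwd 7231, .fwd 10339, .fwd 10340, .fwd 10341, .fwd 10342, .fwd 10343, .fwd 10344, .fwd 10345, .fwd 10346, .fwd 10347, .fwd 10348, .fwd 10349, .fwd 10350, .fwd 10351, .fwd 10352, .fwd 10353, .fwd 10354, .fwd 10355, .fwd 10356, .fwd 10357, .fwd 10358, .fwd 10359, .fwd 10360, .fwd 10361, .fwd 10362, .fwd 10363, .fwd 10364, .fwd 10365],
   .define,
   .loop (some (11, 2)) [.bwd 7178, .bwd 9857, .fwd 10367],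
   .loop (some (15, 0)) [.bwd 9845, .bwd 9844, .bwd 6939, .bwd 6942],
   .define,
   .loop (some (10, 2)) [.bwd 7180, .bwd 9857, .fwd 10370],
   .define,
   .loop (some (17, 3)) [.fwd 9790, .fwd 7163, .bwd 7162, .bwd 7222, .bwd 7310],
   .define,
   .loop (some (7, 2)) [.fwd 7163, .bwd 9807, .fwd 10374],
   .define,
   .loop (some (6, 2)) [.fwd 7162, .bwd 9807, .fwd 10376],
   .define,
   .define,
   .define,
   .define,
   .define,
   .define,
   .define,
   .define,
   .define,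
   .define,
   .define,
   .define,
   .define,
   .define,
   .define,
   .define,
   .define,
   .define,
   .loop (some (22, 21)) [.bwd 9043, .bwd 6604, .fwd 3582, .bwd 4530, .bwd 4532, .fwd 8508, .fwd 4358, .bwd 5557, .bwd 6825, .bwd 478, .bwd 7162, .bwd 7222, .fwd 9401, .fwd 10378, .fwd 10379, .fwd 10380, .fwd 10381, .fwd 10382, .fwd 10383, .fwd 10384, .fwd 10385, .fwd 10386, .fwd 10387, .fwd 10388, .fwd 10389, .fwd 10390, .fwd 10391, .fwd 10392, .fwd 10393, .fwd 10394, .fwd 10395],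
   .loop (some (11, 2)) [.fwd 7163, .bwd 6946, .bwd 10159],
   .loop (some (15, 0)) [.fwd 9805, .fwd 7176, .fwd 6933, .bwd 6929],
   .loop (some (10, 2)) [.fwd 7162, .bwd 6946, .bwd 10157],
   .define,
   .define,
   .loop (some (21, 4)) [.bwd 10186, .fwd 501, .fwd 502, .fwd 503, .fwd 1878, .fwd 1879, .fwd 9851, .fwd 10401],
   .define,
   .define,
   .define,
   .define,
   .loop (some (20, 6)) [.fwd 649, .bwd 504, .fwd 516, .bwd 8453, .fwd 10403, .fwd 10404, .fwd 10405, .fwd 10406],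
   .loop (some (5, 2)) [.fwd 9710, .bwd 516, .bwd 503, .fwd 9682],
   .loop none [.bwd 10408],
   .loop none [.bwd 9710, .bwd 10409],
   .loop none [.fwd 9709, .bwd 10409],
   .loop (some (1, 2)) [.fwd 9797, .bwd 1878, .fwd 516, .fwd 9717],
   .loop none [.bwd 10412],
   .loop none [.bwd 9797, .bwd 10413],
   .loop none [.fwd 9925, .bwd 10413],
   .define,
   .define,
   .define,
   .define,
   .define,
   .define,
   .define,
   .define,
   .define,
   .define,
   .define,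
   .define,
   .define,
   .define,
   .loop (some (22, 23)) [.bwd 8299, .bwd 8317, .fwd 8327, .bwd 1753, .fwd 7310, .fwd 7222, .fwd 7183, .bwd 1878, .bwd 489, .fwd 473, .bwd 5448, .fwd 6639, .fwd 9274, .fwd 8352, .bwd 5075, .fwd 8875, .bwd 3301, .fwd 10416, .fwd 10417, .fwd 10418, .fwd 10419, .fwd 10420, .fwd 10421, .fwd 10422, .fwd 10423, .fwd 10424, .fwd 10425, .fwd 10426, .fwd 10427, .fwd 10428, .fwd 10429],
   .define,
   .define,
   .define,
   .loop (some (21, 4)) [.bwd 10240, .fwd 503, .fwd 490, .fwd 498, .fwd 10129, .fwd 10431, .fwd 10432, .fwd 10433],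
   .define,
   .define,
   .loop (some (20, 5)) [.bwd 638, .bwd 575, .fwd 7189, .fwd 6629, .bwd 8476, .fwd 5713, .fwd 10435, .fwd 10436],
   .define,
   .loop (some (18, 4)) [.bwd 10129, .fwd 518, .bwd 7111, .bwd 7165, .fwd 10240],
   .loop (some (13, 2)) [.bwd 10129, .bwd 7161, .bwd 509],
   .loop (some (4, 2)) [.bwd 10129, .bwd 7189, .fwd 8333],
   .define,
   .define,
   .define,
   .define,
   .define,
   .define,
   .define,
   .define,
   .define,
   .define,
   .define,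
   .define,
   .define,
   .define,
   .define,
   .define,
   .define,
   .define,
   .define,
   .define,
   .loop (some (22, 29)) [.fwd 10439, .bwd 10129, .fwd 5840, .fwd 4938, .fwd 4927, .fwd 5175, .bwd 6914, .bwd 7357, .fwd 5472, .bwd 8934, .bwd 3442, .fwd 10442, .fwd 10443, .fwd 10444, .fwd 10445, .fwd 10446, .fwd 10447, .fwd 10448, .fwd 10449, .fwd 10450, .fwd 10451, .fwd 10452, .fwd 10453, .fwd 10454, .fwd 10455, .fwd 10456, .fwd 10457, .fwd 10458, .fwd 10459, .fwd 10460, .fwd 10461],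
   .define,
   .loop (some (15, 1)) [.fwd 3604, .bwd 3522, .bwd 518, .fwd 10463],
   .define,
   .define,
   .define,
   .define,
   .loop (some (21, 4)) [.bwd 1878, .fwd 490, .fwd 498, .fwd 499, .fwd 10156, .fwd 10466, .fwd 10467, .fwd 10468],
   .define,
   .define,
   .define,
   .define,
   .loop (some (20, 6)) [.bwd 7296, .fwd 7192, .fwd 7134, .bwd 9496, .fwd 10470, .fwd 10471, .fwd 10472, .fwd 10473],
   .define,
   .loop (some (1, 2)) [.bwd 10156, .fwd 7134, .fwd 10475],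
   .loop (some (18, 4)) [.bwd 10156, .fwd 7136, .fwd 3524, .bwd 7202, .fwd 10186],
   .loop (some (4, 2)) [.bwd 10156, .bwd 7192, .fwd 9572],
   .define,
   .define,
   .define,
   .define,
   .define,
   .define,
   .define,
   .define,
   .define,
   .define,
   .define,
   .define,
   .define,
   .define,
   .define,
   .define,
   .define,
   .define,
   .define,
   .define,
   .loop (some (22, 29)) [.fwd 10477, .bwd 10156, .fwd 7135, .fwd 6694, .fwd 4971, .fwd 6891, .bwd 9331, .fwd 8374, .bwd 5034, .fwd 8928, .bwd 3399, .fwd 10479, .fwd 10480, .fwd 10481, .fwd 10482, .fwd 10483, .fwd 10484, .fwd 10485, .fwd 10486, .fwd 10487, .fwd 10488, .fwd 10489, .fwd 10490, .fwd 10491, .fwd 10492, .fwd 10493, .fwd 10494, .fwd 10495, .fwd 10496, .fwd 10497, .fwd 10498]]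

theorem just41_len : just41.length = 250 := by decide +kernel

theorem just41_ok : cert.okFacts 10250 just41 = true := by decide +kernel

/-- justifications -/
noncomputable def just42 : List Cert.Just :=
  [.loop (some (15, 0)) [.fwd 9827, .bwd 9049, .bwd 7254, .bwd 7136],
   .loop (some (21, 1)) [.bwd 6705, .bwd 1873, .bwd 1872, .fwd 422, .fwd 498, .fwd 499, .fwd 500, .fwd 10186],
   .define,
   .define,
   .define,
   .define,
   .loop (some (20, 6)) [.bwd 7298, .fwd 7208, .fwd 7144, .bwd 9430, .fwd 10502, .fwd 10503, .fwd 10504, .fwd 10505],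
   .define,
   .loop (some (4, 2)) [.fwd 10499, .bwd 10186, .bwd 7208, .fwd 9565],
   .loop none [.bwd 10508],
   .loop none [.fwd 10498, .bwd 10509],
   .loop none [.bwd 10499, .bwd 10509],
   .define,
   .define,
   .define,
   .define,
   .define,
   .define,
   .define,
   .define,
   .define,
   .define,
   .define,
   .define,
   .define,
   .define,
   .define,
   .define,
   .define,
   .define,
   .define,
   .loop (some (22, 28)) [.fwd 10478, .bwd 10477, .bwd 10186, .fwd 7145, .fwd 6759, .fwd 5010, .fwd 6813, .bwd 9366, .fwd 9367, .fwd 8395, .bwd 8880, .bwd 4399, .fwd 10512, .fwd 10513, .fwd 10514, .fwd 10515, .fwd 10516, .fwd 10517, .fwd 10518, .fwd 10519, .fwd 10520, .fwd 10521, .fwd 10522, .fwd 10523, .fwd 10524, .fwd 10525, .fwd 10526, .fwd 10527, .fwd 10528, .fwd 10529, .fwd 10530],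
   .define,
   .loop (some (15, 1)) [.bwd 9047, .fwd 9030, .bwd 7202, .fwd 10532],
   .loop (some (9, 2)) [.bwd 7144, .bwd 7149, .fwd 9682],
   .define,
   .define,
   .define,
   .loop (some (21, 4)) [.bwd 10129, .fwd 499, .fwd 500, .fwd 501, .bwd 509, .bwd 10377, .fwd 10536, .fwd 10537],
   .define,
   .define,
   .define,
   .define,
   .loop (some (20, 6)) [.bwd 7301, .fwd 7219, .fwd 7158, .bwd 9042, .fwd 10539, .fwd 10540, .fwd 10541, .fwd 10542],
   .loop (some (1, 2)) [.bwd 9898, .fwd 509, .fwd 7158, .bwd 9714],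
   .loop none [.bwd 10544],
   .loop none [.fwd 9898, .bwd 10545],
   .loop none [.bwd 9899, .bwd 10545],
   .define,
   .define,
   .define,
   .define,
   .define,
   .define,
   .define,
   .define,
   .define,
   .define,
   .define,
   .define,
   .define,
   .define,
   .loop (some (22, 23)) [.fwd 8293, .bwd 8315, .fwd 1712, .fwd 1812, .fwd 7228, .fwd 7187, .bwd 7183, .fwd 509, .fwd 7159, .fwd 6824, .fwd 5052, .fwd 6773, .bwd 9313, .fwd 9314, .bwd 4906, .bwd 8976, .bwd 4461, .fwd 10548, .fwd 10549, .fwd 10550, .fwd 10551, .fwd 10552, .fwd 10553, .fwd 10554, .fwd 10555, .fwd 10556, .fwd 10557, .fwd 10558, .fwd 10559, .fwd 10560, .fwd 10561],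
   .define,
   .loop (some (15, 1)) [.bwd 9045, .fwd 9022, .fwd 7214, .fwd 10563],
   .define,
   .define,
   .define,
   .define,
   .loop (some (21, 4)) [.bwd 10156, .fwd 500, .fwd 501, .fwd 502, .fwd 10240, .fwd 10566, .fwd 10567, .fwd 10568],
   .define,
   .define,
   .define,
   .define,
   .define,
   .loop (some (20, 6)) [.bwd 7308, .bwd 7184, .fwd 9682, .fwd 10570, .fwd 10571, .fwd 10572, .fwd 10573, .fwd 10574],
   .define,
   .loop (some (13, 2)) [.bwd 10240, .bwd 7168, .fwd 1878],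
   .loop (some (4, 2)) [.fwd 10462, .bwd 10240, .fwd 7184, .fwd 9360],
   .loop none [.bwd 10578],
   .loop none [.fwd 10461, .bwd 10579],
   .loop none [.bwd 10462, .bwd 10579],
   .define,
   .define,
   .define,
   .define,
   .define,
   .define,
   .define,
   .define,
   .define,
   .define,
   .define,
   .define,
   .define,
   .define,
   .define,
   .define,
   .define,
   .define,
   .define,
   .loop (some (22, 28)) [.fwd 10441, .bwd 10439, .bwd 10240, .bwd 6930, .fwd 6881, .fwd 5086, .fwd 6707, .bwd 9324, .fwd 9325, .bwd 4959, .fwd 9252, .bwd 4502, .fwd 10582, .fwd 10583, .fwd 10584, .fwd 10585, .fwd 10586, .fwd 10587, .fwd 10588, .fwd 10589, .fwd 10590, .fwd 10591, .fwd 10592, .fwd 10593, .fwd 10594, .fwd 10595, .fwd 10596, .fwd 10597, .fwd 10598, .fwd 10599, .fwd 10600],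
   .loop (some (15, 0)) [.fwd 10396, .bwd 9043, .fwd 7261, .bwd 7165],
   .loop (some (9, 2)) [.bwd 9682, .bwd 7168, .fwd 516],
   .define,
   .define,
   .define,
   .loop (some (16, 3)) [.bwd 1756, .bwd 580, .fwd 573, .fwd 10605, .fwd 10606],
   .define,
   .define,
   .loop (some (21, 4)) [.bwd 9565, .fwd 555, .fwd 556, .fwd 557, .fwd 1853, .fwd 1854, .fwd 10608, .fwd 10609],
   .define,
   .define,
   .loop (some (20, 3)) [.bwd 3593, .bwd 3575, .bwd 8864, .fwd 3529, .fwd 504, .fwd 573, .fwd 10611, .fwd 10612],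
   .define,
   .loop (some (5, 2)) [.bwd 573, .bwd 557, .fwd 10614],
   .define,
   .loop (some (1, 2)) [.bwd 1853, .fwd 573, .fwd 10616],
   .loop (some (18, 2)) [.bwd 9809, .fwd 9708, .bwd 1853, .bwd 649, .fwd 9765],
   .loop (some (13, 2)) [.bwd 1853, .bwd 7229, .fwd 9565],
   .loop (some (15, 0)) [.fwd 10405, .fwd 10406, .fwd 10407, .fwd 649],
   .define,
   .loop (some (9, 2)) [.bwd 573, .bwd 7229, .fwd 10621],
   .define,
   .define,
   .define,
   .loop (some (19, 3)) [.fwd 10377, .bwd 508, .bwd 507, .fwd 10623, .fwd 10624, .fwd 10625],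
   .define,
   .loop (some (21, 4)) [.bwd 10536, .fwd 10377, .bwd 508, .bwd 507, .bwd 506, .bwd 1877, .bwd 6889, .fwd 10627],
   .define,
   .define,
   .define,
   .define,
   .define,
   .loop (some (20, 6)) [.bwd 6956, .fwd 6955, .bwd 9924, .fwd 10629, .fwd 10630, .fwd 10631, .fwd 10632, .fwd 10633],
   .loop (some (5, 2)) [.bwd 9712, .fwd 9924, .fwd 507, .fwd 9836],
   .loop none [.fwd 10635],
   .loop none [.fwd 9836, .bwd 10636],
   .loop (some (8, 1)) [.fwd 9907, .fwd 6943, .fwd 10623],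
   .loop (some (14, 2)) [.bwd 10624, .bwd 10623, .bwd 6952, .bwd 9912],
   .define,
   .define,
   .define,
   .define,
   .define,
   .define,
   .define,
   .define,
   .define,
   .define,
   .define,
   .define,
   .define,
   .define,
   .define,
   .define,
   .define,
   .define,
   .define,
   .define,
   .loop (some (22, 24)) [.bwd 7961, .fwd 7962, .fwd 4368, .bwd 7873, .fwd 7874, .fwd 1930, .fwd 506, .fwd 5899, .bwd 5902, .bwd 9734, .bwd 9733, .fwd 10640, .fwd 10641, .fwd 10642, .fwd 10643, .fwd 10644, .fwd 10645, .fwd 10646, .fwd 10647, .fwd 10648, .fwd 10649, .fwd 10650, .fwd 10651, .fwd 10652, .fwd 10653, .fwd 10654, .fwd 10655, .fwd 10656, .fwd 10657, .fwd 10658, .fwd 10659],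
   .define,
   .loop (some (15, 1)) [.bwd 8416, .fwd 8415, .fwd 6943, .fwd 10661],
   .define,
   .loop (some (9, 2)) [.fwd 9924, .bwd 6952, .fwd 10663],
   .define,
   .define,
   .define,
   .loop (some (21, 5)) [.fwd 10626, .fwd 10377, .bwd 508, .fwd 9910, .fwd 9911, .fwd 10665, .fwd 10666, .fwd 10667],
   .define,
   .define,
   .define,
   .define,
   .define,
   .loop (some (20, 6)) [.bwd 10339, .bwd 7231, .bwd 10637, .fwd 10669, .fwd 10670, .fwd 10671, .fwd 10672, .fwd 10673],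
   .define,
   .loop (some (1, 2)) [.bwd 9910, .bwd 10637, .fwd 10675],
   .define,
   .define,
   .loop (some (18, 4)) [.bwd 9910, .fwd 7182, .fwd 9851, .fwd 10677, .fwd 10678],
   .define,
   .loop (some (14, 2)) [.bwd 10623, .fwd 507, .bwd 10371, .fwd 10680],
   .define,
   .loop (some (0, 1)) [.fwd 10371, .fwd 10682],
   .define,
   .loop (some (13, 2)) [.bwd 9910, .bwd 10371, .fwd 10684],
   .define,
   .loop (some (4, 2)) [.bwd 9910, .fwd 7231, .fwd 10686],
   .define,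
   .define,
   .define,
   .define,
   .define,
   .define,
   .define,
   .define,
   .define,
   .define,
   .define,
   .define,
   .define,
   .define,
   .define,
   .define,
   .define,
   .define,
   .define,
   .define,
   .define,
   .define,
   .define,
   .define,
   .define,
   .define,
   .loop (some (22, 29)) [.fwd 10679, .bwd 9910, .bwd 7180, .fwd 7178, .bwd 9894, .fwd 10688, .fwd 10689, .fwd 10690, .fwd 10691, .fwd 10692, .fwd 10693, .fwd 10694, .fwd 10695, .fwd 10696, .fwd 10697, .fwd 10698, .fwd 10699, .fwd 10700, .fwd 10701, .fwd 10702, .fwd 10703, .fwd 10704, .fwd 10705, .fwd 10706, .fwd 10707, .fwd 10708, .fwd 10709, .fwd 10710, .fwd 10711, .fwd 10712, .fwd 10713],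
   .define,
   .loop (some (11, 2)) [.bwd 7231, .bwd 10371, .fwd 10715],
   .define,
   .loop (some (15, 1)) [.bwd 9862, .fwd 8418, .bwd 7182, .fwd 10717],
   .define,
   .loop (some (9, 2)) [.fwd 10637, .bwd 10371, .fwd 10719],
   .define,
   .define,
   .loop (some (7, 2)) [.fwd 7222, .bwd 10377, .fwd 10722],
   .define,
   .loop (some (21, 5)) [.fwd 10625, .fwd 10626, .fwd 10377, .fwd 509, .bwd 501, .fwd 10186, .fwd 10501, .fwd 10724],
   .define,
   .define,
   .define,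
   .define,
   .loop (some (20, 5)) [.fwd 6728, .bwd 9401, .fwd 7222, .bwd 10546, .fwd 10726, .fwd 10727, .fwd 10728, .fwd 10729],
   .define,
   .loop (some (5, 2)) [.fwd 10546, .bwd 10377, .fwd 10731],
   .loop (some (14, 2)) [.fwd 6952, .fwd 507, .fwd 508, .bwd 10399, .bwd 10569],
   .loop none [.fwd 10733],
   .loop none [.fwd 9912, .fwd 10734, .bwd 10568],
   .loop none [.fwd 10735],
   .loop none [.bwd 10569, .bwd 10734],
   .loop none [.bwd 10665, .fwd 10736, .bwd 10567],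
   .loop none [.bwd 10738],
   .loop none [.fwd 10665, .bwd 10739],
   .loop none [.bwd 10666, .bwd 10739],
   .define,
   .define,
   .define,
   .define,
   .define,
   .define,
   .define,
   .define]

theorem just42_len : just42.length = 250 := by decide +kernel

theorem just42_ok : cert.okFacts 10500 just42 = true := by decide +kernel

/-- justifications -/
noncomputable def just43 : List Cert.Just :=
  [.define,
   .define,
   .define,
   .define,
   .define,
   .define,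
   .define,
   .define,
   .define,
   .define,
   .define,
   .define,
   .loop (some (22, 23)) [.fwd 8141, .bwd 8125, .bwd 6612, .bwd 8539, .bwd 9041, .fwd 9022, .fwd 7214, .bwd 509, .fwd 7162, .bwd 7163, .bwd 9832, .fwd 10742, .fwd 10743, .fwd 10744, .fwd 10745, .fwd 10746, .fwd 10747, .fwd 10748, .fwd 10749, .fwd 10750, .fwd 10751, .fwd 10752, .fwd 10753, .fwd 10754, .fwd 10755, .fwd 10756, .fwd 10757, .fwd 10758, .fwd 10759, .fwd 10760, .fwd 10761],
   .loop (some (15, 0)) [.fwd 9707, .fwd 9708, .fwd 7187, .bwd 7183],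
   .loop (some (9, 2)) [.fwd 10546, .bwd 10399, .bwd 10476],
   .define,
   .define,
   .define,
   .define,
   .define,
   .define,
   .loop (some (19, 5)) [.fwd 3574, .fwd 10766, .fwd 10767, .fwd 10768, .fwd 10769, .fwd 10770],
   .loop (some (21, 5)) [.fwd 10770, .fwd 10771, .fwd 3574, .fwd 5753, .bwd 6569, .bwd 5753, .bwd 3574, .bwd 10771],
   .loop (some (8, 1)) [.bwd 4714, .bwd 512, .fwd 10766],
   .loop (some (14, 2)) [.bwd 10767, .bwd 10766, .bwd 3585, .fwd 10766],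
   .define,
   .define,
   .define,
   .define,
   .define,
   .loop (some (19, 5)) [.bwd 4714, .fwd 10775, .fwd 10776, .fwd 10777, .fwd 10778, .fwd 10779],
   .define,
   .define,
   .define,
   .loop (some (21, 5)) [.fwd 10779, .fwd 10780, .bwd 4714, .bwd 6207, .bwd 6222, .fwd 10781, .fwd 10782, .fwd 10783],
   .loop (some (8, 1)) [.bwd 10435, .fwd 3574, .fwd 512, .fwd 10775],
   .loop none [.fwd 10785],
   .loop none [.bwd 10776, .bwd 10786],
   .loop none [.fwd 10775, .bwd 10786],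
   .loop (some (14, 2)) [.bwd 10787, .fwd 10788, .bwd 4715, .bwd 10788],
   .define,
   .define,
   .define,
   .define,
   .define,
   .loop (some (19, 5)) [.fwd 6039, .fwd 10790, .fwd 10791, .fwd 10792, .fwd 10793, .fwd 10794],
   .define,
   .define,
   .define,
   .loop (some (21, 5)) [.fwd 10794, .fwd 10795, .fwd 6039, .bwd 6046, .bwd 6177, .fwd 10796, .fwd 10797, .fwd 10798],
   .loop (some (8, 1)) [.fwd 10437, .fwd 639, .bwd 514, .fwd 10790],
   .loop none [.fwd 10800],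
   .loop none [.bwd 10791, .bwd 10801],
   .loop none [.fwd 10790, .bwd 10801],
   .define,
   .define,
   .define,
   .define,
   .define,
   .loop (some (19, 5)) [.fwd 639, .fwd 10804, .fwd 10805, .fwd 10806, .fwd 10807, .fwd 10808],
   .define,
   .define,
   .define,
   .loop (some (21, 5)) [.fwd 10808, .fwd 10809, .fwd 639, .bwd 2055, .fwd 2056, .fwd 10810, .fwd 10811, .fwd 10812],
   .define,
   .loop (some (5, 2)) [.fwd 7247, .bwd 639, .fwd 10814],
   .loop (some (8, 1)) [.fwd 6039, .fwd 514, .fwd 10804],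
   .loop (some (7, 1)) [.fwd 10615, .bwd 6903, .bwd 10410],
   .loop (some (18, 5)) [.bwd 9717, .bwd 8453, .fwd 9020, .fwd 9042, .bwd 9714, .fwd 10726],
   .loop none [.fwd 10818],
   .loop none [.bwd 10727, .bwd 10819],
   .loop none [.fwd 10726, .bwd 10819],
   .loop (some (4, 2)) [.bwd 10820, .bwd 9717, .fwd 6903, .fwd 10616],
   .loop none [.bwd 10822],
   .loop none [.fwd 10820, .bwd 10823],
   .loop none [.bwd 10728, .bwd 10823],
   .loop (some (11, 1)) [.fwd 10622, .bwd 6903, .bwd 7188],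
   .loop (some (15, 0)) [.bwd 10405, .bwd 10404, .bwd 10403, .fwd 8453],
   .loop (some (3, 1)) [.fwd 10600, .fwd 10601, .bwd 8333, .fwd 7295],
   .loop none [.bwd 10828],
   .loop none [.bwd 1758, .fwd 10829, .bwd 10599],
   .loop none [.fwd 10830],
   .loop none [.bwd 10600, .bwd 10829],
   .loop none [.fwd 1681, .fwd 10831, .bwd 10598],
   .loop none [.fwd 10833],
   .loop none [.fwd 1670, .fwd 10834, .bwd 10597],
   .loop none [.fwd 10835],
   .loop none [.bwd 1592, .fwd 10836, .bwd 10596],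
   .loop none [.fwd 10837],
   .loop none [.fwd 10595, .bwd 10838],
   .loop (some (3, 1)) [.fwd 10530, .fwd 10531, .bwd 9572, .bwd 7299],
   .loop none [.bwd 10840],
   .loop none [.fwd 7582, .fwd 10841, .bwd 10529],
   .loop none [.fwd 10842],
   .loop none [.bwd 10530, .bwd 10841],
   .loop none [.bwd 7671, .fwd 10843, .bwd 10528],
   .loop none [.fwd 10845],
   .loop none [.bwd 7779, .fwd 10846, .bwd 10527],
   .loop none [.fwd 10847],
   .loop none [.fwd 10526, .bwd 10848],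
   .loop (some (21, 1)) [.fwd 8407, .bwd 1847, .bwd 1846, .bwd 525, .fwd 552, .fwd 553, .fwd 554, .fwd 9565],
   .loop (some (3, 2)) [.bwd 10510, .bwd 9565, .bwd 7304, .fwd 7305],
   .loop none [.bwd 10851],
   .loop none [.fwd 10510, .bwd 10852],
   .loop none [.fwd 7305, .fwd 10852, .bwd 10497],
   .loop none [.fwd 10854],
   .loop none [.fwd 8325, .fwd 10855, .bwd 10496],
   .loop none [.fwd 10856],
   .loop none [.bwd 8320, .fwd 10857, .bwd 10495],
   .loop none [.fwd 10858],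
   .loop none [.bwd 8301, .fwd 10859, .bwd 10494],
   .loop none [.fwd 10860],
   .loop none [.fwd 1648, .fwd 10861, .bwd 10493],
   .loop none [.fwd 10862],
   .loop none [.fwd 10492, .bwd 10863],
   .loop (some (15, 0)) [.fwd 10504, .fwd 10505, .fwd 10506, .bwd 7298],
   .loop (some (9, 2)) [.bwd 10621, .bwd 7218, .fwd 10614],
   .loop (some (18, 2)) [.bwd 10378, .bwd 9401, .fwd 567, .fwd 7301, .fwd 10214],
   .loop (some (3, 1)) [.fwd 10460, .bwd 10580, .bwd 9360, .fwd 7227],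
   .loop none [.bwd 10868],
   .loop none [.fwd 8323, .fwd 10869, .bwd 10459],
   .loop none [.fwd 10870],
   .loop none [.bwd 10460, .bwd 10869],
   .loop none [.bwd 8316, .fwd 10871, .bwd 10458],
   .loop none [.fwd 10873],
   .loop none [.bwd 8295, .fwd 10874, .bwd 10457],
   .loop none [.fwd 10875],
   .loop none [.fwd 10456, .bwd 10876],
   .loop (some (15, 0)) [.fwd 10573, .fwd 10574, .fwd 10575, .bwd 7308],
   .loop (some (9, 2)) [.bwd 10614, .bwd 7225, .fwd 573],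
   .loop (some (6, 2)) [.bwd 559, .bwd 574, .fwd 10605],
   .loop (some (5, 2)) [.bwd 560, .bwd 10880, .fwd 10606],
   .loop (some (7, 1)) [.fwd 10271, .bwd 7331, .bwd 1757],
   .loop (some (2, 2)) [.bwd 5903, .bwd 1839, .fwd 9735],
   .loop (some (8, 2)) [.bwd 10339, .bwd 565, .fwd 6956],
   .loop (some (15, 0)) [.fwd 10672, .fwd 10673, .fwd 10674, .bwd 10339],
   .loop (some (8, 2)) [.bwd 9401, .bwd 566, .fwd 10339],
   .loop (some (14, 1)) [.fwd 7233, .fwd 565, .fwd 566, .bwd 9675],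
   .loop (some (15, 0)) [.fwd 10729, .fwd 10730, .fwd 6728, .bwd 9401],
   .loop (some (10, 2)) [.fwd 7310, .bwd 9675, .bwd 10531],
   .loop (some (7, 1)) [.fwd 10815, .bwd 569, .fwd 4760],
   .loop (some (8, 0)) [.bwd 10611, .fwd 574, .fwd 568],
   .loop (some (8, 0)) [.fwd 10613, .fwd 3594, .bwd 570],
   .loop (some (7, 2)) [.fwd 10809, .bwd 638, .bwd 630, .bwd 10474],
   .loop none [.bwd 10893],
   .loop none [.bwd 10809, .bwd 10894],
   .loop (some (13, 2)) [.bwd 704, .fwd 7389, .fwd 10214],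
   .loop (some (11, 2)) [.bwd 638, .fwd 7389, .bwd 10543],
   .loop (some (6, 1)) [.fwd 9964, .bwd 7096, .bwd 10070],
   .loop (some (6, 1)) [.fwd 9952, .bwd 620, .bwd 10077],
   .loop (some (17, 4)) [.fwd 10407, .bwd 7226, .fwd 8315, .bwd 8293, .bwd 8292],
   .loop (some (7, 3)) [.fwd 10407, .bwd 625, .bwd 515, .fwd 10804],
   .loop none [.fwd 10901],
   .loop none [.fwd 10406, .fwd 10902, .fwd 10816],
   .loop none [.bwd 10903],
   .loop none [.bwd 10805, .bwd 10902],
   .loop none [.fwd 7238, .fwd 10904, .bwd 10405],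
   .loop none [.fwd 10906],
   .loop none [.bwd 10406, .bwd 10904],
   .loop none [.fwd 10827, .bwd 10904],
   .loop none [.fwd 10773, .fwd 10907, .bwd 10404],
   .loop none [.bwd 10910],
   .loop none [.fwd 10620, .bwd 10907],
   .loop none [.bwd 10773, .bwd 10911],
   .loop none [.bwd 10767, .bwd 10911],
   .loop none [.fwd 10766, .bwd 10911],
   .loop none [.bwd 10774, .bwd 10911],
   .loop (some (20, 0)) [.bwd 10611, .bwd 6903, .bwd 8453, .fwd 10403, .fwd 10913, .fwd 7238, .fwd 10908, .fwd 10407],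
   .loop (some (3, 3)) [.bwd 9765, .bwd 7226, .fwd 10291, .fwd 10292],
   .loop none [.fwd 10918],
   .loop none [.bwd 9766, .fwd 10919, .bwd 10292],
   .loop none [.fwd 10920],
   .loop none [.bwd 10293, .bwd 10919],
   .loop none [.fwd 10291, .bwd 10921],
   .loop (some (13, 2)) [.bwd 9765, .fwd 7573, .bwd 644],
   .loop (some (4, 1)) [.bwd 10922, .bwd 9765, .bwd 10407],
   .loop (some (11, 2)) [.fwd 10407, .fwd 7573, .bwd 10506],
   .loop (some (15, 0)) [.bwd 8864, .fwd 3529, .fwd 504, .bwd 649],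
   .loop (some (17, 4)) [.fwd 10575, .bwd 7575, .fwd 8316, .fwd 8295, .bwd 8294],
   .loop (some (7, 3)) [.fwd 10575, .bwd 626, .bwd 10407, .fwd 10905],
   .loop none [.fwd 10929],
   .loop none [.bwd 10806, .bwd 10930],
   .loop (some (3, 1)) [.bwd 10244, .bwd 10243, .bwd 7575],
   .loop (some (13, 2)) [.bwd 10243, .bwd 655, .fwd 9765],
   .loop (some (17, 4)) [.fwd 10543, .bwd 7577, .fwd 8317, .fwd 8299, .bwd 8298],
   .loop (some (7, 3)) [.fwd 10543, .bwd 627, .bwd 10575, .fwd 10931],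
   .loop none [.fwd 10935],
   .loop none [.bwd 10807, .bwd 10936],
   .loop (some (3, 1)) [.bwd 10215, .bwd 10214, .bwd 7577],
   .loop (some (13, 2)) [.bwd 10214, .bwd 7311, .fwd 10160],
   .loop (some (15, 0)) [.fwd 9022, .fwd 7214, .bwd 7219, .fwd 7301],
   .loop (some (17, 4)) [.fwd 10506, .bwd 7579, .fwd 8320, .fwd 8301, .bwd 8300],
   .loop (some (7, 3)) [.fwd 10506, .bwd 628, .bwd 10543, .fwd 10937],
   .loop none [.fwd 10942],
   .loop none [.fwd 10813, .bwd 10943],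
   .loop none [.fwd 10937, .bwd 10943],
   .loop (some (13, 2)) [.fwd 644, .bwd 7574, .fwd 10243],
   .loop (some (4, 2)) [.fwd 644, .bwd 10506, .fwd 10944],
   .loop (some (15, 0)) [.fwd 9030, .bwd 7202, .bwd 7208, .fwd 7298],
   .loop (some (17, 4)) [.fwd 10474, .fwd 7387, .fwd 7671, .fwd 7779, .fwd 8291],
   .loop (some (3, 1)) [.bwd 10161, .bwd 10160, .fwd 7387],
   .loop (some (13, 2)) [.bwd 10160, .bwd 7300, .fwd 704],
   .loop (some (20, 1)) [.fwd 10464, .fwd 3604, .bwd 3522, .bwd 518, .bwd 7189, .fwd 575, .fwd 638, .fwd 10814],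
   .loop (some (2, 2)) [.fwd 10437, .bwd 6005, .bwd 6035],
   .loop (some (12, 2)) [.fwd 10437, .bwd 10897, .bwd 10542],
   .loop (some (15, 0)) [.fwd 5713, .fwd 10435, .fwd 10436, .fwd 10437],
   .loop (some (2, 2)) [.fwd 9970, .fwd 720, .bwd 9985],
   .loop (some (4, 2)) [.bwd 641, .fwd 702, .fwd 10810],
   .loop (some (17, 4)) [.fwd 10957, .bwd 7666, .bwd 7739, .bwd 7754, .bwd 7788],
   .loop (some (7, 1)) [.bwd 10811, .fwd 10957, .fwd 642],
   .loop (some (17, 4)) [.bwd 10959, .fwd 7667, .bwd 8322, .bwd 8314, .fwd 8313],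
   .loop (some (17, 4)) [.fwd 10947, .bwd 7580, .fwd 8321, .fwd 8302, .bwd 8304],
   .loop (some (10, 2)) [.fwd 7580, .bwd 10946, .fwd 10244],
   .loop (some (13, 2)) [.bwd 738, .bwd 7672, .fwd 10938],
   .loop (some (15, 0)) [.fwd 1810, .fwd 6917, .bwd 8332, .fwd 1758],
   .loop (some (7, 1)) [.fwd 10121, .fwd 830, .bwd 1693],
   .loop (some (7, 1)) [.fwd 9984, .fwd 4663, .bwd 931],
   .loop (some (7, 1)) [.bwd 7553, .bwd 670, .bwd 9969],
   .loop (some (5, 1)) [.fwd 9964, .bwd 7569, .fwd 7553],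
   .loop (some (6, 1)) [.fwd 10060, .bwd 7508, .fwd 7512],
   .loop (some (6, 1)) [.fwd 10044, .bwd 681, .fwd 7505],
   .loop (some (7, 1)) [.fwd 10060, .bwd 682, .bwd 10044],
   .loop (some (8, 1)) [.fwd 9962, .bwd 718, .fwd 690],
   .loop (some (8, 1)) [.fwd 9961, .bwd 10972, .fwd 691],
   .loop (some (12, 2)) [.bwd 10972, .bwd 722, .fwd 718],
   .loop (some (8, 1)) [.fwd 9960, .bwd 10973, .fwd 692],
   .loop (some (8, 1)) [.fwd 9959, .bwd 10975, .fwd 693],
   .loop (some (12, 2)) [.bwd 10975, .bwd 7721, .fwd 10972],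
   .loop (some (6, 1)) [.fwd 9977, .bwd 6986, .bwd 9962],
   .loop (some (3, 2)) [.bwd 9953, .fwd 6986, .fwd 10116],
   .loop (some (12, 0)) [.bwd 10975, .fwd 7722, .fwd 718],
   .loop (some (8, 1)) [.fwd 9977, .bwd 750, .fwd 731],
   .loop (some (8, 1)) [.fwd 9976, .bwd 10981, .fwd 732],
   .loop (some (12, 2)) [.bwd 10981, .bwd 755, .fwd 750],
   .loop (some (2, 2)) [.bwd 10982, .fwd 7723, .fwd 10973],
   .loop (some (8, 1)) [.fwd 9975, .bwd 10982, .fwd 733],
   .loop (some (2, 2)) [.bwd 10985, .fwd 7724, .fwd 10975],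
   .loop (some (8, 1)) [.fwd 9974, .bwd 10985, .fwd 734],
   .loop (some (12, 2)) [.bwd 10985, .bwd 7727, .fwd 10981],
   .loop (some (2, 2)) [.bwd 10987, .bwd 7665, .fwd 10976],
   .loop (some (15, 0)) [.fwd 914, .bwd 5970, .fwd 7794, .fwd 858],
   .loop (some (11, 2)) [.fwd 7673, .bwd 10963, .fwd 10216],
   .loop (some (5, 1)) [.fwd 10009, .fwd 7026, .fwd 4637],
   .loop (some (7, 1)) [.fwd 9991, .bwd 9978, .bwd 9977],
   .loop (some (12, 0)) [.bwd 10985, .fwd 7743, .fwd 750],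
   .loop (some (4, 2)) [.bwd 10116, .fwd 9978, .fwd 10103],
   .loop (some (6, 1)) [.fwd 5969, .bwd 7027, .bwd 10009],
   .loop (some (15, 0)) [.fwd 8201, .bwd 8913, .fwd 7797, .bwd 7772],
   .loop (some (6, 1)) [.fwd 10046, .bwd 769, .bwd 784],
   .loop (some (20, 2)) [.bwd 9735, .fwd 1810, .fwd 6917, .bwd 8332, .fwd 1758, .bwd 1681, .fwd 1690, .bwd 10108]]

theorem just43_len : just43.length = 250 := by decide +kernel

theorem just43_ok : cert.okFacts 10750 just43 = true := by decide +kernel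

/-- justifications -/
noncomputable def just44 : List Cert.Just :=
  [.loop (some (13, 1)) [.fwd 10991, .bwd 774, .bwd 8319],
   .loop (some (2, 2)) [.bwd 10132, .bwd 7780, .fwd 10839],
   .loop (some (12, 2)) [.bwd 10132, .bwd 10991, .fwd 10217],
   .loop (some (2, 2)) [.fwd 10028, .fwd 10998, .bwd 10045],
   .loop (some (5, 1)) [.fwd 10023, .bwd 856, .bwd 839],
   .loop (some (1, 2)) [.bwd 916, .fwd 856, .fwd 10010],
   .loop (some (13, 2)) [.bwd 916, .fwd 7786, .fwd 9158],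
   .loop (some (15, 0)) [.bwd 9978, .bwd 750, .bwd 7742, .fwd 785],
   .loop (some (6, 1)) [.fwd 10093, .fwd 1642, .bwd 1691],
   .loop (some (15, 0)) [.fwd 3012, .bwd 1531, .fwd 8224, .fwd 1553],
   .loop (some (5, 3)) [.bwd 834, .bwd 4702, .fwd 10018],
   .loop (some (5, 3)) [.bwd 835, .bwd 11010, .fwd 10019],
   .loop (some (21, 1)) [.bwd 8091, .bwd 902, .bwd 901, .bwd 28, .fwd 834, .fwd 835, .fwd 836, .fwd 9158],
   .loop (some (5, 3)) [.bwd 836, .bwd 11011, .fwd 10020],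
   .loop (some (9, 2)) [.fwd 11013, .bwd 7775, .fwd 11004],
   .loop (some (5, 3)) [.bwd 837, .bwd 11013, .fwd 10021],
   .loop (some (1, 2)) [.fwd 853, .bwd 11015, .bwd 10027],
   .loop (some (9, 2)) [.fwd 11015, .bwd 7796, .bwd 11011],
   .loop (some (15, 0)) [.bwd 10993, .bwd 10981, .bwd 7744, .fwd 7764],
   .loop (some (9, 2)) [.bwd 11004, .bwd 7768, .fwd 856],
   .loop (some (20, 2)) [.fwd 9985, .fwd 736, .bwd 858, .bwd 7794, .fwd 5970, .bwd 914, .fwd 928, .bwd 9998],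
   .loop (some (5, 1)) [.fwd 10007, .bwd 928, .bwd 906],
   .loop (some (1, 2)) [.bwd 850, .fwd 928, .fwd 10024],
   .loop (some (5, 1)) [.bwd 10025, .fwd 11022, .fwd 851],
   .loop (some (6, 1)) [.fwd 10037, .bwd 10029, .bwd 10023],
   .loop (some (3, 2)) [.bwd 10010, .fwd 10029, .fwd 10055],
   .loop (some (0, 2)) [.fwd 11019, .fwd 11014],
   .loop (some (7, 1)) [.fwd 9725, .fwd 1695, .fwd 5253],
   .loop (some (5, 3)) [.bwd 901, .bwd 4694, .fwd 10002],
   .loop (some (5, 3)) [.bwd 902, .bwd 11028, .fwd 10003],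
   .loop (some (5, 3)) [.bwd 903, .bwd 11029, .fwd 10004],
   .loop (some (9, 2)) [.fwd 11030, .bwd 7838, .fwd 11021],
   .loop (some (17, 5)) [.bwd 7833, .bwd 7862, .bwd 7960, .fwd 7961, .bwd 10660],
   .loop (some (5, 3)) [.bwd 904, .bwd 11030, .fwd 10005],
   .loop (some (1, 2)) [.fwd 919, .bwd 11033, .bwd 10013],
   .loop (some (4, 2)) [.fwd 919, .bwd 11032, .bwd 10659],
   .loop (some (9, 2)) [.fwd 11033, .bwd 7830, .bwd 11029],
   .loop (some (7, 2)) [.bwd 8201, .bwd 905, .bwd 11032],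
   .loop (some (9, 2)) [.bwd 11021, .fwd 7837, .fwd 928],
   .loop (some (5, 1)) [.bwd 10011, .fwd 11005, .fwd 917],
   .loop (some (17, 4)) [.fwd 11035, .bwd 7834, .bwd 7863, .bwd 7973, .bwd 8197],
   .loop (some (2, 2)) [.fwd 9998, .fwd 10015, .bwd 10078],
   .loop (some (6, 1)) [.fwd 10054, .bwd 10015, .bwd 10007],
   .loop (some (3, 2)) [.bwd 10024, .fwd 10015, .fwd 10039],
   .loop (some (0, 2)) [.fwd 11038, .fwd 11031],
   .loop (some (15, 0)) [.bwd 736, .bwd 9985, .bwd 11020, .fwd 9998],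
   .loop (some (20, 1)) [.fwd 9916, .fwd 9917, .bwd 5903, .fwd 1852, .bwd 1930, .bwd 7874, .fwd 1120, .bwd 947, .fwd 959],
   .loop none [.bwd 11046],
   .loop none [.bwd 7712, .fwd 11047, .bwd 9915],
   .loop none [.fwd 11048],
   .loop none [.bwd 9916, .bwd 11047],
   .loop none [.fwd 9914, .bwd 11049],
   .loop (some (8, 2)) [.bwd 11050, .bwd 7512, .bwd 7517],
   .loop (some (15, 0)) [.bwd 9949, .bwd 1852, .fwd 5903, .bwd 9917, .bwd 11050],
   .loop none [.bwd 11053],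
   .loop none [.fwd 9949, .bwd 11054],
   .loop (some (8, 0)) [.bwd 11051, .fwd 1016, .fwd 1010],
   .loop (some (20, 0)) [.bwd 11051, .bwd 7712, .fwd 11050, .fwd 9917, .bwd 5903, .fwd 1852, .bwd 1930, .bwd 7874],
   .loop (some (15, 0)) [.fwd 8290, .fwd 2973, .fwd 3012, .bwd 1531],
   .loop (some (15, 0)) [.bwd 8842, .fwd 8854, .fwd 8860, .bwd 9155],
   .loop (some (15, 0)) [.bwd 8597, .fwd 8582, .fwd 8276, .bwd 8247],
   .loop (some (13, 2)) [.bwd 1592, .bwd 8303, .bwd 10430],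
   .loop (some (12, 2)) [.bwd 10839, .bwd 11061, .bwd 10429],
   .loop (some (10, 1)) [.fwd 10991, .bwd 7780, .bwd 11061],
   .loop (some (13, 2)) [.fwd 10562, .bwd 8297, .bwd 1648],
   .loop (some (13, 2)) [.fwd 10430, .bwd 8308, .fwd 10849],
   .loop (some (13, 2)) [.fwd 1648, .bwd 8296, .fwd 10877],
   .loop (some (2, 2)) [.bwd 10864, .bwd 8302, .fwd 10188],
   .loop (some (12, 2)) [.bwd 10864, .bwd 11066, .bwd 10455],
   .loop (some (4, 3)) [.bwd 8315, .bwd 10923, .fwd 9767],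
   .loop (some (4, 3)) [.bwd 8316, .fwd 10932, .fwd 10245],
   .loop (some (13, 2)) [.fwd 1685, .bwd 8306, .bwd 11070],
   .loop (some (4, 3)) [.bwd 7671, .fwd 10950, .fwd 10162],
   .loop (some (12, 2)) [.bwd 10188, .bwd 11071, .fwd 10246],
   .loop (some (10, 1)) [.fwd 11066, .bwd 8302, .bwd 11071],
   .loop (some (2, 2)) [.fwd 10108, .fwd 11008, .bwd 10092],
   .loop (some (13, 2)) [.fwd 10923, .fwd 8324, .bwd 1706],
   .loop (some (13, 2)) [.bwd 10932, .bwd 1713, .bwd 10923],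
   .loop (some (13, 2)) [.bwd 10938, .bwd 7578, .fwd 10950],
   .loop (some (15, 0)) [.fwd 8392, .fwd 9371, .bwd 9566, .bwd 8325],
   .loop (some (13, 2)) [.bwd 10950, .bwd 7584, .fwd 738],
   .loop (some (13, 2)) [.bwd 10832, .bwd 7406, .bwd 1753],
   .loop (some (13, 2)) [.bwd 10844, .bwd 1761, .fwd 10832],
   .loop (some (21, 1)) [.bwd 8404, .bwd 1802, .bwd 1801, .bwd 70, .fwd 1741, .fwd 1742, .fwd 1743, .fwd 7305],
   .loop (some (13, 2)) [.bwd 7305, .bwd 7307, .fwd 10872],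
   .loop (some (4, 2)) [.bwd 10373, .fwd 1753, .fwd 9400, .bwd 10270],
   .loop none [.fwd 11085],
   .loop none [.fwd 9789, .fwd 11086, .fwd 10270],
   .loop none [.bwd 11087],
   .loop none [.fwd 9310, .fwd 11088, .bwd 9788],
   .loop none [.fwd 11089],
   .loop none [.bwd 9789, .bwd 11088],
   .loop none [.fwd 8363, .fwd 11090, .bwd 9787],
   .loop none [.fwd 11092],
   .loop none [.fwd 8356, .fwd 11093, .bwd 9786],
   .loop none [.fwd 11094],
   .loop none [.bwd 8368, .fwd 11095, .bwd 9785],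
   .loop none [.fwd 11096],
   .loop none [.bwd 4459, .fwd 11097, .bwd 9784],
   .loop none [.fwd 11098],
   .loop none [.fwd 9783, .bwd 11099],
   .loop (some (13, 2)) [.bwd 10872, .bwd 7313, .fwd 1812],
   .loop (some (4, 2)) [.bwd 10872, .fwd 7312, .bwd 5877],
   .loop (some (18, 4)) [.bwd 9721, .fwd 7175, .bwd 5544, .bwd 5543, .fwd 9277],
   .loop (some (18, 2)) [.bwd 8971, .fwd 8934, .bwd 5472, .bwd 1750, .fwd 9735, .fwd 9736],
   .loop none [.fwd 11104],
   .loop none [.fwd 5905, .fwd 11105, .fwd 9737],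
   .loop none [.fwd 11106],
   .loop none [.fwd 9736, .bwd 11105],
   .loop none [.bwd 9738, .bwd 11107],
   .loop (some (7, 2)) [.bwd 10268, .bwd 7357, .fwd 1751, .fwd 10328],
   .loop none [.fwd 11110],
   .loop none [.bwd 10329, .bwd 11111],
   .loop none [.fwd 10328, .bwd 11111],
   .loop (some (14, 1)) [.fwd 8335, .fwd 1751, .fwd 1752, .bwd 10889],
   .loop (some (8, 1)) [.fwd 10115, .bwd 1837, .fwd 1802],
   .loop (some (12, 2)) [.bwd 1837, .bwd 8355, .bwd 9948],
   .loop (some (2, 2)) [.bwd 11115, .bwd 8353, .fwd 8401],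
   .loop (some (8, 1)) [.fwd 10114, .bwd 11115, .fwd 1803],
   .loop (some (18, 1)) [.bwd 9254, .bwd 9252, .fwd 4959, .bwd 8404, .fwd 11115],
   .loop (some (2, 2)) [.bwd 11118, .bwd 8356, .fwd 8367],
   .loop (some (8, 2)) [.fwd 10113, .bwd 11118, .fwd 1804, .bwd 9948],
   .loop none [.bwd 11121],
   .loop none [.bwd 10113, .bwd 11122],
   .loop none [.fwd 10112, .bwd 11122],
   .loop (some (18, 2)) [.bwd 9225, .fwd 8976, .fwd 4906, .bwd 8364, .fwd 11118, .bwd 10119],
   .loop none [.fwd 11125],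
   .loop none [.bwd 10119, .bwd 11126],
   .loop none [.fwd 10118, .bwd 11126],
   .loop (some (2, 2)) [.fwd 9948, .bwd 8357, .fwd 8390],
   .loop (some (8, 1)) [.bwd 11124, .fwd 9948, .fwd 1805],
   .loop (some (18, 1)) [.bwd 9166, .fwd 8880, .bwd 8395, .fwd 1815, .bwd 9948],
   .loop (some (12, 2)) [.fwd 9948, .bwd 8354, .fwd 11115],
   .loop (some (2, 2)) [.bwd 11130, .fwd 7350, .fwd 9688],
   .loop (some (7, 2)) [.bwd 9722, .fwd 10277, .fwd 1813, .fwd 9839],
   .loop none [.fwd 11134],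
   .loop none [.bwd 9840, .bwd 11135],
   .loop none [.fwd 9839, .bwd 11135],
   .loop (some (7, 1)) [.fwd 10101, .fwd 10102, .bwd 10115],
   .loop (some (14, 2)) [.fwd 10125, .fwd 3135, .bwd 11116, .fwd 11123],
   .loop (some (4, 2)) [.bwd 6642, .fwd 8380, .bwd 10102, .fwd 9993],
   .loop none [.fwd 11140],
   .loop none [.fwd 9993, .bwd 11141],
   .loop none [.bwd 9994, .bwd 11141],
   .loop (some (11, 2)) [.fwd 10102, .bwd 11116, .bwd 9947],
   .loop (some (12, 2)) [.bwd 8367, .fwd 8410, .fwd 9688],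
   .loop (some (8, 2)) [.fwd 9951, .bwd 8390, .fwd 1850, .fwd 9688],
   .loop none [.bwd 11146],
   .loop none [.bwd 9951, .bwd 11147],
   .loop none [.fwd 9950, .bwd 11147],
   .loop none [.fwd 9956, .bwd 11147],
   .loop (some (18, 2)) [.bwd 3398, .bwd 3397, .fwd 8417, .fwd 9688, .fwd 9689],
   .loop (some (12, 2)) [.fwd 9708, .bwd 10619, .bwd 5923],
   .loop (some (20, 0)) [.fwd 10671, .fwd 10672, .fwd 10673, .fwd 10674, .bwd 10339, .bwd 7231, .fwd 7182, .bwd 8418],
   .loop (some (8, 2)) [.bwd 9862, .bwd 1854, .bwd 9708],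
   .loop (some (4, 2)) [.bwd 10608, .fwd 8418, .fwd 9851],
   .loop (some (8, 2)) [.bwd 8416, .bwd 1855, .fwd 9862],
   .loop (some (1, 1)) [.bwd 10663, .bwd 6771, .fwd 6766],
   .loop (some (1, 2)) [.fwd 9900, .fwd 1881, .fwd 6831, .bwd 9720],
   .loop none [.bwd 11158],
   .loop none [.bwd 9900, .bwd 11159],
   .loop none [.fwd 10547, .bwd 11159],
   .loop (some (21, 2)) [.fwd 10402, .fwd 10501, .bwd 6705, .fwd 1874, .fwd 1875, .fwd 1876, .bwd 6889, .fwd 10627],
   .loop (some (21, 5)) [.fwd 9907, .bwd 1880, .bwd 1879, .bwd 1878, .bwd 503, .fwd 10240, .fwd 10566, .fwd 10741],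
   .loop (some (5, 2)) [.bwd 9718, .fwd 10414, .fwd 1879, .bwd 9838],
   .loop none [.fwd 11164],
   .loop none [.bwd 9838, .bwd 11165],
   .loop (some (8, 1)) [.fwd 10377, .fwd 7183, .bwd 10469],
   .loop (some (14, 2)) [.fwd 10468, .fwd 10469, .bwd 9834, .bwd 10402],
   .loop (some (15, 0)) [.fwd 6728, .bwd 9401, .fwd 7222, .fwd 7183],
   .loop (some (18, 4)) [.bwd 10629, .bwd 9711, .bwd 8449, .fwd 8457, .fwd 8477, .bwd 9720],
   .loop none [.bwd 11170],
   .loop none [.bwd 10630, .bwd 11171],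
   .loop none [.fwd 10629, .bwd 11171],
   .loop (some (15, 0)) [.fwd 9917, .bwd 5903, .fwd 1852, .bwd 1930],
   .loop (some (21, 2)) [.bwd 10914, .fwd 10915, .fwd 5753, .fwd 6569, .fwd 6569, .fwd 6569, .bwd 5753, .bwd 3574],
   .loop (some (15, 0)) [.fwd 8689, .fwd 6392, .fwd 6449, .bwd 2335],
   .loop (some (3, 2)) [.bwd 6123, .fwd 6176, .fwd 10796],
   .loop (some (6, 1)) [.fwd 10795, .bwd 6110, .fwd 6114],
   .loop (some (15, 0)) [.fwd 10967, .bwd 1668, .bwd 8292, .bwd 6112],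
   .loop (some (15, 0)) [.fwd 8263, .fwd 9155, .bwd 8860, .bwd 8854],
   .loop (some (8, 1)) [.bwd 9685, .bwd 5117, .bwd 6819],
   .loop (some (21, 8)) [.fwd 6637, .bwd 1872, .fwd 422, .bwd 490, .bwd 503, .fwd 10240, .bwd 10434, .bwd 10433],
   .loop (some (6, 1)) [.bwd 6620, .fwd 3297, .bwd 11182],
   .loop (some (17, 3)) [.fwd 10231, .bwd 10290, .fwd 8874, .bwd 5074, .bwd 5073],
   .loop (some (4, 1)) [.bwd 10416, .bwd 3300, .fwd 10290],
   .loop (some (11, 2)) [.bwd 10290, .bwd 8872, .bwd 10662],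
   .loop (some (5, 1)) [.bwd 9800, .fwd 6885, .fwd 9685],
   .loop (some (6, 1)) [.bwd 10627, .bwd 3395, .fwd 9685],
   .loop (some (15, 0)) [.bwd 10290, .bwd 3299, .bwd 3298, .bwd 6888],
   .loop (some (2, 1)) [.bwd 9690, .fwd 11151, .fwd 3399],
   .loop (some (12, 2)) [.fwd 11151, .bwd 8930, .bwd 7347],
   .loop (some (11, 2)) [.bwd 10479, .bwd 8930, .fwd 10442],
   .loop (some (18, 1)) [.bwd 11130, .fwd 7352, .bwd 5034, .fwd 8928, .fwd 11190],
   .loop (some (12, 2)) [.bwd 11190, .bwd 8933, .fwd 8971],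
   .loop (some (15, 0)) [.bwd 9691, .bwd 11190, .fwd 3400, .fwd 3401],
   .loop (some (15, 0)) [.fwd 10657, .fwd 10658, .fwd 11035, .fwd 8025],
   .loop (some (14, 1)) [.fwd 9674, .bwd 10886, .bwd 10884, .bwd 7360],
   .loop (some (11, 2)) [.fwd 10634, .bwd 7360, .fwd 11100],
   .loop (some (8, 2)) [.fwd 3456, .bwd 11012, .bwd 4851],
   .loop (some (15, 0)) [.fwd 10407, .fwd 649, .bwd 504, .bwd 3529],
   .loop (some (5, 1)) [.fwd 10771, .bwd 3573, .bwd 3556],
   .loop (some (1, 2)) [.bwd 6604, .fwd 3573, .fwd 11175],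
   .loop (some (7, 2)) [.fwd 10771, .bwd 5713, .bwd 7258, .fwd 10470],
   .loop none [.bwd 11203],
   .loop none [.fwd 11201, .bwd 11204],
   .loop none [.bwd 10772, .bwd 11204],
   .loop none [.bwd 10771, .bwd 11204],
   .loop none [.fwd 10770, .bwd 11204],
   .loop (some (4, 2)) [.bwd 7260, .fwd 5713, .fwd 11175],
   .loop (some (11, 2)) [.bwd 5713, .bwd 7262, .fwd 10539],
   .loop (some (20, 0)) [.fwd 10913, .fwd 7238, .fwd 10908, .fwd 10407, .fwd 649, .bwd 504, .bwd 3529, .fwd 8864],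
   .loop (some (15, 0)) [.fwd 10612, .fwd 10613, .bwd 3593, .bwd 3575],
   .loop (some (20, 1)) [.fwd 10572, .fwd 10573, .fwd 10574, .fwd 10575, .bwd 7308, .bwd 7184, .fwd 7165, .bwd 7261, .bwd 11202],
   .loop none [.fwd 11213],
   .loop none [.bwd 11202, .bwd 11214],
   .loop none [.fwd 10571, .fwd 11214, .fwd 11209],
   .loop none [.bwd 11216],
   .loop none [.fwd 11175, .bwd 11214],
   .loop none [.bwd 10768, .bwd 11214],
   .loop none [.fwd 10914, .bwd 11214],
   .loop none [.fwd 10916, .bwd 11214],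
   .loop none [.bwd 10571, .bwd 11217],
   .loop none [.fwd 10570, .bwd 11217],
   .loop (some (20, 0)) [.fwd 10540, .fwd 10541, .fwd 10542, .fwd 10543, .bwd 7301, .fwd 7219, .bwd 7214, .bwd 9022],
   .loop (some (5, 3)) [.bwd 11224, .bwd 3553, .bwd 11215, .fwd 11219],
   .loop none [.fwd 11225],
   .loop none [.bwd 10769, .bwd 11226],
   .loop (some (1, 1)) [.bwd 11211, .bwd 9027, .fwd 11224],
   .loop (some (20, 0)) [.fwd 10503, .fwd 10504, .fwd 10505, .fwd 10506, .bwd 7298, .fwd 7208, .fwd 7202, .bwd 9030],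
   .loop (some (5, 3)) [.bwd 11229, .bwd 3554, .fwd 11224, .fwd 11227],
   .loop none [.fwd 11230],
   .loop none [.fwd 11206, .bwd 11231],
   .loop none [.fwd 11208, .bwd 11231],
   .loop none [.fwd 11227, .bwd 11231],
   .loop (some (14, 2)) [.fwd 10915, .bwd 3574, .bwd 11210, .bwd 11234],
   .loop (some (12, 2)) [.bwd 10435, .bwd 11210, .fwd 10540],
   .loop (some (15, 0)) [.fwd 638, .bwd 10437, .bwd 10436, .bwd 10435],
   .loop (some (7, 2)) [.bwd 3593, .bwd 3591, .bwd 10396],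
   .loop (some (5, 1)) [.fwd 10780, .bwd 3602, .bwd 3591],
   .loop (some (11, 2)) [.bwd 3593, .fwd 9053, .bwd 10533],
   .loop (some (7, 2)) [.fwd 10464, .bwd 3586, .bwd 549],
   .loop (some (5, 3)) [.bwd 3586, .bwd 4708, .bwd 10788],
   .loop (some (4, 1)) [.bwd 5393, .fwd 9058, .bwd 10464],
   .loop (some (11, 2)) [.fwd 10464, .fwd 9060, .bwd 10564],
   .loop (some (9, 1)) [.fwd 11236, .fwd 11242, .fwd 9060],
   .loop (some (7, 2)) [.fwd 9827, .bwd 3587, .bwd 10464],
   .loop (some (5, 3)) [.bwd 3587, .bwd 11242, .fwd 10787],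
   .loop (some (11, 2)) [.fwd 9827, .bwd 3622, .bwd 10464],
   .loop (some (7, 2)) [.fwd 10533, .bwd 3588, .bwd 9827]]

theorem just44_len : just44.length = 250 := by decide +kernel

theorem just44_ok : cert.okFacts 11000 just44 = true := by decide +kernel

/-- justifications -/
noncomputable def just45 : List Cert.Just :=
  [.loop (some (5, 3)) [.bwd 3588, .bwd 11247, .fwd 10777],
   .loop (some (5, 3)) [.bwd 11245, .bwd 3589, .bwd 11250, .fwd 10778],
   .loop none [.fwd 11251],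
   .loop none [.fwd 10784, .bwd 11252],
   .loop none [.bwd 10779, .bwd 11252],
   .loop none [.fwd 10778, .bwd 11252],
   .loop (some (11, 2)) [.fwd 10564, .bwd 9061, .bwd 9827],
   .loop (some (9, 2)) [.bwd 11245, .bwd 9061, .bwd 11247],
   .loop (some (7, 2)) [.fwd 10396, .bwd 3590, .bwd 10564],
   .loop (some (9, 2)) [.bwd 11239, .bwd 9046, .fwd 3602],
   .loop (some (5, 1)) [.fwd 10795, .fwd 7241, .bwd 11238],
   .loop (some (6, 2)) [.bwd 7294, .bwd 11238, .bwd 10395],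
   .loop (some (15, 0)) [.fwd 6903, .fwd 10611, .fwd 10612, .fwd 10613],
   .loop (some (1, 2)) [.bwd 3596, .fwd 3650, .fwd 10781],
   .loop (some (7, 1)) [.fwd 10795, .bwd 7238, .bwd 10780],
   .loop (some (18, 4)) [.bwd 6377, .bwd 10913, .bwd 11228, .fwd 10540, .fwd 11253],
   .loop (some (14, 0)) [.bwd 11255, .fwd 11236, .fwd 10788, .fwd 4714],
   .loop (some (12, 1)) [.bwd 10503, .fwd 11235, .fwd 10913, .fwd 11266],
   .loop none [.fwd 11267],
   .loop none [.fwd 11255, .bwd 11268],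
   .loop none [.fwd 10777, .bwd 11268],
   .loop none [.fwd 11266, .bwd 11268],
   .loop (some (11, 2)) [.bwd 7238, .bwd 11271, .fwd 10504],
   .loop (some (15, 0)) [.bwd 6903, .bwd 8453, .fwd 10403, .fwd 10913],
   .loop (some (18, 4)) [.bwd 10781, .bwd 6462, .bwd 9611, .bwd 9606, .bwd 6380],
   .loop (some (4, 2)) [.bwd 10781, .fwd 6221, .fwd 10796],
   .loop (some (2, 1)) [.fwd 10660, .bwd 4374, .fwd 8254],
   .loop (some (7, 2)) [.fwd 10662, .bwd 11156, .bwd 10718],
   .loop (some (4, 1)) [.bwd 10512, .bwd 4398, .bwd 10662],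
   .loop (some (15, 0)) [.fwd 4588, .fwd 4589, .bwd 9210, .bwd 4413],
   .loop (some (7, 2)) [.fwd 6736, .fwd 6749, .bwd 10159],
   .loop (some (5, 2)) [.bwd 10663, .fwd 10737, .bwd 10476],
   .loop (some (14, 1)) [.fwd 10685, .fwd 9911, .fwd 9912, .bwd 8438],
   .loop (some (17, 3)) [.fwd 9782, .bwd 11100, .fwd 8970, .bwd 4905, .bwd 4904],
   .loop (some (4, 1)) [.bwd 10548, .bwd 4460, .fwd 11100],
   .loop (some (12, 2)) [.fwd 8409, .bwd 8973, .bwd 11151],
   .loop (some (11, 2)) [.bwd 10548, .bwd 8973, .fwd 10479],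
   .loop (some (12, 2)) [.bwd 9225, .bwd 8975, .fwd 11190],
   .loop (some (5, 1)) [.bwd 9903, .fwd 6698, .fwd 6682],
   .loop (some (6, 1)) [.bwd 10724, .bwd 4498, .fwd 6682],
   .loop (some (14, 2)) [.fwd 9687, .bwd 6944, .bwd 6706, .bwd 6819],
   .loop (some (15, 0)) [.bwd 11100, .bwd 4459, .bwd 4458, .fwd 7232],
   .loop (some (8, 2)) [.bwd 4500, .bwd 10850, .bwd 5923],
   .loop (some (11, 2)) [.bwd 10582, .bwd 9167, .fwd 10416],
   .loop (some (1, 0)) [.bwd 9731, .bwd 9303, .fwd 6639],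
   .loop (some (12, 2)) [.bwd 4569, .bwd 8869, .fwd 9802],
   .loop (some (9, 2)) [.bwd 11294, .bwd 8869, .bwd 9362],
   .loop (some (10, 1)) [.fwd 9493, .fwd 9275, .bwd 11295],
   .loop (some (17, 3)) [.fwd 10316, .fwd 9805, .fwd 4571, .fwd 4572, .fwd 9279],
   .loop (some (20, 0)) [.fwd 9734, .fwd 5902, .bwd 5518, .bwd 6844, .fwd 9802, .fwd 9803, .fwd 9804, .fwd 9805],
   .loop (some (8, 0)) [.bwd 9844, .bwd 5351, .bwd 7176],
   .loop (some (1, 2)) [.fwd 4570, .fwd 11299, .bwd 9733],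
   .loop (some (2, 2)) [.bwd 8198, .fwd 11040, .bwd 10658],
   .loop (some (4, 0)) [.fwd 9781, .bwd 11283, .bwd 4903],
   .loop (some (3, 1)) [.fwd 10267, .bwd 9926, .bwd 9731, .fwd 8377],
   .loop none [.bwd 11304],
   .loop none [.fwd 6917, .fwd 11305, .bwd 10266],
   .loop none [.fwd 11306],
   .loop none [.bwd 10267, .bwd 11305],
   .loop none [.fwd 1810, .fwd 11307, .bwd 10265],
   .loop none [.fwd 11309],
   .loop none [.bwd 1839, .fwd 11310, .bwd 10264],
   .loop none [.fwd 11311],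
   .loop none [.bwd 564, .fwd 11312, .bwd 10263],
   .loop none [.fwd 11313],
   .loop none [.bwd 6956, .fwd 11314, .bwd 10262],
   .loop none [.fwd 11315],
   .loop none [.fwd 10634, .fwd 11316, .bwd 10261],
   .loop none [.bwd 11317],
   .loop none [.bwd 10634, .bwd 11318],
   .loop none [.fwd 10633, .bwd 11318],
   .loop none [.fwd 11198, .bwd 11318],
   .loop (some (15, 0)) [.fwd 5664, .fwd 5665, .fwd 9325, .bwd 4959],
   .loop (some (1, 2)) [.bwd 10158, .fwd 9327, .fwd 6707],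
   .loop (some (3, 1)) [.fwd 10209, .fwd 10210, .bwd 10158, .fwd 9426],
   .loop none [.bwd 11324],
   .loop none [.fwd 9334, .fwd 11325, .bwd 10208],
   .loop none [.fwd 11326],
   .loop none [.bwd 10209, .bwd 11325],
   .loop none [.fwd 7351, .fwd 11327, .bwd 10207],
   .loop none [.fwd 11329],
   .loop none [.bwd 7350, .fwd 11330, .bwd 10206],
   .loop none [.fwd 11331],
   .loop none [.fwd 8417, .fwd 11332, .bwd 10205],
   .loop none [.fwd 11333],
   .loop none [.bwd 3397, .fwd 11334, .bwd 10204],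
   .loop none [.fwd 11335],
   .loop none [.fwd 10203, .bwd 11336],
   .loop (some (13, 2)) [.bwd 10158, .fwd 7129, .fwd 9731],
   .loop (some (15, 0)) [.fwd 5497, .fwd 5498, .fwd 9367, .fwd 8395],
   .loop (some (21, 1)) [.bwd 6707, .fwd 6681, .fwd 5450, .bwd 2012, .bwd 5341, .bwd 7128, .bwd 7140, .fwd 10187],
   .loop (some (3, 1)) [.fwd 10184, .fwd 10185, .bwd 10187, .fwd 9452],
   .loop none [.bwd 11341],
   .loop none [.fwd 9371, .fwd 11342, .bwd 10183],
   .loop none [.fwd 11343],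
   .loop none [.bwd 10184, .bwd 11342],
   .loop none [.fwd 8392, .fwd 11344, .bwd 10182],
   .loop none [.fwd 11346],
   .loop none [.fwd 8357, .fwd 11347, .bwd 10181],
   .loop none [.fwd 11348],
   .loop none [.fwd 1856, .fwd 11349, .bwd 10180],
   .loop none [.fwd 11350],
   .loop none [.bwd 8416, .fwd 11351, .bwd 10179],
   .loop none [.fwd 11352],
   .loop none [.fwd 10662, .fwd 11353, .bwd 10178],
   .loop none [.bwd 11354],
   .loop none [.bwd 10662, .bwd 11355],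
   .loop none [.bwd 11278, .bwd 11355],
   .loop none [.fwd 11277, .bwd 11355],
   .loop none [.bwd 11186, .bwd 11355],
   .loop (some (17, 5)) [.fwd 5032, .fwd 5033, .bwd 8927, .fwd 11337, .bwd 10202],
   .loop (some (4, 2)) [.fwd 5031, .bwd 11360, .bwd 10201],
   .loop (some (18, 4)) [.bwd 6773, .bwd 5052, .fwd 7152, .bwd 9832, .fwd 10742],
   .loop (some (4, 0)) [.fwd 10230, .bwd 11184, .bwd 5072],
   .loop (some (3, 2)) [.fwd 10154, .bwd 10242, .bwd 5878, .bwd 5877],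
   .loop none [.bwd 11364],
   .loop none [.bwd 10154, .bwd 11365],
   .loop none [.bwd 5877, .fwd 11365, .bwd 10153],
   .loop none [.fwd 11367],
   .loop none [.bwd 9357, .fwd 11368, .bwd 10152],
   .loop none [.fwd 11369],
   .loop none [.fwd 8403, .fwd 11370, .bwd 10151],
   .loop none [.fwd 11371],
   .loop none [.fwd 8353, .fwd 11372, .bwd 10150],
   .loop none [.fwd 11373],
   .loop none [.fwd 8407, .fwd 11374, .bwd 10149],
   .loop none [.fwd 11375],
   .loop none [.bwd 4500, .fwd 11376, .bwd 10148],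
   .loop none [.fwd 11377],
   .loop none [.fwd 10147, .bwd 11378],
   .loop (some (17, 5)) [.fwd 5104, .fwd 5105, .fwd 7358, .bwd 11319, .bwd 10260],
   .loop (some (4, 2)) [.fwd 5103, .bwd 11380, .bwd 10259],
   .loop (some (2, 2)) [.fwd 9734, .bwd 6914, .bwd 5600],
   .loop (some (12, 2)) [.fwd 9734, .bwd 6919, .bwd 11362],
   .loop (some (1, 2)) [.bwd 9728, .fwd 9428, .fwd 9860],
   .loop (some (9, 1)) [.fwd 9891, .bwd 9428, .bwd 10368],
   .loop (some (5, 1)) [.fwd 9902, .bwd 9362, .bwd 10375],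
   .loop (some (8, 2)) [.fwd 9832, .bwd 5177, .bwd 9894],
   .loop (some (10, 2)) [.fwd 9790, .bwd 10397, .bwd 10210],
   .loop (some (15, 0)) [.fwd 9803, .fwd 9804, .fwd 9805, .fwd 7176],
   .loop (some (10, 2)) [.fwd 10276, .bwd 9829, .bwd 10185],
   .loop (some (8, 2)) [.bwd 9802, .bwd 5352, .fwd 9844],
   .loop (some (2, 0)) [.fwd 5923, .bwd 10853, .bwd 5410],
   .loop (some (17, 5)) [.fwd 10853, .fwd 10511, .bwd 9833, .fwd 9828, .bwd 10185],
   .loop (some (7, 2)) [.fwd 11393, .fwd 11083, .bwd 9325],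
   .loop (some (15, 0)) [.bwd 10612, .bwd 10611, .bwd 6903, .bwd 8453],
   .loop (some (8, 1)) [.fwd 9920, .bwd 8449, .bwd 8462],
   .loop (some (18, 2)) [.bwd 10438, .bwd 8476, .fwd 7260, .fwd 11223, .fwd 10576],
   .loop (some (4, 2)) [.bwd 5540, .fwd 11298, .bwd 10315],
   .loop (some (3, 1)) [.bwd 5582, .bwd 5581, .bwd 11302],
   .loop (some (4, 1)) [.fwd 10657, .fwd 11399, .fwd 5583],
   .loop (some (3, 0)) [.fwd 10655, .fwd 10656, .bwd 11400],
   .loop (some (2, 0)) [.fwd 10654, .bwd 11401, .fwd 5584],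
   .loop (some (3, 1)) [.bwd 5586, .bwd 5585, .fwd 11402],
   .loop (some (4, 1)) [.fwd 10653, .fwd 11403, .fwd 5587],
   .loop (some (3, 0)) [.fwd 10651, .fwd 10652, .bwd 11404],
   .loop (some (2, 0)) [.fwd 10650, .bwd 11405, .fwd 5588],
   .loop (some (3, 1)) [.bwd 5590, .bwd 5589, .fwd 11406],
   .loop (some (4, 1)) [.fwd 10649, .fwd 11407, .fwd 5591],
   .loop (some (3, 0)) [.fwd 10647, .fwd 10648, .bwd 11408],
   .loop (some (2, 0)) [.fwd 10646, .bwd 11409, .fwd 5592],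
   .loop (some (3, 1)) [.bwd 5594, .bwd 5593, .fwd 11410],
   .loop (some (4, 1)) [.fwd 10645, .fwd 11411, .fwd 5595],
   .loop (some (3, 0)) [.fwd 10643, .fwd 10644, .bwd 11412],
   .loop (some (2, 0)) [.fwd 10642, .bwd 11413, .fwd 5596],
   .loop (some (3, 1)) [.bwd 5598, .bwd 5597, .fwd 11414],
   .loop (some (17, 5)) [.fwd 5598, .fwd 5599, .fwd 11382, .bwd 9762, .bwd 9761],
   .loop (some (4, 2)) [.fwd 5597, .bwd 11416, .bwd 9760],
   .loop (some (4, 1)) [.fwd 10641, .fwd 11415, .fwd 5599],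
   .loop (some (18, 4)) [.bwd 11418, .fwd 5600, .fwd 5601, .fwd 6917, .fwd 11308],
   .loop (some (10, 1)) [.bwd 10743, .fwd 11383, .bwd 11382, .bwd 9522],
   .loop none [.bwd 11420],
   .loop none [.fwd 10743, .bwd 11421],
   .loop none [.fwd 5698, .fwd 11421, .fwd 10744],
   .loop none [.fwd 11423],
   .loop none [.bwd 10745, .bwd 11424],
   .loop (some (6, 0)) [.fwd 10210, .fwd 11280, .bwd 9313],
   .loop (some (17, 3)) [.bwd 9927, .bwd 9926, .fwd 10131, .bwd 10130, .bwd 10441, .bwd 10601],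
   .loop none [.fwd 11427],
   .loop none [.bwd 10601, .bwd 11428],
   .loop none [.fwd 10832, .bwd 11428],
   .loop none [.bwd 11082, .bwd 11428],
   .loop none [.fwd 11081, .bwd 11428],
   .loop (some (8, 1)) [.bwd 9800, .bwd 5842, .bwd 10324],
   .loop (some (6, 1)) [.bwd 10431, .fwd 10130, .bwd 9532],
   .loop (some (14, 3)) [.fwd 9842, .fwd 10324, .bwd 7122, .bwd 477, .fwd 10335],
   .loop none [.fwd 11435],
   .loop none [.bwd 10336, .bwd 11436],
   .loop none [.fwd 10335, .bwd 11436],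
   .loop (some (8, 1)) [.fwd 9532, .fwd 5842, .bwd 10128],
   .loop (some (6, 1)) [.bwd 10566, .fwd 10241, .fwd 9800],
   .loop (some (14, 2)) [.fwd 10127, .fwd 10128, .bwd 7166, .fwd 9791],
   .loop (some (7, 1)) [.bwd 9729, .fwd 10338, .fwd 5888],
   .loop (some (2, 2)) [.bwd 9848, .bwd 10332, .bwd 10679],
   .loop (some (5, 1)) [.bwd 9764, .bwd 9847, .fwd 5888],
   .loop (some (6, 1)) [.bwd 9911, .fwd 10332, .fwd 5888],
   .loop (some (12, 2)) [.bwd 9848, .bwd 9222, .fwd 8921],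
   .loop (some (9, 1)) [.fwd 9859, .bwd 9847, .bwd 9222],
   .loop (some (10, 1)) [.fwd 10685, .fwd 10332, .bwd 9222],
   .loop (some (8, 2)) [.bwd 9221, .bwd 5888, .fwd 9848],
   .loop (some (18, 2)) [.bwd 9843, .fwd 11433, .fwd 10239, .fwd 9221, .fwd 6683],
   .loop (some (4, 1)) [.bwd 11109, .bwd 5904, .bwd 9917],
   .loop (some (4, 1)) [.fwd 10999, .bwd 11108, .fwd 5906],
   .loop (some (17, 5)) [.fwd 5921, .fwd 5922, .bwd 11392, .bwd 5409, .bwd 5408],
   .loop (some (4, 2)) [.fwd 5920, .bwd 11453, .bwd 5407],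
   .loop (some (0, 1)) [.fwd 9559, .fwd 11152],
   .loop (some (15, 0)) [.fwd 10478, .bwd 10477, .bwd 10511, .bwd 5923],
   .loop (some (2, 2)) [.bwd 11178, .bwd 9578, .fwd 10928, .bwd 10574],
   .loop none [.bwd 11457],
   .loop none [.fwd 11260, .bwd 11458],
   .loop none [.fwd 11178, .bwd 11458],
   .loop none [.fwd 10573, .fwd 11458, .bwd 11264],
   .loop none [.fwd 11461],
   .loop none [.bwd 10795, .bwd 11458],
   .loop none [.fwd 10794, .bwd 11458],
   .loop none [.fwd 11239, .bwd 11462],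
   .loop none [.bwd 10780, .bwd 11462],
   .loop none [.fwd 11254, .bwd 11462],
   .loop none [.fwd 11259, .bwd 11462],
   .loop (some (2, 2)) [.bwd 9580, .fwd 10934, .bwd 10542],
   .loop (some (2, 2)) [.bwd 9581, .fwd 10941, .bwd 10505],
   .loop (some (2, 2)) [.bwd 9583, .fwd 10949, .bwd 10473],
   .loop (some (6, 3)) [.fwd 11471, .bwd 6011, .fwd 10953, .fwd 10802],
   .loop none [.fwd 11472],
   .loop none [.bwd 10792, .bwd 11473],
   .loop none [.fwd 10802, .bwd 11473],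
   .loop (some (6, 3)) [.fwd 11470, .bwd 6012, .bwd 11471, .fwd 11474],
   .loop none [.fwd 11476],
   .loop none [.bwd 10793, .bwd 11477],
   .loop (some (10, 2)) [.fwd 11470, .bwd 9584, .bwd 11460],
   .loop (some (6, 3)) [.fwd 11469, .bwd 6013, .bwd 11470, .fwd 11478],
   .loop none [.fwd 11480],
   .loop none [.fwd 10799, .bwd 11481],
   .loop none [.fwd 11464, .bwd 11481],
   .loop (some (3, 2)) [.fwd 6032, .bwd 11469, .fwd 11482],
   .loop (some (16, 2)) [.fwd 10395, .bwd 11459, .fwd 11460, .bwd 8690, .fwd 8692],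
   .loop (some (6, 1)) [.bwd 10797, .fwd 11177, .fwd 6030],
   .loop (some (18, 4)) [.bwd 6189, .fwd 10908, .fwd 10925, .fwd 10294, .fwd 10295],
   .loop (some (2, 3)) [.bwd 8737, .bwd 11487, .fwd 10296],
   .loop (some (15, 0)) [.bwd 10436, .bwd 10435, .bwd 5713, .fwd 8476],
   .loop (some (21, 3)) [.fwd 5888, .bwd 10239, .bwd 9800, .bwd 10128, .bwd 10127, .fwd 6621, .fwd 6622, .bwd 10337],
   .loop (some (2, 1)) [.bwd 11448, .fwd 8921, .bwd 11183],
   .loop (some (5, 1)) [.bwd 11447, .bwd 6622, .fwd 9533, .fwd 10127],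
   .loop none [.fwd 11492],
   .loop none [.bwd 11439, .bwd 11493],
   .loop none [.fwd 10127, .bwd 11493],
   .loop none [.bwd 10128, .bwd 11493],
   .loop (some (6, 1)) [.bwd 10433, .fwd 11183, .bwd 11495],
   .loop (some (14, 2)) [.fwd 6819, .fwd 6620, .bwd 11441, .fwd 9792],
   .loop (some (12, 2)) [.fwd 8921, .bwd 11441, .fwd 9806]]

theorem just45_len : just45.length = 250 := by decide +kernel

theorem just45_ok : cert.okFacts 11250 just45 = true := by decide +kernel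

/-- justifications -/
noncomputable def just46 : List Cert.Just :=
  [.loop (some (0, 1)) [.fwd 9855, .fwd 11441, .fwd 11446],
   .loop none [.bwd 11500],
   .loop none [.fwd 9854, .bwd 11501],
   .loop none [.bwd 9855, .bwd 11501],
   .loop (some (13, 1)) [.fwd 8922, .bwd 6621, .bwd 11441],
   .loop (some (9, 1)) [.fwd 8922, .fwd 9533, .bwd 11441],
   .loop (some (21, 3)) [.fwd 9764, .bwd 9686, .bwd 9685, .bwd 6623, .bwd 6622, .bwd 6621, .bwd 11495, .bwd 9858],
   .loop (some (6, 2)) [.bwd 11434, .fwd 6622, .fwd 11448],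
   .loop (some (14, 2)) [.fwd 10324, .bwd 9532, .bwd 8922, .bwd 6684],
   .loop (some (0, 0)) [.fwd 10334, .fwd 8922],
   .loop (some (0, 1)) [.fwd 11499, .fwd 9222],
   .loop (some (10, 2)) [.bwd 11448, .bwd 11499, .fwd 10376],
   .loop (some (6, 1)) [.bwd 9980, .bwd 6641, .fwd 9965],
   .loop (some (7, 1)) [.bwd 11143, .bwd 6642, .fwd 9980],
   .loop (some (3, 0)) [.bwd 10072, .fwd 10094, .bwd 11142],
   .loop (some (13, 1)) [.fwd 11144, .bwd 11142, .bwd 9621],
   .loop (some (7, 0)) [.bwd 11100, .fwd 11197, .bwd 6658],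
   .loop (some (6, 2)) [.fwd 6657, .fwd 11516, .bwd 9782],
   .loop (some (17, 1)) [.fwd 10210, .fwd 10159, .bwd 10157, .bwd 10478, .bwd 10531],
   .loop (some (15, 0)) [.bwd 10472, .bwd 10471, .bwd 10470, .fwd 9496],
   .loop (some (1, 2)) [.bwd 6683, .fwd 11288, .fwd 9904],
   .loop (some (6, 2)) [.bwd 11289, .bwd 11449, .bwd 11443],
   .loop (some (3, 2)) [.bwd 6683, .fwd 11289, .fwd 10725],
   .loop (some (14, 0)) [.bwd 9800, .fwd 7148, .bwd 6944, .fwd 6682],
   .loop (some (12, 2)) [.fwd 9221, .fwd 11523, .bwd 11433],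
   .loop (some (9, 2)) [.bwd 11288, .fwd 11523, .bwd 11187],
   .loop (some (21, 3)) [.bwd 10333, .fwd 11490, .bwd 5887, .bwd 476, .bwd 6685, .bwd 6684, .bwd 6683, .bwd 11449, .fwd 9849],
   .loop none [.bwd 11526],
   .loop none [.fwd 10333, .bwd 11527],
   .loop none [.bwd 10334, .bwd 11527],
   .loop none [.fwd 11509, .bwd 11527],
   .loop (some (8, 1)) [.fwd 9793, .bwd 11450, .fwd 10317],
   .loop (some (6, 1)) [.fwd 10624, .fwd 11522, .fwd 6684],
   .loop (some (18, 2)) [.fwd 10321, .bwd 9806, .fwd 11504, .fwd 7179, .fwd 6817],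
   .loop (some (12, 2)) [.bwd 7179, .bwd 11529, .fwd 9850],
   .loop (some (9, 1)) [.fwd 11503, .fwd 11505, .bwd 11529],
   .loop (some (10, 1)) [.fwd 10681, .bwd 11532, .bwd 11529],
   .loop (some (19, 5)) [.bwd 9903, .bwd 6749, .bwd 5889, .bwd 5888, .bwd 11490, .bwd 11528],
   .loop (some (6, 1)) [.bwd 10466, .fwd 10157, .fwd 9903],
   .loop (some (4, 1)) [.bwd 11138, .fwd 11119, .fwd 6712],
   .loop (some (7, 0)) [.fwd 10674, .fwd 10886, .bwd 6728],
   .loop (some (15, 0)) [.bwd 10824, .fwd 10825, .fwd 10729, .fwd 10730],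
   .loop (some (13, 2)) [.bwd 10507, .bwd 10534, .fwd 10576],
   .loop (some (8, 1)) [.bwd 9903, .bwd 7131, .bwd 9687],
   .loop (some (10, 2)) [.bwd 11120, .bwd 11145, .fwd 11133],
   .loop (some (11, 2)) [.bwd 6777, .bwd 11287, .fwd 9691],
   .loop (some (12, 2)) [.bwd 6778, .bwd 11545, .fwd 9692],
   .loop (some (0, 1)) [.fwd 11545, .fwd 9543],
   .loop (some (0, 1)) [.fwd 11546, .fwd 9544],
   .loop (some (13, 2)) [.bwd 6779, .bwd 11546, .fwd 9693],
   .loop (some (0, 1)) [.fwd 11549, .fwd 9545],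
   .loop (some (10, 2)) [.bwd 6780, .bwd 11549, .fwd 9694],
   .loop (some (0, 1)) [.fwd 11551, .fwd 9546],
   .loop (some (11, 2)) [.bwd 6781, .bwd 11551, .fwd 9695],
   .loop (some (12, 2)) [.bwd 6782, .bwd 11553, .fwd 9696],
   .loop (some (0, 1)) [.fwd 11553, .fwd 9547],
   .loop (some (0, 1)) [.fwd 11554, .fwd 9548],
   .loop (some (13, 2)) [.bwd 6783, .bwd 11554, .fwd 9697],
   .loop (some (0, 1)) [.fwd 11557, .fwd 9549],
   .loop (some (10, 2)) [.bwd 6784, .bwd 11557, .fwd 9698],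
   .loop (some (0, 1)) [.fwd 11559, .fwd 9550],
   .loop (some (11, 2)) [.bwd 6785, .bwd 11559, .fwd 9699],
   .loop (some (12, 2)) [.bwd 6786, .bwd 11561, .fwd 9700],
   .loop (some (0, 1)) [.fwd 11561, .fwd 9551],
   .loop (some (0, 1)) [.fwd 11562, .fwd 9552],
   .loop (some (13, 2)) [.bwd 6787, .bwd 11562, .fwd 9701],
   .loop (some (0, 1)) [.fwd 11565, .fwd 9553],
   .loop (some (10, 2)) [.bwd 6788, .bwd 11565, .fwd 9702],
   .loop (some (0, 1)) [.fwd 11567, .fwd 9554],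
   .loop (some (11, 2)) [.bwd 6789, .bwd 11567, .fwd 9703],
   .loop (some (12, 2)) [.bwd 6790, .bwd 11569, .fwd 9704],
   .loop (some (0, 1)) [.fwd 11569, .fwd 9555],
   .loop (some (0, 1)) [.fwd 11570, .fwd 9556],
   .loop (some (13, 2)) [.bwd 6791, .bwd 11570, .fwd 9705],
   .loop (some (0, 1)) [.fwd 11573, .fwd 9557],
   .loop (some (10, 2)) [.bwd 6792, .bwd 11573, .fwd 9706],
   .loop (some (0, 1)) [.fwd 11575, .fwd 9558],
   .loop (some (15, 0)) [.fwd 10441, .bwd 10439, .bwd 10581, .bwd 6794],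
   .loop (some (15, 0)) [.bwd 10541, .bwd 10540, .bwd 10539, .fwd 9042],
   .loop (some (5, 1)) [.fwd 10318, .bwd 9905, .bwd 9794],
   .loop (some (1, 2)) [.bwd 6817, .fwd 9905, .bwd 10321],
   .loop (some (3, 2)) [.bwd 6817, .fwd 9906, .bwd 11163],
   .loop (some (10, 2)) [.bwd 9906, .bwd 11534, .bwd 9852],
   .loop (some (5, 1)) [.bwd 9842, .fwd 11580, .fwd 6818],
   .loop (some (6, 1)) [.bwd 10667, .fwd 11581, .fwd 6818],
   .loop (some (10, 2)) [.fwd 11581, .bwd 8868, .fwd 6941],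
   .loop (some (2, 1)) [.bwd 11188, .bwd 11181, .fwd 11584],
   .loop (some (6, 2)) [.bwd 11584, .fwd 6819, .fwd 3297],
   .loop (some (3, 2)) [.bwd 10330, .fwd 11584, .fwd 10668],
   .loop (some (14, 2)) [.fwd 9801, .fwd 6818, .bwd 11498, .fwd 9793],
   .loop (some (12, 2)) [.bwd 11181, .bwd 11498, .bwd 11531],
   .loop (some (13, 2)) [.bwd 10330, .bwd 11498, .bwd 9904],
   .loop (some (3, 0)) [.fwd 9945, .fwd 9946, .bwd 11515],
   .loop (some (13, 2)) [.bwd 11515, .bwd 9643, .fwd 11539],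
   .loop (some (2, 0)) [.fwd 9944, .bwd 11592, .fwd 6849],
   .loop (some (3, 1)) [.bwd 6851, .bwd 6850, .fwd 11594],
   .loop (some (4, 1)) [.fwd 9943, .fwd 11595, .fwd 6852],
   .loop (some (3, 0)) [.fwd 9941, .fwd 9942, .bwd 11596],
   .loop (some (2, 0)) [.fwd 9940, .bwd 11597, .fwd 6853],
   .loop (some (3, 1)) [.bwd 6855, .bwd 6854, .fwd 11598],
   .loop (some (4, 1)) [.fwd 9939, .fwd 11599, .fwd 6856],
   .loop (some (3, 0)) [.fwd 9937, .fwd 9938, .bwd 11600],
   .loop (some (2, 0)) [.fwd 9936, .bwd 11601, .fwd 6857],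
   .loop (some (3, 1)) [.bwd 6859, .bwd 6858, .fwd 11602],
   .loop (some (4, 1)) [.fwd 9935, .fwd 11603, .fwd 6860],
   .loop (some (3, 0)) [.fwd 9933, .fwd 9934, .bwd 11604],
   .loop (some (2, 0)) [.fwd 9932, .bwd 11605, .fwd 6861],
   .loop (some (3, 1)) [.bwd 6863, .bwd 6862, .fwd 11606],
   .loop (some (4, 1)) [.fwd 9931, .fwd 11607, .fwd 6864],
   .loop (some (2, 0)) [.bwd 9928, .fwd 11429, .bwd 6865],
   .loop (some (18, 4)) [.bwd 11608, .fwd 6865, .bwd 8333, .fwd 575, .fwd 704],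
   .loop (some (13, 2)) [.bwd 11608, .bwd 9676, .fwd 10378],
   .loop (some (15, 0)) [.fwd 10581, .fwd 10439, .bwd 10441, .bwd 6865],
   .loop (some (15, 0)) [.bwd 10573, .bwd 10572, .bwd 11222, .fwd 11223],
   .loop (some (6, 1)) [.bwd 10628, .bwd 11188, .fwd 9841],
   .loop (some (3, 2)) [.bwd 9686, .fwd 11188, .fwd 11162],
   .loop (some (10, 2)) [.bwd 11188, .bwd 11590, .bwd 11588],
   .loop (some (7, 3)) [.fwd 9687, .fwd 9828, .bwd 10273],
   .loop (some (2, 1)) [.bwd 11538, .bwd 11543, .bwd 11615],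
   .loop (some (10, 2)) [.fwd 11615, .bwd 11290, .fwd 11584],
   .loop (some (15, 0)) [.bwd 5128, .bwd 5896, .bwd 6951, .fwd 9688],
   .loop (some (13, 3)) [.bwd 11547, .fwd 11452, .fwd 10109],
   .loop (some (4, 2)) [.fwd 11621, .bwd 9691, .fwd 11193],
   .loop (some (15, 0)) [.bwd 3400, .fwd 11190, .fwd 9691, .fwd 9692],
   .loop (some (20, 0)) [.fwd 10730, .fwd 6728, .bwd 9401, .fwd 7222, .fwd 7183, .bwd 7187, .bwd 9708, .bwd 9707],
   .loop (some (15, 0)) [.fwd 7222, .fwd 7183, .bwd 7187, .bwd 9708],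
   .loop (some (15, 0)) [.bwd 10632, .bwd 10631, .bwd 11172, .fwd 11173],
   .loop (some (8, 3)) [.bwd 10669, .bwd 9712, .bwd 11173, .bwd 9719],
   .loop none [.bwd 11627],
   .loop none [.bwd 10670, .bwd 11628],
   .loop none [.fwd 10669, .bwd 11628],
   .loop (some (15, 0)) [.bwd 10672, .bwd 10671, .bwd 11629, .fwd 11630],
   .loop (some (15, 0)) [.bwd 10729, .bwd 10825, .fwd 10824, .fwd 10821],
   .loop (some (7, 2)) [.fwd 10824, .fwd 9718, .fwd 11629],
   .loop (some (7, 2)) [.bwd 11629, .fwd 9719, .fwd 11172],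
   .loop (some (5, 1)) [.bwd 10272, .fwd 11384, .fwd 9729],
   .loop (some (12, 2)) [.bwd 9732, .bwd 11296, .bwd 9832],
   .loop (some (15, 0)) [.fwd 10155, .bwd 5842, .bwd 10131, .fwd 9732],
   .loop (some (15, 0)) [.fwd 8332, .bwd 6917, .bwd 1810, .fwd 9735],
   .loop (some (15, 0)) [.fwd 5595, .fwd 5596, .bwd 11417, .bwd 9759],
   .loop (some (20, 0)) [.bwd 9804, .bwd 9803, .bwd 9802, .fwd 6844, .fwd 5518, .bwd 5902, .bwd 9734, .bwd 9762],
   .loop (some (15, 0)) [.bwd 10400, .bwd 7163, .bwd 9832, .bwd 9831, .fwd 10325],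
   .loop none [.bwd 11641],
   .loop none [.fwd 10400, .bwd 11642],
   .loop (some (2, 2)) [.bwd 11536, .fwd 9850, .bwd 9852, .fwd 10677],
   .loop none [.bwd 11644],
   .loop none [.fwd 11536, .bwd 11645],
   .loop (some (10, 2)) [.fwd 9852, .bwd 9859, .fwd 11497],
   .loop (some (2, 1)) [.bwd 9810, .bwd 10618, .fwd 9766],
   .loop (some (11, 2)) [.bwd 10922, .bwd 10924, .bwd 10947],
   .loop (some (11, 2)) [.bwd 9767, .bwd 11076, .fwd 8321],
   .loop (some (3, 0)) [.fwd 10562, .fwd 8293, .bwd 11069],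
   .loop (some (12, 2)) [.bwd 9768, .bwd 11650, .fwd 10188],
   .loop (some (0, 0)) [.fwd 11071, .fwd 11650],
   .loop (some (2, 0)) [.fwd 10561, .bwd 11651, .fwd 9768],
   .loop (some (3, 1)) [.bwd 9770, .bwd 9769, .fwd 11654],
   .loop (some (0, 0)) [.fwd 11073, .fwd 11652],
   .loop (some (13, 2)) [.bwd 9769, .bwd 11652, .fwd 10189],
   .loop (some (15, 0)) [.bwd 9811, .bwd 11648, .fwd 9767, .fwd 9768],
   .loop (some (10, 2)) [.bwd 11654, .bwd 11652, .fwd 11067],
   .loop (some (10, 2)) [.bwd 9770, .bwd 11657, .fwd 10190],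
   .loop (some (13, 1)) [.fwd 11659, .fwd 11655, .bwd 11660],
   .loop (some (4, 1)) [.fwd 10560, .fwd 11655, .fwd 9771],
   .loop (some (11, 2)) [.bwd 9771, .bwd 11660, .fwd 10191],
   .loop (some (3, 0)) [.fwd 10558, .fwd 10559, .bwd 11662],
   .loop (some (12, 2)) [.bwd 9772, .bwd 11663, .fwd 10192],
   .loop (some (2, 0)) [.fwd 10557, .bwd 11664, .fwd 9772],
   .loop (some (3, 1)) [.bwd 9774, .bwd 9773, .fwd 11666],
   .loop (some (13, 2)) [.bwd 9773, .bwd 11665, .fwd 10193],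
   .loop (some (10, 2)) [.bwd 9774, .bwd 11668, .fwd 10194],
   .loop (some (4, 1)) [.fwd 10556, .fwd 11667, .fwd 9775],
   .loop (some (11, 2)) [.bwd 9775, .bwd 11669, .fwd 10195],
   .loop (some (3, 0)) [.fwd 10554, .fwd 10555, .bwd 11670],
   .loop (some (12, 2)) [.bwd 9776, .bwd 11671, .fwd 10196],
   .loop (some (2, 0)) [.fwd 10553, .bwd 11672, .fwd 9776],
   .loop (some (3, 1)) [.bwd 9778, .bwd 9777, .fwd 11674],
   .loop (some (13, 2)) [.bwd 9777, .bwd 11673, .fwd 10197],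
   .loop (some (10, 2)) [.bwd 9778, .bwd 11676, .fwd 10198],
   .loop (some (4, 1)) [.fwd 10552, .fwd 11675, .fwd 9779],
   .loop (some (11, 2)) [.bwd 9779, .bwd 11677, .fwd 10199],
   .loop (some (3, 0)) [.fwd 10550, .fwd 10551, .bwd 11678],
   .loop (some (12, 2)) [.bwd 9780, .bwd 11679, .fwd 10200],
   .loop (some (15, 0)) [.fwd 4901, .fwd 4902, .fwd 11303, .bwd 9780],
   .loop (some (17, 0)) [.bwd 10548, .fwd 4461, .fwd 4462, .fwd 9227, .fwd 11303],
   .loop (some (13, 2)) [.bwd 9781, .bwd 11681, .fwd 10201],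
   .loop (some (10, 1)) [.fwd 11286, .bwd 11683, .bwd 11681],
   .loop (some (10, 2)) [.bwd 9782, .bwd 11684, .fwd 10202],
   .loop (some (13, 1)) [.fwd 11286, .bwd 11284, .bwd 11686],
   .loop (some (2, 0)) [.fwd 11167, .bwd 10376, .bwd 9806],
   .loop (some (3, 1)) [.bwd 11532, .bwd 11504, .fwd 11688],
   .loop (some (10, 2)) [.bwd 11688, .bwd 11503, .bwd 11443],
   .loop (some (6, 3)) [.bwd 9792, .fwd 11688, .bwd 10468],
   .loop (some (7, 2)) [.bwd 9803, .bwd 11391, .fwd 9845],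
   .loop (some (20, 0)) [.fwd 10325, .fwd 9762, .fwd 9734, .fwd 5902, .bwd 5518, .bwd 6844, .fwd 9802, .fwd 9803],
   .loop (some (15, 0)) [.bwd 9835, .bwd 6933, .bwd 7176, .bwd 9805, .bwd 9804],
   .loop none [.bwd 11694],
   .loop none [.fwd 9835, .bwd 11695],
   .loop (some (8, 0)) [.fwd 9846, .fwd 11692, .fwd 9804],
   .loop (some (15, 0)) [.bwd 9909, .bwd 6844, .fwd 9802, .fwd 9803, .fwd 9804],
   .loop none [.bwd 11698],
   .loop none [.fwd 9909, .bwd 11699],
   .loop (some (10, 2)) [.bwd 10376, .bwd 11510, .bwd 10332],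
   .loop (some (15, 0)) [.bwd 9767, .fwd 11648, .fwd 9811, .fwd 9812],
   .loop (some (20, 0)) [.fwd 10473, .fwd 10474, .bwd 7296, .fwd 7192, .fwd 7136, .fwd 7254, .fwd 9049, .bwd 9827],
   .loop (some (5, 1)) [.bwd 11475, .bwd 11703, .bwd 11246],
   .loop (some (7, 0)) [.fwd 9893, .fwd 11387, .bwd 9831],
   .loop (some (5, 1)) [.fwd 11692, .fwd 11693, .fwd 11705],
   .loop (some (15, 0)) [.bwd 10327, .bwd 5902, .bwd 9734, .bwd 9762, .bwd 10325],
   .loop none [.bwd 11707],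
   .loop none [.fwd 10327, .bwd 11708],
   .loop (some (15, 0)) [.fwd 6933, .bwd 6929, .bwd 7163, .bwd 9832],
   .loop (some (21, 4)) [.fwd 10678, .fwd 11521, .bwd 10724, .bwd 10501, .bwd 10186, .bwd 500, .fwd 10156, .fwd 10466],
   .loop (some (15, 0)) [.fwd 6658, .fwd 6659, .fwd 10478, .bwd 10477],
   .loop (some (2, 1)) [.fwd 11581, .fwd 11533, .fwd 11614],
   .loop (some (6, 1)) [.bwd 10537, .bwd 11614, .fwd 9842],
   .loop (some (10, 3)) [.bwd 11614, .fwd 11438, .fwd 7180, .fwd 10682],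
   .loop none [.fwd 11715],
   .loop none [.bwd 10683, .bwd 11716],
   .loop none [.fwd 10682, .bwd 11716],
   .loop (some (2, 1)) [.bwd 11440, .bwd 11433, .fwd 11714],
   .loop (some (10, 2)) [.bwd 11714, .bwd 11508, .bwd 11522],
   .loop (some (5, 2)) [.fwd 11706, .bwd 11697, .bwd 11640],
   .loop (some (17, 3)) [.fwd 10365, .fwd 10366, .bwd 11443, .bwd 10714, .bwd 10713],
   .loop (some (7, 2)) [.fwd 10366, .fwd 11502, .fwd 9890],
   .loop (some (6, 2)) [.fwd 11443, .fwd 11502, .fwd 9896],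
   .loop (some (4, 1)) [.fwd 9889, .bwd 9849, .bwd 10366],
   .loop (some (10, 2)) [.fwd 11443, .bwd 11446, .bwd 11183],
   .loop (some (7, 2)) [.fwd 9889, .fwd 11528, .fwd 10367],
   .loop (some (10, 2)) [.fwd 11646, .fwd 11530, .fwd 11434],
   .loop (some (19, 0)) [.fwd 11724, .fwd 11521, .bwd 10724, .bwd 10501, .bwd 10402, .bwd 10401],
   .loop (some (7, 1)) [.bwd 10609, .bwd 11155, .fwd 10401],
   .loop (some (0, 1)) [.fwd 11647, .fwd 11582],
   .loop (some (13, 1)) [.fwd 9897, .fwd 9851, .bwd 11647],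
   .loop (some (7, 2)) [.bwd 9890, .fwd 11506, .bwd 9861],
   .loop (some (7, 2)) [.bwd 10367, .fwd 11490, .bwd 10338],
   .loop (some (6, 2)) [.bwd 10370, .fwd 11490, .bwd 10332],
   .loop (some (7, 2)) [.fwd 10718, .bwd 11154, .bwd 9707],
   .loop (some (15, 0)) [.bwd 7231, .fwd 7182, .bwd 8418, .fwd 9862],
   .loop (some (3, 0)) [.fwd 10365, .fwd 11725, .bwd 9888, .bwd 9887],
   .loop none [.bwd 11738],
   .loop none [.bwd 10365, .bwd 11739],
   .loop none [.fwd 11722, .bwd 11739],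
   .loop none [.bwd 9887, .fwd 11739, .bwd 10364],
   .loop none [.fwd 11742],
   .loop none [.fwd 10363, .bwd 11743],
   .loop (some (4, 2)) [.bwd 9887, .fwd 11741, .bwd 10712],
   .loop (some (5, 3)) [.bwd 11727, .fwd 11385, .fwd 11723],
   .loop (some (15, 0)) [.bwd 10372, .fwd 7178, .bwd 9894, .bwd 9893, .fwd 10331],
   .loop none [.bwd 11747],
   .loop none [.fwd 10372, .bwd 11748]]

theorem just46_len : just46.length = 250 := by decide +kernel

theorem just46_ok : cert.okFacts 11500 just46 = true := by decide +kernel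

/-- justifications -/
noncomputable def just47 : List Cert.Just :=
  [.loop (some (15, 0)) [.bwd 6939, .bwd 6942, .fwd 7178, .bwd 9894],
   .loop (some (10, 2)) [.bwd 11538, .bwd 11525, .fwd 11188],
   .loop (some (14, 0)) [.bwd 10537, .fwd 11717, .bwd 11735, .fwd 9911],
   .loop (some (15, 0)) [.fwd 9913, .bwd 11051, .bwd 7712, .fwd 11050],
   .loop (some (18, 2)) [.bwd 738, .bwd 1758, .bwd 11430, .fwd 9928, .fwd 9929],
   .loop (some (15, 0)) [.bwd 10641, .bwd 11419, .fwd 9927, .fwd 9928],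
   .loop (some (10, 0)) [.bwd 10379, .fwd 11611, .bwd 9930],
   .loop (some (7, 0)) [.bwd 10098, .bwd 11622, .bwd 11124, .bwd 9947],
   .loop none [.bwd 11757],
   .loop none [.bwd 10099, .bwd 11758],
   .loop none [.fwd 10098, .bwd 11758],
   .loop (some (6, 1)) [.bwd 10117, .fwd 10979, .fwd 9954],
   .loop (some (14, 0)) [.fwd 9961, .fwd 10977, .bwd 9959, .bwd 9958],
   .loop (some (0, 1)) [.bwd 11762, .fwd 9971],
   .loop (some (10, 2)) [.fwd 10956, .fwd 11762, .fwd 10984],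
   .loop (some (3, 2)) [.fwd 9967, .fwd 10984, .bwd 9982],
   .loop (some (10, 2)) [.bwd 10984, .bwd 11763, .fwd 10989],
   .loop (some (15, 0)) [.fwd 7794, .fwd 858, .bwd 736, .bwd 9985],
   .loop (some (7, 3)) [.bwd 9973, .bwd 11020, .fwd 9987],
   .loop (some (15, 0)) [.fwd 7797, .bwd 7772, .bwd 7738, .fwd 10987],
   .loop (some (7, 3)) [.bwd 9974, .bwd 11768, .fwd 9988],
   .loop (some (11, 2)) [.fwd 11770, .bwd 10988, .fwd 10993],
   .loop (some (15, 0)) [.fwd 7799, .bwd 7769, .fwd 7748, .fwd 10985],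
   .loop (some (7, 3)) [.bwd 9975, .bwd 11770, .fwd 9989],
   .loop (some (4, 2)) [.fwd 9982, .bwd 11773, .bwd 9996],
   .loop (some (11, 2)) [.fwd 11773, .bwd 11766, .bwd 11768],
   .loop (some (11, 2)) [.bwd 10993, .bwd 10983, .fwd 9978],
   .loop (some (2, 2)) [.fwd 10014, .fwd 9999, .bwd 10061],
   .loop (some (6, 1)) [.fwd 10068, .bwd 9999, .bwd 9991],
   .loop (some (0, 2)) [.fwd 11776, .fwd 11771],
   .loop (some (8, 1)) [.fwd 10007, .bwd 9998, .fwd 9987],
   .loop (some (14, 0)) [.fwd 9990, .fwd 11771, .bwd 9988, .bwd 9987],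
   .loop (some (12, 1)) [.fwd 11044, .bwd 9998, .fwd 11781],
   .loop (some (8, 1)) [.fwd 10006, .bwd 11780, .fwd 9988],
   .loop (some (6, 3)) [.bwd 9987, .bwd 11041, .fwd 10064],
   .loop (some (6, 3)) [.bwd 9988, .bwd 11784, .fwd 10065],
   .loop (some (12, 1)) [.fwd 11036, .bwd 11783, .bwd 11771],
   .loop (some (10, 2)) [.fwd 11785, .bwd 11771, .fwd 11778],
   .loop (some (6, 3)) [.bwd 9989, .bwd 11785, .fwd 10066],
   .loop (some (3, 2)) [.fwd 9996, .bwd 11788, .bwd 10075],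
   .loop (some (10, 2)) [.fwd 11788, .bwd 11775, .bwd 11784],
   .loop (some (10, 2)) [.bwd 11778, .bwd 11776, .fwd 9999],
   .loop (some (6, 1)) [.fwd 10085, .fwd 10094, .bwd 10101],
   .loop (some (14, 2)) [.bwd 10096, .fwd 9992, .bwd 11144, .fwd 11759],
   .loop (some (10, 2)) [.fwd 10094, .bwd 11144, .bwd 9946],
   .loop (some (0, 2)) [.fwd 11791, .fwd 11787],
   .loop (some (14, 0)) [.fwd 10006, .fwd 11031, .bwd 10004, .bwd 10003],
   .loop (some (15, 0)) [.fwd 7742, .fwd 750, .fwd 9978, .bwd 10014],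
   .loop (some (6, 3)) [.bwd 10003, .bwd 11777, .fwd 10050],
   .loop (some (15, 0)) [.fwd 7744, .fwd 10981, .fwd 10993, .fwd 11786],
   .loop (some (6, 3)) [.bwd 10004, .bwd 11798, .fwd 10051],
   .loop (some (15, 0)) [.fwd 7745, .fwd 10982, .bwd 11773, .fwd 11782],
   .loop (some (10, 2)) [.fwd 11800, .bwd 11031, .fwd 11042],
   .loop (some (6, 3)) [.bwd 10005, .bwd 11800, .fwd 10052],
   .loop (some (3, 2)) [.fwd 10013, .bwd 11803, .bwd 10058],
   .loop (some (15, 0)) [.fwd 7748, .fwd 10985, .bwd 11770, .fwd 11783],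
   .loop (some (10, 2)) [.fwd 11803, .bwd 11036, .bwd 11798],
   .loop (some (2, 1)) [.fwd 11784, .fwd 11780, .fwd 11042],
   .loop (some (10, 2)) [.bwd 11042, .bwd 11038, .fwd 10015],
   .loop (some (6, 1)) [.bwd 10056, .fwd 11025, .fwd 10011],
   .loop (some (7, 1)) [.fwd 10037, .fwd 10038, .bwd 10054],
   .loop (some (0, 2)) [.fwd 11808, .fwd 11802],
   .loop (some (4, 2)) [.bwd 10039, .bwd 10038, .fwd 10055],
   .loop (some (14, 0)) [.fwd 10022, .fwd 11014, .bwd 10020, .bwd 10019],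
   .loop (some (6, 3)) [.bwd 10019, .bwd 11003, .fwd 10033],
   .loop (some (6, 3)) [.bwd 10020, .bwd 11814, .fwd 10034],
   .loop (some (10, 2)) [.fwd 11815, .bwd 11014, .fwd 11024],
   .loop (some (6, 3)) [.bwd 10021, .bwd 11815, .fwd 10035],
   .loop (some (3, 2)) [.fwd 10027, .bwd 11817, .bwd 10042],
   .loop (some (10, 2)) [.fwd 11817, .bwd 11017, .bwd 11814],
   .loop (some (10, 2)) [.bwd 11024, .bwd 11019, .fwd 10029],
   .loop (some (6, 1)) [.bwd 10040, .fwd 11043, .fwd 10025],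
   .loop (some (0, 2)) [.fwd 11820, .fwd 11816],
   .loop (some (11, 1)) [.fwd 11811, .bwd 10038, .bwd 11822],
   .loop (some (7, 3)) [.bwd 10032, .fwd 434, .fwd 10049],
   .loop (some (14, 0)) [.fwd 10036, .fwd 11816, .bwd 10034, .bwd 10033],
   .loop (some (7, 3)) [.bwd 10033, .bwd 11824, .fwd 10050],
   .loop (some (7, 3)) [.bwd 10035, .fwd 11823, .fwd 10052],
   .loop (some (4, 2)) [.fwd 10042, .bwd 11827, .bwd 10058],
   .loop (some (7, 1)) [.bwd 10056, .fwd 11812, .fwd 10040],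
   .loop (some (8, 1)) [.fwd 10068, .bwd 10061, .fwd 10050],
   .loop (some (14, 0)) [.fwd 10053, .fwd 11802, .bwd 10051, .bwd 10050],
   .loop (some (12, 1)) [.fwd 11795, .bwd 10061, .fwd 11831],
   .loop (some (8, 1)) [.fwd 10067, .bwd 11830, .fwd 10051],
   .loop (some (14, 0)) [.fwd 10067, .fwd 11787, .bwd 10065, .bwd 10064],
   .loop (some (13, 2)) [.bwd 10072, .bwd 11794, .bwd 9945],
   .loop (some (6, 3)) [.bwd 10081, .fwd 11075, .fwd 10097],
   .loop (some (14, 2)) [.bwd 10083, .bwd 10082, .bwd 10095, .fwd 10081],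
   .loop (some (0, 1)) [.fwd 10095, .fwd 11837],
   .loop (some (6, 4)) [.bwd 10082, .bwd 11836, .bwd 11760, .bwd 9946],
   .loop none [.bwd 11839],
   .loop none [.bwd 10083, .bwd 11840],
   .loop none [.fwd 10082, .bwd 11840],
   .loop (some (6, 3)) [.bwd 11841, .fwd 9946, .fwd 11759],
   .loop (some (3, 2)) [.fwd 10090, .bwd 11843, .bwd 10106],
   .loop (some (13, 2)) [.fwd 9543, .fwd 11452, .bwd 11793, .bwd 10106],
   .loop none [.fwd 11845],
   .loop none [.bwd 11844, .bwd 11846],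
   .loop (some (11, 1)) [.fwd 11139, .bwd 10999, .bwd 11793],
   .loop (some (3, 1)) [.bwd 10134, .bwd 10133, .bwd 11001],
   .loop (some (13, 2)) [.bwd 10133, .bwd 11002, .fwd 10218],
   .loop (some (10, 1)) [.fwd 11062, .fwd 11001, .bwd 11002],
   .loop (some (10, 2)) [.bwd 10134, .bwd 11850, .fwd 10219],
   .loop (some (13, 1)) [.fwd 11062, .fwd 11849, .bwd 11852],
   .loop (some (4, 1)) [.fwd 10594, .fwd 11849, .fwd 10135],
   .loop (some (11, 2)) [.bwd 10135, .bwd 11852, .fwd 10220],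
   .loop (some (3, 0)) [.fwd 10592, .fwd 10593, .bwd 11854],
   .loop (some (12, 2)) [.bwd 10136, .bwd 11855, .fwd 10221],
   .loop (some (2, 0)) [.fwd 10591, .bwd 11856, .fwd 10136],
   .loop (some (3, 1)) [.bwd 10138, .bwd 10137, .fwd 11858],
   .loop (some (13, 2)) [.bwd 10137, .bwd 11857, .fwd 10222],
   .loop (some (10, 2)) [.bwd 10138, .bwd 11860, .fwd 10223],
   .loop (some (4, 1)) [.fwd 10590, .fwd 11859, .fwd 10139],
   .loop (some (11, 2)) [.bwd 10139, .bwd 11861, .fwd 10224],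
   .loop (some (3, 0)) [.fwd 10588, .fwd 10589, .bwd 11862],
   .loop (some (12, 2)) [.bwd 10140, .bwd 11863, .fwd 10225],
   .loop (some (2, 0)) [.fwd 10587, .bwd 11864, .fwd 10140],
   .loop (some (3, 1)) [.bwd 10142, .bwd 10141, .fwd 11866],
   .loop (some (13, 2)) [.bwd 10141, .bwd 11865, .fwd 10226],
   .loop (some (10, 2)) [.bwd 10142, .bwd 11868, .fwd 10227],
   .loop (some (4, 1)) [.fwd 10586, .fwd 11867, .fwd 10143],
   .loop (some (11, 2)) [.bwd 10143, .bwd 11869, .fwd 10228],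
   .loop (some (3, 0)) [.fwd 10584, .fwd 10585, .bwd 11870],
   .loop (some (12, 2)) [.bwd 10144, .bwd 11871, .fwd 10229],
   .loop (some (2, 0)) [.fwd 10583, .bwd 11872, .fwd 10144],
   .loop (some (13, 2)) [.bwd 10145, .bwd 11873, .fwd 10230],
   .loop (some (11, 3)) [.bwd 11873, .bwd 11363, .fwd 9259],
   .loop (some (10, 1)) [.fwd 11293, .bwd 11874, .bwd 11873],
   .loop (some (10, 2)) [.bwd 10146, .bwd 11875, .fwd 10231],
   .loop (some (7, 0)) [.fwd 5922, .fwd 11292, .fwd 11379],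
   .loop (some (6, 2)) [.fwd 10146, .fwd 11879, .bwd 5921],
   .loop (some (0, 0)) [.fwd 11359, .fwd 11878],
   .loop (some (11, 2)) [.bwd 10162, .bwd 11080, .bwd 7673],
   .loop (some (3, 0)) [.bwd 10849, .bwd 7779, .bwd 11072],
   .loop (some (12, 2)) [.bwd 10163, .bwd 11882, .fwd 10132],
   .loop (some (0, 0)) [.fwd 10991, .fwd 11882],
   .loop (some (2, 0)) [.fwd 10525, .bwd 11883, .fwd 10163],
   .loop (some (3, 1)) [.bwd 10165, .bwd 10164, .fwd 11886],
   .loop (some (0, 0)) [.fwd 11002, .fwd 11884],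
   .loop (some (13, 2)) [.bwd 10164, .bwd 11884, .fwd 10133],
   .loop (some (0, 0)) [.fwd 11850, .fwd 11889],
   .loop (some (10, 2)) [.bwd 10165, .bwd 11889, .fwd 10134],
   .loop (some (0, 0)) [.fwd 11852, .fwd 11891],
   .loop (some (4, 1)) [.fwd 10524, .fwd 11887, .fwd 10166],
   .loop (some (11, 2)) [.bwd 10166, .bwd 11891, .fwd 10135],
   .loop (some (3, 0)) [.fwd 10522, .fwd 10523, .bwd 11893],
   .loop (some (12, 2)) [.bwd 10167, .bwd 11894, .fwd 10136],
   .loop (some (0, 0)) [.fwd 11855, .fwd 11894],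
   .loop (some (13, 2)) [.bwd 11893, .bwd 11894, .fwd 11854],
   .loop (some (10, 2)) [.bwd 11895, .bwd 11894, .fwd 11856],
   .loop (some (2, 0)) [.fwd 10521, .bwd 11895, .fwd 10167],
   .loop (some (3, 1)) [.bwd 10169, .bwd 10168, .fwd 11900],
   .loop (some (13, 2)) [.bwd 10168, .bwd 11896, .fwd 10137],
   .loop (some (10, 2)) [.bwd 11900, .bwd 11896, .fwd 11858],
   .loop (some (10, 2)) [.bwd 10169, .bwd 11902, .fwd 10138],
   .loop (some (4, 1)) [.fwd 10520, .fwd 11901, .fwd 10170],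
   .loop (some (11, 2)) [.bwd 10170, .bwd 11904, .fwd 10139],
   .loop (some (3, 0)) [.fwd 10518, .fwd 10519, .bwd 11905],
   .loop (some (12, 2)) [.bwd 10171, .bwd 11906, .fwd 10140],
   .loop (some (0, 0)) [.fwd 11863, .fwd 11906],
   .loop (some (13, 2)) [.bwd 11905, .bwd 11906, .fwd 11862],
   .loop (some (10, 2)) [.bwd 11907, .bwd 11906, .fwd 11864],
   .loop (some (2, 0)) [.fwd 10517, .bwd 11907, .fwd 10171],
   .loop (some (3, 1)) [.bwd 10173, .bwd 10172, .fwd 11912],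
   .loop (some (0, 0)) [.fwd 11865, .fwd 11908],
   .loop (some (13, 2)) [.bwd 10172, .bwd 11908, .fwd 10141],
   .loop (some (10, 2)) [.bwd 10173, .bwd 11915, .fwd 10142],
   .loop (some (0, 0)) [.fwd 11869, .fwd 11916],
   .loop (some (4, 1)) [.fwd 10516, .fwd 11913, .fwd 10174],
   .loop (some (11, 2)) [.bwd 10174, .bwd 11916, .fwd 10143],
   .loop (some (3, 0)) [.fwd 10514, .fwd 10515, .bwd 11918],
   .loop (some (12, 2)) [.bwd 10175, .bwd 11919, .fwd 10144],
   .loop (some (0, 0)) [.fwd 11871, .fwd 11919],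
   .loop (some (10, 2)) [.bwd 11920, .bwd 11919, .fwd 11872],
   .loop (some (2, 0)) [.fwd 10513, .bwd 11920, .fwd 10175],
   .loop (some (13, 2)) [.bwd 10176, .bwd 11921, .fwd 10145],
   .loop (some (11, 3)) [.bwd 11921, .bwd 11876, .fwd 9350],
   .loop (some (17, 5)) [.fwd 10177, .fwd 11356, .bwd 8420, .bwd 4990, .bwd 4989],
   .loop (some (0, 0)) [.fwd 11875, .fwd 11925],
   .loop (some (13, 2)) [.bwd 10189, .bwd 11073, .fwd 10247],
   .loop (some (10, 1)) [.fwd 11068, .bwd 11067, .bwd 11073],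
   .loop (some (0, 1)) [.fwd 11929, .fwd 11657],
   .loop (some (10, 2)) [.bwd 10190, .bwd 11929, .fwd 10248],
   .loop (some (0, 1)) [.fwd 11932, .fwd 11660],
   .loop (some (13, 1)) [.fwd 11068, .bwd 11661, .bwd 11932],
   .loop (some (4, 1)) [.fwd 10491, .bwd 11661, .fwd 10191],
   .loop (some (11, 2)) [.bwd 10191, .bwd 11932, .fwd 10249],
   .loop (some (3, 0)) [.fwd 10489, .fwd 10490, .bwd 11935],
   .loop (some (12, 2)) [.bwd 10192, .bwd 11936, .fwd 10250],
   .loop (some (0, 1)) [.fwd 11936, .fwd 11663],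
   .loop (some (2, 0)) [.fwd 10488, .bwd 11937, .fwd 10192],
   .loop (some (3, 1)) [.bwd 10194, .bwd 10193, .fwd 11940],
   .loop (some (13, 2)) [.bwd 10193, .bwd 11938, .fwd 10251],
   .loop (some (10, 2)) [.bwd 10194, .bwd 11942, .fwd 10252],
   .loop (some (4, 1)) [.fwd 10487, .fwd 11941, .fwd 10195],
   .loop (some (11, 2)) [.bwd 10195, .bwd 11943, .fwd 10253],
   .loop (some (3, 0)) [.fwd 10485, .fwd 10486, .bwd 11944],
   .loop (some (12, 2)) [.bwd 10196, .bwd 11945, .fwd 10254],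
   .loop (some (0, 1)) [.fwd 11945, .fwd 11671],
   .loop (some (2, 0)) [.fwd 10484, .bwd 11946, .fwd 10196],
   .loop (some (3, 1)) [.bwd 10198, .bwd 10197, .fwd 11949],
   .loop (some (0, 1)) [.fwd 11947, .fwd 11673],
   .loop (some (13, 2)) [.bwd 10197, .bwd 11947, .fwd 10255],
   .loop (some (0, 1)) [.fwd 11952, .fwd 11676],
   .loop (some (10, 2)) [.bwd 10198, .bwd 11952, .fwd 10256],
   .loop (some (4, 1)) [.fwd 10483, .fwd 11950, .fwd 10199],
   .loop (some (11, 2)) [.bwd 10199, .bwd 11954, .fwd 10257],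
   .loop (some (2, 0)) [.bwd 10480, .bwd 11685, .bwd 10200],
   .loop (some (12, 2)) [.bwd 10200, .bwd 11956, .fwd 10258],
   .loop (some (0, 1)) [.fwd 11956, .fwd 11679],
   .loop (some (15, 0)) [.fwd 5029, .fwd 5030, .bwd 11361, .bwd 10200],
   .loop (some (10, 1)) [.fwd 11192, .bwd 11685, .bwd 11958],
   .loop (some (2, 1)) [.bwd 10379, .bwd 10867, .fwd 10215],
   .loop (some (15, 0)) [.bwd 10380, .bwd 11962, .fwd 10216, .fwd 10217],
   .loop (some (4, 1)) [.fwd 10428, .bwd 11853, .fwd 10220],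
   .loop (some (3, 0)) [.fwd 10426, .fwd 10427, .bwd 11964],
   .loop (some (13, 2)) [.bwd 11964, .bwd 11897, .fwd 11893],
   .loop (some (10, 2)) [.bwd 11965, .bwd 11897, .fwd 11895],
   .loop (some (2, 0)) [.fwd 10425, .bwd 11965, .fwd 10221],
   .loop (some (3, 1)) [.bwd 10223, .bwd 10222, .fwd 11968],
   .loop (some (4, 1)) [.fwd 10424, .fwd 11969, .fwd 10224],
   .loop (some (3, 0)) [.fwd 10422, .fwd 10423, .bwd 11970],
   .loop (some (13, 2)) [.bwd 11970, .bwd 11909, .fwd 11905],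
   .loop (some (10, 2)) [.bwd 11971, .bwd 11909, .fwd 11907],
   .loop (some (2, 0)) [.fwd 10421, .bwd 11971, .fwd 10225],
   .loop (some (3, 1)) [.bwd 10227, .bwd 10226, .fwd 11974],
   .loop (some (4, 1)) [.fwd 10420, .fwd 11975, .fwd 10228],
   .loop (some (2, 0)) [.bwd 10417, .bwd 11877, .bwd 10229],
   .loop (some (13, 2)) [.bwd 11976, .bwd 11922, .fwd 11918],
   .loop (some (15, 0)) [.fwd 5070, .fwd 5071, .fwd 11363, .bwd 10229],
   .loop (some (10, 2)) [.bwd 11977, .bwd 11922, .fwd 11920],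
   .loop (some (14, 2)) [.fwd 10433, .fwd 10434, .bwd 10577, .bwd 10469],
   .loop (some (15, 0)) [.fwd 6864, .fwd 6865, .fwd 10441, .bwd 10439],
   .loop (some (10, 2)) [.bwd 11930, .bwd 11656, .fwd 11654],
   .loop (some (4, 1)) [.fwd 10454, .bwd 11934, .fwd 10249],
   .loop (some (3, 0)) [.fwd 10452, .fwd 10453, .bwd 11984],
   .loop (some (13, 2)) [.bwd 11984, .bwd 11939, .fwd 11662],
   .loop (some (10, 2)) [.bwd 11985, .bwd 11939, .fwd 11664],
   .loop (some (2, 0)) [.fwd 10451, .bwd 11985, .fwd 10250],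
   .loop (some (3, 1)) [.bwd 10252, .bwd 10251, .fwd 11988],
   .loop (some (4, 1)) [.fwd 10450, .fwd 11989, .fwd 10253],
   .loop (some (3, 0)) [.fwd 10448, .fwd 10449, .bwd 11990],
   .loop (some (10, 2)) [.bwd 11991, .bwd 11948, .fwd 11672],
   .loop (some (2, 0)) [.fwd 10447, .bwd 11991, .fwd 10254],
   .loop (some (3, 1)) [.bwd 10256, .bwd 10255, .fwd 11993],
   .loop (some (2, 0)) [.bwd 10443, .bwd 11961, .bwd 10258],
   .loop (some (15, 0)) [.fwd 5101, .fwd 5102, .bwd 11381, .bwd 10258],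
   .loop (some (10, 2)) [.bwd 11995, .bwd 11959, .fwd 11680],
   .loop (some (14, 4)) [.fwd 11321, .bwd 11516, .fwd 9672, .fwd 11540],
   .loop (some (15, 0)) [.fwd 11172, .fwd 10631, .fwd 10632, .bwd 11320]]

theorem just47_len : just47.length = 250 := by decide +kernel

theorem just47_ok : cert.okFacts 11750 just47 = true := by decide +kernel


end CfsgLib.ThCent.DX
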