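import Cfsg.Agent.Lib.ThCent.DXData

/-!
Justifications of the side facts (generated data).
-/

namespace CfsgLib.ThCent.DX

open CfsgLib.PresCert

set_option maxRecDepth 100000

/-- justifications -/
noncomputable def just48 : List Cert.Just :=
  [.loop (some (2, 1)) [.fwd 11691, .bwd 11531, .bwd 11588],
   .loop (some (10, 2)) [.fwd 11588, .bwd 11591, .fwd 11538],
   .loop (some (15, 0)) [.fwd 10710, .fwd 10711, .fwd 11745, .fwd 11744],
   .loop (some (7, 2)) [.bwd 10715, .bwd 11735, .bwd 10687],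
   .loop (some (5, 2)) [.bwd 10719, .bwd 11735, .bwd 10676],
   .loop (some (11, 2)) [.bwd 10722, .bwd 11701, .bwd 10687],
   .loop (some (9, 2)) [.bwd 10731, .bwd 11701, .bwd 10676],
   .loop (some (15, 0)) [.bwd 10216, .fwd 11962, .fwd 10380, .fwd 10381],
   .loop (some (14, 0)) [.bwd 6524, .fwd 6525, .fwd 6524, .bwd 11261],
   .loop (some (5, 1)) [.fwd 11483, .fwd 11459, .bwd 11258],
   .loop (some (0, 1)) [.fwd 11619, .fwd 11168],
   .loop (some (15, 0)) [.bwd 10407, .bwd 10908, .bwd 7238, .bwd 10913],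
   .loop (some (20, 0)) [.fwd 10613, .bwd 3593, .bwd 3575, .bwd 8864, .fwd 3529, .fwd 504, .bwd 649, .bwd 10407],
   .loop (some (15, 0)) [.fwd 10403, .fwd 10913, .fwd 7238, .fwd 10908],
   .loop (some (13, 2)) [.bwd 10422, .bwd 11973, .fwd 10518],
   .loop (some (0, 0)) [.fwd 11910, .fwd 11972],
   .loop (some (13, 2)) [.bwd 10426, .bwd 11967, .fwd 10522],
   .loop (some (0, 0)) [.fwd 11898, .fwd 11966],
   .loop (some (8, 1)) [.bwd 10471, .fwd 11207, .fwd 10435, .fwd 10787],
   .loop none [.fwd 12018],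
   .loop none [.bwd 11247, .bwd 12019],
   .loop none [.fwd 11270, .bwd 12019],
   .loop none [.fwd 10787, .bwd 12019],
   .loop none [.bwd 11257, .bwd 12019],
   .loop none [.fwd 10789, .bwd 12019],
   .loop (some (15, 0)) [.bwd 10465, .bwd 7189, .fwd 575, .fwd 638, .bwd 10437],
   .loop none [.bwd 12025],
   .loop none [.fwd 10465, .bwd 12026],
   .loop (some (13, 2)) [.bwd 10444, .bwd 11997, .fwd 10550],
   .loop (some (15, 0)) [.bwd 11109, .fwd 7347, .fwd 10442, .fwd 10443],
   .loop (some (13, 2)) [.bwd 10448, .bwd 11992, .fwd 10554],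
   .loop (some (13, 2)) [.bwd 10452, .bwd 11987, .fwd 10558],
   .loop (some (15, 0)) [.bwd 10474, .bwd 10473, .bwd 10472, .bwd 10471],
   .loop (some (16, 2)) [.fwd 8719, .bwd 8718, .bwd 11471, .bwd 11703, .bwd 9826],
   .loop (some (12, 2)) [.bwd 10480, .bwd 11192, .fwd 10443],
   .loop (some (0, 0)) [.fwd 11997, .fwd 12034],
   .loop (some (13, 2)) [.bwd 10481, .bwd 12034, .fwd 10444],
   .loop (some (0, 0)) [.fwd 12028, .fwd 12036],
   .loop (some (10, 2)) [.bwd 10482, .bwd 12036, .fwd 10445],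
   .loop (some (11, 2)) [.bwd 10483, .bwd 12038, .fwd 10446],
   .loop (some (12, 2)) [.bwd 10484, .bwd 12039, .fwd 10447],
   .loop (some (13, 2)) [.bwd 10485, .bwd 12040, .fwd 10448],
   .loop (some (0, 0)) [.fwd 12030, .fwd 12041],
   .loop (some (10, 2)) [.bwd 10486, .bwd 12041, .fwd 10449],
   .loop (some (11, 2)) [.bwd 10487, .bwd 12043, .fwd 10450],
   .loop (some (12, 2)) [.bwd 10488, .bwd 12044, .fwd 10451],
   .loop (some (0, 0)) [.fwd 11987, .fwd 12045],
   .loop (some (13, 2)) [.bwd 10489, .bwd 12045, .fwd 10452],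
   .loop (some (0, 0)) [.fwd 12031, .fwd 12047],
   .loop (some (10, 2)) [.bwd 10490, .bwd 12047, .fwd 10453],
   .loop (some (0, 0)) [.fwd 11986, .fwd 12049],
   .loop (some (15, 0)) [.bwd 10506, .bwd 10505, .bwd 10504, .bwd 10503],
   .loop (some (15, 0)) [.bwd 10826, .bwd 9430, .fwd 10502, .fwd 10503],
   .loop (some (15, 0)) [.bwd 10535, .bwd 7208, .fwd 7298, .bwd 10506, .bwd 10505],
   .loop none [.bwd 12053],
   .loop none [.fwd 10535, .bwd 12054],
   .loop (some (15, 0)) [.fwd 10502, .fwd 10503, .fwd 10504, .fwd 10505],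
   .loop (some (13, 2)) [.bwd 10518, .bwd 11911, .fwd 10588],
   .loop (some (0, 1)) [.fwd 12057, .fwd 12014],
   .loop (some (13, 2)) [.bwd 10522, .bwd 11899, .fwd 10592],
   .loop (some (0, 1)) [.fwd 12059, .fwd 12016],
   .loop (some (15, 0)) [.bwd 10543, .bwd 10542, .bwd 10541, .bwd 10540],
   .loop (some (4, 2)) [.bwd 11253, .fwd 10541, .fwd 11482],
   .loop (some (15, 0)) [.bwd 10565, .bwd 7219, .fwd 7301, .bwd 10543, .bwd 10542],
   .loop none [.bwd 12063],
   .loop none [.fwd 10565, .bwd 12064],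
   .loop (some (15, 0)) [.fwd 10539, .fwd 10540, .fwd 10541, .fwd 10542],
   .loop (some (15, 0)) [.bwd 10575, .bwd 10574, .bwd 10573, .bwd 10572],
   .loop (some (15, 0)) [.bwd 10817, .bwd 11223, .fwd 11222, .fwd 10572],
   .loop (some (15, 0)) [.bwd 10604, .fwd 7184, .fwd 7308, .bwd 10575, .bwd 10574],
   .loop none [.bwd 12069],
   .loop none [.fwd 10604, .bwd 12070],
   .loop (some (15, 0)) [.fwd 11222, .fwd 10572, .fwd 10573, .fwd 10574],
   .loop (some (15, 0)) [.bwd 10403, .fwd 8453, .fwd 6903, .fwd 10611],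
   .loop (some (15, 0)) [.bwd 6728, .bwd 10730, .bwd 10729, .bwd 10825],
   .loop (some (8, 2)) [.bwd 10631, .fwd 11634, .fwd 10671],
   .loop (some (7, 2)) [.bwd 10632, .bwd 12075, .fwd 10672],
   .loop (some (20, 0)) [.bwd 8416, .fwd 8415, .fwd 6943, .bwd 6955, .fwd 6956, .bwd 11319, .fwd 11320, .bwd 10632],
   .loop (some (5, 1)) [.fwd 11156, .bwd 12077, .bwd 12075],
   .loop (some (15, 0)) [.bwd 9927, .fwd 11419, .fwd 10641, .fwd 10642],
   .loop (some (15, 0)) [.bwd 7748, .fwd 7769, .bwd 7799, .fwd 11276],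
   .loop (some (8, 2)) [.bwd 10671, .fwd 11633, .fwd 10825],
   .loop (some (15, 0)) [.bwd 10674, .bwd 10673, .bwd 10672, .bwd 10671],
   .loop (some (5, 1)) [.fwd 11154, .bwd 12078, .bwd 12081],
   .loop (some (15, 0)) [.bwd 10721, .fwd 7231, .fwd 10339, .bwd 10674, .bwd 10673],
   .loop none [.bwd 12084],
   .loop none [.fwd 10721, .bwd 12085],
   .loop (some (15, 0)) [.fwd 10362, .bwd 11744, .bwd 11745, .bwd 10711],
   .loop (some (15, 0)) [.bwd 10765, .bwd 7222, .fwd 9401, .bwd 6728, .bwd 10730],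
   .loop none [.bwd 12088],
   .loop none [.fwd 10765, .bwd 12089],
   .loop (some (15, 0)) [.bwd 9314, .bwd 5699, .bwd 5698, .fwd 11425],
   .loop (some (7, 1)) [.bwd 10797, .fwd 11275, .fwd 10782],
   .loop (some (15, 0)) [.fwd 3522, .bwd 3604, .bwd 10464, .bwd 10952],
   .define,
   .loop (some (17, 3)) [.bwd 10605, .bwd 6903, .fwd 5882, .fwd 6904, .fwd 12094],
   .define,
   .define,
   .loop (some (21, 4)) [.bwd 10507, .fwd 7220, .bwd 10411, .fwd 10410, .fwd 9717, .fwd 9718, .fwd 12096, .fwd 12097],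
   .define,
   .define,
   .define,
   .define,
   .define,
   .define,
   .define,
   .define,
   .define,
   .define,
   .define,
   .define,
   .define,
   .define,
   .define,
   .define,
   .define,
   .define,
   .define,
   .define,
   .define,
   .define,
   .define,
   .define,
   .define,
   .define,
   .define,
   .loop (some (22, 29)) [.bwd 10821, .bwd 9717, .fwd 5882, .fwd 6904, .fwd 12099, .fwd 12100, .fwd 12101, .fwd 12102, .fwd 12103, .fwd 12104, .fwd 12105, .fwd 12106, .fwd 12107, .fwd 12108, .fwd 12109, .fwd 12110, .fwd 12111, .fwd 12112, .fwd 12113, .fwd 12114, .fwd 12115, .fwd 12116, .fwd 12117, .fwd 12118, .fwd 12119, .fwd 12120, .fwd 12121, .fwd 12122, .fwd 12123, .fwd 12124, .fwd 12125],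
   .define,
   .loop (some (20, 3)) [.fwd 10890, .fwd 10952, .fwd 10464, .fwd 3604, .bwd 3522, .fwd 3527, .fwd 8476, .fwd 12127],
   .define,
   .define,
   .define,
   .define,
   .define,
   .define,
   .define,
   .define,
   .define,
   .define,
   .define,
   .define,
   .define,
   .define,
   .define,
   .define,
   .define,
   .define,
   .define,
   .define,
   .loop (some (22, 26)) [.bwd 10872, .bwd 7227, .bwd 7184, .fwd 7165, .fwd 7111, .bwd 3512, .fwd 3509, .bwd 4538, .fwd 4939, .bwd 4358, .bwd 8556, .fwd 12129, .fwd 12130, .fwd 12131, .fwd 12132, .fwd 12133, .fwd 12134, .fwd 12135, .fwd 12136, .fwd 12137, .fwd 12138, .fwd 12139, .fwd 12140, .fwd 12141, .fwd 12142, .fwd 12143, .fwd 12144, .fwd 12145, .fwd 12146, .fwd 12147, .fwd 12148],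
   .define,
   .define,
   .define,
   .define,
   .define,
   .loop (some (19, 5)) [.bwd 2056, .fwd 12150, .fwd 12151, .fwd 12152, .fwd 12153, .fwd 12154],
   .define,
   .define,
   .define,
   .loop (some (21, 5)) [.fwd 12154, .fwd 12155, .bwd 2056, .fwd 2055, .bwd 639, .fwd 12156, .fwd 12157, .fwd 12158],
   .define,
   .loop (some (5, 2)) [.fwd 7249, .fwd 2056, .fwd 12160],
   .loop (some (8, 1)) [.bwd 6293, .bwd 533, .fwd 12150],
   .define,
   .define,
   .define,
   .define,
   .define,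
   .loop (some (19, 5)) [.bwd 6293, .fwd 12163, .fwd 12164, .fwd 12165, .fwd 12166, .fwd 12167],
   .define,
   .define,
   .define,
   .loop (some (21, 5)) [.fwd 12167, .fwd 12168, .bwd 6293, .fwd 534, .fwd 6309, .fwd 12169, .fwd 12170, .fwd 12171],
   .loop (some (8, 1)) [.bwd 2056, .fwd 533, .fwd 12163],
   .loop (some (14, 2)) [.bwd 12164, .bwd 12163, .bwd 6294, .fwd 12163],
   .define,
   .define,
   .define,
   .define,
   .define,
   .loop (some (19, 5)) [.bwd 6309, .fwd 12175, .fwd 12176, .fwd 12177, .fwd 12178, .fwd 12179],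
   .define,
   .define,
   .define,
   .loop (some (21, 5)) [.fwd 12179, .fwd 12180, .bwd 6309, .bwd 534, .fwd 6293, .fwd 12181, .fwd 12182, .fwd 12183],
   .loop (some (8, 1)) [.fwd 6177, .bwd 6308, .fwd 12175],
   .define,
   .define,
   .define,
   .define,
   .define,
   .loop (some (19, 5)) [.bwd 6322, .fwd 12186, .fwd 12187, .fwd 12188, .fwd 12189, .fwd 12190],
   .define,
   .define,
   .define,
   .loop (some (21, 5)) [.fwd 12190, .fwd 12191, .bwd 6322, .fwd 6321, .bwd 2930, .fwd 12192, .fwd 12193, .fwd 12194],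
   .loop (some (8, 1)) [.fwd 6124, .bwd 6320, .fwd 12186],
   .define,
   .define,
   .define,
   .define,
   .define,
   .loop (some (19, 5)) [.bwd 6339, .fwd 12197, .fwd 12198, .fwd 12199, .fwd 12200, .fwd 12201],
   .define,
   .define,
   .define,
   .loop (some (21, 5)) [.fwd 12201, .fwd 12202, .bwd 6339, .fwd 6338, .fwd 4722, .fwd 12203, .fwd 12204, .fwd 12205],
   .loop (some (8, 1)) [.fwd 6465, .bwd 537, .fwd 12197],
   .define,
   .define,
   .define,
   .loop (some (19, 5)) [.fwd 6465, .bwd 6575, .bwd 6574, .fwd 12208, .fwd 12209, .fwd 12210],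
   .loop (some (21, 5)) [.fwd 12210, .fwd 12211, .fwd 6465, .bwd 6411, .bwd 6570, .fwd 6411, .bwd 6465, .bwd 12211],
   .define,
   .define,
   .loop (some (21, 4)) [.fwd 2342, .fwd 3074, .fwd 3074, .fwd 3074, .bwd 2342, .bwd 2336, .fwd 12213, .fwd 12214],
   .define,
   .define,
   .define,
   .loop (some (21, 5)) [.fwd 11258, .fwd 11238, .fwd 3594, .bwd 6506, .fwd 6507, .fwd 12216, .fwd 12217, .fwd 12218],
   .define,
   .define,
   .define,
   .define,
   .loop (some (16, 4)) [.bwd 7295, .fwd 12220, .fwd 12221, .fwd 12222, .fwd 12223],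
   .define,
   .define,
   .define,
   .loop (some (21, 4)) [.bwd 9360, .fwd 557, .fwd 505, .fwd 552, .fwd 8333, .fwd 12225, .fwd 12226, .fwd 12227],
   .loop (some (20, 1)) [.fwd 12128, .fwd 10890, .fwd 10952, .fwd 10464, .fwd 3604, .bwd 3522, .bwd 518, .bwd 7189, .fwd 12220],
   .loop none [.fwd 12229],
   .loop none [.fwd 12220, .bwd 12230],
   .loop none [.bwd 12221, .bwd 12230],
   .define,
   .define,
   .loop (some (9, 2)) [.fwd 12231, .fwd 7297, .fwd 12234],
   .define,
   .define,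
   .define,
   .define,
   .loop (some (16, 4)) [.fwd 7299, .fwd 12236, .fwd 12237, .fwd 12238, .fwd 12239],
   .define,
   .define,
   .define,
   .loop (some (21, 4)) [.bwd 1853, .fwd 505, .fwd 552, .fwd 553, .fwd 9572, .fwd 12241, .fwd 12242, .fwd 12243],
   .define,
   .define,
   .loop (some (20, 3)) [.fwd 9827, .bwd 9049, .bwd 7254, .bwd 7136, .bwd 7192, .fwd 12236, .fwd 12245, .fwd 12246],
   .define,
   .loop (some (1, 2)) [.bwd 9572, .fwd 12236, .fwd 12248]]

theorem just48_len : just48.length = 250 := by decide +kernel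

theorem just48_ok : cert.okFacts 12000 just48 = true := by decide +kernel

/-- justifications -/
noncomputable def just49 : List Cert.Just :=
  [.define,
   .loop (some (18, 3)) [.fwd 6659, .bwd 9572, .fwd 7296, .fwd 10160, .fwd 12250],
   .define,
   .define,
   .define,
   .loop (some (16, 4)) [.fwd 7304, .fwd 10621, .fwd 12252, .fwd 12253, .fwd 12254],
   .define,
   .define,
   .loop (some (20, 3)) [.fwd 10533, .bwd 9047, .fwd 9030, .bwd 7202, .bwd 7208, .fwd 10621, .fwd 12256, .fwd 12257],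
   .loop (some (5, 2)) [.bwd 10621, .bwd 554, .fwd 12236],
   .define,
   .loop (some (1, 2)) [.bwd 9565, .fwd 10621, .fwd 12260],
   .define,
   .loop (some (18, 3)) [.fwd 5923, .bwd 9565, .fwd 7298, .bwd 644, .fwd 12262],
   .define,
   .define,
   .define,
   .loop (some (16, 4)) [.fwd 7309, .fwd 12234, .fwd 12264, .fwd 12265, .fwd 12266],
   .define,
   .define,
   .loop (some (21, 4)) [.bwd 8333, .fwd 553, .fwd 554, .fwd 555, .bwd 567, .bwd 10723, .fwd 12268, .fwd 12269],
   .define,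
   .define,
   .loop (some (20, 3)) [.fwd 10564, .bwd 9045, .fwd 9022, .fwd 7214, .bwd 7219, .fwd 12234, .fwd 12271, .fwd 12272],
   .loop (some (5, 2)) [.bwd 12234, .bwd 555, .fwd 10621],
   .define,
   .loop (some (1, 2)) [.fwd 567, .fwd 12234, .fwd 12275],
   .define,
   .define,
   .define,
   .loop (some (16, 4)) [.bwd 7227, .fwd 10614, .fwd 12277, .fwd 12278, .fwd 12279],
   .define,
   .define,
   .loop (some (21, 3)) [.bwd 10887, .bwd 9572, .fwd 554, .fwd 555, .fwd 556, .fwd 9360, .fwd 12281, .fwd 12282],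
   .define,
   .define,
   .loop (some (20, 3)) [.fwd 10396, .bwd 9043, .fwd 7261, .bwd 7165, .fwd 7184, .fwd 10614, .fwd 12284, .fwd 12285],
   .loop (some (5, 2)) [.bwd 10614, .bwd 556, .fwd 12234],
   .define,
   .loop (some (1, 2)) [.bwd 9360, .fwd 10614, .fwd 12288],
   .define,
   .loop (some (18, 3)) [.fwd 6794, .bwd 9360, .fwd 7308, .fwd 10243, .fwd 12290],
   .define,
   .define,
   .loop (some (21, 4)) [.bwd 12275, .fwd 12287, .fwd 10615, .fwd 574, .fwd 577, .bwd 1867, .fwd 12292, .fwd 12293],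
   .define,
   .define,
   .define,
   .define,
   .define,
   .loop (some (19, 5)) [.fwd 10880, .fwd 12295, .fwd 12296, .fwd 12297, .fwd 12298, .fwd 12299],
   .loop (some (7, 2)) [.bwd 1865, .bwd 10880, .bwd 12095],
   .define,
   .define,
   .loop (some (8, 2)) [.bwd 7314, .fwd 12295, .fwd 12303],
   .define,
   .define,
   .define,
   .define,
   .define,
   .loop (some (7, 2)) [.bwd 5271, .bwd 10881, .fwd 12309],
   .define,
   .define,
   .loop (some (8, 2)) [.bwd 7336, .fwd 12305, .fwd 12312],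
   .loop (some (14, 2)) [.bwd 12306, .bwd 12305, .bwd 7328, .fwd 12305],
   .define,
   .define,
   .define,
   .define,
   .define,
   .loop (some (19, 5)) [.fwd 1757, .fwd 12315, .fwd 12316, .fwd 12317, .fwd 12318, .fwd 12319],
   .define,
   .define,
   .define,
   .loop (some (21, 5)) [.fwd 12319, .fwd 12320, .fwd 1757, .fwd 5262, .fwd 5253, .fwd 12321, .fwd 12322, .fwd 12323],
   .loop (some (8, 1)) [.fwd 1711, .fwd 7335, .fwd 12315],
   .define,
   .loop (some (16, 3)) [.bwd 1835, .fwd 1839, .fwd 1866, .fwd 12094, .fwd 12326],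
   .loop (some (21, 3)) [.fwd 12283, .bwd 8368, .fwd 1849, .fwd 1850, .fwd 1851, .fwd 564, .fwd 565, .fwd 10686],
   .define,
   .loop (some (20, 3)) [.fwd 947, .bwd 1120, .fwd 7874, .fwd 1930, .bwd 1852, .fwd 1866, .fwd 12099, .fwd 12329],
   .define,
   .loop (some (5, 2)) [.bwd 1866, .bwd 1851, .fwd 12331],
   .loop (some (1, 2)) [.bwd 564, .fwd 1866, .fwd 12292],
   .define,
   .loop (some (9, 2)) [.bwd 1866, .bwd 8369, .fwd 12334],
   .define,
   .define,
   .define,
   .loop (some (19, 3)) [.fwd 10723, .bwd 566, .bwd 565, .fwd 12336, .fwd 12337, .fwd 12338],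
   .define,
   .define,
   .define,
   .loop (some (16, 4)) [.fwd 7353, .bwd 12333, .fwd 12340, .fwd 12341, .fwd 12342],
   .define,
   .loop (some (21, 4)) [.bwd 12268, .fwd 10723, .bwd 566, .bwd 565, .bwd 564, .bwd 1851, .bwd 8417, .fwd 12344],
   .define,
   .define,
   .loop (some (20, 3)) [.fwd 11356, .bwd 8416, .fwd 8415, .fwd 6943, .bwd 6955, .bwd 12333, .fwd 12346, .fwd 12347],
   .loop (some (5, 1)) [.bwd 12293, .fwd 12333, .fwd 565],
   .define,
   .loop (some (8, 2)) [.bwd 6956, .fwd 12336, .fwd 12350],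
   .define,
   .define,
   .define,
   .define,
   .define,
   .define,
   .define,
   .define,
   .define,
   .define,
   .define,
   .define,
   .define,
   .define,
   .define,
   .define,
   .define,
   .define,
   .define,
   .define,
   .define,
   .define,
   .define,
   .loop (some (22, 28)) [.fwd 9917, .bwd 5903, .fwd 564, .bwd 7353, .fwd 7357, .bwd 5600, .fwd 11418, .bwd 10640, .fwd 12352, .fwd 12353, .fwd 12354, .fwd 12355, .fwd 12356, .fwd 12357, .fwd 12358, .fwd 12359, .fwd 12360, .fwd 12361, .fwd 12362, .fwd 12363, .fwd 12364, .fwd 12365, .fwd 12366, .fwd 12367, .fwd 12368, .fwd 12369, .fwd 12370, .fwd 12371, .fwd 12372, .fwd 12373, .fwd 12374],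
   .define,
   .define,
   .define,
   .define,
   .loop (some (16, 4)) [.bwd 7359, .fwd 12349, .fwd 12377, .fwd 12378, .fwd 12379],
   .define,
   .define,
   .loop (some (21, 5)) [.fwd 12339, .fwd 10723, .bwd 566, .fwd 10686, .fwd 12328, .bwd 12282, .fwd 12381, .fwd 12382],
   .define,
   .define,
   .loop (some (20, 3)) [.fwd 10718, .bwd 9862, .fwd 8418, .bwd 7182, .fwd 7231, .fwd 12349, .fwd 12384, .fwd 12385],
   .define,
   .loop (some (2, 2)) [.bwd 10339, .fwd 7359, .fwd 12387],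
   .define,
   .loop (some (1, 2)) [.bwd 10686, .fwd 12349, .fwd 12389],
   .define,
   .define,
   .loop (some (18, 4)) [.bwd 10686, .fwd 10339, .fwd 10340, .fwd 12391, .fwd 12392],
   .define,
   .loop (some (3, 2)) [.bwd 10686, .fwd 7359, .fwd 12394],
   .define,
   .loop (some (14, 2)) [.bwd 12336, .fwd 565, .bwd 10716, .fwd 12396],
   .define,
   .loop (some (12, 2)) [.bwd 10339, .bwd 10716, .fwd 12398],
   .define,
   .loop (some (0, 1)) [.fwd 10716, .fwd 12400],
   .define,
   .loop (some (13, 2)) [.bwd 10686, .bwd 10716, .fwd 12402],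
   .define,
   .define,
   .define,
   .define,
   .define,
   .define,
   .define,
   .define,
   .define,
   .define,
   .define,
   .define,
   .define,
   .define,
   .define,
   .define,
   .define,
   .define,
   .define,
   .define,
   .define,
   .define,
   .define,
   .define,
   .define,
   .define,
   .define,
   .loop (some (22, 29)) [.fwd 12393, .bwd 10686, .fwd 7359, .bwd 11113, .fwd 12404, .fwd 12405, .fwd 12406, .fwd 12407, .fwd 12408, .fwd 12409, .fwd 12410, .fwd 12411, .fwd 12412, .fwd 12413, .fwd 12414, .fwd 12415, .fwd 12416, .fwd 12417, .fwd 12418, .fwd 12419, .fwd 12420, .fwd 12421, .fwd 12422, .fwd 12423, .fwd 12424, .fwd 12425, .fwd 12426, .fwd 12427, .fwd 12428, .fwd 12429, .fwd 12430],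
   .define,
   .loop (some (9, 2)) [.bwd 12349, .bwd 10716, .fwd 12432],
   .define,
   .loop (some (10, 2)) [.bwd 7359, .bwd 10716, .fwd 12434],
   .define,
   .define,
   .define,
   .loop (some (16, 4)) [.fwd 7310, .bwd 12276, .fwd 12436, .fwd 12437, .fwd 12438],
   .define,
   .loop (some (21, 5)) [.fwd 12338, .fwd 12339, .fwd 10723, .fwd 567, .bwd 555, .fwd 9565, .fwd 10850, .fwd 12440],
   .define,
   .define,
   .loop (some (20, 3)) [.fwd 9707, .fwd 9708, .fwd 7187, .bwd 7183, .bwd 7222, .bwd 12276, .fwd 12442, .fwd 12443],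
   .define,
   .loop (some (2, 2)) [.bwd 9401, .bwd 7310, .fwd 12445],
   .define,
   .loop (some (5, 2)) [.fwd 12276, .bwd 10723, .fwd 12447],
   .define,
   .loop (some (6, 2)) [.fwd 7310, .bwd 10723, .fwd 12449],
   .define,
   .define,
   .define,
   .define,
   .define,
   .define,
   .define,
   .define,
   .define,
   .define,
   .define,
   .define,
   .define,
   .define,
   .define,
   .define,
   .define,
   .define,
   .define,
   .define,
   .define,
   .define,
   .define,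
   .define,
   .define,
   .loop (some (22, 27)) [.fwd 10934, .fwd 10543, .bwd 7301, .bwd 567, .bwd 7310, .fwd 10373, .fwd 12451, .fwd 12452, .fwd 12453, .fwd 12454, .fwd 12455, .fwd 12456, .fwd 12457, .fwd 12458, .fwd 12459, .fwd 12460, .fwd 12461, .fwd 12462, .fwd 12463, .fwd 12464, .fwd 12465, .fwd 12466, .fwd 12467, .fwd 12468, .fwd 12469, .fwd 12470, .fwd 12471, .fwd 12472, .fwd 12473, .fwd 12474, .fwd 12475],
   .define,
   .define,
   .define,
   .define,
   .loop (some (19, 5)) [.bwd 4760, .fwd 10891, .fwd 12477, .fwd 12478, .fwd 12479, .fwd 12480],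
   .define,
   .define,
   .define,
   .loop (some (21, 5)) [.fwd 12480, .fwd 12481, .bwd 4760, .fwd 4759, .bwd 717, .fwd 12482, .fwd 12483, .fwd 12484],
   .loop (some (6, 1)) [.fwd 12304, .fwd 4765, .fwd 4760],
   .define,
   .define,
   .define,
   .define,
   .loop (some (19, 5)) [.fwd 10815, .fwd 10892, .fwd 12487, .fwd 12488, .fwd 12489, .fwd 12490],
   .define,
   .define,
   .loop (some (6, 2)) [.fwd 7288, .bwd 10815, .fwd 12493],
   .define,
   .define,
   .loop (some (21, 4)) [.bwd 12260, .fwd 12274, .fwd 12287, .fwd 10615, .fwd 10616, .bwd 11633, .fwd 12495, .fwd 12496],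
   .define,
   .loop (some (2, 2)) [.bwd 10611, .fwd 10605, .fwd 12498]]

theorem just49_len : just49.length = 250 := by decide +kernel

theorem just49_ok : cert.okFacts 12250 just49 = true := by decide +kernel

/-- justifications -/
noncomputable def just50 : List Cert.Just :=
  [.define,
   .define,
   .loop (some (18, 3)) [.bwd 10825, .bwd 10616, .fwd 10611, .fwd 12500, .fwd 12501],
   .loop (some (6, 2)) [.fwd 12300, .bwd 10605, .bwd 10615, .fwd 12277],
   .loop none [.bwd 12503],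
   .loop none [.bwd 12300, .bwd 12504],
   .loop none [.fwd 12299, .bwd 12504],
   .define,
   .loop (some (3, 2)) [.bwd 10616, .fwd 10605, .fwd 12507],
   .loop (some (12, 2)) [.bwd 10611, .bwd 10622, .fwd 12256],
   .define,
   .define,
   .define,
   .define,
   .define,
   .define,
   .define,
   .define,
   .define,
   .define,
   .define,
   .define,
   .define,
   .define,
   .define,
   .define,
   .define,
   .define,
   .define,
   .define,
   .define,
   .define,
   .define,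
   .define,
   .define,
   .define,
   .loop (some (22, 28)) [.bwd 10729, .bwd 10825, .bwd 10616, .fwd 10605, .bwd 12095, .fwd 12510, .fwd 12511, .fwd 12512, .fwd 12513, .fwd 12514, .fwd 12515, .fwd 12516, .fwd 12517, .fwd 12518, .fwd 12519, .fwd 12520, .fwd 12521, .fwd 12522, .fwd 12523, .fwd 12524, .fwd 12525, .fwd 12526, .fwd 12527, .fwd 12528, .fwd 12529, .fwd 12530, .fwd 12531, .fwd 12532, .fwd 12533, .fwd 12534, .fwd 12535],
   .loop (some (10, 2)) [.bwd 10605, .bwd 10622, .fwd 12252],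
   .define,
   .loop (some (16, 3)) [.bwd 1710, .bwd 652, .fwd 647, .fwd 12486, .fwd 12538],
   .define,
   .define,
   .loop (some (21, 4)) [.bwd 10214, .fwd 628, .fwd 629, .fwd 630, .fwd 704, .fwd 705, .fwd 12540, .fwd 12541],
   .loop (some (5, 1)) [.fwd 12481, .bwd 647, .bwd 630],
   .define,
   .loop (some (1, 2)) [.bwd 704, .fwd 647, .fwd 12544],
   .loop (some (4, 2)) [.bwd 704, .fwd 638, .fwd 12156],
   .define,
   .define,
   .define,
   .define,
   .define,
   .define,
   .define,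
   .define,
   .define,
   .define,
   .define,
   .define,
   .define,
   .define,
   .define,
   .define,
   .define,
   .define,
   .define,
   .define,
   .define,
   .define,
   .define,
   .define,
   .loop (some (22, 26)) [.bwd 6862, .fwd 11606, .bwd 9931, .bwd 11610, .bwd 704, .fwd 652, .bwd 1681, .fwd 12547, .fwd 12548, .fwd 12549, .fwd 12550, .fwd 12551, .fwd 12552, .fwd 12553, .fwd 12554, .fwd 12555, .fwd 12556, .fwd 12557, .fwd 12558, .fwd 12559, .fwd 12560, .fwd 12561, .fwd 12562, .fwd 12563, .fwd 12564, .fwd 12565, .fwd 12566, .fwd 12567, .fwd 12568, .fwd 12569, .fwd 12570],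
   .define,
   .loop (some (9, 2)) [.bwd 647, .fwd 7389, .fwd 12572],
   .define,
   .define,
   .define,
   .loop (some (19, 4)) [.fwd 12332, .fwd 1867, .fwd 8382, .fwd 12574, .fwd 12575, .fwd 12576],
   .define,
   .define,
   .loop (some (21, 4)) [.bwd 7305, .fwd 1744, .fwd 1745, .fwd 1746, .fwd 1812, .fwd 1813, .fwd 12578, .fwd 12579],
   .define,
   .define,
   .loop (some (20, 3)) [.fwd 10102, .bwd 1837, .fwd 8341, .bwd 7175, .bwd 1747, .fwd 1756, .fwd 12581, .fwd 12582],
   .loop (some (5, 2)) [.fwd 12320, .bwd 1756, .bwd 1746, .bwd 12280],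
   .loop none [.bwd 12584],
   .loop none [.bwd 12320, .bwd 12585],
   .define,
   .loop (some (1, 2)) [.bwd 1812, .fwd 1756, .fwd 12587],
   .define,
   .loop (some (18, 4)) [.bwd 1812, .bwd 1712, .bwd 10923, .fwd 11648, .fwd 12589],
   .define,
   .define,
   .define,
   .define,
   .define,
   .define,
   .define,
   .define,
   .define,
   .define,
   .define,
   .define,
   .define,
   .define,
   .define,
   .define,
   .define,
   .define,
   .define,
   .loop (some (22, 29)) [.fwd 12590, .bwd 1812, .bwd 580, .bwd 504, .bwd 3529, .bwd 7215, .fwd 7213, .fwd 5557, .fwd 5378, .fwd 5055, .bwd 4486, .fwd 8528, .fwd 12591, .fwd 12592, .fwd 12593, .fwd 12594, .fwd 12595, .fwd 12596, .fwd 12597, .fwd 12598, .fwd 12599, .fwd 12600, .fwd 12601, .fwd 12602, .fwd 12603, .fwd 12604, .fwd 12605, .fwd 12606, .fwd 12607, .fwd 12608, .fwd 12609],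
   .loop (some (15, 0)) [.bwd 10965, .bwd 1692, .bwd 8315, .fwd 1712],
   .loop (some (9, 2)) [.bwd 1756, .bwd 7306, .bwd 12255],
   .define,
   .define,
   .define,
   .loop (some (19, 5)) [.bwd 5277, .bwd 6588, .bwd 6587, .fwd 12613, .fwd 12614, .fwd 12615],
   .loop (some (21, 5)) [.fwd 12615, .fwd 12616, .bwd 5277, .fwd 5276, .bwd 6568, .bwd 5276, .fwd 5277, .bwd 12616],
   .define,
   .define,
   .define,
   .define,
   .define,
   .loop (some (19, 5)) [.bwd 5288, .fwd 12618, .fwd 12619, .fwd 12620, .fwd 12621, .fwd 12622],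
   .define,
   .define,
   .define,
   .define,
   .define,
   .loop (some (19, 5)) [.bwd 5299, .fwd 12624, .fwd 12625, .fwd 12626, .fwd 12627, .fwd 12628],
   .loop (some (21, 5)) [.fwd 12628, .fwd 12629, .bwd 5299, .fwd 5298, .bwd 3095, .bwd 5298, .fwd 5299, .bwd 12629],
   .define,
   .define,
   .define,
   .define,
   .define,
   .loop (some (19, 5)) [.bwd 5336, .fwd 12631, .fwd 12632, .fwd 12633, .fwd 12634, .fwd 12635],
   .define,
   .define,
   .define,
   .loop (some (21, 5)) [.fwd 12635, .fwd 12636, .bwd 5336, .fwd 611, .fwd 5331, .fwd 12637, .fwd 12638, .fwd 12639],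
   .loop (some (8, 1)) [.bwd 2366, .bwd 5335, .fwd 12631],
   .define,
   .define,
   .define,
   .define,
   .define,
   .loop (some (19, 5)) [.bwd 5331, .fwd 12642, .fwd 12643, .fwd 12644, .fwd 12645, .fwd 12646],
   .define,
   .define,
   .define,
   .loop (some (21, 5)) [.fwd 12646, .fwd 12647, .bwd 5331, .bwd 611, .fwd 5336, .fwd 12648, .fwd 12649, .fwd 12650],
   .loop (some (8, 1)) [.bwd 2442, .bwd 5328, .fwd 12642],
   .loop (some (14, 2)) [.bwd 12643, .bwd 12642, .bwd 5332, .fwd 12642],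
   .define,
   .define,
   .define,
   .define,
   .define,
   .loop (some (19, 5)) [.bwd 5324, .fwd 12654, .fwd 12655, .fwd 12656, .fwd 12657, .fwd 12658],
   .define,
   .loop (some (7, 2)) [.bwd 613, .fwd 5324, .fwd 12660],
   .define,
   .define,
   .define,
   .loop (some (21, 5)) [.fwd 12658, .fwd 12659, .bwd 5324, .fwd 5323, .fwd 3507, .fwd 12662, .fwd 12663, .fwd 12664],
   .loop (some (5, 1)) [.fwd 12494, .fwd 7287, .fwd 5324],
   .loop (some (8, 1)) [.fwd 2523, .bwd 5322, .fwd 12654],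
   .define,
   .define,
   .define,
   .define,
   .define,
   .loop (some (19, 5)) [.fwd 12661, .fwd 12668, .fwd 12669, .fwd 12670, .fwd 12671, .fwd 12672],
   .define,
   .define,
   .define,
   .define,
   .loop (some (21, 5)) [.fwd 12672, .fwd 12673, .fwd 12661, .fwd 7443, .fwd 12674, .fwd 12675, .fwd 12676, .fwd 12677],
   .define,
   .loop (some (5, 2)) [.bwd 7453, .bwd 12661, .fwd 12679],
   .loop (some (8, 1)) [.bwd 12674, .bwd 614, .fwd 12668],
   .define,
   .loop (some (6, 2)) [.fwd 7445, .bwd 12661, .fwd 12682],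
   .loop (some (14, 2)) [.bwd 12669, .bwd 12668, .bwd 7452, .fwd 12668],
   .define,
   .define,
   .define,
   .define,
   .define,
   .loop (some (19, 5)) [.bwd 12674, .fwd 12685, .fwd 12686, .fwd 12687, .fwd 12688, .fwd 12689],
   .loop (some (7, 1)) [.bwd 3507, .bwd 5305, .fwd 12674],
   .define,
   .define,
   .define,
   .loop (some (21, 5)) [.fwd 12689, .fwd 12690, .bwd 12674, .bwd 7443, .bwd 12661, .fwd 12692, .fwd 12693, .fwd 12694],
   .define,
   .loop (some (5, 2)) [.fwd 7607, .fwd 12674, .fwd 12696],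
   .loop (some (8, 1)) [.fwd 12661, .fwd 614, .fwd 12685],
   .define,
   .loop (some (6, 2)) [.fwd 7422, .fwd 12674, .fwd 12699],
   .define,
   .define,
   .define,
   .define,
   .define,
   .loop (some (19, 5)) [.fwd 12683, .fwd 12701, .fwd 12702, .fwd 12703, .fwd 12704, .fwd 12705],
   .define,
   .loop (some (7, 2)) [.bwd 617, .bwd 12683, .fwd 12707],
   .define,
   .define,
   .define,
   .loop (some (21, 5)) [.fwd 12705, .fwd 12706, .fwd 12683, .fwd 7459, .bwd 12700, .fwd 12709, .fwd 12710, .fwd 12711],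
   .define,
   .loop (some (5, 2)) [.bwd 7464, .bwd 12683, .fwd 12713],
   .loop (some (8, 1)) [.fwd 12700, .bwd 7458, .fwd 12701],
   .define,
   .define,
   .define,
   .define,
   .define,
   .loop (some (19, 5)) [.fwd 12708, .fwd 12716, .fwd 12717, .fwd 12718, .fwd 12719, .fwd 12720],
   .define,
   .define,
   .define,
   .define,
   .loop (some (21, 5)) [.fwd 12720, .fwd 12721, .fwd 12708, .fwd 7475, .fwd 12722, .fwd 12723, .fwd 12724, .fwd 12725],
   .loop (some (8, 1)) [.fwd 10070, .bwd 618, .fwd 12716],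
   .loop (some (6, 1)) [.bwd 6331, .bwd 7450, .bwd 12708],
   .define,
   .define,
   .define,
   .define,
   .define,
   .loop (some (19, 5)) [.fwd 10070, .fwd 12729, .fwd 12730, .fwd 12731, .fwd 12732, .fwd 12733],
   .define,
   .loop (some (8, 1)) [.fwd 12708, .fwd 618, .fwd 12729],
   .define,
   .define,
   .define,
   .define,
   .define,
   .loop (some (19, 5)) [.fwd 10077, .fwd 12737, .fwd 12738, .fwd 12739, .fwd 12740, .fwd 12741],
   .loop (some (8, 1)) [.fwd 10060, .fwd 7094, .fwd 12737],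
   .define,
   .define,
   .define,
   .define,
   .loop (some (19, 5)) [.fwd 9952, .fwd 11052, .fwd 12744, .fwd 12745, .fwd 12746, .fwd 12747],
   .define]

theorem just50_len : just50.length = 250 := by decide +kernel

theorem just50_ok : cert.okFacts 12500 just50 = true := by decide +kernel

/-- justifications -/
noncomputable def just51 : List Cert.Just :=
  [.define,
   .define,
   .loop (some (21, 5)) [.fwd 12747, .fwd 12748, .fwd 9952, .fwd 6972, .bwd 9964, .fwd 12749, .fwd 12750, .fwd 12751],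
   .define,
   .define,
   .loop (some (16, 4)) [.fwd 7226, .fwd 10917, .bwd 12499, .fwd 12753, .fwd 12754],
   .define,
   .define,
   .define,
   .loop (some (21, 4)) [.bwd 10160, .fwd 630, .fwd 576, .fwd 625, .fwd 9765, .fwd 12756, .fwd 12757, .fwd 12758],
   .loop (some (1, 2)) [.bwd 9765, .fwd 10917, .fwd 12500],
   .define,
   .define,
   .define,
   .define,
   .define,
   .define,
   .define,
   .define,
   .define,
   .define,
   .define,
   .define,
   .define,
   .define,
   .define,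
   .define,
   .define,
   .define,
   .define,
   .define,
   .define,
   .define,
   .define,
   .define,
   .define,
   .define,
   .loop (some (22, 29)) [.bwd 10618, .bwd 9765, .bwd 7226, .fwd 8315, .fwd 1692, .fwd 12761, .fwd 12762, .fwd 12763, .fwd 12764, .fwd 12765, .fwd 12766, .fwd 12767, .fwd 12768, .fwd 12769, .fwd 12770, .fwd 12771, .fwd 12772, .fwd 12773, .fwd 12774, .fwd 12775, .fwd 12776, .fwd 12777, .fwd 12778, .fwd 12779, .fwd 12780, .fwd 12781, .fwd 12782, .fwd 12783, .fwd 12784, .fwd 12785, .fwd 12786],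
   .loop (some (9, 1)) [.fwd 12509, .bwd 10917, .fwd 7573],
   .define,
   .define,
   .define,
   .define,
   .loop (some (16, 4)) [.fwd 7575, .fwd 12789, .fwd 12790, .fwd 12791, .fwd 12792],
   .define,
   .define,
   .define,
   .loop (some (21, 4)) [.bwd 704, .fwd 576, .fwd 625, .fwd 626, .fwd 10243, .fwd 12794, .fwd 12795, .fwd 12796],
   .loop (some (20, 1)) [.bwd 12284, .bwd 10817, .bwd 11223, .fwd 11222, .fwd 10572, .fwd 10573, .fwd 10574, .fwd 10575, .fwd 12789],
   .loop none [.fwd 12798],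
   .loop none [.fwd 12789, .bwd 12799],
   .loop none [.bwd 12790, .bwd 12799],
   .loop (some (5, 3)) [.fwd 12800, .bwd 626, .fwd 10917, .fwd 12477],
   .loop none [.fwd 12802],
   .loop none [.bwd 12478, .bwd 12803],
   .define,
   .loop (some (4, 2)) [.bwd 10243, .bwd 10575, .fwd 12805],
   .define,
   .define,
   .define,
   .define,
   .define,
   .define,
   .define,
   .define,
   .define,
   .define,
   .define,
   .define,
   .define,
   .define,
   .define,
   .define,
   .define,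
   .define,
   .define,
   .define,
   .define,
   .define,
   .define,
   .define,
   .define,
   .define,
   .define,
   .loop (some (22, 29)) [.bwd 12290, .bwd 10243, .bwd 7575, .fwd 8316, .fwd 12807, .fwd 12808, .fwd 12809, .fwd 12810, .fwd 12811, .fwd 12812, .fwd 12813, .fwd 12814, .fwd 12815, .fwd 12816, .fwd 12817, .fwd 12818, .fwd 12819, .fwd 12820, .fwd 12821, .fwd 12822, .fwd 12823, .fwd 12824, .fwd 12825, .fwd 12826, .fwd 12827, .fwd 12828, .fwd 12829, .fwd 12830, .fwd 12831, .fwd 12832, .fwd 12833],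
   .define,
   .define,
   .define,
   .loop (some (16, 4)) [.fwd 7577, .fwd 12572, .fwd 12835, .fwd 12836, .fwd 12837],
   .define,
   .loop (some (21, 2)) [.bwd 690, .bwd 689, .bwd 24, .fwd 625, .fwd 626, .fwd 627, .fwd 10214, .fwd 12839],
   .define,
   .loop (some (20, 2)) [.bwd 9042, .fwd 10539, .fwd 10540, .fwd 10541, .fwd 10542, .fwd 10543, .fwd 12572, .fwd 12841],
   .loop (some (5, 3)) [.bwd 12572, .bwd 627, .bwd 12800, .fwd 12804],
   .loop none [.bwd 12843],
   .loop none [.fwd 12572, .bwd 12844],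
   .loop none [.bwd 12835, .bwd 12844],
   .loop none [.bwd 12841, .bwd 12844],
   .loop none [.bwd 12573, .bwd 12844],
   .define,
   .loop (some (1, 2)) [.bwd 10214, .bwd 12845, .fwd 12849],
   .define,
   .loop (some (4, 2)) [.bwd 10214, .bwd 10543, .fwd 12851],
   .define,
   .define,
   .define,
   .define,
   .define,
   .define,
   .define,
   .define,
   .define,
   .define,
   .define,
   .define,
   .define,
   .define,
   .define,
   .define,
   .define,
   .define,
   .define,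
   .define,
   .define,
   .define,
   .define,
   .define,
   .define,
   .define,
   .define,
   .loop (some (22, 29)) [.bwd 10867, .bwd 10214, .bwd 7577, .fwd 8317, .fwd 12853, .fwd 12854, .fwd 12855, .fwd 12856, .fwd 12857, .fwd 12858, .fwd 12859, .fwd 12860, .fwd 12861, .fwd 12862, .fwd 12863, .fwd 12864, .fwd 12865, .fwd 12866, .fwd 12867, .fwd 12868, .fwd 12869, .fwd 12870, .fwd 12871, .fwd 12872, .fwd 12873, .fwd 12874, .fwd 12875, .fwd 12876, .fwd 12877, .fwd 12878, .fwd 12879],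
   .define,
   .define,
   .define,
   .loop (some (16, 4)) [.fwd 7579, .fwd 12788, .fwd 12881, .fwd 12882, .fwd 12883],
   .define,
   .define,
   .define,
   .loop (some (21, 4)) [.bwd 9765, .fwd 626, .fwd 627, .fwd 628, .bwd 644, .fwd 12885, .fwd 12886, .fwd 12887],
   .loop (some (5, 3)) [.bwd 12788, .bwd 628, .bwd 12845, .fwd 12479],
   .loop none [.fwd 12889],
   .loop none [.fwd 12485, .bwd 12890],
   .loop (some (1, 2)) [.fwd 644, .fwd 12788, .fwd 12891],
   .define,
   .define,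
   .define,
   .define,
   .define,
   .define,
   .define,
   .define,
   .define,
   .define,
   .define,
   .define,
   .define,
   .define,
   .define,
   .define,
   .define,
   .define,
   .define,
   .define,
   .define,
   .define,
   .define,
   .define,
   .define,
   .define,
   .define,
   .loop (some (22, 29)) [.bwd 12262, .fwd 644, .bwd 7579, .fwd 8320, .fwd 12893, .fwd 12894, .fwd 12895, .fwd 12896, .fwd 12897, .fwd 12898, .fwd 12899, .fwd 12900, .fwd 12901, .fwd 12902, .fwd 12903, .fwd 12904, .fwd 12905, .fwd 12906, .fwd 12907, .fwd 12908, .fwd 12909, .fwd 12910, .fwd 12911, .fwd 12912, .fwd 12913, .fwd 12914, .fwd 12915, .fwd 12916, .fwd 12917, .fwd 12918, .fwd 12919],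
   .define,
   .define,
   .define,
   .loop (some (16, 4)) [.bwd 7387, .fwd 12543, .fwd 12921, .fwd 12922, .fwd 12923],
   .define,
   .define,
   .define,
   .loop (some (21, 4)) [.bwd 10243, .fwd 627, .fwd 628, .fwd 629, .fwd 10160, .fwd 12925, .fwd 12926, .fwd 12927],
   .define,
   .loop (some (20, 2)) [.bwd 9496, .fwd 10470, .fwd 10471, .fwd 10472, .fwd 10473, .fwd 10474, .fwd 12543, .fwd 12929],
   .define,
   .loop (some (4, 2)) [.bwd 10160, .bwd 10474, .fwd 12931],
   .define,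
   .define,
   .define,
   .define,
   .define,
   .define,
   .define,
   .define,
   .define,
   .define,
   .define,
   .define,
   .define,
   .define,
   .define,
   .define,
   .define,
   .define,
   .define,
   .define,
   .define,
   .define,
   .define,
   .define,
   .define,
   .define,
   .define,
   .loop (some (22, 29)) [.bwd 12250, .bwd 10160, .fwd 7387, .fwd 7671, .fwd 12933, .fwd 12934, .fwd 12935, .fwd 12936, .fwd 12937, .fwd 12938, .fwd 12939, .fwd 12940, .fwd 12941, .fwd 12942, .fwd 12943, .fwd 12944, .fwd 12945, .fwd 12946, .fwd 12947, .fwd 12948, .fwd 12949, .fwd 12950, .fwd 12951, .fwd 12952, .fwd 12953, .fwd 12954, .fwd 12955, .fwd 12956, .fwd 12957, .fwd 12958, .fwd 12959],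
   .define,
   .define,
   .define,
   .define,
   .define,
   .loop (some (19, 5)) [.fwd 12304, .fwd 12961, .fwd 12962, .fwd 12963, .fwd 12964, .fwd 12965],
   .define,
   .loop (some (7, 2)) [.bwd 6369, .bwd 12304, .fwd 12967],
   .define,
   .define,
   .loop (some (5, 2)) [.fwd 12313, .bwd 633, .bwd 12304, .fwd 12538],
   .loop none [.fwd 12971],
   .loop none [.fwd 12538, .bwd 12972],
   .loop none [.bwd 12539, .bwd 12972],
   .loop (some (8, 1)) [.bwd 12498, .fwd 10880, .fwd 7314, .fwd 12961],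
   .loop none [.fwd 12975],
   .loop none [.bwd 12962, .bwd 12976],
   .loop none [.fwd 12961, .bwd 12976],
   .define,
   .define,
   .loop (some (7, 2)) [.bwd 6366, .bwd 12313, .fwd 12980],
   .define,
   .define,
   .loop (some (8, 1)) [.fwd 10881, .fwd 7336, .fwd 12979],
   .define,
   .define,
   .define,
   .define,
   .define,
   .loop (some (19, 5)) [.fwd 1711, .fwd 12985, .fwd 12986, .fwd 12987, .fwd 12988, .fwd 12989],
   .define,
   .define,
   .define,
   .loop (some (21, 5)) [.fwd 12989, .fwd 12990, .fwd 1711, .bwd 752, .bwd 749, .fwd 12991, .fwd 12992, .fwd 12993],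
   .loop (some (8, 1)) [.bwd 12581, .fwd 1757, .bwd 7335, .fwd 12985],
   .loop none [.fwd 12995],
   .loop none [.bwd 12986, .bwd 12996],
   .loop none [.fwd 12985, .bwd 12996],
   .define]

theorem just51_len : just51.length = 250 := by decide +kernel

theorem just51_ok : cert.okFacts 12750 just51 = true := by decide +kernel

/-- justifications -/
noncomputable def just52 : List Cert.Just :=
  [.loop (some (5, 1)) [.fwd 12491, .bwd 10814, .bwd 10895],
   .define,
   .define,
   .define,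
   .define,
   .loop (some (18, 4)) [.bwd 12156, .bwd 10437, .fwd 13002, .fwd 13003, .fwd 13004],
   .define,
   .loop (some (3, 2)) [.bwd 12156, .bwd 6005, .fwd 13006],
   .loop (some (13, 2)) [.bwd 12156, .bwd 10897, .fwd 12851],
   .define,
   .define,
   .define,
   .define,
   .define,
   .define,
   .define,
   .define,
   .define,
   .define,
   .define,
   .define,
   .define,
   .define,
   .define,
   .define,
   .define,
   .define,
   .define,
   .define,
   .define,
   .define,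
   .define,
   .define,
   .define,
   .define,
   .define,
   .loop (some (22, 29)) [.fwd 13005, .bwd 12156, .bwd 6005, .bwd 1643, .fwd 13009, .fwd 13010, .fwd 13011, .fwd 13012, .fwd 13013, .fwd 13014, .fwd 13015, .fwd 13016, .fwd 13017, .fwd 13018, .fwd 13019, .fwd 13020, .fwd 13021, .fwd 13022, .fwd 13023, .fwd 13024, .fwd 13025, .fwd 13026, .fwd 13027, .fwd 13028, .fwd 13029, .fwd 13030, .fwd 13031, .fwd 13032, .fwd 13033, .fwd 13034, .fwd 13035],
   .define,
   .loop (some (9, 2)) [.bwd 10814, .bwd 10897, .fwd 13037],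
   .define,
   .define,
   .loop (some (16, 3)) [.bwd 748, .bwd 720, .fwd 716, .fwd 13039, .fwd 13040],
   .loop (some (7, 1)) [.fwd 12155, .bwd 702, .bwd 694],
   .define,
   .define,
   .define,
   .loop (some (21, 5)) [.fwd 692, .fwd 693, .fwd 694, .fwd 641, .fwd 642, .fwd 13043, .fwd 13044, .fwd 13045],
   .define,
   .define,
   .define,
   .define,
   .define,
   .loop (some (20, 6)) [.fwd 12173, .bwd 702, .fwd 716, .fwd 13047, .fwd 13048, .fwd 13049, .fwd 13050, .fwd 13051],
   .define,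
   .loop (some (5, 2)) [.bwd 716, .bwd 694, .fwd 13053],
   .loop (some (1, 2)) [.bwd 641, .fwd 716, .fwd 12482],
   .define,
   .define,
   .define,
   .loop (some (18, 4)) [.bwd 641, .bwd 9970, .fwd 13056, .fwd 13057, .fwd 13058],
   .loop (some (13, 2)) [.bwd 641, .bwd 7726, .bwd 13046],
   .define,
   .define,
   .define,
   .define,
   .define,
   .define,
   .define,
   .define,
   .define,
   .define,
   .define,
   .define,
   .define,
   .define,
   .define,
   .define,
   .define,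
   .define,
   .define,
   .define,
   .define,
   .define,
   .define,
   .define,
   .define,
   .define,
   .loop (some (22, 29)) [.fwd 13059, .bwd 641, .fwd 720, .fwd 736, .bwd 858, .fwd 13061, .fwd 13062, .fwd 13063, .fwd 13064, .fwd 13065, .fwd 13066, .fwd 13067, .fwd 13068, .fwd 13069, .fwd 13070, .fwd 13071, .fwd 13072, .fwd 13073, .fwd 13074, .fwd 13075, .fwd 13076, .fwd 13077, .fwd 13078, .fwd 13079, .fwd 13080, .fwd 13081, .fwd 13082, .fwd 13083, .fwd 13084, .fwd 13085, .fwd 13086],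
   .define,
   .loop (some (11, 2)) [.bwd 702, .bwd 7726, .fwd 13088],
   .define,
   .define,
   .define,
   .loop (some (15, 3)) [.fwd 9970, .fwd 13090, .fwd 13091, .fwd 13092],
   .define,
   .loop (some (9, 2)) [.bwd 716, .bwd 7726, .fwd 13094],
   .define,
   .define,
   .define,
   .define,
   .loop (some (19, 3)) [.bwd 12885, .bwd 643, .bwd 642, .fwd 13097, .fwd 13098, .fwd 13099],
   .define,
   .define,
   .define,
   .loop (some (16, 4)) [.fwd 7666, .bwd 13055, .fwd 13101, .fwd 13102, .fwd 13103],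
   .define,
   .define,
   .loop (some (21, 4)) [.bwd 12886, .bwd 12885, .bwd 643, .bwd 642, .bwd 641, .bwd 694, .fwd 13105, .fwd 13106],
   .define,
   .define,
   .define,
   .define,
   .define,
   .define,
   .loop (some (20, 7)) [.fwd 10957, .bwd 13055, .fwd 13108, .fwd 13109, .fwd 13110, .fwd 13111, .fwd 13112, .fwd 13113],
   .define,
   .loop (some (2, 2)) [.fwd 13059, .bwd 7666, .fwd 13115],
   .loop (some (5, 1)) [.bwd 12483, .fwd 13055, .fwd 642],
   .loop (some (14, 2)) [.bwd 13098, .bwd 13097, .bwd 13060, .bwd 13045],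
   .define,
   .loop (some (12, 2)) [.fwd 13059, .bwd 13060, .fwd 13119],
   .define,
   .loop (some (0, 1)) [.fwd 13060, .fwd 13121],
   .define,
   .define,
   .define,
   .define,
   .define,
   .define,
   .define,
   .define,
   .define,
   .define,
   .define,
   .define,
   .define,
   .define,
   .define,
   .define,
   .define,
   .define,
   .define,
   .define,
   .define,
   .define,
   .define,
   .define,
   .define,
   .define,
   .loop (some (22, 28)) [.fwd 13093, .fwd 9970, .fwd 641, .bwd 7666, .bwd 7739, .fwd 13123, .fwd 13124, .fwd 13125, .fwd 13126, .fwd 13127, .fwd 13128, .fwd 13129, .fwd 13130, .fwd 13131, .fwd 13132, .fwd 13133, .fwd 13134, .fwd 13135, .fwd 13136, .fwd 13137, .fwd 13138, .fwd 13139, .fwd 13140, .fwd 13141, .fwd 13142, .fwd 13143, .fwd 13144, .fwd 13145, .fwd 13146, .fwd 13147, .fwd 13148],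
   .define,
   .loop (some (11, 2)) [.fwd 10957, .bwd 13060, .fwd 13150],
   .define,
   .define,
   .loop (some (15, 2)) [.fwd 13087, .fwd 13059, .fwd 13152, .fwd 13153],
   .define,
   .loop (some (9, 2)) [.fwd 13055, .bwd 13060, .fwd 13155],
   .define,
   .loop (some (10, 2)) [.fwd 7666, .bwd 13060, .fwd 13157],
   .define,
   .define,
   .define,
   .define,
   .loop (some (16, 4)) [.bwd 7667, .fwd 13117, .fwd 13160, .fwd 13161, .fwd 13162],
   .define,
   .define,
   .define,
   .loop (some (21, 5)) [.fwd 13100, .bwd 12885, .bwd 643, .fwd 13043, .fwd 13044, .fwd 13164, .fwd 13165, .fwd 13166],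
   .define,
   .define,
   .define,
   .define,
   .define,
   .define,
   .loop (some (20, 7)) [.bwd 10959, .fwd 13117, .fwd 13168, .fwd 13169, .fwd 13170, .fwd 13171, .fwd 13172, .fwd 13173],
   .define,
   .define,
   .loop (some (2, 3)) [.fwd 7667, .fwd 13175, .fwd 13176],
   .define,
   .define,
   .define,
   .loop (some (18, 4)) [.bwd 13043, .bwd 13177, .fwd 13178, .fwd 13179, .fwd 13180],
   .define,
   .loop (some (3, 2)) [.bwd 13043, .fwd 7667, .fwd 13182],
   .define,
   .define,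
   .loop (some (14, 2)) [.bwd 13097, .fwd 642, .fwd 13184, .fwd 13185],
   .define,
   .loop (some (12, 2)) [.fwd 13177, .fwd 13184, .fwd 13187],
   .define,
   .loop (some (0, 1)) [.bwd 13184, .fwd 13189],
   .define,
   .loop (some (13, 2)) [.bwd 13043, .fwd 13184, .fwd 13191],
   .define,
   .define,
   .define,
   .define,
   .define,
   .define,
   .define,
   .define,
   .define,
   .define,
   .define,
   .define,
   .define,
   .define,
   .define,
   .define,
   .define,
   .define,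
   .define,
   .define,
   .define,
   .define,
   .define,
   .define,
   .define,
   .define,
   .define,
   .define,
   .loop (some (22, 29)) [.fwd 13181, .bwd 13043, .fwd 7667, .bwd 8322, .fwd 13194, .fwd 13195, .fwd 13196, .fwd 13197, .fwd 13198, .fwd 13199, .fwd 13200, .fwd 13201, .fwd 13202, .fwd 13203, .fwd 13204, .fwd 13205, .fwd 13206, .fwd 13207, .fwd 13208, .fwd 13209, .fwd 13210, .fwd 13211, .fwd 13212, .fwd 13213, .fwd 13214, .fwd 13215, .fwd 13216, .fwd 13217, .fwd 13218, .fwd 13219, .fwd 13220],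
   .define,
   .define,
   .loop (some (10, 2)) [.bwd 7667, .fwd 13184, .fwd 13223],
   .define,
   .define,
   .define,
   .define,
   .loop (some (16, 4)) [.fwd 7580, .bwd 12892, .fwd 13226, .fwd 13227, .fwd 13228],
   .define,
   .define,
   .define,
   .define,
   .define,
   .define,
   .define,
   .loop (some (20, 7)) [.fwd 10947, .bwd 12892, .fwd 13231, .fwd 13232, .fwd 13233, .fwd 13234, .fwd 13235, .fwd 13236],
   .define,
   .loop (some (2, 2)) [.bwd 12262, .bwd 7580, .fwd 13238],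
   .loop (some (8, 2)) [.bwd 12262, .bwd 643, .bwd 13177],
   .define,
   .loop (some (6, 2)) [.fwd 7580, .fwd 12885, .fwd 13241],
   .loop (some (14, 2)) [.fwd 13060, .fwd 642, .fwd 643, .bwd 10946, .bwd 12928],
   .loop none [.bwd 13243],
   .loop none [.bwd 13155, .bwd 13244],
   .loop none [.bwd 13157, .bwd 13244],
   .loop none [.bwd 13150, .bwd 13244],
   .loop none [.bwd 13119, .bwd 13244],
   .loop none [.bwd 13046, .bwd 13244]]

theorem just52_len : just52.length = 250 := by decide +kernel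

theorem just52_ok : cert.okFacts 13000 just52 = true := by decide +kernel

/-- justifications -/
noncomputable def just53 : List Cert.Just :=
  [.loop none [.fwd 12927, .fwd 13244, .bwd 13045],
   .loop none [.fwd 13250],
   .loop none [.bwd 13060, .bwd 13244],
   .loop none [.fwd 13122, .bwd 13244],
   .loop none [.fwd 12926, .fwd 13251, .fwd 13164],
   .loop none [.fwd 13254],
   .loop none [.fwd 13044, .bwd 13251],
   .loop none [.bwd 13118, .bwd 13251],
   .loop none [.bwd 13165, .bwd 13255],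
   .loop (some (12, 2)) [.bwd 12262, .bwd 10946, .fwd 12290],
   .define,
   .define,
   .loop (some (15, 2)) [.fwd 12920, .bwd 12262, .fwd 13260, .fwd 13261],
   .define,
   .define,
   .loop (some (17, 3)) [.bwd 12493, .bwd 10890, .fwd 12486, .fwd 12967, .fwd 13264],
   .loop (some (7, 1)) [.fwd 12491, .bwd 10890, .bwd 12481],
   .define,
   .define,
   .loop (some (2, 2)) [.bwd 12232, .fwd 12128, .fwd 12486, .bwd 12303],
   .loop none [.fwd 13269],
   .loop none [.bwd 12303, .bwd 13270],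
   .loop none [.bwd 12296, .bwd 13270],
   .define,
   .define,
   .loop (some (18, 4)) [.bwd 12544, .bwd 12128, .fwd 12233, .fwd 13273, .fwd 13274],
   .loop (some (6, 2)) [.fwd 12966, .bwd 12486, .bwd 12481, .fwd 12921],
   .loop none [.bwd 13276],
   .loop none [.bwd 12966, .bwd 13277],
   .loop none [.fwd 12965, .bwd 13277],
   .define,
   .loop (some (3, 2)) [.bwd 12544, .fwd 12486, .fwd 13280],
   .loop (some (12, 2)) [.fwd 12235, .fwd 12128, .bwd 12848, .fwd 12847],
   .loop none [.fwd 13282],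
   .loop none [.bwd 12842, .bwd 13283],
   .loop none [.bwd 12271, .fwd 13283, .bwd 12847],
   .loop none [.fwd 13285],
   .loop none [.bwd 12846, .bwd 13286],
   .loop none [.bwd 12849, .bwd 13286],
   .loop none [.fwd 12804, .bwd 13286],
   .loop none [.bwd 12848, .bwd 13286],
   .loop (some (4, 2)) [.bwd 12544, .fwd 10890, .fwd 13001],
   .define,
   .define,
   .define,
   .define,
   .define,
   .define,
   .define,
   .define,
   .define,
   .define,
   .define,
   .define,
   .define,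
   .define,
   .define,
   .define,
   .define,
   .define,
   .define,
   .define,
   .define,
   .define,
   .define,
   .define,
   .define,
   .define,
   .define,
   .loop (some (22, 29)) [.fwd 13275, .bwd 12544, .fwd 12486, .fwd 12967, .fwd 13292, .fwd 13293, .fwd 13294, .fwd 13295, .fwd 13296, .fwd 13297, .fwd 13298, .fwd 13299, .fwd 13300, .fwd 13301, .fwd 13302, .fwd 13303, .fwd 13304, .fwd 13305, .fwd 13306, .fwd 13307, .fwd 13308, .fwd 13309, .fwd 13310, .fwd 13311, .fwd 13312, .fwd 13313, .fwd 13314, .fwd 13315, .fwd 13316, .fwd 13317, .fwd 13318],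
   .loop (some (11, 2)) [.fwd 13038, .bwd 10890, .bwd 13290, .fwd 12272],
   .loop none [.bwd 13320],
   .loop none [.fwd 13037, .bwd 13321],
   .loop (some (15, 0)) [.bwd 5713, .fwd 8476, .fwd 12127, .fwd 12128],
   .loop (some (10, 2)) [.bwd 12486, .bwd 13290, .fwd 13287],
   .define,
   .define,
   .define,
   .define,
   .loop (some (19, 4)) [.fwd 13054, .fwd 717, .fwd 13325, .fwd 13326, .fwd 13327, .fwd 13328],
   .loop (some (7, 1)) [.fwd 12161, .fwd 7265, .bwd 717],
   .define,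
   .loop (some (21, 5)) [.fwd 13329, .fwd 13054, .fwd 717, .bwd 4759, .fwd 4760, .fwd 12544, .fwd 13267, .fwd 13331],
   .loop (some (8, 1)) [.fwd 9969, .fwd 7557, .fwd 13325],
   .loop (some (6, 2)) [.bwd 12969, .bwd 695, .bwd 717, .fwd 13039],
   .loop none [.fwd 13334],
   .loop none [.bwd 13040, .bwd 13335],
   .loop none [.fwd 13039, .bwd 13335],
   .loop (some (14, 2)) [.bwd 13326, .bwd 13325, .bwd 727, .fwd 13325],
   .define,
   .define,
   .loop (some (21, 4)) [.bwd 10938, .fwd 1700, .fwd 1701, .fwd 1702, .fwd 738, .fwd 739, .fwd 13339, .fwd 13340],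
   .define,
   .define,
   .define,
   .define,
   .loop (some (20, 6)) [.bwd 12547, .fwd 1681, .fwd 1710, .bwd 12325, .fwd 13342, .fwd 13343, .fwd 13344, .fwd 13345],
   .loop (some (5, 2)) [.fwd 12990, .bwd 1710, .bwd 1702, .bwd 12924],
   .loop none [.bwd 13347],
   .loop none [.bwd 12990, .bwd 13348],
   .loop none [.fwd 12989, .bwd 13348],
   .define,
   .loop (some (1, 2)) [.bwd 738, .fwd 1710, .fwd 13351],
   .define,
   .define,
   .define,
   .define,
   .define,
   .define,
   .define,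
   .define,
   .define,
   .define,
   .define,
   .define,
   .define,
   .define,
   .define,
   .define,
   .define,
   .define,
   .define,
   .define,
   .define,
   .define,
   .define,
   .define,
   .define,
   .loop (some (22, 29)) [.fwd 11754, .bwd 738, .bwd 652, .fwd 638, .bwd 10437, .fwd 13002, .fwd 13353, .fwd 13354, .fwd 13355, .fwd 13356, .fwd 13357, .fwd 13358, .fwd 13359, .fwd 13360, .fwd 13361, .fwd 13362, .fwd 13363, .fwd 13364, .fwd 13365, .fwd 13366, .fwd 13367, .fwd 13368, .fwd 13369, .fwd 13370, .fwd 13371, .fwd 13372, .fwd 13373, .fwd 13374, .fwd 13375, .fwd 13376, .fwd 13377],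
   .loop (some (9, 2)) [.bwd 1710, .bwd 7672, .bwd 12838],
   .define,
   .define,
   .define,
   .define,
   .define,
   .define,
   .loop (some (19, 5)) [.fwd 1693, .fwd 13381, .fwd 13382, .fwd 13383, .fwd 13384, .fwd 13385],
   .define,
   .define,
   .define,
   .loop (some (21, 5)) [.fwd 13385, .fwd 13386, .fwd 1693, .fwd 660, .bwd 931, .fwd 13387, .fwd 13388, .fwd 13389],
   .loop (some (8, 1)) [.bwd 12547, .bwd 773, .fwd 659, .fwd 13381],
   .loop none [.fwd 13391],
   .loop none [.bwd 13382, .bwd 13392],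
   .loop none [.fwd 13381, .bwd 13392],
   .define,
   .define,
   .define,
   .define,
   .define,
   .loop (some (19, 5)) [.fwd 931, .fwd 13395, .fwd 13396, .fwd 13397, .fwd 13398, .fwd 13399],
   .define,
   .define,
   .loop (some (21, 5)) [.fwd 13399, .fwd 13400, .fwd 931, .bwd 660, .bwd 1693, .fwd 12761, .fwd 13401, .fwd 13402],
   .loop (some (8, 1)) [.bwd 849, .fwd 789, .fwd 13395],
   .define,
   .define,
   .define,
   .define,
   .define,
   .loop (some (19, 5)) [.fwd 962, .fwd 13405, .fwd 13406, .fwd 13407, .fwd 13408, .fwd 13409],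
   .define,
   .define,
   .define,
   .loop (some (21, 5)) [.fwd 13409, .fwd 13410, .fwd 962, .bwd 7552, .fwd 7553, .fwd 13411, .fwd 13412, .fwd 13413],
   .loop (some (8, 1)) [.fwd 12330, .fwd 933, .fwd 927, .fwd 13405],
   .loop none [.fwd 13415],
   .loop none [.bwd 13406, .bwd 13416],
   .define,
   .define,
   .define,
   .define,
   .define,
   .loop (some (19, 5)) [.fwd 9575, .fwd 13418, .fwd 13419, .fwd 13420, .fwd 13421, .fwd 13422],
   .define,
   .define,
   .define,
   .loop (some (21, 5)) [.fwd 13422, .fwd 13423, .fwd 9575, .bwd 7558, .bwd 9969, .fwd 13424, .fwd 13425, .fwd 13426],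
   .loop (some (8, 1)) [.bwd 12099, .fwd 1867, .fwd 1860, .fwd 13418],
   .loop none [.fwd 13428],
   .loop none [.bwd 13419, .bwd 13429],
   .loop none [.fwd 13418, .bwd 13429],
   .define,
   .loop (some (6, 2)) [.fwd 7393, .bwd 9575, .fwd 13432],
   .loop (some (14, 2)) [.bwd 13430, .fwd 13431, .bwd 6979, .bwd 13431],
   .define,
   .define,
   .define,
   .define,
   .define,
   .loop (some (19, 5)) [.fwd 12301, .fwd 13435, .fwd 13436, .fwd 13437, .fwd 13438, .fwd 13439],
   .define,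
   .define,
   .loop (some (21, 5)) [.fwd 13439, .fwd 13440, .fwd 12301, .bwd 7319, .bwd 10880, .fwd 12507, .fwd 13441, .fwd 13442],
   .loop (some (5, 2)) [.fwd 12310, .fwd 7697, .bwd 12301, .fwd 12326],
   .loop none [.fwd 13444],
   .loop none [.fwd 12326, .bwd 13445],
   .loop none [.bwd 12327, .bwd 13445],
   .loop (some (8, 1)) [.fwd 13433, .bwd 667, .fwd 13435],
   .define,
   .define,
   .define,
   .define,
   .define,
   .loop (some (19, 5)) [.fwd 13433, .fwd 13449, .fwd 13450, .fwd 13451, .fwd 13452, .fwd 13453],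
   .define,
   .loop (some (7, 2)) [.fwd 7701, .bwd 13433, .fwd 13455],
   .define,
   .define,
   .define,
   .define,
   .loop (some (21, 5)) [.fwd 13453, .fwd 13454, .fwd 13433, .fwd 668, .fwd 13457, .fwd 13458, .fwd 13459, .fwd 13460],
   .define,
   .loop (some (5, 2)) [.fwd 7692, .bwd 13433, .fwd 13462],
   .loop (some (8, 1)) [.bwd 12510, .fwd 12301, .fwd 667, .fwd 13449],
   .loop none [.fwd 13464],
   .loop none [.bwd 13450, .bwd 13465],
   .define,
   .define,
   .define,
   .define,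
   .define,
   .loop (some (19, 5)) [.bwd 13457, .fwd 13467, .fwd 13468, .fwd 13469, .fwd 13470, .fwd 13471],
   .loop (some (7, 1)) [.fwd 13463, .fwd 7342, .fwd 13457],
   .define,
   .loop (some (5, 1)) [.fwd 13456, .fwd 7699, .fwd 13457],
   .loop (some (8, 1)) [.bwd 12969, .fwd 7370, .fwd 13467],
   .loop (some (6, 1)) [.fwd 9969, .bwd 669, .fwd 13457],
   .loop (some (14, 2)) [.bwd 13468, .bwd 13467, .bwd 7689, .fwd 13467],
   .define,
   .define,
   .define,
   .define,
   .define,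
   .loop (some (19, 5)) [.fwd 9969, .fwd 13479, .fwd 13480, .fwd 13481, .fwd 13482, .fwd 13483],
   .define,
   .define,
   .define,
   .loop (some (21, 5)) [.fwd 13483, .fwd 13484, .fwd 9969, .fwd 7558, .bwd 9575, .fwd 13485, .fwd 13486, .fwd 13487],
   .loop (some (8, 1)) [.bwd 13047, .fwd 717, .bwd 7557, .fwd 13479],
   .loop none [.fwd 13489],
   .loop none [.bwd 13480, .bwd 13490],
   .loop none [.fwd 13479, .bwd 13490],
   .define,
   .define,
   .define,
   .define,
   .define,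
   .loop (some (19, 5)) [.bwd 7553, .fwd 13493, .fwd 13494, .fwd 13495, .fwd 13496, .fwd 13497],
   .define]

theorem just53_len : just53.length = 250 := by decide +kernel

theorem just53_ok : cert.okFacts 13250 just53 = true := by decide +kernel

/-- justifications -/
noncomputable def just54 : List Cert.Just :=
  [.define,
   .define,
   .loop (some (21, 5)) [.fwd 13497, .fwd 13498, .bwd 7553, .fwd 7552, .bwd 962, .fwd 13499, .fwd 13500, .fwd 13501],
   .loop (some (8, 1)) [.bwd 13009, .bwd 1591, .bwd 7551, .fwd 13493],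
   .loop none [.fwd 13503],
   .loop none [.fwd 13493, .bwd 13504],
   .define,
   .define,
   .define,
   .define,
   .define,
   .loop (some (19, 5)) [.bwd 7512, .fwd 13506, .fwd 13507, .fwd 13508, .fwd 13509, .fwd 13510],
   .define,
   .define,
   .define,
   .loop (some (21, 5)) [.fwd 13510, .fwd 13511, .bwd 7512, .fwd 680, .fwd 7505, .fwd 13512, .fwd 13513, .fwd 13514],
   .loop (some (8, 1)) [.fwd 9952, .fwd 7517, .fwd 13506],
   .define,
   .define,
   .define,
   .define,
   .define,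
   .loop (some (19, 5)) [.bwd 7505, .fwd 13517, .fwd 13518, .fwd 13519, .fwd 13520, .fwd 13521],
   .define,
   .define,
   .define,
   .loop (some (21, 5)) [.fwd 13521, .fwd 13522, .bwd 7505, .bwd 680, .fwd 7512, .fwd 13523, .fwd 13524, .fwd 13525],
   .loop (some (8, 1)) [.fwd 1599, .bwd 7502, .fwd 13517],
   .define,
   .define,
   .define,
   .define,
   .define,
   .loop (some (19, 5)) [.fwd 10044, .fwd 13528, .fwd 13529, .fwd 13530, .fwd 13531, .fwd 13532],
   .define,
   .define,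
   .define,
   .loop (some (21, 5)) [.fwd 13532, .fwd 13533, .fwd 10044, .fwd 7500, .bwd 10060, .fwd 13534, .fwd 13535, .fwd 13536],
   .loop (some (8, 1)) [.bwd 12722, .bwd 7499, .fwd 13528],
   .define,
   .define,
   .define,
   .define,
   .define,
   .loop (some (19, 5)) [.fwd 10060, .fwd 13539, .fwd 13540, .fwd 13541, .fwd 13542, .fwd 13543],
   .define,
   .define,
   .define,
   .loop (some (21, 5)) [.fwd 13543, .fwd 13544, .fwd 10060, .bwd 7500, .bwd 10044, .fwd 13545, .fwd 13546, .fwd 13547],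
   .loop (some (8, 1)) [.fwd 10077, .bwd 7094, .fwd 13539],
   .define,
   .define,
   .define,
   .define,
   .define,
   .loop (some (19, 5)) [.fwd 9964, .fwd 13550, .fwd 13551, .fwd 13552, .fwd 13553, .fwd 13554],
   .define,
   .define,
   .define,
   .loop (some (21, 5)) [.fwd 13554, .fwd 13555, .fwd 9964, .bwd 6972, .bwd 9952, .fwd 13556, .fwd 13557, .fwd 13558],
   .loop (some (8, 1)) [.bwd 6331, .fwd 726, .fwd 13550],
   .define,
   .define,
   .define,
   .define,
   .loop (some (16, 4)) [.bwd 7719, .fwd 13561, .fwd 13562, .fwd 13563, .fwd 13564],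
   .define,
   .define,
   .loop (some (17, 5)) [.fwd 7719, .bwd 7742, .fwd 7763, .fwd 13566, .fwd 13567],
   .loop (some (7, 3)) [.fwd 13568, .bwd 689, .bwd 2052, .fwd 12150],
   .loop none [.bwd 13569],
   .loop none [.fwd 13567, .bwd 13570],
   .loop none [.bwd 13568, .bwd 13570],
   .define,
   .define,
   .define,
   .define,
   .loop (some (21, 4)) [.bwd 13105, .fwd 694, .bwd 640, .fwd 689, .fwd 13573, .fwd 13574, .fwd 13575, .fwd 13576],
   .loop (some (20, 1)) [.fwd 13333, .fwd 10967, .bwd 1668, .bwd 8292, .bwd 6112, .fwd 6111, .bwd 12162, .fwd 13572, .fwd 13561],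
   .loop none [.fwd 13578],
   .loop none [.fwd 13561, .bwd 13579],
   .loop none [.bwd 13562, .bwd 13579],
   .define,
   .define,
   .define,
   .loop (some (18, 4)) [.bwd 13573, .fwd 718, .fwd 9953, .fwd 13583, .fwd 13584],
   .define,
   .loop (some (3, 2)) [.bwd 13573, .fwd 7719, .fwd 13586],
   .loop (some (13, 2)) [.bwd 13573, .bwd 7722, .bwd 707],
   .define,
   .loop (some (4, 2)) [.bwd 13573, .bwd 13572, .fwd 13589],
   .define,
   .define,
   .define,
   .define,
   .define,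
   .define,
   .define,
   .define,
   .define,
   .define,
   .define,
   .define,
   .define,
   .define,
   .define,
   .define,
   .define,
   .loop (some (22, 29)) [.fwd 13585, .bwd 13573, .fwd 7719, .bwd 7742, .fwd 785, .fwd 916, .bwd 7785, .bwd 7820, .bwd 8259, .fwd 1524, .fwd 8243, .fwd 8191, .fwd 4441, .fwd 8180, .fwd 13591, .fwd 13592, .fwd 13593, .fwd 13594, .fwd 13595, .fwd 13596, .fwd 13597, .fwd 13598, .fwd 13599, .fwd 13600, .fwd 13601, .fwd 13602, .fwd 13603, .fwd 13604, .fwd 13605, .fwd 13606, .fwd 13607],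
   .define,
   .loop (some (11, 2)) [.fwd 13572, .bwd 7722, .fwd 13609],
   .define,
   .define,
   .loop (some (15, 2)) [.bwd 9963, .bwd 718, .fwd 13611, .fwd 13612],
   .define,
   .loop (some (9, 2)) [.fwd 13580, .bwd 7722, .fwd 13614],
   .define,
   .define,
   .define,
   .define,
   .loop (some (16, 4)) [.fwd 7720, .fwd 13616, .fwd 13617, .fwd 13618, .fwd 13619],
   .define,
   .define,
   .loop (some (17, 5)) [.bwd 7720, .bwd 7744, .bwd 7767, .fwd 13621, .fwd 13622],
   .loop (some (7, 3)) [.fwd 13623, .bwd 690, .bwd 13572, .fwd 12151],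
   .loop none [.bwd 13624],
   .loop none [.fwd 13622, .bwd 13625],
   .loop none [.bwd 13623, .bwd 13625],
   .define,
   .define,
   .define,
   .define,
   .define,
   .define,
   .loop (some (20, 7)) [.fwd 13627, .fwd 13616, .fwd 13628, .fwd 13629, .fwd 13630, .fwd 13631, .fwd 13632, .fwd 13633],
   .loop (some (5, 3)) [.bwd 13616, .bwd 690, .bwd 13580, .fwd 13326],
   .loop none [.bwd 13635],
   .loop none [.fwd 13616, .bwd 13636],
   .loop none [.bwd 13617, .bwd 13636],
   .loop none [.bwd 13628, .bwd 13636],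
   .define,
   .loop (some (1, 2)) [.fwd 12840, .bwd 13637, .fwd 13640],
   .define,
   .define,
   .define,
   .loop (some (18, 4)) [.fwd 12840, .fwd 10972, .fwd 13642, .fwd 13643, .fwd 13644],
   .define,
   .loop (some (3, 2)) [.fwd 12840, .bwd 7720, .fwd 13646],
   .define,
   .loop (some (4, 2)) [.fwd 12840, .bwd 13627, .fwd 13648],
   .define,
   .define,
   .define,
   .define,
   .define,
   .define,
   .define,
   .define,
   .define,
   .define,
   .define,
   .define,
   .define,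
   .define,
   .define,
   .define,
   .define,
   .define,
   .define,
   .define,
   .define,
   .define,
   .define,
   .define,
   .define,
   .define,
   .loop (some (22, 29)) [.fwd 13645, .fwd 12840, .bwd 7720, .bwd 7744, .fwd 7764, .fwd 13650, .fwd 13651, .fwd 13652, .fwd 13653, .fwd 13654, .fwd 13655, .fwd 13656, .fwd 13657, .fwd 13658, .fwd 13659, .fwd 13660, .fwd 13661, .fwd 13662, .fwd 13663, .fwd 13664, .fwd 13665, .fwd 13666, .fwd 13667, .fwd 13668, .fwd 13669, .fwd 13670, .fwd 13671, .fwd 13672, .fwd 13673, .fwd 13674, .fwd 13675],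
   .define,
   .define,
   .define,
   .loop (some (15, 3)) [.bwd 10972, .fwd 13677, .fwd 13678, .fwd 13679],
   .define,
   .loop (some (7, 3)) [.bwd 13088, .bwd 691, .bwd 13627, .fwd 12152],
   .loop none [.bwd 13682],
   .loop none [.fwd 13088, .bwd 13683],
   .loop none [.bwd 13089, .bwd 13683],
   .loop (some (5, 3)) [.bwd 13094, .bwd 691, .bwd 13637, .fwd 13327],
   .loop none [.fwd 13686],
   .loop none [.bwd 13328, .bwd 13687],
   .loop none [.fwd 13327, .bwd 13687],
   .loop (some (1, 1)) [.bwd 13245, .fwd 13249, .fwd 13094],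
   .loop (some (3, 1)) [.bwd 13246, .fwd 13249, .bwd 7723],
   .loop (some (13, 2)) [.bwd 13253, .fwd 13249, .bwd 7729, .fwd 13105],
   .loop none [.bwd 13692],
   .loop none [.fwd 13253, .bwd 13693],
   .loop none [.fwd 13121, .bwd 13693],
   .loop (some (4, 1)) [.bwd 13247, .fwd 13249, .bwd 13684],
   .loop (some (11, 2)) [.fwd 13684, .bwd 7729, .fwd 13042],
   .loop (some (9, 2)) [.bwd 13094, .bwd 7729, .fwd 13053],
   .loop (some (7, 3)) [.bwd 13609, .bwd 692, .bwd 13684, .fwd 12153],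
   .loop none [.bwd 13699],
   .loop none [.fwd 13609, .bwd 13700],
   .loop none [.bwd 13610, .bwd 13700],
   .loop (some (5, 3)) [.bwd 13614, .bwd 692, .fwd 13094, .fwd 13688],
   .loop none [.bwd 13703],
   .loop none [.fwd 13614, .bwd 13704],
   .loop none [.bwd 13615, .bwd 13704],
   .loop (some (1, 2)) [.fwd 707, .bwd 13705, .bwd 13332],
   .loop (some (13, 2)) [.fwd 707, .bwd 7721, .bwd 12840],
   .loop (some (4, 2)) [.fwd 707, .bwd 13701, .bwd 12159],
   .loop (some (21, 2)) [.fwd 12542, .fwd 12839, .fwd 12840, .fwd 691, .fwd 692, .fwd 693, .fwd 13105, .fwd 13106],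
   .loop (some (11, 2)) [.bwd 13042, .fwd 7728, .fwd 702],
   .loop (some (9, 2)) [.bwd 13053, .fwd 7728, .fwd 716],
   .loop (some (5, 2)) [.bwd 12982, .bwd 696, .fwd 12969, .fwd 13336],
   .loop none [.fwd 13713],
   .loop none [.bwd 13041, .bwd 13714],
   .loop (some (1, 2)) [.bwd 10810, .fwd 12160, .fwd 12492],
   .loop (some (15, 0)) [.fwd 13050, .fwd 13051, .fwd 13052, .fwd 12173],
   .loop (some (17, 3)) [.fwd 13007, .fwd 12546, .bwd 7388, .bwd 7673, .bwd 7780],
   .loop (some (7, 1)) [.bwd 12157, .fwd 12546, .fwd 705],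
   .loop (some (5, 1)) [.bwd 13267, .fwd 12545, .fwd 705],
   .loop (some (14, 2)) [.fwd 12796, .fwd 12797, .bwd 10896, .bwd 12542],
   .loop (some (1, 2)) [.bwd 12540, .fwd 13720, .fwd 13268],
   .loop (some (3, 2)) [.bwd 12540, .fwd 7737, .fwd 13339],
   .loop (some (4, 2)) [.bwd 12540, .fwd 13719, .fwd 12999],
   .loop (some (11, 2)) [.fwd 13709, .bwd 13708, .bwd 13649],
   .loop (some (9, 2)) [.fwd 13707, .bwd 13708, .bwd 13641],
   .loop (some (10, 2)) [.fwd 7725, .bwd 13708, .bwd 13647],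
   .loop (some (2, 2)) [.bwd 13047, .bwd 13337, .bwd 13476],
   .loop (some (3, 2)) [.bwd 13101, .bwd 12482, .bwd 13337, .fwd 12970],
   .loop none [.bwd 13729],
   .loop none [.fwd 13101, .bwd 13730],
   .loop (some (4, 2)) [.bwd 12482, .fwd 13330, .fwd 12492],
   .loop (some (16, 3)) [.bwd 9983, .bwd 6986, .fwd 9968, .bwd 13477, .fwd 13475],
   .loop (some (7, 2)) [.fwd 13555, .bwd 9963, .bwd 9962, .bwd 13680],
   .loop none [.fwd 13734],
   .loop none [.bwd 13680, .bwd 13735],
   .loop none [.fwd 13679, .bwd 13735],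
   .loop (some (5, 1)) [.fwd 13484, .bwd 9968, .bwd 9962],
   .loop (some (1, 2)) [.bwd 9953, .fwd 9968, .fwd 13424],
   .loop (some (4, 2)) [.bwd 9953, .fwd 9963, .fwd 12749],
   .loop (some (1, 2)) [.fwd 13104, .bwd 1703, .fwd 748, .fwd 12991],
   .loop none [.bwd 13741],
   .loop none [.bwd 13104, .bwd 13742],
   .loop (some (15, 0)) [.bwd 10008, .bwd 9998, .fwd 11020, .fwd 9985],
   .loop (some (8, 0)) [.fwd 13613, .fwd 9964, .bwd 726],
   .loop (some (5, 2)) [.fwd 13565, .bwd 730, .bwd 698],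
   .loop (some (5, 2)) [.fwd 13620, .bwd 731, .bwd 13565],
   .loop (some (9, 2)) [.fwd 13620, .bwd 755, .bwd 13565],
   .loop (some (21, 1)) [.bwd 10932, .bwd 1698, .bwd 1697, .fwd 654, .fwd 730, .fwd 731, .fwd 732, .fwd 13691]]

theorem just54_len : just54.length = 250 := by decide +kernel

theorem just54_ok : cert.okFacts 13500 just54 = true := by decide +kernel

/-- justifications -/
noncomputable def just55 : List Cert.Just :=
  [.loop (some (18, 2)) [.bwd 13124, .bwd 13123, .bwd 1682, .bwd 858, .fwd 13061],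
   .loop (some (14, 1)) [.fwd 10963, .fwd 739, .fwd 740, .bwd 13727],
   .loop (some (15, 0)) [.bwd 11032, .bwd 11276, .fwd 7799, .bwd 7769],
   .loop (some (5, 1)) [.bwd 12722, .bwd 770, .bwd 10046],
   .loop (some (7, 1)) [.fwd 12700, .bwd 6357, .fwd 12722],
   .loop (some (6, 1)) [.fwd 1599, .bwd 771, .fwd 12722],
   .loop (some (2, 2)) [.bwd 12547, .bwd 1670, .fwd 13009],
   .loop (some (18, 2)) [.bwd 10133, .bwd 10132, .bwd 774, .fwd 12547, .fwd 12548],
   .loop (some (12, 2)) [.bwd 12547, .bwd 8319, .fwd 12853],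
   .loop (some (15, 0)) [.fwd 13344, .fwd 13345, .fwd 13346, .bwd 12547],
   .loop (some (8, 0)) [.fwd 12583, .bwd 9992, .bwd 5224],
   .loop (some (7, 1)) [.fwd 10093, .fwd 7101, .bwd 12714],
   .loop (some (6, 1)) [.fwd 12981, .fwd 7661, .bwd 12714],
   .loop (some (6, 1)) [.fwd 10121, .bwd 829, .bwd 13463],
   .loop (some (3, 1)) [.bwd 13062, .bwd 13061, .bwd 7752],
   .loop (some (13, 2)) [.bwd 13061, .fwd 7795, .bwd 853],
   .loop (some (15, 0)) [.fwd 11020, .fwd 9985, .fwd 736, .bwd 858],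
   .loop (some (15, 0)) [.fwd 11768, .bwd 10987, .fwd 7738, .fwd 7772],
   .loop (some (13, 2)) [.bwd 9158, .bwd 7775, .fwd 13650],
   .loop (some (15, 0)) [.fwd 11770, .bwd 10985, .bwd 7748, .fwd 7769],
   .loop (some (15, 0)) [.fwd 11773, .bwd 10982, .bwd 7745, .fwd 7766],
   .loop (some (3, 1)) [.bwd 13651, .bwd 13650, .fwd 7784],
   .loop (some (13, 2)) [.bwd 13650, .bwd 7768, .fwd 916],
   .loop (some (2, 2)) [.fwd 13404, .fwd 932, .bwd 12330],
   .loop (some (5, 1)) [.fwd 13522, .bwd 1551, .bwd 1543],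
   .loop (some (1, 2)) [.bwd 949, .fwd 1551, .fwd 13512],
   .loop (some (8, 1)) [.fwd 13400, .bwd 930, .fwd 902],
   .loop (some (18, 2)) [.bwd 9239, .fwd 4475, .bwd 7854, .fwd 930, .fwd 13387],
   .loop (some (8, 1)) [.fwd 13399, .bwd 13776, .fwd 903],
   .loop (some (12, 2)) [.bwd 13776, .bwd 934, .fwd 930],
   .loop (some (8, 1)) [.fwd 13398, .bwd 13778, .fwd 904],
   .loop (some (18, 2)) [.bwd 8906, .fwd 3315, .bwd 7925, .fwd 13778, .bwd 13403],
   .loop (some (8, 1)) [.fwd 13397, .bwd 13780, .fwd 905],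
   .loop (some (5, 1)) [.fwd 9991, .fwd 9997, .bwd 13400],
   .loop (some (6, 1)) [.fwd 13410, .bwd 7680, .bwd 13400],
   .loop (some (3, 2)) [.bwd 13387, .fwd 7680, .fwd 13499],
   .loop (some (12, 0)) [.bwd 13780, .fwd 7831, .fwd 930],
   .loop (some (9, 1)) [.fwd 11779, .fwd 9997, .fwd 13786],
   .loop (some (5, 1)) [.fwd 13511, .bwd 959, .bwd 946],
   .loop (some (1, 2)) [.bwd 1544, .fwd 959, .fwd 13523],
   .loop (some (20, 0)) [.fwd 13516, .bwd 8346, .bwd 1868, .fwd 8351, .fwd 1886, .bwd 1110, .bwd 1017, .bwd 7851],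
   .loop (some (8, 1)) [.fwd 13410, .bwd 961, .fwd 942],
   .loop (some (18, 2)) [.bwd 4891, .bwd 4890, .bwd 7915, .fwd 961, .fwd 13499],
   .loop (some (5, 3)) [.bwd 942, .fwd 13790, .fwd 13507],
   .loop (some (8, 1)) [.fwd 13409, .bwd 13791, .fwd 943],
   .loop (some (2, 2)) [.bwd 13794, .fwd 7832, .fwd 13778],
   .loop (some (5, 3)) [.bwd 943, .bwd 13793, .fwd 13508],
   .loop (some (8, 1)) [.fwd 13408, .bwd 13794, .fwd 944],
   .loop (some (18, 2)) [.bwd 5060, .bwd 5059, .fwd 8286, .fwd 13794, .bwd 13414],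
   .loop (some (9, 2)) [.fwd 13796, .fwd 7860, .fwd 13788],
   .loop (some (2, 2)) [.bwd 13797, .fwd 7833, .fwd 13780],
   .loop (some (5, 3)) [.bwd 944, .bwd 13796, .fwd 13509],
   .loop (some (8, 1)) [.fwd 13407, .bwd 13797, .fwd 945],
   .loop (some (1, 2)) [.fwd 952, .bwd 13801, .bwd 13515],
   .loop (some (12, 2)) [.bwd 13797, .bwd 7836, .fwd 13791],
   .loop (some (9, 2)) [.fwd 13801, .bwd 7836, .bwd 13793],
   .loop (some (2, 2)) [.bwd 13802, .bwd 7813, .fwd 13782],
   .loop (some (9, 2)) [.bwd 13788, .bwd 7839, .fwd 959],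
   .loop (some (5, 1)) [.bwd 13513, .fwd 13775, .fwd 950],
   .loop (some (2, 2)) [.fwd 12375, .bwd 11050, .fwd 10969, .bwd 12743],
   .loop none [.fwd 13809],
   .loop none [.bwd 12743, .bwd 13810],
   .loop none [.bwd 12738, .bwd 13810],
   .loop (some (18, 4)) [.bwd 13523, .fwd 11050, .fwd 11451, .fwd 9739, .fwd 9740],
   .loop (some (6, 1)) [.fwd 13544, .bwd 10969, .bwd 13511],
   .loop (some (3, 2)) [.bwd 13523, .fwd 10969, .fwd 13534],
   .loop (some (0, 2)) [.fwd 13807, .fwd 13799],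
   .loop (some (7, 1)) [.fwd 13423, .bwd 7855, .bwd 13410],
   .loop (some (5, 1)) [.fwd 12748, .fwd 9577, .bwd 13410],
   .loop (some (4, 2)) [.bwd 13499, .fwd 7855, .fwd 13485],
   .loop (some (21, 2)) [.bwd 12619, .bwd 12618, .fwd 5287, .fwd 6599, .fwd 6599, .fwd 6599, .bwd 5287, .fwd 5288],
   .loop (some (6, 2)) [.fwd 12680, .bwd 7366, .bwd 12968, .fwd 13264],
   .loop none [.fwd 13821],
   .loop none [.fwd 13264, .bwd 13822],
   .loop none [.bwd 13265, .bwd 13822],
   .loop (some (8, 0)) [.bwd 13292, .fwd 12968, .fwd 1080],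
   .loop (some (21, 2)) [.bwd 12625, .bwd 12624, .fwd 5298, .fwd 3095, .fwd 3095, .fwd 3095, .bwd 5298, .fwd 5299],
   .loop (some (15, 0)) [.fwd 12329, .fwd 12330, .fwd 947, .bwd 1120],
   .loop (some (15, 0)) [.bwd 13817, .bwd 13791, .bwd 7858, .fwd 7897],
   .loop (some (8, 1)) [.fwd 2307, .fwd 2301, .bwd 12215],
   .loop (some (4, 3)) [.fwd 8224, .fwd 13764, .fwd 13063],
   .loop (some (18, 6)) [.fwd 8247, .bwd 4350, .bwd 1531, .bwd 13830, .fwd 13064, .fwd 13065],
   .loop none [.fwd 13831],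
   .loop none [.bwd 7996, .fwd 13832, .fwd 13066],
   .loop none [.fwd 13833],
   .loop none [.fwd 13065, .bwd 13832],
   .loop none [.bwd 8119, .fwd 13834, .fwd 13067],
   .loop none [.fwd 13836],
   .loop none [.bwd 4495, .fwd 13837, .fwd 13068],
   .loop none [.fwd 13838],
   .loop none [.bwd 8161, .fwd 13839, .fwd 13069],
   .loop none [.fwd 13840],
   .loop none [.bwd 13070, .bwd 13841],
   .loop (some (13, 2)) [.bwd 13835, .bwd 8248, .fwd 1006],
   .loop (some (4, 3)) [.bwd 13835, .bwd 7818, .fwd 13771, .fwd 13652],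
   .loop none [.fwd 13844],
   .loop none [.fwd 13652, .bwd 13845],
   .loop none [.fwd 13064, .fwd 13845, .fwd 13653],
   .loop none [.fwd 13847],
   .loop none [.bwd 13830, .fwd 13848, .fwd 13654],
   .loop none [.fwd 13849],
   .loop none [.bwd 8105, .fwd 13850, .fwd 13655],
   .loop none [.fwd 13851],
   .loop none [.bwd 3431, .fwd 13852, .fwd 13656],
   .loop none [.fwd 13853],
   .loop none [.bwd 3432, .fwd 13854, .fwd 13657],
   .loop none [.fwd 13855],
   .loop none [.bwd 4617, .fwd 13856, .fwd 13658],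
   .loop none [.fwd 13857],
   .loop none [.bwd 7841, .fwd 13858, .fwd 13659],
   .loop none [.fwd 13859],
   .loop none [.bwd 7815, .fwd 13860, .fwd 13660],
   .loop none [.fwd 13861],
   .loop none [.bwd 8022, .fwd 13862, .fwd 13661],
   .loop none [.fwd 13863],
   .loop none [.bwd 9272, .fwd 13864, .fwd 13662],
   .loop none [.fwd 13865],
   .loop none [.fwd 4945, .fwd 13866, .fwd 13663],
   .loop none [.fwd 13867],
   .loop none [.bwd 13664, .bwd 13868],
   .loop (some (20, 0)) [.fwd 13527, .bwd 7424, .bwd 2931, .fwd 8290, .fwd 2973, .fwd 3012, .bwd 1531, .fwd 8224],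
   .loop (some (13, 2)) [.bwd 13764, .fwd 8279, .bwd 1547],
   .loop (some (5, 3)) [.bwd 1539, .fwd 13870, .fwd 13518],
   .loop (some (5, 3)) [.bwd 1540, .bwd 13872, .fwd 13519],
   .loop (some (9, 2)) [.fwd 13873, .bwd 7802, .fwd 13774],
   .loop (some (5, 3)) [.bwd 1541, .bwd 13873, .fwd 13520],
   .loop (some (1, 2)) [.fwd 1547, .bwd 13875, .bwd 13526],
   .loop (some (13, 2)) [.bwd 13771, .bwd 7810, .fwd 949],
   .loop (some (9, 2)) [.bwd 13774, .bwd 7810, .fwd 1551],
   .loop (some (5, 1)) [.bwd 13524, .fwd 13789, .fwd 1545],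
   .loop (some (6, 1)) [.fwd 13533, .bwd 10970, .bwd 13522],
   .loop (some (3, 2)) [.bwd 13512, .fwd 10970, .fwd 13545],
   .loop (some (0, 2)) [.fwd 13878, .fwd 13874],
   .loop (some (7, 2)) [.bwd 13566, .bwd 1583, .fwd 796],
   .loop (some (7, 2)) [.bwd 13621, .bwd 1584, .fwd 13566],
   .loop (some (11, 2)) [.bwd 13621, .bwd 1603, .fwd 13566],
   .loop (some (1, 2)) [.bwd 5987, .bwd 7425, .fwd 12648],
   .loop (some (18, 2)) [.bwd 11849, .bwd 10839, .bwd 1592, .fwd 13009, .fwd 13010],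
   .loop (some (2, 2)) [.fwd 13527, .bwd 13755, .bwd 13538],
   .loop (some (20, 0)) [.fwd 13613, .bwd 9963, .bwd 718, .bwd 13572, .fwd 12162, .bwd 6111, .fwd 6112, .fwd 8292],
   .loop (some (8, 1)) [.fwd 13498, .bwd 1668, .fwd 1635],
   .loop (some (18, 2)) [.bwd 11655, .fwd 10561, .fwd 10562, .fwd 1668, .fwd 13411],
   .loop (some (2, 2)) [.bwd 13890, .bwd 8295, .fwd 12807],
   .loop (some (8, 1)) [.fwd 13497, .bwd 13890, .fwd 1636],
   .loop (some (2, 2)) [.bwd 13893, .bwd 8299, .fwd 12853],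
   .loop (some (8, 1)) [.fwd 13496, .bwd 13893, .fwd 1637],
   .loop (some (18, 2)) [.fwd 11853, .fwd 10429, .fwd 10430, .fwd 13893, .bwd 13502],
   .loop (some (4, 2)) [.fwd 10430, .bwd 8298, .bwd 12476],
   .loop (some (2, 2)) [.bwd 13895, .bwd 8301, .fwd 12893],
   .loop (some (8, 1)) [.fwd 13495, .bwd 13895, .fwd 1638],
   .loop (some (2, 2)) [.bwd 13899, .bwd 7779, .fwd 12933],
   .loop (some (5, 1)) [.fwd 12647, .fwd 6158, .bwd 5981],
   .loop (some (13, 2)) [.bwd 13006, .fwd 8312, .bwd 12476],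
   .loop (some (2, 2)) [.fwd 13560, .bwd 12728, .bwd 12736],
   .loop (some (7, 1)) [.fwd 13484, .fwd 10967, .bwd 13498],
   .loop (some (5, 1)) [.fwd 13555, .bwd 10968, .bwd 13498],
   .loop (some (1, 2)) [.bwd 13411, .fwd 10968, .fwd 12749],
   .loop (some (6, 2)) [.fwd 13386, .fwd 7674, .bwd 13498, .bwd 13892],
   .loop none [.bwd 13907],
   .loop none [.bwd 13386, .bwd 13908],
   .loop none [.fwd 13385, .bwd 13908],
   .loop (some (3, 3)) [.bwd 13411, .bwd 7674, .fwd 12761, .fwd 12762],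
   .loop none [.bwd 13911],
   .loop none [.fwd 13906, .bwd 13912],
   .loop none [.bwd 13891, .bwd 13912],
   .loop none [.fwd 13411, .bwd 13912],
   .loop none [.bwd 13412, .bwd 13912],
   .loop (some (12, 0)) [.bwd 13895, .fwd 8297, .fwd 1668],
   .loop (some (4, 2)) [.bwd 12763, .fwd 13915, .bwd 10967, .fwd 13424],
   .loop none [.fwd 13918],
   .loop none [.bwd 13739, .bwd 13919],
   .loop none [.fwd 13424, .bwd 13919],
   .loop (some (10, 2)) [.fwd 7674, .fwd 13917, .bwd 13898],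
   .loop (some (20, 0)) [.fwd 12583, .fwd 10102, .bwd 1837, .fwd 8341, .bwd 7175, .bwd 1747, .bwd 1712, .fwd 8315],
   .loop (some (18, 2)) [.bwd 9769, .bwd 9768, .fwd 11069, .fwd 1692, .fwd 12761],
   .loop (some (8, 2)) [.bwd 13910, .bwd 12807, .fwd 1677, .fwd 12853],
   .loop none [.bwd 13925],
   .loop none [.bwd 12854, .fwd 13926, .bwd 13390],
   .loop none [.fwd 13927],
   .loop none [.fwd 13910, .bwd 13926],
   .loop none [.fwd 13384, .bwd 13926],
   .loop none [.fwd 13389, .bwd 13928],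
   .loop (some (18, 2)) [.bwd 10247, .bwd 10246, .fwd 11070, .fwd 12807, .fwd 12808],
   .loop (some (8, 2)) [.bwd 13930, .bwd 12853, .fwd 1678, .fwd 12893],
   .loop none [.bwd 13933],
   .loop none [.fwd 13930, .bwd 13934],
   .loop none [.fwd 13383, .bwd 13934],
   .loop (some (18, 2)) [.bwd 10218, .bwd 10217, .bwd 11000, .fwd 12853, .fwd 12854],
   .loop (some (8, 2)) [.bwd 13936, .bwd 12893, .fwd 1679, .fwd 12933],
   .loop none [.bwd 13938],
   .loop none [.fwd 13936, .bwd 13939],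
   .loop none [.fwd 13393, .bwd 13939],
   .loop (some (18, 2)) [.bwd 10189, .bwd 10188, .fwd 1685, .fwd 12893, .fwd 12894],
   .loop (some (12, 2)) [.bwd 12893, .bwd 8306, .fwd 12807],
   .loop (some (18, 2)) [.bwd 10164, .bwd 10163, .fwd 11072, .fwd 12933, .fwd 12934],
   .loop (some (8, 2)) [.bwd 13194, .bwd 1683, .fwd 13123],
   .loop (some (8, 2)) [.bwd 10188, .bwd 1684, .fwd 13194],
   .loop (some (5, 1)) [.fwd 10101, .fwd 10107, .bwd 13909],
   .loop (some (1, 2)) [.bwd 12761, .bwd 10107, .bwd 11142],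
   .loop (some (13, 2)) [.bwd 12761, .bwd 13922, .fwd 12894],
   .loop (some (5, 3)) [.fwd 12755, .bwd 1697, .bwd 635, .bwd 12998],
   .loop none [.bwd 13950],
   .loop none [.bwd 12755, .bwd 13951],
   .loop none [.fwd 12754, .bwd 13951],
   .loop (some (9, 2)) [.fwd 13952, .fwd 8324, .bwd 12884],
   .loop (some (5, 3)) [.fwd 12793, .bwd 1698, .bwd 13952, .fwd 12997],
   .loop none [.fwd 13955],
   .loop none [.bwd 12987, .bwd 13956],
   .loop none [.fwd 12997, .bwd 13956],
   .loop (some (5, 3)) [.fwd 12838, .bwd 1699, .bwd 12793, .fwd 13957],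
   .loop none [.fwd 13959],
   .loop none [.bwd 12988, .bwd 13960],
   .loop (some (18, 3)) [.bwd 11962, .bwd 10938, .fwd 8327, .bwd 1753, .fwd 12445],
   .loop (some (5, 3)) [.fwd 12884, .bwd 1700, .bwd 12838, .fwd 13961],
   .loop none [.fwd 13963],
   .loop none [.fwd 12994, .bwd 13964],
   .loop none [.fwd 13350, .bwd 13964],
   .loop none [.fwd 13961, .bwd 13964],
   .loop (some (1, 2)) [.fwd 13229, .fwd 1706, .bwd 12884, .fwd 13965],
   .loop none [.bwd 13968],
   .loop none [.bwd 13229, .bwd 13969],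
   .loop (some (18, 3)) [.bwd 13238, .fwd 1706, .fwd 8325, .fwd 7305, .bwd 5410],
   .loop (some (9, 2)) [.fwd 12884, .bwd 7581, .bwd 12793],
   .loop (some (5, 2)) [.bwd 12992, .fwd 13743, .fwd 1704, .bwd 13163],
   .loop none [.fwd 13973],
   .loop none [.bwd 13163, .bwd 13974],
   .loop (some (8, 2)) [.bwd 13175, .bwd 1704, .fwd 13115],
   .loop (some (8, 2)) [.bwd 13238, .bwd 1705, .fwd 13175],
   .loop (some (2, 2)) [.fwd 12325, .bwd 12974, .bwd 12312],
   .loop (some (20, 1)) [.fwd 12325, .fwd 7664, .bwd 10108, .fwd 10999, .bwd 9735, .fwd 1810, .fwd 6917, .bwd 8332, .bwd 12224],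
   .loop none [.bwd 13979],
   .loop none [.fwd 12223, .fwd 13980, .bwd 13978],
   .loop none [.fwd 13981],
   .loop none [.bwd 13342, .bwd 13980],
   .loop none [.bwd 12325, .bwd 13980],
   .loop none [.bwd 12316, .bwd 13980],
   .loop none [.bwd 12312, .bwd 13982],
   .loop none [.bwd 12306, .bwd 13982],
   .loop none [.fwd 12305, .bwd 13982],
   .loop none [.bwd 12314, .bwd 13982],
   .loop (some (15, 0)) [.fwd 13346, .bwd 12547, .fwd 1681, .bwd 1758],
   .loop (some (9, 2)) [.fwd 12224, .bwd 7406, .bwd 12267],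
   .loop (some (5, 3)) [.fwd 12240, .bwd 1742, .bwd 12224, .fwd 13985],
   .loop none [.fwd 13992],
   .loop none [.bwd 12317, .bwd 13993],
   .loop none [.fwd 13985, .bwd 13993],
   .loop (some (5, 3)) [.fwd 12255, .bwd 1743, .bwd 12240, .fwd 13994],
   .loop none [.fwd 13996],
   .loop none [.bwd 12318, .bwd 13997],
   .loop (some (9, 2)) [.fwd 12255, .bwd 7307, .bwd 12280]]

theorem just55_len : just55.length = 250 := by decide +kernel

theorem just55_ok : cert.okFacts 13750 just55 = true := by decide +kernel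

/-- justifications -/
noncomputable def just56 : List Cert.Just :=
  [.loop (some (5, 3)) [.fwd 12267, .bwd 1744, .bwd 12255, .fwd 13998],
   .loop none [.fwd 14000],
   .loop none [.fwd 12324, .bwd 14001],
   .loop (some (1, 2)) [.fwd 12439, .fwd 1753, .bwd 12267, .fwd 14002],
   .loop none [.bwd 14003],
   .loop none [.bwd 12439, .bwd 14004],
   .loop (some (20, 1)) [.fwd 13345, .fwd 13346, .bwd 12547, .fwd 1681, .bwd 1758, .fwd 8332, .bwd 6917, .bwd 1810, .fwd 1835],
   .loop none [.bwd 14006],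
   .loop none [.bwd 11027, .fwd 14007, .bwd 13344],
   .loop none [.fwd 14008],
   .loop none [.bwd 13345, .bwd 14007],
   .loop none [.fwd 13343, .bwd 14009],
   .loop none [.fwd 13759, .bwd 14009],
   .loop (some (1, 2)) [.fwd 12343, .bwd 1750, .fwd 1835, .fwd 12321],
   .loop none [.bwd 14013],
   .loop none [.bwd 12343, .bwd 14014],
   .loop none [.fwd 12342, .bwd 14014],
   .loop (some (5, 2)) [.bwd 12322, .fwd 14015, .fwd 1751, .bwd 12380],
   .loop none [.fwd 14017],
   .loop none [.bwd 12380, .bwd 14018],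
   .loop (some (8, 2)) [.bwd 12445, .bwd 1752, .fwd 12387],
   .loop (some (2, 2)) [.bwd 13953, .bwd 12581, .bwd 10607, .bwd 12984],
   .loop none [.fwd 14021],
   .loop none [.bwd 12984, .bwd 14022],
   .loop none [.fwd 12979, .bwd 14022],
   .loop (some (12, 1)) [.fwd 13954, .bwd 12581, .bwd 12612],
   .loop (some (2, 2)) [.fwd 12590, .fwd 7228, .bwd 9708],
   .loop (some (12, 2)) [.fwd 12590, .bwd 7407, .bwd 5410],
   .loop (some (3, 2)) [.bwd 12578, .fwd 8379, .fwd 10608],
   .loop (some (8, 2)) [.bwd 14010, .bwd 5253, .bwd 1665],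
   .loop (some (3, 2)) [.bwd 14016, .bwd 12321, .bwd 13447, .fwd 12311],
   .loop none [.bwd 14030],
   .loop none [.fwd 14016, .bwd 14031],
   .loop (some (15, 0)) [.bwd 13380, .bwd 1681, .fwd 12547, .bwd 13346, .bwd 14010],
   .loop none [.bwd 14033],
   .loop none [.fwd 13380, .bwd 14034],
   .loop (some (5, 3)) [.bwd 1847, .fwd 8381, .fwd 12574],
   .loop (some (5, 3)) [.bwd 12334, .bwd 1848, .bwd 14036, .fwd 12575],
   .loop none [.fwd 14037],
   .loop none [.bwd 12576, .bwd 14038],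
   .loop none [.fwd 12575, .bwd 14038],
   .loop (some (1, 1)) [.bwd 12376, .bwd 8368, .fwd 12334],
   .loop (some (21, 2)) [.fwd 10610, .fwd 10850, .fwd 8407, .fwd 1848, .fwd 1849, .fwd 1850, .bwd 8417, .fwd 12344],
   .loop (some (14, 2)) [.fwd 12243, .fwd 12244, .bwd 10619, .bwd 10610],
   .loop (some (15, 0)) [.fwd 12443, .fwd 12444, .fwd 9707, .fwd 9708],
   .loop (some (1, 2)) [.bwd 10608, .fwd 11153, .fwd 12495],
   .loop (some (15, 0)) [.fwd 12385, .fwd 12386, .fwd 10718, .bwd 9862],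
   .loop (some (7, 1)) [.fwd 9920, .fwd 6904, .bwd 12332],
   .loop (some (2, 2)) [.bwd 12099, .fwd 12094, .fwd 12510],
   .loop (some (6, 1)) [.fwd 13440, .bwd 12094, .bwd 12332],
   .loop (some (3, 2)) [.bwd 12340, .bwd 12292, .fwd 12094, .fwd 12302],
   .loop none [.bwd 14050],
   .loop none [.fwd 12340, .bwd 14051],
   .loop (some (14, 2)) [.bwd 8382, .bwd 1867, .bwd 12335, .fwd 14039],
   .loop (some (4, 2)) [.bwd 12292, .bwd 6904, .fwd 9711],
   .loop (some (11, 1)) [.fwd 6958, .fwd 6904, .bwd 12335],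
   .loop (some (15, 0)) [.bwd 947, .bwd 12330, .bwd 12329, .bwd 12099],
   .loop (some (7, 1)) [.fwd 12748, .bwd 8346, .bwd 9639],
   .loop (some (5, 1)) [.fwd 13423, .fwd 9574, .bwd 9639],
   .loop (some (1, 2)) [.bwd 8349, .bwd 9574, .fwd 13485],
   .loop (some (4, 2)) [.bwd 8349, .fwd 8346, .fwd 13556],
   .loop (some (20, 3)) [.fwd 12442, .fwd 12443, .fwd 12444, .fwd 9707, .fwd 9708, .fwd 7187, .bwd 10414, .fwd 10821, .bwd 12126],
   .loop none [.bwd 14061],
   .loop none [.bwd 12442, .bwd 14062],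
   .loop none [.fwd 12275, .bwd 14062],
   .loop none [.fwd 12294, .bwd 14062],
   .loop none [.fwd 12448, .bwd 14062],
   .loop (some (20, 2)) [.fwd 12384, .fwd 12385, .fwd 12386, .fwd 10718, .bwd 9862, .fwd 8418, .bwd 11166, .fwd 11630],
   .loop (some (1, 2)) [.bwd 9851, .bwd 11166, .fwd 12096],
   .loop (some (12, 2)) [.bwd 5390, .bwd 8555, .fwd 12129],
   .loop (some (9, 1)) [.fwd 14069, .fwd 8565, .fwd 8568],
   .loop (some (1, 2)) [.fwd 2225, .fwd 14070, .fwd 12130],
   .loop (some (1, 2)) [.bwd 2323, .fwd 2971, .fwd 12203],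
   .loop (some (8, 1)) [.fwd 12629, .bwd 2304, .fwd 2277],
   .loop (some (8, 1)) [.fwd 12628, .bwd 14073, .fwd 2278],
   .loop (some (8, 1)) [.fwd 12627, .bwd 14074, .fwd 2279],
   .loop (some (8, 1)) [.fwd 12626, .bwd 14075, .fwd 2280],
   .loop (some (16, 3)) [.fwd 14072, .fwd 8560, .bwd 8558, .bwd 8596, .bwd 9052],
   .loop (some (7, 1)) [.fwd 12623, .fwd 7411, .bwd 12629],
   .loop (some (5, 1)) [.fwd 12623, .fwd 7412, .bwd 12629],
   .loop (some (3, 2)) [.bwd 13826, .fwd 7416, .fwd 12213],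
   .loop (some (4, 2)) [.bwd 13826, .bwd 7411, .fwd 13820],
   .loop (some (5, 1)) [.fwd 12202, .bwd 2333, .bwd 2320],
   .loop (some (5, 3)) [.bwd 2315, .bwd 6334, .fwd 12197],
   .loop (some (5, 3)) [.bwd 2316, .bwd 14083, .fwd 12198],
   .loop (some (5, 3)) [.bwd 2317, .bwd 14084, .fwd 12199],
   .loop (some (9, 2)) [.fwd 14085, .fwd 8632, .fwd 14082],
   .loop (some (5, 3)) [.bwd 2318, .bwd 14085, .fwd 12200],
   .loop (some (1, 2)) [.fwd 2326, .bwd 14087, .bwd 12206],
   .loop (some (16, 1)) [.bwd 9067, .bwd 8625, .bwd 8587, .fwd 8588, .fwd 14082],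
   .loop (some (2, 3)) [.bwd 8588, .fwd 14076, .bwd 14080],
   .loop (some (9, 2)) [.bwd 14082, .bwd 8618, .fwd 2333],
   .loop (some (5, 1)) [.fwd 12191, .bwd 2376, .bwd 2360],
   .loop (some (5, 1)) [.bwd 12204, .fwd 14072, .fwd 2324],
   .loop (some (16, 1)) [.bwd 9086, .fwd 9087, .bwd 8620, .fwd 8621, .fwd 14093],
   .loop (some (16, 1)) [.fwd 9078, .bwd 9080, .fwd 8609, .bwd 8611, .bwd 14088],
   .loop (some (7, 1)) [.fwd 12191, .fwd 7279, .bwd 12202],
   .loop (some (0, 2)) [.fwd 14091, .fwd 14086],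
   .loop (some (10, 1)) [.bwd 9089, .fwd 6432, .bwd 14097],
   .loop (some (20, 2)) [.fwd 12196, .fwd 6168, .bwd 6268, .fwd 8689, .fwd 6392, .fwd 6449, .bwd 7281, .bwd 12207],
   .loop (some (4, 2)) [.bwd 12213, .bwd 6449, .fwd 6567],
   .loop (some (20, 0)) [.fwd 12196, .fwd 6168, .bwd 6268, .fwd 8689, .fwd 6392, .fwd 6449, .bwd 2335, .bwd 8628],
   .loop (some (5, 3)) [.bwd 2356, .fwd 14101, .fwd 12187],
   .loop (some (5, 3)) [.bwd 2357, .bwd 14102, .fwd 12188],
   .loop (some (9, 2)) [.fwd 14103, .bwd 8633, .fwd 14092],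
   .loop (some (5, 3)) [.bwd 2358, .bwd 14103, .fwd 12189],
   .loop (some (1, 2)) [.fwd 2370, .bwd 14105, .bwd 12195],
   .loop (some (9, 2)) [.fwd 14105, .bwd 8636, .bwd 14102],
   .loop (some (9, 2)) [.bwd 14092, .bwd 8637, .fwd 2376],
   .loop (some (20, 1)) [.bwd 13566, .fwd 1600, .bwd 1520, .bwd 7822, .fwd 8858, .fwd 3024, .bwd 2912, .fwd 2929],
   .loop (some (1, 2)) [.bwd 2367, .fwd 2929, .fwd 12192],
   .loop (some (5, 1)) [.bwd 12193, .fwd 14110, .fwd 2368],
   .loop (some (6, 1)) [.fwd 12180, .fwd 7277, .bwd 12191],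
   .loop (some (0, 2)) [.fwd 14108, .fwd 14104],
   .loop (some (11, 1)) [.fwd 14097, .bwd 7279, .bwd 14113],
   .loop (some (2, 2)) [.fwd 12652, .fwd 2522, .bwd 12667],
   .loop (some (7, 1)) [.fwd 12180, .bwd 6168, .bwd 6166],
   .loop (some (2, 2)) [.fwd 12196, .fwd 6176, .bwd 12185],
   .loop (some (4, 2)) [.bwd 6123, .fwd 6168, .fwd 12169],
   .loop (some (15, 0)) [.bwd 7280, .bwd 12207, .fwd 14099, .fwd 12196],
   .loop (some (8, 1)) [.fwd 12647, .bwd 2520, .fwd 2492],
   .loop (some (8, 1)) [.fwd 12646, .bwd 14120, .fwd 2493],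
   .loop (some (8, 1)) [.fwd 12645, .bwd 14121, .fwd 2494],
   .loop (some (8, 1)) [.fwd 12644, .bwd 14122, .fwd 2495],
   .loop (some (12, 2)) [.bwd 14122, .bwd 8720, .fwd 14120],
   .loop (some (20, 7)) [.fwd 12652, .fwd 2504, .bwd 7274, .bwd 12162, .fwd 13572, .fwd 718, .fwd 9963, .bwd 13613, .bwd 13612],
   .loop none [.fwd 14125],
   .loop none [.bwd 13612, .bwd 14126],
   .loop none [.fwd 13611, .bwd 14126],
   .loop (some (7, 1)) [.fwd 12168, .bwd 6111, .fwd 6114],
   .loop (some (4, 2)) [.bwd 6170, .fwd 6111, .fwd 12181],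
   .loop (some (6, 1)) [.fwd 12659, .bwd 7431, .bwd 12647],
   .loop (some (12, 0)) [.bwd 14122, .fwd 8721, .fwd 2520],
   .loop (some (9, 1)) [.bwd 8312, .bwd 6158, .fwd 14132],
   .loop (some (8, 1)) [.fwd 12659, .bwd 2550, .fwd 2531],
   .loop (some (8, 1)) [.fwd 12658, .bwd 14134, .fwd 2532],
   .loop (some (12, 2)) [.bwd 14134, .bwd 2555, .fwd 2550],
   .loop (some (2, 2)) [.bwd 14135, .fwd 8723, .fwd 14121],
   .loop (some (8, 1)) [.fwd 12657, .bwd 14135, .fwd 2533],
   .loop (some (8, 1)) [.fwd 12656, .bwd 14138, .fwd 2534],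
   .loop (some (12, 2)) [.bwd 14138, .bwd 8730, .fwd 14134],
   .loop (some (2, 2)) [.bwd 14139, .bwd 8692, .fwd 14123],
   .loop (some (20, 6)) [.fwd 12667, .fwd 2536, .fwd 2606, .bwd 4333, .fwd 8819, .fwd 2898, .bwd 12691, .bwd 12681],
   .loop (some (7, 1)) [.fwd 12673, .bwd 12660, .bwd 12659],
   .loop (some (12, 0)) [.bwd 14138, .fwd 8742, .fwd 2550],
   .loop (some (15, 0)) [.bwd 14142, .fwd 12681, .fwd 12691, .bwd 2898],
   .loop (some (3, 2)) [.bwd 12662, .bwd 7426, .fwd 12648],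
   .loop (some (4, 2)) [.bwd 12662, .bwd 12691, .fwd 12675],
   .loop (some (8, 1)) [.fwd 12636, .bwd 2931, .fwd 2907],
   .loop (some (18, 2)) [.bwd 4836, .bwd 4835, .fwd 8840, .fwd 2931, .fwd 12648],
   .loop (some (8, 1)) [.fwd 12635, .bwd 14148, .fwd 2908],
   .loop (some (8, 1)) [.fwd 12634, .bwd 14150, .fwd 2909],
   .loop (some (8, 1)) [.fwd 12633, .bwd 14151, .fwd 2910],
   .loop (some (12, 2)) [.bwd 14151, .bwd 8834, .fwd 14148],
   .loop (some (3, 2)) [.bwd 12192, .bwd 7275, .fwd 12181],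
   .loop (some (4, 2)) [.bwd 12192, .fwd 7789, .fwd 12203],
   .loop (some (15, 0)) [.fwd 1520, .bwd 1600, .fwd 13566, .bwd 14109],
   .loop (some (12, 0)) [.bwd 14151, .bwd 8839, .fwd 2931],
   .loop (some (15, 0)) [.bwd 11337, .bwd 3397, .bwd 3396, .fwd 6888],
   .loop (some (21, 8)) [.fwd 8384, .bwd 1846, .bwd 525, .bwd 505, .bwd 557, .fwd 9360, .bwd 12228, .bwd 12227],
   .loop (some (17, 6)) [.fwd 8910, .bwd 5058, .bwd 5057, .fwd 8177, .fwd 13591, .fwd 13592],
   .loop none [.fwd 14160],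
   .loop none [.fwd 13592, .bwd 14161],
   .loop none [.fwd 3315, .fwd 14161, .fwd 13593],
   .loop none [.fwd 14163],
   .loop none [.bwd 8906, .fwd 14164, .fwd 13594],
   .loop none [.fwd 14165],
   .loop none [.fwd 5061, .fwd 14166, .fwd 13595],
   .loop none [.fwd 14167],
   .loop none [.bwd 13596, .bwd 14168],
   .loop (some (11, 2)) [.bwd 14162, .bwd 8909, .fwd 9210],
   .loop (some (7, 1)) [.bwd 12344, .bwd 3396, .fwd 10627],
   .loop (some (20, 0)) [.bwd 12346, .bwd 14054, .bwd 11173, .fwd 11172, .fwd 10631, .fwd 10632, .bwd 11320, .fwd 11319],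
   .loop (some (7, 0)) [.fwd 4850, .fwd 11199, .bwd 3455],
   .loop (some (6, 2)) [.fwd 3454, .fwd 14173, .bwd 4849],
   .loop (some (17, 6)) [.fwd 9017, .bwd 5089, .bwd 5088, .fwd 7937, .fwd 13842, .fwd 13071],
   .loop none [.fwd 14175],
   .loop none [.fwd 13071, .bwd 14176],
   .loop none [.fwd 3456, .fwd 14176, .fwd 13072],
   .loop none [.fwd 14178],
   .loop none [.bwd 9012, .fwd 14179, .fwd 13073],
   .loop none [.fwd 14180],
   .loop none [.fwd 5092, .fwd 14181, .fwd 13074],
   .loop none [.fwd 14182],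
   .loop none [.bwd 13075, .bwd 14183],
   .loop (some (20, 5)) [.fwd 12247, .fwd 9827, .bwd 9049, .bwd 7254, .fwd 5846, .fwd 9496, .bwd 12930, .bwd 12929, .fwd 13266],
   .loop none [.fwd 14185],
   .loop none [.fwd 13000, .bwd 14186],
   .loop none [.fwd 12246, .fwd 14186, .bwd 13266],
   .loop none [.fwd 14188],
   .loop none [.fwd 12490, .bwd 14186],
   .loop none [.bwd 12921, .bwd 14189],
   .loop none [.fwd 12245, .fwd 14189, .fwd 12929],
   .loop none [.fwd 14192],
   .loop none [.bwd 12930, .bwd 14193],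
   .loop (some (15, 0)) [.fwd 12285, .fwd 12286, .fwd 10396, .bwd 9043],
   .loop (some (2, 2)) [.bwd 9045, .fwd 9041, .fwd 12129],
   .loop (some (15, 0)) [.fwd 12272, .fwd 12273, .fwd 10564, .bwd 9045],
   .loop (some (15, 0)) [.fwd 12257, .fwd 12258, .fwd 10533, .bwd 9047],
   .loop (some (2, 2)) [.bwd 9049, .bwd 8553, .fwd 12591],
   .loop (some (15, 0)) [.fwd 12246, .fwd 12247, .fwd 9827, .bwd 9049],
   .loop (some (6, 2)) [.fwd 14199, .bwd 3587, .fwd 8552],
   .loop (some (3, 3)) [.bwd 14199, .fwd 12592, .fwd 12593],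
   .loop (some (4, 1)) [.bwd 12594, .fwd 14202, .bwd 9827],
   .loop (some (3, 3)) [.fwd 3599, .bwd 14196, .fwd 12130, .fwd 12131],
   .loop none [.fwd 14204],
   .loop none [.fwd 12131, .bwd 14205],
   .loop none [.bwd 12132, .bwd 14205],
   .loop (some (13, 2)) [.fwd 3599, .bwd 9061, .bwd 14202],
   .loop (some (4, 2)) [.bwd 14207, .fwd 3599, .bwd 10564, .bwd 12219],
   .loop none [.fwd 14209],
   .loop none [.bwd 12219, .bwd 14210],
   .loop none [.fwd 12218, .bwd 14210],
   .loop (some (10, 2)) [.fwd 14196, .bwd 9061, .bwd 14199],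
   .loop (some (12, 2)) [.fwd 10613, .bwd 11240, .bwd 12258],
   .loop (some (4, 2)) [.bwd 3596, .fwd 3635, .fwd 12216],
   .loop (some (7, 1)) [.bwd 12217, .fwd 14215, .fwd 3597],
   .loop (some (11, 2)) [.bwd 14207, .bwd 14208, .fwd 12594],
   .loop (some (10, 2)) [.bwd 14206, .bwd 14208, .bwd 12593],
   .loop (some (16, 1)) [.fwd 14083, .bwd 8601, .bwd 8602, .bwd 9069, .bwd 9070],
   .loop (some (8, 1)) [.fwd 12616, .bwd 3652, .fwd 3627],
   .loop (some (16, 1)) [.fwd 14084, .fwd 8604, .bwd 8603, .fwd 9072, .bwd 9071],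
   .loop (some (8, 1)) [.fwd 12615, .bwd 14220, .fwd 3628],
   .loop (some (8, 1)) [.fwd 12614, .bwd 14222, .fwd 3629],
   .loop (some (12, 2)) [.bwd 14222, .bwd 9085, .bwd 9083],
   .loop (some (16, 1)) [.fwd 14087, .fwd 8610, .bwd 8608, .fwd 9079, .bwd 9077],
   .loop (some (20, 2)) [.fwd 6175, .fwd 7279, .bwd 7282, .fwd 9615, .fwd 7408, .fwd 3635, .bwd 6267, .bwd 12185],
   .loop (some (1, 2)) [.bwd 12216, .bwd 6267, .fwd 10796],
   .loop (some (7, 1)) [.fwd 12211, .fwd 7280, .bwd 12616],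
   .loop (some (5, 1)) [.fwd 6443, .fwd 6461, .bwd 12616],
   .loop (some (6, 1)) [.fwd 12623, .bwd 7409, .bwd 12616],
   .loop (some (12, 0)) [.bwd 14223, .fwd 9074, .fwd 3652],
   .loop (some (8, 1)) [.fwd 12623, .bwd 3676, .fwd 3663],
   .loop (some (8, 1)) [.fwd 12622, .bwd 14232, .fwd 3664],
   .loop (some (20, 2)) [.bwd 14233, .bwd 9093, .fwd 9101, .fwd 9112, .bwd 9101, .fwd 9093, .fwd 8606, .fwd 14074],
   .loop (some (8, 1)) [.fwd 12621, .bwd 14233, .fwd 3665],
   .loop (some (2, 2)) [.bwd 14235, .fwd 9079, .fwd 14223],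
   .loop (some (8, 1)) [.fwd 12620, .bwd 14235, .fwd 3666],
   .loop (some (12, 2)) [.bwd 14235, .bwd 8613, .fwd 14232],
   .loop (some (15, 0)) [.fwd 14234, .bwd 14233, .bwd 9093, .fwd 9101],
   .loop (some (15, 0)) [.bwd 11379, .bwd 4500, .bwd 4499, .bwd 7232],
   .loop (some (19, 4)) [.bwd 12241, .fwd 10887, .bwd 12283, .bwd 12328, .fwd 12003, .fwd 12396],
   .loop (some (5, 2)) [.bwd 12376, .bwd 10887, .bwd 12249],
   .loop (some (14, 1)) [.fwd 12403, .fwd 12328, .fwd 12283, .bwd 8926],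
   .loop (some (15, 0)) [.fwd 12610, .fwd 12590, .bwd 10277, .bwd 11103],
   .loop (some (9, 2)) [.fwd 8566, .bwd 8570, .bwd 14071],
   .loop (some (2, 1)) [.bwd 14146, .fwd 14149, .fwd 4837],
   .loop (some (15, 0)) [.fwd 14147, .bwd 14246, .fwd 4838, .fwd 4839],
   .loop (some (11, 2)) [.bwd 13869, .bwd 9315, .fwd 14169],
   .loop (some (2, 2)) [.fwd 13798, .fwd 5061, .bwd 13781]]

theorem just56_len : just56.length = 250 := by decide +kernel

theorem just56_ok : cert.okFacts 14000 just56 = true := by decide +kernel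

/-- justifications -/
noncomputable def just57 : List Cert.Just :=
  [.loop (some (2, 2)) [.fwd 9894, .bwd 11112, .fwd 12404],
   .loop (some (2, 2)) [.fwd 9832, .bwd 9790, .fwd 12451],
   .loop (some (0, 0)) [.fwd 14218, .fwd 14245],
   .loop (some (11, 2)) [.bwd 5393, .bwd 9062, .fwd 14207],
   .loop (some (1, 0)) [.bwd 13002, .bwd 11704, .fwd 11243],
   .loop (some (18, 2)) [.bwd 13001, .fwd 10952, .fwd 11243, .fwd 5394, .fwd 5395],
   .loop (some (12, 2)) [.bwd 5394, .bwd 14253, .fwd 12133],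
   .loop (some (13, 2)) [.bwd 5395, .bwd 14256, .fwd 12134],
   .loop (some (10, 2)) [.bwd 5396, .bwd 14257, .fwd 12135],
   .loop (some (11, 2)) [.bwd 5397, .bwd 14258, .fwd 12136],
   .loop (some (12, 2)) [.bwd 5398, .bwd 14259, .fwd 12137],
   .loop (some (13, 2)) [.bwd 5399, .bwd 14260, .fwd 12138],
   .loop (some (10, 2)) [.bwd 5400, .bwd 14261, .fwd 12139],
   .loop (some (11, 2)) [.bwd 5401, .bwd 14262, .fwd 12140],
   .loop (some (12, 2)) [.bwd 5402, .bwd 14263, .fwd 12141],
   .loop (some (13, 2)) [.bwd 5403, .bwd 14264, .fwd 12142],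
   .loop (some (10, 2)) [.bwd 5404, .bwd 14265, .fwd 12143],
   .loop (some (11, 2)) [.bwd 5405, .bwd 14266, .fwd 12144],
   .loop (some (12, 2)) [.bwd 5406, .bwd 14267, .fwd 12145],
   .loop (some (15, 0)) [.fwd 5918, .fwd 5919, .bwd 11454, .bwd 5406],
   .loop (some (13, 2)) [.bwd 5407, .bwd 14268, .fwd 12146],
   .loop (some (11, 1)) [.fwd 9556, .bwd 11454, .bwd 14268],
   .loop (some (11, 1)) [.fwd 9557, .bwd 11453, .bwd 14270],
   .loop (some (10, 2)) [.bwd 5408, .bwd 14270, .fwd 12147],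
   .loop (some (11, 2)) [.bwd 5409, .bwd 14273, .fwd 12148],
   .loop (some (0, 1)) [.fwd 14274, .fwd 14027],
   .loop (some (10, 1)) [.fwd 9559, .bwd 11392, .bwd 14274],
   .loop (some (15, 0)) [.bwd 12329, .bwd 12099, .bwd 6904, .bwd 8449],
   .loop (some (15, 0)) [.bwd 12285, .bwd 12284, .bwd 10817, .bwd 11223],
   .loop (some (15, 0)) [.bwd 12272, .bwd 12271, .fwd 13284, .bwd 9042],
   .loop (some (15, 0)) [.fwd 9758, .fwd 9759, .fwd 11417, .bwd 5596],
   .loop (some (17, 4)) [.fwd 11417, .fwd 11414, .bwd 10641, .bwd 10640, .fwd 12352],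
   .loop (some (8, 0)) [.bwd 12404, .bwd 10268, .bwd 5600],
   .loop (some (15, 0)) [.bwd 12257, .bwd 12256, .bwd 10826, .bwd 9430],
   .loop (some (18, 6)) [.fwd 5699, .fwd 5700, .fwd 9310, .fwd 11091, .fwd 12451, .fwd 12452],
   .loop none [.fwd 14284],
   .loop none [.bwd 11422, .fwd 14285, .fwd 12453],
   .loop none [.fwd 14286],
   .loop none [.bwd 12454, .bwd 14287],
   .loop (some (15, 0)) [.bwd 12352, .bwd 9732, .fwd 10131, .fwd 5842],
   .loop (some (16, 3)) [.fwd 10676, .fwd 10332, .fwd 9847, .bwd 9852, .bwd 14068],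
   .loop (some (17, 3)) [.fwd 12375, .fwd 9917, .bwd 10883, .bwd 10999, .bwd 11075],
   .loop (some (20, 0)) [.bwd 12099, .bwd 6904, .bwd 8449, .fwd 9913, .bwd 11051, .bwd 7712, .fwd 11050, .fwd 9917],
   .loop (some (1, 2)) [.bwd 5904, .fwd 14292, .fwd 12100],
   .loop (some (15, 0)) [.fwd 5405, .fwd 5406, .fwd 11454, .bwd 5919],
   .loop (some (4, 3)) [.fwd 5922, .bwd 12263, .bwd 12920],
   .loop (some (14, 2)) [.fwd 10609, .fwd 10610, .bwd 9560, .bwd 12228],
   .loop (some (11, 1)) [.fwd 14053, .bwd 5936, .bwd 8433],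
   .loop (some (2, 0)) [.fwd 13448, .bwd 13432, .bwd 5937],
   .loop (some (8, 1)) [.fwd 13423, .bwd 5937, .fwd 12574],
   .loop (some (6, 1)) [.fwd 13454, .bwd 13432, .bwd 13423],
   .loop (some (3, 2)) [.bwd 13485, .fwd 13432, .fwd 13474],
   .loop (some (2, 2)) [.fwd 13516, .bwd 10899, .bwd 13549],
   .loop (some (6, 1)) [.fwd 12742, .fwd 10899, .bwd 12748],
   .loop (some (3, 2)) [.bwd 13556, .bwd 10899, .fwd 12735],
   .loop (some (5, 3)) [.bwd 5976, .bwd 6149, .fwd 12642],
   .loop (some (5, 3)) [.bwd 5977, .bwd 14305, .fwd 12643],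
   .loop (some (3, 2)) [.fwd 12476, .fwd 10934, .fwd 12851],
   .loop (some (5, 3)) [.bwd 5979, .bwd 14133, .fwd 12645],
   .loop (some (9, 2)) [.fwd 14308, .bwd 8305, .bwd 14306],
   .loop (some (7, 4)) [.bwd 6010, .fwd 6301, .fwd 12163, .bwd 13052],
   .loop none [.fwd 14310],
   .loop none [.bwd 13052, .bwd 14311],
   .loop none [.bwd 6035, .fwd 14311, .bwd 13051],
   .loop none [.fwd 14313],
   .loop none [.fwd 1643, .fwd 14314, .bwd 13050],
   .loop none [.fwd 14315],
   .loop none [.bwd 13009, .fwd 14316, .bwd 13049],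
   .loop none [.fwd 14317],
   .loop none [.fwd 13717, .bwd 14316],
   .loop none [.fwd 13048, .bwd 14318],
   .loop (some (20, 4)) [.fwd 13093, .fwd 9970, .fwd 702, .bwd 12173, .bwd 14312, .fwd 8717, .fwd 2520, .fwd 7430, .bwd 13560],
   .loop none [.fwd 14321],
   .loop none [.fwd 13149, .fwd 14322, .bwd 13903],
   .loop none [.bwd 14323],
   .loop none [.fwd 13092, .fwd 14322, .fwd 13560],
   .loop none [.bwd 14325],
   .loop none [.bwd 13551, .bwd 14322],
   .loop none [.bwd 13149, .bwd 14324],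
   .loop none [.fwd 13148, .bwd 14324],
   .loop none [.fwd 7430, .fwd 14326, .bwd 13091],
   .loop none [.fwd 14330],
   .loop none [.bwd 13092, .bwd 14326],
   .loop none [.fwd 13090, .bwd 14331],
   .loop (some (3, 3)) [.fwd 10953, .fwd 13002, .fwd 13353],
   .loop (some (13, 2)) [.fwd 14334, .fwd 9585, .bwd 6032],
   .loop (some (4, 1)) [.bwd 13354, .fwd 14334, .fwd 14312],
   .loop (some (15, 0)) [.bwd 14320, .bwd 13009, .fwd 1643, .bwd 6035],
   .loop (some (7, 3)) [.bwd 6011, .fwd 14312, .fwd 12164],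
   .loop (some (7, 3)) [.bwd 6012, .bwd 14338, .fwd 12165],
   .loop (some (11, 2)) [.fwd 14339, .bwd 9584, .fwd 14129],
   .loop (some (7, 3)) [.bwd 6013, .bwd 14339, .fwd 12166],
   .loop (some (4, 2)) [.fwd 6032, .bwd 14341, .bwd 12172],
   .loop (some (11, 2)) [.fwd 14341, .bwd 8729, .bwd 14338],
   .loop (some (11, 2)) [.bwd 14129, .bwd 8733, .fwd 6111],
   .loop (some (0, 2)) [.fwd 14344, .fwd 14340],
   .loop (some (20, 4)) [.fwd 6462, .fwd 6221, .bwd 12185, .fwd 14226, .fwd 8673, .fwd 2451, .bwd 2321, .bwd 13829],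
   .loop (some (8, 1)) [.fwd 12191, .bwd 6175, .fwd 6162],
   .loop (some (12, 1)) [.fwd 14113, .bwd 6175, .fwd 9586],
   .loop (some (7, 3)) [.bwd 6162, .bwd 14226, .fwd 12176],
   .loop (some (20, 7)) [.fwd 14349, .fwd 8676, .bwd 8655, .bwd 8626, .bwd 14090, .bwd 14100, .bwd 9607, .fwd 9088],
   .loop (some (2, 1)) [.bwd 14112, .bwd 14347, .bwd 9587],
   .loop (some (8, 1)) [.fwd 12190, .bwd 14347, .fwd 6163],
   .loop (some (7, 3)) [.bwd 6163, .bwd 14349, .fwd 12177],
   .loop (some (12, 1)) [.fwd 14107, .bwd 14352, .bwd 8680],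
   .loop (some (11, 2)) [.fwd 14353, .bwd 8680, .fwd 14116],
   .loop (some (7, 3)) [.bwd 6164, .bwd 14353, .fwd 12178],
   .loop (some (4, 2)) [.fwd 6173, .bwd 14356, .bwd 12184],
   .loop (some (2, 2)) [.bwd 14354, .fwd 8695, .fwd 14350],
   .loop (some (11, 2)) [.bwd 14116, .bwd 8687, .fwd 6168],
   .loop (some (0, 2)) [.fwd 14359, .fwd 14355],
   .loop (some (7, 1)) [.bwd 12182, .fwd 14130, .fwd 6171],
   .loop (some (15, 0)) [.bwd 7279, .bwd 6175, .bwd 14226, .fwd 12185],
   .loop (some (12, 1)) [.fwd 14360, .bwd 6268, .fwd 9596],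
   .loop (some (17, 3)) [.bwd 14221, .fwd 9597, .fwd 9587, .bwd 14349, .fwd 14358],
   .loop (some (8, 1)) [.fwd 12179, .bwd 14351, .fwd 6183],
   .loop (some (2, 2)) [.bwd 14365, .fwd 9588, .fwd 14352],
   .loop (some (15, 0)) [.bwd 14114, .bwd 14348, .bwd 14356, .bwd 14365],
   .loop (some (17, 3)) [.bwd 14225, .fwd 9599, .fwd 9590, .bwd 14356, .bwd 14366],
   .loop (some (15, 0)) [.bwd 14368, .bwd 14352, .bwd 14353, .bwd 14363],
   .loop (some (15, 0)) [.fwd 14096, .bwd 14347, .bwd 14349, .bwd 14350],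
   .loop (some (20, 3)) [.bwd 14364, .bwd 14354, .fwd 14116, .bwd 14351, .bwd 9597, .fwd 9071, .fwd 14220, .fwd 14228],
   .loop (some (2, 2)) [.bwd 9602, .fwd 14221, .bwd 14371],
   .loop (some (20, 3)) [.fwd 14096, .bwd 14347, .bwd 14349, .bwd 14350, .bwd 9088, .bwd 9067, .bwd 9083, .bwd 9090],
   .loop (some (15, 0)) [.bwd 8626, .bwd 14090, .bwd 14100, .bwd 9607],
   .loop (some (6, 3)) [.bwd 6440, .bwd 9609, .fwd 12208],
   .loop (some (3, 1)) [.bwd 8645, .bwd 9611, .bwd 14375],
   .loop (some (10, 2)) [.fwd 14375, .bwd 9608, .bwd 14372],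
   .loop (some (6, 3)) [.bwd 6441, .bwd 14375, .fwd 12209],
   .loop (some (15, 0)) [.bwd 14356, .bwd 14365, .fwd 9595, .fwd 9604],
   .loop (some (10, 2)) [.fwd 14378, .bwd 9614, .bwd 9609],
   .loop (some (15, 0)) [.fwd 14116, .bwd 14351, .bwd 9597, .fwd 9602],
   .loop (some (10, 2)) [.fwd 14372, .bwd 9605, .fwd 6464],
   .loop (some (0, 2)) [.fwd 14382, .fwd 14377],
   .loop (some (11, 1)) [.bwd 14231, .bwd 7280, .bwd 14383],
   .loop (some (8, 1)) [.fwd 12201, .bwd 14373, .fwd 12208],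
   .loop (some (0, 1)) [.fwd 7283, .fwd 14380],
   .loop (some (12, 1)) [.fwd 14097, .bwd 7282, .bwd 14386],
   .loop (some (0, 1)) [.fwd 7410, .fwd 14224],
   .loop (some (11, 1)) [.fwd 14386, .fwd 9615, .bwd 14388],
   .loop (some (17, 3)) [.bwd 12232, .bwd 12127, .bwd 8430, .fwd 5936, .fwd 14298],
   .loop (some (4, 2)) [.bwd 10438, .fwd 12127, .fwd 12233],
   .loop (some (17, 3)) [.fwd 14304, .fwd 14060, .fwd 6641, .fwd 6642, .fwd 11514],
   .loop (some (5, 1)) [.bwd 13486, .fwd 14059, .fwd 9965],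
   .loop (some (9, 1)) [.fwd 13949, .bwd 13948, .bwd 9621],
   .loop (some (4, 3)) [.fwd 6658, .bwd 12251, .bwd 12960],
   .loop (some (13, 2)) [.fwd 12251, .bwd 9638, .fwd 11608],
   .loop (some (7, 1)) [.bwd 10466, .bwd 10478, .fwd 12241],
   .loop (some (21, 4)) [.bwd 12402, .fwd 12396, .fwd 14241, .bwd 12241, .bwd 9572, .bwd 553, .fwd 8333, .fwd 12225],
   .loop (some (4, 2)) [.bwd 10475, .bwd 14194, .fwd 12248],
   .loop (some (7, 3)) [.bwd 8434, .fwd 5936, .fwd 12574],
   .loop (some (17, 3)) [.bwd 14303, .bwd 14057, .fwd 11117, .fwd 11138, .fwd 11792],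
   .loop (some (7, 1)) [.fwd 12747, .bwd 14057, .bwd 8405],
   .loop (some (5, 1)) [.fwd 13422, .bwd 14058, .bwd 8405],
   .loop (some (9, 2)) [.bwd 14058, .bwd 8406, .bwd 9574],
   .loop (some (1, 0)) [.bwd 12808, .fwd 13947, .bwd 11539],
   .loop (some (2, 3)) [.fwd 6727, .bwd 10730, .bwd 12536],
   .loop (some (18, 3)) [.fwd 6725, .fwd 6726, .bwd 14406, .bwd 12535, .bwd 12534],
   .loop (some (20, 0)) [.fwd 12444, .fwd 9707, .fwd 9708, .fwd 7187, .bwd 7183, .bwd 7222, .fwd 9401, .bwd 6728],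
   .loop (some (4, 3)) [.fwd 6728, .fwd 10378, .bwd 12880],
   .loop (some (13, 2)) [.bwd 10378, .bwd 9674, .bwd 12251],
   .loop (some (7, 1)) [.fwd 12746, .bwd 14402, .bwd 8408],
   .loop (some (5, 1)) [.fwd 13421, .bwd 14403, .bwd 8408],
   .loop (some (4, 2)) [.bwd 6775, .fwd 14402, .bwd 12752],
   .loop (some (15, 0)) [.fwd 12144, .fwd 12145, .fwd 14271, .bwd 6790],
   .loop (some (4, 3)) [.fwd 6793, .bwd 12291, .bwd 12834],
   .loop (some (13, 2)) [.fwd 12291, .bwd 11455, .fwd 9809],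
   .loop (some (19, 3)) [.bwd 12382, .bwd 12381, .bwd 12281, .bwd 12228, .bwd 12227, .fwd 14159],
   .loop (some (7, 1)) [.bwd 10566, .bwd 10581, .fwd 12281],
   .loop (some (14, 2)) [.fwd 12227, .fwd 12228, .fwd 9678, .bwd 12244],
   .loop (some (7, 1)) [.fwd 12745, .bwd 14411, .bwd 11148],
   .loop (some (5, 1)) [.fwd 13420, .bwd 14412, .bwd 11148],
   .loop (some (11, 2)) [.bwd 14411, .bwd 8411, .fwd 14057],
   .loop (some (9, 2)) [.bwd 14412, .bwd 8411, .fwd 14058],
   .loop (some (9, 2)) [.bwd 14394, .bwd 9643, .fwd 14405],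
   .loop (some (13, 2)) [.bwd 11604, .bwd 9668, .bwd 14407],
   .loop (some (17, 5)) [.fwd 11606, .bwd 9931, .bwd 9930, .bwd 13378, .bwd 13377],
   .loop (some (4, 2)) [.bwd 6862, .bwd 14426, .bwd 13376],
   .loop (some (12, 2)) [.fwd 12571, .bwd 9671, .bwd 14406],
   .loop (some (13, 2)) [.fwd 11607, .bwd 9673, .bwd 14409],
   .loop (some (10, 2)) [.bwd 11609, .bwd 9676, .bwd 12446],
   .loop (some (7, 1)) [.bwd 10431, .bwd 10441, .fwd 12225],
   .loop (some (14, 3)) [.fwd 12269, .fwd 12270, .bwd 9681, .bwd 566, .fwd 12400],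
   .loop none [.fwd 14432],
   .loop none [.bwd 12401, .bwd 14433],
   .loop none [.fwd 12400, .bwd 14433],
   .loop (some (20, 0)) [.bwd 14011, .bwd 11027, .fwd 14010, .fwd 13346, .bwd 12547, .fwd 1681, .bwd 1758, .fwd 8332],
   .loop (some (5, 2)) [.bwd 14436, .bwd 7173, .bwd 7171],
   .loop (some (17, 3)) [.bwd 12277, .bwd 10817, .fwd 9683, .bwd 14047, .fwd 14049],
   .loop (some (4, 2)) [.bwd 10576, .fwd 10817, .fwd 12288],
   .loop (some (17, 5)) [.fwd 9706, .fwd 9707, .fwd 14026, .bwd 12610, .bwd 12609],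
   .loop (some (4, 2)) [.fwd 9705, .bwd 14440, .bwd 12608],
   .loop (some (8, 2)) [.fwd 12444, .fwd 11736, .bwd 12386],
   .loop (some (4, 3)) [.fwd 9707, .fwd 9809, .bwd 12787],
   .loop (some (15, 0)) [.bwd 12126, .fwd 14063, .fwd 12443, .fwd 12444],
   .loop (some (1, 2)) [.bwd 9809, .bwd 12083, .bwd 12502],
   .loop (some (13, 2)) [.bwd 9809, .bwd 11152, .bwd 12263],
   .loop (some (17, 3)) [.fwd 14052, .bwd 14054, .bwd 10415, .bwd 10824, .bwd 12508],
   .loop (some (4, 2)) [.bwd 10675, .fwd 14067, .fwd 12389],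
   .loop (some (11, 1)) [.fwd 12433, .bwd 14067, .bwd 10720],
   .loop (some (7, 1)) [.bwd 14066, .fwd 12126, .bwd 10732],
   .loop (some (15, 0)) [.bwd 12443, .bwd 14063, .fwd 12126, .bwd 10821],
   .loop (some (4, 2)) [.bwd 12096, .fwd 11629, .fwd 12495],
   .loop (some (15, 0)) [.bwd 12347, .bwd 12346, .bwd 14054, .bwd 11173],
   .loop (some (4, 1)) [.fwd 9762, .bwd 9733, .fwd 12352],
   .loop (some (11, 2)) [.bwd 12352, .bwd 11636, .bwd 9831],
   .loop (some (10, 2)) [.bwd 10640, .bwd 11636, .bwd 14251],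
   .loop (some (11, 2)) [.fwd 9762, .bwd 11383, .fwd 14288],
   .loop (some (20, 0)) [.bwd 14010, .fwd 11027, .fwd 14011, .bwd 13983, .fwd 13984, .fwd 7664, .bwd 10108, .fwd 10999],
   .loop (some (3, 0)) [.fwd 12374, .fwd 12375, .fwd 11451],
   .loop (some (11, 0)) [.fwd 14413, .fwd 8972, .fwd 11109],
   .loop (some (2, 0)) [.fwd 12373, .bwd 14459, .fwd 9739],
   .loop (some (3, 1)) [.bwd 9741, .bwd 9740, .fwd 14461],
   .loop (some (2, 1)) [.fwd 13815, .bwd 13813, .fwd 9741],
   .loop (some (4, 1)) [.fwd 12372, .fwd 14462, .fwd 9742],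
   .loop (some (3, 0)) [.fwd 12370, .fwd 12371, .bwd 14464],
   .loop (some (2, 0)) [.fwd 12369, .bwd 14465, .fwd 9743],
   .loop (some (3, 1)) [.bwd 9745, .bwd 9744, .fwd 14466],
   .loop (some (4, 1)) [.fwd 12368, .fwd 14467, .fwd 9746],
   .loop (some (3, 0)) [.fwd 12366, .fwd 12367, .bwd 14468],
   .loop (some (2, 0)) [.fwd 12365, .bwd 14469, .fwd 9747],
   .loop (some (3, 1)) [.bwd 9749, .bwd 9748, .fwd 14470],
   .loop (some (4, 1)) [.fwd 12364, .fwd 14471, .fwd 9750],
   .loop (some (3, 0)) [.fwd 12362, .fwd 12363, .bwd 14472],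
   .loop (some (2, 0)) [.fwd 12361, .bwd 14473, .fwd 9751],
   .loop (some (3, 1)) [.bwd 9753, .bwd 9752, .fwd 14474],
   .loop (some (4, 1)) [.fwd 12360, .fwd 14475, .fwd 9754],
   .loop (some (3, 0)) [.fwd 12358, .fwd 12359, .bwd 14476],
   .loop (some (2, 0)) [.fwd 12357, .bwd 14477, .fwd 9755],
   .loop (some (3, 1)) [.bwd 9757, .bwd 9756, .fwd 14478],
   .loop (some (4, 1)) [.fwd 12356, .fwd 14479, .fwd 9758],
   .loop (some (2, 0)) [.bwd 12353, .fwd 14281, .bwd 9759],
   .loop (some (12, 2)) [.fwd 10325, .bwd 14457, .fwd 12455],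
   .loop (some (13, 1)) [.fwd 14455, .fwd 14454, .bwd 14457],
   .loop (some (19, 6)) [.bwd 12756, .bwd 12888, .bwd 12887, .bwd 13107, .bwd 13106, .bwd 13577, .bwd 13576],
   .loop none [.fwd 14484],
   .loop none [.bwd 12757, .fwd 14485, .bwd 13575],
   .loop none [.fwd 14486],
   .loop none [.bwd 13576, .bwd 14485],
   .loop none [.fwd 13574, .bwd 14487],
   .loop (some (14, 3)) [.fwd 12887, .fwd 12888, .bwd 10924, .bwd 643, .fwd 13189],
   .loop none [.fwd 14490],
   .loop none [.bwd 13190, .bwd 14491],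
   .loop none [.fwd 13189, .bwd 14491],
   .loop (some (9, 2)) [.fwd 12760, .bwd 10924, .bwd 12892],
   .loop (some (12, 2)) [.bwd 11648, .bwd 11076, .fwd 13238],
   .loop (some (15, 0)) [.bwd 12763, .fwd 13914, .fwd 9771, .fwd 9772],
   .loop (some (11, 2)) [.fwd 12787, .bwd 14446, .bwd 12920],
   .loop (some (4, 1)) [.fwd 12610, .bwd 12589, .fwd 9811],
   .loop (some (3, 0)) [.fwd 12608, .fwd 12609, .bwd 14498]]

theorem just57_len : just57.length = 250 := by decide +kernel

theorem just57_ok : cert.okFacts 14250 just57 = true := by decide +kernel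

/-- justifications -/
noncomputable def just58 : List Cert.Just :=
  [.loop (some (2, 0)) [.fwd 12607, .bwd 14499, .fwd 9812],
   .loop (some (3, 1)) [.bwd 9814, .bwd 9813, .fwd 14500],
   .loop (some (4, 1)) [.fwd 12606, .fwd 14501, .fwd 9815],
   .loop (some (3, 0)) [.fwd 12604, .fwd 12605, .bwd 14502],
   .loop (some (2, 0)) [.fwd 12603, .bwd 14503, .fwd 9816],
   .loop (some (3, 1)) [.bwd 9818, .bwd 9817, .fwd 14504],
   .loop (some (4, 1)) [.fwd 12602, .fwd 14505, .fwd 9819],
   .loop (some (3, 0)) [.fwd 12600, .fwd 12601, .bwd 14506],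
   .loop (some (2, 0)) [.fwd 12599, .bwd 14507, .fwd 9820],
   .loop (some (3, 1)) [.bwd 9822, .bwd 9821, .fwd 14508],
   .loop (some (4, 1)) [.fwd 12598, .fwd 14509, .fwd 9823],
   .loop (some (3, 0)) [.fwd 12596, .fwd 12597, .bwd 14510],
   .loop (some (8, 2)) [.bwd 14190, .fwd 12247, .fwd 11249, .bwd 12258],
   .loop none [.bwd 14512],
   .loop none [.fwd 12489, .bwd 14513],
   .loop (some (18, 4)) [.bwd 12455, .fwd 14483, .fwd 10325, .bwd 14454, .fwd 12353, .fwd 12354],
   .loop none [.bwd 14515],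
   .loop none [.fwd 12455, .bwd 14516],
   .loop none [.fwd 12354, .fwd 14516, .fwd 12456],
   .loop none [.fwd 14518],
   .loop none [.bwd 14482, .bwd 14516],
   .loop none [.fwd 14481, .fwd 14519, .fwd 12457],
   .loop none [.fwd 14521],
   .loop none [.fwd 9758, .fwd 14522, .fwd 12458],
   .loop none [.fwd 14523],
   .loop none [.bwd 12459, .bwd 14524],
   .loop (some (0, 1)) [.fwd 14520, .fwd 14455],
   .loop (some (13, 2)) [.fwd 14483, .bwd 14520, .bwd 12354],
   .loop (some (5, 1)) [.bwd 12097, .fwd 14068, .fwd 10401],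
   .loop (some (11, 1)) [.fwd 14296, .bwd 11155, .bwd 11647],
   .loop (some (3, 3)) [.bwd 10688, .bwd 14250, .fwd 12405, .fwd 12406],
   .loop none [.fwd 14530],
   .loop none [.bwd 10689, .fwd 14531, .bwd 12406],
   .loop none [.fwd 14532],
   .loop none [.fwd 12405, .bwd 14533],
   .loop (some (7, 1)) [.bwd 12328, .fwd 10687, .fwd 9911],
   .loop (some (11, 1)) [.fwd 12403, .fwd 10687, .bwd 10685],
   .loop (some (20, 0)) [.fwd 12330, .fwd 947, .bwd 1120, .fwd 7874, .fwd 1930, .bwd 1852, .fwd 5903, .bwd 9917],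
   .loop (some (8, 1)) [.fwd 13511, .fwd 11050, .fwd 12744],
   .loop (some (14, 0)) [.fwd 12747, .fwd 14422, .bwd 12745, .bwd 12744],
   .loop (some (12, 1)) [.fwd 13816, .fwd 11050, .fwd 14539],
   .loop (some (10, 2)) [.fwd 9669, .fwd 11606, .bwd 14429, .bwd 12879],
   .loop none [.fwd 14541],
   .loop none [.bwd 12879, .bwd 14542],
   .loop none [.bwd 6726, .fwd 14542, .bwd 12878],
   .loop none [.fwd 14544],
   .loop none [.fwd 14406, .fwd 14545, .bwd 12877],
   .loop none [.fwd 14546],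
   .loop none [.fwd 12876, .bwd 14547],
   .loop (some (15, 0)) [.fwd 12546, .fwd 11610, .fwd 9931, .fwd 9932],
   .loop (some (11, 2)) [.bwd 9935, .bwd 14425, .bwd 12533],
   .loop (some (13, 1)) [.fwd 9665, .bwd 11603, .bwd 14550],
   .loop (some (10, 2)) [.fwd 9661, .fwd 11602, .bwd 14550, .bwd 12532],
   .loop none [.fwd 14552],
   .loop none [.bwd 12532, .bwd 14553],
   .loop none [.bwd 6722, .fwd 14553, .bwd 12531],
   .loop none [.fwd 14555],
   .loop none [.fwd 12530, .bwd 14556],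
   .loop (some (17, 3)) [.fwd 14328, .fwd 13093, .bwd 10956, .bwd 11020, .bwd 11041],
   .loop (some (5, 3)) [.bwd 9957, .bwd 7556, .bwd 13492],
   .loop (some (13, 2)) [.bwd 13056, .fwd 11762, .bwd 9967],
   .loop (some (15, 0)) [.fwd 14312, .fwd 12173, .bwd 702, .bwd 9970],
   .loop (some (7, 3)) [.bwd 9958, .bwd 13093, .fwd 14327],
   .loop (some (5, 3)) [.bwd 9958, .bwd 14559, .fwd 13491],
   .loop (some (7, 3)) [.bwd 9959, .bwd 14562, .fwd 13552],
   .loop (some (5, 3)) [.bwd 9959, .bwd 14563, .fwd 13481],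
   .loop (some (11, 2)) [.fwd 14564, .bwd 10977, .bwd 13736],
   .loop (some (9, 2)) [.fwd 14565, .bwd 10977, .fwd 13738],
   .loop (some (7, 3)) [.bwd 9960, .bwd 14564, .fwd 13553],
   .loop (some (5, 3)) [.bwd 9960, .bwd 14565, .fwd 13482],
   .loop (some (1, 2)) [.fwd 9967, .bwd 14569, .bwd 13488],
   .loop (some (4, 2)) [.fwd 9967, .bwd 14568, .bwd 13559],
   .loop (some (9, 2)) [.fwd 14569, .bwd 11763, .bwd 14563],
   .loop (some (13, 2)) [.bwd 13642, .bwd 10974, .fwd 9953],
   .loop (some (11, 2)) [.fwd 13736, .bwd 10974, .fwd 9963],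
   .loop (some (9, 2)) [.bwd 13738, .bwd 10974, .fwd 9968],
   .loop (some (2, 2)) [.fwd 13613, .bwd 10898, .bwd 12727],
   .loop (some (6, 1)) [.fwd 12734, .fwd 10898, .bwd 13555],
   .loop (some (0, 2)) [.fwd 14574, .fwd 14566],
   .loop (some (15, 0)) [.bwd 2504, .bwd 12652, .fwd 14127, .fwd 13613],
   .loop (some (2, 1)) [.bwd 13581, .fwd 13333, .bwd 13477],
   .loop (some (18, 2)) [.bwd 12765, .bwd 12764, .fwd 13921, .bwd 13333, .fwd 13582],
   .loop (some (6, 1)) [.fwd 13472, .fwd 13477, .bwd 13484],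
   .loop (some (3, 2)) [.fwd 13921, .bwd 13477, .fwd 13458],
   .loop (some (0, 2)) [.fwd 14575, .fwd 14567],
   .loop (some (11, 1)) [.bwd 13917, .bwd 10967, .bwd 14584],
   .loop (some (17, 3)) [.bwd 11778, .bwd 10993, .bwd 10978, .bwd 13736, .fwd 14577],
   .loop (some (8, 3)) [.fwd 9984, .bwd 742, .fwd 13746],
   .loop (some (20, 0)) [.fwd 13404, .fwd 914, .bwd 5970, .fwd 7794, .fwd 858, .bwd 736, .bwd 9985, .bwd 11020],
   .loop (some (5, 3)) [.bwd 9989, .bwd 13787, .fwd 13398],
   .loop (some (1, 2)) [.fwd 9996, .bwd 14589, .bwd 13403],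
   .loop (some (16, 4)) [.bwd 11778, .bwd 13783, .fwd 13784, .fwd 13818, .fwd 14303],
   .loop (some (16, 4)) [.fwd 11777, .fwd 11028, .fwd 7828, .fwd 13790, .bwd 14302],
   .loop (some (16, 4)) [.bwd 11042, .bwd 11021, .fwd 7813, .fwd 13788, .fwd 13814],
   .loop (some (16, 4)) [.fwd 11003, .fwd 11010, .bwd 7752, .fwd 13870, .bwd 13888],
   .loop (some (16, 4)) [.bwd 11024, .bwd 11004, .fwd 7784, .fwd 13774, .fwd 13880],
   .loop (some (20, 4)) [.fwd 12727, .bwd 10069, .bwd 10061, .fwd 11824, .bwd 14594, .fwd 13538, .fwd 13754, .bwd 12715],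
   .loop (some (5, 3)) [.bwd 10033, .bwd 14594, .fwd 13529],
   .loop (some (5, 3)) [.bwd 10034, .bwd 14597, .fwd 13530],
   .loop (some (9, 2)) [.fwd 14598, .bwd 11816, .bwd 14595],
   .loop (some (5, 3)) [.bwd 10035, .bwd 14598, .fwd 13531],
   .loop (some (1, 2)) [.fwd 10042, .bwd 14600, .bwd 13537],
   .loop (some (9, 2)) [.fwd 14595, .bwd 11820, .fwd 10043],
   .loop (some (16, 1)) [.fwd 13876, .fwd 7805, .bwd 11016, .bwd 11818, .bwd 14601],
   .loop (some (0, 2)) [.fwd 14602, .fwd 14599],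
   .loop (some (4, 2)) [.bwd 13545, .fwd 10971, .fwd 13534],
   .loop (some (10, 1)) [.fwd 13882, .fwd 10970, .bwd 14604],
   .loop (some (5, 3)) [.bwd 10050, .bwd 14592, .fwd 13540],
   .loop (some (5, 3)) [.bwd 10051, .bwd 14607, .fwd 13541],
   .loop (some (9, 2)) [.fwd 14608, .bwd 11802, .bwd 14593],
   .loop (some (5, 3)) [.bwd 10052, .bwd 14608, .fwd 13542],
   .loop (some (1, 2)) [.fwd 10058, .bwd 14610, .bwd 13548],
   .loop (some (9, 2)) [.fwd 14610, .bwd 11806, .bwd 14607],
   .loop (some (9, 2)) [.fwd 14593, .bwd 11808, .fwd 10059],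
   .loop (some (16, 1)) [.fwd 13803, .fwd 7834, .bwd 11034, .bwd 11804, .bwd 14611],
   .loop (some (0, 2)) [.fwd 14613, .fwd 14609],
   .loop (some (11, 1)) [.fwd 14604, .fwd 10971, .bwd 14615],
   .loop (some (15, 0)) [.fwd 13761, .bwd 10092, .fwd 14291, .fwd 13811],
   .loop (some (10, 1)) [.fwd 13816, .fwd 10969, .bwd 14615],
   .loop (some (16, 0)) [.fwd 12375, .fwd 14537, .fwd 13773, .bwd 14588, .bwd 11041],
   .loop (some (7, 3)) [.bwd 10064, .fwd 14558, .fwd 12730],
   .loop (some (5, 3)) [.bwd 10064, .fwd 14619, .fwd 13812],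
   .loop (some (7, 3)) [.bwd 10065, .bwd 14620, .fwd 12731],
   .loop (some (5, 3)) [.bwd 10065, .bwd 14621, .fwd 12739],
   .loop (some (11, 2)) [.fwd 14622, .bwd 11787, .bwd 14586],
   .loop (some (9, 2)) [.fwd 14623, .bwd 11787, .bwd 14591],
   .loop (some (7, 3)) [.bwd 10066, .bwd 14622, .fwd 12732],
   .loop (some (11, 2)) [.fwd 14586, .bwd 11791, .fwd 10069],
   .loop (some (9, 2)) [.fwd 14591, .bwd 11791, .fwd 10076],
   .loop (some (5, 1)) [.fwd 10085, .fwd 10091, .bwd 12734],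
   .loop (some (0, 2)) [.fwd 14627, .fwd 14624],
   .loop (some (9, 1)) [.fwd 11794, .fwd 10091, .bwd 14630],
   .loop (some (10, 1)) [.fwd 14578, .bwd 10898, .bwd 14630],
   .loop (some (20, 6)) [.fwd 13549, .bwd 10086, .fwd 10091, .bwd 12727, .bwd 14596, .fwd 12715, .bwd 13754, .bwd 13538],
   .loop (some (0, 2)) [.fwd 14628, .fwd 14625],
   .loop (some (11, 1)) [.fwd 11794, .fwd 10086, .bwd 14634],
   .loop (some (5, 3)) [.bwd 10080, .bwd 7565, .fwd 12729],
   .loop (some (7, 3)) [.bwd 10081, .fwd 14291, .fwd 13812],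
   .loop (some (7, 3)) [.bwd 11841, .bwd 14635, .fwd 12740],
   .loop (some (5, 3)) [.bwd 11841, .bwd 14631, .fwd 12732],
   .loop (some (15, 0)) [.fwd 10971, .bwd 13811, .bwd 14291, .fwd 10092],
   .loop (some (20, 0)) [.bwd 12547, .fwd 1681, .bwd 1758, .fwd 8332, .bwd 6917, .bwd 1810, .fwd 9735, .bwd 10999],
   .loop (some (9, 1)) [.fwd 13758, .bwd 14641, .bwd 11793],
   .loop (some (17, 2)) [.bwd 14420, .fwd 11133, .fwd 11622, .fwd 11836, .bwd 14637],
   .loop (some (17, 2)) [.bwd 14402, .fwd 11120, .bwd 11848, .fwd 11843, .bwd 14638],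
   .loop (some (15, 0)) [.fwd 13378, .fwd 11754, .bwd 7673, .fwd 10132],
   .loop (some (2, 3)) [.fwd 13757, .fwd 10134, .bwd 13887, .fwd 13011],
   .loop none [.fwd 14646],
   .loop none [.bwd 12549, .fwd 14647, .bwd 13011],
   .loop none [.fwd 14648],
   .loop none [.bwd 13012, .bwd 14647],
   .loop none [.bwd 13887, .bwd 14649],
   .loop none [.fwd 13010, .bwd 14649],
   .loop (some (12, 2)) [.fwd 14651, .bwd 11852, .bwd 13896],
   .loop (some (15, 0)) [.bwd 12550, .fwd 14651, .fwd 10135, .fwd 10136],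
   .loop (some (15, 0)) [.fwd 4954, .fwd 4955, .fwd 11876, .bwd 10144],
   .loop (some (19, 3)) [.bwd 13166, .bwd 13258, .bwd 12925, .bwd 12759, .bwd 12758, .fwd 14489],
   .loop (some (14, 2)) [.fwd 12758, .fwd 12759, .bwd 10951, .bwd 12797],
   .loop (some (2, 1)) [.bwd 12935, .fwd 13944, .fwd 10165],
   .loop (some (18, 1)) [.bwd 13899, .fwd 10849, .bwd 10525, .fwd 11887, .fwd 14658],
   .loop (some (15, 0)) [.bwd 12936, .bwd 14658, .fwd 10166, .fwd 10167],
   .loop (some (15, 0)) [.fwd 4986, .fwd 4987, .fwd 11926, .bwd 10175],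
   .loop (some (15, 0)) [.fwd 14054, .fwd 12346, .fwd 12347, .fwd 12348],
   .loop (some (2, 1)) [.bwd 12895, .fwd 13942, .fwd 10190],
   .loop (some (18, 1)) [.bwd 13895, .bwd 1648, .fwd 10864, .bwd 11661, .fwd 14663],
   .loop (some (15, 0)) [.bwd 12896, .bwd 14663, .fwd 10191, .fwd 10192],
   .loop (some (5, 2)) [.fwd 12850, .fwd 12839, .bwd 13641],
   .loop (some (14, 2)) [.fwd 12541, .fwd 12542, .bwd 10939, .bwd 12759],
   .loop (some (2, 2)) [.bwd 12855, .fwd 13937, .fwd 10219, .bwd 13896],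
   .loop none [.fwd 14668],
   .loop none [.bwd 13896, .bwd 14669],
   .loop none [.bwd 13502, .bwd 14669],
   .loop none [.bwd 14653, .bwd 14669],
   .loop (some (12, 2)) [.fwd 13937, .bwd 11890, .bwd 13944],
   .loop (some (12, 2)) [.fwd 14670, .bwd 11892, .fwd 14658],
   .loop (some (15, 0)) [.bwd 12856, .fwd 14670, .fwd 10220, .fwd 10221],
   .loop (some (8, 2)) [.bwd 12290, .bwd 12928, .fwd 13248],
   .loop (some (14, 2)) [.fwd 12927, .fwd 12928, .bwd 10933, .bwd 12888],
   .loop (some (11, 2)) [.fwd 12806, .bwd 10933, .fwd 10922],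
   .loop (some (2, 1)) [.bwd 12809, .fwd 13932, .fwd 10248],
   .loop (some (18, 1)) [.bwd 13890, .fwd 10877, .bwd 10455, .bwd 11934, .fwd 14679],
   .loop (some (12, 2)) [.bwd 14679, .bwd 11933, .bwd 13914],
   .loop (some (15, 0)) [.bwd 12810, .bwd 14679, .fwd 10249, .fwd 10250],
   .loop (some (20, 0)) [.fwd 12348, .fwd 11356, .bwd 8416, .fwd 8415, .fwd 6943, .bwd 6955, .fwd 6956, .bwd 11319],
   .loop (some (12, 2)) [.bwd 10294, .bwd 11649, .bwd 13237],
   .loop (some (15, 0)) [.fwd 12787, .bwd 10618, .fwd 10922, .fwd 10294],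
   .loop (some (15, 0)) [.fwd 12062, .fwd 11265, .bwd 9068, .bwd 11487],
   .loop (some (15, 0)) [.fwd 14130, .bwd 11488, .fwd 10297, .fwd 10298],
   .loop (some (20, 0)) [.bwd 12384, .bwd 14067, .bwd 11630, .fwd 11629, .fwd 10671, .fwd 10672, .fwd 10673, .fwd 10674],
   .loop (some (5, 2)) [.bwd 14688, .bwd 10884, .fwd 14172],
   .loop (some (3, 1)) [.bwd 10341, .bwd 10340, .bwd 12388],
   .loop (some (11, 1)) [.fwd 14434, .bwd 10715, .bwd 11717],
   .loop (some (7, 1)) [.fwd 12339, .bwd 10722, .bwd 10626],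
   .loop (some (8, 0)) [.fwd 13645, .bwd 12839, .fwd 10867],
   .loop (some (11, 2)) [.fwd 12880, .bwd 14410, .bwd 12960],
   .loop (some (15, 0)) [.fwd 10817, .fwd 12284, .fwd 12285, .fwd 12286],
   .loop (some (9, 1)) [.fwd 14214, .bwd 12012, .bwd 10926],
   .loop (some (15, 0)) [.fwd 12474, .fwd 12475, .fwd 13897, .bwd 10429],
   .loop (some (4, 2)) [.bwd 10432, .bwd 14431, .fwd 12226],
   .loop (some (11, 1)) [.fwd 14419, .fwd 14698, .bwd 11981],
   .loop (some (13, 2)) [.bwd 13002, .bwd 10954, .fwd 11482],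
   .loop (some (7, 1)) [.fwd 14241, .fwd 14397, .fwd 11711],
   .loop (some (4, 2)) [.bwd 10467, .bwd 14397, .fwd 12242],
   .loop (some (11, 2)) [.fwd 14397, .bwd 11751, .fwd 14171],
   .loop (some (11, 2)) [.bwd 14699, .bwd 11690, .bwd 10714],
   .loop (some (5, 2)) [.bwd 14514, .bwd 14696, .fwd 10945, .bwd 13322],
   .loop none [.bwd 14705],
   .loop none [.fwd 14514, .bwd 14706],
   .loop (some (1, 2)) [.bwd 11482, .bwd 12009, .bwd 14211],
   .loop (some (15, 0)) [.fwd 14413, .fwd 8409, .fwd 10548, .fwd 10549],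
   .loop (some (7, 1)) [.bwd 12381, .fwd 14418, .fwd 10741],
   .loop (some (5, 1)) [.bwd 12496, .fwd 14045, .fwd 10609],
   .loop (some (6, 1)) [.bwd 12579, .bwd 14028, .fwd 10609],
   .loop (some (2, 1)) [.bwd 12801, .bwd 12284, .fwd 12277],
   .loop (some (6, 2)) [.bwd 12506, .bwd 12277, .bwd 12287, .fwd 12264],
   .loop none [.bwd 14714],
   .loop none [.fwd 12506, .bwd 14715],
   .loop none [.fwd 12298, .bwd 14715],
   .loop (some (6, 1)) [.bwd 13441, .fwd 12508, .bwd 11633],
   .loop (some (2, 1)) [.bwd 12881, .bwd 12256, .fwd 12252],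
   .loop (some (6, 2)) [.bwd 12252, .bwd 12259, .fwd 12237],
   .loop (some (10, 2)) [.bwd 12252, .bwd 10866, .fwd 12277],
   .loop (some (7, 3)) [.bwd 10623, .bwd 6955, .fwd 12336],
   .loop (some (4, 1)) [.bwd 14699, .fwd 11689, .bwd 14722],
   .loop (some (4, 2)) [.fwd 10668, .fwd 14692, .bwd 12383],
   .loop (some (11, 2)) [.bwd 14692, .bwd 12001, .bwd 14397],
   .loop (some (11, 2)) [.bwd 14171, .bwd 11616, .fwd 14692],
   .loop (some (11, 2)) [.bwd 14710, .bwd 11585, .bwd 8418],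
   .loop (some (11, 2)) [.fwd 14724, .bwd 12010, .bwd 14702],
   .loop (some (6, 1)) [.bwd 13442, .bwd 14718, .bwd 11634],
   .loop (some (15, 0)) [.bwd 14067, .bwd 11630, .fwd 11629, .fwd 10671],
   .loop (some (20, 0)) [.fwd 12386, .fwd 10718, .bwd 9862, .fwd 8418, .bwd 7182, .fwd 7231, .fwd 10339, .bwd 10674],
   .loop (some (5, 2)) [.bwd 14731, .fwd 11998, .fwd 14683],
   .loop (some (17, 4)) [.bwd 14701, .fwd 11646, .bwd 9889, .bwd 9888, .bwd 11745],
   .loop (some (4, 1)) [.fwd 10714, .bwd 10678, .fwd 14701],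
   .loop (some (11, 2)) [.bwd 14701, .bwd 11728, .bwd 14431],
   .loop (some (11, 2)) [.fwd 10714, .bwd 11726, .bwd 14698],
   .loop (some (15, 0)) [.fwd 12431, .fwd 12393, .fwd 10687, .bwd 10679],
   .loop (some (11, 2)) [.bwd 14536, .bwd 11511, .fwd 10722],
   .loop (some (8, 2)) [.fwd 12393, .fwd 12003, .fwd 12398],
   .loop (some (6, 0)) [.bwd 12434, .fwd 12396, .bwd 14733],
   .loop (some (14, 4)) [.bwd 14736, .fwd 14159, .fwd 8873, .fwd 12440],
   .loop (some (5, 2)) [.bwd 12432, .bwd 12003, .bwd 12390],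
   .loop (some (6, 2)) [.bwd 12434, .bwd 12003, .bwd 12395],
   .loop (some (15, 0)) [.fwd 14067, .fwd 12384, .fwd 12385, .fwd 12386],
   .loop (some (9, 2)) [.bwd 12447, .bwd 12005, .bwd 12390],
   .loop (some (5, 1)) [.bwd 12217, .bwd 14227, .fwd 10797],
   .loop (some (18, 1)) [.bwd 13356, .bwd 13355, .bwd 14336, .fwd 12173, .fwd 10810, .bwd 13114],
   .loop none [.bwd 14747],
   .loop none [.bwd 13357, .bwd 14748]]

theorem just58_len : just58.length = 250 := by decide +kernel

theorem just58_ok : cert.okFacts 14500 just58 = true := by decide +kernel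

/-- justifications -/
noncomputable def just59 : List Cert.Just :=
  [.loop none [.fwd 13356, .bwd 14748],
   .loop (some (8, 2)) [.fwd 13237, .bwd 10812, .bwd 13174],
   .loop (some (15, 0)) [.fwd 13234, .fwd 13235, .fwd 13236, .fwd 13237],
   .loop (some (8, 1)) [.fwd 12332, .fwd 12099, .fwd 13430],
   .loop (some (3, 3)) [.bwd 12100, .bwd 14048, .fwd 12511, .fwd 12512],
   .loop none [.fwd 14754],
   .loop none [.bwd 12101, .fwd 14755, .bwd 12512],
   .loop none [.fwd 14756],
   .loop none [.bwd 12513, .bwd 14755],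
   .loop none [.fwd 12511, .bwd 14757],
   .loop (some (14, 0)) [.fwd 13422, .fwd 14423, .bwd 13420, .bwd 13430],
   .loop (some (12, 1)) [.fwd 12335, .fwd 12099, .fwd 14760],
   .loop (some (0, 1)) [.bwd 14760, .fwd 13434],
   .loop (some (13, 2)) [.bwd 12100, .fwd 14760, .bwd 13427],
   .loop (some (4, 1)) [.bwd 14758, .bwd 12100, .fwd 12329],
   .loop (some (3, 0)) [.bwd 12264, .bwd 14064, .bwd 12125, .bwd 12124],
   .loop none [.bwd 14765],
   .loop none [.bwd 12265, .bwd 14766],
   .loop none [.fwd 12264, .bwd 14766],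
   .loop none [.bwd 14716, .bwd 14766],
   .loop none [.bwd 14717, .bwd 14766],
   .loop (some (14, 0)) [.fwd 14720, .fwd 12537, .bwd 12505, .bwd 14769],
   .loop (some (9, 2)) [.bwd 14767, .fwd 14771, .fwd 12238],
   .loop (some (17, 5)) [.fwd 12125, .fwd 12126, .bwd 11161, .fwd 11172, .fwd 14729],
   .loop (some (4, 2)) [.fwd 12124, .bwd 14773, .fwd 13443],
   .loop (some (15, 0)) [.bwd 10464, .bwd 10952, .bwd 10890, .bwd 12128],
   .loop (some (10, 2)) [.bwd 12232, .bwd 12235, .bwd 14768],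
   .loop (some (9, 1)) [.fwd 8569, .fwd 14070, .bwd 14213],
   .loop (some (12, 2)) [.bwd 12133, .bwd 14217, .fwd 12595],
   .loop (some (13, 2)) [.bwd 12134, .bwd 14778, .fwd 12596],
   .loop (some (10, 2)) [.bwd 12135, .bwd 14779, .fwd 12597],
   .loop (some (0, 1)) [.fwd 14780, .fwd 14258],
   .loop (some (11, 2)) [.bwd 12136, .bwd 14780, .fwd 12598],
   .loop (some (12, 2)) [.bwd 12137, .bwd 14782, .fwd 12599],
   .loop (some (13, 2)) [.bwd 12138, .bwd 14783, .fwd 12600],
   .loop (some (10, 2)) [.bwd 12139, .bwd 14784, .fwd 12601],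
   .loop (some (11, 2)) [.bwd 12140, .bwd 14785, .fwd 12602],
   .loop (some (12, 2)) [.bwd 12141, .bwd 14786, .fwd 12603],
   .loop (some (0, 1)) [.fwd 14787, .fwd 14264],
   .loop (some (13, 2)) [.bwd 12142, .bwd 14787, .fwd 12604],
   .loop (some (10, 2)) [.bwd 12143, .bwd 14789, .fwd 12605],
   .loop (some (11, 2)) [.bwd 12144, .bwd 14790, .fwd 12606],
   .loop (some (12, 2)) [.bwd 12145, .bwd 14791, .fwd 12607],
   .loop (some (0, 1)) [.fwd 14791, .fwd 14267],
   .loop (some (15, 0)) [.fwd 6789, .fwd 6790, .bwd 14271, .bwd 12145],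
   .loop (some (0, 1)) [.fwd 14792, .fwd 14268],
   .loop (some (13, 2)) [.bwd 12146, .bwd 14792, .fwd 12608],
   .loop (some (15, 0)) [.fwd 5875, .fwd 5876, .fwd 11102, .bwd 12149],
   .loop (some (8, 2)) [.fwd 12168, .bwd 12162, .fwd 12151, .bwd 13634],
   .loop none [.fwd 14798],
   .loop none [.fwd 14129, .fwd 14799, .bwd 13633],
   .loop none [.fwd 14800],
   .loop none [.bwd 13634, .bwd 14799],
   .loop none [.fwd 9578, .fwd 14801, .bwd 13632],
   .loop none [.fwd 14803],
   .loop none [.bwd 8294, .fwd 14804, .bwd 13631],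
   .loop none [.fwd 14805],
   .loop none [.bwd 13890, .fwd 14806, .bwd 13630],
   .loop none [.fwd 14807],
   .loop none [.bwd 13904, .fwd 14808, .bwd 13629],
   .loop none [.fwd 14809],
   .loop none [.fwd 13639, .bwd 14810],
   .loop (some (12, 1)) [.fwd 14345, .bwd 12162, .bwd 13702],
   .loop (some (13, 2)) [.bwd 13589, .bwd 13702, .bwd 12159],
   .loop (some (8, 1)) [.fwd 12167, .fwd 14802, .fwd 12152],
   .loop (some (12, 1)) [.fwd 14343, .bwd 14814, .bwd 13697],
   .loop (some (14, 0)) [.fwd 12167, .fwd 14340, .bwd 12165, .bwd 12164],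
   .loop (some (15, 0)) [.fwd 14564, .bwd 10975, .bwd 13701, .fwd 14812],
   .loop (some (15, 0)) [.fwd 14568, .bwd 10973, .bwd 13684, .fwd 14814],
   .loop (some (15, 0)) [.fwd 13736, .bwd 10972, .bwd 13627, .bwd 14802],
   .loop (some (15, 0)) [.bwd 14100, .bwd 9607, .fwd 9088, .fwd 14350],
   .loop (some (3, 2)) [.fwd 12184, .bwd 14366, .bwd 12195],
   .loop (some (6, 1)) [.bwd 12193, .bwd 14154, .fwd 12182],
   .loop (some (17, 1)) [.fwd 14094, .bwd 9601, .bwd 9593, .fwd 14361, .fwd 14822],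
   .loop (some (17, 1)) [.fwd 14095, .fwd 9600, .fwd 9591, .bwd 14357, .bwd 14821],
   .loop (some (15, 0)) [.fwd 9088, .fwd 14350, .fwd 14349, .fwd 14347],
   .loop (some (15, 0)) [.fwd 14356, .fwd 14348, .fwd 14114, .bwd 14387],
   .loop (some (15, 0)) [.bwd 14116, .fwd 14354, .fwd 14364, .bwd 14371],
   .loop (some (8, 1)) [.fwd 13278, .bwd 13271, .fwd 13272],
   .loop (some (14, 4)) [.bwd 13272, .bwd 14776, .fwd 14769, .fwd 14721, .bwd 14720],
   .loop none [.bwd 14829],
   .loop none [.bwd 14828, .bwd 14830],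
   .loop none [.bwd 14720, .fwd 14830, .fwd 12297],
   .loop none [.fwd 14832],
   .loop none [.fwd 13272, .bwd 14830],
   .loop none [.fwd 14770, .bwd 14833],
   .loop (some (12, 2)) [.fwd 13324, .bwd 13271, .bwd 14776, .bwd 12123],
   .loop none [.bwd 14836],
   .loop none [.fwd 13287, .bwd 14837],
   .loop none [.bwd 13324, .bwd 14837],
   .loop (some (11, 2)) [.fwd 14390, .bwd 14776, .bwd 14774],
   .loop (some (9, 2)) [.bwd 12222, .bwd 14776, .fwd 14767],
   .loop (some (0, 1)) [.fwd 14772, .fwd 14841, .fwd 13989],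
   .loop none [.fwd 14842],
   .loop none [.bwd 12307, .bwd 14843],
   .loop none [.fwd 13987, .bwd 14843],
   .loop none [.fwd 13989, .bwd 14843],
   .loop (some (8, 1)) [.fwd 13349, .bwd 13984, .bwd 13995],
   .loop (some (12, 1)) [.fwd 13379, .bwd 13984, .bwd 13991],
   .loop (some (15, 0)) [.bwd 10999, .fwd 10108, .bwd 7664, .bwd 13984],
   .loop (some (15, 0)) [.bwd 10564, .bwd 12273, .bwd 12272, .bwd 12271],
   .loop (some (15, 0)) [.bwd 9827, .bwd 12247, .bwd 12246, .bwd 12245],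
   .loop (some (7, 3)) [.fwd 14834, .bwd 14390, .fwd 13436],
   .loop (some (8, 2)) [.bwd 13279, .bwd 14831, .fwd 14720, .fwd 14719],
   .loop none [.bwd 14853],
   .loop none [.fwd 13279, .bwd 14854],
   .loop none [.fwd 12964, .bwd 14854],
   .loop (some (14, 3)) [.bwd 12308, .bwd 14844, .fwd 14846, .bwd 14845, .fwd 14772],
   .loop none [.bwd 14857],
   .loop none [.fwd 12308, .bwd 14858],
   .loop (some (0, 1)) [.fwd 14043, .fwd 14728],
   .loop (some (15, 0)) [.bwd 10470, .fwd 9496, .bwd 14194, .fwd 12245],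
   .loop (some (11, 2)) [.fwd 12960, .bwd 14396, .fwd 9931],
   .loop (some (7, 3)) [.bwd 14720, .bwd 14852, .fwd 13437],
   .loop (some (5, 3)) [.bwd 12253, .bwd 14720, .fwd 12238, .fwd 14844],
   .loop none [.fwd 14864],
   .loop none [.fwd 14859, .bwd 14865],
   .loop none [.fwd 14844, .bwd 14865],
   .loop (some (8, 2)) [.bwd 14856, .bwd 14719, .fwd 14835, .bwd 12123],
   .loop none [.bwd 14868],
   .loop none [.fwd 12963, .bwd 14869],
   .loop (some (12, 1)) [.fwd 13972, .bwd 14025, .bwd 13999],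
   .loop (some (15, 0)) [.bwd 10502, .fwd 9430, .fwd 10826, .fwd 12256],
   .loop (some (11, 2)) [.fwd 12920, .bwd 13259, .bwd 12834],
   .loop (some (14, 0)) [.fwd 12338, .fwd 14726, .fwd 12345, .fwd 12269],
   .loop (some (6, 2)) [.bwd 14870, .fwd 14838, .fwd 13289, .fwd 12801],
   .loop none [.bwd 14875],
   .loop none [.fwd 12977, .bwd 14876],
   .loop (some (15, 0)) [.bwd 10539, .fwd 9042, .bwd 13284, .fwd 12271],
   .loop (some (15, 0)) [.bwd 11222, .fwd 11223, .fwd 10817, .fwd 12284],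
   .loop (some (11, 2)) [.bwd 12967, .bwd 14839, .bwd 12122],
   .loop (some (15, 0)) [.bwd 13455, .bwd 13448, .fwd 14390, .fwd 13271],
   .loop (some (1, 2)) [.bwd 14764, .bwd 14537, .fwd 11451],
   .loop (some (18, 4)) [.bwd 12514, .bwd 14764, .fwd 12330, .fwd 1544, .fwd 7886, .fwd 4944],
   .loop none [.bwd 14883],
   .loop none [.fwd 12514, .bwd 14884],
   .loop none [.fwd 4944, .fwd 14884, .fwd 12515],
   .loop none [.fwd 14886],
   .loop none [.fwd 8284, .fwd 14887, .fwd 12516],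
   .loop none [.fwd 14888],
   .loop none [.fwd 4515, .fwd 14889, .fwd 12517],
   .loop none [.fwd 14890],
   .loop none [.bwd 12518, .bwd 14891],
   .loop (some (14, 0)) [.fwd 13409, .fwd 13804, .bwd 13407, .bwd 13417],
   .loop (some (13, 2)) [.bwd 14764, .fwd 14893, .bwd 13414],
   .loop (some (11, 1)) [.bwd 14760, .fwd 12329, .fwd 14893],
   .loop (some (17, 0)) [.fwd 14863, .bwd 12252, .bwd 10826, .fwd 6742, .bwd 14055],
   .loop (some (8, 1)) [.fwd 13421, .fwd 14761, .fwd 14039],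
   .loop (some (6, 1)) [.fwd 13437, .bwd 14896, .fwd 14040],
   .loop (some (15, 0)) [.fwd 7859, .fwd 13794, .fwd 14895, .fwd 14761],
   .loop (some (12, 2)) [.bwd 12353, .bwd 14455, .fwd 10325],
   .loop (some (15, 0)) [.bwd 10131, .fwd 9732, .fwd 12352, .fwd 12353],
   .loop (some (10, 2)) [.fwd 14481, .bwd 14900, .bwd 9761],
   .loop (some (15, 0)) [.bwd 6736, .bwd 11362, .fwd 14288, .bwd 14517],
   .loop (some (10, 2)) [.bwd 12355, .bwd 14526, .fwd 14281],
   .loop (some (11, 3)) [.bwd 12356, .bwd 14904, .fwd 11417, .fwd 9423],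
   .loop none [.bwd 14905],
   .loop none [.fwd 14478, .bwd 14906],
   .loop none [.fwd 12356, .bwd 14906],
   .loop none [.fwd 5154, .fwd 14906, .fwd 12357],
   .loop none [.fwd 14909],
   .loop none [.bwd 5155, .fwd 14906, .fwd 14479],
   .loop none [.fwd 14911],
   .loop none [.fwd 14477, .bwd 14910],
   .loop none [.bwd 12358, .bwd 14910],
   .loop none [.bwd 5156, .fwd 14912, .bwd 9757],
   .loop none [.fwd 14915],
   .loop none [.bwd 9758, .bwd 14912],
   .loop none [.bwd 14525, .bwd 14912],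
   .loop none [.fwd 14280, .bwd 14912],
   .loop none [.fwd 9756, .bwd 14916],
   .loop (some (18, 0)) [.bwd 12460, .bwd 14918, .bwd 5155, .bwd 5154, .fwd 14914],
   .loop (some (13, 0)) [.bwd 11412, .fwd 9422, .fwd 14914],
   .loop (some (10, 2)) [.bwd 12359, .fwd 14922, .bwd 10644],
   .loop (some (2, 3)) [.bwd 12359, .fwd 14921, .fwd 12461],
   .loop (some (13, 2)) [.fwd 14476, .bwd 14923, .bwd 10643],
   .loop (some (15, 0)) [.bwd 12462, .fwd 14924, .fwd 12360, .fwd 12361],
   .loop (some (8, 1)) [.fwd 13544, .bwd 13811, .fwd 13812],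
   .loop (some (14, 0)) [.fwd 12741, .fwd 14625, .bwd 12739, .bwd 13812],
   .loop (some (12, 1)) [.fwd 14615, .bwd 13811, .fwd 14928],
   .loop (some (15, 0)) [.fwd 10714, .fwd 10679, .bwd 10687, .bwd 12393],
   .loop (some (15, 0)) [.bwd 11417, .bwd 9759, .bwd 14917, .fwd 14918],
   .loop (some (15, 0)) [.bwd 12360, .bwd 14924, .fwd 12462, .fwd 12463],
   .loop (some (15, 0)) [.fwd 10428, .fwd 10429, .bwd 13897, .bwd 12475],
   .loop (some (8, 2)) [.bwd 13231, .bwd 12484, .fwd 13168],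
   .loop (some (12, 2)) [.bwd 12501, .bwd 14494, .fwd 13231],
   .loop (some (9, 1)) [.fwd 14446, .bwd 14445, .bwd 14935],
   .loop (some (8, 1)) [.fwd 13440, .fwd 12510, .fwd 13466],
   .loop (some (11, 1)) [.fwd 14763, .fwd 14758, .bwd 14894],
   .loop (some (9, 1)) [.bwd 14460, .fwd 14882, .bwd 14894],
   .loop (some (18, 4)) [.bwd 12519, .bwd 14892, .bwd 9271, .fwd 4947, .fwd 4948],
   .loop (some (15, 0)) [.fwd 7815, .fwd 8022, .bwd 4515, .fwd 14892],
   .loop (some (2, 1)) [.bwd 4949, .fwd 14940, .fwd 12520],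
   .loop (some (15, 0)) [.bwd 4950, .bwd 14942, .fwd 12521, .fwd 12522],
   .loop (some (6, 1)) [.bwd 13340, .fwd 13723, .fwd 12541],
   .loop (some (16, 4)) [.fwd 13756, .bwd 14641, .bwd 11075, .bwd 14636, .fwd 14328],
   .loop (some (4, 1)) [.bwd 14650, .bwd 12548, .bwd 13346],
   .loop (some (10, 2)) [.fwd 13756, .bwd 13758, .fwd 13894],
   .loop (some (4, 1)) [.bwd 14320, .bwd 14652, .fwd 12550],
   .loop (some (11, 2)) [.bwd 12550, .bwd 14672, .fwd 12856],
   .loop (some (1, 0)) [.bwd 13056, .bwd 14559, .bwd 14948],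
   .loop (some (18, 2)) [.bwd 13108, .bwd 12482, .fwd 13047, .bwd 14948, .fwd 12551, .fwd 12552],
   .loop none [.bwd 14951],
   .loop none [.bwd 13109, .bwd 14952],
   .loop none [.fwd 13108, .bwd 14952],
   .loop (some (12, 2)) [.bwd 12551, .bwd 14949, .fwd 12857],
   .loop (some (9, 1)) [.fwd 14570, .fwd 14560, .bwd 14950, .bwd 14949],
   .loop none [.bwd 14956],
   .loop none [.bwd 14570, .bwd 14957],
   .loop none [.bwd 13488, .bwd 14957],
   .loop (some (13, 2)) [.bwd 12552, .bwd 14955, .fwd 12858],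
   .loop (some (20, 0)) [.fwd 13059, .bwd 10957, .bwd 13114, .bwd 13113, .bwd 13112, .bwd 13111, .bwd 13110, .bwd 14953],
   .loop (some (2, 1)) [.fwd 13731, .bwd 14954, .fwd 12553],
   .loop (some (1, 2)) [.fwd 12552, .fwd 14961, .bwd 13058],
   .loop (some (12, 1)) [.fwd 13156, .bwd 14954, .bwd 14960],
   .loop (some (9, 1)) [.fwd 13120, .bwd 14961, .bwd 14960],
   .loop (some (10, 2)) [.bwd 12553, .bwd 14960, .fwd 12859],
   .loop (some (11, 2)) [.bwd 12554, .bwd 14966, .fwd 12860],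
   .loop (some (12, 2)) [.bwd 12555, .bwd 14967, .fwd 12861],
   .loop (some (13, 2)) [.bwd 12556, .bwd 14968, .fwd 12862],
   .loop (some (10, 2)) [.bwd 12557, .bwd 14969, .fwd 12863],
   .loop (some (11, 2)) [.bwd 12558, .bwd 14970, .fwd 12864],
   .loop (some (12, 2)) [.bwd 12559, .bwd 14971, .fwd 12865],
   .loop (some (13, 2)) [.bwd 12560, .bwd 14972, .fwd 12866],
   .loop (some (10, 2)) [.bwd 12561, .bwd 14973, .fwd 12867],
   .loop (some (11, 2)) [.bwd 12562, .bwd 14974, .fwd 12868],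
   .loop (some (12, 2)) [.bwd 12563, .bwd 14975, .fwd 12869],
   .loop (some (13, 2)) [.bwd 12564, .bwd 14976, .fwd 12870],
   .loop (some (10, 2)) [.bwd 12565, .bwd 14977, .fwd 12871],
   .loop (some (11, 2)) [.bwd 12566, .bwd 14978, .fwd 12872],
   .loop (some (12, 2)) [.bwd 12567, .bwd 14979, .fwd 12873],
   .loop (some (13, 2)) [.bwd 12568, .bwd 14980, .fwd 12874],
   .loop (some (10, 2)) [.bwd 12569, .bwd 14981, .fwd 12875],
   .loop (some (15, 0)) [.fwd 13374, .fwd 13375, .fwd 14427, .bwd 12571],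
   .loop (some (2, 1)) [.bwd 14300, .bwd 14299, .fwd 14898],
   .loop (some (15, 0)) [.fwd 7858, .fwd 13791, .fwd 13817, .bwd 14299],
   .loop (some (15, 0)) [.bwd 4572, .fwd 11103, .fwd 10277, .bwd 12590],
   .loop (some (15, 0)) [.fwd 9703, .fwd 9704, .bwd 14441, .bwd 12607],
   .loop (some (17, 5)) [.bwd 14441, .bwd 14499, .bwd 9811, .bwd 9810, .bwd 12787, .bwd 12786],
   .loop none [.fwd 14988],
   .loop none [.bwd 12786, .bwd 14989],
   .loop none [.bwd 9705, .fwd 14989, .bwd 12785],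
   .loop none [.fwd 14991],
   .loop none [.fwd 12784, .bwd 14992],
   .loop (some (15, 0)) [.fwd 9107, .bwd 9100, .fwd 9092, .fwd 14232],
   .loop (some (14, 0)) [.fwd 12635, .fwd 14153, .bwd 12633, .bwd 12632],
   .loop (some (17, 2)) [.fwd 14596, .fwd 14576, .bwd 14127, .bwd 14115, .bwd 14142],
   .loop (some (20, 9)) [.fwd 14306, .fwd 9578, .fwd 14129, .fwd 14802, .fwd 13627, .fwd 10972, .bwd 13736, .fwd 13737, .bwd 13678],
   .loop none [.fwd 14997],
   .loop none [.bwd 13678, .bwd 14998]]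

theorem just59_len : just59.length = 250 := by decide +kernel

theorem just59_ok : cert.okFacts 14750 just59 = true := by decide +kernel


end CfsgLib.ThCent.DX
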