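import Cfsg.Agent.Lib.ThCent.DXData

/-!
Justifications of the side facts (generated data).
-/

namespace CfsgLib.ThCent.DX

open CfsgLib.PresCert

set_option maxRecDepth 100000

/-- justifications -/
noncomputable def just60 : List Cert.Just :=
  [.loop none [.fwd 13677, .bwd 14998],
   .loop (some (3, 2)) [.fwd 12651, .fwd 14137, .bwd 12665],
   .loop (some (10, 2)) [.bwd 14137, .bwd 14309, .fwd 14141],
   .loop (some (7, 3)) [.bwd 12655, .bwd 14142, .fwd 12669],
   .loop (some (7, 3)) [.bwd 12656, .bwd 15003, .fwd 12670],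
   .loop (some (11, 2)) [.fwd 15004, .bwd 14140, .fwd 14143],
   .loop (some (7, 3)) [.bwd 12657, .bwd 15004, .fwd 12671],
   .loop (some (4, 2)) [.fwd 12665, .bwd 15006, .bwd 12678],
   .loop (some (11, 2)) [.fwd 15006, .bwd 15002, .bwd 15003],
   .loop (some (11, 2)) [.bwd 14143, .bwd 14136, .fwd 12660],
   .loop (some (6, 1)) [.fwd 12706, .bwd 12682, .bwd 12673],
   .loop (some (0, 2)) [.fwd 15009, .fwd 15005],
   .loop (some (8, 1)) [.fwd 12690, .bwd 12681, .fwd 12669],
   .loop (some (14, 0)) [.fwd 12672, .fwd 15005, .bwd 12670, .bwd 12669],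
   .loop (some (15, 0)) [.fwd 8819, .fwd 2898, .bwd 12691, .bwd 12681],
   .loop (some (8, 1)) [.fwd 12689, .bwd 15012, .fwd 12670],
   .loop (some (6, 3)) [.bwd 12669, .fwd 14996, .fwd 12702],
   .loop (some (12, 2)) [.bwd 15012, .bwd 12684, .fwd 12681],
   .loop (some (8, 1)) [.fwd 12688, .bwd 15015, .fwd 12671],
   .loop (some (6, 3)) [.bwd 12670, .bwd 15016, .fwd 12703],
   .loop (some (10, 2)) [.fwd 15019, .bwd 15005, .fwd 15010],
   .loop (some (8, 1)) [.fwd 12687, .bwd 15018, .fwd 12672],
   .loop (some (6, 3)) [.bwd 12671, .bwd 15019, .fwd 12704],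
   .loop (some (3, 2)) [.fwd 12678, .bwd 15022, .bwd 12712],
   .loop (some (12, 2)) [.bwd 15018, .bwd 15008, .fwd 15012],
   .loop (some (10, 2)) [.bwd 15010, .bwd 15009, .fwd 12682],
   .loop (some (3, 2)) [.bwd 12675, .fwd 12699, .fwd 12709],
   .loop (some (12, 0)) [.bwd 15018, .bwd 15013, .fwd 12681],
   .loop (some (15, 0)) [.bwd 2536, .bwd 12667, .bwd 14142, .fwd 12681],
   .loop (some (10, 0)) [.fwd 12121, .fwd 14880, .bwd 13823],
   .loop (some (7, 1)) [.fwd 12721, .bwd 12707, .bwd 12706],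
   .loop (some (14, 0)) [.fwd 12689, .fwd 15024, .bwd 12687, .bwd 12686],
   .loop (some (15, 0)) [.fwd 8741, .fwd 2550, .fwd 12660, .bwd 12698],
   .loop (some (15, 0)) [.fwd 8743, .fwd 14134, .fwd 14143, .fwd 15021],
   .loop (some (15, 0)) [.fwd 8744, .fwd 14135, .bwd 15006, .fwd 15018],
   .loop (some (15, 0)) [.fwd 8747, .fwd 14138, .bwd 15004, .fwd 15015],
   .loop (some (15, 0)) [.bwd 8739, .fwd 14139, .bwd 15003, .fwd 15012],
   .loop (some (7, 3)) [.bwd 12702, .fwd 14596, .fwd 12717],
   .loop (some (7, 3)) [.bwd 12703, .bwd 15037, .fwd 12718],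
   .loop (some (11, 2)) [.fwd 15038, .bwd 15020, .fwd 15030],
   .loop (some (7, 3)) [.bwd 12704, .bwd 15038, .fwd 12719],
   .loop (some (4, 2)) [.fwd 12712, .bwd 15040, .bwd 12726],
   .loop (some (11, 2)) [.bwd 15030, .bwd 15025, .fwd 12707],
   .loop (some (0, 2)) [.fwd 15042, .fwd 15039],
   .loop (some (8, 1)) [.fwd 12734, .bwd 12727, .fwd 12717],
   .loop (some (14, 0)) [.fwd 12720, .fwd 15039, .bwd 12718, .bwd 12717],
   .loop (some (12, 1)) [.fwd 14630, .bwd 12727, .fwd 15045],
   .loop (some (15, 0)) [.bwd 11824, .fwd 10061, .fwd 10069, .bwd 12727],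
   .loop (some (17, 0)) [.bwd 14999, .fwd 14141, .bwd 15003, .bwd 15016, .bwd 15037],
   .loop (some (8, 1)) [.fwd 12733, .bwd 15044, .fwd 12718],
   .loop (some (6, 2)) [.bwd 15048, .bwd 12717, .fwd 14576],
   .loop (some (15, 0)) [.fwd 11823, .fwd 11833, .bwd 14626, .bwd 15049],
   .loop (some (15, 0)) [.bwd 11827, .fwd 11832, .bwd 14622, .bwd 15046],
   .loop (some (15, 0)) [.fwd 10086, .bwd 13549, .bwd 14633, .fwd 13538],
   .loop (some (17, 0)) [.fwd 14568, .fwd 10984, .bwd 11773, .bwd 11788, .bwd 14626],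
   .loop (some (8, 1)) [.fwd 13543, .bwd 14927, .fwd 12739],
   .loop (some (17, 0)) [.bwd 14411, .fwd 11129, .bwd 9947, .bwd 9946, .bwd 14635],
   .loop (some (12, 1)) [.fwd 14612, .bwd 15055, .bwd 14625],
   .loop (some (8, 1)) [.fwd 13510, .bwd 14538, .fwd 12745],
   .loop (some (2, 2)) [.bwd 15058, .bwd 15056, .fwd 15055],
   .loop (some (12, 1)) [.fwd 13805, .bwd 15058, .bwd 14422],
   .loop (some (20, 4)) [.bwd 10549, .bwd 10548, .bwd 8409, .bwd 14413, .bwd 14939, .fwd 13798, .fwd 14169, .fwd 13597],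
   .loop (some (14, 2)) [.bwd 14656, .bwd 14489, .bwd 14657, .bwd 12796],
   .loop (some (10, 2)) [.bwd 12762, .bwd 13949, .fwd 12895],
   .loop (some (0, 1)) [.fwd 15063, .fwd 14681],
   .loop (some (11, 2)) [.bwd 12763, .bwd 15063, .fwd 12896],
   .loop (some (12, 2)) [.bwd 12764, .bwd 15065, .fwd 12897],
   .loop (some (13, 1)) [.fwd 14584, .bwd 13921, .bwd 15065],
   .loop (some (13, 2)) [.bwd 12765, .bwd 15066, .fwd 12898],
   .loop (some (15, 0)) [.bwd 9771, .bwd 13914, .fwd 12763, .fwd 12764],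
   .loop (some (10, 2)) [.bwd 12766, .bwd 15068, .fwd 12899],
   .loop (some (11, 2)) [.bwd 12767, .bwd 15070, .fwd 12900],
   .loop (some (12, 2)) [.bwd 12768, .bwd 15071, .fwd 12901],
   .loop (some (13, 2)) [.bwd 12769, .bwd 15072, .fwd 12902],
   .loop (some (10, 2)) [.bwd 12770, .bwd 15073, .fwd 12903],
   .loop (some (11, 2)) [.bwd 12771, .bwd 15074, .fwd 12904],
   .loop (some (12, 2)) [.bwd 12772, .bwd 15075, .fwd 12905],
   .loop (some (13, 2)) [.bwd 12773, .bwd 15076, .fwd 12906],
   .loop (some (10, 2)) [.bwd 12774, .bwd 15077, .fwd 12907],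
   .loop (some (11, 2)) [.bwd 12775, .bwd 15078, .fwd 12908],
   .loop (some (12, 2)) [.bwd 12776, .bwd 15079, .fwd 12909],
   .loop (some (13, 2)) [.bwd 12777, .bwd 15080, .fwd 12910],
   .loop (some (10, 2)) [.bwd 12778, .bwd 15081, .fwd 12911],
   .loop (some (11, 2)) [.bwd 12779, .bwd 15082, .fwd 12912],
   .loop (some (12, 2)) [.bwd 12780, .bwd 15083, .fwd 12913],
   .loop (some (13, 2)) [.bwd 12781, .bwd 15084, .fwd 12914],
   .loop (some (10, 2)) [.bwd 12782, .bwd 15085, .fwd 12915],
   .loop (some (11, 2)) [.bwd 12783, .bwd 15086, .fwd 12916],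
   .loop (some (2, 0)) [.fwd 12444, .bwd 9706, .fwd 14993],
   .loop (some (12, 2)) [.fwd 11574, .fwd 14993, .bwd 15087, .fwd 12917],
   .loop none [.fwd 15089],
   .loop none [.fwd 12917, .bwd 15090],
   .loop none [.fwd 5920, .fwd 15090, .fwd 12918],
   .loop none [.fwd 15092],
   .loop none [.bwd 12919, .bwd 15093],
   .loop (some (14, 0)) [.bwd 13106, .fwd 13694, .fwd 12928, .fwd 12794],
   .loop (some (0, 1)) [.fwd 13721, .fwd 15062],
   .loop (some (21, 0)) [.bwd 13097, .bwd 641, .bwd 694, .bwd 693, .bwd 707, .bwd 706, .bwd 705, .bwd 12797],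
   .loop (some (15, 0)) [.bwd 7312, .bwd 8323, .fwd 8316, .fwd 12807],
   .loop (some (4, 1)) [.bwd 13904, .bwd 14680, .fwd 12810],
   .loop (some (11, 2)) [.bwd 12810, .bwd 14681, .fwd 12763],
   .loop (some (1, 0)) [.bwd 13642, .fwd 13738, .bwd 15099],
   .loop (some (18, 2)) [.bwd 13640, .bwd 14811, .bwd 15099, .fwd 12811, .fwd 12812],
   .loop (some (12, 2)) [.bwd 12811, .bwd 15100, .fwd 12764],
   .loop (some (13, 2)) [.bwd 12812, .bwd 15103, .fwd 12765],
   .loop (some (15, 0)) [.bwd 10249, .fwd 14679, .fwd 12810, .fwd 12811],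
   .loop (some (0, 0)) [.fwd 15068, .fwd 15104],
   .loop (some (10, 2)) [.bwd 12813, .bwd 15104, .fwd 12766],
   .loop (some (11, 2)) [.bwd 12814, .bwd 15107, .fwd 12767],
   .loop (some (12, 2)) [.bwd 12815, .bwd 15108, .fwd 12768],
   .loop (some (0, 0)) [.fwd 15072, .fwd 15109],
   .loop (some (13, 2)) [.bwd 12816, .bwd 15109, .fwd 12769],
   .loop (some (10, 2)) [.bwd 12817, .bwd 15111, .fwd 12770],
   .loop (some (11, 2)) [.bwd 12818, .bwd 15112, .fwd 12771],
   .loop (some (12, 2)) [.bwd 12819, .bwd 15113, .fwd 12772],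
   .loop (some (0, 0)) [.fwd 15075, .fwd 15113],
   .loop (some (0, 0)) [.fwd 15076, .fwd 15114],
   .loop (some (13, 2)) [.bwd 12820, .bwd 15114, .fwd 12773],
   .loop (some (10, 2)) [.bwd 12821, .bwd 15117, .fwd 12774],
   .loop (some (11, 2)) [.bwd 12822, .bwd 15118, .fwd 12775],
   .loop (some (12, 2)) [.bwd 12823, .bwd 15119, .fwd 12776],
   .loop (some (13, 2)) [.bwd 12824, .bwd 15120, .fwd 12777],
   .loop (some (10, 2)) [.bwd 12825, .bwd 15121, .fwd 12778],
   .loop (some (11, 2)) [.bwd 12826, .bwd 15122, .fwd 12779],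
   .loop (some (12, 2)) [.bwd 12827, .bwd 15123, .fwd 12780],
   .loop (some (0, 0)) [.fwd 15083, .fwd 15123],
   .loop (some (13, 2)) [.bwd 12828, .bwd 15124, .fwd 12781],
   .loop (some (10, 2)) [.bwd 12829, .bwd 15126, .fwd 12782],
   .loop (some (11, 2)) [.bwd 12830, .bwd 15127, .fwd 12783],
   .loop (some (12, 3)) [.bwd 12831, .bwd 15128, .bwd 14993, .fwd 11573],
   .loop none [.bwd 15129],
   .loop none [.fwd 12831, .bwd 15130],
   .loop none [.fwd 6791, .fwd 15130, .fwd 12832],
   .loop none [.fwd 15132],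
   .loop none [.bwd 12833, .bwd 15133],
   .loop (some (0, 0)) [.fwd 15087, .fwd 15128],
   .loop (some (16, 4)) [.bwd 13894, .bwd 14642, .fwd 11843, .bwd 14639, .fwd 15054],
   .loop (some (4, 2)) [.bwd 14671, .fwd 12856, .fwd 14959],
   .loop (some (11, 2)) [.bwd 12856, .bwd 14674, .fwd 12936],
   .loop (some (18, 4)) [.bwd 14959, .fwd 12857, .fwd 12858, .fwd 14964, .bwd 13690],
   .loop (some (12, 2)) [.bwd 12857, .bwd 15138, .fwd 12937],
   .loop (some (13, 1)) [.fwd 14572, .bwd 14959, .bwd 15138],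
   .loop (some (0, 1)) [.fwd 15140, .fwd 14955],
   .loop (some (13, 2)) [.bwd 12858, .bwd 15140, .fwd 12938],
   .loop (some (0, 1)) [.fwd 15143, .fwd 14960],
   .loop (some (10, 2)) [.bwd 12859, .bwd 15143, .fwd 12939],
   .loop (some (11, 2)) [.bwd 12860, .bwd 15145, .fwd 12940],
   .loop (some (12, 2)) [.bwd 12861, .bwd 15146, .fwd 12941],
   .loop (some (0, 1)) [.fwd 15146, .fwd 14967],
   .loop (some (13, 2)) [.bwd 12862, .bwd 15147, .fwd 12942],
   .loop (some (0, 1)) [.fwd 15149, .fwd 14969],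
   .loop (some (10, 2)) [.bwd 12863, .bwd 15149, .fwd 12943],
   .loop (some (11, 2)) [.bwd 12864, .bwd 15151, .fwd 12944],
   .loop (some (12, 2)) [.bwd 12865, .bwd 15152, .fwd 12945],
   .loop (some (0, 1)) [.fwd 15152, .fwd 14971],
   .loop (some (13, 2)) [.bwd 12866, .bwd 15153, .fwd 12946],
   .loop (some (0, 1)) [.fwd 15155, .fwd 14973],
   .loop (some (10, 2)) [.bwd 12867, .bwd 15155, .fwd 12947],
   .loop (some (11, 2)) [.bwd 12868, .bwd 15157, .fwd 12948],
   .loop (some (12, 2)) [.bwd 12869, .bwd 15158, .fwd 12949],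
   .loop (some (0, 1)) [.fwd 15158, .fwd 14975],
   .loop (some (0, 1)) [.fwd 15159, .fwd 14976],
   .loop (some (13, 2)) [.bwd 12870, .bwd 15159, .fwd 12950],
   .loop (some (10, 2)) [.bwd 12871, .bwd 15162, .fwd 12951],
   .loop (some (0, 1)) [.fwd 15163, .fwd 14978],
   .loop (some (11, 2)) [.bwd 12872, .bwd 15163, .fwd 12952],
   .loop (some (12, 2)) [.bwd 12873, .bwd 15165, .fwd 12953],
   .loop (some (0, 1)) [.fwd 15165, .fwd 14979],
   .loop (some (13, 2)) [.bwd 12874, .bwd 15166, .fwd 12954],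
   .loop (some (10, 2)) [.bwd 12875, .bwd 15168, .fwd 12955],
   .loop (some (11, 2)) [.fwd 14548, .bwd 15169, .fwd 12956],
   .loop (some (10, 2)) [.fwd 9667, .fwd 14543, .bwd 14694, .bwd 12959],
   .loop none [.fwd 15171],
   .loop none [.bwd 12959, .bwd 15172],
   .loop none [.bwd 6656, .fwd 15172, .bwd 12958],
   .loop none [.fwd 15174],
   .loop none [.fwd 12957, .bwd 15175],
   .loop (some (13, 0)) [.bwd 13043, .bwd 14493, .bwd 12886],
   .loop (some (10, 2)) [.bwd 13241, .fwd 15177, .bwd 13183],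
   .loop (some (0, 2)) [.fwd 14677, .fwd 13257],
   .loop (some (15, 0)) [.bwd 10191, .fwd 14663, .fwd 12896, .fwd 12897],
   .loop (some (12, 3)) [.bwd 15106, .fwd 15102, .fwd 13726],
   .loop (some (20, 0)) [.fwd 13233, .fwd 13234, .fwd 13235, .fwd 13236, .fwd 13237, .fwd 10947, .fwd 12262, .bwd 12920],
   .loop (some (2, 2)) [.fwd 13262, .bwd 15094, .bwd 5919],
   .loop (some (14, 3)) [.bwd 13256, .bwd 14677, .bwd 12887, .fwd 14492],
   .loop (some (19, 4)) [.bwd 12794, .bwd 12928, .bwd 12927, .fwd 13256, .bwd 15184, .fwd 13185],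
   .loop (some (14, 2)) [.fwd 13192, .bwd 13256, .fwd 12927, .bwd 13694, .bwd 13577],
   .loop none [.fwd 15186],
   .loop none [.fwd 14488, .bwd 15187],
   .loop none [.bwd 13577, .bwd 15187],
   .loop (some (4, 2)) [.bwd 14659, .fwd 12936, .fwd 15141],
   .loop (some (15, 0)) [.bwd 9931, .bwd 11610, .bwd 12546, .bwd 13005],
   .loop (some (11, 2)) [.bwd 14320, .bwd 14947, .bwd 15137],
   .loop (some (15, 0)) [.bwd 14312, .fwd 6035, .bwd 1643, .fwd 13009],
   .loop (some (9, 2)) [.fwd 14945, .bwd 14947, .bwd 15136],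
   .loop (some (1, 0)) [.fwd 11108, .fwd 14458, .fwd 14946],
   .loop (some (18, 2)) [.bwd 12321, .fwd 14010, .fwd 14946, .fwd 13013, .fwd 13014],
   .loop (some (2, 1)) [.fwd 14032, .bwd 15196, .fwd 13015],
   .loop (some (8, 2)) [.fwd 13181, .bwd 15184, .fwd 13187],
   .loop (some (14, 2)) [.bwd 13185, .fwd 15184, .bwd 13192, .fwd 15188],
   .loop (some (0, 1)) [.fwd 13192, .bwd 15177],
   .loop (some (8, 1)) [.fwd 13054, .fwd 13047, .fwd 13491],
   .loop (some (15, 0)) [.bwd 8291, .fwd 13899, .bwd 15190, .fwd 15201],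
   .loop (some (2, 1)) [.bwd 13125, .bwd 13750, .fwd 13062],
   .loop (some (11, 2)) [.bwd 13063, .bwd 13871, .fwd 8266],
   .loop (some (8, 1)) [.fwd 13482, .bwd 15139, .fwd 13688],
   .loop (some (15, 5)) [.bwd 13096, .fwd 702, .bwd 12173, .bwd 14312, .fwd 6035],
   .loop none [.bwd 15206],
   .loop none [.fwd 13096, .bwd 15207],
   .loop (some (14, 2)) [.bwd 13099, .bwd 13098, .bwd 13186, .fwd 15185],
   .loop (some (0, 0)) [.fwd 15199, .fwd 13186],
   .loop (some (15, 0)) [.bwd 13113, .bwd 13112, .bwd 13111, .bwd 13110],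
   .loop (some (15, 0)) [.bwd 13159, .bwd 10957, .bwd 13114, .bwd 13113, .bwd 13112],
   .loop none [.bwd 15212],
   .loop none [.fwd 13159, .bwd 15213],
   .loop (some (2, 1)) [.fwd 10958, .bwd 13114, .fwd 14749],
   .loop (some (15, 0)) [.bwd 13063, .fwd 15203, .fwd 13126, .fwd 13127],
   .loop (some (15, 0)) [.fwd 10957, .bwd 13059, .bwd 13087, .bwd 13154],
   .loop (some (14, 0)) [.bwd 705, .fwd 10951, .fwd 12925, .fwd 13258],
   .loop (some (15, 0)) [.bwd 13225, .fwd 10959, .bwd 13174, .bwd 13173, .bwd 13172],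
   .loop none [.bwd 15219],
   .loop none [.fwd 13225, .bwd 15220],
   .loop (some (6, 2)) [.bwd 13223, .fwd 15184, .bwd 13183],
   .loop (some (7, 2)) [.bwd 13232, .bwd 14934, .fwd 13169],
   .loop (some (15, 0)) [.bwd 13236, .bwd 13235, .bwd 13234, .bwd 13233],
   .loop (some (8, 0)) [.bwd 13170, .fwd 15223, .fwd 13233],
   .loop (some (15, 0)) [.bwd 13263, .bwd 10947, .bwd 13237, .bwd 13236, .bwd 13235],
   .loop none [.bwd 15226],
   .loop none [.fwd 13263, .bwd 15227],
   .loop (some (15, 0)) [.fwd 12920, .bwd 12262, .bwd 10947, .bwd 13237],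
   .loop (some (20, 0)) [.fwd 13235, .fwd 13236, .fwd 13237, .fwd 10947, .fwd 12262, .bwd 12920, .bwd 13262, .bwd 13261],
   .loop (some (15, 0)) [.fwd 10947, .fwd 12262, .bwd 12920, .bwd 13262],
   .loop (some (15, 0)) [.fwd 14439, .fwd 11397, .bwd 14391, .fwd 13273],
   .loop (some (6, 2)) [.bwd 13581, .bwd 13325, .fwd 695],
   .loop (some (2, 1)) [.bwd 14582, .fwd 14811, .fwd 13638],
   .loop (some (6, 2)) [.bwd 13638, .bwd 13326, .fwd 13581],
   .loop (some (15, 0)) [.fwd 8294, .fwd 13890, .fwd 13904, .fwd 14811],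
   .loop (some (10, 2)) [.bwd 13638, .bwd 13338, .fwd 13581],
   .loop (some (15, 0)) [.fwd 8300, .fwd 13895, .bwd 14585, .bwd 15205],
   .loop (some (15, 0)) [.bwd 13346, .bwd 14010, .fwd 11027, .fwd 14011],
   .loop (some (15, 0)) [.bwd 7788, .bwd 15215, .fwd 13358, .fwd 13359],
   .loop (some (15, 0)) [.fwd 12570, .fwd 12571, .bwd 14427, .bwd 13375],
   .loop (some (15, 0)) [.bwd 7794, .fwd 5970, .bwd 914, .bwd 13404],
   .loop (some (15, 0)) [.bwd 7797, .fwd 8913, .bwd 8201, .fwd 13782],
   .loop (some (15, 0)) [.bwd 7799, .fwd 11276, .fwd 11032, .fwd 13780],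
   .loop (some (7, 3)) [.bwd 13417, .bwd 12329, .fwd 13430],
   .loop (some (7, 3)) [.bwd 13407, .bwd 15245, .fwd 13420],
   .loop (some (2, 0)) [.fwd 14937, .bwd 14049, .bwd 14753],
   .loop (some (6, 3)) [.bwd 13420, .fwd 15247, .fwd 13451],
   .loop (some (10, 2)) [.fwd 15248, .bwd 14423, .fwd 14300]]

theorem just60_len : just60.length = 250 := by decide +kernel

theorem just60_ok : cert.okFacts 15000 just60 = true := by decide +kernel

/-- justifications -/
noncomputable def just61 : List Cert.Just :=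
  [.loop (some (6, 3)) [.bwd 13421, .bwd 15248, .fwd 13452],
   .loop (some (3, 2)) [.fwd 13427, .bwd 15250, .bwd 13461],
   .loop (some (10, 2)) [.fwd 15250, .bwd 14762, .fwd 15247],
   .loop (some (10, 2)) [.bwd 14300, .bwd 14404, .fwd 13432],
   .loop (some (0, 2)) [.fwd 15253, .fwd 15249],
   .loop (some (12, 1)) [.fwd 15254, .bwd 13448, .bwd 14840],
   .loop (some (8, 1)) [.fwd 13453, .bwd 14984, .fwd 13437],
   .loop (some (20, 2)) [.bwd 13292, .bwd 12967, .bwd 13271, .bwd 14390, .fwd 13448, .fwd 13455, .bwd 13475, .fwd 14580],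
   .loop (some (2, 3)) [.fwd 13733, .bwd 14587, .bwd 13564],
   .loop (some (8, 2)) [.fwd 15258, .fwd 13456, .bwd 7707],
   .loop (some (6, 3)) [.bwd 13468, .fwd 13728, .fwd 13491],
   .loop (some (14, 2)) [.bwd 13470, .bwd 13469, .bwd 13478, .fwd 13468],
   .loop (some (0, 1)) [.fwd 13478, .fwd 15261],
   .loop (some (6, 3)) [.bwd 13469, .bwd 15260, .fwd 13481],
   .loop (some (6, 3)) [.bwd 13470, .bwd 15263, .fwd 13482],
   .loop (some (14, 2)) [.bwd 13472, .bwd 13471, .bwd 15261, .fwd 13469],
   .loop (some (15, 0)) [.fwd 14338, .bwd 9583, .bwd 8291, .fwd 13899],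
   .loop (some (15, 0)) [.fwd 14339, .bwd 9581, .fwd 8300, .fwd 13895],
   .loop (some (15, 0)) [.fwd 14341, .bwd 9580, .fwd 8298, .fwd 13893],
   .loop (some (15, 0)) [.bwd 14129, .bwd 9578, .fwd 8294, .fwd 13890],
   .loop (some (14, 0)) [.fwd 13510, .fwd 13799, .bwd 13508, .bwd 13507],
   .loop (some (10, 2)) [.fwd 14302, .fwd 15270, .bwd 15059],
   .loop (some (15, 0)) [.bwd 8366, .fwd 8367, .fwd 14402, .fwd 14540],
   .loop (some (15, 0)) [.bwd 6951, .fwd 9688, .fwd 14420, .fwd 14538],
   .loop (some (14, 0)) [.fwd 13521, .fwd 13874, .bwd 13519, .bwd 13518],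
   .loop (some (15, 0)) [.bwd 8290, .fwd 2931, .fwd 7424, .bwd 13527],
   .loop (some (16, 5)) [.fwd 13872, .fwd 7798, .bwd 11011, .bwd 11814, .bwd 14597],
   .loop (some (16, 5)) [.fwd 13875, .fwd 7804, .bwd 11015, .bwd 11817, .bwd 14600],
   .loop (some (14, 0)) [.fwd 13532, .fwd 14599, .bwd 13530, .bwd 13529],
   .loop (some (11, 1)) [.fwd 15271, .bwd 14633, .fwd 15278],
   .loop (some (15, 0)) [.bwd 14596, .fwd 12715, .bwd 13754, .bwd 13538],
   .loop (some (7, 3)) [.bwd 13529, .fwd 14633, .fwd 13540],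
   .loop (some (15, 0)) [.bwd 14390, .fwd 13448, .fwd 13455, .bwd 15258],
   .loop (some (4, 2)) [.bwd 13598, .fwd 15061, .fwd 10550],
   .loop (some (15, 0)) [.bwd 14938, .fwd 13798, .fwd 14169, .fwd 13597],
   .loop (some (17, 2)) [.fwd 11674, .bwd 10552, .bwd 10551, .fwd 15283, .fwd 13599, .fwd 13600],
   .loop none [.fwd 15285],
   .loop none [.fwd 13600, .bwd 15286],
   .loop none [.fwd 9776, .fwd 15286, .fwd 13601],
   .loop none [.fwd 15288],
   .loop none [.bwd 11670, .fwd 15289, .fwd 13602],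
   .loop none [.fwd 15290],
   .loop none [.fwd 10555, .fwd 15291, .fwd 13603],
   .loop none [.fwd 15292],
   .loop none [.bwd 13604, .bwd 15293],
   .loop (some (5, 2)) [.bwd 13618, .bwd 15235, .fwd 13563],
   .loop (some (9, 2)) [.bwd 13618, .bwd 15237, .fwd 13563],
   .loop (some (12, 2)) [.bwd 13643, .bwd 14573, .fwd 13583],
   .loop (some (7, 2)) [.fwd 13676, .bwd 14693, .bwd 12880],
   .loop (some (12, 2)) [.bwd 13665, .bwd 14248, .fwd 13597],
   .loop (some (11, 3)) [.bwd 15299, .fwd 15061, .fwd 11997],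
   .loop (some (15, 0)) [.fwd 14758, .bwd 14885, .fwd 13869, .fwd 13665],
   .loop (some (4, 0)) [.bwd 10444, .fwd 15300, .fwd 13666],
   .loop (some (17, 5)) [.bwd 13668, .bwd 13667, .fwd 15302, .fwd 10445, .fwd 10446, .bwd 11993],
   .loop none [.bwd 15303],
   .loop none [.fwd 10254, .fwd 15304, .fwd 13669],
   .loop none [.fwd 15305],
   .loop none [.bwd 11990, .fwd 15306, .fwd 13670],
   .loop none [.fwd 15307],
   .loop none [.fwd 10449, .fwd 15308, .fwd 13671],
   .loop none [.fwd 15309],
   .loop none [.bwd 13672, .bwd 15310],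
   .loop (some (11, 0)) [.bwd 15294, .fwd 12030, .fwd 15311],
   .loop (some (12, 0)) [.bwd 13605, .bwd 15312, .fwd 13673],
   .loop (some (13, 2)) [.bwd 13674, .fwd 15313, .fwd 13606],
   .loop (some (6, 0)) [.fwd 14543, .fwd 15298, .bwd 13675],
   .loop (some (5, 3)) [.bwd 15050, .bwd 13889, .fwd 1635],
   .loop (some (15, 5)) [.bwd 13681, .bwd 13627, .bwd 14802, .bwd 14129, .bwd 9578],
   .loop none [.bwd 15317],
   .loop none [.fwd 13681, .bwd 15318],
   .define,
   .define,
   .define,
   .loop (some (16, 4)) [.fwd 7723, .fwd 13094, .fwd 15320, .fwd 15321, .fwd 15322],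
   .define,
   .loop (some (17, 4)) [.fwd 13684, .bwd 7723, .bwd 7745, .bwd 7770, .fwd 15324],
   .define,
   .loop (some (18, 3)) [.bwd 13248, .fwd 13249, .fwd 10973, .bwd 9967, .fwd 15326],
   .define,
   .define,
   .define,
   .define,
   .define,
   .define,
   .define,
   .define,
   .define,
   .define,
   .define,
   .define,
   .define,
   .define,
   .define,
   .define,
   .define,
   .loop (some (22, 29)) [.bwd 13248, .fwd 13249, .bwd 7723, .bwd 7745, .fwd 7766, .bwd 853, .bwd 7805, .fwd 8266, .fwd 8259, .bwd 1006, .bwd 1512, .fwd 1505, .bwd 8042, .fwd 8147, .fwd 15328, .fwd 15329, .fwd 15330, .fwd 15331, .fwd 15332, .fwd 15333, .fwd 15334, .fwd 15335, .fwd 15336, .fwd 15337, .fwd 15338, .fwd 15339, .fwd 15340, .fwd 15341, .fwd 15342, .fwd 15343, .fwd 15344],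
   .define,
   .define,
   .loop (some (15, 2)) [.fwd 14568, .bwd 10973, .fwd 15346, .fwd 15347],
   .define,
   .define,
   .define,
   .define,
   .loop (some (16, 4)) [.fwd 7724, .bwd 13705, .fwd 15350, .fwd 15351, .fwd 15352],
   .define,
   .define,
   .loop (some (21, 2)) [.fwd 13166, .bwd 14656, .bwd 13573, .fwd 690, .fwd 691, .fwd 692, .bwd 707, .fwd 15355],
   .define,
   .define,
   .define,
   .loop (some (18, 4)) [.fwd 707, .fwd 10975, .fwd 15357, .fwd 15358, .fwd 15359],
   .define,
   .define,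
   .define,
   .define,
   .define,
   .define,
   .define,
   .define,
   .define,
   .define,
   .define,
   .define,
   .define,
   .define,
   .define,
   .define,
   .define,
   .define,
   .define,
   .define,
   .define,
   .define,
   .define,
   .define,
   .define,
   .loop (some (22, 29)) [.fwd 15360, .fwd 707, .bwd 7724, .bwd 7748, .fwd 7769, .fwd 9158, .fwd 15361, .fwd 15362, .fwd 15363, .fwd 15364, .fwd 15365, .fwd 15366, .fwd 15367, .fwd 15368, .fwd 15369, .fwd 15370, .fwd 15371, .fwd 15372, .fwd 15373, .fwd 15374, .fwd 15375, .fwd 15376, .fwd 15377, .fwd 15378, .fwd 15379, .fwd 15380, .fwd 15381, .fwd 15382, .fwd 15383, .fwd 15384, .fwd 15385],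
   .define,
   .define,
   .loop (some (15, 2)) [.fwd 14564, .bwd 10975, .fwd 15387, .fwd 15388],
   .define,
   .define,
   .define,
   .define,
   .loop (some (16, 4)) [.bwd 7665, .fwd 13053, .fwd 15391, .fwd 15392, .fwd 15393],
   .define,
   .loop (some (17, 4)) [.bwd 13042, .fwd 7665, .fwd 7738, .fwd 7753, .fwd 15395],
   .define,
   .define,
   .define,
   .define,
   .loop (some (18, 4)) [.bwd 13105, .fwd 10976, .fwd 15398, .fwd 15399, .fwd 15400],
   .define,
   .loop (some (3, 2)) [.bwd 13105, .fwd 7665, .fwd 15402],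
   .define,
   .loop (some (4, 2)) [.bwd 13105, .fwd 13042, .fwd 15404],
   .define,
   .define,
   .define,
   .define,
   .define,
   .define,
   .define,
   .define,
   .define,
   .define,
   .define,
   .define,
   .define,
   .define,
   .define,
   .define,
   .define,
   .define,
   .define,
   .define,
   .define,
   .define,
   .define,
   .define,
   .define,
   .define,
   .loop (some (22, 29)) [.fwd 15401, .bwd 13105, .fwd 7665, .fwd 7738, .fwd 7772, .fwd 15406, .fwd 15407, .fwd 15408, .fwd 15409, .fwd 15410, .fwd 15411, .fwd 15412, .fwd 15413, .fwd 15414, .fwd 15415, .fwd 15416, .fwd 15417, .fwd 15418, .fwd 15419, .fwd 15420, .fwd 15421, .fwd 15422, .fwd 15423, .fwd 15424, .fwd 15425, .fwd 15426, .fwd 15427, .fwd 15428, .fwd 15429, .fwd 15430, .fwd 15431],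
   .define,
   .define,
   .loop (some (15, 2)) [.fwd 14562, .bwd 10976, .fwd 15433, .fwd 15434],
   .define,
   .define,
   .define,
   .define,
   .loop (some (19, 5)) [.bwd 12969, .fwd 15233, .fwd 15235, .fwd 15437, .fwd 15438, .fwd 15439],
   .define,
   .loop (some (7, 2)) [.fwd 7592, .fwd 12969, .fwd 15441],
   .define,
   .define,
   .loop (some (21, 5)) [.fwd 15439, .fwd 15440, .bwd 12969, .fwd 7371, .bwd 12304, .fwd 13280, .fwd 15443, .fwd 15444],
   .define,
   .define,
   .define,
   .loop (some (19, 5)) [.bwd 12982, .fwd 15259, .fwd 15295, .fwd 15446, .fwd 15447, .fwd 15448],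
   .define,
   .loop (some (7, 2)) [.fwd 7708, .fwd 12982, .fwd 15450],
   .define,
   .define,
   .define,
   .loop (some (21, 5)) [.fwd 15448, .fwd 15449, .bwd 12982, .fwd 7588, .bwd 12313, .fwd 15452, .fwd 15453, .fwd 15454],
   .define,
   .define,
   .define,
   .loop (some (19, 5)) [.fwd 749, .fwd 13746, .fwd 13747, .fwd 15456, .fwd 15457, .fwd 15458],
   .define,
   .define,
   .loop (some (21, 5)) [.fwd 15458, .fwd 15459, .fwd 749, .fwd 752, .bwd 1711, .fwd 13351, .fwd 15460, .fwd 15461],
   .define,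
   .define,
   .define,
   .loop (some (19, 5)) [.fwd 1590, .fwd 13883, .fwd 13884, .fwd 15463, .fwd 15464, .fwd 15465],
   .define,
   .define,
   .loop (some (21, 5)) [.fwd 15465, .fwd 15466, .fwd 1590, .fwd 1605, .bwd 1644, .fwd 13006, .fwd 15467, .fwd 15468],
   .define,
   .loop (some (16, 2)) [.bwd 7426, .fwd 7425, .bwd 7273, .fwd 12160, .fwd 15470],
   .define,
   .loop (some (21, 4)) [.bwd 13696, .fwd 12153, .fwd 12154, .fwd 12155, .fwd 10810, .fwd 10811, .fwd 13193, .fwd 15472],
   .define,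
   .loop (some (20, 2)) [.fwd 2520, .fwd 7430, .fwd 14332, .fwd 13093, .fwd 9970, .fwd 702, .fwd 12160, .fwd 15474],
   .define,
   .loop (some (2, 2)) [.fwd 12173, .fwd 7273, .fwd 15476],
   .define,
   .loop (some (5, 2)) [.bwd 12160, .bwd 12155, .fwd 15478],
   .loop (some (6, 2)) [.fwd 15466, .bwd 7273, .bwd 12155, .bwd 15396],
   .loop none [.bwd 15480],
   .loop none [.bwd 15466, .bwd 15481],
   .define,
   .define,
   .define,
   .define,
   .define,
   .define,
   .define,
   .define,
   .define,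
   .define,
   .define,
   .define,
   .define,
   .define,
   .define,
   .define,
   .define]

theorem just61_len : just61.length = 250 := by decide +kernel

theorem just61_ok : cert.okFacts 15250 just61 = true := by decide +kernel

/-- justifications -/
noncomputable def just62 : List Cert.Just :=
  [.define,
   .define,
   .define,
   .define,
   .define,
   .loop (some (9, 2)) [.bwd 12160, .bwd 13685, .fwd 15504],
   .loop (some (10, 2)) [.bwd 7273, .bwd 13685, .bwd 15325],
   .define,
   .define,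
   .loop (some (19, 3)) [.bwd 15355, .bwd 706, .bwd 705, .bwd 12797, .bwd 12796, .fwd 15508],
   .define,
   .loop (some (16, 3)) [.fwd 13352, .fwd 7388, .bwd 12545, .bwd 13281, .fwd 15510],
   .define,
   .define,
   .loop (some (20, 5)) [.fwd 13036, .fwd 13005, .fwd 12546, .bwd 12545, .bwd 13275, .bwd 13319, .fwd 15512, .fwd 15513],
   .define,
   .loop (some (8, 2)) [.bwd 11610, .bwd 12797, .fwd 15515],
   .define,
   .loop (some (15, 1)) [.bwd 9932, .bwd 9931, .bwd 11610, .fwd 15517],
   .define,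
   .define,
   .define,
   .define,
   .loop (some (16, 4)) [.bwd 7737, .fwd 13720, .fwd 15520, .fwd 15521, .fwd 15522],
   .define,
   .loop (some (17, 4)) [.bwd 13719, .fwd 7737, .fwd 7756, .fwd 7781, .fwd 15524],
   .loop (some (21, 5)) [.fwd 15509, .bwd 15355, .bwd 706, .fwd 12540, .fwd 12541, .bwd 13710, .fwd 13107, .fwd 12887],
   .define,
   .define,
   .define,
   .define,
   .define,
   .define,
   .loop (some (20, 7)) [.bwd 13719, .fwd 13720, .fwd 15527, .fwd 15528, .fwd 15529, .fwd 15530, .fwd 15531, .fwd 15532],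
   .define,
   .define,
   .loop (some (2, 3)) [.fwd 7737, .fwd 15534, .fwd 15535],
   .loop (some (8, 2)) [.fwd 15536, .bwd 705, .fwd 11610],
   .define,
   .define,
   .define,
   .loop (some (18, 4)) [.bwd 12540, .bwd 15536, .fwd 15538, .fwd 15539, .fwd 15540],
   .define,
   .define,
   .loop (some (14, 2)) [.fwd 12797, .fwd 705, .fwd 15542, .fwd 15543],
   .define,
   .loop (some (12, 2)) [.fwd 15536, .fwd 15542, .fwd 15545],
   .loop (some (0, 1)) [.bwd 15542, .bwd 15218],
   .loop (some (13, 1)) [.fwd 14667, .bwd 12540, .fwd 15542],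
   .define,
   .define,
   .define,
   .define,
   .define,
   .define,
   .define,
   .define,
   .define,
   .define,
   .define,
   .define,
   .define,
   .define,
   .define,
   .define,
   .define,
   .define,
   .define,
   .define,
   .define,
   .define,
   .define,
   .define,
   .define,
   .define,
   .define,
   .loop (some (22, 29)) [.fwd 15541, .bwd 12540, .fwd 7737, .fwd 7756, .fwd 15549, .fwd 15550, .fwd 15551, .fwd 15552, .fwd 15553, .fwd 15554, .fwd 15555, .fwd 15556, .fwd 15557, .fwd 15558, .fwd 15559, .fwd 15560, .fwd 15561, .fwd 15562, .fwd 15563, .fwd 15564, .fwd 15565, .fwd 15566, .fwd 15567, .fwd 15568, .fwd 15569, .fwd 15570, .fwd 15571, .fwd 15572, .fwd 15573, .fwd 15574, .fwd 15575],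
   .define,
   .loop (some (11, 2)) [.bwd 13719, .fwd 15542, .fwd 15577],
   .define,
   .define,
   .define,
   .loop (some (15, 3)) [.fwd 15536, .fwd 15579, .fwd 15580, .fwd 15581],
   .define,
   .loop (some (9, 2)) [.bwd 13720, .fwd 15542, .fwd 15583],
   .define,
   .loop (some (10, 2)) [.bwd 7737, .fwd 15542, .fwd 15585],
   .define,
   .define,
   .define,
   .define,
   .loop (some (16, 4)) [.fwd 7725, .bwd 13707, .fwd 15588, .fwd 15589, .fwd 15590],
   .define,
   .loop (some (17, 4)) [.fwd 13709, .bwd 7725, .bwd 7749, .bwd 7774, .fwd 15592],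
   .define,
   .loop (some (7, 2)) [.fwd 13709, .fwd 15355, .fwd 15594],
   .define,
   .define,
   .define,
   .define,
   .define,
   .loop (some (20, 7)) [.fwd 13709, .bwd 13707, .fwd 15181, .fwd 15596, .fwd 15597, .fwd 15598, .fwd 15599, .fwd 15600],
   .define,
   .loop (some (2, 2)) [.fwd 15360, .bwd 7725, .fwd 15602],
   .define,
   .loop (some (5, 2)) [.fwd 13707, .fwd 15355, .fwd 15604],
   .define,
   .loop (some (6, 2)) [.fwd 7725, .fwd 15355, .fwd 15606],
   .loop (some (12, 2)) [.fwd 15360, .bwd 13708, .bwd 13645],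
   .define,
   .define,
   .define,
   .define,
   .define,
   .define,
   .define,
   .define,
   .define,
   .define,
   .define,
   .define,
   .define,
   .define,
   .define,
   .define,
   .define,
   .define,
   .define,
   .define,
   .define,
   .define,
   .define,
   .define,
   .define,
   .loop (some (22, 27)) [.fwd 14632, .fwd 14564, .bwd 10975, .bwd 707, .bwd 7725, .bwd 7749, .fwd 15609, .fwd 15610, .fwd 15611, .fwd 15612, .fwd 15613, .fwd 15614, .fwd 15615, .fwd 15616, .fwd 15617, .fwd 15618, .fwd 15619, .fwd 15620, .fwd 15621, .fwd 15622, .fwd 15623, .fwd 15624, .fwd 15625, .fwd 15626, .fwd 15627, .fwd 15628, .fwd 15629, .fwd 15630, .fwd 15631, .fwd 15632, .fwd 15633],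
   .define,
   .define,
   .loop (some (15, 2)) [.fwd 15386, .fwd 15360, .fwd 15635, .fwd 15636],
   .define,
   .loop (some (17, 3)) [.bwd 15470, .bwd 13330, .bwd 13337, .fwd 15441, .fwd 15638],
   .loop (some (7, 1)) [.fwd 15479, .bwd 13330, .bwd 13054],
   .loop (some (6, 2)) [.fwd 15440, .fwd 13337, .bwd 13054, .fwd 15391],
   .loop none [.bwd 15641],
   .loop none [.bwd 15440, .bwd 15642],
   .loop none [.fwd 15439, .bwd 15642],
   .define,
   .define,
   .define,
   .define,
   .define,
   .define,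
   .define,
   .define,
   .define,
   .define,
   .define,
   .define,
   .define,
   .define,
   .define,
   .define,
   .define,
   .define,
   .define,
   .define,
   .define,
   .define,
   .define,
   .define,
   .define,
   .define,
   .loop (some (22, 28)) [.bwd 14953, .fwd 14954, .bwd 12482, .bwd 13337, .fwd 15441, .fwd 15645, .fwd 15646, .fwd 15647, .fwd 15648, .fwd 15649, .fwd 15650, .fwd 15651, .fwd 15652, .fwd 15653, .fwd 15654, .fwd 15655, .fwd 15656, .fwd 15657, .fwd 15658, .fwd 15659, .fwd 15660, .fwd 15661, .fwd 15662, .fwd 15663, .fwd 15664, .fwd 15665, .fwd 15666, .fwd 15667, .fwd 15668, .fwd 15669, .fwd 15670],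
   .loop (some (11, 1)) [.fwd 15505, .bwd 13330, .bwd 13095],
   .define,
   .define,
   .loop (some (21, 4)) [.bwd 15357, .fwd 9960, .fwd 9961, .fwd 9962, .fwd 9953, .fwd 9954, .fwd 15673, .fwd 15674],
   .define,
   .loop (some (20, 3)) [.bwd 2504, .bwd 12652, .fwd 14127, .fwd 13613, .bwd 9963, .fwd 9968, .bwd 13333, .fwd 15676],
   .loop (some (13, 2)) [.bwd 9953, .fwd 10980, .fwd 15357],
   .define,
   .define,
   .define,
   .define,
   .define,
   .define,
   .define,
   .define,
   .define,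
   .define,
   .define,
   .define,
   .define,
   .define,
   .define,
   .define,
   .define,
   .define,
   .define,
   .define,
   .define,
   .define,
   .define,
   .define,
   .define,
   .define,
   .loop (some (22, 29)) [.bwd 13583, .bwd 9953, .fwd 6986, .fwd 9978, .bwd 10014, .fwd 15679, .fwd 15680, .fwd 15681, .fwd 15682, .fwd 15683, .fwd 15684, .fwd 15685, .fwd 15686, .fwd 15687, .fwd 15688, .fwd 15689, .fwd 15690, .fwd 15691, .fwd 15692, .fwd 15693, .fwd 15694, .fwd 15695, .fwd 15696, .fwd 15697, .fwd 15698, .fwd 15699, .fwd 15700, .fwd 15701, .fwd 15702, .fwd 15703, .fwd 15704],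
   .define,
   .define,
   .loop (some (21, 4)) [.bwd 13691, .fwd 733, .fwd 734, .fwd 735, .fwd 1703, .fwd 1704, .fwd 13182, .fwd 15707],
   .define,
   .loop (some (20, 2)) [.fwd 13404, .fwd 914, .bwd 5970, .fwd 7794, .fwd 858, .bwd 736, .fwd 748, .fwd 15709],
   .loop (some (5, 2)) [.fwd 15459, .bwd 748, .bwd 735, .bwd 15394],
   .loop none [.bwd 15711],
   .loop none [.bwd 15459, .bwd 15712],
   .loop none [.fwd 15458, .bwd 15712],
   .define,
   .define,
   .loop (some (18, 3)) [.bwd 13115, .bwd 1703, .bwd 9985, .fwd 15715, .fwd 15716],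
   .define,
   .define,
   .define,
   .define,
   .define,
   .define,
   .define,
   .define,
   .define,
   .define,
   .define,
   .define,
   .define,
   .define,
   .define,
   .define,
   .define,
   .define,
   .define,
   .define,
   .define,
   .define,
   .define,
   .define,
   .define,
   .loop (some (22, 29)) [.bwd 13115, .bwd 1703, .bwd 720, .fwd 702, .bwd 12173, .fwd 14336, .fwd 15718, .fwd 15719, .fwd 15720, .fwd 15721, .fwd 15722, .fwd 15723, .fwd 15724, .fwd 15725, .fwd 15726, .fwd 15727, .fwd 15728, .fwd 15729, .fwd 15730, .fwd 15731, .fwd 15732, .fwd 15733, .fwd 15734, .fwd 15735, .fwd 15736, .fwd 15737, .fwd 15738, .fwd 15739, .fwd 15740, .fwd 15741, .fwd 15742],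
   .loop (some (9, 2)) [.bwd 748, .fwd 7740, .bwd 15323],
   .define,
   .define,
   .define,
   .loop (some (19, 5)) [.bwd 6331, .fwd 13745, .fwd 15050, .fwd 15745, .fwd 15746, .fwd 15747],
   .define]

theorem just62_len : just62.length = 250 := by decide +kernel

theorem just62_ok : cert.okFacts 15500 just62 = true := by decide +kernel

/-- justifications -/
noncomputable def just63 : List Cert.Just :=
  [.define,
   .define,
   .loop (some (21, 5)) [.fwd 15747, .fwd 15748, .bwd 6331, .bwd 6346, .bwd 1599, .fwd 15749, .fwd 15750, .fwd 15751],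
   .define,
   .define,
   .define,
   .loop (some (21, 4)) [.bwd 15402, .fwd 735, .fwd 721, .fwd 730, .fwd 13586, .fwd 15753, .fwd 15754, .fwd 15755],
   .define,
   .loop (some (20, 5)) [.bwd 847, .bwd 785, .fwd 7742, .bwd 13565, .fwd 14587, .bwd 10966, .bwd 930, .fwd 15757],
   .define,
   .define,
   .define,
   .loop (some (18, 4)) [.bwd 13586, .fwd 750, .fwd 10116, .fwd 15760, .fwd 15761],
   .define,
   .loop (some (4, 2)) [.bwd 13586, .bwd 7742, .fwd 15763],
   .define,
   .define,
   .define,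
   .define,
   .define,
   .define,
   .define,
   .define,
   .define,
   .define,
   .define,
   .define,
   .define,
   .define,
   .define,
   .define,
   .define,
   .define,
   .define,
   .define,
   .define,
   .define,
   .define,
   .loop (some (22, 29)) [.fwd 15762, .bwd 13586, .bwd 7719, .bwd 13572, .fwd 12162, .fwd 12181, .fwd 14154, .bwd 14155, .fwd 15765, .fwd 15766, .fwd 15767, .fwd 15768, .fwd 15769, .fwd 15770, .fwd 15771, .fwd 15772, .fwd 15773, .fwd 15774, .fwd 15775, .fwd 15776, .fwd 15777, .fwd 15778, .fwd 15779, .fwd 15780, .fwd 15781, .fwd 15782, .fwd 15783, .fwd 15784, .fwd 15785, .fwd 15786, .fwd 15787],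
   .define,
   .loop (some (15, 1)) [.fwd 10014, .bwd 9978, .bwd 750, .fwd 15789],
   .loop (some (9, 2)) [.fwd 13565, .bwd 7743, .bwd 15353],
   .define,
   .define,
   .define,
   .define,
   .loop (some (21, 4)) [.bwd 1703, .fwd 721, .fwd 730, .fwd 731, .fwd 13646, .fwd 15793, .fwd 15794, .fwd 15795],
   .define,
   .define,
   .define,
   .define,
   .loop (some (20, 5)) [.bwd 7783, .bwd 7764, .fwd 7744, .bwd 13620, .fwd 15797, .fwd 15798, .fwd 15799, .fwd 15800],
   .define,
   .loop (some (1, 2)) [.bwd 13646, .bwd 13620, .fwd 15802],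
   .define,
   .define,
   .define,
   .loop (some (18, 4)) [.bwd 13646, .fwd 10981, .fwd 15804, .fwd 15805, .fwd 15806],
   .define,
   .loop (some (4, 2)) [.bwd 13646, .bwd 7744, .fwd 15808],
   .define,
   .define,
   .define,
   .define,
   .define,
   .define,
   .define,
   .define,
   .define,
   .define,
   .define,
   .define,
   .define,
   .define,
   .define,
   .define,
   .define,
   .define,
   .define,
   .define,
   .define,
   .define,
   .define,
   .define,
   .define,
   .define,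
   .loop (some (22, 29)) [.fwd 15807, .bwd 13646, .fwd 7720, .bwd 13627, .bwd 14802, .fwd 15810, .fwd 15811, .fwd 15812, .fwd 15813, .fwd 15814, .fwd 15815, .fwd 15816, .fwd 15817, .fwd 15818, .fwd 15819, .fwd 15820, .fwd 15821, .fwd 15822, .fwd 15823, .fwd 15824, .fwd 15825, .fwd 15826, .fwd 15827, .fwd 15828, .fwd 15829, .fwd 15830, .fwd 15831, .fwd 15832, .fwd 15833, .fwd 15834, .fwd 15835],
   .define,
   .loop (some (15, 1)) [.bwd 11786, .bwd 10993, .bwd 10981, .fwd 15837],
   .define,
   .define,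
   .define,
   .define,
   .define,
   .loop (some (20, 5)) [.fwd 7803, .bwd 7766, .fwd 7745, .bwd 15323, .fwd 15840, .fwd 15841, .fwd 15842, .fwd 15843],
   .loop (some (5, 3)) [.fwd 15323, .bwd 732, .bwd 13620, .fwd 15456],
   .loop none [.fwd 15845],
   .loop none [.bwd 15457, .bwd 15846],
   .define,
   .loop (some (1, 2)) [.bwd 13691, .bwd 15323, .fwd 15848],
   .define,
   .define,
   .loop (some (18, 4)) [.bwd 13691, .fwd 10982, .bwd 9982, .fwd 15850, .fwd 15851],
   .loop (some (13, 2)) [.bwd 13691, .fwd 7746, .fwd 15402],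
   .define,
   .loop (some (4, 2)) [.bwd 13691, .bwd 7745, .fwd 15854],
   .define,
   .define,
   .define,
   .define,
   .define,
   .define,
   .define,
   .define,
   .define,
   .define,
   .define,
   .define,
   .define,
   .define,
   .define,
   .define,
   .define,
   .define,
   .define,
   .define,
   .define,
   .define,
   .define,
   .define,
   .define,
   .loop (some (22, 29)) [.fwd 15852, .bwd 13691, .fwd 7723, .bwd 13684, .fwd 14814, .bwd 12172, .fwd 15856, .fwd 15857, .fwd 15858, .fwd 15859, .fwd 15860, .fwd 15861, .fwd 15862, .fwd 15863, .fwd 15864, .fwd 15865, .fwd 15866, .fwd 15867, .fwd 15868, .fwd 15869, .fwd 15870, .fwd 15871, .fwd 15872, .fwd 15873, .fwd 15874, .fwd 15875, .fwd 15876, .fwd 15877, .fwd 15878, .fwd 15879, .fwd 15880],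
   .define,
   .loop (some (15, 1)) [.bwd 11782, .fwd 11773, .bwd 10982, .fwd 15882],
   .define,
   .define,
   .define,
   .loop (some (21, 4)) [.bwd 13586, .fwd 731, .fwd 732, .fwd 733, .bwd 741, .bwd 15607, .fwd 15885, .fwd 15886],
   .define,
   .loop (some (20, 2)) [.bwd 13780, .bwd 11032, .bwd 11276, .fwd 7799, .bwd 7769, .fwd 7748, .bwd 15353, .fwd 15888],
   .loop (some (5, 3)) [.fwd 15353, .bwd 733, .bwd 15323, .fwd 15847],
   .loop none [.fwd 15890],
   .loop none [.fwd 15462, .bwd 15891],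
   .loop none [.fwd 15714, .bwd 15891],
   .loop none [.fwd 15847, .bwd 15891],
   .loop (some (1, 2)) [.fwd 15591, .fwd 741, .bwd 15353, .fwd 15892],
   .loop none [.bwd 15895],
   .loop none [.bwd 15591, .bwd 15896],
   .loop none [.fwd 15590, .bwd 15896],
   .define,
   .define,
   .loop (some (18, 3)) [.bwd 15602, .fwd 741, .fwd 10985, .fwd 15899, .fwd 15900],
   .define,
   .define,
   .define,
   .define,
   .define,
   .define,
   .define,
   .define,
   .define,
   .define,
   .define,
   .define,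
   .define,
   .define,
   .define,
   .define,
   .define,
   .define,
   .define,
   .define,
   .define,
   .define,
   .define,
   .define,
   .define,
   .define,
   .loop (some (22, 29)) [.bwd 15602, .fwd 741, .fwd 7724, .bwd 13701, .fwd 14812, .fwd 15902, .fwd 15903, .fwd 15904, .fwd 15905, .fwd 15906, .fwd 15907, .fwd 15908, .fwd 15909, .fwd 15910, .fwd 15911, .fwd 15912, .fwd 15913, .fwd 15914, .fwd 15915, .fwd 15916, .fwd 15917, .fwd 15918, .fwd 15919, .fwd 15920, .fwd 15921, .fwd 15922, .fwd 15923, .fwd 15924, .fwd 15925, .fwd 15926, .fwd 15927],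
   .define,
   .loop (some (15, 1)) [.bwd 11783, .fwd 11770, .bwd 10985, .fwd 15929],
   .define,
   .loop (some (21, 2)) [.fwd 13341, .bwd 13751, .bwd 13646, .fwd 732, .fwd 733, .fwd 734, .fwd 15402, .fwd 15931],
   .define,
   .loop (some (20, 2)) [.bwd 13782, .fwd 8201, .bwd 8913, .fwd 7797, .bwd 7772, .bwd 7738, .bwd 15394, .fwd 15933],
   .define,
   .loop (some (1, 2)) [.bwd 15402, .bwd 15394, .fwd 15935],
   .define,
   .define,
   .define,
   .loop (some (18, 4)) [.bwd 15402, .fwd 10987, .fwd 15937, .fwd 15938, .fwd 15939],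
   .loop (some (13, 2)) [.bwd 15402, .bwd 7730, .fwd 1703],
   .define,
   .loop (some (4, 2)) [.bwd 15402, .fwd 7738, .fwd 15942],
   .define,
   .define,
   .define,
   .define,
   .define,
   .define,
   .define,
   .define,
   .define,
   .define,
   .define,
   .define,
   .define,
   .define,
   .define,
   .define,
   .define,
   .define,
   .define,
   .define,
   .define,
   .define,
   .define,
   .define,
   .define,
   .define,
   .loop (some (22, 29)) [.fwd 15940, .bwd 15402, .bwd 7665, .fwd 13042, .fwd 14815, .fwd 15944, .fwd 15945, .fwd 15946, .fwd 15947, .fwd 15948, .fwd 15949, .fwd 15950, .fwd 15951, .fwd 15952, .fwd 15953, .fwd 15954, .fwd 15955, .fwd 15956, .fwd 15957, .fwd 15958, .fwd 15959, .fwd 15960, .fwd 15961, .fwd 15962, .fwd 15963, .fwd 15964, .fwd 15965, .fwd 15966, .fwd 15967, .fwd 15968, .fwd 15969],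
   .define,
   .loop (some (15, 1)) [.bwd 11780, .fwd 11768, .bwd 10987, .fwd 15971],
   .loop (some (9, 2)) [.fwd 15394, .bwd 7730, .fwd 748],
   .define,
   .define,
   .loop (some (20, 3)) [.bwd 10008, .bwd 9998, .fwd 11020, .fwd 9985, .fwd 736, .fwd 783, .bwd 10028, .fwd 15975],
   .define,
   .loop (some (5, 2)) [.bwd 783, .bwd 767, .fwd 15977],
   .define,
   .loop (some (1, 2)) [.bwd 1682, .fwd 783, .fwd 15979],
   .loop (some (13, 2)) [.bwd 1682, .bwd 7755, .fwd 15854],
   .define,
   .define,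
   .define,
   .define,
   .define,
   .define,
   .define,
   .define,
   .define,
   .define,
   .define,
   .define,
   .define,
   .define,
   .define,
   .define,
   .define,
   .define]

theorem just63_len : just63.length = 250 := by decide +kernel

theorem just63_ok : cert.okFacts 15750 just63 = true := by decide +kernel

/-- justifications -/
noncomputable def just64 : List Cert.Just :=
  [.define,
   .define,
   .define,
   .define,
   .define,
   .define,
   .define,
   .define,
   .loop (some (22, 29)) [.bwd 13123, .bwd 1682, .fwd 790, .fwd 1589, .fwd 15476, .fwd 15982, .fwd 15983, .fwd 15984, .fwd 15985, .fwd 15986, .fwd 15987, .fwd 15988, .fwd 15989, .fwd 15990, .fwd 15991, .fwd 15992, .fwd 15993, .fwd 15994, .fwd 15995, .fwd 15996, .fwd 15997, .fwd 15998, .fwd 15999, .fwd 16000, .fwd 16001, .fwd 16002, .fwd 16003, .fwd 16004, .fwd 16005, .fwd 16006, .fwd 16007],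
   .define,
   .loop (some (9, 2)) [.bwd 783, .bwd 7755, .fwd 16009],
   .define,
   .define,
   .define,
   .loop (some (19, 3)) [.fwd 15607, .bwd 740, .bwd 739, .fwd 16011, .fwd 16012, .fwd 16013],
   .define,
   .loop (some (21, 4)) [.bwd 15885, .fwd 15607, .bwd 740, .bwd 739, .bwd 738, .bwd 1702, .fwd 10950, .fwd 16015],
   .define,
   .define,
   .define,
   .define,
   .define,
   .loop (some (20, 6)) [.bwd 10132, .fwd 7673, .bwd 13352, .fwd 16017, .fwd 16018, .fwd 16019, .fwd 16020, .fwd 16021],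
   .loop (some (5, 2)) [.bwd 15460, .fwd 13352, .fwd 739, .bwd 15523],
   .loop none [.fwd 16023],
   .loop none [.bwd 15523, .bwd 16024],
   .define,
   .loop (some (8, 2)) [.fwd 11754, .fwd 16011, .fwd 16026],
   .define,
   .define,
   .define,
   .define,
   .define,
   .define,
   .define,
   .define,
   .define,
   .define,
   .define,
   .define,
   .define,
   .define,
   .define,
   .define,
   .define,
   .define,
   .loop (some (22, 22)) [.bwd 9760, .bwd 14281, .bwd 12352, .bwd 9732, .bwd 9731, .fwd 8377, .bwd 8332, .fwd 1758, .fwd 738, .fwd 7388, .bwd 12546, .bwd 13005, .bwd 13004, .fwd 16028, .fwd 16029, .fwd 16030, .fwd 16031, .fwd 16032, .fwd 16033, .fwd 16034, .fwd 16035, .fwd 16036, .fwd 16037, .fwd 16038, .fwd 16039, .fwd 16040, .fwd 16041, .fwd 16042, .fwd 16043, .fwd 16044, .fwd 16045],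
   .define,
   .define,
   .loop (some (15, 2)) [.fwd 13378, .fwd 11754, .fwd 16047, .fwd 16048],
   .define,
   .loop (some (9, 2)) [.fwd 13352, .bwd 10963, .fwd 16050],
   .define,
   .define,
   .define,
   .loop (some (21, 5)) [.fwd 16014, .fwd 15607, .bwd 740, .fwd 13339, .fwd 13340, .bwd 15932, .fwd 16053, .fwd 16054],
   .define,
   .define,
   .define,
   .define,
   .define,
   .loop (some (20, 6)) [.bwd 15549, .bwd 7756, .bwd 16025, .fwd 16056, .fwd 16057, .fwd 16058, .fwd 16059, .fwd 16060],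
   .loop (some (8, 2)) [.bwd 15534, .bwd 739, .bwd 11754],
   .define,
   .loop (some (1, 2)) [.bwd 13339, .bwd 16025, .fwd 16063],
   .define,
   .define,
   .define,
   .loop (some (18, 4)) [.bwd 13339, .fwd 15534, .fwd 16065, .fwd 16066, .fwd 16067],
   .define,
   .loop (some (14, 2)) [.bwd 16011, .fwd 739, .bwd 15586, .fwd 16069],
   .define,
   .loop (some (12, 2)) [.bwd 15534, .bwd 15586, .fwd 16071],
   .define,
   .loop (some (0, 1)) [.fwd 15586, .fwd 16073],
   .define,
   .loop (some (13, 2)) [.bwd 13339, .bwd 15586, .fwd 16075],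
   .define,
   .loop (some (4, 2)) [.bwd 13339, .fwd 7756, .fwd 16077],
   .define,
   .define,
   .define,
   .define,
   .define,
   .define,
   .define,
   .define,
   .define,
   .define,
   .define,
   .define,
   .define,
   .define,
   .define,
   .define,
   .define,
   .define,
   .define,
   .define,
   .define,
   .define,
   .define,
   .define,
   .define,
   .define,
   .loop (some (22, 29)) [.fwd 16068, .bwd 13339, .bwd 7737, .fwd 13719, .bwd 15533, .fwd 16079, .fwd 16080, .fwd 16081, .fwd 16082, .fwd 16083, .fwd 16084, .fwd 16085, .fwd 16086, .fwd 16087, .fwd 16088, .fwd 16089, .fwd 16090, .fwd 16091, .fwd 16092, .fwd 16093, .fwd 16094, .fwd 16095, .fwd 16096, .fwd 16097, .fwd 16098, .fwd 16099, .fwd 16100, .fwd 16101, .fwd 16102, .fwd 16103, .fwd 16104],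
   .define,
   .loop (some (11, 2)) [.bwd 7756, .bwd 15586, .fwd 16106],
   .define,
   .define,
   .define,
   .loop (some (15, 3)) [.bwd 15534, .fwd 16108, .fwd 16109, .fwd 16110],
   .define,
   .loop (some (9, 2)) [.fwd 16025, .bwd 15586, .fwd 16112],
   .define,
   .define,
   .loop (some (7, 2)) [.fwd 7749, .bwd 15607, .fwd 16115],
   .define,
   .loop (some (21, 5)) [.fwd 16013, .fwd 16014, .fwd 15607, .fwd 741, .bwd 733, .fwd 13691, .fwd 13749, .fwd 16117],
   .define,
   .define,
   .define,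
   .define,
   .define,
   .loop (some (20, 6)) [.bwd 15609, .fwd 7749, .bwd 15897, .fwd 16119, .fwd 16120, .fwd 16121, .fwd 16122, .fwd 16123],
   .define,
   .loop (some (8, 2)) [.bwd 15602, .bwd 740, .fwd 15534],
   .loop (some (12, 2)) [.bwd 15602, .bwd 13727, .bwd 15807],
   .define,
   .define,
   .define,
   .define,
   .define,
   .define,
   .define,
   .define,
   .define,
   .define,
   .define,
   .define,
   .define,
   .define,
   .define,
   .define,
   .define,
   .define,
   .define,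
   .define,
   .define,
   .define,
   .define,
   .define,
   .loop (some (22, 27)) [.fwd 11785, .fwd 11770, .bwd 10985, .bwd 741, .fwd 7725, .bwd 13709, .bwd 15601, .fwd 16128, .fwd 16129, .fwd 16130, .fwd 16131, .fwd 16132, .fwd 16133, .fwd 16134, .fwd 16135, .fwd 16136, .fwd 16137, .fwd 16138, .fwd 16139, .fwd 16140, .fwd 16141, .fwd 16142, .fwd 16143, .fwd 16144, .fwd 16145, .fwd 16146, .fwd 16147, .fwd 16148, .fwd 16149, .fwd 16150, .fwd 16151],
   .loop (some (11, 2)) [.fwd 7749, .bwd 13727, .bwd 15809],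
   .define,
   .define,
   .loop (some (15, 2)) [.fwd 15928, .bwd 15602, .fwd 16154, .fwd 16155],
   .loop (some (9, 2)) [.fwd 15897, .bwd 13727, .bwd 15803],
   .define,
   .define,
   .define,
   .define,
   .define,
   .define,
   .loop (some (19, 5)) [.fwd 9984, .fwd 16159, .fwd 16160, .fwd 16161, .fwd 16162, .fwd 16163],
   .define,
   .define,
   .define,
   .loop (some (21, 5)) [.fwd 16163, .fwd 16164, .fwd 9984, .bwd 7341, .bwd 10121, .fwd 16165, .fwd 16166, .fwd 16167],
   .loop (some (8, 1)) [.bwd 15709, .fwd 749, .fwd 742, .fwd 16159],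
   .loop none [.fwd 16169],
   .loop none [.bwd 16160, .bwd 16170],
   .define,
   .define,
   .define,
   .loop (some (19, 3)) [.fwd 11037, .fwd 8206, .bwd 4637, .fwd 16172, .fwd 16173, .fwd 16174],
   .define,
   .define,
   .loop (some (8, 1)) [.fwd 15758, .bwd 1472, .fwd 1470, .fwd 16172],
   .loop none [.fwd 16178],
   .loop none [.bwd 16173, .bwd 16179],
   .define,
   .loop (some (17, 3)) [.bwd 10998, .bwd 7736, .bwd 13715, .fwd 15450, .fwd 16181],
   .loop (some (7, 1)) [.fwd 15978, .bwd 7736, .bwd 15713],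
   .define,
   .define,
   .loop (some (21, 4)) [.bwd 15848, .bwd 15894, .fwd 15893, .fwd 15713, .fwd 12991, .fwd 12992, .fwd 16184, .fwd 16185],
   .define,
   .loop (some (2, 2)) [.bwd 15709, .bwd 13715, .fwd 16187],
   .define,
   .define,
   .define,
   .loop (some (18, 4)) [.bwd 12991, .fwd 15709, .fwd 16189, .fwd 16190, .fwd 16191],
   .loop (some (6, 2)) [.fwd 15449, .fwd 13715, .bwd 15713, .bwd 15393],
   .loop none [.bwd 16193],
   .loop none [.bwd 15449, .bwd 16194],
   .loop none [.fwd 15448, .bwd 16194],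
   .loop (some (12, 2)) [.bwd 15709, .bwd 15744, .fwd 15840],
   .loop (some (13, 2)) [.bwd 12991, .bwd 15744, .fwd 15848],
   .loop (some (4, 2)) [.bwd 12991, .fwd 7736, .fwd 15979],
   .define,
   .define,
   .define,
   .define,
   .define,
   .define,
   .define,
   .define,
   .define,
   .define,
   .define,
   .define,
   .define,
   .define,
   .define,
   .define,
   .define,
   .define,
   .define,
   .define,
   .define,
   .define,
   .define,
   .define,
   .define,
   .define,
   .define,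
   .loop (some (22, 29)) [.fwd 16192, .bwd 12991, .bwd 13715, .fwd 15450, .fwd 16200, .fwd 16201, .fwd 16202, .fwd 16203, .fwd 16204, .fwd 16205, .fwd 16206, .fwd 16207, .fwd 16208, .fwd 16209, .fwd 16210, .fwd 16211, .fwd 16212, .fwd 16213, .fwd 16214, .fwd 16215, .fwd 16216, .fwd 16217, .fwd 16218, .fwd 16219, .fwd 16220, .fwd 16221, .fwd 16222, .fwd 16223, .fwd 16224, .fwd 16225, .fwd 16226],
   .loop (some (15, 0)) [.bwd 914, .bwd 13404, .bwd 15710, .bwd 15709],
   .define,
   .define,
   .define,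
   .loop (some (21, 4)) [.bwd 15899, .fwd 9975, .fwd 9976, .fwd 9977, .fwd 10116, .fwd 10117, .fwd 16230, .fwd 16231],
   .define,
   .define,
   .define,
   .loop (some (20, 5)) [.fwd 15790, .fwd 10014, .bwd 9978, .fwd 9983, .bwd 14587, .fwd 16233, .fwd 16234, .fwd 16235],
   .loop (some (5, 1)) [.fwd 16164, .bwd 9983, .bwd 9977],
   .define,
   .loop (some (1, 2)) [.bwd 10116, .fwd 9983, .fwd 16238],
   .loop (some (13, 2)) [.bwd 10116, .fwd 10994, .fwd 15899],
   .define,
   .define,
   .define,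
   .define,
   .define,
   .define,
   .define,
   .define,
   .define]

theorem just64_len : just64.length = 250 := by decide +kernel

theorem just64_ok : cert.okFacts 16000 just64 = true := by decide +kernel

/-- justifications -/
noncomputable def just65 : List Cert.Just :=
  [.define,
   .define,
   .define,
   .define,
   .define,
   .define,
   .define,
   .define,
   .define,
   .define,
   .define,
   .define,
   .define,
   .define,
   .define,
   .define,
   .define,
   .loop (some (22, 29)) [.bwd 15760, .bwd 10116, .bwd 6986, .fwd 9963, .bwd 13613, .fwd 16241, .fwd 16242, .fwd 16243, .fwd 16244, .fwd 16245, .fwd 16246, .fwd 16247, .fwd 16248, .fwd 16249, .fwd 16250, .fwd 16251, .fwd 16252, .fwd 16253, .fwd 16254, .fwd 16255, .fwd 16256, .fwd 16257, .fwd 16258, .fwd 16259, .fwd 16260, .fwd 16261, .fwd 16262, .fwd 16263, .fwd 16264, .fwd 16265, .fwd 16266],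
   .define,
   .loop (some (9, 2)) [.bwd 9983, .fwd 10994, .fwd 16268],
   .define,
   .define,
   .define,
   .define,
   .define,
   .define,
   .loop (some (19, 5)) [.fwd 10009, .fwd 16271, .fwd 16272, .fwd 16273, .fwd 16274, .fwd 16275],
   .define,
   .define,
   .define,
   .loop (some (21, 5)) [.fwd 16275, .fwd 16276, .fwd 10009, .fwd 7028, .bwd 5969, .fwd 16277, .fwd 16278, .fwd 16279],
   .loop (some (8, 1)) [.fwd 5969, .fwd 780, .fwd 16271],
   .loop (some (14, 2)) [.bwd 16272, .bwd 16271, .bwd 7053, .fwd 16271],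
   .define,
   .define,
   .define,
   .define,
   .loop (some (16, 4)) [.bwd 7763, .fwd 16283, .fwd 16284, .fwd 16285, .fwd 16286],
   .define,
   .define,
   .define,
   .loop (some (21, 4)) [.bwd 15942, .fwd 767, .fwd 737, .fwd 762, .fwd 15763, .fwd 16288, .fwd 16289, .fwd 16290],
   .loop (some (20, 1)) [.fwd 16234, .fwd 16235, .fwd 16236, .fwd 15790, .fwd 10014, .bwd 9978, .bwd 750, .bwd 7742, .fwd 16283],
   .loop none [.fwd 16292],
   .loop none [.fwd 16283, .bwd 16293],
   .loop none [.bwd 16284, .bwd 16293],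
   .loop (some (5, 2)) [.fwd 16294, .bwd 762, .fwd 768],
   .define,
   .loop (some (1, 2)) [.bwd 15763, .bwd 16294, .fwd 16297],
   .define,
   .define,
   .loop (some (18, 4)) [.bwd 15763, .fwd 785, .fwd 916, .fwd 16299, .fwd 16300],
   .define,
   .loop (some (3, 2)) [.bwd 15763, .fwd 7763, .fwd 16302],
   .loop (some (13, 2)) [.bwd 15763, .fwd 7765, .bwd 777],
   .define,
   .define,
   .define,
   .define,
   .define,
   .define,
   .define,
   .define,
   .define,
   .define,
   .define,
   .define,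
   .define,
   .define,
   .define,
   .define,
   .define,
   .define,
   .define,
   .define,
   .define,
   .define,
   .loop (some (22, 29)) [.fwd 16301, .bwd 15763, .fwd 7763, .fwd 13566, .bwd 14109, .fwd 12192, .bwd 14154, .fwd 14130, .bwd 11488, .fwd 16305, .fwd 16306, .fwd 16307, .fwd 16308, .fwd 16309, .fwd 16310, .fwd 16311, .fwd 16312, .fwd 16313, .fwd 16314, .fwd 16315, .fwd 16316, .fwd 16317, .fwd 16318, .fwd 16319, .fwd 16320, .fwd 16321, .fwd 16322, .fwd 16323, .fwd 16324, .fwd 16325, .fwd 16326],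
   .loop (some (15, 0)) [.fwd 15757, .fwd 15758, .bwd 847, .bwd 785],
   .define,
   .loop (some (9, 2)) [.fwd 16294, .fwd 7765, .fwd 16329],
   .define,
   .define,
   .define,
   .define,
   .loop (some (16, 4)) [.fwd 7767, .fwd 16331, .fwd 16332, .fwd 16333, .fwd 16334],
   .define,
   .define,
   .define,
   .loop (some (21, 4)) [.bwd 1682, .fwd 737, .fwd 762, .fwd 763, .fwd 15808, .fwd 16336, .fwd 16337, .fwd 16338],
   .define,
   .define,
   .loop (some (20, 3)) [.fwd 15838, .bwd 11786, .bwd 10993, .bwd 10981, .bwd 7744, .fwd 16331, .fwd 16340, .fwd 16341],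
   .define,
   .loop (some (1, 2)) [.bwd 15808, .fwd 16331, .fwd 16343],
   .define,
   .define,
   .loop (some (18, 4)) [.bwd 15808, .fwd 7764, .fwd 13650, .fwd 16345, .fwd 16346],
   .define,
   .loop (some (3, 2)) [.bwd 15808, .bwd 7767, .fwd 16348],
   .define,
   .define,
   .define,
   .define,
   .define,
   .define,
   .define,
   .define,
   .define,
   .define,
   .define,
   .define,
   .define,
   .define,
   .define,
   .define,
   .define,
   .define,
   .define,
   .define,
   .define,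
   .define,
   .define,
   .define,
   .define,
   .define,
   .define,
   .loop (some (22, 29)) [.fwd 16347, .bwd 15808, .bwd 7767, .fwd 13621, .fwd 16350, .fwd 16351, .fwd 16352, .fwd 16353, .fwd 16354, .fwd 16355, .fwd 16356, .fwd 16357, .fwd 16358, .fwd 16359, .fwd 16360, .fwd 16361, .fwd 16362, .fwd 16363, .fwd 16364, .fwd 16365, .fwd 16366, .fwd 16367, .fwd 16368, .fwd 16369, .fwd 16370, .fwd 16371, .fwd 16372, .fwd 16373, .fwd 16374, .fwd 16375, .fwd 16376],
   .loop (some (15, 0)) [.fwd 15800, .fwd 15801, .bwd 7783, .bwd 7764],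
   .define,
   .define,
   .define,
   .loop (some (16, 4)) [.fwd 7770, .fwd 16009, .fwd 16379, .fwd 16380, .fwd 16381],
   .loop (some (21, 1)) [.fwd 11070, .bwd 1676, .bwd 1675, .bwd 757, .fwd 762, .fwd 763, .fwd 764, .fwd 15854],
   .define,
   .define,
   .loop (some (20, 3)) [.fwd 15883, .bwd 11782, .fwd 11773, .bwd 10982, .bwd 7745, .fwd 16009, .fwd 16384, .fwd 16385],
   .define,
   .define,
   .define,
   .loop (some (18, 4)) [.bwd 15854, .fwd 7766, .bwd 853, .fwd 16388, .fwd 16389],
   .define,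
   .loop (some (3, 2)) [.bwd 15854, .bwd 7770, .fwd 16391],
   .loop (some (13, 2)) [.bwd 15854, .bwd 7747, .fwd 15942],
   .define,
   .define,
   .define,
   .define,
   .define,
   .define,
   .define,
   .define,
   .define,
   .define,
   .define,
   .define,
   .define,
   .define,
   .define,
   .define,
   .define,
   .define,
   .define,
   .define,
   .define,
   .define,
   .define,
   .define,
   .define,
   .define,
   .define,
   .loop (some (22, 29)) [.fwd 16390, .bwd 15854, .bwd 7770, .fwd 15324, .fwd 16394, .fwd 16395, .fwd 16396, .fwd 16397, .fwd 16398, .fwd 16399, .fwd 16400, .fwd 16401, .fwd 16402, .fwd 16403, .fwd 16404, .fwd 16405, .fwd 16406, .fwd 16407, .fwd 16408, .fwd 16409, .fwd 16410, .fwd 16411, .fwd 16412, .fwd 16413, .fwd 16414, .fwd 16415, .fwd 16416, .fwd 16417, .fwd 16418, .fwd 16419, .fwd 16420],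
   .loop (some (15, 0)) [.fwd 15843, .fwd 15844, .fwd 7803, .bwd 7766],
   .define,
   .define,
   .define,
   .loop (some (16, 4)) [.fwd 7773, .fwd 16329, .fwd 16423, .fwd 16424, .fwd 16425],
   .define,
   .define,
   .define,
   .loop (some (20, 3)) [.fwd 15930, .bwd 11783, .fwd 11770, .bwd 10985, .bwd 7748, .fwd 16329, .fwd 16428, .fwd 16429],
   .loop (some (5, 2)) [.bwd 16329, .bwd 765, .fwd 16009],
   .define,
   .loop (some (1, 2)) [.fwd 777, .fwd 16329, .fwd 16432],
   .loop (some (18, 3)) [.bwd 15610, .bwd 15609, .fwd 777, .fwd 7769, .fwd 9158, .bwd 4851],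
   .loop none [.bwd 16434],
   .loop none [.bwd 15611, .bwd 16435],
   .loop none [.fwd 15610, .bwd 16435],
   .define,
   .define,
   .define,
   .define,
   .define,
   .define,
   .define,
   .define,
   .define,
   .define,
   .define,
   .define,
   .define,
   .define,
   .define,
   .define,
   .define,
   .define,
   .define,
   .define,
   .define,
   .define,
   .define,
   .define,
   .define,
   .define,
   .loop (some (22, 28)) [.fwd 16124, .bwd 15609, .fwd 777, .bwd 7773, .fwd 15354, .fwd 16438, .fwd 16439, .fwd 16440, .fwd 16441, .fwd 16442, .fwd 16443, .fwd 16444, .fwd 16445, .fwd 16446, .fwd 16447, .fwd 16448, .fwd 16449, .fwd 16450, .fwd 16451, .fwd 16452, .fwd 16453, .fwd 16454, .fwd 16455, .fwd 16456, .fwd 16457, .fwd 16458, .fwd 16459, .fwd 16460, .fwd 16461, .fwd 16462, .fwd 16463],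
   .define,
   .define,
   .define,
   .loop (some (16, 4)) [.bwd 7753, .fwd 15977, .fwd 16465, .fwd 16466, .fwd 16467],
   .define,
   .define,
   .define,
   .loop (some (21, 4)) [.bwd 15808, .fwd 764, .fwd 765, .fwd 766, .fwd 15942, .fwd 16469, .fwd 16470, .fwd 16471],
   .define,
   .define,
   .loop (some (20, 3)) [.fwd 15972, .bwd 11780, .fwd 11768, .bwd 10987, .fwd 7738, .fwd 15977, .fwd 16473, .fwd 16474],
   .loop (some (5, 2)) [.bwd 15977, .bwd 766, .fwd 16329],
   .define,
   .define,
   .define,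
   .loop (some (18, 4)) [.bwd 15942, .fwd 7772, .fwd 15406, .fwd 16478, .fwd 16479],
   .define,
   .loop (some (3, 2)) [.bwd 15942, .fwd 7753, .fwd 16481],
   .loop (some (13, 2)) [.bwd 15942, .bwd 7751, .fwd 1682],
   .define,
   .define,
   .define,
   .define,
   .define,
   .define,
   .define,
   .define,
   .define,
   .define,
   .define,
   .define,
   .define,
   .define,
   .define,
   .define]

theorem just65_len : just65.length = 250 := by decide +kernel

theorem just65_ok : cert.okFacts 16250 just65 = true := by decide +kernel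

/-- justifications -/
noncomputable def just66 : List Cert.Just :=
  [.define,
   .define,
   .define,
   .define,
   .define,
   .define,
   .define,
   .define,
   .define,
   .define,
   .define,
   .loop (some (22, 29)) [.fwd 16480, .bwd 15942, .fwd 7753, .fwd 15395, .fwd 16484, .fwd 16485, .fwd 16486, .fwd 16487, .fwd 16488, .fwd 16489, .fwd 16490, .fwd 16491, .fwd 16492, .fwd 16493, .fwd 16494, .fwd 16495, .fwd 16496, .fwd 16497, .fwd 16498, .fwd 16499, .fwd 16500, .fwd 16501, .fwd 16502, .fwd 16503, .fwd 16504, .fwd 16505, .fwd 16506, .fwd 16507, .fwd 16508, .fwd 16509, .fwd 16510],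
   .loop (some (9, 2)) [.bwd 15977, .bwd 7751, .fwd 783],
   .define,
   .define,
   .loop (some (8, 2)) [.bwd 4706, .fwd 7005, .fwd 16296, .fwd 16234],
   .loop none [.fwd 16515],
   .loop none [.bwd 7058, .fwd 16516, .fwd 16235],
   .loop none [.fwd 16517],
   .loop none [.fwd 16234, .bwd 16516],
   .loop none [.fwd 16281, .fwd 16518, .fwd 16236],
   .loop none [.bwd 16520],
   .loop none [.bwd 16281, .bwd 16521],
   .loop none [.bwd 16272, .bwd 16521],
   .loop none [.fwd 16271, .bwd 16521],
   .loop none [.bwd 16282, .bwd 16521],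
   .define,
   .define,
   .define,
   .define,
   .define,
   .loop (some (19, 5)) [.fwd 10046, .fwd 16526, .fwd 16527, .fwd 16528, .fwd 16529, .fwd 16530],
   .loop (some (7, 2)) [.bwd 6266, .bwd 10046, .bwd 16182],
   .define,
   .loop (some (8, 1)) [.fwd 10030, .fwd 7059, .fwd 16526],
   .define,
   .define,
   .define,
   .define,
   .define,
   .loop (some (19, 5)) [.bwd 12722, .fwd 16535, .fwd 16536, .fwd 16537, .fwd 16538, .fwd 16539],
   .define,
   .define,
   .define,
   .loop (some (21, 5)) [.fwd 16539, .fwd 16540, .bwd 12722, .bwd 7475, .bwd 12708, .fwd 16541, .fwd 16542, .fwd 16543],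
   .loop (some (8, 1)) [.fwd 10044, .fwd 7499, .fwd 16535],
   .define,
   .define,
   .define,
   .define,
   .define,
   .loop (some (19, 5)) [.fwd 1599, .fwd 16546, .fwd 16547, .fwd 16548, .fwd 16549, .fwd 16550],
   .define,
   .define,
   .define,
   .loop (some (21, 5)) [.fwd 16550, .fwd 16551, .fwd 1599, .fwd 6346, .fwd 6331, .fwd 16552, .fwd 16553, .fwd 16554],
   .loop (some (8, 1)) [.bwd 7505, .fwd 7502, .fwd 16546],
   .loop (some (14, 2)) [.bwd 16547, .bwd 16546, .bwd 1632, .fwd 16546],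
   .define,
   .loop (some (21, 4)) [.bwd 11000, .fwd 1678, .fwd 1679, .fwd 1680, .fwd 774, .fwd 775, .fwd 16077, .fwd 16558],
   .define,
   .loop (some (5, 2)) [.bwd 1690, .bwd 1680, .fwd 16560],
   .loop (some (1, 2)) [.bwd 774, .fwd 1690, .fwd 16513],
   .define,
   .define,
   .define,
   .define,
   .define,
   .define,
   .define,
   .define,
   .define,
   .define,
   .define,
   .define,
   .define,
   .define,
   .define,
   .define,
   .define,
   .define,
   .define,
   .define,
   .define,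
   .define,
   .define,
   .loop (some (22, 28)) [.fwd 16022, .bwd 10132, .bwd 774, .bwd 1670, .fwd 1643, .bwd 6035, .bwd 14334, .bwd 13353, .fwd 16563, .fwd 16564, .fwd 16565, .fwd 16566, .fwd 16567, .fwd 16568, .fwd 16569, .fwd 16570, .fwd 16571, .fwd 16572, .fwd 16573, .fwd 16574, .fwd 16575, .fwd 16576, .fwd 16577, .fwd 16578, .fwd 16579, .fwd 16580, .fwd 16581, .fwd 16582, .fwd 16583, .fwd 16584, .fwd 16585],
   .define,
   .loop (some (9, 2)) [.bwd 1690, .bwd 8319, .fwd 16587],
   .define,
   .define,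
   .define,
   .loop (some (19, 3)) [.fwd 16116, .bwd 776, .bwd 775, .fwd 16589, .fwd 16590, .fwd 16591],
   .define,
   .define,
   .define,
   .loop (some (16, 4)) [.fwd 7780, .bwd 16562, .fwd 16593, .fwd 16594, .fwd 16595],
   .define,
   .define,
   .define,
   .loop (some (20, 3)) [.fwd 16048, .fwd 16049, .fwd 13378, .fwd 11754, .bwd 7673, .bwd 16562, .fwd 16598, .fwd 16599],
   .loop (some (5, 1)) [.bwd 16514, .fwd 16562, .fwd 775],
   .define,
   .define,
   .define,
   .define,
   .define,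
   .define,
   .define,
   .define,
   .define,
   .define,
   .define,
   .define,
   .define,
   .define,
   .define,
   .define,
   .define,
   .define,
   .define,
   .define,
   .define,
   .define,
   .define,
   .define,
   .define,
   .define,
   .loop (some (22, 28)) [.fwd 13346, .bwd 12547, .fwd 774, .bwd 7780, .fwd 13718, .fwd 16602, .fwd 16603, .fwd 16604, .fwd 16605, .fwd 16606, .fwd 16607, .fwd 16608, .fwd 16609, .fwd 16610, .fwd 16611, .fwd 16612, .fwd 16613, .fwd 16614, .fwd 16615, .fwd 16616, .fwd 16617, .fwd 16618, .fwd 16619, .fwd 16620, .fwd 16621, .fwd 16622, .fwd 16623, .fwd 16624, .fwd 16625, .fwd 16626, .fwd 16627],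
   .loop (some (15, 0)) [.fwd 16020, .fwd 16021, .fwd 16022, .bwd 10132],
   .define,
   .define,
   .define,
   .define,
   .define,
   .loop (some (16, 4)) [.bwd 7781, .fwd 16601, .fwd 16632, .fwd 16633, .fwd 16634],
   .define,
   .define,
   .define,
   .define,
   .define,
   .loop (some (20, 3)) [.fwd 16109, .fwd 16110, .fwd 16111, .bwd 15534, .fwd 7756, .fwd 16601, .fwd 16639, .fwd 16640],
   .define,
   .loop (some (2, 2)) [.bwd 15549, .fwd 7781, .fwd 16642],
   .loop (some (8, 2)) [.bwd 15549, .bwd 775, .fwd 10132],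
   .define,
   .loop (some (1, 2)) [.bwd 16077, .fwd 16601, .fwd 16645],
   .define,
   .define,
   .loop (some (18, 4)) [.bwd 16077, .fwd 15549, .fwd 15550, .fwd 16647, .fwd 16648],
   .define,
   .loop (some (3, 2)) [.bwd 16077, .fwd 7781, .fwd 16650],
   .define,
   .loop (some (14, 2)) [.bwd 16589, .fwd 775, .bwd 16107, .fwd 16652],
   .define,
   .loop (some (12, 2)) [.bwd 15549, .bwd 16107, .fwd 16654],
   .define,
   .loop (some (0, 1)) [.fwd 16107, .fwd 16656],
   .define,
   .loop (some (13, 2)) [.bwd 16077, .bwd 16107, .fwd 16658],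
   .define,
   .define,
   .define,
   .define,
   .define,
   .define,
   .define,
   .define,
   .define,
   .define,
   .define,
   .define,
   .define,
   .define,
   .define,
   .define,
   .define,
   .define,
   .define,
   .define,
   .define,
   .define,
   .define,
   .define,
   .define,
   .define,
   .define,
   .loop (some (22, 29)) [.fwd 16649, .bwd 16077, .fwd 7781, .fwd 15524, .fwd 16660, .fwd 16661, .fwd 16662, .fwd 16663, .fwd 16664, .fwd 16665, .fwd 16666, .fwd 16667, .fwd 16668, .fwd 16669, .fwd 16670, .fwd 16671, .fwd 16672, .fwd 16673, .fwd 16674, .fwd 16675, .fwd 16676, .fwd 16677, .fwd 16678, .fwd 16679, .fwd 16680, .fwd 16681, .fwd 16682, .fwd 16683, .fwd 16684, .fwd 16685, .fwd 16686],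
   .loop (some (15, 0)) [.fwd 16059, .fwd 16060, .fwd 16061, .bwd 15549],
   .define,
   .loop (some (9, 2)) [.bwd 16601, .bwd 16107, .fwd 16689],
   .define,
   .loop (some (10, 2)) [.bwd 7781, .bwd 16107, .fwd 16691],
   .define,
   .define,
   .define,
   .define,
   .loop (some (16, 4)) [.fwd 7774, .bwd 16433, .fwd 16694, .fwd 16695, .fwd 16696],
   .define,
   .define,
   .define,
   .loop (some (20, 3)) [.fwd 16155, .fwd 16156, .fwd 15928, .bwd 15602, .bwd 7749, .bwd 16433, .fwd 16699, .fwd 16700],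
   .define,
   .loop (some (2, 2)) [.bwd 15609, .bwd 7774, .fwd 16702],
   .define,
   .loop (some (5, 2)) [.fwd 16433, .bwd 16116, .fwd 16704],
   .loop (some (8, 2)) [.bwd 15609, .bwd 776, .fwd 15549],
   .define,
   .loop (some (6, 2)) [.fwd 7774, .bwd 16116, .fwd 16707],
   .loop (some (14, 2)) [.fwd 10991, .fwd 775, .fwd 776, .bwd 16153, .bwd 16472],
   .loop none [.fwd 16709],
   .loop none [.fwd 16559, .fwd 16710, .bwd 16471],
   .loop none [.bwd 16711],
   .loop none [.bwd 16472, .bwd 16710],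
   .loop none [.fwd 16470, .fwd 16712, .fwd 16636],
   .loop none [.fwd 16714],
   .loop none [.fwd 16558, .bwd 16712],
   .loop none [.bwd 16559, .bwd 16712],
   .loop none [.bwd 16637, .bwd 16715],
   .loop (some (12, 2)) [.bwd 15609, .bwd 16153, .bwd 16347],
   .define,
   .define,
   .define,
   .define,
   .define,
   .define,
   .define,
   .define,
   .define,
   .define,
   .define,
   .define,
   .define,
   .define,
   .define,
   .define,
   .define,
   .define,
   .define,
   .define,
   .define,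
   .define,
   .define,
   .define,
   .define,
   .loop (some (22, 27)) [.fwd 8254, .fwd 7799, .bwd 7769, .bwd 777, .bwd 7774, .fwd 15592, .fwd 16720, .fwd 16721, .fwd 16722, .fwd 16723, .fwd 16724, .fwd 16725, .fwd 16726, .fwd 16727, .fwd 16728, .fwd 16729, .fwd 16730, .fwd 16731, .fwd 16732, .fwd 16733, .fwd 16734, .fwd 16735, .fwd 16736, .fwd 16737, .fwd 16738, .fwd 16739, .fwd 16740, .fwd 16741, .fwd 16742, .fwd 16743, .fwd 16744],
   .loop (some (15, 0)) [.fwd 16122, .fwd 16123, .fwd 16124, .bwd 15609],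
   .loop (some (9, 2)) [.fwd 16433, .bwd 16153, .bwd 16344],
   .loop (some (10, 2)) [.fwd 7774, .bwd 16153, .bwd 16349],
   .define]

theorem just66_len : just66.length = 250 := by decide +kernel

theorem just66_ok : cert.okFacts 16500 just66 = true := by decide +kernel

/-- justifications -/
noncomputable def just67 : List Cert.Just :=
  [.define,
   .define,
   .define,
   .define,
   .define,
   .loop (some (19, 5)) [.fwd 5969, .fwd 16750, .fwd 16751, .fwd 16752, .fwd 16753, .fwd 16754],
   .define,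
   .define,
   .define,
   .loop (some (21, 5)) [.fwd 16754, .fwd 16755, .fwd 5969, .bwd 7028, .bwd 10009, .fwd 16756, .fwd 16757, .fwd 16758],
   .loop (some (8, 1)) [.fwd 15976, .fwd 10009, .bwd 780, .fwd 16750],
   .loop none [.fwd 16760],
   .loop none [.bwd 16751, .bwd 16761],
   .loop none [.fwd 16750, .bwd 16761],
   .define,
   .define,
   .define,
   .loop (some (21, 4)) [.bwd 16387, .fwd 16431, .fwd 16476, .fwd 15978, .fwd 15979, .fwd 16764, .fwd 16765, .fwd 16766],
   .define,
   .define,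
   .define,
   .loop (some (18, 4)) [.bwd 15979, .bwd 10028, .fwd 16768, .fwd 16769, .fwd 16770],
   .loop (some (6, 2)) [.fwd 16531, .bwd 10998, .bwd 15978, .fwd 16465],
   .loop none [.bwd 16772],
   .loop none [.bwd 16531, .bwd 16773],
   .loop none [.fwd 16530, .bwd 16773],
   .define,
   .loop (some (12, 2)) [.bwd 11813, .fwd 10028, .bwd 16010, .fwd 16384],
   .loop none [.fwd 16777],
   .loop none [.bwd 16385, .bwd 16778],
   .loop none [.fwd 16384, .bwd 16778],
   .loop (some (13, 2)) [.bwd 15979, .bwd 16010, .fwd 16387],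
   .define,
   .define,
   .define,
   .define,
   .define,
   .define,
   .define,
   .define,
   .define,
   .define,
   .define,
   .define,
   .define,
   .define,
   .define,
   .define,
   .define,
   .define,
   .define,
   .define,
   .define,
   .define,
   .define,
   .define,
   .define,
   .define,
   .define,
   .loop (some (22, 29)) [.fwd 16771, .bwd 15979, .fwd 10998, .bwd 16182, .fwd 16782, .fwd 16783, .fwd 16784, .fwd 16785, .fwd 16786, .fwd 16787, .fwd 16788, .fwd 16789, .fwd 16790, .fwd 16791, .fwd 16792, .fwd 16793, .fwd 16794, .fwd 16795, .fwd 16796, .fwd 16797, .fwd 16798, .fwd 16799, .fwd 16800, .fwd 16801, .fwd 16802, .fwd 16803, .fwd 16804, .fwd 16805, .fwd 16806, .fwd 16807, .fwd 16808],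
   .loop (some (15, 0)) [.fwd 10008, .bwd 15976, .bwd 15975, .fwd 10028],
   .define,
   .define,
   .define,
   .loop (some (21, 4)) [.bwd 9158, .fwd 837, .fwd 838, .fwd 839, .fwd 916, .fwd 917, .fwd 16812, .fwd 16813],
   .loop (some (4, 2)) [.bwd 916, .fwd 847, .fwd 16176],
   .define,
   .define,
   .define,
   .define,
   .define,
   .define,
   .define,
   .define,
   .define,
   .define,
   .define,
   .define,
   .define,
   .define,
   .define,
   .define,
   .define,
   .define,
   .define,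
   .define,
   .define,
   .define,
   .define,
   .define,
   .define,
   .define,
   .loop (some (22, 29)) [.bwd 16299, .bwd 916, .fwd 861, .bwd 1520, .bwd 7822, .fwd 16816, .fwd 16817, .fwd 16818, .fwd 16819, .fwd 16820, .fwd 16821, .fwd 16822, .fwd 16823, .fwd 16824, .fwd 16825, .fwd 16826, .fwd 16827, .fwd 16828, .fwd 16829, .fwd 16830, .fwd 16831, .fwd 16832, .fwd 16833, .fwd 16834, .fwd 16835, .fwd 16836, .fwd 16837, .fwd 16838, .fwd 16839, .fwd 16840, .fwd 16841],
   .define,
   .define,
   .define,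
   .define,
   .loop (some (19, 4)) [.fwd 16561, .fwd 1691, .fwd 13760, .fwd 16844, .fwd 16845, .fwd 16846],
   .define,
   .loop (some (21, 5)) [.fwd 16847, .fwd 16561, .fwd 1691, .bwd 787, .bwd 784, .fwd 15979, .fwd 16764, .fwd 16848],
   .define,
   .define,
   .define,
   .define,
   .loop (some (20, 6)) [.bwd 15476, .bwd 1589, .fwd 1598, .bwd 13527, .fwd 16850, .fwd 16851, .fwd 16852, .fwd 16853],
   .loop (some (5, 2)) [.fwd 16551, .bwd 1598, .bwd 1588, .bwd 16468],
   .loop none [.bwd 16855],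
   .loop none [.bwd 16551, .bwd 16856],
   .loop none [.fwd 16550, .bwd 16856],
   .loop (some (1, 2)) [.bwd 1645, .fwd 1598, .fwd 15749],
   .define,
   .loop (some (18, 4)) [.bwd 1645, .bwd 1553, .fwd 13764, .fwd 15203, .fwd 16860],
   .loop (some (13, 2)) [.bwd 1645, .bwd 7787, .fwd 16391],
   .define,
   .define,
   .define,
   .define,
   .define,
   .define,
   .define,
   .define,
   .define,
   .define,
   .define,
   .define,
   .define,
   .define,
   .define,
   .define,
   .define,
   .define,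
   .define,
   .define,
   .define,
   .define,
   .define,
   .define,
   .define,
   .loop (some (22, 29)) [.fwd 16861, .bwd 1645, .bwd 790, .bwd 736, .bwd 9985, .fwd 15715, .fwd 16863, .fwd 16864, .fwd 16865, .fwd 16866, .fwd 16867, .fwd 16868, .fwd 16869, .fwd 16870, .fwd 16871, .fwd 16872, .fwd 16873, .fwd 16874, .fwd 16875, .fwd 16876, .fwd 16877, .fwd 16878, .fwd 16879, .fwd 16880, .fwd 16881, .fwd 16882, .fwd 16883, .fwd 16884, .fwd 16885, .fwd 16886, .fwd 16887],
   .loop (some (9, 2)) [.bwd 1598, .bwd 7787, .bwd 16382],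
   .define,
   .define,
   .define,
   .define,
   .define,
   .define,
   .loop (some (19, 5)) [.fwd 2930, .fwd 16891, .fwd 16892, .fwd 16893, .fwd 16894, .fwd 16895],
   .define,
   .define,
   .define,
   .loop (some (21, 5)) [.fwd 16895, .fwd 16896, .fwd 2930, .bwd 6321, .fwd 6322, .fwd 16897, .fwd 16898, .fwd 16899],
   .loop (some (8, 1)) [.bwd 15476, .fwd 1590, .fwd 803, .fwd 16891],
   .loop none [.fwd 16901],
   .loop none [.bwd 16892, .bwd 16902],
   .loop none [.fwd 16891, .bwd 16902],
   .define,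
   .define,
   .define,
   .define,
   .define,
   .loop (some (19, 5)) [.fwd 16532, .fwd 16905, .fwd 16906, .fwd 16907, .fwd 16908, .fwd 16909],
   .define,
   .loop (some (8, 1)) [.fwd 12714, .bwd 823, .fwd 16905],
   .define,
   .define,
   .define,
   .define,
   .define,
   .loop (some (19, 5)) [.fwd 12714, .fwd 16913, .fwd 16914, .fwd 16915, .fwd 16916, .fwd 16917],
   .define,
   .define,
   .define,
   .loop (some (21, 5)) [.fwd 16917, .fwd 16918, .fwd 12714, .bwd 7734, .bwd 16532, .fwd 16919, .fwd 16920, .fwd 16921],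
   .loop (some (8, 1)) [.bwd 16782, .fwd 16532, .fwd 823, .fwd 16913],
   .loop none [.fwd 16923],
   .loop none [.bwd 16914, .bwd 16924],
   .define,
   .define,
   .define,
   .define,
   .define,
   .loop (some (19, 5)) [.fwd 15451, .fwd 16926, .fwd 16927, .fwd 16928, .fwd 16929, .fwd 16930],
   .define,
   .define,
   .define,
   .loop (some (21, 5)) [.fwd 16930, .fwd 16931, .fwd 15451, .fwd 7710, .bwd 12981, .fwd 16932, .fwd 16933, .fwd 16934],
   .loop (some (8, 1)) [.fwd 12981, .bwd 7709, .fwd 16926],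
   .define,
   .define,
   .define,
   .define,
   .define,
   .loop (some (19, 5)) [.fwd 13456, .fwd 16937, .fwd 16938, .fwd 16939, .fwd 16940, .fwd 16941],
   .define,
   .define,
   .define,
   .loop (some (21, 5)) [.fwd 16941, .fwd 16942, .fwd 13456, .fwd 828, .bwd 13463, .fwd 16943, .fwd 16944, .fwd 16945],
   .loop (some (8, 1)) [.bwd 16187, .bwd 12982, .fwd 7707, .fwd 16937],
   .loop none [.fwd 16947],
   .loop none [.bwd 16938, .bwd 16948],
   .define,
   .define,
   .define,
   .define,
   .define,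
   .loop (some (19, 5)) [.fwd 13463, .fwd 16950, .fwd 16951, .fwd 16952, .fwd 16953, .fwd 16954],
   .define,
   .define,
   .define,
   .loop (some (21, 5)) [.fwd 16954, .fwd 16955, .fwd 13463, .bwd 828, .bwd 13456, .fwd 16956, .fwd 16957, .fwd 16958],
   .loop (some (8, 1)) [.fwd 12310, .fwd 7698, .fwd 16950],
   .define,
   .define,
   .define,
   .define,
   .loop (some (19, 5)) [.fwd 10121, .fwd 14029, .fwd 16961, .fwd 16962, .fwd 16963, .fwd 16964],
   .define,
   .define,
   .loop (some (21, 5)) [.fwd 16964, .fwd 16965, .fwd 10121, .fwd 7341, .bwd 9984, .fwd 16238, .fwd 16966, .fwd 16967],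
   .define,
   .define,
   .define,
   .loop (some (21, 4)) [.bwd 13650, .fwd 839, .fwd 786, .fwd 834, .fwd 13061, .fwd 16969, .fwd 16970, .fwd 16971],
   .loop (some (4, 1)) [.bwd 15483, .bwd 13061, .bwd 7794],
   .define,
   .define,
   .define,
   .define,
   .define,
   .define,
   .define,
   .define,
   .define,
   .define,
   .define,
   .define,
   .define,
   .define,
   .define,
   .define,
   .define,
   .define,
   .loop (some (22, 29)) [.bwd 13750, .bwd 13061, .bwd 7752, .bwd 8224, .fwd 1531, .fwd 4350, .fwd 8107, .fwd 4830, .fwd 4827, .fwd 2099, .bwd 8498, .bwd 8517, .fwd 8538, .fwd 16974, .fwd 16975, .fwd 16976, .fwd 16977, .fwd 16978, .fwd 16979, .fwd 16980, .fwd 16981, .fwd 16982, .fwd 16983, .fwd 16984, .fwd 16985, .fwd 16986, .fwd 16987, .fwd 16988, .fwd 16989, .fwd 16990, .fwd 16991],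
   .define,
   .define,
   .define,
   .loop (some (21, 4)) [.bwd 916, .fwd 786, .fwd 834, .fwd 835, .fwd 15406, .fwd 16993, .fwd 16994, .fwd 16995],
   .loop (some (20, 1)) [.bwd 16473, .bwd 16183, .fwd 15933, .fwd 15934, .bwd 13782, .fwd 8201, .bwd 8913, .fwd 7797, .bwd 11011],
   .loop none [.bwd 16997],
   .loop none [.bwd 16474, .bwd 16998]]

theorem just67_len : just67.length = 250 := by decide +kernel

theorem just67_ok : cert.okFacts 16750 just67 = true := by decide +kernel

/-- justifications -/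
noncomputable def just68 : List Cert.Just :=
  [.loop none [.fwd 16473, .bwd 16998],
   .define,
   .loop (some (1, 2)) [.bwd 15406, .bwd 11011, .fwd 17001],
   .loop (some (3, 1)) [.bwd 15407, .bwd 15406, .bwd 7798],
   .loop (some (13, 2)) [.bwd 15406, .bwd 864, .fwd 13061],
   .define,
   .loop (some (4, 2)) [.bwd 15406, .bwd 7797, .fwd 17005],
   .define,
   .define,
   .define,
   .define,
   .define,
   .define,
   .define,
   .define,
   .define,
   .define,
   .define,
   .define,
   .define,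
   .define,
   .define,
   .loop (some (22, 29)) [.bwd 16478, .bwd 15406, .bwd 7798, .fwd 8262, .fwd 8260, .bwd 4856, .bwd 8911, .bwd 4811, .bwd 4817, .fwd 4383, .bwd 4799, .bwd 8507, .fwd 2173, .fwd 2291, .bwd 8560, .bwd 8600, .fwd 17007, .fwd 17008, .fwd 17009, .fwd 17010, .fwd 17011, .fwd 17012, .fwd 17013, .fwd 17014, .fwd 17015, .fwd 17016, .fwd 17017, .fwd 17018, .fwd 17019, .fwd 17020, .fwd 17021],
   .define,
   .loop (some (20, 2)) [.fwd 15888, .fwd 15889, .bwd 13780, .bwd 11032, .bwd 11276, .fwd 7799, .bwd 11013, .fwd 17023],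
   .define,
   .loop (some (1, 2)) [.bwd 9158, .bwd 11013, .fwd 17025],
   .loop (some (3, 1)) [.bwd 15361, .bwd 9158, .bwd 7800],
   .define,
   .loop (some (4, 2)) [.bwd 9158, .bwd 7799, .fwd 17028],
   .define,
   .define,
   .define,
   .loop (some (21, 4)) [.bwd 13061, .fwd 835, .fwd 836, .fwd 837, .bwd 853, .fwd 17030, .fwd 17031, .fwd 17032],
   .loop (some (13, 2)) [.fwd 853, .bwd 7796, .fwd 15406],
   .define,
   .define,
   .define,
   .define,
   .define,
   .define,
   .define,
   .define,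
   .define,
   .define,
   .define,
   .define,
   .define,
   .define,
   .define,
   .define,
   .define,
   .define,
   .define,
   .define,
   .define,
   .define,
   .define,
   .define,
   .define,
   .define,
   .define,
   .loop (some (22, 29)) [.bwd 16388, .fwd 853, .bwd 7804, .fwd 8265, .fwd 17035, .fwd 17036, .fwd 17037, .fwd 17038, .fwd 17039, .fwd 17040, .fwd 17041, .fwd 17042, .fwd 17043, .fwd 17044, .fwd 17045, .fwd 17046, .fwd 17047, .fwd 17048, .fwd 17049, .fwd 17050, .fwd 17051, .fwd 17052, .fwd 17053, .fwd 17054, .fwd 17055, .fwd 17056, .fwd 17057, .fwd 17058, .fwd 17059, .fwd 17060, .fwd 17061],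
   .define,
   .define,
   .define,
   .loop (some (21, 4)) [.bwd 15406, .fwd 836, .fwd 837, .fwd 838, .fwd 13650, .fwd 17063, .fwd 17064, .fwd 17065],
   .define,
   .loop (some (20, 2)) [.fwd 15797, .fwd 15798, .fwd 15799, .fwd 15800, .fwd 15801, .bwd 7783, .fwd 11004, .fwd 17067],
   .define,
   .loop (some (1, 2)) [.bwd 13650, .fwd 11004, .fwd 17069],
   .define,
   .loop (some (4, 2)) [.bwd 13650, .fwd 7783, .fwd 17071],
   .define,
   .define,
   .define,
   .define,
   .define,
   .define,
   .define,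
   .define,
   .define,
   .define,
   .define,
   .define,
   .define,
   .define,
   .define,
   .loop (some (22, 29)) [.bwd 16345, .bwd 13650, .fwd 7784, .fwd 7818, .fwd 8247, .bwd 4350, .fwd 4604, .bwd 2098, .bwd 2100, .bwd 4383, .bwd 8489, .bwd 8511, .fwd 8535, .bwd 2225, .bwd 8580, .fwd 8845, .fwd 17073, .fwd 17074, .fwd 17075, .fwd 17076, .fwd 17077, .fwd 17078, .fwd 17079, .fwd 17080, .fwd 17081, .fwd 17082, .fwd 17083, .fwd 17084, .fwd 17085, .fwd 17086, .fwd 17087],
   .define,
   .define,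
   .define,
   .loop (some (21, 4)) [.bwd 17028, .fwd 5957, .fwd 5958, .fwd 5959, .fwd 16176, .fwd 16177, .fwd 17090, .fwd 17091],
   .loop (some (2, 2)) [.fwd 15758, .bwd 4774, .bwd 8042],
   .loop (some (5, 1)) [.fwd 16755, .bwd 5968, .bwd 5959],
   .define,
   .define,
   .define,
   .loop (some (18, 4)) [.bwd 16176, .bwd 15758, .fwd 17095, .fwd 17096, .fwd 17097],
   .loop (some (3, 2)) [.bwd 16176, .bwd 4774, .fwd 4785],
   .loop (some (12, 2)) [.fwd 15758, .bwd 7812, .fwd 11276],
   .loop (some (13, 2)) [.bwd 16176, .bwd 7812, .fwd 17028],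
   .define,
   .define,
   .define,
   .define,
   .define,
   .define,
   .define,
   .define,
   .define,
   .define,
   .define,
   .define,
   .define,
   .define,
   .define,
   .define,
   .define,
   .define,
   .define,
   .define,
   .define,
   .define,
   .define,
   .define,
   .define,
   .loop (some (22, 29)) [.fwd 17098, .bwd 16176, .bwd 4774, .bwd 1505, .bwd 4600, .fwd 8098, .fwd 17102, .fwd 17103, .fwd 17104, .fwd 17105, .fwd 17106, .fwd 17107, .fwd 17108, .fwd 17109, .fwd 17110, .fwd 17111, .fwd 17112, .fwd 17113, .fwd 17114, .fwd 17115, .fwd 17116, .fwd 17117, .fwd 17118, .fwd 17119, .fwd 17120, .fwd 17121, .fwd 17122, .fwd 17123, .fwd 17124, .fwd 17125, .fwd 17126],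
   .define,
   .loop (some (9, 2)) [.bwd 5968, .bwd 7812, .fwd 17128],
   .define,
   .define,
   .loop (some (21, 4)) [.bwd 7925, .fwd 904, .fwd 905, .fwd 906, .fwd 850, .fwd 851, .fwd 17130, .fwd 17131],
   .define,
   .loop (some (18, 2)) [.bwd 9272, .bwd 8022, .bwd 850, .bwd 13404, .fwd 17133],
   .define,
   .loop (some (11, 2)) [.bwd 914, .bwd 7835, .fwd 17135],
   .loop (some (15, 0)) [.bwd 16811, .bwd 7736, .fwd 15709, .fwd 15710, .fwd 13404],
   .loop none [.bwd 17137],
   .loop none [.fwd 16811, .bwd 17138],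
   .define,
   .define,
   .define,
   .loop (some (19, 3)) [.bwd 17030, .bwd 852, .bwd 851, .fwd 17140, .fwd 17141, .fwd 17142],
   .define,
   .loop (some (21, 4)) [.bwd 17031, .bwd 17030, .bwd 852, .bwd 851, .bwd 850, .bwd 906, .fwd 7957, .fwd 17144],
   .define,
   .define,
   .define,
   .define,
   .define,
   .define,
   .loop (some (20, 7)) [.fwd 7815, .bwd 11022, .fwd 17146, .fwd 17147, .fwd 17148, .fwd 17149, .fwd 17150, .fwd 17151],
   .define,
   .loop (some (8, 2)) [.bwd 8022, .fwd 17140, .fwd 17153],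
   .define,
   .define,
   .define,
   .define,
   .define,
   .define,
   .define,
   .define,
   .define,
   .define,
   .define,
   .define,
   .define,
   .define,
   .define,
   .define,
   .define,
   .define,
   .define,
   .loop (some (22, 27)) [.fwd 16188, .fwd 15710, .fwd 13404, .fwd 850, .bwd 7814, .bwd 7845, .fwd 8074, .fwd 1009, .bwd 7960, .fwd 7961, .bwd 4374, .bwd 16745, .fwd 17155, .fwd 17156, .fwd 17157, .fwd 17158, .fwd 17159, .fwd 17160, .fwd 17161, .fwd 17162, .fwd 17163, .fwd 17164, .fwd 17165, .fwd 17166, .fwd 17167, .fwd 17168, .fwd 17169, .fwd 17170, .fwd 17171, .fwd 17172, .fwd 17173],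
   .define,
   .loop (some (15, 1)) [.bwd 14892, .fwd 4515, .bwd 8022, .fwd 17175],
   .define,
   .define,
   .define,
   .define,
   .define,
   .loop (some (21, 5)) [.fwd 17143, .bwd 17030, .bwd 852, .fwd 17130, .fwd 17131, .fwd 17179, .fwd 17180, .fwd 17181],
   .define,
   .define,
   .define,
   .define,
   .define,
   .define,
   .loop (some (20, 7)) [.bwd 7816, .fwd 11023, .fwd 17183, .fwd 17184, .fwd 17185, .fwd 17186, .fwd 17187, .fwd 17188],
   .define,
   .define,
   .loop (some (2, 3)) [.fwd 7817, .fwd 17190, .fwd 17191],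
   .loop (some (8, 2)) [.fwd 17192, .bwd 851, .fwd 8022],
   .define,
   .loop (some (1, 2)) [.bwd 17130, .fwd 11023, .fwd 17194],
   .define,
   .define,
   .define,
   .loop (some (18, 4)) [.bwd 17130, .bwd 17192, .fwd 17196, .fwd 17197, .fwd 17198],
   .define,
   .loop (some (3, 2)) [.bwd 17130, .fwd 7817, .fwd 17200],
   .define,
   .define,
   .loop (some (14, 2)) [.bwd 17140, .fwd 851, .fwd 17202, .fwd 17203],
   .define,
   .loop (some (12, 2)) [.fwd 17192, .fwd 17202, .fwd 17205],
   .define,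
   .define,
   .loop (some (13, 2)) [.bwd 17130, .fwd 17202, .fwd 17208],
   .define,
   .loop (some (4, 2)) [.bwd 17130, .fwd 7816, .fwd 17210],
   .define,
   .define,
   .define,
   .define,
   .define,
   .loop (some (11, 2)) [.bwd 7816, .fwd 17202, .fwd 17216],
   .define,
   .define,
   .define,
   .loop (some (15, 3)) [.fwd 17192, .fwd 17218, .fwd 17219, .fwd 17220],
   .define,
   .loop (some (9, 2)) [.bwd 11023, .fwd 17202, .fwd 17222],
   .define,
   .loop (some (10, 2)) [.bwd 7817, .fwd 17202, .fwd 17224],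
   .define,
   .loop (some (7, 2)) [.fwd 7806, .fwd 17030, .fwd 17226],
   .define,
   .loop (some (21, 5)) [.fwd 17142, .fwd 17143, .bwd 17030, .fwd 853, .bwd 837, .fwd 9158, .fwd 11012, .fwd 17228],
   .define,
   .define,
   .define,
   .loop (some (20, 4)) [.bwd 5649, .bwd 5648, .bwd 9300, .fwd 7806, .bwd 11016, .fwd 17230, .fwd 17231, .fwd 17232],
   .define,
   .loop (some (2, 2)) [.bwd 16388, .bwd 7805, .fwd 17234],
   .define,
   .loop (some (5, 2)) [.fwd 11016, .fwd 17030, .fwd 17236],
   .loop (some (8, 2)) [.bwd 16388, .bwd 852, .bwd 17192],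
   .define,
   .loop (some (6, 2)) [.fwd 7805, .fwd 17030, .fwd 17239],
   .loop (some (14, 2)) [.fwd 9209, .fwd 851, .fwd 852, .bwd 17034, .bwd 17066],
   .loop none [.fwd 17241],
   .loop none [.fwd 17132, .fwd 17242, .bwd 17065],
   .loop none [.bwd 17243],
   .loop none [.bwd 17066, .bwd 17242],
   .loop none [.fwd 17064, .fwd 17244, .fwd 17179],
   .loop none [.fwd 17246],
   .loop none [.fwd 17131, .bwd 17244],
   .loop none [.bwd 17132, .bwd 17244]]

theorem just68_len : just68.length = 250 := by decide +kernel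

theorem just68_ok : cert.okFacts 17000 just68 = true := by decide +kernel

/-- justifications -/
noncomputable def just69 : List Cert.Just :=
  [.loop none [.bwd 17180, .bwd 17247],
   .loop (some (12, 2)) [.bwd 16388, .bwd 17034, .fwd 16478],
   .define,
   .define,
   .loop (some (15, 2)) [.fwd 17062, .bwd 16388, .fwd 17252, .fwd 17253],
   .loop (some (7, 1)) [.fwd 16755, .bwd 7058, .bwd 10023],
   .define,
   .define,
   .loop (some (21, 4)) [.bwd 17025, .fwd 10021, .fwd 10022, .fwd 10023, .fwd 10010, .fwd 10011, .fwd 17256, .fwd 17257],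
   .loop (some (2, 2)) [.bwd 16295, .bwd 16519, .fwd 10029, .bwd 16534],
   .loop none [.fwd 17259],
   .loop none [.bwd 16534, .bwd 17260],
   .loop none [.bwd 16527, .bwd 17260],
   .define,
   .define,
   .loop (some (18, 4)) [.bwd 10010, .fwd 16519, .fwd 16297, .fwd 17263, .fwd 17264],
   .loop (some (12, 2)) [.fwd 16330, .bwd 16519, .bwd 11026, .fwd 17023],
   .loop none [.fwd 17266],
   .loop none [.bwd 17024, .bwd 17267],
   .loop none [.bwd 16428, .fwd 17267, .bwd 17023],
   .loop none [.bwd 17269],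
   .loop none [.bwd 16429, .bwd 17270],
   .loop none [.fwd 16428, .bwd 17270],
   .loop (some (13, 2)) [.bwd 10010, .bwd 11026, .fwd 17025],
   .loop (some (4, 2)) [.bwd 10010, .fwd 7058, .fwd 16277],
   .define,
   .define,
   .define,
   .define,
   .define,
   .define,
   .define,
   .define,
   .define,
   .define,
   .define,
   .define,
   .define,
   .define,
   .define,
   .define,
   .define,
   .define,
   .define,
   .define,
   .define,
   .define,
   .define,
   .define,
   .define,
   .define,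
   .loop (some (22, 29)) [.fwd 17265, .bwd 10010, .fwd 10029, .fwd 10038, .bwd 10078, .fwd 17275, .fwd 17276, .fwd 17277, .fwd 17278, .fwd 17279, .fwd 17280, .fwd 17281, .fwd 17282, .fwd 17283, .fwd 17284, .fwd 17285, .fwd 17286, .fwd 17287, .fwd 17288, .fwd 17289, .fwd 17290, .fwd 17291, .fwd 17292, .fwd 17293, .fwd 17294, .fwd 17295, .fwd 17296, .fwd 17297, .fwd 17298, .fwd 17299, .fwd 17300],
   .loop (some (11, 2)) [.fwd 17129, .bwd 7058, .bwd 11026, .fwd 17271],
   .loop none [.bwd 17302],
   .loop none [.fwd 17128, .bwd 17303],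
   .loop none [.bwd 17129, .bwd 17303],
   .loop (some (15, 0)) [.fwd 10966, .bwd 14587, .fwd 16233, .bwd 16519],
   .define,
   .define,
   .define,
   .loop (some (21, 4)) [.bwd 17027, .fwd 1541, .fwd 1542, .fwd 1543, .fwd 949, .fwd 950, .fwd 17308, .fwd 17309],
   .loop (some (20, 2)) [.fwd 12641, .fwd 2912, .bwd 3024, .bwd 8858, .fwd 7822, .fwd 1520, .fwd 1551, .bwd 16556],
   .define,
   .define,
   .loop (some (18, 4)) [.bwd 949, .bwd 1600, .fwd 16302, .fwd 17312, .fwd 17313],
   .loop (some (13, 2)) [.bwd 949, .bwd 7819, .fwd 17027],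
   .define,
   .define,
   .define,
   .define,
   .define,
   .define,
   .define,
   .define,
   .define,
   .define,
   .define,
   .define,
   .define,
   .define,
   .define,
   .define,
   .define,
   .define,
   .define,
   .define,
   .define,
   .define,
   .define,
   .define,
   .define,
   .loop (some (22, 29)) [.fwd 17314, .bwd 949, .bwd 861, .fwd 847, .bwd 15758, .fwd 17095, .fwd 17316, .fwd 17317, .fwd 17318, .fwd 17319, .fwd 17320, .fwd 17321, .fwd 17322, .fwd 17323, .fwd 17324, .fwd 17325, .fwd 17326, .fwd 17327, .fwd 17328, .fwd 17329, .fwd 17330, .fwd 17331, .fwd 17332, .fwd 17333, .fwd 17334, .fwd 17335, .fwd 17336, .fwd 17337, .fwd 17338, .fwd 17339, .fwd 17340],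
   .loop (some (15, 0)) [.bwd 7789, .fwd 14109, .bwd 13566, .fwd 1600],
   .define,
   .define,
   .define,
   .define,
   .define,
   .loop (some (19, 5)) [.bwd 5253, .fwd 17343, .fwd 17344, .fwd 17345, .fwd 17346, .fwd 17347],
   .define,
   .define,
   .loop (some (21, 5)) [.fwd 17347, .fwd 17348, .bwd 5253, .bwd 5262, .bwd 1757, .fwd 12587, .fwd 17349, .fwd 17350],
   .loop (some (8, 1)) [.fwd 10121, .fwd 1665, .fwd 17343],
   .define,
   .define,
   .define,
   .define,
   .define,
   .loop (some (19, 5)) [.fwd 12310, .fwd 17353, .fwd 17354, .fwd 17355, .fwd 17356, .fwd 17357],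
   .define,
   .define,
   .loop (some (8, 1)) [.fwd 13463, .bwd 7698, .fwd 17353],
   .define,
   .define,
   .define,
   .loop (some (21, 4)) [.bwd 7957, .fwd 906, .bwd 849, .fwd 901, .fwd 7854, .fwd 17362, .fwd 17363, .fwd 17364],
   .loop (some (1, 2)) [.bwd 7854, .bwd 11028, .fwd 15679],
   .loop (some (4, 2)) [.bwd 7854, .fwd 15757, .fwd 17095],
   .define,
   .loop (some (17, 5)) [.bwd 7829, .bwd 7858, .bwd 7928, .fwd 7929, .fwd 17368],
   .loop (some (7, 3)) [.fwd 17369, .bwd 902, .fwd 15757, .fwd 16180],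
   .loop none [.bwd 17370],
   .loop none [.fwd 17368, .bwd 17371],
   .loop none [.bwd 17369, .bwd 17371],
   .loop (some (20, 9)) [.bwd 11029, .bwd 11786, .bwd 10993, .bwd 10981, .bwd 7744, .fwd 7764, .fwd 7783, .bwd 15801, .bwd 15800],
   .loop none [.fwd 17374],
   .loop none [.fwd 17373, .fwd 17375, .fwd 15800],
   .loop none [.bwd 17376],
   .loop none [.bwd 13776, .fwd 17375, .bwd 15799],
   .loop none [.fwd 17378],
   .loop none [.fwd 16378, .bwd 17375],
   .loop none [.bwd 17372, .bwd 17377],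
   .loop none [.bwd 17373, .bwd 17377],
   .loop none [.bwd 16174, .bwd 17377],
   .loop none [.fwd 16180, .bwd 17377],
   .loop none [.fwd 15798, .bwd 17379],
   .define,
   .loop (some (1, 2)) [.bwd 8091, .bwd 11029, .fwd 17386],
   .define,
   .loop (some (18, 2)) [.bwd 9012, .fwd 3456, .bwd 8091, .fwd 13776, .fwd 17388],
   .loop (some (4, 1)) [.bwd 14177, .bwd 8091, .bwd 17382],
   .loop (some (15, 0)) [.fwd 17068, .fwd 15797, .bwd 17385, .bwd 13776],
   .loop (some (17, 4)) [.bwd 17135, .bwd 7832, .bwd 7859, .bwd 7947, .fwd 8052],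
   .loop (some (7, 3)) [.bwd 17135, .bwd 903, .bwd 17382, .fwd 17383],
   .loop none [.bwd 17393],
   .loop none [.fwd 17392, .bwd 17394],
   .loop none [.fwd 17135, .bwd 17394],
   .loop none [.bwd 17136, .bwd 17394],
   .loop (some (20, 9)) [.bwd 11030, .bwd 11782, .fwd 11773, .bwd 10982, .bwd 7745, .fwd 7766, .bwd 7803, .bwd 15844, .bwd 15843],
   .loop none [.fwd 17398],
   .loop none [.fwd 17396, .fwd 17399, .fwd 15843],
   .loop none [.bwd 17400],
   .loop none [.bwd 13778, .fwd 17399, .bwd 15842],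
   .loop none [.fwd 17402],
   .loop none [.fwd 16422, .bwd 17399],
   .loop none [.bwd 17395, .bwd 17401],
   .loop none [.bwd 17396, .bwd 17401],
   .loop none [.bwd 16175, .bwd 17401],
   .loop none [.bwd 17397, .bwd 17401],
   .loop none [.fwd 15841, .bwd 17403],
   .loop (some (1, 1)) [.bwd 17177, .bwd 7925, .bwd 11030],
   .loop (some (4, 1)) [.bwd 14162, .bwd 7925, .bwd 17406],
   .loop (some (11, 2)) [.fwd 17406, .bwd 7838, .fwd 8201],
   .define,
   .define,
   .define,
   .loop (some (21, 4)) [.bwd 7854, .fwd 902, .fwd 903, .fwd 904, .bwd 919, .fwd 17413, .fwd 17414, .fwd 17415],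
   .define,
   .loop (some (18, 2)) [.bwd 8959, .bwd 8025, .fwd 919, .fwd 13780, .fwd 17417],
   .loop (some (21, 2)) [.fwd 16814, .fwd 11012, .bwd 8091, .fwd 903, .fwd 904, .fwd 905, .fwd 7957, .fwd 17144],
   .define,
   .loop (some (1, 2)) [.bwd 7957, .fwd 11021, .fwd 17420],
   .define,
   .loop (some (18, 2)) [.bwd 9202, .fwd 4413, .bwd 7957, .fwd 13782, .fwd 17422],
   .loop (some (15, 0)) [.bwd 16183, .fwd 15933, .fwd 15934, .bwd 13782],
   .define,
   .loop (some (21, 4)) [.bwd 17411, .fwd 17407, .fwd 11037, .fwd 8206, .fwd 5960, .fwd 5961, .fwd 17210, .fwd 17425],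
   .loop (some (5, 1)) [.fwd 16276, .bwd 10992, .bwd 8206],
   .loop (some (1, 2)) [.bwd 5960, .fwd 10992, .fwd 16756],
   .loop (some (18, 4)) [.fwd 17152, .bwd 5960, .bwd 5970, .fwd 16973, .fwd 15484, .fwd 15485],
   .loop none [.bwd 17429],
   .loop none [.fwd 17151, .bwd 17430],
   .loop none [.bwd 17152, .bwd 17430],
   .define,
   .define,
   .define,
   .define,
   .define,
   .define,
   .define,
   .define,
   .define,
   .define,
   .define,
   .define,
   .define,
   .define,
   .define,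
   .define,
   .define,
   .loop (some (22, 28)) [.bwd 17431, .fwd 17432, .bwd 5960, .bwd 4790, .bwd 1442, .bwd 1434, .bwd 4368, .bwd 7942, .fwd 7943, .bwd 6834, .bwd 1881, .fwd 6838, .bwd 6844, .fwd 9802, .fwd 17433, .fwd 17434, .fwd 17435, .fwd 17436, .fwd 17437, .fwd 17438, .fwd 17439, .fwd 17440, .fwd 17441, .fwd 17442, .fwd 17443, .fwd 17444, .fwd 17445, .fwd 17446, .fwd 17447, .fwd 17448, .fwd 17449],
   .define,
   .loop (some (9, 2)) [.bwd 10992, .bwd 17408, .fwd 17451],
   .define,
   .loop (some (19, 3)) [.bwd 17413, .bwd 918, .bwd 917, .bwd 16996, .bwd 16995, .fwd 17453],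
   .loop (some (7, 1)) [.bwd 16177, .fwd 16815, .fwd 917],
   .loop (some (21, 5)) [.bwd 17414, .bwd 17413, .bwd 918, .bwd 917, .bwd 916, .bwd 839, .fwd 13650, .fwd 17063, .fwd 17250],
   .loop none [.bwd 17456],
   .loop none [.fwd 17414, .bwd 17457],
   .loop none [.bwd 17181, .fwd 17457, .fwd 17415],
   .loop none [.fwd 17459],
   .loop none [.bwd 17416, .bwd 17460],
   .define,
   .define,
   .loop (some (20, 5)) [.fwd 17127, .fwd 17098, .fwd 16815, .bwd 11005, .bwd 17265, .bwd 17301, .fwd 17462, .fwd 17463],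
   .loop (some (2, 2)) [.bwd 16299, .bwd 7785, .bwd 17314],
   .define,
   .loop (some (8, 2)) [.bwd 16299, .bwd 16996, .fwd 17466],
   .loop (some (12, 2)) [.bwd 16299, .bwd 11006, .bwd 4851],
   .define,
   .define,
   .loop (some (15, 2)) [.fwd 16842, .bwd 16299, .fwd 17469, .fwd 17470],
   .define,
   .loop (some (17, 4)) [.bwd 17455, .fwd 7843, .fwd 7889, .fwd 7998, .fwd 8220],
   .loop (some (21, 5)) [.fwd 17454, .bwd 17413, .bwd 918, .fwd 16812, .fwd 16813, .bwd 17419, .fwd 17145, .fwd 17032],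
   .define,
   .define,
   .define,
   .define,
   .define,
   .define,
   .loop (some (20, 7)) [.bwd 17455, .fwd 11039, .fwd 17475, .fwd 17476, .fwd 17477, .fwd 17478, .fwd 17479, .fwd 17480],
   .define,
   .define,
   .loop (some (2, 3)) [.fwd 7843, .fwd 17482, .fwd 17483],
   .loop (some (1, 2)) [.bwd 16812, .fwd 11039, .fwd 17256],
   .define,
   .define,
   .define,
   .loop (some (18, 4)) [.bwd 16812, .bwd 17484, .fwd 17486, .fwd 17487, .fwd 17488],
   .loop (some (3, 2)) [.bwd 16812, .fwd 7843, .fwd 17308],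
   .define,
   .define,
   .loop (some (14, 2)) [.fwd 16996, .fwd 917, .fwd 17491, .fwd 17492],
   .define,
   .loop (some (12, 2)) [.fwd 17484, .fwd 17491, .fwd 17494],
   .define,
   .loop (some (0, 1)) [.bwd 17491, .fwd 17496],
   .define,
   .loop (some (13, 2)) [.bwd 16812, .fwd 17491, .fwd 17498]]

theorem just69_len : just69.length = 250 := by decide +kernel

theorem just69_ok : cert.okFacts 17250 just69 = true := by decide +kernel

/-- justifications -/
noncomputable def just70 : List Cert.Just :=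
  [.loop (some (4, 2)) [.bwd 16812, .fwd 17455, .fwd 17090],
   .define,
   .define,
   .define,
   .define,
   .define,
   .define,
   .define,
   .define,
   .define,
   .define,
   .define,
   .define,
   .define,
   .define,
   .define,
   .define,
   .define,
   .define,
   .define,
   .define,
   .define,
   .define,
   .define,
   .define,
   .define,
   .define,
   .loop (some (22, 29)) [.fwd 17489, .bwd 16812, .fwd 7843, .fwd 7889, .bwd 8258, .fwd 17501, .fwd 17502, .fwd 17503, .fwd 17504, .fwd 17505, .fwd 17506, .fwd 17507, .fwd 17508, .fwd 17509, .fwd 17510, .fwd 17511, .fwd 17512, .fwd 17513, .fwd 17514, .fwd 17515, .fwd 17516, .fwd 17517, .fwd 17518, .fwd 17519, .fwd 17520, .fwd 17521, .fwd 17522, .fwd 17523, .fwd 17524, .fwd 17525, .fwd 17526],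
   .define,
   .loop (some (11, 2)) [.bwd 17455, .fwd 17491, .fwd 17528],
   .define,
   .define,
   .define,
   .loop (some (15, 3)) [.fwd 17484, .fwd 17530, .fwd 17531, .fwd 17532],
   .define,
   .loop (some (10, 2)) [.bwd 7843, .fwd 17491, .fwd 17534],
   .define,
   .loop (some (8, 2)) [.bwd 8025, .bwd 918, .bwd 17484],
   .loop (some (9, 2)) [.fwd 11034, .bwd 8962, .bwd 17387],
   .loop (some (7, 2)) [.fwd 16276, .bwd 10008, .bwd 10007, .bwd 15972],
   .loop none [.bwd 17539],
   .loop none [.fwd 17427, .bwd 17540],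
   .loop (some (4, 2)) [.bwd 10024, .fwd 10008, .fwd 16756],
   .loop (some (11, 2)) [.fwd 17452, .bwd 10008, .bwd 11044, .bwd 15883],
   .loop none [.bwd 17543],
   .loop none [.fwd 17451, .bwd 17544],
   .loop (some (7, 2)) [.fwd 16164, .bwd 10966, .bwd 13400, .fwd 17385],
   .loop none [.bwd 17546],
   .loop none [.fwd 16237, .bwd 17547],
   .loop none [.bwd 16164, .bwd 17547],
   .loop (some (13, 2)) [.bwd 13387, .fwd 13786, .fwd 17417],
   .loop (some (4, 2)) [.bwd 13387, .fwd 10966, .fwd 16238],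
   .loop (some (11, 2)) [.fwd 16269, .bwd 10966, .fwd 13786, .bwd 15889],
   .loop none [.bwd 17552],
   .loop none [.fwd 16268, .bwd 17553],
   .loop none [.bwd 16269, .bwd 17553],
   .loop (some (15, 0)) [.bwd 16843, .fwd 847, .bwd 15758, .bwd 15757, .fwd 930],
   .loop none [.bwd 17556],
   .loop none [.fwd 16843, .bwd 17557],
   .loop (some (21, 1)) [.bwd 17003, .bwd 1539, .bwd 1538, .fwd 863, .fwd 941, .fwd 942, .fwd 943, .bwd 8286],
   .loop (some (15, 0)) [.bwd 14055, .bwd 14761, .bwd 14895, .bwd 13794],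
   .loop (some (15, 0)) [.bwd 14047, .bwd 14753, .fwd 15245, .bwd 13802],
   .loop (some (11, 2)) [.fwd 7820, .bwd 17315, .fwd 15362],
   .loop (some (14, 1)) [.fwd 17315, .fwd 950, .fwd 951, .bwd 7999],
   .loop (some (18, 2)) [.bwd 17035, .bwd 1524, .fwd 8259, .bwd 1006, .bwd 7822, .fwd 16816],
   .loop none [.bwd 17564],
   .loop none [.fwd 17035, .bwd 17565],
   .loop none [.fwd 16816, .fwd 17565, .fwd 17036],
   .loop none [.fwd 17567],
   .loop none [.fwd 7995, .fwd 17568, .fwd 17037],
   .loop none [.fwd 17569],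
   .loop none [.bwd 8033, .fwd 17570, .fwd 17038],
   .loop none [.fwd 17571],
   .loop none [.bwd 2100, .fwd 17572, .fwd 17039],
   .loop none [.fwd 17573],
   .loop none [.bwd 1272, .fwd 17574, .fwd 17040],
   .loop none [.fwd 17575],
   .loop none [.fwd 4808, .fwd 17576, .fwd 17041],
   .loop none [.fwd 17577],
   .loop none [.fwd 8506, .fwd 17578, .fwd 17042],
   .loop none [.fwd 17579],
   .loop none [.bwd 8533, .fwd 17580, .fwd 17043],
   .loop none [.fwd 17581],
   .loop none [.bwd 17044, .bwd 17582],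
   .loop (some (13, 1)) [.fwd 17562, .bwd 1006, .bwd 8264],
   .loop (some (12, 2)) [.fwd 8259, .bwd 17562, .fwd 15363],
   .loop (some (0, 1)) [.fwd 17562, .fwd 13843],
   .loop (some (3, 1)) [.bwd 17213, .bwd 17212, .fwd 7998],
   .loop (some (14, 1)) [.fwd 17562, .fwd 1007, .fwd 1008, .bwd 7977],
   .loop (some (8, 0)) [.bwd 15645, .fwd 15442, .bwd 1080],
   .loop (some (6, 2)) [.fwd 12697, .fwd 7608, .bwd 15442, .fwd 15638],
   .loop none [.fwd 17590],
   .loop none [.fwd 15638, .bwd 17591],
   .loop none [.bwd 15639, .bwd 17591],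
   .loop (some (15, 0)) [.fwd 15245, .bwd 13802, .fwd 7844, .fwd 7953],
   .loop (some (15, 0)) [.fwd 15246, .bwd 13797, .bwd 7862, .bwd 7944],
   .loop (some (15, 0)) [.bwd 14895, .bwd 13794, .bwd 7859, .fwd 7922],
   .loop (some (10, 2)) [.fwd 4604, .bwd 4861, .fwd 17102],
   .loop (some (3, 3)) [.bwd 8098, .fwd 7995, .fwd 16816, .fwd 16817],
   .loop none [.fwd 17598],
   .loop none [.bwd 17102, .fwd 17599, .bwd 16817],
   .loop none [.bwd 17600],
   .loop none [.fwd 4816, .fwd 17599, .fwd 16818],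
   .loop none [.fwd 17602],
   .loop none [.bwd 17103, .bwd 17601],
   .loop none [.bwd 17597, .bwd 17601],
   .loop none [.bwd 4817, .fwd 17603, .fwd 16819],
   .loop none [.fwd 17606],
   .loop none [.fwd 2099, .fwd 17607, .fwd 16820],
   .loop none [.fwd 17608],
   .loop none [.fwd 4804, .fwd 17609, .fwd 16821],
   .loop none [.fwd 17610],
   .loop none [.bwd 8505, .fwd 17611, .fwd 16822],
   .loop none [.fwd 17612],
   .loop none [.bwd 8546, .fwd 17613, .fwd 16823],
   .loop none [.fwd 17614],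
   .loop none [.bwd 16824, .bwd 17615],
   .loop (some (8, 0)) [.fwd 15677, .fwd 2505, .bwd 7266],
   .loop (some (6, 2)) [.bwd 1379, .bwd 12161, .fwd 15470],
   .loop (some (4, 1)) [.bwd 17214, .bwd 17587, .fwd 8220],
   .loop (some (13, 2)) [.bwd 4785, .bwd 8218, .bwd 16745],
   .loop (some (3, 3)) [.fwd 8256, .fwd 17501, .fwd 17502],
   .loop (some (4, 1)) [.bwd 17503, .fwd 17621, .fwd 8255],
   .loop (some (20, 0)) [.fwd 16851, .fwd 16852, .fwd 16853, .fwd 16854, .bwd 15476, .bwd 1589, .bwd 1553, .bwd 8224],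
   .loop (some (5, 2)) [.bwd 17623, .bwd 1514, .bwd 1456],
   .loop (some (18, 6)) [.fwd 8260, .bwd 4856, .bwd 9155, .fwd 17584, .fwd 15363, .fwd 15364],
   .loop none [.fwd 17625],
   .loop none [.bwd 8231, .fwd 17626, .fwd 15365],
   .loop none [.fwd 17627],
   .loop none [.fwd 15364, .bwd 17626],
   .loop none [.bwd 8159, .fwd 17628, .fwd 15366],
   .loop none [.fwd 17630],
   .loop none [.bwd 3354, .fwd 17631, .fwd 15367],
   .loop none [.fwd 17632],
   .loop none [.bwd 8202, .fwd 17633, .fwd 15368],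
   .loop none [.fwd 17634],
   .loop none [.fwd 8917, .fwd 17635, .fwd 15369],
   .loop none [.fwd 17636],
   .loop none [.fwd 9210, .fwd 17637, .fwd 15370],
   .loop none [.fwd 17638],
   .loop none [.fwd 4413, .fwd 17639, .fwd 15371],
   .loop none [.fwd 17640],
   .loop none [.bwd 9202, .fwd 17641, .fwd 15372],
   .loop none [.fwd 17642],
   .loop none [.fwd 4977, .fwd 17643, .fwd 15373],
   .loop none [.fwd 17644],
   .loop none [.bwd 15374, .bwd 17645],
   .loop (some (13, 2)) [.bwd 17629, .bwd 1533, .bwd 13830],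
   .loop (some (4, 3)) [.bwd 17629, .bwd 8262, .fwd 17003, .fwd 15408],
   .loop none [.fwd 17648],
   .loop none [.fwd 15408, .bwd 17649],
   .loop none [.fwd 15363, .fwd 17649, .fwd 15409],
   .loop none [.fwd 17651],
   .loop none [.fwd 17584, .fwd 17652, .fwd 15410],
   .loop none [.fwd 17653],
   .loop none [.bwd 8237, .fwd 17654, .fwd 15411],
   .loop none [.fwd 17655],
   .loop none [.bwd 8170, .fwd 17656, .fwd 15412],
   .loop none [.fwd 17657],
   .loop none [.bwd 4374, .fwd 17658, .fwd 15413],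
   .loop none [.fwd 17659],
   .loop none [.bwd 8185, .fwd 17660, .fwd 15414],
   .loop none [.fwd 17661],
   .loop none [.bwd 11040, .fwd 17662, .fwd 15415],
   .loop none [.fwd 17663],
   .loop none [.bwd 11035, .fwd 17664, .fwd 15416],
   .loop none [.fwd 17665],
   .loop none [.bwd 8025, .fwd 17666, .fwd 15417],
   .loop none [.fwd 17667],
   .loop none [.bwd 8959, .fwd 17668, .fwd 15418],
   .loop none [.fwd 17669],
   .loop none [.fwd 5020, .fwd 17670, .fwd 15419],
   .loop none [.fwd 17671],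
   .loop none [.bwd 15420, .bwd 17672],
   .loop (some (4, 2)) [.bwd 17501, .fwd 8267, .fwd 17200],
   .loop (some (14, 1)) [.fwd 8257, .fwd 1522, .fwd 1523, .bwd 17585],
   .loop (some (15, 0)) [.fwd 17341, .fwd 17314, .bwd 7820, .bwd 8259],
   .loop (some (20, 1)) [.bwd 16851, .bwd 16850, .fwd 13527, .bwd 7424, .bwd 2931, .fwd 8290, .fwd 2973, .fwd 3012, .fwd 4603],
   .loop none [.bwd 17677],
   .loop none [.bwd 8093, .fwd 17678, .fwd 16852],
   .loop none [.fwd 17679],
   .loop none [.fwd 16851, .bwd 17678],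
   .loop none [.bwd 16853, .bwd 17680],
   .loop (some (11, 2)) [.fwd 8562, .fwd 3012, .bwd 17605, .fwd 17604],
   .loop none [.fwd 17683],
   .loop none [.fwd 17604, .bwd 17684],
   .loop none [.bwd 8598, .fwd 17684, .fwd 17104],
   .loop none [.fwd 17686],
   .loop none [.fwd 2967, .fwd 17687, .fwd 17105],
   .loop none [.fwd 17688],
   .loop none [.bwd 8580, .fwd 17689, .fwd 17106],
   .loop none [.fwd 17690],
   .loop none [.fwd 8581, .fwd 17691, .fwd 17107],
   .loop none [.fwd 17692],
   .loop none [.bwd 17108, .bwd 17693],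
   .loop (some (15, 0)) [.fwd 16854, .bwd 15476, .bwd 1589, .bwd 1553],
   .loop (some (13, 2)) [.bwd 17003, .bwd 1554, .fwd 13764],
   .loop (some (2, 2)) [.fwd 16556, .fwd 10970, .bwd 16545],
   .loop (some (5, 3)) [.fwd 16287, .bwd 1583, .fwd 794, .fwd 16546],
   .loop none [.fwd 17698],
   .loop none [.fwd 16286, .fwd 17699, .bwd 17697],
   .loop none [.fwd 17700],
   .loop none [.bwd 17311, .bwd 17699],
   .loop none [.bwd 16556, .bwd 17699],
   .loop none [.bwd 16547, .bwd 17699],
   .loop none [.bwd 16557, .bwd 17699],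
   .loop none [.bwd 16545, .bwd 17701],
   .loop none [.bwd 16536, .bwd 17701],
   .loop (some (13, 2)) [.bwd 16302, .fwd 8287, .bwd 1595],
   .loop (some (11, 2)) [.bwd 13566, .fwd 8287, .fwd 15354],
   .loop (some (9, 2)) [.fwd 16287, .fwd 8287, .bwd 16426],
   .loop (some (5, 3)) [.fwd 16335, .bwd 1584, .bwd 16287, .fwd 17704],
   .loop none [.fwd 17711],
   .loop none [.bwd 16548, .bwd 17712],
   .loop none [.fwd 17704, .bwd 17712],
   .loop none [.fwd 17705, .bwd 17712],
   .loop (some (7, 3)) [.bwd 15324, .bwd 1585, .fwd 13621, .fwd 15463],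
   .loop none [.fwd 17716],
   .loop none [.bwd 15464, .bwd 17717],
   .loop (some (21, 1)) [.bwd 10877, .bwd 1635, .bwd 1634, .bwd 66, .fwd 1583, .fwd 1584, .fwd 1585, .fwd 16391],
   .loop (some (5, 3)) [.fwd 16382, .bwd 1585, .bwd 16335, .fwd 17713],
   .loop none [.fwd 17720],
   .loop none [.bwd 16549, .bwd 17721],
   .loop (some (15, 0)) [.fwd 17685, .fwd 17566, .bwd 8265, .fwd 8280],
   .loop (some (7, 3)) [.bwd 15354, .bwd 1586, .fwd 15324, .fwd 17718],
   .loop none [.fwd 17724],
   .loop none [.fwd 15469, .bwd 17725],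
   .loop (some (5, 3)) [.fwd 16426, .bwd 1586, .bwd 16382, .fwd 17722],
   .loop none [.fwd 17727],
   .loop none [.fwd 16555, .bwd 17728],
   .loop none [.fwd 16858, .bwd 17728],
   .loop none [.fwd 17722, .bwd 17728],
   .loop (some (1, 2)) [.fwd 16697, .fwd 1595, .bwd 16426, .fwd 17729],
   .loop none [.bwd 17732],
   .loop none [.bwd 16697, .bwd 17733],
   .loop (some (4, 2)) [.bwd 15592, .fwd 1595, .fwd 15354, .fwd 17726],
   .loop none [.bwd 17735],
   .loop none [.bwd 15593, .bwd 17736],
   .loop none [.fwd 15592, .bwd 17736],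
   .loop none [.bwd 16720, .bwd 17736],
   .loop (some (9, 2)) [.fwd 16426, .bwd 7776, .bwd 16335],
   .loop (some (11, 2)) [.bwd 15395, .bwd 7777, .fwd 1589],
   .loop (some (9, 2)) [.fwd 16468, .bwd 7777, .fwd 1598],
   .loop (some (12, 2)) [.bwd 15476, .bwd 15506, .fwd 16394],
   .loop (some (5, 1)) [.fwd 15748, .bwd 1666, .bwd 1639],
   .loop (some (1, 2)) [.fwd 16596, .bwd 1592, .fwd 1666, .fwd 16552],
   .loop none [.bwd 17745],
   .loop none [.bwd 16596, .bwd 17746],
   .loop (some (7, 2)) [.bwd 15467, .bwd 13718, .fwd 1593, .fwd 15524],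
   .loop none [.fwd 17748]]

theorem just70_len : just70.length = 250 := by decide +kernel

theorem just70_ok : cert.okFacts 17500 just70 = true := by decide +kernel

/-- justifications -/
noncomputable def just71 : List Cert.Just :=
  [.loop none [.bwd 15525, .bwd 17749],
   .loop none [.fwd 15524, .bwd 17749],
   .loop none [.bwd 16660, .bwd 17749],
   .loop (some (5, 2)) [.bwd 16553, .fwd 17747, .fwd 1593, .bwd 16635],
   .loop none [.fwd 17753],
   .loop none [.bwd 16635, .bwd 17754],
   .loop (some (8, 2)) [.bwd 16702, .bwd 1594, .fwd 16642],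
   .loop (some (14, 1)) [.fwd 11061, .fwd 1593, .fwd 1594, .bwd 16748],
   .loop (some (7, 1)) [.fwd 12636, .fwd 7424, .bwd 16857],
   .loop (some (6, 2)) [.fwd 16540, .fwd 13755, .bwd 16857, .bwd 16467],
   .loop none [.bwd 17759],
   .loop none [.bwd 16540, .bwd 17760],
   .loop none [.fwd 16539, .bwd 17760],
   .loop (some (12, 1)) [.bwd 15274, .fwd 13527, .bwd 16889],
   .loop (some (4, 2)) [.bwd 15749, .bwd 7424, .fwd 12648],
   .loop (some (11, 1)) [.bwd 14157, .fwd 7424, .bwd 16889],
   .loop (some (15, 0)) [.bwd 8093, .fwd 17681, .bwd 16850, .fwd 13527],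
   .loop (some (10, 2)) [.fwd 13755, .bwd 16889, .bwd 16381],
   .loop (some (1, 2)) [.fwd 10562, .fwd 13889, .fwd 16241],
   .loop (some (20, 0)) [.fwd 15348, .fwd 14568, .bwd 10973, .bwd 13684, .fwd 14814, .fwd 14341, .bwd 9580, .fwd 8298],
   .loop (some (5, 3)) [.bwd 17769, .bwd 1636, .fwd 15316, .fwd 15745],
   .loop none [.fwd 17770],
   .loop none [.bwd 15746, .bwd 17771],
   .loop (some (15, 0)) [.bwd 15672, .fwd 15139, .fwd 15137, .bwd 13893],
   .loop (some (9, 2)) [.bwd 17769, .bwd 8308, .fwd 17744],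
   .loop (some (20, 0)) [.fwd 15389, .fwd 14564, .bwd 10975, .bwd 13701, .fwd 14812, .fwd 14339, .bwd 9581, .fwd 8300],
   .loop (some (5, 3)) [.bwd 17775, .bwd 1637, .fwd 17769, .fwd 17772],
   .loop none [.fwd 17776],
   .loop none [.fwd 15752, .bwd 17777],
   .loop (some (1, 2)) [.fwd 1648, .fwd 17775, .fwd 17778],
   .loop (some (20, 1)) [.fwd 15435, .fwd 14562, .bwd 10976, .fwd 13042, .fwd 14815, .fwd 14338, .bwd 9583, .bwd 8291, .fwd 17744],
   .loop none [.fwd 17780],
   .loop none [.fwd 17744, .bwd 17781],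
   .loop none [.bwd 15748, .bwd 17781],
   .loop none [.bwd 17774, .bwd 17781],
   .loop (some (15, 0)) [.bwd 15640, .bwd 15201, .fwd 15190, .bwd 13899],
   .loop (some (18, 2)) [.bwd 16603, .bwd 16602, .bwd 13006, .bwd 6035, .bwd 14334],
   .loop (some (2, 2)) [.fwd 16861, .fwd 7754, .fwd 13123],
   .loop (some (5, 1)) [.bwd 15750, .fwd 16859, .fwd 1646],
   .loop (some (7, 2)) [.fwd 12647, .fwd 7430, .bwd 17783, .bwd 15434],
   .loop none [.fwd 17789],
   .loop none [.bwd 15434, .bwd 17790],
   .loop none [.fwd 15433, .bwd 17790],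
   .loop (some (6, 1)) [.fwd 12721, .fwd 12728, .bwd 17783],
   .loop (some (12, 0)) [.fwd 15348, .fwd 15194, .bwd 14332],
   .loop (some (4, 2)) [.bwd 16552, .bwd 7430, .fwd 12637],
   .loop (some (11, 2)) [.bwd 14132, .fwd 7430, .fwd 17794, .bwd 15347],
   .loop none [.fwd 17796],
   .loop none [.bwd 15347, .bwd 17797],
   .loop none [.fwd 15346, .bwd 17797],
   .loop (some (15, 0)) [.bwd 15507, .bwd 702, .bwd 9970, .bwd 13093, .bwd 14332],
   .loop none [.bwd 17800],
   .loop none [.fwd 15507, .bwd 17801],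
   .loop (some (10, 1)) [.fwd 15043, .fwd 12728, .fwd 17794],
   .loop (some (5, 3)) [.bwd 1676, .fwd 13923, .fwd 16844],
   .loop (some (20, 1)) [.fwd 11848, .bwd 11118, .fwd 8363, .fwd 9310, .bwd 9400, .bwd 8327, .fwd 8317, .fwd 16587],
   .loop (some (5, 3)) [.bwd 16587, .bwd 1677, .bwd 17804, .fwd 16845],
   .loop none [.fwd 17806],
   .loop none [.bwd 16846, .bwd 17807],
   .loop (some (5, 3)) [.bwd 1678, .fwd 16587, .fwd 17808],
   .loop (some (1, 2)) [.fwd 1685, .bwd 17809, .bwd 16849],
   .loop (some (9, 2)) [.fwd 17809, .bwd 8306, .bwd 17804],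
   .loop (some (20, 1)) [.bwd 11622, .bwd 11130, .fwd 7351, .fwd 9334, .bwd 9571, .bwd 7582, .fwd 7671, .fwd 16560],
   .loop (some (5, 1)) [.bwd 16764, .fwd 15980, .fwd 1683],
   .loop (some (12, 2)) [.bwd 13123, .bwd 15981, .bwd 16390],
   .loop (some (4, 2)) [.bwd 15974, .fwd 8322, .fwd 13182],
   .loop (some (7, 1)) [.fwd 13349, .fwd 7664, .bwd 16561],
   .loop (some (18, 4)) [.bwd 16598, .bwd 16513, .bwd 10108, .bwd 11452, .fwd 5907, .fwd 5908],
   .loop none [.bwd 17817],
   .loop none [.bwd 16599, .bwd 17818],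
   .loop none [.fwd 16598, .bwd 17818],
   .loop (some (3, 2)) [.bwd 16593, .bwd 16513, .fwd 11008, .fwd 16533],
   .loop none [.bwd 17821],
   .loop none [.fwd 16593, .bwd 17822],
   .loop (some (14, 2)) [.bwd 13760, .bwd 1691, .bwd 16588, .fwd 17808],
   .loop (some (4, 2)) [.bwd 16513, .bwd 7664, .fwd 13351],
   .loop (some (11, 1)) [.fwd 13379, .fwd 7664, .bwd 16588],
   .loop (some (7, 1)) [.fwd 16965, .bwd 10965, .bwd 13909],
   .loop (some (4, 2)) [.bwd 12761, .fwd 10965, .fwd 16165],
   .loop (some (1, 1)) [.bwd 16050, .bwd 10938, .bwd 12838],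
   .loop (some (21, 2)) [.fwd 15708, .fwd 13749, .bwd 10932, .fwd 1699, .fwd 1700, .fwd 1701, .fwd 10950, .fwd 16015],
   .loop (some (21, 5)) [.fwd 13242, .bwd 1705, .bwd 1704, .bwd 1703, .bwd 735, .fwd 15402, .fwd 15931, .fwd 16053],
   .loop (some (12, 2)) [.bwd 13115, .bwd 13158, .bwd 15852],
   .loop (some (1, 2)) [.bwd 13182, .bwd 13975, .fwd 16184],
   .loop (some (3, 2)) [.fwd 15511, .bwd 13351, .bwd 12974, .fwd 15452],
   .loop none [.bwd 17834],
   .loop none [.fwd 15510, .bwd 17835],
   .loop (some (5, 1)) [.fwd 17348, .bwd 1835, .bwd 1806],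
   .loop (some (3, 2)) [.bwd 12587, .bwd 10607, .fwd 17359],
   .loop (some (20, 0)) [.fwd 17352, .bwd 10965, .bwd 1692, .bwd 8315, .fwd 1712, .fwd 1747, .fwd 7175, .bwd 8341],
   .loop (some (5, 3)) [.bwd 1802, .fwd 17839, .fwd 17344],
   .loop (some (5, 3)) [.bwd 1803, .bwd 17840, .fwd 17345],
   .loop (some (9, 2)) [.fwd 17841, .bwd 8372, .fwd 17837],
   .loop (some (5, 3)) [.bwd 1804, .bwd 17841, .fwd 17346],
   .loop (some (1, 2)) [.fwd 1815, .bwd 17843, .bwd 17351],
   .loop (some (9, 2)) [.bwd 17837, .fwd 8371, .fwd 1835],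
   .loop (some (16, 2)) [.fwd 12508, .fwd 10617, .bwd 7228, .bwd 12588, .bwd 17838],
   .loop (some (5, 1)) [.bwd 17349, .fwd 12588, .fwd 1813],
   .loop (some (2, 2)) [.fwd 16628, .bwd 14010, .bwd 13447, .bwd 16960],
   .loop none [.fwd 17848],
   .loop none [.bwd 16960, .bwd 17849],
   .loop none [.bwd 16951, .bwd 17849],
   .loop (some (6, 1)) [.fwd 17358, .fwd 13447, .bwd 17348],
   .loop (some (0, 2)) [.fwd 17845, .fwd 17842],
   .loop (some (5, 1)) [.fwd 16965, .bwd 10120, .bwd 10115],
   .loop (some (1, 2)) [.fwd 8380, .fwd 10120, .fwd 16165],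
   .loop (some (16, 2)) [.bwd 17852, .bwd 17837, .fwd 7350, .fwd 12331, .fwd 14049],
   .loop (some (18, 2)) [.bwd 17583, .bwd 8533, .bwd 3086, .bwd 2230, .fwd 4832],
   .loop (some (18, 2)) [.bwd 17616, .bwd 8546, .fwd 3084, .fwd 8538, .fwd 16974],
   .loop (some (3, 1)) [.bwd 16825, .bwd 17616, .bwd 8573],
   .loop (some (3, 1)) [.bwd 16975, .bwd 16974, .bwd 8575],
   .loop (some (13, 2)) [.fwd 2225, .bwd 8569, .fwd 17616],
   .loop (some (3, 1)) [.bwd 17045, .bwd 17583, .fwd 8559],
   .loop (some (10, 2)) [.fwd 8580, .bwd 17861, .fwd 16825],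
   .loop (some (13, 2)) [.bwd 2323, .bwd 8599, .fwd 17860],
   .loop (some (15, 0)) [.fwd 9092, .fwd 14232, .bwd 14078, .bwd 14073],
   .loop (some (15, 0)) [.bwd 8624, .fwd 14237, .fwd 14081, .bwd 14076],
   .loop (some (15, 0)) [.bwd 6221, .bwd 6462, .bwd 14346, .fwd 13829],
   .loop (some (15, 0)) [.bwd 9088, .fwd 9607, .fwd 14100, .fwd 14090],
   .loop (some (1, 2)) [.bwd 2913, .fwd 2376, .fwd 16897],
   .loop (some (12, 1)) [.fwd 17863, .fwd 8593, .bwd 17864],
   .loop (some (11, 2)) [.fwd 8600, .bwd 17864, .fwd 16976],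
   .loop (some (5, 1)) [.fwd 16896, .bwd 2929, .bwd 2911],
   .loop (some (13, 1)) [.fwd 17871, .bwd 2367, .bwd 8843],
   .loop (some (12, 2)) [.bwd 17007, .bwd 17871, .fwd 16977],
   .loop (some (3, 2)) [.bwd 16897, .bwd 7277, .fwd 12169],
   .loop (some (15, 0)) [.fwd 6221, .bwd 12185, .fwd 14226, .fwd 6175],
   .loop (some (15, 0)) [.bwd 15706, .fwd 9963, .bwd 13613, .bwd 14127, .fwd 12652],
   .loop none [.bwd 17877],
   .loop none [.fwd 15706, .bwd 17878],
   .loop (some (8, 0)) [.bwd 15474, .fwd 12161, .fwd 7266],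
   .loop (some (15, 0)) [.bwd 13093, .bwd 14332, .bwd 7430, .bwd 2520],
   .loop (some (15, 0)) [.bwd 14562, .bwd 15435, .bwd 17791, .bwd 14120],
   .loop (some (15, 0)) [.bwd 14568, .bwd 15348, .bwd 17798, .bwd 14122],
   .loop (some (15, 0)) [.bwd 13736, .fwd 13737, .bwd 14999, .bwd 14123],
   .loop (some (15, 0)) [.bwd 10967, .bwd 13333, .fwd 15676, .fwd 15677],
   .loop (some (20, 0)) [.bwd 15476, .bwd 1589, .bwd 1553, .bwd 8224, .fwd 1531, .bwd 3012, .bwd 2973, .bwd 8290],
   .loop (some (1, 2)) [.fwd 8840, .fwd 17886, .fwd 15982],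
   .loop (some (9, 1)) [.fwd 17743, .bwd 17886, .fwd 8839],
   .loop (some (20, 0)) [.bwd 16484, .bwd 15395, .bwd 8278, .fwd 8262, .fwd 8260, .fwd 8275, .bwd 8849, .fwd 8841],
   .loop (some (5, 3)) [.bwd 17889, .bwd 2907, .fwd 17886, .fwd 16903],
   .loop none [.fwd 17890],
   .loop none [.bwd 16893, .bwd 17891],
   .loop none [.fwd 16903, .bwd 17891],
   .loop (some (4, 3)) [.bwd 8841, .fwd 17859, .fwd 16826],
   .loop (some (20, 0)) [.bwd 16438, .bwd 15354, .bwd 8282, .fwd 8263, .fwd 9155, .bwd 8860, .bwd 8854, .fwd 8842],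
   .loop (some (5, 3)) [.bwd 17895, .bwd 2908, .fwd 17889, .fwd 17892],
   .loop none [.fwd 17896],
   .loop none [.bwd 16894, .bwd 17897],
   .loop (some (1, 2)) [.bwd 17873, .fwd 17895, .fwd 16439],
   .loop (some (18, 2)) [.bwd 16978, .bwd 16977, .bwd 17873, .fwd 14150, .bwd 12640],
   .loop (some (5, 3)) [.bwd 17888, .bwd 2909, .fwd 17895, .fwd 17898],
   .loop none [.fwd 17901],
   .loop none [.bwd 16395, .fwd 17902, .bwd 16900],
   .loop none [.fwd 17903],
   .loop none [.fwd 17898, .bwd 17902],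
   .loop none [.fwd 16899, .bwd 17904],
   .loop (some (1, 2)) [.fwd 2916, .fwd 17888, .fwd 16395],
   .loop (some (13, 2)) [.fwd 2916, .bwd 8834, .bwd 17894],
   .loop (some (9, 2)) [.bwd 17888, .bwd 8834, .fwd 17889],
   .loop (some (20, 1)) [.bwd 16350, .bwd 13621, .bwd 7808, .fwd 7818, .fwd 8247, .bwd 8276, .bwd 8582, .fwd 8597, .fwd 17872],
   .loop none [.fwd 17910],
   .loop none [.fwd 17872, .bwd 17911],
   .loop none [.bwd 16896, .bwd 17911],
   .loop (some (4, 3)) [.bwd 8597, .fwd 17862, .fwd 17046],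
   .loop (some (5, 1)) [.bwd 16898, .fwd 17869, .fwd 2914],
   .loop (some (12, 2)) [.bwd 17073, .bwd 17908, .fwd 16827],
   .loop (some (6, 1)) [.fwd 12168, .fwd 7275, .bwd 17913],
   .loop (some (14, 0)) [.bwd 17905, .fwd 17743, .fwd 16904, .bwd 2930],
   .loop (some (13, 2)) [.bwd 12192, .fwd 17918, .fwd 16439],
   .loop (some (10, 1)) [.fwd 14345, .fwd 7275, .fwd 17918],
   .loop (some (20, 0)) [.bwd 17682, .bwd 8093, .fwd 17681, .bwd 16850, .fwd 13527, .bwd 7424, .bwd 2931, .fwd 8290],
   .loop (some (5, 2)) [.bwd 17921, .bwd 2958, .bwd 4717],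
   .loop (some (18, 4)) [.bwd 8567, .fwd 2973, .fwd 3059, .bwd 8582, .fwd 17862],
   .loop (some (13, 2)) [.bwd 17859, .bwd 2974, .fwd 8567],
   .loop (some (13, 2)) [.bwd 17860, .bwd 8577, .fwd 17862],
   .loop (some (15, 0)) [.fwd 8265, .bwd 17566, .bwd 17685, .fwd 8598],
   .loop (some (13, 2)) [.bwd 17862, .bwd 8584, .fwd 2323],
   .loop (some (15, 0)) [.fwd 17765, .bwd 14151, .bwd 8844, .bwd 8598],
   .loop (some (15, 0)) [.fwd 17758, .bwd 14148, .bwd 8841, .fwd 8849],
   .loop (some (2, 2)) [.bwd 17682, .bwd 7234, .fwd 10435],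
   .loop (some (15, 0)) [.bwd 16890, .fwd 1589, .fwd 15476, .bwd 16854, .bwd 17682],
   .loop none [.bwd 17931],
   .loop none [.fwd 16890, .bwd 17932],
   .loop (some (3, 3)) [.bwd 8147, .fwd 17093, .fwd 17095, .fwd 17316],
   .loop none [.fwd 17934],
   .loop none [.bwd 15328, .fwd 17935, .bwd 17316],
   .loop none [.fwd 17936],
   .loop none [.fwd 7906, .fwd 17935, .fwd 17317],
   .loop none [.fwd 17938],
   .loop none [.bwd 15329, .fwd 17937, .fwd 17367],
   .loop none [.bwd 17940],
   .loop none [.bwd 17096, .bwd 17937],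
   .loop none [.fwd 17095, .bwd 17937],
   .loop none [.bwd 4547, .fwd 17939, .fwd 17318],
   .loop none [.fwd 17944],
   .loop none [.fwd 15329, .bwd 17941],
   .loop none [.fwd 4475, .fwd 17941, .fwd 15330],
   .loop none [.fwd 17947],
   .loop none [.fwd 7984, .fwd 17945, .fwd 17319],
   .loop none [.fwd 17949],
   .loop none [.bwd 9239, .fwd 17948, .fwd 15331],
   .loop none [.fwd 17951],
   .loop none [.fwd 7877, .fwd 17950, .fwd 17320],
   .loop none [.fwd 17953],
   .loop none [.fwd 4892, .fwd 17952, .fwd 15332],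
   .loop none [.fwd 17955],
   .loop none [.fwd 7844, .fwd 17954, .fwd 17321],
   .loop none [.fwd 17957],
   .loop none [.bwd 15333, .bwd 17956],
   .loop none [.bwd 13802, .fwd 17958, .fwd 17322],
   .loop none [.fwd 17960],
   .loop none [.bwd 17323, .bwd 17961],
   .loop (some (8, 0)) [.bwd 16478, .bwd 17245, .bwd 3315],
   .loop (some (5, 2)) [.bwd 17177, .fwd 17245, .bwd 17002],
   .loop (some (14, 2)) [.fwd 17209, .bwd 17248, .fwd 17249, .bwd 8909, .bwd 17365],
   .loop none [.fwd 17965],
   .loop none [.fwd 17364, .bwd 17966],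
   .loop none [.bwd 17365, .bwd 17966],
   .loop (some (9, 2)) [.bwd 17177, .bwd 8909, .bwd 17421],
   .loop (some (16, 3)) [.fwd 17541, .fwd 4591, .bwd 8214, .fwd 8215, .fwd 17094],
   .loop (some (7, 0)) [.fwd 17533, .fwd 17537, .bwd 3412],
   .loop (some (14, 2)) [.fwd 16814, .fwd 11012, .bwd 9015, .bwd 17461],
   .loop (some (11, 2)) [.bwd 14177, .bwd 9015, .fwd 17946],
   .loop (some (15, 0)) [.bwd 2321, .bwd 13829, .fwd 14346, .fwd 6462],
   .loop (some (16, 3)) [.fwd 17304, .bwd 8254, .fwd 8253, .bwd 17405, .bwd 17545],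
   .loop (some (21, 1)) [.bwd 8161, .fwd 8153, .fwd 8044, .fwd 1476, .bwd 4773, .bwd 8229, .bwd 8236, .bwd 16745],
   .loop (some (18, 4)) [.fwd 16744, .fwd 16745, .fwd 4374, .fwd 8185, .fwd 8198, .fwd 5581],
   .loop none [.bwd 17977],
   .loop none [.fwd 16743, .bwd 17978],
   .loop none [.bwd 16744, .bwd 17978],
   .loop (some (3, 2)) [.bwd 17155, .fwd 16745, .fwd 8254, .fwd 17028],
   .loop none [.bwd 17981],
   .loop none [.fwd 17155, .bwd 17982],
   .loop none [.bwd 17029, .fwd 17982, .fwd 17156],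
   .loop none [.fwd 17984],
   .loop none [.fwd 4851, .fwd 17985, .fwd 17157],
   .loop none [.fwd 17986],
   .loop none [.bwd 16437, .fwd 17987, .fwd 17158],
   .loop none [.fwd 17988],
   .loop none [.fwd 16703, .fwd 17989, .fwd 17159],
   .loop none [.fwd 17990],
   .loop none [.bwd 17160, .bwd 17991],
   .loop (some (19, 2)) [.bwd 16969, .bwd 17033, .bwd 17032, .bwd 17145, .bwd 17144, .bwd 17968, .fwd 17967],
   .loop none [.fwd 17993],
   .loop none [.bwd 16970, .fwd 17994, .bwd 17363],
   .loop none [.fwd 17995],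
   .loop none [.fwd 17967, .bwd 17994],
   .loop none [.fwd 17362, .bwd 17996],
   .loop (some (14, 2)) [.fwd 17997, .fwd 17968, .bwd 9205, .fwd 17140]]

theorem just71_len : just71.length = 250 := by decide +kernel

theorem just71_ok : cert.okFacts 17750 just71 = true := by decide +kernel


end CfsgLib.ThCent.DX
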