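import Cfsg.Agent.Lib.ThCent.DXData

/-!
Justifications of the side facts (generated data).
-/

namespace CfsgLib.ThCent.DX

open CfsgLib.PresCert

set_option maxRecDepth 100000

/-- justifications -/
noncomputable def just72 : List Cert.Just :=
  [.loop (some (14, 3)) [.fwd 17181, .fwd 17461, .bwd 9018, .bwd 918, .fwd 17496],
   .loop none [.fwd 18000],
   .loop none [.bwd 17497, .bwd 18001],
   .loop none [.fwd 17496, .bwd 18001],
   .loop (some (9, 2)) [.fwd 17366, .bwd 9018, .bwd 11034],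
   .loop (some (15, 0)) [.bwd 14288, .fwd 11362, .fwd 6736, .fwd 5627],
   .loop (some (20, 0)) [.fwd 17148, .fwd 17149, .fwd 17150, .bwd 17431, .fwd 17432, .fwd 7815, .fwd 8022, .bwd 4515],
   .loop (some (15, 0)) [.bwd 17431, .fwd 17432, .fwd 7815, .fwd 8022],
   .loop (some (13, 2)) [.bwd 4570, .bwd 11295, .fwd 17433],
   .loop (some (12, 1)) [.fwd 9829, .bwd 7176, .bwd 18008],
   .loop (some (10, 2)) [.bwd 4571, .bwd 18008, .fwd 17434],
   .loop (some (12, 1)) [.fwd 11390, .bwd 11103, .bwd 18010],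
   .loop (some (13, 1)) [.fwd 9493, .fwd 9277, .bwd 18010],
   .loop (some (11, 2)) [.bwd 4572, .bwd 18010, .fwd 17435],
   .loop (some (12, 2)) [.bwd 4573, .bwd 18013, .fwd 17436],
   .loop (some (0, 1)) [.fwd 18013, .bwd 9540],
   .loop (some (10, 1)) [.fwd 9486, .bwd 9279, .bwd 18013],
   .loop (some (13, 2)) [.bwd 4574, .bwd 18014, .fwd 17437],
   .loop (some (10, 1)) [.fwd 9485, .bwd 9280, .bwd 18014],
   .loop (some (10, 2)) [.bwd 4575, .bwd 18017, .fwd 17438],
   .loop (some (13, 1)) [.fwd 9485, .fwd 9281, .bwd 18019],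
   .loop (some (11, 2)) [.bwd 4576, .bwd 18019, .fwd 17439],
   .loop (some (12, 2)) [.bwd 4577, .bwd 18021, .fwd 17440],
   .loop (some (13, 1)) [.fwd 9483, .bwd 9282, .bwd 18021],
   .loop (some (13, 2)) [.bwd 4578, .bwd 18022, .fwd 17441],
   .loop (some (10, 2)) [.bwd 4579, .bwd 18024, .fwd 17442],
   .loop (some (13, 1)) [.fwd 9477, .fwd 9285, .bwd 18025],
   .loop (some (11, 2)) [.bwd 4580, .bwd 18025, .fwd 17443],
   .loop (some (12, 2)) [.bwd 4581, .bwd 18027, .fwd 17444],
   .loop (some (13, 1)) [.fwd 9475, .bwd 9286, .bwd 18027],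
   .loop (some (10, 1)) [.fwd 9470, .bwd 9287, .bwd 18027],
   .loop (some (13, 2)) [.bwd 4582, .bwd 18028, .fwd 17445],
   .loop (some (10, 1)) [.fwd 9469, .bwd 9288, .bwd 18028],
   .loop (some (10, 2)) [.bwd 4583, .bwd 18031, .fwd 17446],
   .loop (some (13, 1)) [.fwd 9469, .fwd 9289, .bwd 18033],
   .loop (some (11, 2)) [.bwd 4584, .bwd 18033, .fwd 17447],
   .loop (some (12, 2)) [.bwd 4585, .bwd 18035, .fwd 17448],
   .loop (some (13, 1)) [.fwd 9467, .bwd 9290, .bwd 18035],
   .loop (some (10, 1)) [.fwd 9462, .bwd 9291, .bwd 18035],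
   .loop (some (13, 2)) [.bwd 4586, .bwd 18036, .fwd 17449],
   .loop (some (10, 1)) [.fwd 9461, .bwd 9292, .bwd 18036],
   .loop (some (10, 2)) [.bwd 4587, .bwd 18039, .fwd 17450],
   .loop (some (13, 1)) [.fwd 9461, .fwd 9293, .bwd 18041],
   .loop (some (11, 2)) [.bwd 4588, .bwd 18041, .bwd 17431],
   .loop (some (18, 4)) [.bwd 9294, .fwd 4589, .fwd 4590, .bwd 8913, .fwd 17005],
   .loop (some (13, 2)) [.fwd 9459, .bwd 9294, .bwd 18043, .bwd 15485],
   .loop none [.fwd 18045],
   .loop none [.fwd 15484, .bwd 18046],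
   .loop none [.bwd 15485, .bwd 18046],
   .loop (some (10, 2)) [.fwd 9454, .bwd 9295, .bwd 18043, .fwd 15486],
   .loop none [.fwd 18049],
   .loop none [.fwd 15486, .bwd 18050],
   .loop none [.bwd 15487, .bwd 18050],
   .loop (some (20, 4)) [.bwd 9212, .fwd 8245, .fwd 8216, .bwd 8217, .fwd 8205, .fwd 8059, .fwd 18052, .fwd 15488],
   .loop (some (2, 2)) [.bwd 5140, .fwd 8249, .fwd 17099, .bwd 17098],
   .loop none [.fwd 18054],
   .loop none [.bwd 5141, .fwd 18055, .bwd 17127],
   .loop none [.fwd 18056],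
   .loop none [.bwd 17098, .bwd 18055],
   .loop none [.fwd 17097, .bwd 18055],
   .loop none [.fwd 17126, .bwd 18057],
   .loop none [.bwd 5142, .fwd 18057, .bwd 17464],
   .loop none [.fwd 18061],
   .loop none [.fwd 17463, .bwd 18062],
   .loop (some (12, 2)) [.bwd 4835, .bwd 9302, .fwd 17073],
   .loop (some (9, 2)) [.fwd 17887, .bwd 9302, .bwd 17907],
   .loop (some (0, 0)) [.fwd 17916, .fwd 18064],
   .loop (some (13, 2)) [.bwd 4836, .bwd 18064, .fwd 17074],
   .loop (some (10, 2)) [.bwd 4837, .bwd 18067, .fwd 17075],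
   .loop (some (11, 2)) [.bwd 4838, .bwd 18068, .fwd 17076],
   .loop (some (12, 2)) [.bwd 4839, .bwd 18069, .fwd 17077],
   .loop (some (13, 2)) [.bwd 4840, .bwd 18070, .fwd 17078],
   .loop (some (10, 2)) [.bwd 4841, .bwd 18071, .fwd 17079],
   .loop (some (11, 2)) [.bwd 4842, .bwd 18072, .fwd 17080],
   .loop (some (12, 2)) [.bwd 4843, .bwd 18073, .fwd 17081],
   .loop (some (13, 2)) [.bwd 4844, .bwd 18074, .fwd 17082],
   .loop (some (10, 2)) [.bwd 4845, .bwd 18075, .fwd 17083],
   .loop (some (11, 2)) [.bwd 4846, .bwd 18076, .fwd 17084],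
   .loop (some (12, 2)) [.bwd 4847, .bwd 18077, .fwd 17085],
   .loop (some (13, 2)) [.bwd 4848, .bwd 18078, .fwd 17086],
   .loop (some (10, 2)) [.bwd 4849, .bwd 18079, .fwd 17087],
   .loop (some (4, 3)) [.fwd 4850, .fwd 16437, .bwd 16124],
   .loop (some (11, 2)) [.bwd 4850, .bwd 18080, .fwd 17088],
   .loop (some (2, 1)) [.bwd 15361, .bwd 4851, .fwd 16436],
   .loop (some (3, 1)) [.fwd 16703, .bwd 16437, .fwd 16436],
   .loop (some (0, 1)) [.fwd 18082, .fwd 17468],
   .loop (some (7, 2)) [.fwd 17029, .fwd 11012, .fwd 14177],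
   .loop (some (5, 2)) [.fwd 17026, .fwd 11012, .bwd 17387],
   .loop (some (14, 2)) [.fwd 17499, .fwd 16813, .fwd 16814, .bwd 13768, .bwd 16972],
   .loop none [.bwd 18088],
   .loop none [.fwd 17498, .bwd 18089],
   .loop none [.bwd 17499, .bwd 18089],
   .loop (some (11, 2)) [.fwd 17029, .bwd 13768, .bwd 17072],
   .loop (some (9, 2)) [.fwd 17026, .bwd 13768, .bwd 17070],
   .loop (some (11, 2)) [.bwd 17959, .bwd 9307, .fwd 17673],
   .loop (some (20, 0)) [.bwd 9739, .bwd 11109, .fwd 7347, .fwd 10442, .fwd 10443, .fwd 15300, .bwd 13665, .bwd 13869],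
   .loop (some (2, 2)) [.bwd 14885, .fwd 4945, .bwd 17134],
   .loop (some (1, 2)) [.fwd 4944, .fwd 18095, .fwd 9740],
   .loop (some (15, 0)) [.bwd 12521, .fwd 14942, .fwd 4950, .fwd 4951],
   .loop (some (18, 2)) [.bwd 17962, .bwd 13802, .fwd 7993, .fwd 4975, .fwd 4976],
   .loop (some (2, 2)) [.bwd 17324, .bwd 18099, .fwd 4977, .bwd 17423],
   .loop none [.fwd 18100],
   .loop none [.bwd 17423, .bwd 18101],
   .loop none [.fwd 17422, .bwd 18101],
   .loop (some (11, 2)) [.bwd 14169, .bwd 9337, .fwd 17646],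
   .loop (some (12, 2)) [.fwd 13781, .bwd 9339, .bwd 18102],
   .loop (some (11, 2)) [.bwd 14184, .bwd 9376, .fwd 17959],
   .loop (some (2, 2)) [.bwd 5138, .fwd 15328, .fwd 17942],
   .loop (some (8, 0)) [.fwd 17481, .bwd 16177, .bwd 18058],
   .loop (some (12, 1)) [.fwd 17101, .bwd 18058, .bwd 9409],
   .loop (some (15, 0)) [.fwd 16842, .bwd 16299, .bwd 16815, .bwd 18058],
   .loop (some (15, 0)) [.bwd 17301, .fwd 17462, .bwd 18063, .bwd 5142],
   .loop (some (10, 2)) [.bwd 18060, .bwd 9410, .fwd 11401],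
   .loop (some (15, 0)) [.bwd 17472, .bwd 16815, .bwd 18058, .fwd 5141, .fwd 5142],
   .loop none [.bwd 18113],
   .loop none [.fwd 17472, .bwd 18114],
   .loop (some (17, 5)) [.fwd 5152, .fwd 5153, .fwd 14913, .bwd 9754, .bwd 9753],
   .loop (some (4, 2)) [.fwd 5151, .bwd 18116, .bwd 9752],
   .loop (some (15, 0)) [.bwd 17435, .fwd 18011, .fwd 11393, .bwd 5410],
   .loop (some (20, 0)) [.fwd 8249, .fwd 8217, .bwd 8216, .bwd 8245, .fwd 9212, .bwd 18053, .bwd 15488, .bwd 18052],
   .loop (some (1, 2)) [.bwd 5479, .fwd 18119, .bwd 5139],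
   .loop (some (9, 1)) [.fwd 9406, .bwd 18119, .bwd 9299],
   .loop (some (9, 1)) [.fwd 9405, .fwd 18120, .bwd 9432],
   .loop (some (12, 2)) [.bwd 18047, .bwd 9434, .bwd 9300],
   .loop (some (15, 0)) [.fwd 16992, .bwd 13750, .fwd 15483, .bwd 18047],
   .loop (some (15, 0)) [.fwd 15483, .bwd 18047, .fwd 5481, .fwd 5482],
   .loop (some (15, 0)) [.bwd 15245, .fwd 14753, .fwd 14047, .bwd 11396],
   .loop (some (9, 3)) [.bwd 9454, .fwd 18119, .fwd 9500],
   .loop (some (1, 0)) [.fwd 5680, .fwd 18127, .fwd 5524],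
   .loop (some (12, 2)) [.fwd 18044, .bwd 9459, .fwd 18047],
   .loop (some (15, 0)) [.fwd 17022, .bwd 16478, .bwd 17006, .fwd 18044],
   .loop (some (15, 0)) [.bwd 17006, .fwd 18044, .fwd 5526, .fwd 5527],
   .loop (some (15, 0)) [.bwd 15246, .bwd 14897, .bwd 14297, .bwd 8477],
   .loop (some (17, 3)) [.fwd 16742, .bwd 17979, .fwd 5582, .fwd 5583, .fwd 11401],
   .loop (some (8, 0)) [.bwd 5679, .bwd 17976, .bwd 17980],
   .loop (some (12, 1)) [.fwd 18092, .bwd 18109, .bwd 9501],
   .loop (some (15, 0)) [.fwd 4850, .fwd 4851, .bwd 17029, .bwd 18109],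
   .loop (some (15, 0)) [.bwd 17029, .bwd 18109, .fwd 5583, .fwd 5584],
   .loop (some (15, 0)) [.fwd 14895, .fwd 14761, .fwd 14055, .bwd 9431],
   .loop (some (4, 0)) [.bwd 15489, .fwd 18053, .bwd 5646],
   .loop (some (15, 0)) [.fwd 17062, .bwd 16388, .bwd 7806, .fwd 9300],
   .loop (some (15, 0)) [.fwd 17231, .fwd 17232, .fwd 17233, .bwd 5649],
   .loop (some (8, 2)) [.fwd 5665, .fwd 11394, .bwd 18011],
   .loop (some (15, 0)) [.fwd 13817, .bwd 14299, .fwd 14400, .bwd 9497],
   .loop (some (5, 2)) [.fwd 18128, .bwd 18134, .bwd 18121],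
   .loop (some (15, 0)) [.fwd 17088, .bwd 16345, .bwd 17072, .bwd 18135],
   .loop (some (15, 0)) [.bwd 17072, .bwd 18135, .fwd 5682, .fwd 5683],
   .loop (some (16, 2)) [.fwd 16628, .bwd 14458, .fwd 10883, .fwd 14292, .bwd 14048],
   .loop (some (15, 0)) [.bwd 15300, .bwd 10443, .bwd 10442, .bwd 7347],
   .loop (some (20, 0)) [.bwd 10132, .fwd 7673, .bwd 11754, .bwd 13378, .bwd 16049, .bwd 16048, .bwd 16600, .bwd 17819],
   .loop (some (2, 1)) [.fwd 17823, .bwd 17820, .fwd 5909],
   .loop (some (8, 0)) [.bwd 16639, .bwd 16514, .bwd 17820],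
   .loop (some (15, 0)) [.bwd 16018, .bwd 16017, .fwd 17825, .bwd 17820],
   .loop (some (20, 0)) [.fwd 15976, .bwd 10008, .bwd 9998, .fwd 11020, .fwd 9985, .fwd 736, .bwd 858, .bwd 7794],
   .loop (some (15, 0)) [.fwd 15710, .fwd 13404, .fwd 914, .bwd 5970],
   .loop (some (20, 0)) [.fwd 16475, .fwd 15972, .bwd 11780, .fwd 11768, .bwd 10987, .fwd 7738, .fwd 7772, .bwd 7797],
   .loop (some (5, 3)) [.bwd 18155, .bwd 5955, .fwd 18153, .fwd 16762],
   .loop none [.fwd 18156],
   .loop none [.bwd 16752, .bwd 18157],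
   .loop (some (15, 0)) [.fwd 15934, .bwd 13782, .fwd 8201, .bwd 8913],
   .loop (some (5, 3)) [.fwd 17304, .bwd 5956, .fwd 18155, .fwd 18158],
   .loop none [.fwd 18160],
   .loop none [.bwd 16753, .bwd 18161],
   .loop none [.fwd 18158, .bwd 18161],
   .loop (some (9, 2)) [.fwd 17304, .bwd 7801, .fwd 17094],
   .loop (some (20, 0)) [.fwd 16386, .fwd 15883, .bwd 11782, .fwd 11773, .bwd 10982, .bwd 7745, .fwd 7766, .bwd 7803],
   .loop (some (5, 3)) [.bwd 18165, .bwd 5957, .bwd 17304, .fwd 18162],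
   .loop none [.fwd 18166],
   .loop none [.fwd 16759, .bwd 18167],
   .loop none [.bwd 16754, .bwd 18167],
   .loop none [.fwd 18162, .bwd 18167],
   .loop (some (1, 2)) [.fwd 5963, .fwd 18165, .fwd 18168],
   .loop (some (9, 2)) [.bwd 18165, .bwd 7807, .fwd 18155],
   .loop (some (20, 1)) [.fwd 16342, .fwd 15838, .bwd 11786, .bwd 10993, .bwd 10981, .bwd 7744, .fwd 7764, .fwd 7783, .fwd 17094],
   .loop none [.fwd 18173],
   .loop none [.fwd 17094, .bwd 18174],
   .loop none [.bwd 17970, .bwd 18174],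
   .loop none [.fwd 16341, .fwd 18174, .bwd 17255],
   .loop none [.bwd 18177],
   .loop none [.bwd 16755, .bwd 18174],
   .loop none [.fwd 18169, .bwd 18174],
   .loop none [.bwd 18164, .bwd 18174],
   .loop none [.bwd 16341, .bwd 18178],
   .loop none [.bwd 17067, .fwd 18178, .bwd 16340],
   .loop none [.bwd 18183],
   .loop none [.bwd 17068, .bwd 18184],
   .loop none [.fwd 17067, .bwd 18184],
   .loop none [.fwd 17391, .bwd 18184],
   .loop (some (9, 2)) [.fwd 18175, .bwd 7809, .fwd 5968],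
   .loop (some (5, 1)) [.bwd 16757, .fwd 17428, .fwd 5961],
   .loop (some (15, 0)) [.fwd 17149, .fwd 17150, .bwd 17431, .fwd 17432],
   .loop (some (15, 0)) [.fwd 17186, .fwd 17187, .fwd 17188, .fwd 17189],
   .loop (some (8, 2)) [.bwd 9300, .bwd 5962, .bwd 17189],
   .loop (some (15, 0)) [.fwd 17233, .bwd 5649, .bwd 5648, .bwd 9300],
   .loop (some (2, 2)) [.fwd 16522, .bwd 10996, .bwd 15976],
   .loop (some (12, 2)) [.fwd 16522, .bwd 17305, .fwd 16430],
   .loop (some (15, 0)) [.bwd 16270, .fwd 9978, .bwd 10014, .bwd 15790, .fwd 16522],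
   .loop none [.bwd 18196],
   .loop none [.fwd 16270, .bwd 18197],
   .loop (some (15, 0)) [.bwd 15349, .bwd 13684, .fwd 14814, .fwd 14341, .bwd 9580],
   .loop none [.bwd 18199],
   .loop none [.fwd 15349, .bwd 18200],
   .loop (some (15, 0)) [.bwd 15390, .bwd 13701, .fwd 14812, .fwd 14339, .bwd 9581],
   .loop none [.bwd 18202],
   .loop none [.fwd 15390, .bwd 18203],
   .loop (some (15, 0)) [.bwd 15436, .fwd 13042, .fwd 14815, .fwd 14338, .bwd 9583],
   .loop none [.bwd 18205],
   .loop none [.fwd 15436, .bwd 18206],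
   .loop (some (20, 2)) [.fwd 15388, .fwd 15389, .fwd 14564, .bwd 10975, .bwd 13701, .fwd 14812, .fwd 14339, .fwd 8722, .fwd 14121],
   .loop none [.bwd 18208],
   .loop none [.bwd 15388, .bwd 18209],
   .loop none [.fwd 15387, .bwd 18209],
   .loop (some (15, 0)) [.fwd 14585, .bwd 13895, .bwd 8300, .fwd 9581],
   .loop (some (15, 0)) [.fwd 15137, .bwd 13893, .bwd 8298, .fwd 9580],
   .loop (some (13, 2)) [.bwd 12181, .bwd 14345, .fwd 15902],
   .loop (some (17, 2)) [.bwd 15857, .bwd 15856, .fwd 14342, .bwd 11484, .fwd 12062],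
   .loop (some (15, 0)) [.bwd 14384, .fwd 14385, .bwd 14368, .bwd 14352],
   .loop (some (15, 0)) [.fwd 14389, .fwd 14387, .bwd 14114, .bwd 14348],
   .loop (some (15, 0)) [.fwd 14228, .fwd 14371, .bwd 14364, .bwd 14354],
   .loop (some (2, 2)) [.bwd 18215, .fwd 11265, .fwd 14077, .fwd 15765],
   .loop none [.bwd 18219],
   .loop none [.fwd 18215, .bwd 18220],
   .loop none [.fwd 15857, .bwd 18220],
   .loop none [.fwd 15765, .fwd 18220, .fwd 15858],
   .loop none [.fwd 18223],
   .loop none [.fwd 12203, .fwd 18224, .fwd 15859],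
   .loop none [.fwd 18225],
   .loop none [.fwd 7239, .fwd 18226, .fwd 15860],
   .loop none [.fwd 18227],
   .loop none [.bwd 7238, .fwd 18228, .fwd 15861],
   .loop none [.fwd 18229],
   .loop none [.bwd 10908, .fwd 18230, .fwd 15862],
   .loop none [.fwd 18231],
   .loop none [.bwd 10925, .fwd 18232, .fwd 15863],
   .loop none [.fwd 18233],
   .loop none [.bwd 15864, .bwd 18234],
   .loop (some (5, 1)) [.bwd 16166, .fwd 17855, .fwd 9980],
   .loop (some (14, 1)) [.fwd 15678, .fwd 9954, .fwd 9955, .bwd 11285],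
   .loop (some (15, 0)) [.fwd 15061, .bwd 10549, .bwd 10548, .bwd 8409],
   .loop (some (14, 1)) [.fwd 16240, .fwd 10117, .bwd 11128, .bwd 11287],
   .loop (some (21, 1)) [.bwd 15398, .bwd 9958, .bwd 9957, .bwd 428, .fwd 6961, .bwd 11149, .fwd 11148, .fwd 6846],
   .loop (some (8, 2)) [.bwd 11151, .fwd 18237, .fwd 15358],
   .loop (some (8, 2)) [.fwd 11190, .fwd 18239, .fwd 15900],
   .loop (some (15, 0)) [.fwd 12606, .fwd 12607, .fwd 14441, .bwd 9704],
   .loop (some (15, 0)) [.bwd 14605, .bwd 14463, .fwd 9742, .fwd 9743],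
   .loop (some (15, 0)) [.fwd 5149, .fwd 5150, .bwd 18117, .bwd 9751],
   .loop (some (12, 2)) [.bwd 9759, .bwd 14902, .bwd 16046],
   .loop (some (0, 1)) [.fwd 18246, .fwd 14904],
   .loop (some (11, 2)) [.fwd 9516, .bwd 11417, .bwd 18246, .bwd 16045],
   .loop none [.fwd 18248]]

theorem just72_len : just72.length = 250 := by decide +kernel

theorem just72_ok : cert.okFacts 18000 just72 = true := by decide +kernel

/-- justifications -/
noncomputable def just73 : List Cert.Just :=
  [.loop none [.fwd 16044, .bwd 18249],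
   .loop none [.bwd 16045, .bwd 18249],
   .loop (some (10, 1)) [.fwd 14455, .fwd 14281, .bwd 18246],
   .loop (some (15, 0)) [.fwd 5694, .fwd 5695, .fwd 18251, .fwd 16046],
   .loop (some (14, 1)) [.fwd 14520, .fwd 11705, .bwd 11721, .bwd 14457],
   .loop (some (17, 3)) [.bwd 15865, .bwd 18235, .bwd 10922, .fwd 9766, .fwd 9767, .fwd 11651],
   .loop none [.bwd 18255],
   .loop none [.fwd 15865, .bwd 18256],
   .loop none [.fwd 10561, .fwd 18256, .fwd 15866],
   .loop none [.fwd 18258],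
   .loop none [.bwd 11655, .fwd 18259, .fwd 15867],
   .loop none [.fwd 18260],
   .loop none [.fwd 9770, .fwd 18261, .fwd 15868],
   .loop none [.fwd 18262],
   .loop none [.bwd 15869, .bwd 18263],
   .loop (some (21, 8)) [.fwd 10923, .bwd 1697, .fwd 654, .bwd 721, .bwd 735, .fwd 15402, .bwd 15756, .bwd 15755],
   .loop (some (6, 1)) [.bwd 12756, .fwd 9766, .bwd 18265],
   .loop (some (21, 8)) [.fwd 11069, .bwd 1675, .bwd 757, .bwd 737, .bwd 767, .fwd 15942, .bwd 16291, .bwd 16290],
   .loop (some (17, 3)) [.fwd 14251, .bwd 9831, .bwd 18252, .bwd 18251, .fwd 18250],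
   .loop (some (20, 0)) [.bwd 16017, .fwd 17825, .bwd 17820, .fwd 17819, .fwd 16600, .fwd 16048, .fwd 16049, .fwd 13378],
   .loop (some (6, 1)) [.fwd 15516, .bwd 9930, .bwd 16027],
   .loop (some (14, 1)) [.fwd 16127, .bwd 16126, .bwd 16062, .fwd 11756],
   .loop (some (15, 0)) [.fwd 16022, .bwd 10132, .fwd 7673, .bwd 11754],
   .loop (some (20, 0)) [.fwd 15512, .fwd 15513, .fwd 15514, .fwd 13036, .fwd 13005, .fwd 12546, .fwd 11610, .fwd 9931],
   .loop (some (1, 0)) [.fwd 15634, .fwd 14631, .bwd 9945],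
   .loop (some (8, 3)) [.fwd 11759, .bwd 17805, .fwd 17808],
   .loop (some (18, 2)) [.bwd 6850, .bwd 6849, .fwd 11515, .bwd 18275, .bwd 16849],
   .loop (some (12, 1)) [.fwd 17811, .fwd 18275, .bwd 11593],
   .loop (some (21, 1)) [.bwd 15937, .bwd 9973, .bwd 9972, .bwd 3134, .bwd 10125, .fwd 10124, .bwd 11124, .fwd 11131],
   .loop (some (2, 2)) [.bwd 13583, .bwd 10979, .fwd 15760],
   .loop (some (12, 2)) [.bwd 13583, .bwd 15678, .fwd 15358],
   .loop (some (9, 1)) [.fwd 15065, .fwd 13920, .bwd 15678],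
   .loop (some (10, 1)) [.fwd 16240, .fwd 10979, .bwd 15678],
   .loop (some (3, 3)) [.bwd 13056, .bwd 10956, .fwd 15715, .fwd 16863],
   .loop none [.fwd 18283],
   .loop none [.fwd 16863, .bwd 18284],
   .loop none [.bwd 16864, .bwd 18284],
   .loop (some (4, 1)) [.bwd 18286, .bwd 13056, .bwd 13093],
   .loop (some (1, 2)) [.bwd 15398, .bwd 14563, .bwd 15141],
   .loop (some (3, 2)) [.bwd 15398, .fwd 10989, .fwd 15937],
   .loop (some (15, 0)) [.bwd 14338, .bwd 14815, .bwd 13042, .fwd 10976],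
   .loop (some (13, 2)) [.fwd 9967, .bwd 11763, .fwd 15398],
   .loop (some (3, 2)) [.bwd 13642, .fwd 10978, .fwd 15804],
   .loop (some (2, 2)) [.bwd 15326, .bwd 11765, .fwd 15850],
   .loop (some (12, 2)) [.bwd 15326, .bwd 18291, .fwd 15399],
   .loop (some (10, 2)) [.fwd 11765, .bwd 18291, .bwd 18289],
   .loop (some (15, 0)) [.fwd 2504, .bwd 15677, .bwd 15676, .fwd 13333],
   .loop (some (20, 0)) [.bwd 15709, .fwd 7736, .bwd 10028, .fwd 15975, .fwd 15976, .bwd 10008, .bwd 9998, .fwd 11020],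
   .loop (some (1, 2)) [.bwd 15715, .fwd 18297, .fwd 16189],
   .loop (some (9, 1)) [.fwd 16197, .bwd 18297, .bwd 11764],
   .loop (some (20, 0)) [.bwd 15933, .fwd 16183, .bwd 17000, .fwd 16999, .fwd 16475, .fwd 15972, .bwd 11780, .fwd 11768],
   .loop (some (5, 3)) [.bwd 18300, .bwd 9973, .fwd 18297, .fwd 16171],
   .loop none [.fwd 18301],
   .loop none [.bwd 16161, .bwd 18302],
   .loop (some (5, 3)) [.fwd 17554, .bwd 9974, .fwd 18300, .fwd 18303],
   .loop none [.fwd 18304],
   .loop none [.bwd 16162, .bwd 18305],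
   .loop (some (5, 3)) [.bwd 18299, .bwd 9975, .bwd 17554, .fwd 18306],
   .loop none [.fwd 18307],
   .loop none [.fwd 16168, .bwd 18308],
   .loop (some (1, 2)) [.fwd 9982, .fwd 18299, .fwd 18309],
   .loop (some (15, 0)) [.bwd 17307, .fwd 7058, .bwd 16522, .fwd 15790, .fwd 10014],
   .loop none [.bwd 18311],
   .loop none [.fwd 17307, .bwd 18312],
   .loop (some (12, 2)) [.bwd 15850, .bwd 18295, .fwd 15938],
   .loop (some (6, 1)) [.fwd 16942, .fwd 13733, .bwd 17549],
   .loop (some (3, 2)) [.bwd 16238, .bwd 13733, .fwd 16956],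
   .loop (some (15, 0)) [.bwd 7058, .fwd 16519, .bwd 16233, .fwd 14587],
   .loop (some (3, 3)) [.bwd 11041, .fwd 17275, .fwd 17276],
   .loop (some (4, 2)) [.bwd 17277, .fwd 18318, .fwd 11020, .fwd 15715],
   .loop none [.bwd 18319],
   .loop none [.fwd 17277, .bwd 18320],
   .loop none [.bwd 15716, .fwd 18320, .fwd 17278],
   .loop none [.fwd 18322],
   .loop none [.bwd 15717, .fwd 18323, .fwd 17279],
   .loop none [.fwd 18324],
   .loop none [.bwd 13116, .fwd 18325, .fwd 17280],
   .loop none [.fwd 18326],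
   .loop none [.fwd 13087, .fwd 18327, .fwd 17281],
   .loop none [.fwd 18328],
   .loop none [.fwd 13154, .fwd 18329, .fwd 17282],
   .loop none [.fwd 18330],
   .loop none [.bwd 17283, .bwd 18331],
   .loop (some (15, 0)) [.fwd 15975, .fwd 15976, .bwd 10008, .bwd 9998],
   .loop (some (15, 0)) [.fwd 16999, .fwd 16475, .fwd 15972, .bwd 11780],
   .loop (some (15, 0)) [.fwd 17271, .fwd 16430, .fwd 15930, .bwd 11783],
   .loop (some (15, 0)) [.fwd 16779, .fwd 16386, .fwd 15883, .bwd 11782],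
   .loop (some (15, 0)) [.fwd 18182, .fwd 16342, .fwd 15838, .bwd 11786],
   .loop (some (3, 1)) [.bwd 15680, .bwd 15679, .bwd 11777],
   .loop (some (17, 4)) [.fwd 15838, .bwd 11798, .fwd 11826, .fwd 11814, .fwd 16999],
   .loop (some (7, 3)) [.fwd 15838, .bwd 10003, .bwd 15790, .fwd 16523],
   .loop none [.fwd 18340],
   .loop none [.bwd 16273, .bwd 18341],
   .loop none [.fwd 16523, .bwd 18341],
   .loop none [.fwd 16525, .bwd 18341],
   .loop (some (7, 3)) [.fwd 15883, .bwd 10004, .bwd 15838, .fwd 18342],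
   .loop none [.fwd 18345],
   .loop none [.bwd 16274, .bwd 18346],
   .loop none [.fwd 18342, .bwd 18346],
   .loop (some (11, 2)) [.fwd 15883, .bwd 11031, .bwd 15972],
   .loop (some (17, 4)) [.fwd 15930, .bwd 11803, .fwd 11827, .fwd 11817, .fwd 16779],
   .loop (some (7, 3)) [.fwd 15930, .bwd 10005, .bwd 15883, .fwd 18347],
   .loop none [.fwd 18351],
   .loop none [.fwd 16280, .bwd 18352],
   .loop none [.fwd 18347, .bwd 18352],
   .loop (some (4, 2)) [.fwd 10013, .bwd 15930, .fwd 18353],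
   .loop (some (11, 2)) [.fwd 15930, .bwd 11036, .bwd 15838],
   .loop (some (15, 0)) [.bwd 16229, .fwd 7736, .bwd 10028, .fwd 15975, .fwd 15976],
   .loop none [.bwd 18357],
   .loop none [.fwd 16229, .bwd 18358],
   .loop (some (7, 1)) [.bwd 16278, .fwd 17274, .fwd 10011],
   .loop (some (0, 0)) [.fwd 18093, .fwd 17273],
   .loop (some (15, 0)) [.fwd 18063, .bwd 17462, .fwd 17301, .fwd 17265],
   .loop (some (8, 2)) [.bwd 17475, .bwd 10011, .bwd 17265],
   .loop (some (20, 6)) [.fwd 17261, .fwd 10038, .fwd 10059, .bwd 13811, .bwd 14291, .fwd 10092, .bwd 13761, .bwd 16912],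
   .loop (some (13, 2)) [.bwd 16768, .fwd 11813, .bwd 10027],
   .loop (some (2, 1)) [.bwd 16465, .bwd 17000, .bwd 11814],
   .loop (some (13, 2)) [.bwd 17001, .bwd 10031, .fwd 16768],
   .loop (some (2, 1)) [.bwd 16423, .bwd 17272, .bwd 11815],
   .loop (some (2, 1)) [.bwd 16379, .bwd 16780, .bwd 11817],
   .loop (some (4, 2)) [.fwd 10027, .fwd 16779, .fwd 18168],
   .loop (some (2, 1)) [.bwd 16332, .fwd 18186, .fwd 11024],
   .loop (some (7, 1)) [.bwd 16757, .fwd 17542, .fwd 10025],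
   .loop (some (17, 4)) [.bwd 18372, .fwd 11821, .fwd 11829, .bwd 11809, .fwd 18360],
   .loop (some (8, 2)) [.bwd 17183, .bwd 10025, .fwd 17146],
   .loop (some (15, 0)) [.bwd 17186, .bwd 17185, .bwd 17184, .bwd 17183],
   .loop (some (8, 2)) [.bwd 17230, .bwd 10026, .fwd 17183],
   .loop (some (15, 0)) [.bwd 17233, .bwd 17232, .bwd 17231, .bwd 17230],
   .loop (some (12, 2)) [.fwd 17261, .bwd 11822, .fwd 18368],
   .loop (some (4, 3)) [.bwd 11824, .fwd 18338, .fwd 15681],
   .loop (some (8, 2)) [.bwd 16775, .bwd 18366, .fwd 10034, .fwd 18368],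
   .loop none [.bwd 18380],
   .loop none [.fwd 16529, .bwd 18381],
   .loop (some (8, 2)) [.bwd 18382, .bwd 18368, .fwd 10035, .fwd 18369],
   .loop none [.bwd 18383],
   .loop none [.fwd 18382, .bwd 18384],
   .loop none [.fwd 16528, .bwd 18384],
   .loop (some (8, 2)) [.bwd 18386, .bwd 18369, .fwd 10036, .fwd 18371],
   .loop none [.bwd 18387],
   .loop none [.fwd 18386, .bwd 18388],
   .loop none [.fwd 17262, .bwd 18388],
   .loop (some (12, 2)) [.bwd 18369, .bwd 11819, .fwd 18366],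
   .loop (some (7, 1)) [.fwd 16910, .fwd 16182, .bwd 16774],
   .loop (some (18, 4)) [.bwd 16776, .bwd 10045, .bwd 18379, .fwd 15682, .fwd 15683],
   .loop (some (13, 2)) [.bwd 18338, .fwd 11831, .bwd 10058],
   .loop (some (13, 2)) [.bwd 17275, .fwd 11834, .bwd 10075],
   .loop (some (4, 2)) [.bwd 17275, .fwd 14558, .fwd 14329],
   .loop (some (15, 0)) [.fwd 18364, .fwd 17261, .fwd 10038, .bwd 10078],
   .loop (some (4, 2)) [.fwd 16152, .bwd 14622, .bwd 15634],
   .loop (some (15, 0)) [.bwd 18392, .bwd 18366, .bwd 11826, .fwd 11830],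
   .loop (some (4, 2)) [.bwd 16533, .bwd 13761, .fwd 16911],
   .loop (some (5, 3)) [.bwd 10124, .fwd 14458, .fwd 16961],
   .loop (some (5, 1)) [.bwd 16966, .fwd 16239, .fwd 10117],
   .loop (some (12, 2)) [.bwd 15760, .bwd 16240, .fwd 15900],
   .loop (some (5, 1)) [.bwd 16967, .bwd 18402, .bwd 11128],
   .loop (some (2, 2)) [.fwd 17352, .bwd 13763, .bwd 17361],
   .loop (some (6, 1)) [.fwd 16955, .fwd 13763, .bwd 16965],
   .loop (some (3, 2)) [.bwd 16165, .bwd 13763, .fwd 16943],
   .loop (some (17, 3)) [.fwd 16586, .fwd 16022, .bwd 11001, .bwd 10594, .bwd 10593],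
   .loop (some (14, 1)) [.fwd 16719, .bwd 16706, .bwd 16644, .bwd 11002],
   .loop (some (6, 1)) [.bwd 16015, .bwd 10161, .fwd 12925],
   .loop (some (5, 2)) [.bwd 16050, .bwd 13751, .bwd 15803],
   .loop (some (14, 1)) [.fwd 16076, .fwd 13340, .fwd 13341, .bwd 11078],
   .loop (some (5, 2)) [.bwd 16630, .fwd 16713, .bwd 16344],
   .loop (some (14, 1)) [.fwd 16659, .bwd 16716, .fwd 16717, .bwd 11885],
   .loop (some (6, 1)) [.bwd 16117, .bwd 10244, .fwd 12794],
   .loop (some (8, 2)) [.bwd 10246, .bwd 16383, .bwd 16390],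
   .loop (some (3, 1)) [.fwd 10900, .fwd 10925, .fwd 18235],
   .loop (some (10, 2)) [.bwd 18235, .bwd 11649, .bwd 10961],
   .loop (some (3, 0)) [.bwd 16306, .bwd 16305, .bwd 10296, .bwd 10295],
   .loop none [.bwd 18419],
   .loop none [.fwd 16306, .bwd 18420],
   .loop none [.bwd 16307, .bwd 18420],
   .loop (some (11, 2)) [.bwd 18422, .bwd 14684, .bwd 13236],
   .loop (some (18, 4)) [.bwd 16305, .fwd 11488, .bwd 6170, .fwd 6112, .bwd 18417],
   .loop (some (4, 3)) [.fwd 10436, .fwd 13002, .fwd 16563],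
   .loop (some (3, 0)) [.bwd 15767, .bwd 15766, .fwd 18221, .bwd 11253],
   .loop none [.bwd 18426],
   .loop none [.fwd 15767, .bwd 18427],
   .loop none [.bwd 10541, .fwd 18427, .fwd 15768],
   .loop none [.fwd 18429],
   .loop none [.bwd 10542, .fwd 18430, .fwd 15769],
   .loop none [.fwd 18431],
   .loop none [.bwd 12851, .fwd 18432, .fwd 15770],
   .loop none [.fwd 18433],
   .loop none [.bwd 14307, .fwd 18434, .fwd 15771],
   .loop none [.fwd 18435],
   .loop none [.bwd 13897, .fwd 18436, .fwd 15772],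
   .loop none [.fwd 18437],
   .loop none [.fwd 10429, .fwd 18438, .fwd 15773],
   .loop none [.fwd 18439],
   .loop none [.fwd 11853, .fwd 18440, .fwd 15774],
   .loop none [.fwd 18441],
   .loop none [.fwd 10219, .fwd 18442, .fwd 15775],
   .loop none [.fwd 18443],
   .loop none [.bwd 15776, .bwd 18444],
   .loop (some (9, 2)) [.fwd 17768, .bwd 11064, .bwd 17779],
   .loop (some (18, 1)) [.bwd 16565, .bwd 16564, .fwd 18425, .bwd 10435, .bwd 11218, .fwd 10572],
   .loop none [.bwd 18447],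
   .loop none [.bwd 16566, .bwd 18448],
   .loop none [.fwd 16565, .bwd 18448],
   .loop (some (17, 2)) [.fwd 17917, .bwd 14129, .bwd 11460, .bwd 10573, .fwd 18449, .fwd 16567],
   .loop none [.fwd 18451],
   .loop none [.fwd 16567, .bwd 18452],
   .loop none [.fwd 16350, .fwd 18452, .fwd 16568],
   .loop none [.fwd 18454],
   .loop none [.bwd 16569, .bwd 18455],
   .loop (some (6, 2)) [.bwd 18449, .fwd 11467, .fwd 18428],
   .loop (some (10, 2)) [.bwd 18449, .fwd 11468, .fwd 7239],
   .loop (some (4, 0)) [.fwd 16585, .bwd 18408, .bwd 10592],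
   .loop (some (4, 2)) [.bwd 17359, .fwd 12309, .fwd 12311],
   .loop (some (11, 2)) [.bwd 10641, .bwd 14456, .bwd 18268],
   .loop (some (13, 2)) [.fwd 9521, .bwd 11415, .bwd 18461, .bwd 16043],
   .loop none [.fwd 18462],
   .loop none [.bwd 11425, .fwd 18463, .bwd 16042],
   .loop none [.fwd 18464],
   .loop none [.bwd 16043, .bwd 18463],
   .loop none [.fwd 16041, .bwd 18465],
   .loop (some (4, 2)) [.bwd 10655, .fwd 18133, .bwd 16741],
   .loop (some (17, 1)) [.fwd 16188, .fwd 15710, .bwd 13773, .bwd 12329, .bwd 14048],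
   .loop (some (10, 2)) [.bwd 12101, .bwd 14763, .bwd 15251],
   .loop (some (1, 0)) [.fwd 16627, .bwd 18147, .bwd 14759],
   .loop (some (4, 1)) [.fwd 17174, .bwd 18469, .bwd 14759, .fwd 12102],
   .loop none [.bwd 18472],
   .loop none [.bwd 12103, .fwd 18473, .bwd 17173],
   .loop none [.fwd 18474],
   .loop none [.bwd 17174, .bwd 18473],
   .loop none [.fwd 17172, .bwd 18475],
   .loop (some (18, 2)) [.bwd 12983, .fwd 16187, .bwd 18476, .fwd 12103, .fwd 12104],
   .loop (some (3, 0)) [.bwd 16189, .bwd 16188, .bwd 18476],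
   .loop (some (2, 0)) [.bwd 16190, .bwd 18479, .fwd 12103],
   .loop (some (3, 2)) [.bwd 12105, .bwd 12104, .fwd 18480, .fwd 16191],
   .loop none [.fwd 18481],
   .loop none [.bwd 12106, .fwd 18482, .bwd 16227],
   .loop none [.fwd 18483],
   .loop none [.bwd 16192, .bwd 18482],
   .loop none [.fwd 16191, .bwd 18482],
   .loop none [.fwd 16226, .bwd 18484],
   .loop (some (15, 0)) [.fwd 16199, .bwd 18485, .fwd 12106, .fwd 12107],
   .loop (some (16, 2)) [.bwd 18428, .bwd 11245, .bwd 14196, .bwd 14070, .bwd 8579],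
   .loop (some (20, 0)) [.fwd 15677, .bwd 2504, .bwd 12652, .fwd 14127, .fwd 13613, .bwd 9963, .bwd 718, .bwd 13572],
   .loop (some (3, 3)) [.bwd 13648, .fwd 13626, .fwd 18456, .fwd 16570],
   .loop none [.fwd 18491],
   .loop none [.fwd 16570, .bwd 18492],
   .loop none [.bwd 13649, .fwd 18492, .fwd 16571],
   .loop none [.fwd 18494],
   .loop none [.fwd 13645, .fwd 18495, .fwd 16572],
   .loop none [.fwd 18496],
   .loop none [.fwd 13644, .fwd 18497, .fwd 16573],
   .loop none [.fwd 18498]]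

theorem just73_len : just73.length = 250 := by decide +kernel

theorem just73_ok : cert.okFacts 18250 just73 = true := by decide +kernel

/-- justifications -/
noncomputable def just74 : List Cert.Just :=
  [.loop none [.bwd 16574, .bwd 18499],
   .loop (some (2, 2)) [.bwd 14814, .bwd 15325, .fwd 16394],
   .loop (some (13, 2)) [.bwd 13696, .bwd 13697, .fwd 15404],
   .loop (some (18, 2)) [.bwd 16128, .fwd 15601, .fwd 12159, .fwd 14812, .fwd 15902],
   .loop (some (2, 2)) [.bwd 14815, .bwd 15396, .fwd 16484],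
   .loop (some (2, 2)) [.fwd 13005, .bwd 13007, .fwd 16602],
   .loop (some (15, 0)) [.fwd 15513, .fwd 15514, .fwd 13036, .fwd 13005],
   .loop (some (2, 2)) [.fwd 15533, .bwd 17750, .fwd 17752],
   .loop (some (15, 0)) [.fwd 15530, .fwd 15531, .fwd 15532, .fwd 15533],
   .loop (some (2, 2)) [.fwd 15601, .bwd 17737, .fwd 17739],
   .loop (some (8, 2)) [.fwd 15601, .bwd 12158, .bwd 15533],
   .loop (some (10, 2)) [.fwd 17737, .bwd 13725, .fwd 18493],
   .loop (some (20, 0)) [.bwd 15474, .bwd 13330, .fwd 13047, .bwd 14320, .bwd 13009, .fwd 1643, .bwd 6035, .fwd 14312],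
   .loop (some (3, 3)) [.bwd 14336, .bwd 15477, .fwd 15982, .fwd 15983],
   .loop none [.fwd 18513],
   .loop none [.bwd 15718, .fwd 18514, .bwd 15983],
   .loop none [.fwd 18515],
   .loop none [.fwd 13354, .fwd 18514, .fwd 15984],
   .loop none [.fwd 18517],
   .loop none [.fwd 15982, .bwd 18516],
   .loop none [.fwd 18065, .bwd 18516],
   .loop none [.bwd 17786, .fwd 18518, .fwd 15985],
   .loop none [.bwd 18521],
   .loop none [.bwd 16604, .bwd 18522],
   .loop none [.fwd 17786, .bwd 18522],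
   .loop none [.bwd 15986, .fwd 18522, .bwd 16603],
   .loop none [.fwd 18525],
   .loop none [.bwd 15987, .fwd 18526, .fwd 18505],
   .loop none [.bwd 18527],
   .loop none [.fwd 16602, .bwd 18526],
   .loop none [.fwd 15987, .bwd 18528],
   .loop none [.fwd 13036, .fwd 18528, .fwd 15988],
   .loop none [.fwd 18531],
   .loop none [.fwd 15514, .fwd 18532, .fwd 15989],
   .loop none [.fwd 18533],
   .loop none [.bwd 15990, .bwd 18534],
   .loop (some (3, 3)) [.bwd 15944, .bwd 18504, .fwd 16485, .fwd 16486],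
   .loop none [.fwd 18536],
   .loop none [.bwd 16487, .bwd 18537],
   .loop (some (13, 2)) [.bwd 15944, .bwd 12174, .fwd 14336],
   .loop (some (4, 1)) [.bwd 18538, .bwd 15944, .fwd 14338],
   .loop (some (3, 3)) [.bwd 15902, .bwd 17920, .fwd 16439, .fwd 16440],
   .loop none [.fwd 18541],
   .loop none [.bwd 15903, .fwd 18542, .bwd 16440],
   .loop none [.fwd 18543],
   .loop none [.bwd 16441, .bwd 18542],
   .loop none [.bwd 17899, .bwd 18544],
   .loop none [.fwd 16439, .bwd 18544],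
   .loop none [.bwd 17919, .bwd 18544],
   .loop (some (13, 2)) [.bwd 15902, .bwd 14340, .fwd 15810],
   .loop (some (4, 1)) [.bwd 18545, .bwd 15902, .fwd 14339],
   .loop (some (17, 1)) [.bwd 18428, .fwd 10541, .fwd 11469, .bwd 14341, .bwd 18501],
   .loop (some (3, 3)) [.fwd 12172, .bwd 18501, .fwd 16395, .fwd 16396],
   .loop none [.fwd 18552],
   .loop none [.bwd 15856, .fwd 18553, .bwd 16396],
   .loop none [.fwd 18554],
   .loop none [.bwd 14342, .fwd 18553, .fwd 16397],
   .loop none [.fwd 18556],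
   .loop none [.bwd 17907, .bwd 18555],
   .loop none [.bwd 17906, .bwd 18555],
   .loop none [.fwd 18520, .bwd 18555],
   .loop none [.bwd 16398, .bwd 18557],
   .loop (some (13, 2)) [.fwd 12172, .bwd 14343, .fwd 15944],
   .loop (some (3, 3)) [.bwd 15810, .bwd 17917, .fwd 16351, .fwd 16352],
   .loop none [.fwd 18563],
   .loop none [.bwd 15811, .fwd 18564, .bwd 16352],
   .loop none [.fwd 18565],
   .loop none [.bwd 16353, .bwd 18564],
   .loop none [.fwd 16351, .bwd 18566],
   .loop (some (13, 2)) [.bwd 15810, .bwd 14344, .fwd 12181],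
   .loop (some (4, 1)) [.bwd 18567, .bwd 15810, .bwd 14129],
   .loop (some (11, 2)) [.bwd 14342, .bwd 18562, .fwd 18538],
   .loop (some (10, 2)) [.bwd 15856, .bwd 18562, .fwd 15945],
   .loop (some (11, 2)) [.fwd 14155, .bwd 18548, .fwd 15904],
   .loop (some (12, 2)) [.bwd 15765, .bwd 18573, .fwd 15905],
   .loop (some (9, 1)) [.fwd 17864, .bwd 14072, .bwd 18573],
   .loop (some (20, 4)) [.fwd 15258, .bwd 13455, .bwd 13448, .fwd 14390, .fwd 12222, .fwd 13986, .fwd 12980, .bwd 16936],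
   .loop (some (15, 0)) [.fwd 15257, .bwd 13292, .bwd 12967, .bwd 13271],
   .loop (some (7, 3)) [.fwd 13988, .fwd 5271, .fwd 17353],
   .loop (some (7, 3)) [.fwd 14845, .bwd 18578, .fwd 17354],
   .loop (some (15, 0)) [.fwd 11622, .bwd 17812, .fwd 17816, .bwd 14847],
   .loop (some (7, 3)) [.fwd 14867, .bwd 18579, .fwd 17355],
   .loop (some (7, 3)) [.bwd 14866, .bwd 18581, .fwd 17356],
   .loop (some (11, 2)) [.fwd 18582, .bwd 14772, .bwd 18579],
   .loop (some (7, 2)) [.fwd 12834, .bwd 14676, .bwd 15345],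
   .loop (some (20, 6)) [.fwd 14023, .fwd 12309, .fwd 13446, .fwd 12510, .fwd 18469, .bwd 16187, .fwd 15450, .fwd 16200],
   .loop (some (18, 3)) [.fwd 15197, .bwd 12311, .bwd 17850, .bwd 16627, .bwd 16626],
   .loop (some (15, 0)) [.fwd 13473, .bwd 17361, .fwd 18578, .fwd 13986],
   .loop (some (15, 0)) [.bwd 7844, .fwd 13802, .bwd 15245, .fwd 14753],
   .loop (some (15, 0)) [.fwd 18268, .bwd 12451, .bwd 10373, .fwd 12445],
   .loop (some (18, 6)) [.fwd 12475, .fwd 12476, .fwd 9580, .bwd 6032, .fwd 18561, .fwd 16399],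
   .loop none [.fwd 18590],
   .loop none [.bwd 16400, .bwd 18591],
   .loop none [.fwd 16399, .bwd 18591],
   .loop (some (2, 1)) [.bwd 18592, .fwd 12475, .bwd 14307],
   .loop (some (7, 3)) [.fwd 12978, .fwd 6369, .fwd 17589],
   .loop (some (20, 4)) [.fwd 13476, .fwd 15441, .fwd 15645, .fwd 18595, .fwd 12753, .fwd 14023, .fwd 12309, .bwd 17850],
   .loop (some (15, 0)) [.bwd 18469, .bwd 12510, .fwd 12095, .fwd 12498],
   .loop (some (5, 1)) [.bwd 17360, .fwd 17846, .fwd 13441],
   .loop (some (15, 0)) [.fwd 18595, .bwd 12498, .bwd 12095, .fwd 12510],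
   .loop (some (17, 1)) [.bwd 18479, .bwd 12102, .bwd 12101, .fwd 14758, .bwd 18096],
   .loop (some (2, 2)) [.fwd 15541, .bwd 13723, .bwd 16068],
   .loop (some (10, 1)) [.fwd 16076, .fwd 13723, .bwd 14667],
   .loop (some (3, 2)) [.fwd 13710, .fwd 14944, .bwd 15932],
   .loop (some (14, 3)) [.fwd 12541, .bwd 15096, .bwd 13166, .fwd 15547],
   .loop (some (6, 2)) [.bwd 15443, .fwd 13281, .fwd 13267, .fwd 15520],
   .loop none [.fwd 18605],
   .loop none [.fwd 15520, .bwd 18606],
   .loop (some (15, 0)) [.bwd 15513, .bwd 15512, .fwd 13319, .fwd 13275],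
   .loop (some (15, 0)) [.fwd 7862, .fwd 13797, .bwd 15246, .bwd 14897],
   .loop (some (11, 1)) [.fwd 17824, .bwd 12582, .bwd 13954],
   .loop (some (11, 1)) [.fwd 17710, .fwd 17702, .fwd 14995],
   .loop (some (7, 3)) [.bwd 12632, .bwd 17702, .bwd 17714],
   .loop (some (7, 1)) [.bwd 16553, .bwd 17795, .fwd 12638],
   .loop (some (17, 4)) [.bwd 18210, .fwd 14137, .bwd 15006, .bwd 15022, .bwd 15040],
   .loop (some (4, 2)) [.fwd 12651, .fwd 18210, .fwd 17778],
   .loop (some (17, 4)) [.fwd 18615, .bwd 15001, .bwd 15007, .bwd 15023, .bwd 15041],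
   .loop (some (9, 1)) [.bwd 15029, .bwd 12679, .bwd 15011],
   .loop (some (5, 1)) [.fwd 16918, .bwd 12713, .bwd 12706],
   .loop (some (20, 0)) [.bwd 16782, .fwd 16182, .bwd 10045, .bwd 11824, .fwd 10061, .fwd 10069, .bwd 12727, .bwd 14596],
   .loop (some (5, 3)) [.bwd 12702, .fwd 18619, .fwd 16925],
   .loop (some (5, 3)) [.bwd 12703, .bwd 18620, .fwd 16915],
   .loop (some (9, 2)) [.fwd 18621, .bwd 15020, .fwd 18618],
   .loop (some (5, 3)) [.bwd 12704, .bwd 18621, .fwd 16916],
   .loop (some (1, 2)) [.fwd 12712, .bwd 18623, .bwd 16922],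
   .loop (some (9, 2)) [.bwd 18618, .bwd 15025, .fwd 12713],
   .loop (some (3, 2)) [.bwd 16911, .fwd 13762, .fwd 16932],
   .loop (some (0, 2)) [.fwd 18625, .fwd 18622],
   .loop (some (3, 3)) [.fwd 14576, .fwd 16241, .fwd 16242],
   .loop (some (13, 2)) [.fwd 18628, .fwd 15045, .bwd 12726],
   .loop (some (4, 1)) [.bwd 16243, .fwd 18628, .bwd 14596],
   .loop (some (12, 1)) [.bwd 15278, .fwd 13538, .bwd 17767],
   .loop (some (6, 1)) [.bwd 15755, .fwd 18266, .bwd 15188],
   .loop (some (3, 2)) [.bwd 12757, .bwd 18266, .bwd 15754],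
   .loop (some (6, 2)) [.fwd 18633, .fwd 12758, .fwd 18602],
   .loop (some (0, 0)) [.fwd 15544, .fwd 14657],
   .loop (some (14, 0)) [.bwd 15355, .fwd 13588, .bwd 14489, .fwd 12758],
   .loop (some (0, 1)) [.bwd 18636, .fwd 14667],
   .loop (some (10, 2)) [.bwd 18602, .fwd 18636, .fwd 15606],
   .loop (some (17, 3)) [.fwd 18407, .fwd 17828, .fwd 12762, .fwd 12763, .bwd 14583],
   .loop (some (7, 3)) [.fwd 13958, .fwd 12582, .fwd 16844],
   .loop (some (3, 2)) [.bwd 12795, .fwd 18415, .fwd 16118],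
   .loop (some (10, 2)) [.bwd 18415, .fwd 15095, .bwd 18603],
   .loop (some (21, 2)) [.bwd 15543, .fwd 18604, .bwd 12540, .bwd 705, .bwd 12797, .bwd 12796, .bwd 12795, .bwd 15185],
   .loop (some (6, 1)) [.fwd 16012, .fwd 18641, .fwd 12796],
   .loop (some (10, 1)) [.fwd 16070, .bwd 18644, .bwd 15544],
   .loop (some (17, 3)) [.bwd 18406, .bwd 17827, .fwd 13892, .fwd 13904, .fwd 14582],
   .loop (some (7, 1)) [.fwd 16964, .bwd 17827, .bwd 13929],
   .loop (some (6, 2)) [.fwd 15134, .bwd 18584, .bwd 15344],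
   .loop (some (19, 5)) [.bwd 13230, .bwd 12839, .bwd 12542, .bwd 12541, .bwd 18604, .fwd 15543],
   .loop (some (17, 3)) [.bwd 18493, .fwd 13649, .bwd 13647, .bwd 15809, .bwd 16349],
   .loop (some (2, 2)) [.fwd 13645, .bwd 13647, .bwd 15807],
   .loop (some (6, 1)) [.bwd 15793, .fwd 13647, .fwd 13230],
   .loop (some (7, 1)) [.fwd 16963, .bwd 18647, .bwd 13935],
   .loop (some (4, 2)) [.bwd 12854, .fwd 18647, .bwd 16968],
   .loop (some (14, 1)) [.fwd 17550, .fwd 13388, .bwd 13931, .bwd 14673],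
   .loop (some (1, 0)) [.fwd 15327, .bwd 14965, .bwd 12858],
   .loop (some (9, 1)) [.fwd 18294, .bwd 18656, .bwd 15140],
   .loop (some (4, 2)) [.bwd 13965, .fwd 18610, .bwd 16849],
   .loop (some (3, 2)) [.bwd 12886, .fwd 13241, .bwd 17831],
   .loop (some (6, 1)) [.bwd 16054, .fwd 18659, .fwd 12887],
   .loop (some (10, 2)) [.fwd 18659, .fwd 14493, .fwd 7667],
   .loop (some (3, 2)) [.bwd 15526, .fwd 18660, .fwd 16055],
   .loop (some (7, 1)) [.fwd 16962, .bwd 18653, .bwd 13940],
   .loop (some (21, 1)) [.fwd 18103, .bwd 13396, .bwd 13395, .bwd 660, .bwd 13394, .bwd 13941, .fwd 13940, .fwd 12894],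
   .loop (some (11, 2)) [.bwd 18653, .bwd 13943, .fwd 17827],
   .loop (some (6, 2)) [.bwd 12895, .fwd 18664, .bwd 17324],
   .loop (some (20, 0)) [.fwd 15360, .bwd 13709, .bwd 15601, .bwd 15600, .bwd 15599, .bwd 15598, .bwd 15597, .bwd 15596],
   .loop (some (6, 1)) [.bwd 16016, .bwd 18410, .fwd 13258],
   .loop (some (3, 2)) [.bwd 12926, .fwd 18410, .fwd 17830],
   .loop (some (14, 0)) [.fwd 15509, .bwd 18636, .fwd 12759, .fwd 12925],
   .loop (some (10, 2)) [.bwd 18410, .fwd 18670, .bwd 18662],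
   .loop (some (2, 2)) [.bwd 13248, .fwd 13246, .bwd 15852],
   .loop (some (12, 2)) [.bwd 13248, .bwd 13694, .bwd 15401],
   .loop (some (8, 2)) [.bwd 13944, .fwd 18655, .fwd 17418],
   .loop (some (18, 2)) [.bwd 15397, .bwd 15201, .bwd 15141, .fwd 12937, .fwd 12938],
   .loop (some (9, 2)) [.bwd 18657, .bwd 15142, .bwd 14963],
   .loop (some (12, 2)) [.bwd 18675, .bwd 15144, .fwd 14954],
   .loop (some (15, 0)) [.fwd 13455, .bwd 15258, .bwd 18576, .fwd 16936],
   .loop (some (7, 1)) [.fwd 16931, .bwd 15450, .bwd 16195],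
   .loop (some (15, 0)) [.bwd 12095, .fwd 12510, .fwd 18469, .bwd 16187],
   .loop (some (7, 1)) [.bwd 16764, .fwd 16199, .fwd 12992],
   .loop (some (11, 1)) [.fwd 16781, .fwd 16199, .bwd 16198],
   .loop (some (17, 4)) [.bwd 16563, .fwd 13353, .fwd 13354, .fwd 15718, .fwd 15719],
   .loop (some (2, 3)) [.bwd 13003, .fwd 13353, .bwd 18524, .fwd 18523],
   .loop none [.fwd 18684],
   .loop none [.bwd 16028, .fwd 18685, .bwd 18523],
   .loop none [.bwd 18686],
   .loop none [.bwd 16605, .bwd 18685],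
   .loop none [.fwd 16028, .bwd 18687],
   .loop none [.bwd 16029, .bwd 18687],
   .loop (some (4, 1)) [.fwd 13036, .bwd 13004, .fwd 18688],
   .loop (some (20, 0)) [.fwd 14255, .fwd 13291, .bwd 13275, .bwd 13319, .fwd 15512, .fwd 15513, .fwd 15514, .fwd 13036],
   .loop (some (12, 0)) [.bwd 18594, .fwd 13008, .bwd 13005],
   .loop (some (11, 2)) [.fwd 13036, .fwd 18693, .fwd 16401],
   .loop (some (9, 1)) [.fwd 14257, .bwd 18692, .fwd 18693],
   .loop (some (10, 2)) [.bwd 18530, .fwd 18693, .bwd 18592],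
   .loop (some (16, 5)) [.fwd 15195, .bwd 5905, .bwd 14293, .fwd 12101, .fwd 18471],
   .loop (some (4, 1)) [.fwd 16625, .fwd 18586, .fwd 13016],
   .loop (some (3, 0)) [.fwd 16623, .fwd 16624, .bwd 18698],
   .loop (some (2, 0)) [.fwd 16622, .bwd 18699, .fwd 13017],
   .loop (some (3, 1)) [.bwd 13019, .bwd 13018, .fwd 18700],
   .loop (some (15, 0)) [.bwd 18460, .bwd 15197, .fwd 13016, .fwd 13017],
   .loop (some (4, 1)) [.fwd 16621, .fwd 18701, .fwd 13020],
   .loop (some (3, 0)) [.fwd 16619, .fwd 16620, .bwd 18703],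
   .loop (some (2, 0)) [.fwd 16618, .bwd 18704, .fwd 13021],
   .loop (some (3, 1)) [.bwd 13023, .bwd 13022, .fwd 18705],
   .loop (some (4, 1)) [.fwd 16617, .fwd 18706, .fwd 13024],
   .loop (some (3, 0)) [.fwd 16615, .fwd 16616, .bwd 18707],
   .loop (some (2, 0)) [.fwd 16614, .bwd 18708, .fwd 13025],
   .loop (some (3, 1)) [.bwd 13027, .bwd 13026, .fwd 18709],
   .loop (some (4, 1)) [.fwd 16613, .fwd 18710, .fwd 13028],
   .loop (some (3, 0)) [.fwd 16611, .fwd 16612, .bwd 18711],
   .loop (some (2, 0)) [.fwd 16610, .bwd 18712, .fwd 13029],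
   .loop (some (3, 1)) [.bwd 13031, .bwd 13030, .fwd 18713],
   .loop (some (4, 1)) [.fwd 16609, .fwd 18714, .fwd 13032],
   .loop (some (3, 0)) [.fwd 16607, .fwd 16608, .bwd 18715],
   .loop (some (2, 0)) [.fwd 16606, .bwd 18716, .fwd 13033],
   .loop (some (18, 2)) [.bwd 16607, .bwd 16606, .fwd 18691, .bwd 15514, .fwd 18535],
   .loop (some (12, 2)) [.fwd 15514, .bwd 18694, .fwd 16402],
   .loop (some (10, 2)) [.fwd 13183, .bwd 13192, .fwd 18632],
   .loop (some (16, 4)) [.fwd 13728, .fwd 14559, .bwd 10956, .fwd 18297, .bwd 16188],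
   .loop (some (15, 0)) [.bwd 15475, .bwd 15474, .bwd 13330, .fwd 13047],
   .loop (some (2, 1)) [.bwd 15260, .fwd 15201, .fwd 15391],
   .loop (some (6, 2)) [.bwd 15644, .bwd 15391, .bwd 13329, .fwd 15350],
   .loop none [.bwd 18724],
   .loop none [.fwd 15445, .bwd 18725],
   .loop none [.fwd 15438, .bwd 18725],
   .loop (some (10, 2)) [.bwd 15391, .bwd 13712, .bwd 13337],
   .loop (some (2, 2)) [.bwd 13057, .fwd 18285, .fwd 15716],
   .loop (some (12, 2)) [.bwd 13057, .bwd 14560, .fwd 15326],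
   .loop (some (10, 2)) [.fwd 18729, .bwd 18730, .bwd 18293],
   .loop (some (17, 3)) [.fwd 13086, .fwd 13087, .bwd 13116, .bwd 15743, .bwd 15742],
   .loop (some (14, 3)) [.fwd 17032, .fwd 17033, .bwd 13765, .bwd 852, .fwd 17207],
   .loop none [.fwd 18733],
   .loop none [.fwd 17207, .bwd 18734],
   .loop (some (12, 2)) [.bwd 13750, .bwd 13765, .fwd 16388],
   .loop (some (12, 2)) [.bwd 15203, .bwd 13871, .fwd 17234],
   .loop (some (12, 2)) [.bwd 13076, .bwd 18106, .fwd 15334],
   .loop (some (13, 2)) [.bwd 13077, .bwd 18738, .fwd 15335],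
   .loop (some (10, 2)) [.bwd 13078, .bwd 18739, .fwd 15336],
   .loop (some (11, 2)) [.bwd 13079, .bwd 18740, .fwd 15337],
   .loop (some (12, 2)) [.bwd 13080, .bwd 18741, .fwd 15338],
   .loop (some (13, 2)) [.bwd 13081, .bwd 18742, .fwd 15339],
   .loop (some (10, 2)) [.bwd 13082, .bwd 18743, .fwd 15340],
   .loop (some (11, 2)) [.bwd 13083, .bwd 18744, .fwd 15341],
   .loop (some (12, 2)) [.bwd 13084, .bwd 18745, .fwd 15342],
   .loop (some (13, 2)) [.bwd 13085, .bwd 18746, .fwd 15343],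
   .loop (some (4, 0)) [.fwd 15741, .fwd 18732, .bwd 13085],
   .loop (some (18, 2)) [.bwd 16866, .bwd 16865, .bwd 18287, .bwd 14332, .fwd 16552]]

theorem just74_len : just74.length = 250 := by decide +kernel

theorem just74_ok : cert.okFacts 18500 just74 = true := by decide +kernel

/-- justifications -/
noncomputable def just75 : List Cert.Just :=
  [.loop (some (15, 0)) [.fwd 15475, .fwd 2520, .fwd 7430, .fwd 14332],
   .loop (some (6, 3)) [.bwd 15320, .fwd 13689, .fwd 13638, .fwd 15437],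
   .loop none [.fwd 18751],
   .loop none [.fwd 18727, .bwd 18752],
   .loop none [.fwd 15437, .bwd 18752],
   .loop (some (10, 2)) [.bwd 15320, .bwd 13698, .fwd 15391],
   .loop (some (6, 3)) [.bwd 13097, .bwd 7666, .bwd 15796],
   .loop (some (3, 1)) [.bwd 18644, .fwd 15097, .bwd 18756],
   .loop (some (2, 2)) [.fwd 15401, .bwd 15403, .bwd 15940],
   .loop (some (11, 2)) [.fwd 15743, .bwd 17832, .bwd 15881],
   .loop (some (17, 3)) [.fwd 15344, .fwd 15345, .bwd 18672, .bwd 15881, .bwd 15880],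
   .loop (some (10, 2)) [.fwd 18672, .bwd 18673, .bwd 18758],
   .loop (some (17, 3)) [.fwd 16007, .fwd 16008, .fwd 17787, .bwd 16888, .bwd 16887],
   .loop (some (4, 1)) [.fwd 16992, .bwd 13124, .bwd 16008],
   .loop (some (11, 2)) [.fwd 16008, .bwd 17814, .bwd 16421],
   .loop (some (15, 0)) [.fwd 15743, .bwd 13115, .bwd 7739, .fwd 13123],
   .loop (some (0, 0)) [.fwd 17251, .fwd 18736],
   .loop (some (11, 2)) [.fwd 16992, .bwd 18736, .bwd 17062],
   .loop (some (15, 0)) [.bwd 5481, .fwd 18047, .bwd 15483, .fwd 13750],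
   .loop (some (4, 1)) [.fwd 16888, .bwd 16860, .fwd 13126],
   .loop (some (3, 0)) [.fwd 16886, .fwd 16887, .bwd 18769],
   .loop (some (2, 0)) [.fwd 16885, .bwd 18770, .fwd 13127],
   .loop (some (3, 1)) [.bwd 13129, .bwd 13128, .fwd 18771],
   .loop (some (4, 1)) [.fwd 16884, .fwd 18772, .fwd 13130],
   .loop (some (3, 0)) [.fwd 16882, .fwd 16883, .bwd 18773],
   .loop (some (2, 0)) [.fwd 16881, .bwd 18774, .fwd 13131],
   .loop (some (3, 1)) [.bwd 13133, .bwd 13132, .fwd 18775],
   .loop (some (4, 1)) [.fwd 16880, .fwd 18776, .fwd 13134],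
   .loop (some (3, 0)) [.fwd 16878, .fwd 16879, .bwd 18777],
   .loop (some (2, 0)) [.fwd 16877, .bwd 18778, .fwd 13135],
   .loop (some (3, 1)) [.bwd 13137, .bwd 13136, .fwd 18779],
   .loop (some (4, 1)) [.fwd 16876, .fwd 18780, .fwd 13138],
   .loop (some (3, 0)) [.fwd 16874, .fwd 16875, .bwd 18781],
   .loop (some (2, 0)) [.fwd 16873, .bwd 18782, .fwd 13139],
   .loop (some (3, 1)) [.bwd 13141, .bwd 13140, .fwd 18783],
   .loop (some (4, 1)) [.fwd 16872, .fwd 18784, .fwd 13142],
   .loop (some (3, 0)) [.fwd 16870, .fwd 16871, .bwd 18785],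
   .loop (some (2, 0)) [.fwd 16869, .bwd 18786, .fwd 13143],
   .loop (some (3, 1)) [.bwd 13145, .bwd 13144, .fwd 18787],
   .loop (some (4, 1)) [.fwd 16868, .fwd 18788, .fwd 13146],
   .loop (some (18, 4)) [.bwd 18789, .fwd 13147, .bwd 14329, .fwd 12736, .fwd 16541],
   .loop (some (9, 2)) [.fwd 15849, .bwd 15853, .bwd 15936],
   .loop (some (6, 1)) [.bwd 15886, .bwd 18668, .fwd 13166],
   .loop (some (10, 3)) [.bwd 18668, .fwd 15218, .fwd 7737, .fwd 16073],
   .loop none [.fwd 18793],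
   .loop none [.bwd 16074, .bwd 18794],
   .loop none [.fwd 16073, .bwd 18794],
   .loop (some (10, 2)) [.bwd 18792, .bwd 15062, .bwd 18641],
   .loop (some (7, 2)) [.bwd 13171, .bwd 15225, .fwd 13234],
   .loop (some (5, 1)) [.bwd 16185, .fwd 17833, .fwd 15707],
   .loop (some (0, 1)) [.fwd 18720, .fwd 15178],
   .loop (some (13, 1)) [.fwd 13224, .fwd 13182, .bwd 18720],
   .loop (some (10, 2)) [.bwd 13223, .bwd 14492, .bwd 18659],
   .loop (some (6, 2)) [.bwd 18652, .bwd 18649, .fwd 18645],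
   .loop (some (8, 2)) [.bwd 15527, .bwd 13267, .bwd 13275],
   .loop (some (6, 2)) [.bwd 15444, .fwd 18607, .fwd 13331, .fwd 15588],
   .loop none [.fwd 18805],
   .loop none [.bwd 15589, .bwd 18806],
   .loop (some (15, 0)) [.bwd 15530, .bwd 15529, .bwd 15528, .bwd 15527],
   .loop (some (15, 0)) [.bwd 13036, .bwd 15514, .bwd 15513, .bwd 15512],
   .loop (some (10, 2)) [.bwd 13581, .bwd 13706, .fwd 15350],
   .loop (some (19, 0)) [.fwd 16069, .fwd 18803, .bwd 15793, .fwd 13751, .bwd 13341, .bwd 13340],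
   .loop (some (14, 2)) [.bwd 16069, .bwd 18811, .bwd 16076, .fwd 18634],
   .loop (some (0, 0)) [.fwd 18638, .fwd 16076],
   .loop (some (8, 1)) [.fwd 17348, .fwd 14010, .fwd 16961],
   .loop (some (14, 0)) [.fwd 16964, .fwd 18665, .bwd 16962, .bwd 16961],
   .loop (some (12, 1)) [.fwd 17853, .fwd 14010, .fwd 18815],
   .loop (some (7, 1)) [.bwd 16514, .bwd 17825, .fwd 15460],
   .loop (some (12, 2)) [.fwd 18524, .bwd 14335, .fwd 18561],
   .loop (some (0, 0)) [.fwd 18571, .fwd 14335],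
   .loop (some (15, 0)) [.fwd 16888, .fwd 16861, .bwd 7788, .bwd 15215],
   .loop (some (17, 3)) [.fwd 18316, .fwd 17551, .bwd 13785, .bwd 13819, .bwd 14301],
   .loop (some (4, 1)) [.bwd 17325, .fwd 18103, .bwd 15934],
   .loop (some (4, 2)) [.fwd 13403, .fwd 17409, .fwd 18309],
   .loop (some (17, 3)) [.bwd 18315, .bwd 17385, .fwd 13784, .fwd 13817, .fwd 14300],
   .loop (some (15, 0)) [.bwd 17089, .fwd 7783, .bwd 15801, .fwd 17382, .fwd 13776],
   .loop none [.bwd 18825],
   .loop none [.fwd 17089, .bwd 18826],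
   .loop (some (11, 2)) [.fwd 18823, .bwd 18105, .fwd 17325],
   .loop (some (16, 4)) [.bwd 14300, .bwd 14058, .fwd 11117, .fwd 17854, .fwd 18406],
   .loop (some (16, 0)) [.fwd 18405, .bwd 17839, .bwd 8350, .fwd 8381, .fwd 14298],
   .loop (some (15, 0)) [.fwd 18576, .fwd 15258, .bwd 13455, .bwd 13448],
   .loop (some (5, 3)) [.bwd 13436, .fwd 18830, .fwd 17354],
   .loop (some (7, 3)) [.bwd 13466, .fwd 18469, .fwd 16949],
   .loop (some (5, 3)) [.bwd 13466, .fwd 18147, .fwd 17851],
   .loop (some (7, 3)) [.bwd 13451, .bwd 18833, .fwd 16939],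
   .loop (some (5, 3)) [.bwd 13451, .bwd 18834, .fwd 16952],
   .loop (some (11, 2)) [.fwd 18835, .bwd 15249, .fwd 18824],
   .loop (some (9, 2)) [.fwd 18836, .bwd 15249, .bwd 18829],
   .loop (some (7, 3)) [.bwd 13452, .bwd 18835, .fwd 16940],
   .loop (some (5, 3)) [.bwd 13452, .bwd 18836, .fwd 16953],
   .loop (some (1, 2)) [.fwd 13461, .bwd 18840, .bwd 16959],
   .loop (some (4, 2)) [.fwd 13461, .bwd 18839, .bwd 16946],
   .loop (some (9, 2)) [.fwd 18840, .bwd 15252, .bwd 18834],
   .loop (some (11, 2)) [.bwd 18824, .bwd 15253, .fwd 13455],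
   .loop (some (9, 2)) [.fwd 18829, .bwd 15253, .fwd 13462],
   .loop (some (0, 2)) [.fwd 18844, .fwd 18837],
   .loop (some (9, 1)) [.fwd 15265, .fwd 13475, .bwd 18846],
   .loop (some (10, 1)) [.fwd 17555, .bwd 13733, .bwd 18846],
   .loop (some (17, 4)) [.fwd 18842, .fwd 15251, .bwd 14938, .bwd 14249, .bwd 18823],
   .loop (some (0, 2)) [.fwd 18845, .fwd 18838],
   .loop (some (11, 1)) [.fwd 15265, .fwd 13473, .bwd 18850],
   .loop (some (7, 3)) [.bwd 13468, .bwd 18596, .fwd 17851],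
   .loop (some (5, 3)) [.bwd 13468, .bwd 18721, .fwd 16949],
   .loop (some (17, 4)) [.fwd 18851, .bwd 15263, .fwd 14585, .bwd 13898, .fwd 18653],
   .loop (some (7, 3)) [.bwd 13470, .bwd 18851, .fwd 16953],
   .loop (some (5, 3)) [.bwd 13470, .bwd 18847, .fwd 16940],
   .loop (some (16, 3)) [.fwd 18853, .bwd 15260, .fwd 14563, .fwd 10989, .fwd 18300],
   .loop (some (16, 3)) [.fwd 18856, .bwd 15264, .fwd 14569, .fwd 10984, .fwd 18299],
   .loop (some (20, 4)) [.bwd 15334, .bwd 17959, .bwd 13792, .bwd 13819, .fwd 14059, .bwd 8423, .fwd 10416, .fwd 10417],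
   .loop (some (15, 0)) [.fwd 18859, .bwd 15334, .bwd 17959, .bwd 13792],
   .loop (some (8, 1)) [.fwd 16857, .bwd 13527, .fwd 13518],
   .loop (some (2, 1)) [.fwd 16467, .bwd 18861, .bwd 15276],
   .loop (some (8, 1)) [.fwd 17730, .bwd 18861, .fwd 13519],
   .loop (some (15, 0)) [.fwd 8841, .fwd 14148, .bwd 17758, .bwd 18861],
   .loop (some (2, 1)) [.fwd 16425, .bwd 18863, .bwd 14606],
   .loop (some (12, 1)) [.fwd 17740, .bwd 18863, .bwd 13874],
   .loop (some (15, 0)) [.fwd 8842, .fwd 14150, .fwd 18611, .bwd 18863],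
   .loop (some (15, 0)) [.fwd 8844, .fwd 14151, .bwd 17765, .fwd 17763],
   .loop (some (2, 1)) [.fwd 16334, .bwd 18866, .fwd 13880],
   .loop (some (15, 0)) [.fwd 8597, .fwd 14152, .bwd 18612, .bwd 18866],
   .loop (some (8, 2)) [.bwd 17762, .bwd 18862, .fwd 13530, .fwd 18865],
   .loop none [.bwd 18871],
   .loop none [.fwd 16544, .bwd 18872],
   .loop none [.fwd 16538, .bwd 18872],
   .loop (some (8, 2)) [.bwd 18874, .bwd 18865, .fwd 13531, .bwd 18631],
   .loop none [.bwd 18875],
   .loop none [.fwd 16537, .bwd 18876],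
   .loop (some (8, 2)) [.bwd 18877, .fwd 18631, .fwd 13532, .fwd 18869],
   .loop none [.bwd 18878],
   .loop none [.fwd 17707, .bwd 18879],
   .loop (some (9, 2)) [.bwd 13563, .bwd 18810, .fwd 15351],
   .loop (some (8, 1)) [.fwd 16942, .bwd 15258, .fwd 15295],
   .loop (some (12, 1)) [.fwd 18846, .bwd 15258, .bwd 18881],
   .loop (some (0, 1)) [.fwd 18881, .fwd 15296],
   .loop (some (13, 2)) [.bwd 15759, .bwd 15791, .fwd 15892],
   .loop (some (4, 2)) [.bwd 15759, .fwd 16233, .fwd 16297],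
   .loop (some (2, 2)) [.fwd 13585, .bwd 13587, .bwd 15762],
   .loop (some (12, 2)) [.fwd 13585, .bwd 13588, .bwd 15360],
   .loop (some (17, 3)) [.fwd 15704, .fwd 15705, .bwd 18279, .bwd 16267, .bwd 16266],
   .loop (some (0, 1)) [.fwd 18280, .fwd 15297],
   .loop (some (4, 1)) [.fwd 13608, .bwd 13584, .bwd 15705],
   .loop (some (10, 1)) [.fwd 18403, .fwd 18279, .bwd 18280],
   .loop (some (17, 3)) [.fwd 13607, .fwd 13608, .bwd 18887, .bwd 15788, .bwd 15787],
   .loop (some (11, 2)) [.fwd 13608, .bwd 18888, .bwd 15386],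
   .loop (some (12, 2)) [.bwd 13597, .bwd 18104, .fwd 15375],
   .loop (some (13, 2)) [.bwd 13598, .bwd 18895, .fwd 15376],
   .loop (some (11, 1)) [.fwd 12035, .bwd 15061, .bwd 18895],
   .loop (some (11, 1)) [.fwd 12037, .fwd 15283, .bwd 18896],
   .loop (some (10, 2)) [.bwd 13599, .bwd 18896, .fwd 15377],
   .loop (some (11, 2)) [.fwd 11673, .fwd 15287, .bwd 18899, .fwd 15378],
   .loop none [.fwd 18900],
   .loop none [.fwd 10196, .fwd 18901, .fwd 15379],
   .loop none [.fwd 18902],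
   .loop none [.bwd 11944, .fwd 18903, .fwd 15380],
   .loop none [.fwd 18904],
   .loop none [.fwd 10486, .fwd 18905, .fwd 15381],
   .loop none [.fwd 18906],
   .loop none [.bwd 15382, .bwd 18907],
   .loop (some (11, 0)) [.bwd 18908, .fwd 12042, .fwd 15294],
   .loop (some (3, 0)) [.fwd 15704, .fwd 18891, .bwd 13607, .bwd 13606],
   .loop none [.bwd 18910],
   .loop none [.fwd 18889, .bwd 18911],
   .loop none [.bwd 13606, .fwd 18911, .bwd 15703],
   .loop none [.fwd 18913],
   .loop none [.fwd 15702, .bwd 18914],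
   .loop (some (12, 0)) [.bwd 15383, .bwd 18909, .fwd 13605],
   .loop (some (0, 1)) [.bwd 18916, .bwd 15313],
   .loop (some (13, 2)) [.bwd 13606, .fwd 18916, .fwd 15384],
   .loop (some (4, 2)) [.fwd 18893, .bwd 13606, .fwd 18912, .bwd 16265],
   .loop none [.fwd 18919],
   .loop none [.fwd 16264, .bwd 18920],
   .loop none [.fwd 15786, .fwd 18920, .fwd 16265],
   .loop none [.fwd 18922],
   .loop none [.bwd 16266, .bwd 18923],
   .loop none [.fwd 18912, .bwd 18923],
   .loop (some (7, 3)) [.bwd 15295, .bwd 18576, .fwd 16927],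
   .loop (some (8, 1)) [.fwd 16941, .bwd 18882, .fwd 15446],
   .loop (some (14, 3)) [.bwd 15447, .bwd 15446, .bwd 15296, .fwd 15295, .fwd 18884],
   .loop none [.bwd 18928],
   .loop none [.fwd 15455, .bwd 18929],
   .loop none [.fwd 16196, .bwd 18929],
   .loop none [.fwd 15447, .bwd 18929],
   .loop (some (13, 2)) [.bwd 15802, .bwd 13748, .fwd 15759],
   .loop (some (4, 2)) [.bwd 15802, .bwd 18185, .fwd 16343],
   .loop (some (2, 2)) [.bwd 18500, .bwd 13643, .bwd 18292, .fwd 15805],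
   .loop none [.bwd 18935],
   .loop none [.fwd 18500, .bwd 18936],
   .loop none [.bwd 16575, .bwd 18936],
   .loop (some (17, 3)) [.fwd 13675, .fwd 13676, .bwd 18651, .bwd 15836, .bwd 15835],
   .loop (some (14, 2)) [.fwd 16971, .fwd 16972, .bwd 13772, .bwd 16996],
   .loop (some (4, 0)) [.fwd 15834, .fwd 18939, .bwd 13674],
   .loop (some (11, 2)) [.fwd 18939, .bwd 15314, .bwd 18893],
   .loop (some (5, 3)) [.bwd 15321, .fwd 18754, .fwd 13618, .fwd 15446],
   .loop none [.fwd 18943],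
   .loop none [.bwd 18927, .bwd 18944],
   .loop none [.fwd 18932, .bwd 18944],
   .loop none [.fwd 15446, .bwd 18944],
   .loop (some (9, 2)) [.bwd 15321, .bwd 18755, .fwd 15392],
   .loop (some (7, 3)) [.fwd 18947, .bwd 18926, .fwd 16928],
   .loop (some (14, 2)) [.bwd 18931, .bwd 18946, .bwd 18948, .fwd 16195],
   .loop (some (11, 2)) [.fwd 18949, .bwd 18948, .fwd 18679],
   .loop (some (10, 1)) [.fwd 18314, .fwd 18293, .bwd 18294],
   .loop (some (12, 2)) [.bwd 15334, .bwd 18094, .fwd 15421],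
   .loop (some (0, 1)) [.fwd 18953, .fwd 18738],
   .loop (some (13, 2)) [.bwd 15335, .bwd 18953, .fwd 15422],
   .loop (some (4, 2)) [.bwd 15335, .bwd 18859, .fwd 10418],
   .loop (some (11, 1)) [.fwd 11980, .fwd 18859, .bwd 18953],
   .loop (some (17, 2)) [.fwd 11974, .bwd 10420, .bwd 10419, .fwd 18956, .fwd 15336, .fwd 15337],
   .loop none [.fwd 18958],
   .loop none [.fwd 15337, .bwd 18959],
   .loop none [.fwd 10225, .fwd 18959, .fwd 15338],
   .loop none [.fwd 18961],
   .loop none [.bwd 11970, .fwd 18962, .fwd 15339],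
   .loop none [.fwd 18963],
   .loop none [.fwd 10423, .fwd 18964, .fwd 15340],
   .loop none [.fwd 18965],
   .loop none [.bwd 15341, .bwd 18966],
   .loop none [.bwd 12058, .fwd 18966, .fwd 18744],
   .loop none [.fwd 18968],
   .loop none [.bwd 13083, .bwd 18969],
   .loop (some (10, 2)) [.bwd 15336, .bwd 18955, .fwd 15423],
   .loop (some (11, 2)) [.fwd 11914, .fwd 18960, .bwd 18971, .fwd 15424],
   .loop none [.fwd 18972],
   .loop none [.fwd 15424, .bwd 18973],
   .loop none [.fwd 10171, .fwd 18973, .fwd 15425],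
   .loop none [.fwd 18975],
   .loop none [.bwd 11905, .fwd 18976, .fwd 15426],
   .loop none [.fwd 18977],
   .loop none [.fwd 10519, .fwd 18978, .fwd 15427],
   .loop none [.fwd 18979],
   .loop none [.bwd 15428, .bwd 18980],
   .loop (some (11, 0)) [.bwd 18981, .fwd 12014, .fwd 18967],
   .loop (some (12, 0)) [.bwd 15429, .bwd 18982, .fwd 15342],
   .loop (some (0, 1)) [.bwd 18983, .fwd 18746],
   .loop (some (13, 2)) [.bwd 15343, .fwd 18983, .fwd 15430],
   .loop (some (4, 0)) [.fwd 15879, .fwd 18760, .bwd 15343],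
   .loop (some (0, 1)) [.fwd 18985, .fwd 18747],
   .loop (some (1, 2)) [.bwd 18807, .bwd 18726, .fwd 15351, .fwd 18930],
   .loop none [.bwd 18988],
   .loop none [.fwd 15898, .bwd 18989],
   .loop (some (7, 3)) [.bwd 18946, .bwd 18949, .fwd 16929],
   .loop (some (4, 2)) [.bwd 18930, .bwd 18991, .bwd 16935],
   .loop (some (4, 2)) [.bwd 15892, .bwd 17268, .fwd 16432],
   .loop (some (18, 2)) [.bwd 16721, .bwd 17739, .bwd 17726, .fwd 16438, .bwd 18547],
   .loop (some (11, 2)) [.bwd 15594, .bwd 18637, .bwd 13724],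
   .loop (some (9, 2)) [.bwd 15604, .bwd 18637, .bwd 13722],
   .loop (some (10, 2)) [.bwd 18892, .bwd 18890, .bwd 18937],
   .loop (some (17, 3)) [.fwd 15385, .fwd 15386, .bwd 15603, .bwd 15928, .bwd 15927],
   .loop (some (15, 0)) [.fwd 15600, .fwd 15601, .fwd 13709, .bwd 15360]]

theorem just75_len : just75.length = 250 := by decide +kernel

theorem just75_ok : cert.okFacts 18750 just75 = true := by decide +kernel

/-- justifications -/
noncomputable def just76 : List Cert.Just :=
  [.loop (some (4, 0)) [.fwd 15926, .fwd 18998, .bwd 15384],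
   .loop (some (11, 2)) [.bwd 19000, .bwd 18917, .fwd 18941],
   .loop (some (11, 2)) [.bwd 18679, .bwd 18950, .fwd 15450],
   .loop (some (18, 4)) [.bwd 15935, .fwd 15933, .fwd 18822, .fwd 17326, .fwd 17327],
   .loop (some (13, 2)) [.bwd 15935, .bwd 15973, .fwd 12991],
   .loop (some (4, 2)) [.bwd 15935, .fwd 16183, .fwd 16477],
   .loop (some (15, 0)) [.bwd 8201, .fwd 13782, .bwd 15934, .bwd 15933],
   .loop (some (8, 2)) [.bwd 15399, .bwd 18240, .bwd 8421],
   .loop (some (6, 2)) [.bwd 18952, .bwd 19007, .fwd 4399],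
   .loop (some (10, 2)) [.bwd 18952, .bwd 18676, .bwd 18729],
   .loop (some (17, 3)) [.fwd 15431, .fwd 15432, .bwd 18758, .bwd 15970, .bwd 15969],
   .loop (some (14, 2)) [.fwd 15755, .fwd 15756, .bwd 15941, .bwd 15796],
   .loop (some (21, 7)) [.bwd 16993, .bwd 15406, .bwd 835, .fwd 13061, .fwd 16969, .fwd 17997, .bwd 17208, .fwd 17203],
   .loop (some (14, 2)) [.fwd 17249, .fwd 17245, .bwd 17004, .bwd 17033],
   .loop (some (11, 1)) [.fwd 11923, .bwd 18957, .bwd 18954],
   .loop (some (4, 0)) [.fwd 15968, .fwd 19010, .bwd 15430],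
   .loop (some (11, 2)) [.bwd 19015, .bwd 18984, .fwd 18748],
   .loop (some (11, 2)) [.fwd 19010, .bwd 18987, .bwd 18732],
   .loop (some (2, 2)) [.bwd 16200, .fwd 16181, .fwd 16782],
   .loop (some (0, 2)) [.fwd 19002, .fwd 18951],
   .loop (some (15, 0)) [.bwd 16059, .bwd 16058, .bwd 16057, .bwd 16056],
   .loop (some (8, 2)) [.bwd 16119, .bwd 15461, .fwd 16056],
   .loop (some (8, 2)) [.bwd 17752, .bwd 15467, .bwd 18529],
   .loop (some (8, 2)) [.bwd 17739, .bwd 15468, .fwd 17752],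
   .loop (some (4, 1)) [.bwd 15719, .fwd 18519, .bwd 16854],
   .loop (some (11, 2)) [.fwd 16854, .bwd 17743, .fwd 18551],
   .loop (some (15, 0)) [.fwd 8224, .fwd 1553, .fwd 1589, .fwd 15476],
   .loop (some (11, 0)) [.bwd 18139, .fwd 9299, .fwd 18052],
   .loop (some (15, 0)) [.bwd 8245, .fwd 9212, .bwd 18053, .bwd 15488],
   .loop (some (20, 0)) [.bwd 9932, .bwd 9931, .bwd 11610, .bwd 12546, .bwd 13005, .bwd 13036, .bwd 15514, .bwd 15513],
   .loop (some (15, 0)) [.fwd 13291, .bwd 13275, .bwd 13319, .fwd 15512],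
   .loop (some (13, 2)) [.bwd 18535, .bwd 18719, .fwd 16403],
   .loop (some (15, 0)) [.bwd 15519, .bwd 12546, .bwd 13005, .bwd 13036, .bwd 15514],
   .loop none [.bwd 19032],
   .loop none [.fwd 15519, .bwd 19033],
   .loop (some (20, 0)) [.fwd 15514, .fwd 13036, .fwd 13005, .fwd 12546, .fwd 11610, .fwd 9931, .fwd 9932, .bwd 15518],
   .loop (some (7, 2)) [.bwd 15528, .bwd 18804, .bwd 13319],
   .loop (some (8, 0)) [.bwd 15512, .fwd 19036, .fwd 15529],
   .loop (some (15, 0)) [.bwd 15587, .fwd 13719, .bwd 15533, .bwd 15532, .bwd 15531],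
   .loop none [.bwd 19038],
   .loop none [.fwd 15587, .bwd 19039],
   .loop (some (3, 3)) [.bwd 16079, .bwd 18507, .fwd 16661, .fwd 16662],
   .loop none [.fwd 19041],
   .loop none [.bwd 16080, .fwd 19042, .bwd 16662],
   .loop none [.fwd 19043],
   .loop none [.bwd 16663, .bwd 19042],
   .loop none [.fwd 16661, .bwd 19044],
   .loop (some (4, 1)) [.bwd 19045, .bwd 16079, .bwd 15532],
   .loop (some (15, 0)) [.fwd 15582, .fwd 15536, .fwd 13719, .bwd 15533],
   .loop (some (7, 2)) [.fwd 16111, .bwd 16062, .bwd 13378],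
   .loop (some (3, 2)) [.bwd 16065, .fwd 15535, .fwd 15538],
   .loop (some (7, 2)) [.fwd 15582, .bwd 15537, .fwd 9931],
   .loop (some (2, 2)) [.bwd 15539, .fwd 19050, .fwd 16066],
   .loop (some (17, 3)) [.fwd 15575, .fwd 15576, .bwd 18601, .bwd 16105, .bwd 16104],
   .loop (some (7, 2)) [.fwd 16061, .bwd 16644, .bwd 16022],
   .loop (some (20, 0)) [.bwd 16639, .bwd 18817, .fwd 16056, .fwd 16057, .fwd 16058, .fwd 16059, .fwd 16060, .fwd 16061],
   .loop (some (3, 1)) [.bwd 15551, .bwd 15550, .bwd 16643],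
   .loop (some (15, 0)) [.fwd 16111, .bwd 15534, .fwd 7756, .fwd 15549],
   .loop (some (4, 0)) [.fwd 16103, .fwd 19053, .bwd 15574],
   .loop (some (8, 0)) [.bwd 9932, .fwd 19051, .bwd 15581],
   .loop (some (15, 0)) [.bwd 13719, .bwd 15536, .bwd 15582, .bwd 15581],
   .loop (some (7, 2)) [.bwd 16106, .bwd 18811, .bwd 16078],
   .loop (some (11, 1)) [.fwd 16657, .bwd 16106, .bwd 18795],
   .loop (some (7, 0)) [.fwd 15532, .fwd 18510, .bwd 15600],
   .loop (some (15, 0)) [.fwd 15596, .fwd 15597, .fwd 15598, .fwd 15599],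
   .loop (some (3, 3)) [.bwd 16128, .bwd 18509, .fwd 16721, .fwd 16722],
   .loop none [.fwd 19065],
   .loop none [.bwd 16129, .fwd 19066, .bwd 16722],
   .loop none [.fwd 19067],
   .loop none [.bwd 16723, .bwd 19066],
   .loop none [.fwd 18994, .bwd 19068],
   .loop none [.fwd 16721, .bwd 19068],
   .loop (some (4, 1)) [.bwd 19069, .bwd 16128, .bwd 15600],
   .loop (some (15, 0)) [.fwd 15386, .fwd 15360, .bwd 13709, .bwd 15601],
   .loop (some (7, 2)) [.fwd 15928, .bwd 16126, .bwd 16111],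
   .loop (some (20, 0)) [.bwd 16119, .bwd 18993, .fwd 16699, .fwd 16700, .fwd 16701, .fwd 16155, .fwd 16156, .fwd 15928],
   .loop (some (4, 2)) [.bwd 19062, .bwd 15885, .fwd 16115, .fwd 16427],
   .loop none [.bwd 19076],
   .loop none [.fwd 19062, .bwd 19077],
   .loop none [.fwd 16656, .bwd 19077],
   .loop (some (11, 2)) [.bwd 16115, .bwd 18813, .bwd 16078],
   .loop (some (9, 2)) [.bwd 16125, .bwd 18813, .bwd 16064],
   .loop (some (7, 2)) [.fwd 16124, .bwd 16706, .bwd 16061],
   .loop (some (20, 0)) [.bwd 16699, .fwd 18993, .fwd 16119, .fwd 16120, .fwd 16121, .fwd 16122, .fwd 16123, .fwd 16124],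
   .loop (some (5, 2)) [.bwd 19083, .bwd 16706, .fwd 19055],
   .loop (some (11, 2)) [.fwd 16124, .bwd 16719, .bwd 16377],
   .loop (some (15, 0)) [.fwd 15928, .bwd 15602, .bwd 7749, .fwd 15609],
   .loop (some (4, 1)) [.bwd 17992, .bwd 18084, .fwd 15612],
   .loop (some (18, 2)) [.bwd 17162, .bwd 17161, .bwd 19087, .fwd 15613, .fwd 15614],
   .loop (some (15, 0)) [.bwd 15362, .bwd 18083, .fwd 15612, .fwd 15613],
   .loop (some (2, 1)) [.bwd 17163, .bwd 19088, .fwd 15615],
   .loop (some (15, 0)) [.bwd 17164, .bwd 19090, .fwd 15616, .fwd 15617],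
   .loop (some (15, 0)) [.fwd 16150, .fwd 16151, .bwd 18398, .bwd 15633],
   .loop (some (15, 0)) [.fwd 13709, .bwd 15360, .bwd 15386, .bwd 15637],
   .loop (some (20, 0)) [.bwd 16200, .bwd 15450, .fwd 16187, .bwd 18469, .bwd 12510, .fwd 12095, .fwd 12498, .bwd 18595],
   .loop (some (1, 2)) [.bwd 15646, .fwd 19094, .fwd 16201],
   .loop (some (11, 2)) [.bwd 15681, .bwd 18394, .fwd 11828],
   .loop (some (3, 0)) [.bwd 16768, .bwd 11003, .bwd 18379],
   .loop (some (2, 0)) [.bwd 16769, .bwd 19097, .fwd 15682],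
   .loop (some (3, 2)) [.bwd 15684, .bwd 15683, .fwd 19098, .fwd 16770],
   .loop none [.fwd 19099],
   .loop none [.bwd 15685, .fwd 19100, .bwd 16809],
   .loop none [.fwd 19101],
   .loop none [.bwd 16771, .bwd 19100],
   .loop none [.fwd 16770, .bwd 19100],
   .loop none [.fwd 16808, .bwd 19102],
   .loop (some (15, 0)) [.bwd 12106, .fwd 18485, .bwd 16199, .bwd 19103],
   .loop (some (15, 0)) [.fwd 16263, .bwd 18921, .fwd 18893, .fwd 18915],
   .loop (some (13, 2)) [.bwd 16189, .bwd 16197, .fwd 18309],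
   .loop (some (10, 2)) [.fwd 16188, .bwd 16197, .fwd 18858],
   .loop (some (11, 2)) [.bwd 15719, .bwd 18560, .bwd 18222],
   .loop (some (2, 2)) [.bwd 15720, .fwd 18683, .fwd 16564],
   .loop (some (1, 0)) [.bwd 8567, .fwd 17921, .fwd 19024],
   .loop (some (12, 2)) [.bwd 15720, .bwd 19110, .bwd 15765],
   .loop (some (3, 3)) [.bwd 15721, .bwd 19111, .bwd 18450, .fwd 18449],
   .loop none [.fwd 19114],
   .loop none [.bwd 15722, .fwd 19115, .bwd 18449],
   .loop none [.bwd 19116],
   .loop none [.fwd 18453, .bwd 19115],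
   .loop none [.fwd 18457, .bwd 19115],
   .loop none [.fwd 18458, .bwd 19115],
   .loop none [.fwd 15722, .bwd 19117],
   .loop none [.bwd 10573, .fwd 19117, .fwd 15723],
   .loop none [.fwd 19122],
   .loop none [.bwd 10574, .fwd 19123, .fwd 15724],
   .loop none [.fwd 19124],
   .loop none [.bwd 12805, .fwd 19125, .fwd 15725],
   .loop none [.fwd 19126],
   .loop none [.bwd 15726, .bwd 19127],
   .loop (some (0, 0)) [.fwd 18573, .fwd 19113],
   .loop (some (4, 0)) [.bwd 15812, .fwd 18568, .bwd 19118, .bwd 15721],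
   .loop none [.bwd 19130],
   .loop none [.fwd 15812, .bwd 19131],
   .loop none [.fwd 15720, .fwd 19131, .fwd 15813],
   .loop none [.fwd 19133],
   .loop none [.fwd 19024, .fwd 19134, .fwd 15814],
   .loop none [.bwd 19135],
   .loop none [.bwd 15815, .fwd 19136, .bwd 17930],
   .loop none [.bwd 19137],
   .loop none [.bwd 16854, .bwd 19136],
   .loop none [.fwd 17682, .bwd 19136],
   .loop none [.bwd 19024, .bwd 19136],
   .loop none [.fwd 17922, .bwd 19136],
   .loop none [.fwd 19025, .bwd 19136],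
   .loop none [.fwd 17695, .bwd 19136],
   .loop none [.fwd 15815, .bwd 19138],
   .loop none [.bwd 10436, .fwd 19138, .fwd 15816],
   .loop none [.fwd 19146],
   .loop none [.bwd 10437, .fwd 19147, .fwd 15817],
   .loop none [.fwd 19148],
   .loop none [.bwd 12156, .fwd 19149, .fwd 15818],
   .loop none [.fwd 19150],
   .loop none [.fwd 13007, .fwd 19151, .fwd 15819],
   .loop none [.fwd 19152],
   .loop none [.fwd 13718, .fwd 19153, .fwd 15820],
   .loop none [.fwd 19154],
   .loop none [.bwd 10839, .fwd 19155, .fwd 15821],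
   .loop none [.fwd 19156],
   .loop none [.bwd 11849, .fwd 19157, .fwd 15822],
   .loop none [.fwd 19158],
   .loop none [.fwd 10134, .fwd 19159, .fwd 15823],
   .loop none [.fwd 19160],
   .loop none [.bwd 15824, .bwd 19161],
   .loop (some (11, 2)) [.bwd 19132, .bwd 19113, .fwd 14155],
   .loop (some (20, 0)) [.fwd 8582, .fwd 8276, .bwd 8247, .bwd 7818, .fwd 7808, .fwd 13621, .fwd 16350, .bwd 19118],
   .loop (some (14, 4)) [.fwd 19120, .bwd 4722, .fwd 4723, .fwd 4722],
   .loop (some (17, 5)) [.bwd 15727, .bwd 19128, .fwd 12806, .fwd 10244, .fwd 10245, .fwd 11074],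
   .loop none [.bwd 19166],
   .loop none [.fwd 15727, .bwd 19167],
   .loop none [.fwd 10455, .fwd 19167, .fwd 15728],
   .loop none [.fwd 19169],
   .loop none [.fwd 11934, .fwd 19170, .fwd 15729],
   .loop none [.fwd 19171],
   .loop none [.fwd 10248, .fwd 19172, .fwd 15730],
   .loop none [.fwd 19173],
   .loop none [.bwd 15731, .bwd 19174],
   .loop (some (3, 3)) [.bwd 19128, .bwd 12805, .bwd 10928],
   .loop (some (13, 0)) [.fwd 18417, .fwd 6006, .fwd 19176],
   .loop (some (11, 0)) [.bwd 18264, .fwd 11931, .fwd 19175],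
   .loop (some (12, 0)) [.bwd 15870, .bwd 19178, .fwd 15732],
   .loop (some (13, 2)) [.bwd 15733, .fwd 19179, .fwd 15871],
   .loop (some (10, 2)) [.bwd 15734, .bwd 19180, .fwd 15872],
   .loop (some (11, 2)) [.bwd 15735, .bwd 19181, .fwd 15873],
   .loop (some (12, 2)) [.bwd 15736, .bwd 19182, .fwd 15874],
   .loop (some (13, 2)) [.bwd 15737, .bwd 19183, .fwd 15875],
   .loop (some (10, 2)) [.bwd 15738, .bwd 19184, .fwd 15876],
   .loop (some (11, 2)) [.bwd 15739, .bwd 19185, .fwd 15877],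
   .loop (some (12, 2)) [.bwd 15740, .bwd 19186, .fwd 15878],
   .loop (some (15, 0)) [.fwd 18970, .fwd 13084, .fwd 18748, .bwd 15740],
   .loop (some (0, 1)) [.fwd 19187, .fwd 19016],
   .loop (some (13, 2)) [.bwd 15741, .bwd 19187, .fwd 15879],
   .loop (some (0, 1)) [.fwd 19190, .fwd 19017],
   .loop (some (14, 0)) [.fwd 16012, .fwd 18797, .fwd 15887, .fwd 15753],
   .loop (some (15, 0)) [.bwd 15792, .bwd 7742, .fwd 785, .fwd 847, .bwd 15758],
   .loop none [.bwd 19193],
   .loop none [.fwd 15792, .bwd 19194],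
   .loop (some (11, 2)) [.fwd 18886, .bwd 18885, .bwd 18993],
   .loop (some (2, 2)) [.fwd 16301, .bwd 16303, .fwd 17312],
   .loop (some (12, 2)) [.fwd 16301, .bwd 16304, .fwd 15609],
   .loop (some (13, 2)) [.bwd 15766, .bwd 18574, .fwd 15906],
   .loop (some (11, 1)) [.bwd 15946, .fwd 18572, .bwd 18222, .bwd 18574],
   .loop none [.bwd 19200],
   .loop none [.fwd 15905, .fwd 19201, .fwd 15947],
   .loop none [.fwd 19202],
   .loop none [.bwd 15948, .bwd 19203],
   .loop (some (11, 1)) [.fwd 17909, .fwd 18551, .bwd 19199],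
   .loop (some (10, 2)) [.fwd 12023, .fwd 18428, .bwd 19199, .fwd 15907],
   .loop none [.fwd 19206],
   .loop none [.fwd 15907, .bwd 19207],
   .loop none [.bwd 10472, .fwd 19207, .fwd 15908],
   .loop none [.fwd 19209],
   .loop none [.bwd 10473, .fwd 19210, .fwd 15909],
   .loop none [.fwd 19211],
   .loop none [.bwd 12931, .fwd 19212, .fwd 15910],
   .loop none [.fwd 19213],
   .loop none [.bwd 15911, .bwd 19214],
   .loop (some (15, 0)) [.bwd 15839, .bwd 7744, .fwd 7764, .fwd 7783, .bwd 15801],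
   .loop none [.bwd 19216],
   .loop none [.fwd 15839, .bwd 19217],
   .loop (some (11, 2)) [.fwd 18934, .bwd 18933, .bwd 18886],
   .loop (some (4, 1)) [.fwd 15836, .bwd 15806, .fwd 18938],
   .loop (some (7, 2)) [.fwd 15836, .bwd 18271, .fwd 10380],
   .loop (some (19, 5)) [.bwd 16336, .bwd 16713, .bwd 16717, .fwd 16716, .fwd 19061, .fwd 16652],
   .loop (some (11, 2)) [.bwd 18567, .bwd 18569, .fwd 14130],
   .loop (some (1, 0)) [.fwd 17914, .bwd 17912, .bwd 18568],
   .loop (some (0, 0)) [.fwd 18548, .fwd 19163],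
   .loop (some (9, 2)) [.bwd 19224, .bwd 19163, .fwd 14110],
   .loop (some (15, 0)) [.fwd 16850, .bwd 17681, .fwd 8093, .bwd 19140],
   .loop (some (17, 0)) [.bwd 18459, .bwd 11856, .bwd 10135, .bwd 10134, .fwd 19162],
   .loop (some (2, 2)) [.bwd 15825, .fwd 19228, .bwd 16584],
   .loop (some (11, 0)) [.bwd 18445, .fwd 11850, .fwd 19162],
   .loop (some (3, 1)) [.bwd 15827, .bwd 15826, .bwd 19229],
   .loop (some (12, 0)) [.bwd 15777, .bwd 19230, .fwd 15825],
   .loop (some (13, 2)) [.bwd 15826, .fwd 19232, .fwd 15778],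
   .loop (some (10, 2)) [.bwd 15827, .bwd 19233, .fwd 15779],
   .loop (some (4, 1)) [.fwd 16583, .fwd 19231, .fwd 15828],
   .loop (some (11, 2)) [.bwd 15828, .bwd 19234, .fwd 15780],
   .loop (some (3, 0)) [.fwd 16581, .fwd 16582, .bwd 19235],
   .loop (some (12, 2)) [.bwd 15829, .bwd 19236, .fwd 15781],
   .loop (some (2, 0)) [.fwd 16580, .bwd 19237, .fwd 15829],
   .loop (some (3, 1)) [.bwd 15831, .bwd 15830, .fwd 19239],
   .loop (some (13, 2)) [.bwd 15830, .bwd 19238, .fwd 15782],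
   .loop (some (10, 2)) [.bwd 15831, .bwd 19241, .fwd 15783],
   .loop (some (4, 1)) [.fwd 16579, .fwd 19240, .fwd 15832],
   .loop (some (3, 0)) [.fwd 16577, .fwd 16578, .bwd 19243],
   .loop (some (2, 0)) [.fwd 16576, .bwd 19244, .fwd 15833],
   .loop (some (15, 0)) [.bwd 15884, .bwd 7745, .fwd 7766, .bwd 7803, .bwd 15844],
   .loop none [.bwd 19246],
   .loop none [.fwd 15884, .bwd 19247],
   .loop (some (11, 2)) [.bwd 18682, .bwd 18791, .bwd 19005]]

theorem just76_len : just76.length = 250 := by decide +kernel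

theorem just76_ok : cert.okFacts 19000 just76 = true := by decide +kernel

/-- justifications -/
noncomputable def just77 : List Cert.Just :=
  [.loop (some (11, 2)) [.fwd 15881, .bwd 18761, .bwd 15970],
   .loop (some (12, 2)) [.fwd 16390, .bwd 16393, .bwd 16480],
   .loop (some (15, 0)) [.fwd 17828, .fwd 13924, .fwd 18264, .fwd 15870],
   .loop (some (12, 0)) [.fwd 15967, .fwd 19189, .bwd 15878],
   .loop (some (0, 1)) [.bwd 19253, .fwd 19186],
   .loop (some (11, 2)) [.fwd 15877, .fwd 19253, .bwd 15966],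
   .loop (some (11, 2)) [.bwd 18545, .bwd 18549, .fwd 18567],
   .loop (some (4, 2)) [.bwd 18547, .fwd 15904, .fwd 19204],
   .loop (some (9, 2)) [.bwd 18546, .bwd 19225, .fwd 19224],
   .loop (some (20, 4)) [.bwd 16131, .bwd 16130, .fwd 19070, .fwd 15904, .fwd 18575, .fwd 17870, .fwd 16826, .fwd 16827],
   .loop (some (1, 2)) [.bwd 19204, .fwd 18575, .bwd 17860],
   .loop (some (13, 2)) [.bwd 19204, .bwd 19129, .fwd 15721],
   .loop (some (7, 0)) [.fwd 19139, .bwd 17893, .bwd 19205],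
   .loop (some (17, 5)) [.bwd 15912, .bwd 19215, .fwd 12932, .fwd 10161, .fwd 10162, .fwd 11883],
   .loop none [.bwd 19263],
   .loop none [.fwd 15912, .bwd 19264],
   .loop none [.fwd 10525, .fwd 19264, .fwd 15913],
   .loop none [.fwd 19266],
   .loop none [.bwd 11887, .fwd 19267, .fwd 15914],
   .loop none [.fwd 19268],
   .loop none [.fwd 10165, .fwd 19269, .fwd 15915],
   .loop none [.fwd 19270],
   .loop none [.bwd 15916, .bwd 19271],
   .loop (some (3, 3)) [.bwd 19215, .bwd 12931, .bwd 10949],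
   .loop (some (7, 0)) [.bwd 5021, .fwd 18674, .fwd 19272],
   .loop (some (11, 0)) [.bwd 19162, .fwd 11889, .fwd 19272],
   .loop (some (8, 0)) [.bwd 5022, .bwd 19274, .fwd 15917],
   .loop (some (12, 0)) [.bwd 15825, .bwd 19275, .fwd 15917],
   .loop (some (0, 0)) [.bwd 19232, .bwd 19277],
   .loop (some (13, 2)) [.bwd 15918, .fwd 19277, .fwd 15826],
   .loop (some (0, 0)) [.fwd 19233, .fwd 19279],
   .loop (some (10, 2)) [.bwd 15919, .bwd 19279, .fwd 15827],
   .loop (some (0, 0)) [.fwd 19234, .fwd 19281],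
   .loop (some (11, 2)) [.bwd 15920, .bwd 19281, .fwd 15828],
   .loop (some (12, 2)) [.bwd 15921, .bwd 19283, .fwd 15829],
   .loop (some (13, 2)) [.bwd 15922, .bwd 19284, .fwd 15830],
   .loop (some (10, 2)) [.bwd 15923, .bwd 19285, .fwd 15831],
   .loop (some (15, 0)) [.fwd 16700, .fwd 16701, .fwd 16155, .fwd 16156],
   .loop (some (1, 2)) [.bwd 18822, .bwd 18300, .fwd 15937],
   .loop (some (12, 2)) [.fwd 19003, .bwd 19004, .bwd 18485],
   .loop (some (19, 3)) [.bwd 16638, .bwd 16718, .bwd 16469, .bwd 16291, .bwd 16290, .fwd 18267],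
   .loop (some (14, 2)) [.fwd 16290, .fwd 16291, .bwd 16483, .bwd 16339],
   .loop (some (17, 2)) [.fwd 11470, .bwd 14339, .bwd 17920, .bwd 19257, .fwd 15949, .fwd 15950],
   .loop none [.fwd 19292],
   .loop none [.fwd 10504, .fwd 19293, .bwd 15950],
   .loop none [.fwd 19294],
   .loop none [.bwd 10505, .fwd 19293, .fwd 15951],
   .loop none [.fwd 19296],
   .loop none [.fwd 15949, .bwd 19295],
   .loop none [.bwd 10944, .fwd 19297, .fwd 15952],
   .loop none [.fwd 19299],
   .loop none [.fwd 10961, .fwd 19300, .fwd 15953],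
   .loop none [.fwd 19301],
   .loop none [.bwd 8304, .fwd 19302, .fwd 15954],
   .loop none [.fwd 19303],
   .loop none [.bwd 10864, .fwd 19304, .fwd 15955],
   .loop none [.fwd 19305],
   .loop none [.fwd 11661, .fwd 19306, .fwd 15956],
   .loop none [.fwd 19307],
   .loop none [.fwd 10190, .fwd 19308, .fwd 15957],
   .loop none [.fwd 19309],
   .loop none [.bwd 15958, .bwd 19310],
   .loop (some (0, 0)) [.bwd 19120, .fwd 19261],
   .loop (some (11, 0)) [.bwd 19175, .fwd 11929, .fwd 19311],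
   .loop (some (12, 0)) [.bwd 15732, .bwd 19313, .fwd 15959],
   .loop (some (0, 0)) [.bwd 19179, .bwd 19314],
   .loop (some (13, 2)) [.bwd 15960, .fwd 19314, .fwd 15733],
   .loop (some (0, 0)) [.fwd 19180, .fwd 19316],
   .loop (some (10, 2)) [.bwd 15961, .bwd 19316, .fwd 15734],
   .loop (some (0, 0)) [.fwd 19181, .fwd 19318],
   .loop (some (11, 2)) [.bwd 15962, .bwd 19318, .fwd 15735],
   .loop (some (0, 0)) [.fwd 19182, .fwd 19320],
   .loop (some (15, 0)) [.bwd 11020, .fwd 9998, .fwd 10008, .bwd 15976],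
   .loop (some (15, 0)) [.fwd 10594, .bwd 10839, .fwd 13718, .bwd 18529],
   .loop (some (2, 1)) [.bwd 16608, .bwd 18718, .fwd 15991],
   .loop (some (10, 2)) [.bwd 15991, .bwd 19031, .fwd 16404],
   .loop (some (11, 2)) [.bwd 15992, .bwd 19325, .fwd 16405],
   .loop (some (12, 2)) [.bwd 15993, .bwd 19326, .fwd 16406],
   .loop (some (13, 2)) [.bwd 15994, .bwd 19327, .fwd 16407],
   .loop (some (15, 0)) [.bwd 16609, .bwd 19324, .fwd 15992, .fwd 15993],
   .loop (some (10, 2)) [.bwd 15995, .bwd 19328, .fwd 16408],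
   .loop (some (11, 2)) [.bwd 15996, .bwd 19330, .fwd 16409],
   .loop (some (12, 2)) [.bwd 15997, .bwd 19331, .fwd 16410],
   .loop (some (13, 2)) [.bwd 15998, .bwd 19332, .fwd 16411],
   .loop (some (10, 2)) [.bwd 15999, .bwd 19333, .fwd 16412],
   .loop (some (11, 2)) [.bwd 16000, .bwd 19334, .fwd 16413],
   .loop (some (12, 2)) [.bwd 16001, .bwd 19335, .fwd 16414],
   .loop (some (13, 2)) [.bwd 16002, .bwd 19336, .fwd 16415],
   .loop (some (10, 2)) [.bwd 16003, .bwd 19337, .fwd 16416],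
   .loop (some (11, 2)) [.bwd 16004, .bwd 19338, .fwd 16417],
   .loop (some (12, 2)) [.bwd 16005, .bwd 19339, .fwd 16418],
   .loop (some (3, 0)) [.fwd 16991, .bwd 18763, .bwd 16007, .bwd 16006],
   .loop none [.bwd 19341],
   .loop none [.bwd 16991, .bwd 19342],
   .loop none [.bwd 16006, .fwd 19342, .bwd 16990],
   .loop none [.fwd 19344],
   .loop none [.fwd 16989, .bwd 19345],
   .loop (some (4, 0)) [.fwd 16886, .fwd 18762, .bwd 16006],
   .loop (some (10, 1)) [.fwd 17061, .fwd 18767, .bwd 19343, .bwd 19340],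
   .loop none [.bwd 19348],
   .loop none [.bwd 17061, .bwd 19349],
   .loop none [.bwd 16419, .fwd 19349, .bwd 17060],
   .loop none [.fwd 19351],
   .loop none [.fwd 17059, .bwd 19352],
   .loop (some (7, 3)) [.bwd 16011, .bwd 7673, .fwd 16589],
   .loop (some (11, 1)) [.fwd 16653, .fwd 19354, .bwd 16070],
   .loop (some (20, 0)) [.fwd 16049, .fwd 13378, .fwd 11754, .bwd 7673, .fwd 10132, .bwd 16022, .bwd 16021, .bwd 16020],
   .loop (some (15, 0)) [.bwd 16052, .bwd 7673, .fwd 10132, .bwd 16022, .bwd 16021],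
   .loop none [.bwd 19357],
   .loop none [.fwd 16052, .bwd 19358],
   .loop (some (8, 2)) [.fwd 16021, .fwd 19054, .bwd 16060],
   .loop (some (15, 0)) [.bwd 13354, .bwd 18524, .fwd 18690, .fwd 16030],
   .loop (some (15, 0)) [.bwd 16631, .fwd 7673, .bwd 11754, .bwd 13378, .bwd 16049],
   .loop none [.bwd 19362],
   .loop none [.fwd 16631, .bwd 19363],
   .loop (some (15, 0)) [.bwd 16061, .bwd 16060, .bwd 16059, .bwd 16058],
   .loop (some (20, 0)) [.fwd 16110, .fwd 16111, .bwd 15534, .fwd 7756, .fwd 15549, .bwd 16061, .bwd 16060, .bwd 16059],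
   .loop (some (20, 0)) [.bwd 16641, .bwd 16640, .bwd 16639, .bwd 18817, .fwd 16056, .fwd 16057, .fwd 16058, .fwd 16059],
   .loop (some (15, 0)) [.bwd 16114, .fwd 7756, .fwd 15549, .bwd 16061, .bwd 16060],
   .loop none [.bwd 19368],
   .loop none [.fwd 16114, .bwd 19369],
   .loop (some (20, 0)) [.fwd 16641, .fwd 16109, .fwd 16110, .fwd 16111, .bwd 15534, .fwd 7756, .fwd 15549, .bwd 16061],
   .loop (some (8, 2)) [.fwd 16060, .fwd 19082, .bwd 16123],
   .loop (some (15, 0)) [.fwd 16687, .fwd 16649, .fwd 16078, .bwd 16068],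
   .loop (some (8, 2)) [.fwd 16649, .fwd 19061, .fwd 16654],
   .loop (some (15, 0)) [.fwd 15572, .fwd 15573, .fwd 19058, .bwd 16102],
   .loop (some (15, 0)) [.fwd 18817, .fwd 16639, .fwd 16640, .fwd 16641],
   .loop (some (8, 0)) [.fwd 16049, .fwd 19049, .bwd 16110],
   .loop (some (15, 0)) [.bwd 16693, .bwd 7756, .fwd 15534, .bwd 16111, .bwd 16110],
   .loop none [.bwd 19378],
   .loop none [.fwd 16693, .bwd 19379],
   .loop (some (8, 2)) [.fwd 16110, .fwd 19074, .bwd 16156],
   .loop (some (15, 0)) [.fwd 16640, .fwd 16641, .fwd 16109, .fwd 16110],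
   .loop (some (9, 2)) [.bwd 16704, .bwd 19080, .bwd 16646],
   .loop (some (7, 2)) [.bwd 16120, .bwd 19021, .fwd 16057],
   .loop (some (15, 0)) [.bwd 16124, .bwd 16123, .bwd 16122, .bwd 16121],
   .loop (some (8, 0)) [.bwd 16058, .fwd 19384, .fwd 16121],
   .loop (some (15, 0)) [.fwd 18993, .fwd 16119, .fwd 16120, .fwd 16121],
   .loop (some (20, 0)) [.bwd 16701, .bwd 16700, .bwd 16699, .fwd 18993, .fwd 16119, .fwd 16120, .fwd 16121, .fwd 16122],
   .loop (some (15, 0)) [.bwd 16158, .bwd 7749, .fwd 15609, .bwd 16124, .bwd 16123],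
   .loop none [.bwd 19389],
   .loop none [.fwd 16158, .bwd 19390],
   .loop (some (20, 0)) [.fwd 16701, .fwd 16155, .fwd 16156, .fwd 15928, .bwd 15602, .bwd 7749, .fwd 15609, .bwd 16124],
   .loop (some (5, 2)) [.bwd 19392, .bwd 19082, .fwd 19371],
   .loop (some (3, 2)) [.fwd 4849, .bwd 18081, .bwd 16464, .bwd 16463],
   .loop none [.fwd 19394],
   .loop none [.fwd 16462, .bwd 19395],
   .loop none [.fwd 4848, .fwd 19395, .fwd 16463],
   .loop none [.fwd 19397],
   .loop none [.bwd 16464, .bwd 19398],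
   .loop (some (13, 1)) [.fwd 18080, .bwd 18081, .bwd 19085],
   .loop (some (10, 2)) [.fwd 18078, .fwd 19399, .bwd 19085, .bwd 16376],
   .loop none [.bwd 19401],
   .loop none [.fwd 17085, .bwd 19402],
   .loop none [.fwd 16375, .fwd 19402, .fwd 17086],
   .loop none [.fwd 19404],
   .loop none [.bwd 18078, .bwd 19402],
   .loop none [.bwd 17087, .bwd 19405],
   .loop none [.bwd 18079, .bwd 19405],
   .loop (some (20, 0)) [.bwd 16977, .bwd 16976, .fwd 17870, .fwd 16826, .fwd 16827, .fwd 19259, .bwd 16131, .bwd 16130],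
   .loop (some (1, 2)) [.bwd 19071, .fwd 19409, .fwd 16978],
   .loop (some (15, 0)) [.fwd 16826, .fwd 16827, .fwd 19259, .bwd 16131],
   .loop (some (4, 2)) [.bwd 16132, .bwd 19259, .fwd 16828],
   .loop (some (17, 2)) [.bwd 16830, .bwd 16829, .fwd 19412, .fwd 16133, .fwd 16134],
   .loop (some (2, 2)) [.bwd 16135, .fwd 19413, .fwd 16831],
   .loop (some (3, 3)) [.bwd 16136, .bwd 19414, .fwd 16832, .fwd 16833],
   .loop none [.fwd 19415],
   .loop none [.bwd 16137, .fwd 19416, .bwd 16833],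
   .loop none [.fwd 19417],
   .loop none [.bwd 16834, .bwd 19416],
   .loop none [.fwd 16832, .bwd 19418],
   .loop (some (8, 0)) [.bwd 16641, .fwd 19393, .fwd 16701],
   .loop (some (15, 0)) [.bwd 16749, .fwd 7749, .fwd 15602, .bwd 15928, .bwd 16156],
   .loop none [.bwd 19422],
   .loop none [.fwd 16749, .bwd 19423],
   .loop (some (20, 4)) [.bwd 15870, .bwd 18264, .bwd 13924, .bwd 17828, .fwd 17855, .bwd 8878, .fwd 3302, .fwd 3303],
   .loop (some (15, 0)) [.bwd 18063, .bwd 5142, .bwd 5141, .fwd 18058],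
   .loop (some (13, 2)) [.fwd 18476, .bwd 19109, .bwd 16946],
   .loop (some (3, 3)) [.bwd 16201, .bwd 19018, .fwd 16783, .fwd 16784],
   .loop none [.fwd 19428],
   .loop none [.bwd 16202, .fwd 19429, .bwd 16784],
   .loop none [.fwd 19430],
   .loop none [.bwd 16785, .bwd 19429],
   .loop none [.fwd 16783, .bwd 19431],
   .loop (some (4, 1)) [.bwd 19432, .bwd 16201, .fwd 18585],
   .loop (some (15, 0)) [.fwd 18469, .bwd 16187, .fwd 15450, .fwd 16200],
   .loop (some (1, 0)) [.bwd 18630, .fwd 18619, .bwd 19433],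
   .loop (some (11, 2)) [.bwd 16243, .bwd 18629, .fwd 15041],
   .loop (some (18, 2)) [.bwd 12709, .bwd 12715, .fwd 18630, .fwd 16244, .fwd 16245],
   .loop (some (9, 2)) [.fwd 19436, .bwd 19437, .bwd 18624],
   .loop (some (2, 1)) [.bwd 15026, .bwd 19438, .fwd 16246],
   .loop (some (15, 0)) [.bwd 14147, .bwd 19440, .fwd 16247, .fwd 16248],
   .loop (some (15, 0)) [.fwd 15701, .bwd 18915, .bwd 18893, .fwd 18921],
   .loop (some (9, 2)) [.bwd 16285, .bwd 18378, .fwd 16424],
   .loop (some (15, 0)) [.fwd 14291, .fwd 13811, .bwd 10971, .bwd 17706],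
   .loop (some (12, 2)) [.bwd 17263, .bwd 19196, .fwd 16699],
   .loop (some (17, 3)) [.fwd 16841, .fwd 16842, .bwd 17465, .bwd 17341, .bwd 17340],
   .loop (some (4, 1)) [.fwd 16327, .bwd 16300, .bwd 16842],
   .loop (some (11, 2)) [.fwd 16842, .bwd 17468, .bwd 4850],
   .loop (some (11, 2)) [.fwd 16327, .bwd 19198, .bwd 16124],
   .loop (some (15, 0)) [.fwd 15788, .fwd 15762, .bwd 15764, .bwd 16301],
   .loop (some (10, 2)) [.fwd 19197, .bwd 19198, .bwd 16703],
   .loop (some (12, 2)) [.bwd 16308, .bwd 18423, .bwd 13235],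
   .loop (some (15, 0)) [.fwd 10922, .fwd 10294, .fwd 18422, .fwd 16308],
   .loop (some (3, 0)) [.fwd 16841, .fwd 19447, .bwd 16326, .bwd 16325],
   .loop none [.bwd 19454],
   .loop none [.bwd 16841, .bwd 19455],
   .loop none [.fwd 19446, .bwd 19455],
   .loop none [.bwd 16325, .fwd 19455, .bwd 16840],
   .loop none [.fwd 19458],
   .loop none [.fwd 16839, .bwd 19459],
   .loop (some (4, 2)) [.bwd 16325, .fwd 19457, .bwd 17339],
   .loop (some (10, 0)) [.fwd 4849, .fwd 19448, .bwd 19456],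
   .loop (some (13, 0)) [.fwd 4848, .bwd 19462, .fwd 16325],
   .loop (some (0, 0)) [.fwd 19085, .fwd 19449],
   .loop (some (7, 3)) [.fwd 18390, .bwd 18364, .fwd 16906],
   .loop (some (15, 0)) [.fwd 10993, .fwd 11786, .bwd 15838, .bwd 16342],
   .loop (some (11, 2)) [.fwd 17088, .bwd 18085, .bwd 16842],
   .loop (some (15, 0)) [.bwd 5682, .fwd 18135, .fwd 17072, .fwd 16345],
   .loop (some (15, 0)) [.fwd 15836, .fwd 15807, .bwd 15809, .bwd 16347],
   .loop (some (18, 2)) [.bwd 19176, .fwd 9578, .fwd 18570, .fwd 16354, .fwd 16355],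
   .loop (some (12, 2)) [.bwd 16354, .bwd 19223, .bwd 11488],
   .loop (some (13, 2)) [.bwd 16355, .bwd 19471, .fwd 16305],
   .loop (some (2, 1)) [.fwd 19128, .bwd 19470, .fwd 16356],
   .loop (some (15, 0)) [.fwd 10454, .fwd 10455, .fwd 19168, .bwd 19470],
   .loop (some (10, 2)) [.bwd 16356, .bwd 19472, .bwd 18421],
   .loop (some (11, 2)) [.bwd 16357, .bwd 19475, .fwd 18422],
   .loop (some (15, 0)) [.fwd 12834, .bwd 12290, .bwd 12806, .bwd 19473],
   .loop (some (12, 2)) [.bwd 16358, .bwd 19476, .fwd 16308],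
   .loop (some (0, 0)) [.fwd 19452, .fwd 19478],
   .loop (some (13, 2)) [.bwd 16359, .bwd 19478, .fwd 16309],
   .loop (some (10, 2)) [.bwd 16360, .bwd 19480, .fwd 16310],
   .loop (some (11, 2)) [.bwd 16361, .bwd 19481, .fwd 16311],
   .loop (some (12, 2)) [.bwd 16362, .bwd 19482, .fwd 16312],
   .loop (some (13, 2)) [.bwd 16363, .bwd 19483, .fwd 16313],
   .loop (some (10, 2)) [.bwd 16364, .bwd 19484, .fwd 16314],
   .loop (some (11, 2)) [.bwd 16365, .bwd 19485, .fwd 16315],
   .loop (some (12, 2)) [.bwd 16366, .bwd 19486, .fwd 16316],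
   .loop (some (13, 2)) [.bwd 16367, .bwd 19487, .fwd 16317],
   .loop (some (10, 2)) [.bwd 16368, .bwd 19488, .fwd 16318],
   .loop (some (11, 2)) [.bwd 16369, .bwd 19489, .fwd 16319],
   .loop (some (12, 2)) [.bwd 16370, .bwd 19490, .fwd 16320],
   .loop (some (13, 2)) [.bwd 16371, .bwd 19491, .fwd 16321],
   .loop (some (10, 2)) [.bwd 16372, .bwd 19492, .fwd 16322],
   .loop (some (11, 2)) [.bwd 16373, .bwd 19493, .fwd 16323],
   .loop (some (12, 2)) [.bwd 16374, .bwd 19494, .fwd 16324],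
   .loop (some (7, 3)) [.bwd 18389, .bwd 19465, .fwd 16907],
   .loop (some (11, 2)) [.fwd 19496, .bwd 18391, .fwd 18392],
   .loop (some (15, 0)) [.bwd 14635, .fwd 15055, .bwd 15279, .bwd 18631],
   .loop (some (15, 0)) [.bwd 11773, .fwd 11782, .bwd 15883, .bwd 16386]]

theorem just77_len : just77.length = 250 := by decide +kernel

theorem just77_ok : cert.okFacts 19250 just77 = true := by decide +kernel

/-- justifications -/
noncomputable def just78 : List Cert.Just :=
  [.loop (some (7, 2)) [.fwd 17062, .bwd 17238, .bwd 17221],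
   .loop (some (11, 2)) [.fwd 17062, .bwd 17251, .bwd 17022],
   .loop (some (15, 0)) [.bwd 5648, .bwd 9300, .fwd 7806, .fwd 16388],
   .loop (some (11, 2)) [.fwd 16421, .bwd 19251, .bwd 16511],
   .loop (some (15, 0)) [.fwd 15881, .fwd 15852, .bwd 15855, .bwd 16390],
   .loop (some (15, 0)) [.bwd 8265, .fwd 8280, .fwd 15324, .fwd 16394],
   .loop (some (12, 0)) [.bwd 16488, .fwd 18571, .fwd 18561],
   .loop (some (0, 1)) [.bwd 19506, .fwd 18818],
   .loop (some (13, 2)) [.fwd 18593, .fwd 19506, .fwd 16489],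
   .loop (some (15, 0)) [.fwd 12880, .bwd 10867, .bwd 12852, .fwd 18594],
   .loop (some (10, 0)) [.bwd 16490, .fwd 19508, .fwd 18592],
   .loop (some (11, 0)) [.bwd 16491, .bwd 19510, .fwd 16401],
   .loop (some (12, 0)) [.bwd 16492, .bwd 19511, .fwd 16402],
   .loop (some (13, 2)) [.bwd 16403, .fwd 19512, .fwd 16493],
   .loop (some (15, 0)) [.bwd 12852, .fwd 18594, .fwd 16401, .fwd 16402],
   .loop (some (10, 2)) [.bwd 16404, .bwd 19513, .fwd 16494],
   .loop (some (11, 2)) [.bwd 16405, .bwd 19515, .fwd 16495],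
   .loop (some (12, 2)) [.bwd 16406, .bwd 19516, .fwd 16496],
   .loop (some (0, 1)) [.fwd 19516, .fwd 19326],
   .loop (some (13, 2)) [.bwd 16407, .bwd 19517, .fwd 16497],
   .loop (some (10, 2)) [.bwd 16408, .bwd 19519, .fwd 16498],
   .loop (some (11, 2)) [.bwd 16409, .bwd 19520, .fwd 16499],
   .loop (some (12, 2)) [.bwd 16410, .bwd 19521, .fwd 16500],
   .loop (some (13, 2)) [.bwd 16411, .bwd 19522, .fwd 16501],
   .loop (some (10, 2)) [.bwd 16412, .bwd 19523, .fwd 16502],
   .loop (some (11, 2)) [.bwd 16413, .bwd 19524, .fwd 16503],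
   .loop (some (12, 2)) [.bwd 16414, .bwd 19525, .fwd 16504],
   .loop (some (13, 2)) [.bwd 16415, .bwd 19526, .fwd 16505],
   .loop (some (10, 2)) [.bwd 16416, .bwd 19527, .fwd 16506],
   .loop (some (11, 2)) [.bwd 16417, .bwd 19528, .fwd 16507],
   .loop (some (12, 2)) [.bwd 16418, .bwd 19529, .fwd 16508],
   .loop (some (0, 1)) [.fwd 19530, .fwd 19340],
   .loop (some (13, 2)) [.bwd 16419, .bwd 19530, .fwd 16509],
   .loop (some (10, 1)) [.fwd 17021, .fwd 19501, .bwd 19350, .bwd 19530],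
   .loop none [.bwd 19533],
   .loop none [.bwd 17021, .bwd 19534],
   .loop none [.bwd 16509, .fwd 19534, .bwd 17020],
   .loop none [.fwd 19536],
   .loop none [.fwd 17019, .bwd 19537],
   .loop (some (12, 2)) [.bwd 19353, .bwd 19532, .fwd 19538],
   .loop (some (0, 1)) [.fwd 19503, .fwd 18764],
   .loop (some (7, 3)) [.bwd 18385, .bwd 19496, .fwd 16908],
   .loop (some (15, 0)) [.bwd 14638, .fwd 14929, .fwd 14616, .fwd 18865],
   .loop (some (15, 0)) [.bwd 11770, .fwd 11783, .bwd 15930, .bwd 16430],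
   .loop (some (15, 0)) [.bwd 16155, .bwd 16701, .bwd 16700, .bwd 16699],
   .loop (some (15, 0)) [.bwd 8263, .fwd 8282, .fwd 15354, .fwd 16438],
   .loop (some (18, 2)) [.fwd 5990, .fwd 9581, .fwd 18550, .fwd 16442, .fwd 16443],
   .loop (some (12, 2)) [.bwd 16442, .bwd 19256, .fwd 16354],
   .loop (some (0, 0)) [.fwd 19471, .fwd 19547],
   .loop (some (13, 2)) [.bwd 16443, .bwd 19547, .fwd 16355],
   .loop (some (15, 0)) [.bwd 19069, .bwd 18503, .fwd 18545, .fwd 16442],
   .loop (some (2, 1)) [.fwd 13237, .bwd 10961, .bwd 19546, .fwd 16444],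
   .loop none [.fwd 19551],
   .loop none [.fwd 13236, .fwd 19552, .fwd 16445],
   .loop none [.fwd 19553],
   .loop none [.fwd 13235, .fwd 19554, .fwd 16446],
   .loop none [.fwd 19555],
   .loop none [.bwd 16447, .bwd 19556],
   .loop (some (15, 0)) [.fwd 10491, .bwd 10864, .bwd 8304, .bwd 19546],
   .loop (some (13, 0)) [.bwd 16359, .fwd 19479, .fwd 19557],
   .loop (some (10, 2)) [.bwd 16448, .fwd 19559, .fwd 16360],
   .loop (some (11, 2)) [.bwd 16449, .bwd 19560, .fwd 16361],
   .loop (some (12, 2)) [.bwd 16450, .bwd 19561, .fwd 16362],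
   .loop (some (0, 0)) [.fwd 19483, .fwd 19562],
   .loop (some (13, 2)) [.bwd 16451, .bwd 19562, .fwd 16363],
   .loop (some (0, 0)) [.fwd 19484, .fwd 19564],
   .loop (some (10, 2)) [.bwd 16452, .bwd 19564, .fwd 16364],
   .loop (some (0, 0)) [.fwd 19485, .fwd 19566],
   .loop (some (11, 2)) [.bwd 16453, .bwd 19566, .fwd 16365],
   .loop (some (12, 2)) [.bwd 16454, .bwd 19568, .fwd 16366],
   .loop (some (0, 0)) [.fwd 19486, .fwd 19568],
   .loop (some (0, 0)) [.fwd 19487, .fwd 19569],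
   .loop (some (13, 2)) [.bwd 16455, .bwd 19569, .fwd 16367],
   .loop (some (10, 2)) [.bwd 16456, .bwd 19572, .fwd 16368],
   .loop (some (11, 2)) [.bwd 16457, .bwd 19573, .fwd 16369],
   .loop (some (12, 2)) [.bwd 16458, .bwd 19574, .fwd 16370],
   .loop (some (0, 0)) [.fwd 19491, .fwd 19575],
   .loop (some (13, 2)) [.bwd 16459, .bwd 19575, .fwd 16371],
   .loop (some (10, 2)) [.bwd 16460, .bwd 19577, .fwd 16372],
   .loop (some (11, 2)) [.bwd 16461, .bwd 19578, .fwd 16373],
   .loop (some (0, 0)) [.fwd 19494, .fwd 19579],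
   .loop (some (15, 0)) [.bwd 11768, .fwd 11780, .bwd 15972, .bwd 16475],
   .loop (some (7, 2)) [.fwd 17022, .bwd 17963, .bwd 3314],
   .loop (some (15, 0)) [.bwd 5526, .bwd 18044, .fwd 17006, .fwd 16478],
   .loop (some (15, 0)) [.fwd 15970, .fwd 15940, .bwd 15943, .bwd 16480],
   .loop (some (15, 0)) [.bwd 8262, .fwd 8278, .fwd 15395, .fwd 16484],
   .loop (some (18, 2)) [.bwd 19273, .fwd 9583, .fwd 18540, .fwd 16488, .fwd 16489],
   .loop (some (13, 2)) [.bwd 16489, .bwd 19507, .fwd 15986],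
   .loop (some (2, 1)) [.fwd 19215, .bwd 19586, .fwd 16490],
   .loop (some (15, 0)) [.fwd 10524, .fwd 10525, .fwd 19265, .bwd 19586],
   .loop (some (15, 0)) [.fwd 12960, .bwd 12250, .bwd 12932, .bwd 19588],
   .loop (some (15, 0)) [.bwd 12932, .bwd 19588, .fwd 16491, .fwd 16492],
   .loop (some (6, 0)) [.fwd 3313, .fwd 19582, .bwd 19535],
   .loop (some (15, 0)) [.bwd 16109, .bwd 16641, .bwd 16640, .bwd 16639],
   .loop (some (15, 0)) [.bwd 8363, .fwd 11118, .bwd 11848, .bwd 17805],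
   .loop (some (15, 0)) [.bwd 13378, .bwd 16049, .bwd 16048, .bwd 16600],
   .loop (some (8, 1)) [.fwd 17358, .bwd 17850, .fwd 17851],
   .loop (some (15, 0)) [.bwd 16111, .bwd 16110, .bwd 16109, .bwd 16641],
   .loop (some (15, 0)) [.fwd 16105, .fwd 16068, .bwd 16078, .bwd 16649],
   .loop (some (15, 0)) [.bwd 15928, .bwd 16156, .bwd 16155, .bwd 16701],
   .loop (some (15, 0)) [.bwd 17992, .bwd 16702, .bwd 17738, .fwd 17739],
   .loop (some (12, 2)) [.bwd 16769, .bwd 18365, .fwd 17230],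
   .loop (some (8, 1)) [.fwd 16910, .fwd 16782, .fwd 16925],
   .loop (some (18, 2)) [.bwd 17359, .bwd 14023, .fwd 19434, .fwd 16786, .fwd 16787],
   .loop (some (2, 1)) [.bwd 17838, .bwd 19603, .fwd 16788],
   .loop (some (15, 0)) [.bwd 13016, .fwd 15197, .fwd 18460, .bwd 19603],
   .loop (some (5, 1)) [.bwd 17257, .fwd 17485, .fwd 16813],
   .loop (some (14, 3)) [.fwd 16813, .bwd 17972, .bwd 17181, .fwd 18002],
   .loop (some (13, 2)) [.bwd 16828, .bwd 18066, .fwd 4836],
   .loop (some (0, 0)) [.fwd 18067, .fwd 19608],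
   .loop (some (10, 2)) [.bwd 16829, .bwd 19608, .fwd 4837],
   .loop (some (11, 2)) [.bwd 16830, .bwd 19610, .fwd 4838],
   .loop (some (12, 2)) [.bwd 16831, .bwd 19611, .fwd 4839],
   .loop (some (0, 0)) [.fwd 18070, .fwd 19612],
   .loop (some (13, 2)) [.fwd 19420, .bwd 19612, .fwd 4840],
   .loop (some (12, 0)) [.fwd 4847, .bwd 19463, .fwd 19460],
   .loop (some (11, 2)) [.fwd 16838, .fwd 19615, .bwd 4846],
   .loop (some (20, 0)) [.fwd 17462, .bwd 18063, .bwd 5142, .bwd 5141, .fwd 18058, .fwd 16815, .fwd 16299, .bwd 16842],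
   .loop (some (2, 2)) [.fwd 17471, .bwd 19456, .bwd 16324],
   .loop (some (14, 4)) [.bwd 19448, .bwd 14173, .fwd 8958, .fwd 17971],
   .loop (some (15, 0)) [.bwd 13358, .fwd 15215, .fwd 7788, .bwd 16861],
   .loop (some (15, 0)) [.fwd 16004, .fwd 16005, .fwd 19347, .bwd 16885],
   .loop (some (8, 1)) [.fwd 16918, .bwd 16912, .fwd 16906],
   .loop (some (14, 0)) [.fwd 16909, .fwd 19497, .bwd 16907, .bwd 16906],
   .loop (some (12, 1)) [.fwd 18627, .bwd 16912, .fwd 19623],
   .loop (some (15, 0)) [.bwd 14291, .fwd 10092, .bwd 13761, .bwd 16912],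
   .loop (some (8, 1)) [.fwd 16917, .bwd 19622, .fwd 16907],
   .loop (some (15, 0)) [.bwd 11823, .fwd 18368, .bwd 19541, .fwd 19624],
   .loop (some (15, 0)) [.fwd 11827, .fwd 18369, .bwd 19496, .fwd 19626],
   .loop (some (15, 0)) [.fwd 11810, .fwd 18371, .bwd 19465, .fwd 19622],
   .loop (some (8, 1)) [.fwd 17357, .bwd 19596, .fwd 16952],
   .loop (some (16, 4)) [.fwd 18854, .fwd 18836, .fwd 15248, .bwd 14412, .fwd 11129],
   .loop (some (12, 1)) [.fwd 18583, .bwd 19630, .bwd 18838],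
   .loop (some (8, 1)) [.fwd 17347, .bwd 18814, .fwd 16962],
   .loop (some (20, 4)) [.bwd 15777, .bwd 18445, .bwd 13937, .bwd 18654, .bwd 18404, .bwd 9225, .fwd 4462, .fwd 4463],
   .loop (some (0, 0)) [.fwd 17204, .fwd 17999],
   .loop (some (13, 1)) [.fwd 18940, .bwd 16970, .bwd 17999],
   .loop (some (21, 3)) [.bwd 17248, .bwd 17064, .bwd 17063, .bwd 16972, .bwd 16971, .bwd 16970, .fwd 17997, .bwd 17208],
   .loop (some (14, 0)) [.bwd 17413, .fwd 9018, .bwd 17998, .fwd 16971],
   .loop (some (0, 1)) [.bwd 19638, .fwd 18091],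
   .loop (some (15, 0)) [.bwd 19259, .bwd 16827, .bwd 16826, .bwd 17870],
   .loop (some (12, 2)) [.bwd 16977, .bwd 19258, .fwd 17047],
   .loop (some (0, 1)) [.fwd 19641, .fwd 17874],
   .loop (some (13, 2)) [.bwd 16978, .bwd 19641, .fwd 17048],
   .loop (some (21, 2)) [.bwd 17492, .fwd 19607, .bwd 16812, .bwd 917, .bwd 16996, .bwd 16995, .bwd 16994, .bwd 19012],
   .loop (some (13, 2)) [.bwd 17008, .bwd 17874, .fwd 16978],
   .loop (some (10, 2)) [.bwd 17009, .bwd 19645, .fwd 16979],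
   .loop (some (11, 2)) [.bwd 17010, .bwd 19646, .fwd 16980],
   .loop (some (12, 2)) [.bwd 17011, .bwd 19647, .fwd 16981],
   .loop (some (13, 2)) [.bwd 17012, .bwd 19648, .fwd 16982],
   .loop (some (10, 2)) [.bwd 17013, .bwd 19649, .fwd 16983],
   .loop (some (11, 2)) [.bwd 17014, .bwd 19650, .fwd 16984],
   .loop (some (12, 2)) [.bwd 17015, .bwd 19651, .fwd 16985],
   .loop (some (13, 2)) [.bwd 17016, .bwd 19652, .fwd 16986],
   .loop (some (10, 2)) [.bwd 17017, .bwd 19653, .fwd 16987],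
   .loop (some (14, 0)) [.bwd 19637, .bwd 17202, .fwd 852, .fwd 17030],
   .loop (some (0, 0)) [.fwd 17209, .bwd 19655],
   .loop (some (9, 2)) [.bwd 17236, .fwd 19655, .bwd 17195],
   .loop (some (10, 2)) [.bwd 17239, .fwd 19655, .bwd 17201],
   .loop (some (20, 0)) [.fwd 17232, .fwd 17233, .bwd 5649, .bwd 5648, .bwd 9300, .fwd 7806, .fwd 16388, .bwd 17062],
   .loop (some (14, 0)) [.fwd 17454, .bwd 19638, .fwd 16972, .fwd 17063],
   .loop (some (15, 0)) [.fwd 8600, .bwd 8593, .fwd 8845, .fwd 17073],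
   .loop (some (13, 2)) [.bwd 17078, .bwd 19613, .bwd 19420],
   .loop (some (10, 2)) [.bwd 17079, .bwd 19662, .bwd 16137],
   .loop (some (11, 2)) [.bwd 17080, .bwd 19663, .fwd 19419],
   .loop (some (12, 2)) [.bwd 17081, .bwd 19664, .fwd 16835],
   .loop (some (0, 1)) [.fwd 19664, .fwd 18073],
   .loop (some (13, 2)) [.bwd 17082, .bwd 19665, .fwd 16836],
   .loop (some (0, 1)) [.fwd 19667, .fwd 18075],
   .loop (some (13, 0)) [.bwd 10655, .fwd 18112, .bwd 17125],
   .loop (some (21, 1)) [.bwd 19644, .bwd 17203, .fwd 19637, .bwd 17130, .bwd 851, .fwd 17140, .fwd 17141, .bwd 17229],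
   .loop (some (20, 0)) [.bwd 8022, .bwd 7815, .bwd 17432, .fwd 17431, .bwd 17150, .bwd 17149, .bwd 17148, .bwd 17147],
   .loop (some (15, 0)) [.fwd 17431, .bwd 17150, .bwd 17149, .bwd 17148],
   .loop (some (20, 0)) [.bwd 14892, .fwd 4515, .bwd 8022, .bwd 7815, .bwd 17432, .fwd 17431, .bwd 17150, .bwd 17149],
   .loop (some (15, 0)) [.fwd 17542, .fwd 17146, .fwd 17147, .fwd 17148],
   .loop (some (15, 0)) [.bwd 17178, .bwd 7815, .bwd 17432, .fwd 17431, .bwd 17150],
   .loop none [.bwd 19675],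
   .loop none [.fwd 17178, .bwd 19676],
   .loop (some (15, 0)) [.fwd 17738, .fwd 16702, .fwd 17992, .fwd 17161],
   .loop (some (20, 0)) [.fwd 17150, .bwd 17431, .fwd 17432, .fwd 7815, .fwd 8022, .bwd 4515, .fwd 14892, .bwd 17176],
   .loop (some (7, 2)) [.bwd 17184, .bwd 18374, .fwd 17147],
   .loop (some (20, 0)) [.fwd 17192, .fwd 7816, .bwd 17189, .bwd 17188, .bwd 17187, .bwd 17186, .bwd 17185, .bwd 17184],
   .loop (some (15, 0)) [.bwd 17188, .bwd 17187, .bwd 17186, .bwd 17185],
   .loop (some (20, 0)) [.fwd 17220, .fwd 17221, .fwd 17192, .fwd 7816, .bwd 17189, .bwd 17188, .bwd 17187, .bwd 17186],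
   .loop (some (8, 0)) [.bwd 17148, .fwd 19680, .fwd 17185],
   .loop (some (15, 0)) [.bwd 18372, .fwd 17183, .fwd 17184, .fwd 17185],
   .loop (some (15, 0)) [.fwd 17221, .fwd 17192, .fwd 7816, .bwd 17189],
   .loop (some (15, 0)) [.fwd 7889, .bwd 8258, .fwd 8267, .fwd 17190],
   .loop (some (7, 2)) [.fwd 17221, .bwd 17193, .bwd 4515],
   .loop (some (15, 0)) [.fwd 17188, .fwd 17189, .bwd 7816, .bwd 17192],
   .loop (some (7, 2)) [.bwd 17216, .fwd 19637, .bwd 17211],
   .loop (some (6, 2)) [.bwd 17224, .fwd 19637, .bwd 17201],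
   .loop (some (20, 0)) [.fwd 17187, .fwd 17188, .fwd 17189, .bwd 7816, .bwd 17192, .bwd 17221, .bwd 17220, .bwd 17219],
   .loop (some (8, 0)) [.bwd 14892, .fwd 19688, .bwd 17220],
   .loop (some (15, 0)) [.bwd 7816, .bwd 17192, .bwd 17221, .bwd 17220],
   .loop (some (20, 0)) [.fwd 17185, .fwd 17186, .fwd 17187, .fwd 17188, .fwd 17189, .bwd 7816, .bwd 17192, .bwd 17221],
   .loop (some (7, 2)) [.bwd 17231, .bwd 18376, .fwd 17184],
   .loop (some (20, 0)) [.bwd 16388, .bwd 7806, .fwd 9300, .fwd 5648, .fwd 5649, .bwd 17233, .bwd 17232, .bwd 17231],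
   .loop (some (15, 0)) [.fwd 5648, .fwd 5649, .bwd 17233, .bwd 17232],
   .loop (some (20, 0)) [.fwd 17254, .fwd 17062, .bwd 16388, .bwd 7806, .fwd 9300, .fwd 5648, .fwd 5649, .bwd 17233],
   .loop (some (15, 0)) [.fwd 18370, .fwd 17230, .fwd 17231, .fwd 17232],
   .loop (some (15, 0)) [.bwd 7820, .bwd 8259, .bwd 8266, .fwd 17234],
   .loop (some (20, 0)) [.bwd 5649, .bwd 5648, .bwd 9300, .fwd 7806, .fwd 16388, .bwd 17062, .bwd 17254, .bwd 17253],
   .loop (some (15, 0)) [.fwd 7806, .fwd 16388, .bwd 17062, .bwd 17254],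
   .loop (some (15, 0)) [.fwd 5141, .fwd 5142, .fwd 18063, .bwd 17462],
   .loop (some (15, 0)) [.fwd 8266, .fwd 8259, .fwd 7820, .bwd 17314],
   .loop (some (8, 2)) [.fwd 18099, .fwd 18666, .bwd 14663],
   .loop (some (15, 0)) [.bwd 18897, .bwd 15375, .bwd 17646, .fwd 18099],
   .loop (some (8, 2)) [.bwd 18102, .bwd 18664, .fwd 13942],
   .loop (some (10, 2)) [.bwd 17328, .bwd 19289, .bwd 12105],
   .loop (some (15, 0)) [.fwd 16838, .bwd 19460, .bwd 19461, .bwd 17338],
   .loop (some (15, 0)) [.fwd 8315, .fwd 1692, .fwd 10965, .bwd 17352],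
   .loop (some (15, 0)) [.fwd 10159, .bwd 7131, .fwd 9828, .bwd 18009],
   .loop (some (15, 0)) [.bwd 11393, .bwd 18011, .fwd 17435, .fwd 17436],
   .loop (some (20, 0)) [.fwd 17471, .fwd 16842, .bwd 16299, .bwd 16815, .bwd 18058, .fwd 5141, .fwd 5142, .fwd 18063],
   .loop (some (15, 0)) [.fwd 17274, .bwd 17265, .bwd 17301, .fwd 17462],
   .loop (some (20, 0)) [.bwd 5142, .bwd 5141, .fwd 18058, .fwd 16815, .fwd 16299, .bwd 16842, .bwd 17471, .bwd 17470],
   .loop (some (15, 0)) [.fwd 16815, .fwd 16299, .bwd 16842, .bwd 17471],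
   .loop (some (7, 2)) [.bwd 17476, .bwd 18363, .bwd 17301],
   .loop (some (20, 0)) [.fwd 17484, .fwd 17455, .bwd 17481, .bwd 17480, .bwd 17479, .bwd 17478, .bwd 17477, .bwd 17476],
   .loop (some (5, 3)) [.bwd 19718, .bwd 19617, .bwd 19619],
   .loop (some (8, 0)) [.bwd 17462, .fwd 19718, .fwd 17477],
   .loop (some (15, 0)) [.bwd 17536, .fwd 17455, .bwd 17481, .bwd 17480, .bwd 17479],
   .loop none [.bwd 19722],
   .loop none [.fwd 17536, .bwd 19723],
   .loop (some (7, 0)) [.bwd 5141, .fwd 18108, .bwd 17480],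
   .loop (some (15, 0)) [.fwd 17480, .fwd 17481, .bwd 17455, .bwd 17484],
   .loop (some (7, 2)) [.bwd 17528, .fwd 19607, .bwd 17500],
   .loop (some (6, 2)) [.bwd 17534, .fwd 19607, .bwd 17490],
   .loop (some (20, 0)) [.fwd 17479, .fwd 17480, .fwd 17481, .bwd 17455, .bwd 17484, .bwd 17533, .bwd 17532, .bwd 17531],
   .loop (some (8, 0)) [.fwd 17471, .bwd 19619, .bwd 17532],
   .loop (some (15, 0)) [.bwd 17455, .bwd 17484, .bwd 17533, .bwd 17532],
   .define,
   .define,
   .define,
   .define,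
   .loop (some (20, 5)) [.fwd 10657, .fwd 10658, .fwd 11035, .bwd 11034, .fwd 19732, .fwd 19733, .fwd 19734, .fwd 19735],
   .define,
   .loop (some (6, 2)) [.fwd 7834, .fwd 17413, .fwd 19737],
   .define,
   .define,
   .define,
   .define,
   .define,
   .define,
   .define,
   .define,
   .define,
   .define,
   .define]

theorem just78_len : just78.length = 250 := by decide +kernel

theorem just78_ok : cert.okFacts 19500 just78 = true := by decide +kernel

/-- justifications -/
noncomputable def just79 : List Cert.Just :=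
  [.define,
   .define,
   .define,
   .define,
   .define,
   .define,
   .define,
   .define,
   .define,
   .loop (some (22, 27)) [.fwd 18848, .fwd 15889, .bwd 13780, .bwd 919, .bwd 7834, .bwd 7863, .bwd 8074, .bwd 1521, .fwd 1022, .fwd 1442, .bwd 3432, .fwd 19739, .fwd 19740, .fwd 19741, .fwd 19742, .fwd 19743, .fwd 19744, .fwd 19745, .fwd 19746, .fwd 19747, .fwd 19748, .fwd 19749, .fwd 19750, .fwd 19751, .fwd 19752, .fwd 19753, .fwd 19754, .fwd 19755, .fwd 19756, .fwd 19757, .fwd 19758],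
   .define,
   .define,
   .loop (some (15, 2)) [.fwd 3412, .bwd 8025, .fwd 19760, .fwd 19761],
   .define,
   .loop (some (21, 4)) [.bwd 17410, .fwd 10005, .fwd 10006, .fwd 10007, .fwd 10024, .fwd 10025, .fwd 17194, .fwd 19763],
   .define,
   .loop (some (18, 3)) [.bwd 17146, .bwd 10024, .bwd 9998, .bwd 18318, .fwd 19765],
   .define,
   .define,
   .define,
   .define,
   .define,
   .define,
   .define,
   .define,
   .define,
   .define,
   .define,
   .define,
   .define,
   .define,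
   .define,
   .define,
   .define,
   .define,
   .define,
   .define,
   .define,
   .define,
   .define,
   .define,
   .define,
   .loop (some (22, 28)) [.bwd 17147, .bwd 17146, .bwd 10024, .fwd 10015, .bwd 10038, .bwd 17261, .fwd 19767, .fwd 19768, .fwd 19769, .fwd 19770, .fwd 19771, .fwd 19772, .fwd 19773, .fwd 19774, .fwd 19775, .fwd 19776, .fwd 19777, .fwd 19778, .fwd 19779, .fwd 19780, .fwd 19781, .fwd 19782, .fwd 19783, .fwd 19784, .fwd 19785, .fwd 19786, .fwd 19787, .fwd 19788, .fwd 19789, .fwd 19790, .fwd 19791],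
   .define,
   .define,
   .loop (some (21, 4)) [.bwd 17417, .fwd 13398, .fwd 13399, .fwd 13400, .fwd 13387, .fwd 13388, .fwd 19793, .fwd 19794],
   .define,
   .define,
   .define,
   .define,
   .define,
   .define,
   .define,
   .define,
   .define,
   .define,
   .define,
   .define,
   .define,
   .define,
   .define,
   .define,
   .define,
   .define,
   .define,
   .define,
   .define,
   .define,
   .define,
   .loop (some (22, 26)) [.bwd 4472, .fwd 9237, .bwd 4893, .bwd 13777, .bwd 13387, .fwd 7680, .fwd 7855, .bwd 5937, .fwd 19796, .fwd 19797, .fwd 19798, .fwd 19799, .fwd 19800, .fwd 19801, .fwd 19802, .fwd 19803, .fwd 19804, .fwd 19805, .fwd 19806, .fwd 19807, .fwd 19808, .fwd 19809, .fwd 19810, .fwd 19811, .fwd 19812, .fwd 19813, .fwd 19814, .fwd 19815, .fwd 19816, .fwd 19817, .fwd 19818],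
   .define,
   .loop (some (21, 4)) [.fwd 8286, .fwd 944, .fwd 945, .fwd 946, .fwd 1544, .fwd 1545, .fwd 17200, .fwd 19820],
   .define,
   .define,
   .define,
   .define,
   .define,
   .define,
   .define,
   .define,
   .define,
   .define,
   .define,
   .define,
   .define,
   .define,
   .define,
   .define,
   .define,
   .define,
   .define,
   .define,
   .define,
   .define,
   .define,
   .define,
   .define,
   .loop (some (22, 29)) [.bwd 7886, .bwd 1544, .bwd 932, .fwd 914, .bwd 5970, .fwd 16973, .fwd 19822, .fwd 19823, .fwd 19824, .fwd 19825, .fwd 19826, .fwd 19827, .fwd 19828, .fwd 19829, .fwd 19830, .fwd 19831, .fwd 19832, .fwd 19833, .fwd 19834, .fwd 19835, .fwd 19836, .fwd 19837, .fwd 19838, .fwd 19839, .fwd 19840, .fwd 19841, .fwd 19842, .fwd 19843, .fwd 19844, .fwd 19845, .fwd 19846],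
   .define,
   .define,
   .define,
   .loop (some (21, 4)) [.bwd 7993, .fwd 946, .fwd 933, .fwd 941, .fwd 7915, .fwd 19848, .fwd 19849, .fwd 19850],
   .define,
   .loop (some (1, 2)) [.bwd 7915, .fwd 13790, .fwd 19852],
   .define,
   .define,
   .define,
   .define,
   .define,
   .define,
   .define,
   .define,
   .define,
   .define,
   .define,
   .define,
   .loop (some (22, 29)) [.bwd 4890, .bwd 7915, .bwd 7828, .fwd 15757, .fwd 15758, .fwd 16176, .bwd 17099, .fwd 8217, .bwd 8216, .fwd 1510, .bwd 8243, .bwd 8265, .fwd 8280, .fwd 16391, .fwd 16392, .fwd 15855, .bwd 15852, .bwd 15851, .fwd 18293, .fwd 19854, .fwd 19855, .fwd 19856, .fwd 19857, .fwd 19858, .fwd 19859, .fwd 19860, .fwd 19861, .fwd 19862, .fwd 19863, .fwd 19864, .fwd 19865],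
   .define,
   .define,
   .define,
   .loop (some (21, 4)) [.bwd 1544, .fwd 933, .fwd 941, .fwd 942, .fwd 7938, .fwd 19867, .fwd 19868, .fwd 19869],
   .define,
   .loop (some (18, 2)) [.bwd 5091, .bwd 5090, .bwd 7938, .fwd 13791, .fwd 19871],
   .define,
   .define,
   .define,
   .define,
   .define,
   .define,
   .define,
   .define,
   .define,
   .define,
   .define,
   .define,
   .define,
   .define,
   .define,
   .define,
   .define,
   .define,
   .define,
   .define,
   .define,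
   .define,
   .define,
   .define,
   .define,
   .loop (some (22, 29)) [.bwd 5090, .bwd 7938, .fwd 7829, .bwd 17382, .fwd 15801, .fwd 17071, .fwd 19873, .fwd 19874, .fwd 19875, .fwd 19876, .fwd 19877, .fwd 19878, .fwd 19879, .fwd 19880, .fwd 19881, .fwd 19882, .fwd 19883, .fwd 19884, .fwd 19885, .fwd 19886, .fwd 19887, .fwd 19888, .fwd 19889, .fwd 19890, .fwd 19891, .fwd 19892, .fwd 19893, .fwd 19894, .fwd 19895, .fwd 19896, .fwd 19897],
   .define,
   .define,
   .define,
   .define,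
   .define,
   .define,
   .define,
   .define,
   .define,
   .define,
   .define,
   .loop (some (22, 29)) [.bwd 5059, .fwd 8286, .fwd 7832, .bwd 17406, .fwd 15844, .bwd 5963, .bwd 8271, .fwd 8245, .fwd 8216, .bwd 1445, .fwd 1512, .fwd 1520, .bwd 1600, .fwd 16302, .fwd 16303, .fwd 15764, .bwd 15762, .bwd 15761, .fwd 18279, .bwd 15705, .fwd 19899, .fwd 19900, .fwd 19901, .fwd 19902, .fwd 19903, .fwd 19904, .fwd 19905, .fwd 19906, .fwd 19907, .fwd 19908, .fwd 19909],
   .define,
   .define,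
   .loop (some (21, 4)) [.bwd 7915, .fwd 942, .fwd 943, .fwd 944, .bwd 952, .bwd 19738, .fwd 19911, .fwd 19912],
   .define,
   .loop (some (18, 2)) [.bwd 5019, .bwd 7975, .fwd 952, .fwd 13797, .fwd 19914],
   .define,
   .define,
   .define,
   .define,
   .define,
   .define,
   .define,
   .define,
   .define,
   .define,
   .define,
   .define,
   .define,
   .define,
   .define,
   .define,
   .define,
   .define,
   .define,
   .define,
   .define,
   .define,
   .define,
   .define,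
   .loop (some (22, 29)) [.bwd 7975, .fwd 952, .fwd 7833, .bwd 11032, .bwd 11276, .fwd 17028, .fwd 17983, .fwd 19916, .fwd 19917, .fwd 19918, .fwd 19919, .fwd 19920, .fwd 19921, .fwd 19922, .fwd 19923, .fwd 19924, .fwd 19925, .fwd 19926, .fwd 19927, .fwd 19928, .fwd 19929, .fwd 19930, .fwd 19931, .fwd 19932, .fwd 19933, .fwd 19934, .fwd 19935, .fwd 19936, .fwd 19937, .fwd 19938, .fwd 19939],
   .define,
   .loop (some (21, 2)) [.fwd 17310, .bwd 17563, .bwd 7938, .fwd 943, .fwd 944, .fwd 945, .fwd 7993, .fwd 19941],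
   .define,
   .define,
   .define,
   .define,
   .define,
   .define,
   .define,
   .define,
   .define,
   .define,
   .define,
   .define,
   .define,
   .define,
   .define,
   .define,
   .define,
   .define,
   .define,
   .define,
   .define,
   .define,
   .define,
   .define,
   .define,
   .loop (some (22, 29)) [.bwd 4975, .bwd 7993, .bwd 7813, .fwd 8201, .bwd 8913, .fwd 17005, .fwd 19943, .fwd 19944, .fwd 19945, .fwd 19946, .fwd 19947, .fwd 19948, .fwd 19949, .fwd 19950, .fwd 19951, .fwd 19952, .fwd 19953, .fwd 19954, .fwd 19955, .fwd 19956, .fwd 19957, .fwd 19958, .fwd 19959, .fwd 19960, .fwd 19961, .fwd 19962, .fwd 19963, .fwd 19964, .fwd 19965, .fwd 19966, .fwd 19967],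
   .define,
   .loop (some (21, 4)) [.fwd 8179, .fwd 997, .fwd 998, .fwd 999, .fwd 1521, .fwd 1522, .fwd 17501, .fwd 19969],
   .define,
   .loop (some (5, 2)) [.bwd 1015, .bwd 999, .fwd 19971],
   .define,
   .loop (some (1, 2)) [.bwd 1521, .fwd 1015, .fwd 19973],
   .define,
   .loop (some (9, 2)) [.bwd 1015, .bwd 7887, .fwd 19975],
   .define,
   .define,
   .define,
   .loop (some (19, 3)) [.fwd 19738, .bwd 951, .bwd 950, .fwd 19977, .fwd 19978, .fwd 19979],
   .define,
   .loop (some (21, 4)) [.bwd 19911, .fwd 19738, .bwd 951, .bwd 950, .bwd 949, .bwd 1543, .fwd 13771, .fwd 19981],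
   .define,
   .define,
   .define,
   .loop (some (20, 4)) [.bwd 17234, .fwd 8266, .fwd 8259, .fwd 7820, .bwd 13775, .fwd 19983, .fwd 19984, .fwd 19985],
   .define,
   .loop (some (8, 2)) [.fwd 17314, .fwd 19977, .fwd 19987],
   .define,
   .define,
   .define,
   .define,
   .define,
   .define,
   .define,
   .define,
   .define,
   .define,
   .define]

theorem just79_len : just79.length = 250 := by decide +kernel

theorem just79_ok : cert.okFacts 19750 just79 = true := by decide +kernel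

/-- justifications -/
noncomputable def just80 : List Cert.Just :=
  [.define,
   .define,
   .define,
   .define,
   .define,
   .define,
   .define,
   .define,
   .define,
   .define,
   .loop (some (22, 26)) [.bwd 13589, .fwd 13571, .bwd 13566, .fwd 1600, .fwd 949, .fwd 7785, .bwd 16815, .bwd 18058, .fwd 18059, .fwd 18107, .fwd 19989, .fwd 19990, .fwd 19991, .fwd 19992, .fwd 19993, .fwd 19994, .fwd 19995, .fwd 19996, .fwd 19997, .fwd 19998, .fwd 19999, .fwd 20000, .fwd 20001, .fwd 20002, .fwd 20003, .fwd 20004, .fwd 20005, .fwd 20006, .fwd 20007, .fwd 20008, .fwd 20009],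
   .define,
   .define,
   .loop (some (15, 2)) [.fwd 17341, .fwd 17314, .fwd 20011, .fwd 20012],
   .define,
   .define,
   .loop (some (21, 5)) [.fwd 19980, .fwd 19738, .bwd 951, .fwd 17308, .fwd 17309, .bwd 19942, .fwd 20014, .fwd 20015],
   .define,
   .define,
   .define,
   .loop (some (20, 4)) [.bwd 17190, .bwd 8267, .fwd 8258, .bwd 7889, .fwd 13808, .fwd 20017, .fwd 20018, .fwd 20019],
   .define,
   .define,
   .define,
   .loop (some (18, 4)) [.bwd 17308, .fwd 17482, .fwd 20021, .fwd 20022, .fwd 20023],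
   .define,
   .loop (some (14, 2)) [.bwd 19977, .fwd 950, .bwd 17535, .fwd 20025],
   .define,
   .loop (some (12, 2)) [.bwd 17482, .bwd 17535, .fwd 20027],
   .define,
   .define,
   .define,
   .define,
   .define,
   .define,
   .define,
   .define,
   .define,
   .define,
   .define,
   .define,
   .define,
   .define,
   .define,
   .define,
   .define,
   .define,
   .define,
   .define,
   .define,
   .define,
   .define,
   .define,
   .define,
   .define,
   .define,
   .define,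
   .loop (some (22, 29)) [.fwd 20024, .bwd 17308, .bwd 7843, .fwd 17455, .bwd 17481, .fwd 20031, .fwd 20032, .fwd 20033, .fwd 20034, .fwd 20035, .fwd 20036, .fwd 20037, .fwd 20038, .fwd 20039, .fwd 20040, .fwd 20041, .fwd 20042, .fwd 20043, .fwd 20044, .fwd 20045, .fwd 20046, .fwd 20047, .fwd 20048, .fwd 20049, .fwd 20050, .fwd 20051, .fwd 20052, .fwd 20053, .fwd 20054, .fwd 20055, .fwd 20056],
   .define,
   .loop (some (11, 2)) [.bwd 7889, .bwd 17535, .fwd 20058],
   .define,
   .loop (some (7, 2)) [.fwd 7863, .bwd 19738, .fwd 20060],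
   .define,
   .loop (some (21, 5)) [.fwd 19979, .fwd 19980, .fwd 19738, .fwd 952, .bwd 944, .bwd 8286, .fwd 17559, .fwd 20062],
   .define,
   .define,
   .loop (some (20, 3)) [.fwd 19847, .bwd 7886, .bwd 7845, .fwd 8074, .fwd 7863, .bwd 13803, .fwd 20064, .fwd 20065],
   .define,
   .define,
   .define,
   .define,
   .define,
   .define,
   .define,
   .define,
   .define,
   .define,
   .define,
   .define,
   .define,
   .define,
   .define,
   .define,
   .define,
   .define,
   .define,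
   .define,
   .define,
   .loop (some (22, 27)) [.fwd 15248, .fwd 15246, .bwd 13797, .bwd 952, .fwd 7834, .bwd 11035, .bwd 10658, .fwd 11399, .bwd 5582, .fwd 17979, .fwd 20067, .fwd 20068, .fwd 20069, .fwd 20070, .fwd 20071, .fwd 20072, .fwd 20073, .fwd 20074, .fwd 20075, .fwd 20076, .fwd 20077, .fwd 20078, .fwd 20079, .fwd 20080, .fwd 20081, .fwd 20082, .fwd 20083, .fwd 20084, .fwd 20085, .fwd 20086, .fwd 20087],
   .define,
   .define,
   .loop (some (15, 2)) [.fwd 19940, .bwd 7975, .fwd 20089, .fwd 20090],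
   .loop (some (7, 1)) [.fwd 19972, .bwd 7712, .bwd 13511],
   .define,
   .loop (some (4, 2)) [.bwd 13523, .fwd 7712, .fwd 19973],
   .define,
   .define,
   .define,
   .define,
   .define,
   .define,
   .define,
   .define,
   .define,
   .define,
   .define,
   .define,
   .define,
   .define,
   .define,
   .define,
   .define,
   .define,
   .define,
   .define,
   .define,
   .define,
   .define,
   .define,
   .define,
   .define,
   .loop (some (22, 29)) [.fwd 13813, .bwd 13523, .fwd 10969, .bwd 10971, .bwd 17706, .fwd 20095, .fwd 20096, .fwd 20097, .fwd 20098, .fwd 20099, .fwd 20100, .fwd 20101, .fwd 20102, .fwd 20103, .fwd 20104, .fwd 20105, .fwd 20106, .fwd 20107, .fwd 20108, .fwd 20109, .fwd 20110, .fwd 20111, .fwd 20112, .fwd 20113, .fwd 20114, .fwd 20115, .fwd 20116, .fwd 20117, .fwd 20118, .fwd 20119, .fwd 20120],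
   .loop (some (11, 1)) [.fwd 19976, .bwd 7712, .bwd 13816],
   .define,
   .define,
   .loop (some (21, 4)) [.bwd 19914, .fwd 13408, .fwd 13409, .fwd 13410, .fwd 13499, .fwd 13500, .fwd 20123, .fwd 20124],
   .define,
   .loop (some (20, 3)) [.bwd 5801, .fwd 5935, .fwd 5936, .fwd 5937, .bwd 7855, .bwd 9577, .bwd 13516, .fwd 20126],
   .define,
   .define,
   .define,
   .define,
   .define,
   .define,
   .define,
   .define,
   .define,
   .define,
   .define,
   .define,
   .define,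
   .define,
   .define,
   .define,
   .define,
   .define,
   .define,
   .define,
   .define,
   .define,
   .define,
   .define,
   .loop (some (22, 28)) [.bwd 17959, .bwd 13792, .bwd 13499, .bwd 7680, .fwd 10966, .bwd 14587, .fwd 15759, .fwd 20128, .fwd 20129, .fwd 20130, .fwd 20131, .fwd 20132, .fwd 20133, .fwd 20134, .fwd 20135, .fwd 20136, .fwd 20137, .fwd 20138, .fwd 20139, .fwd 20140, .fwd 20141, .fwd 20142, .fwd 20143, .fwd 20144, .fwd 20145, .fwd 20146, .fwd 20147, .fwd 20148, .fwd 20149, .fwd 20150, .fwd 20151],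
   .define,
   .define,
   .define,
   .define,
   .define,
   .loop (some (21, 4)) [.fwd 7990, .fwd 999, .fwd 948, .fwd 994, .bwd 7905, .fwd 20155, .fwd 20156, .fwd 20157],
   .loop (some (20, 1)) [.fwd 20127, .bwd 5801, .fwd 5935, .fwd 5936, .fwd 5937, .bwd 7855, .bwd 961, .fwd 7851, .fwd 20154],
   .loop none [.fwd 20159],
   .loop none [.fwd 20154, .bwd 20160],
   .loop (some (5, 2)) [.fwd 20161, .bwd 994, .fwd 1000],
   .define,
   .define,
   .define,
   .define,
   .define,
   .define,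
   .define,
   .define,
   .define,
   .define,
   .define,
   .define,
   .define,
   .define,
   .loop (some (22, 23)) [.bwd 18857, .fwd 15934, .bwd 13782, .fwd 7957, .fwd 9208, .bwd 4974, .fwd 7989, .fwd 7905, .fwd 4542, .bwd 3272, .fwd 8042, .fwd 4785, .fwd 17099, .fwd 16815, .fwd 16299, .fwd 16300, .bwd 19197, .fwd 20163, .fwd 20164, .fwd 20165, .fwd 20166, .fwd 20167, .fwd 20168, .fwd 20169, .fwd 20170, .fwd 20171, .fwd 20172, .fwd 20173, .fwd 20174, .fwd 20175, .fwd 20176],
   .define,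
   .loop (some (9, 2)) [.fwd 20161, .fwd 7907, .fwd 20178],
   .define,
   .define,
   .loop (some (16, 2)) [.fwd 8231, .fwd 8158, .fwd 7928, .fwd 20180, .fwd 20181],
   .define,
   .define,
   .define,
   .loop (some (21, 4)) [.bwd 1521, .fwd 948, .fwd 994, .fwd 995, .bwd 7936, .fwd 20183, .fwd 20184, .fwd 20185],
   .define,
   .loop (some (20, 2)) [.fwd 9497, .bwd 14400, .fwd 14299, .bwd 13817, .bwd 13791, .bwd 7858, .fwd 20180, .fwd 20187],
   .define,
   .define,
   .define,
   .define,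
   .define,
   .define,
   .define,
   .define,
   .define,
   .define,
   .define,
   .define,
   .define,
   .define,
   .define,
   .define,
   .define,
   .define,
   .define,
   .loop (some (22, 22)) [.fwd 16946, .bwd 18858, .bwd 17409, .bwd 13778, .fwd 7925, .fwd 8910, .bwd 5058, .fwd 8178, .fwd 7936, .bwd 7928, .fwd 7929, .bwd 4495, .fwd 20189, .fwd 20190, .fwd 20191, .fwd 20192, .fwd 20193, .fwd 20194, .fwd 20195, .fwd 20196, .fwd 20197, .fwd 20198, .fwd 20199, .fwd 20200, .fwd 20201, .fwd 20202, .fwd 20203, .fwd 20204, .fwd 20205, .fwd 20206, .fwd 20207],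
   .define,
   .loop (some (16, 2)) [.fwd 8237, .fwd 8169, .fwd 7947, .fwd 19975, .fwd 20209],
   .define,
   .loop (some (20, 2)) [.fwd 9431, .bwd 14055, .bwd 14761, .bwd 14895, .bwd 13794, .bwd 7859, .fwd 19975, .fwd 20211],
   .define,
   .define,
   .define,
   .define,
   .define,
   .define,
   .define,
   .define,
   .define,
   .define,
   .define,
   .define,
   .define,
   .define,
   .define,
   .loop (some (22, 23)) [.bwd 18315, .bwd 17385, .bwd 13776, .fwd 8091, .fwd 9017, .bwd 5089, .bwd 8178, .fwd 8179, .bwd 7947, .fwd 8052, .bwd 4441, .fwd 8241, .fwd 8271, .fwd 7806, .fwd 16388, .fwd 16389, .fwd 20213, .fwd 20214, .fwd 20215, .fwd 20216, .fwd 20217, .fwd 20218, .fwd 20219, .fwd 20220, .fwd 20221, .fwd 20222, .fwd 20223, .fwd 20224, .fwd 20225, .fwd 20226, .fwd 20227],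
   .define,
   .loop (some (16, 2)) [.fwd 8243, .fwd 8190, .fwd 7960, .fwd 20178, .fwd 20229],
   .define,
   .define,
   .loop (some (21, 4)) [.fwd 7905, .fwd 995, .fwd 996, .fwd 997, .bwd 1009, .bwd 20061, .fwd 20231, .fwd 20232],
   .define,
   .loop (some (20, 2)) [.fwd 8477, .fwd 14297, .fwd 14897, .fwd 15246, .bwd 13797, .bwd 7862, .fwd 20178, .fwd 20234],
   .define,
   .loop (some (1, 2)) [.fwd 1009, .fwd 20178, .fwd 20236],
   .define,
   .loop (some (16, 2)) [.fwd 7996, .bwd 8046, .bwd 7877, .fwd 19971, .fwd 20238],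
   .define,
   .define,
   .loop (some (21, 3)) [.bwd 17588, .fwd 7936, .fwd 996, .fwd 997, .fwd 998, .bwd 7990, .fwd 20240, .fwd 20241],
   .define,
   .loop (some (20, 2)) [.fwd 11396, .bwd 14047, .bwd 14753, .fwd 15245, .bwd 13802, .fwd 7844, .fwd 19971, .fwd 20243],
   .define,
   .define,
   .define,
   .define,
   .define]

theorem just80_len : just80.length = 250 := by decide +kernel

theorem just80_ok : cert.okFacts 20000 just80 = true := by decide +kernel

/-- justifications -/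
noncomputable def just81 : List Cert.Just :=
  [.define,
   .define,
   .define,
   .define,
   .define,
   .define,
   .define,
   .define,
   .define,
   .define,
   .define,
   .define,
   .define,
   .define,
   .loop (some (22, 22)) [.bwd 16956, .fwd 13733, .bwd 10966, .bwd 930, .fwd 7854, .fwd 9242, .bwd 4889, .bwd 7989, .fwd 7990, .fwd 7877, .fwd 7982, .bwd 3354, .fwd 20245, .fwd 20246, .fwd 20247, .fwd 20248, .fwd 20249, .fwd 20250, .fwd 20251, .fwd 20252, .fwd 20253, .fwd 20254, .fwd 20255, .fwd 20256, .fwd 20257, .fwd 20258, .fwd 20259, .fwd 20260, .fwd 20261, .fwd 20262, .fwd 20263],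
   .define,
   .define,
   .define,
   .define,
   .define,
   .define,
   .loop (some (19, 5)) [.fwd 1530, .fwd 17624, .fwd 20267, .fwd 20268, .fwd 20269, .fwd 20270],
   .define,
   .define,
   .loop (some (21, 5)) [.fwd 20270, .fwd 20271, .fwd 1530, .fwd 1457, .bwd 1016, .fwd 19973, .fwd 20272, .fwd 20273],
   .loop (some (21, 3)) [.fwd 20242, .bwd 17584, .fwd 1517, .fwd 1518, .fwd 1519, .fwd 1006, .fwd 1007, .fwd 17212],
   .define,
   .define,
   .loop (some (20, 3)) [.bwd 7789, .fwd 14109, .bwd 13566, .fwd 1600, .bwd 1520, .fwd 1529, .fwd 20276, .fwd 20277],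
   .loop (some (5, 2)) [.fwd 20271, .bwd 1529, .bwd 1519, .bwd 20239],
   .loop none [.bwd 20279],
   .loop none [.bwd 20271, .bwd 20280],
   .loop (some (1, 2)) [.bwd 1006, .fwd 1529, .fwd 20265],
   .loop (some (9, 2)) [.bwd 1529, .bwd 8264, .bwd 20210],
   .define,
   .define,
   .define,
   .loop (some (19, 3)) [.fwd 20061, .bwd 1008, .bwd 1007, .fwd 20284, .fwd 20285, .fwd 20286],
   .define,
   .loop (some (21, 4)) [.bwd 20231, .fwd 20061, .bwd 1008, .bwd 1007, .bwd 1006, .bwd 1519, .fwd 13835, .fwd 20288],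
   .define,
   .define,
   .loop (some (20, 3)) [.fwd 20012, .fwd 20013, .fwd 17341, .fwd 17314, .bwd 7820, .bwd 20282, .fwd 20290, .fwd 20291],
   .loop (some (5, 1)) [.bwd 20266, .fwd 20282, .fwd 1007],
   .define,
   .loop (some (8, 2)) [.fwd 8259, .fwd 20284, .fwd 20294],
   .define,
   .define,
   .define,
   .define,
   .define,
   .define,
   .define,
   .define,
   .define,
   .define,
   .define,
   .define,
   .define,
   .define,
   .define,
   .define,
   .define,
   .loop (some (22, 22)) [.fwd 4332, .bwd 8856, .fwd 8578, .bwd 8535, .fwd 8515, .fwd 8531, .bwd 8858, .fwd 7822, .fwd 1006, .bwd 7997, .bwd 8217, .bwd 8249, .bwd 5139, .bwd 18107, .fwd 20296, .fwd 20297, .fwd 20298, .fwd 20299, .fwd 20300, .fwd 20301, .fwd 20302, .fwd 20303, .fwd 20304, .fwd 20305, .fwd 20306, .fwd 20307, .fwd 20308, .fwd 20309, .fwd 20310, .fwd 20311, .fwd 20312],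
   .define,
   .loop (some (9, 2)) [.fwd 20282, .bwd 17562, .fwd 20314],
   .define,
   .loop (some (10, 2)) [.fwd 7997, .bwd 17562, .fwd 20316],
   .define,
   .define,
   .loop (some (16, 2)) [.bwd 8256, .bwd 8221, .bwd 7998, .fwd 20293, .fwd 20319],
   .define,
   .define,
   .loop (some (21, 5)) [.fwd 20287, .fwd 20061, .bwd 1008, .fwd 17212, .fwd 20275, .bwd 20241, .fwd 20321, .fwd 20322],
   .define,
   .define,
   .loop (some (18, 4)) [.bwd 17212, .bwd 8258, .fwd 17501, .fwd 20324, .fwd 20325],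
   .define,
   .loop (some (14, 2)) [.bwd 20284, .fwd 1007, .bwd 20059, .fwd 20327],
   .define,
   .loop (some (12, 2)) [.fwd 8258, .bwd 20059, .fwd 20329],
   .define,
   .define,
   .loop (some (13, 2)) [.bwd 17212, .bwd 20059, .fwd 20332],
   .define,
   .define,
   .define,
   .define,
   .define,
   .define,
   .define,
   .define,
   .define,
   .define,
   .define,
   .define,
   .define,
   .define,
   .define,
   .define,
   .define,
   .define,
   .define,
   .define,
   .define,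
   .define,
   .define,
   .define,
   .define,
   .define,
   .define,
   .loop (some (22, 29)) [.fwd 20326, .bwd 17212, .fwd 7998, .fwd 8220, .fwd 20334, .fwd 20335, .fwd 20336, .fwd 20337, .fwd 20338, .fwd 20339, .fwd 20340, .fwd 20341, .fwd 20342, .fwd 20343, .fwd 20344, .fwd 20345, .fwd 20346, .fwd 20347, .fwd 20348, .fwd 20349, .fwd 20350, .fwd 20351, .fwd 20352, .fwd 20353, .fwd 20354, .fwd 20355, .fwd 20356, .fwd 20357, .fwd 20358, .fwd 20359, .fwd 20360],
   .loop (some (15, 0)) [.fwd 20020, .bwd 17190, .bwd 8267, .fwd 8258],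
   .define,
   .loop (some (10, 2)) [.bwd 7998, .bwd 20059, .fwd 20363],
   .define,
   .loop (some (16, 2)) [.fwd 8244, .fwd 8194, .fwd 7973, .bwd 20237, .fwd 20365],
   .define,
   .define,
   .define,
   .loop (some (20, 3)) [.fwd 20090, .fwd 20091, .fwd 19940, .bwd 7975, .bwd 7863, .bwd 20237, .fwd 20368, .fwd 20369],
   .define,
   .loop (some (5, 2)) [.fwd 20237, .bwd 20061, .fwd 20371],
   .define,
   .loop (some (6, 2)) [.fwd 7973, .bwd 20061, .fwd 20373],
   .loop (some (15, 0)) [.fwd 19847, .bwd 7886, .bwd 7845, .fwd 8074],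
   .define,
   .define,
   .define,
   .define,
   .define,
   .loop (some (19, 5)) [.bwd 5734, .fwd 11056, .fwd 20377, .fwd 20378, .fwd 20379, .fwd 20380],
   .loop (some (2, 2)) [.bwd 11051, .fwd 7866, .fwd 20276],
   .define,
   .define,
   .define,
   .loop (some (18, 4)) [.bwd 19973, .fwd 11051, .fwd 20383, .fwd 20384, .fwd 20385],
   .loop (some (12, 2)) [.bwd 11051, .bwd 19976, .fwd 20211],
   .define,
   .define,
   .define,
   .define,
   .define,
   .define,
   .define,
   .define,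
   .define,
   .define,
   .define,
   .define,
   .define,
   .define,
   .define,
   .define,
   .define,
   .define,
   .define,
   .define,
   .define,
   .define,
   .define,
   .define,
   .define,
   .define,
   .loop (some (22, 29)) [.fwd 20386, .bwd 19973, .fwd 7866, .bwd 7713, .bwd 17703, .fwd 20388, .fwd 20389, .fwd 20390, .fwd 20391, .fwd 20392, .fwd 20393, .fwd 20394, .fwd 20395, .fwd 20396, .fwd 20397, .fwd 20398, .fwd 20399, .fwd 20400, .fwd 20401, .fwd 20402, .fwd 20403, .fwd 20404, .fwd 20405, .fwd 20406, .fwd 20407, .fwd 20408, .fwd 20409, .fwd 20410, .fwd 20411, .fwd 20412, .fwd 20413],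
   .loop (some (5, 1)) [.fwd 20381, .bwd 1118, .bwd 1104],
   .define,
   .loop (some (1, 2)) [.fwd 1201, .fwd 1118, .fwd 20416],
   .define,
   .loop (some (9, 2)) [.bwd 1118, .bwd 7946, .fwd 20418],
   .define,
   .define,
   .define,
   .define,
   .define,
   .define,
   .define,
   .define,
   .define,
   .define,
   .define,
   .loop (some (22, 20)) [.bwd 15612, .fwd 18083, .bwd 17027, .fwd 7800, .bwd 7799, .fwd 11276, .bwd 10659, .bwd 11040, .fwd 8197, .fwd 8048, .bwd 1507, .bwd 1022, .bwd 947, .bwd 12330, .fwd 14764, .bwd 18096, .fwd 18600, .fwd 16190, .bwd 18486, .bwd 12105, .fwd 20420, .fwd 20421, .fwd 20422, .fwd 20423, .fwd 20424, .fwd 20425, .fwd 20426, .fwd 20427, .fwd 20428, .fwd 20429, .fwd 20430],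
   .define,
   .define,
   .define,
   .define,
   .loop (some (19, 5)) [.fwd 12968, .fwd 17589, .fwd 20432, .fwd 20433, .fwd 20434, .fwd 20435],
   .define,
   .define,
   .define,
   .define,
   .define,
   .define,
   .loop (some (19, 5)) [.fwd 15442, .fwd 13825, .fwd 20439, .fwd 20440, .fwd 20441, .fwd 20442],
   .define,
   .define,
   .define,
   .loop (some (21, 5)) [.fwd 20442, .fwd 20443, .fwd 15442, .bwd 7367, .bwd 12968, .fwd 20444, .fwd 20445, .fwd 20446],
   .define,
   .define,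
   .define,
   .define,
   .define,
   .define,
   .loop (some (8, 1)) [.fwd 12697, .fwd 7611, .fwd 20448],
   .define,
   .define,
   .define,
   .define,
   .define,
   .loop (some (19, 5)) [.fwd 12494, .fwd 20455, .fwd 20456, .fwd 20457, .fwd 20458, .fwd 20459],
   .define,
   .loop (some (8, 1)) [.bwd 6524, .bwd 1084, .fwd 20455],
   .define,
   .define,
   .define,
   .define,
   .loop (some (19, 4)) [.fwd 11261, .bwd 6524, .fwd 20463, .fwd 20464, .fwd 20465, .fwd 20466],
   .define,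
   .define,
   .define,
   .loop (some (21, 5)) [.fwd 20467, .fwd 11261, .bwd 6524, .fwd 1085, .fwd 6515, .fwd 20468, .fwd 20469, .fwd 20470],
   .loop (some (8, 1)) [.fwd 12494, .fwd 1084, .fwd 20463],
   .loop (some (14, 2)) [.bwd 20464, .bwd 20463, .bwd 6525, .fwd 20463],
   .define,
   .define,
   .define,
   .define,
   .define,
   .loop (some (19, 5)) [.bwd 6515, .fwd 20474, .fwd 20475, .fwd 20476, .fwd 20477, .fwd 20478],
   .define,
   .define,
   .define,
   .loop (some (21, 5)) [.fwd 20478, .fwd 20479, .bwd 6515, .bwd 1085, .fwd 6524, .fwd 20480, .fwd 20481, .fwd 20482],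
   .loop (some (8, 1)) [.fwd 4130, .bwd 6512, .fwd 20474],
   .define,
   .define,
   .define,
   .define,
   .define,
   .loop (some (19, 5)) [.bwd 6507, .fwd 20485, .fwd 20486, .fwd 20487, .fwd 20488, .fwd 20489],
   .define,
   .define,
   .define,
   .loop (some (21, 5)) [.fwd 20489, .fwd 20490, .bwd 6507, .fwd 6506, .bwd 3594, .fwd 20491, .fwd 20492, .fwd 20493],
   .loop (some (8, 1)) [.fwd 2441, .bwd 6505, .fwd 20485],
   .loop (some (16, 2)) [.bwd 7995, .bwd 8097, .bwd 7873, .fwd 11057, .bwd 20382],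
   .loop (some (1, 2)) [.bwd 20418, .fwd 8013, .fwd 11057, .fwd 20383],
   .loop none [.bwd 20497],
   .loop none [.fwd 20418, .bwd 20498]]

theorem just81_len : just81.length = 250 := by decide +kernel

theorem just81_ok : cert.okFacts 20250 just81 = true := by decide +kernel

/-- justifications -/
noncomputable def just82 : List Cert.Just :=
  [.loop none [.bwd 20419, .bwd 20498],
   .loop (some (9, 1)) [.fwd 20387, .bwd 11057, .bwd 8002],
   .loop (some (20, 1)) [.bwd 20243, .bwd 20092, .bwd 14538, .bwd 14420, .bwd 9688, .fwd 6951, .fwd 5896, .fwd 5128, .bwd 20417],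
   .loop none [.fwd 20502],
   .loop none [.bwd 20417, .bwd 20503],
   .loop (some (5, 3)) [.fwd 20504, .bwd 1100, .fwd 11057, .fwd 20377],
   .loop none [.fwd 20505],
   .loop none [.bwd 20378, .bwd 20506],
   .define,
   .loop (some (20, 2)) [.bwd 15058, .bwd 14411, .bwd 8390, .fwd 8389, .fwd 6834, .bwd 7943, .bwd 20499, .fwd 20384],
   .loop (some (5, 3)) [.fwd 20499, .bwd 1101, .bwd 20504, .fwd 20507],
   .loop none [.bwd 20510],
   .loop none [.bwd 20499, .bwd 20511],
   .loop none [.bwd 20508, .bwd 20511],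
   .loop none [.bwd 20384, .bwd 20511],
   .loop none [.bwd 20500, .bwd 20511],
   .loop (some (9, 2)) [.fwd 20512, .bwd 7976, .fwd 20415],
   .define,
   .loop (some (16, 2)) [.bwd 8911, .fwd 8124, .bwd 8078, .fwd 20501, .fwd 20517],
   .loop (some (5, 3)) [.bwd 20501, .bwd 1102, .bwd 20512, .fwd 20379],
   .loop none [.fwd 20519],
   .loop none [.fwd 20379, .bwd 20520],
   .define,
   .define,
   .loop (some (20, 2)) [.bwd 15060, .bwd 14057, .bwd 8401, .fwd 8400, .fwd 6704, .fwd 5121, .fwd 20415, .fwd 20523],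
   .define,
   .define,
   .define,
   .define,
   .define,
   .loop (some (19, 5)) [.fwd 7821, .fwd 20525, .fwd 20526, .fwd 20527, .fwd 20528, .fwd 20529],
   .loop (some (8, 1)) [.bwd 20276, .fwd 1530, .bwd 5737, .fwd 20525],
   .loop none [.fwd 20531],
   .loop none [.fwd 20525, .bwd 20532],
   .loop (some (7, 1)) [.fwd 20188, .fwd 5943, .fwd 5801, .bwd 20381],
   .loop none [.fwd 20534],
   .loop none [.fwd 20415, .bwd 20535],
   .loop none [.bwd 20522, .bwd 20535],
   .loop none [.fwd 20187, .fwd 20535, .fwd 20523],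
   .loop none [.fwd 20538],
   .loop none [.bwd 20381, .bwd 20535],
   .loop none [.bwd 20516, .bwd 20535],
   .loop none [.bwd 20524, .bwd 20539],
   .loop (some (6, 2)) [.fwd 20530, .fwd 4541, .bwd 20540, .fwd 20537],
   .loop none [.bwd 20543],
   .loop none [.bwd 20530, .bwd 20544],
   .loop (some (12, 2)) [.fwd 20179, .fwd 20127, .bwd 20515, .fwd 20514],
   .loop none [.fwd 20546],
   .loop none [.bwd 20509, .bwd 20547],
   .loop none [.bwd 20234, .fwd 20547, .bwd 20514],
   .loop none [.fwd 20549],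
   .loop none [.bwd 20236, .fwd 20547, .fwd 20385],
   .loop none [.fwd 20551],
   .loop none [.bwd 20512, .bwd 20550],
   .loop none [.bwd 20513, .bwd 20550],
   .loop none [.fwd 20521, .bwd 20550],
   .loop none [.bwd 20515, .bwd 20550],
   .loop none [.fwd 20541, .bwd 20550],
   .loop none [.fwd 20414, .bwd 20552],
   .loop none [.bwd 20368, .fwd 20552, .fwd 20386],
   .loop none [.bwd 20559],
   .loop none [.bwd 20094, .fwd 20560, .fwd 20369],
   .loop none [.fwd 20561],
   .loop none [.fwd 20368, .bwd 20560],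
   .loop none [.fwd 13813, .fwd 20562, .fwd 20370],
   .loop none [.fwd 20564],
   .loop none [.fwd 20121, .fwd 20565, .fwd 20090],
   .loop none [.bwd 20566],
   .loop none [.fwd 20089, .bwd 20565],
   .loop none [.fwd 20120, .bwd 20567],
   .loop none [.bwd 20121, .bwd 20567],
   .define,
   .define,
   .define,
   .define,
   .define,
   .define,
   .loop (some (15, 0)) [.fwd 8346, .bwd 13516, .fwd 20126, .fwd 20127],
   .loop (some (10, 2)) [.fwd 4541, .bwd 20556, .fwd 20554],
   .define,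
   .define,
   .loop (some (21, 4)) [.bwd 3064, .fwd 3073, .fwd 3073, .fwd 3073, .fwd 3064, .bwd 3023, .fwd 20579, .fwd 20580],
   .define,
   .define,
   .define,
   .define,
   .define,
   .define,
   .define,
   .define,
   .define,
   .define,
   .define,
   .define,
   .define,
   .define,
   .define,
   .define,
   .define,
   .define,
   .loop (some (22, 24)) [.bwd 20296, .bwd 17942, .fwd 17943, .bwd 17093, .fwd 3272, .fwd 1459, .fwd 1206, .bwd 4558, .bwd 5128, .bwd 5896, .bwd 6889, .bwd 3395, .bwd 6666, .fwd 20582, .fwd 20583, .fwd 20584, .fwd 20585, .fwd 20586, .fwd 20587, .fwd 20588, .fwd 20589, .fwd 20590, .fwd 20591, .fwd 20592, .fwd 20593, .fwd 20594, .fwd 20595, .fwd 20596, .fwd 20597, .fwd 20598, .fwd 20599],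
   .define,
   .define,
   .define,
   .loop (some (19, 5)) [.fwd 2336, .bwd 12215, .bwd 12214, .fwd 20601, .fwd 20602, .fwd 20603],
   .loop (some (21, 5)) [.fwd 20603, .fwd 20604, .fwd 2336, .fwd 2342, .bwd 3074, .bwd 2342, .bwd 2336, .bwd 20604],
   .define,
   .define,
   .loop (some (18, 3)) [.fwd 8120, .bwd 1345, .bwd 1511, .fwd 20606, .fwd 20607],
   .define,
   .define,
   .define,
   .define,
   .define,
   .define,
   .define,
   .define,
   .define,
   .define,
   .define,
   .define,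
   .define,
   .define,
   .define,
   .define,
   .define,
   .define,
   .define,
   .loop (some (22, 24)) [.bwd 5682, .fwd 18135, .bwd 17071, .bwd 8215, .bwd 8119, .fwd 8120, .bwd 1345, .bwd 4604, .bwd 3012, .bwd 2973, .fwd 8567, .bwd 4833, .fwd 20609, .fwd 20610, .fwd 20611, .fwd 20612, .fwd 20613, .fwd 20614, .fwd 20615, .fwd 20616, .fwd 20617, .fwd 20618, .fwd 20619, .fwd 20620, .fwd 20621, .fwd 20622, .fwd 20623, .fwd 20624, .fwd 20625, .fwd 20626, .fwd 20627],
   .define,
   .define,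
   .define,
   .define,
   .define,
   .define,
   .define,
   .define,
   .define,
   .define,
   .define,
   .define,
   .define,
   .define,
   .define,
   .define,
   .define,
   .loop (some (22, 22)) [.bwd 17449, .fwd 18040, .bwd 5481, .fwd 18047, .bwd 16973, .bwd 7840, .bwd 3431, .fwd 1511, .fwd 1345, .bwd 8107, .bwd 8276, .bwd 8582, .fwd 17862, .bwd 17045, .fwd 20629, .fwd 20630, .fwd 20631, .fwd 20632, .fwd 20633, .fwd 20634, .fwd 20635, .fwd 20636, .fwd 20637, .fwd 20638, .fwd 20639, .fwd 20640, .fwd 20641, .fwd 20642, .fwd 20643, .fwd 20644, .fwd 20645],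
   .define,
   .define,
   .define,
   .define,
   .define,
   .define,
   .define,
   .define,
   .define,
   .define,
   .define,
   .define,
   .define,
   .define,
   .define,
   .define,
   .define,
   .define,
   .define,
   .loop (some (22, 24)) [.bwd 5648, .bwd 9300, .fwd 5963, .fwd 8283, .bwd 8191, .fwd 8192, .bwd 8098, .fwd 7995, .fwd 8858, .fwd 3024, .fwd 2323, .fwd 8560, .fwd 20647, .fwd 20648, .fwd 20649, .fwd 20650, .fwd 20651, .fwd 20652, .fwd 20653, .fwd 20654, .fwd 20655, .fwd 20656, .fwd 20657, .fwd 20658, .fwd 20659, .fwd 20660, .fwd 20661, .fwd 20662, .fwd 20663, .fwd 20664, .fwd 20665],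
   .define,
   .define,
   .define,
   .loop (some (19, 5)) [.bwd 4045, .fwd 8126, .fwd 14201, .fwd 20667, .fwd 20668, .fwd 20669],
   .define,
   .define,
   .define,
   .loop (some (21, 5)) [.fwd 20669, .fwd 20670, .bwd 4045, .fwd 4044, .fwd 3620, .fwd 20671, .fwd 20672, .fwd 20673],
   .define,
   .define,
   .define,
   .loop (some (19, 4)) [.fwd 15479, .fwd 12161, .fwd 17617, .fwd 20675, .fwd 20676, .fwd 20677],
   .define,
   .define,
   .define,
   .define,
   .define,
   .define,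
   .loop (some (19, 5)) [.fwd 17618, .fwd 20680, .fwd 20681, .fwd 20682, .fwd 20683, .fwd 20684],
   .define,
   .loop (some (8, 1)) [.fwd 2664, .bwd 7612, .fwd 20680],
   .define,
   .define,
   .define,
   .define,
   .define,
   .loop (some (19, 5)) [.fwd 12697, .fwd 20688, .fwd 20689, .fwd 20690, .fwd 20691, .fwd 20692],
   .define,
   .define,
   .define,
   .loop (some (21, 5)) [.fwd 20692, .fwd 20693, .fwd 12697, .bwd 7606, .bwd 12680, .fwd 20694, .fwd 20695, .fwd 20696],
   .loop (some (8, 1)) [.fwd 12680, .bwd 7611, .fwd 20688],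
   .define,
   .define,
   .define,
   .define,
   .define,
   .loop (some (19, 5)) [.fwd 2290, .fwd 20699, .fwd 20700, .fwd 20701, .fwd 20702, .fwd 20703],
   .define,
   .define,
   .define,
   .loop (some (21, 5)) [.fwd 20703, .fwd 20704, .fwd 2290, .bwd 2243, .bwd 2220, .fwd 20705, .fwd 20706, .fwd 20707],
   .loop (some (8, 1)) [.bwd 3770, .fwd 3734, .fwd 20699],
   .define,
   .define,
   .define,
   .define,
   .define,
   .loop (some (19, 5)) [.fwd 3784, .fwd 20710, .fwd 20711, .fwd 20712, .fwd 20713, .fwd 20714],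
   .define,
   .define,
   .define,
   .loop (some (21, 5)) [.fwd 20714, .fwd 20715, .fwd 3784, .fwd 3785, .bwd 3829, .fwd 20716, .fwd 20717, .fwd 20718],
   .loop (some (8, 1)) [.fwd 3957, .bwd 3753, .fwd 20710],
   .define,
   .define,
   .define,
   .define,
   .define,
   .loop (some (19, 5)) [.fwd 3957, .fwd 20721, .fwd 20722, .fwd 20723, .fwd 20724, .fwd 20725],
   .define,
   .define,
   .loop (some (21, 5)) [.fwd 20725, .fwd 20726, .fwd 3957, .fwd 1422, .fwd 3955, .bwd 10762, .fwd 20727, .fwd 20728],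
   .loop (some (8, 1)) [.fwd 3784, .fwd 3753, .fwd 20721],
   .define,
   .define,
   .define,
   .define,
   .define,
   .loop (some (19, 5)) [.bwd 3955, .fwd 20731, .fwd 20732, .fwd 20733, .fwd 20734, .fwd 20735],
   .define,
   .define,
   .define,
   .loop (some (21, 5)) [.fwd 20735, .fwd 20736, .bwd 3955, .bwd 1422, .bwd 3957, .fwd 20737, .fwd 20738, .fwd 20739],
   .loop (some (8, 1)) [.fwd 4029, .bwd 3859, .fwd 20731],
   .define,
   .define,
   .define,
   .define,
   .define,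
   .loop (some (19, 5)) [.bwd 3718, .fwd 20742, .fwd 20743, .fwd 20744, .fwd 20745, .fwd 20746],
   .define,
   .define]

theorem just82_len : just82.length = 250 := by decide +kernel

theorem just82_ok : cert.okFacts 20500 just82 = true := by decide +kernel

/-- justifications -/
noncomputable def just83 : List Cert.Just :=
  [.define,
   .loop (some (21, 5)) [.fwd 20746, .fwd 20747, .bwd 3718, .bwd 3700, .bwd 3669, .fwd 20748, .fwd 20749, .fwd 20750],
   .loop (some (8, 1)) [.fwd 2220, .bwd 3229, .fwd 20742],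
   .define,
   .define,
   .define,
   .define,
   .define,
   .define,
   .define,
   .define,
   .define,
   .define,
   .define,
   .define,
   .define,
   .define,
   .define,
   .define,
   .loop (some (22, 26)) [.bwd 17390, .fwd 17381, .bwd 7929, .fwd 7930, .fwd 1432, .bwd 8078, .fwd 8079, .bwd 6769, .fwd 6771, .bwd 4457, .bwd 6736, .bwd 11362, .bwd 10742, .bwd 14251, .bwd 18268, .fwd 20753, .fwd 20754, .fwd 20755, .fwd 20756, .fwd 20757, .fwd 20758, .fwd 20759, .fwd 20760, .fwd 20761, .fwd 20762, .fwd 20763, .fwd 20764, .fwd 20765, .fwd 20766, .fwd 20767, .fwd 20768],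
   .define,
   .define,
   .define,
   .define,
   .define,
   .define,
   .define,
   .define,
   .define,
   .define,
   .define,
   .define,
   .define,
   .define,
   .define,
   .define,
   .define,
   .define,
   .define,
   .define,
   .loop (some (22, 26)) [.bwd 17411, .fwd 17405, .bwd 8052, .fwd 8053, .bwd 1432, .bwd 4551, .bwd 5121, .bwd 6704, .fwd 6705, .bwd 4498, .bwd 6708, .fwd 20770, .fwd 20771, .fwd 20772, .fwd 20773, .fwd 20774, .fwd 20775, .fwd 20776, .fwd 20777, .fwd 20778, .fwd 20779, .fwd 20780, .fwd 20781, .fwd 20782, .fwd 20783, .fwd 20784, .fwd 20785, .fwd 20786, .fwd 20787, .fwd 20788, .fwd 20789],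
   .define,
   .define,
   .loop (some (1, 2)) [.bwd 4546, .fwd 8146, .fwd 20606],
   .define,
   .define,
   .define,
   .define,
   .define,
   .define,
   .define,
   .define,
   .define,
   .define,
   .define,
   .define,
   .define,
   .define,
   .define,
   .define,
   .loop (some (22, 22)) [.bwd 17003, .fwd 7798, .bwd 7797, .fwd 8913, .bwd 4590, .fwd 8917, .bwd 7991, .bwd 4547, .bwd 4546, .bwd 4542, .bwd 7851, .fwd 961, .fwd 13499, .fwd 13785, .bwd 17551, .fwd 20794, .fwd 20795, .fwd 20796, .fwd 20797, .fwd 20798, .fwd 20799, .fwd 20800, .fwd 20801, .fwd 20802, .fwd 20803, .fwd 20804, .fwd 20805, .fwd 20806, .fwd 20807, .fwd 20808, .fwd 20809],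
   .define,
   .loop (some (1, 2)) [.bwd 7931, .bwd 8158, .fwd 20811],
   .define,
   .define,
   .define,
   .define,
   .define,
   .define,
   .define,
   .define,
   .define,
   .define,
   .define,
   .define,
   .define,
   .define,
   .define,
   .define,
   .loop (some (22, 20)) [.fwd 19986, .bwd 17234, .fwd 1547, .fwd 7804, .bwd 7803, .bwd 15844, .fwd 17411, .bwd 13591, .bwd 8177, .fwd 8145, .bwd 7931, .fwd 7928, .fwd 7858, .fwd 13791, .fwd 19871, .fwd 20813, .fwd 20814, .fwd 20815, .fwd 20816, .fwd 20817, .fwd 20818, .fwd 20819, .fwd 20820, .fwd 20821, .fwd 20822, .fwd 20823, .fwd 20824, .fwd 20825, .fwd 20826, .fwd 20827, .fwd 20828],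
   .define,
   .define,
   .define,
   .define,
   .define,
   .define,
   .define,
   .define,
   .define,
   .define,
   .define,
   .define,
   .define,
   .define,
   .define,
   .define,
   .define,
   .loop (some (22, 22)) [.bwd 13771, .bwd 7784, .fwd 7783, .bwd 15801, .fwd 17390, .bwd 13842, .bwd 7937, .bwd 8145, .bwd 8054, .fwd 7947, .fwd 7859, .fwd 13794, .bwd 13414, .bwd 14249, .bwd 18823, .fwd 20831, .fwd 20832, .fwd 20833, .fwd 20834, .fwd 20835, .fwd 20836, .fwd 20837, .fwd 20838, .fwd 20839, .fwd 20840, .fwd 20841, .fwd 20842, .fwd 20843, .fwd 20844, .fwd 20845, .fwd 20846],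
   .define,
   .define,
   .loop (some (21, 4)) [.bwd 4546, .fwd 1437, .fwd 1438, .fwd 1439, .bwd 1448, .bwd 20374, .fwd 20848, .fwd 20849],
   .define,
   .define,
   .define,
   .define,
   .define,
   .define,
   .define,
   .define,
   .define,
   .define,
   .define,
   .define,
   .define,
   .define,
   .loop (some (22, 18)) [.bwd 16886, .bwd 18770, .bwd 13126, .bwd 15203, .bwd 13764, .fwd 7752, .bwd 7794, .fwd 5970, .fwd 5960, .bwd 7841, .fwd 8058, .bwd 8048, .fwd 1448, .fwd 7960, .fwd 7862, .fwd 13797, .fwd 19914, .fwd 20851, .fwd 20852, .fwd 20853, .fwd 20854, .fwd 20855, .fwd 20856, .fwd 20857, .fwd 20858, .fwd 20859, .fwd 20860, .fwd 20861, .fwd 20862, .fwd 20863, .fwd 20864],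
   .loop (some (1, 2)) [.bwd 7984, .fwd 8046, .bwd 20608],
   .define,
   .loop (some (21, 4)) [.bwd 8180, .bwd 8187, .fwd 8186, .fwd 8029, .fwd 4617, .fwd 4618, .fwd 17622, .fwd 20867],
   .loop (some (18, 2)) [.bwd 5479, .bwd 8059, .bwd 4617, .bwd 3432, .fwd 19739],
   .define,
   .define,
   .define,
   .define,
   .define,
   .define,
   .define,
   .define,
   .define,
   .define,
   .define,
   .define,
   .define,
   .define,
   .define,
   .define,
   .define,
   .define,
   .define,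
   .define,
   .define,
   .define,
   .loop (some (22, 28)) [.bwd 18052, .bwd 8059, .bwd 4617, .fwd 4790, .bwd 914, .bwd 13404, .fwd 17133, .fwd 18096, .bwd 14758, .fwd 20870, .fwd 20871, .fwd 20872, .fwd 20873, .fwd 20874, .fwd 20875, .fwd 20876, .fwd 20877, .fwd 20878, .fwd 20879, .fwd 20880, .fwd 20881, .fwd 20882, .fwd 20883, .fwd 20884, .fwd 20885, .fwd 20886, .fwd 20887, .fwd 20888, .fwd 20889, .fwd 20890, .fwd 20891],
   .loop (some (13, 2)) [.fwd 20317, .bwd 1445, .bwd 8172, .fwd 20830],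
   .loop none [.fwd 20893],
   .loop none [.fwd 20830, .bwd 20894],
   .define,
   .define,
   .loop (some (21, 4)) [.bwd 20848, .fwd 20374, .bwd 1447, .bwd 1446, .bwd 1445, .bwd 1504, .bwd 20608, .fwd 20897],
   .define,
   .define,
   .loop (some (20, 6)) [.fwd 8249, .fwd 8217, .fwd 8047, .bwd 8048, .bwd 8197, .fwd 8198, .fwd 20899, .fwd 20900],
   .define,
   .loop (some (8, 2)) [.fwd 8216, .fwd 20896, .fwd 20902],
   .define,
   .loop (some (12, 2)) [.fwd 8216, .bwd 20317, .fwd 20904],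
   .define,
   .loop (some (0, 1)) [.fwd 20317, .fwd 20906],
   .define,
   .define,
   .define,
   .define,
   .define,
   .define,
   .define,
   .define,
   .define,
   .define,
   .define,
   .define,
   .define,
   .loop (some (22, 19)) [.bwd 8822, .bwd 8841, .fwd 8849, .fwd 3055, .fwd 8547, .fwd 8517, .fwd 8499, .fwd 8491, .fwd 4799, .bwd 8033, .fwd 4600, .fwd 1445, .fwd 7997, .fwd 7820, .bwd 17314, .bwd 17313, .fwd 19197, .bwd 16327, .fwd 20908, .fwd 20909, .fwd 20910, .fwd 20911, .fwd 20912, .fwd 20913, .fwd 20914, .fwd 20915, .fwd 20916, .fwd 20917, .fwd 20918, .fwd 20919, .fwd 20920],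
   .loop (some (11, 1)) [.bwd 19916, .fwd 17620, .fwd 8217, .bwd 20317],
   .loop none [.fwd 20922],
   .loop none [.fwd 20316, .bwd 20923],
   .loop none [.bwd 19917, .fwd 20923, .fwd 20904],
   .loop none [.fwd 20925],
   .loop none [.bwd 20895, .bwd 20923],
   .loop none [.bwd 20317, .bwd 20923],
   .loop none [.fwd 20907, .bwd 20923],
   .loop none [.bwd 20905, .bwd 20926],
   .loop (some (15, 0)) [.fwd 18053, .bwd 9212, .fwd 8245, .fwd 8216],
   .define,
   .define,
   .loop (some (20, 5)) [.bwd 20933, .bwd 20334, .bwd 8220, .fwd 8221, .fwd 8222, .fwd 8220, .fwd 20334, .fwd 20933],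
   .define,
   .define,
   .loop (some (18, 4)) [.bwd 17587, .bwd 8222, .bwd 17621, .fwd 20935, .fwd 20936],
   .define,
   .loop (some (14, 2)) [.bwd 20896, .fwd 1446, .bwd 20364, .fwd 20938],
   .define,
   .loop (some (12, 2)) [.fwd 8222, .bwd 20364, .fwd 20940],
   .define,
   .define,
   .define,
   .define,
   .define,
   .define,
   .define,
   .define,
   .define,
   .define,
   .define,
   .define,
   .define,
   .define,
   .define,
   .define,
   .define,
   .define,
   .define,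
   .define,
   .define,
   .define,
   .define,
   .define,
   .define,
   .loop (some (22, 29)) [.fwd 20937, .bwd 17587, .bwd 7998, .bwd 7889, .fwd 17482, .fwd 20021, .fwd 20942, .fwd 20943, .fwd 20944, .fwd 20945, .fwd 20946, .fwd 20947, .fwd 20948, .fwd 20949, .fwd 20950, .fwd 20951, .fwd 20952, .fwd 20953, .fwd 20954, .fwd 20955, .fwd 20956, .fwd 20957, .fwd 20958, .fwd 20959, .fwd 20960, .fwd 20961, .fwd 20962, .fwd 20963, .fwd 20964, .fwd 20965, .fwd 20966],
   .define,
   .loop (some (11, 2)) [.bwd 8220, .bwd 20364, .fwd 20968],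
   .define,
   .define,
   .loop (some (15, 2)) [.bwd 8255, .fwd 8222, .fwd 20970, .fwd 20971],
   .define,
   .loop (some (7, 2)) [.fwd 8197, .bwd 20374, .fwd 20973],
   .define,
   .loop (some (9, 2)) [.fwd 20930, .fwd 8194, .bwd 8000, .bwd 20812],
   .loop none [.fwd 20976],
   .loop none [.bwd 20812, .bwd 20977],
   .loop none [.bwd 19918, .fwd 20977, .bwd 20811],
   .loop none [.bwd 20979],
   .loop none [.bwd 20975, .bwd 20977],
   .loop none [.fwd 8231, .fwd 20980, .fwd 19919],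
   .loop none [.fwd 20982],
   .loop none [.fwd 19918, .bwd 20980],
   .loop none [.fwd 8262, .fwd 20983, .fwd 19920],
   .loop none [.fwd 20985],
   .loop none [.bwd 8278, .fwd 20986, .fwd 19921],
   .loop none [.fwd 20987],
   .loop none [.bwd 16481, .fwd 20988, .fwd 19922],
   .loop none [.fwd 20989],
   .loop none [.bwd 16482, .fwd 20990, .fwd 19923],
   .loop none [.fwd 20991],
   .loop none [.bwd 15943, .fwd 20992, .fwd 19924],
   .loop none [.fwd 20993],
   .loop none [.fwd 15940, .fwd 20994, .fwd 19925],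
   .loop none [.fwd 20995],
   .loop none [.fwd 15939, .fwd 20996, .fwd 19926],
   .loop none [.fwd 20997],
   .loop none [.fwd 18952, .fwd 20998, .fwd 19927]]

theorem just83_len : just83.length = 250 := by decide +kernel

theorem just83_ok : cert.okFacts 20750 just83 = true := by decide +kernel


end CfsgLib.ThCent.DX
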