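import Cfsg.Agent.Lib.ThCent.DXData

/-!
Justifications of the side facts (generated data).
-/

namespace CfsgLib.ThCent.DX

open CfsgLib.PresCert

set_option maxRecDepth 100000

/-- justifications -/
noncomputable def just84 : List Cert.Just :=
  [.loop none [.fwd 20999],
   .loop none [.bwd 19928, .bwd 21000],
   .define,
   .define,
   .define,
   .loop (some (21, 4)) [.fwd 20608, .fwd 1504, .bwd 1444, .fwd 1499, .fwd 20606, .fwd 21002, .fwd 21003, .fwd 21004],
   .loop (some (3, 2)) [.bwd 20606, .bwd 8105, .bwd 13830],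
   .loop (some (13, 2)) [.bwd 20606, .bwd 8193, .bwd 1510],
   .loop (some (4, 2)) [.bwd 20606, .fwd 3431, .fwd 19739],
   .define,
   .define,
   .define,
   .define,
   .define,
   .define,
   .define,
   .define,
   .define,
   .define,
   .define,
   .define,
   .define,
   .define,
   .define,
   .define,
   .define,
   .define,
   .define,
   .define,
   .loop (some (22, 29)) [.bwd 20607, .bwd 20606, .bwd 8105, .fwd 8224, .fwd 1553, .fwd 1645, .fwd 7754, .fwd 7739, .fwd 13115, .bwd 15717, .fwd 18729, .fwd 21009, .fwd 21010, .fwd 21011, .fwd 21012, .fwd 21013, .fwd 21014, .fwd 21015, .fwd 21016, .fwd 21017, .fwd 21018, .fwd 21019, .fwd 21020, .fwd 21021, .fwd 21022, .fwd 21023, .fwd 21024, .fwd 21025, .fwd 21026, .fwd 21027, .fwd 21028],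
   .loop (some (3, 2)) [.bwd 20984, .bwd 8231, .fwd 17629],
   .loop (some (4, 2)) [.bwd 20984, .fwd 8159, .fwd 20245],
   .loop (some (13, 2)) [.bwd 20929, .fwd 20927, .bwd 8182, .bwd 20608],
   .loop none [.bwd 21032],
   .loop none [.fwd 20906, .bwd 21033],
   .define,
   .loop (some (3, 2)) [.fwd 20608, .bwd 7996, .fwd 13835],
   .loop (some (4, 2)) [.fwd 21029, .fwd 20608, .fwd 8119, .fwd 20189],
   .loop none [.bwd 21037],
   .loop none [.bwd 21029, .bwd 21038],
   .define,
   .define,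
   .define,
   .define,
   .define,
   .define,
   .define,
   .define,
   .define,
   .define,
   .define,
   .define,
   .define,
   .define,
   .define,
   .define,
   .define,
   .define,
   .define,
   .define,
   .define,
   .define,
   .define,
   .define,
   .loop (some (22, 28)) [.fwd 20901, .fwd 8249, .bwd 4785, .fwd 4774, .bwd 847, .bwd 785, .fwd 15763, .bwd 16303, .fwd 21041, .fwd 21042, .fwd 21043, .fwd 21044, .fwd 21045, .fwd 21046, .fwd 21047, .fwd 21048, .fwd 21049, .fwd 21050, .fwd 21051, .fwd 21052, .fwd 21053, .fwd 21054, .fwd 21055, .fwd 21056, .fwd 21057, .fwd 21058, .fwd 21059, .fwd 21060, .fwd 21061, .fwd 21062, .fwd 21063],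
   .loop (some (20, 5)) [.fwd 20971, .fwd 20972, .bwd 8255, .bwd 8221, .bwd 8222, .fwd 8255, .bwd 20972, .bwd 20971],
   .define,
   .define,
   .define,
   .define,
   .define,
   .define,
   .define,
   .define,
   .define,
   .define,
   .define,
   .define,
   .define,
   .define,
   .define,
   .define,
   .define,
   .define,
   .define,
   .define,
   .define,
   .define,
   .define,
   .define,
   .define,
   .define,
   .loop (some (22, 29)) [.bwd 20935, .fwd 17621, .fwd 8256, .fwd 8267, .fwd 17190, .fwd 21066, .fwd 21067, .fwd 21068, .fwd 21069, .fwd 21070, .fwd 21071, .fwd 21072, .fwd 21073, .fwd 21074, .fwd 21075, .fwd 21076, .fwd 21077, .fwd 21078, .fwd 21079, .fwd 21080, .fwd 21081, .fwd 21082, .fwd 21083, .fwd 21084, .fwd 21085, .fwd 21086, .fwd 21087, .fwd 21088, .fwd 21089, .fwd 21090, .fwd 21091],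
   .define,
   .loop (some (11, 2)) [.bwd 8255, .bwd 20941, .fwd 21093],
   .define,
   .loop (some (7, 2)) [.fwd 8245, .bwd 20903, .fwd 21095],
   .define,
   .define,
   .define,
   .define,
   .define,
   .define,
   .define,
   .define,
   .define,
   .define,
   .define,
   .define,
   .define,
   .define,
   .define,
   .define,
   .loop (some (22, 19)) [.bwd 8661, .bwd 8597, .fwd 8582, .bwd 3059, .bwd 2178, .bwd 2113, .bwd 2124, .bwd 8491, .fwd 8489, .fwd 4816, .bwd 8192, .bwd 1510, .bwd 8244, .bwd 8266, .fwd 17234, .fwd 21097, .fwd 21098, .fwd 21099, .fwd 21100, .fwd 21101, .fwd 21102, .fwd 21103, .fwd 21104, .fwd 21105, .fwd 21106, .fwd 21107, .fwd 21108, .fwd 21109, .fwd 21110, .fwd 21111, .fwd 21112],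
   .loop (some (15, 0)) [.fwd 20901, .fwd 8249, .fwd 8217, .bwd 8216],
   .define,
   .define,
   .define,
   .loop (some (21, 4)) [.bwd 13835, .fwd 1519, .bwd 1005, .fwd 1514, .bwd 13830, .fwd 21115, .fwd 21116, .fwd 21117],
   .define,
   .loop (some (1, 2)) [.fwd 13830, .fwd 17623, .fwd 21119],
   .loop (some (9, 2)) [.bwd 17623, .fwd 8261, .bwd 20230],
   .define,
   .define,
   .loop (some (20, 3)) [.fwd 19205, .bwd 16484, .bwd 15395, .bwd 8278, .fwd 8262, .bwd 20182, .fwd 21122, .fwd 21123],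
   .loop (some (5, 3)) [.fwd 20182, .bwd 1515, .fwd 17623, .fwd 20267],
   .loop none [.fwd 21125],
   .loop none [.bwd 20268, .bwd 21126],
   .loop none [.fwd 20267, .bwd 21126],
   .define,
   .define,
   .loop (some (20, 3)) [.fwd 19257, .bwd 16438, .bwd 15354, .bwd 8282, .fwd 8263, .bwd 20210, .fwd 21129, .fwd 21130],
   .loop (some (5, 3)) [.fwd 20210, .bwd 1516, .bwd 20182, .fwd 21127],
   .loop none [.fwd 21132],
   .loop none [.bwd 20269, .bwd 21133],
   .define,
   .define,
   .loop (some (21, 4)) [.fwd 13830, .fwd 1515, .fwd 1516, .fwd 1517, .bwd 1524, .bwd 20295, .fwd 21135, .fwd 21136],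
   .define,
   .define,
   .loop (some (20, 3)) [.bwd 18551, .bwd 16394, .bwd 15324, .bwd 8280, .fwd 8265, .bwd 20230, .fwd 21138, .fwd 21139],
   .loop (some (5, 3)) [.fwd 20230, .bwd 1517, .bwd 20210, .fwd 21134],
   .loop none [.fwd 21141],
   .loop none [.fwd 20274, .bwd 21142],
   .loop (some (1, 2)) [.fwd 20366, .fwd 1524, .bwd 20230, .fwd 21143],
   .loop none [.bwd 21144],
   .loop none [.bwd 20366, .bwd 21145],
   .loop none [.fwd 20365, .bwd 21145],
   .loop (some (15, 0)) [.bwd 8844, .bwd 8598, .fwd 17685, .fwd 17566],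
   .loop (some (21, 2)) [.fwd 19970, .bwd 17675, .bwd 17629, .fwd 1516, .fwd 1517, .fwd 1518, .fwd 13835, .fwd 20288],
   .define,
   .loop (some (1, 2)) [.bwd 13835, .bwd 20239, .fwd 21150],
   .loop (some (21, 5)) [.bwd 21135, .fwd 20295, .bwd 1523, .bwd 1522, .bwd 1521, .bwd 999, .bwd 7990, .fwd 20240, .fwd 20321],
   .loop none [.bwd 21152],
   .loop none [.bwd 20322, .fwd 21153, .fwd 21136],
   .loop none [.fwd 21154],
   .loop none [.bwd 21137, .bwd 21155],
   .loop (some (20, 3)) [.fwd 20064, .fwd 20065, .fwd 20066, .fwd 19847, .bwd 7886, .bwd 7845, .bwd 19974, .fwd 20563, .fwd 20558],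
   .loop none [.fwd 21157],
   .loop none [.fwd 14614, .fwd 21158, .bwd 20413],
   .loop none [.fwd 21159],
   .loop none [.fwd 20558, .bwd 21158],
   .loop none [.bwd 13548, .fwd 21160, .bwd 20412],
   .loop none [.fwd 21162],
   .loop none [.fwd 15055, .fwd 21163, .bwd 20411],
   .loop none [.fwd 21164],
   .loop none [.bwd 14635, .fwd 21165, .bwd 20410],
   .loop none [.fwd 21166],
   .loop none [.bwd 9946, .fwd 21167, .bwd 20409],
   .loop none [.fwd 21168],
   .loop none [.fwd 11515, .fwd 21169, .bwd 20408],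
   .loop none [.fwd 21170],
   .loop none [.bwd 6849, .fwd 21171, .bwd 20407],
   .loop none [.fwd 21172],
   .loop none [.fwd 20406, .bwd 21173],
   .loop (some (5, 2)) [.bwd 20272, .fwd 19974, .fwd 1522, .bwd 20320],
   .loop none [.fwd 21175],
   .loop none [.bwd 20320, .bwd 21176],
   .loop (some (8, 1)) [.fwd 20061, .bwd 8074, .bwd 20186],
   .define,
   .loop (some (20, 2)) [.fwd 20017, .fwd 20018, .fwd 20019, .fwd 20020, .bwd 17190, .bwd 8267, .bwd 21177, .fwd 21179],
   .define,
   .loop (some (14, 2)) [.fwd 20186, .fwd 1522, .bwd 20330, .fwd 21181],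
   .define,
   .loop (some (13, 2)) [.bwd 17501, .bwd 20330, .fwd 21183],
   .define,
   .define,
   .define,
   .define,
   .define,
   .define,
   .define,
   .define,
   .define,
   .define,
   .define,
   .define,
   .define,
   .define,
   .define,
   .define,
   .define,
   .define,
   .define,
   .define,
   .define,
   .define,
   .define,
   .define,
   .define,
   .define,
   .loop (some (22, 29)) [.bwd 20324, .bwd 17501, .bwd 8256, .fwd 8255, .bwd 20972, .fwd 21185, .fwd 21186, .fwd 21187, .fwd 21188, .fwd 21189, .fwd 21190, .fwd 21191, .fwd 21192, .fwd 21193, .fwd 21194, .fwd 21195, .fwd 21196, .fwd 21197, .fwd 21198, .fwd 21199, .fwd 21200, .fwd 21201, .fwd 21202, .fwd 21203, .fwd 21204, .fwd 21205, .fwd 21206, .fwd 21207, .fwd 21208, .fwd 21209, .fwd 21210],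
   .loop (some (11, 1)) [.fwd 17225, .bwd 8267, .bwd 20330],
   .loop (some (7, 1)) [.fwd 17240, .fwd 8266, .bwd 20295],
   .define,
   .loop (some (20, 2)) [.fwd 19983, .fwd 19984, .fwd 19985, .fwd 19986, .bwd 17234, .fwd 8266, .bwd 21146, .fwd 21214],
   .define,
   .define,
   .define,
   .define,
   .define,
   .define,
   .define,
   .define,
   .define,
   .define,
   .define,
   .define,
   .define,
   .define,
   .define,
   .define,
   .define,
   .define,
   .loop (some (22, 22)) [.bwd 4189, .fwd 4334, .bwd 2219, .bwd 2173, .bwd 8515, .bwd 8541, .fwd 17685, .fwd 17566, .bwd 1524, .fwd 8244, .bwd 8245, .fwd 9212, .bwd 5646, .fwd 21216, .fwd 21217, .fwd 21218, .fwd 21219, .fwd 21220, .fwd 21221, .fwd 21222, .fwd 21223, .fwd 21224, .fwd 21225, .fwd 21226, .fwd 21227, .fwd 21228, .fwd 21229, .fwd 21230, .fwd 21231, .fwd 21232, .fwd 21233],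
   .define,
   .define,
   .define,
   .define,
   .loop (some (19, 5)) [.fwd 3023, .bwd 20581, .bwd 20580, .fwd 21236, .fwd 21237, .fwd 21238],
   .loop (some (8, 1)) [.fwd 20278, .bwd 4722, .bwd 5281, .bwd 20581],
   .loop none [.fwd 21240],
   .loop none [.bwd 20581, .bwd 21241],
   .define,
   .define,
   .loop (some (18, 3)) [.bwd 20290, .bwd 20265, .fwd 20276, .fwd 21243, .fwd 21244],
   .loop (some (12, 2)) [.bwd 20276, .bwd 20283, .fwd 21129],
   .loop (some (4, 3)) [.bwd 20265, .bwd 7713, .fwd 13512, .bwd 21215],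
   .loop none [.fwd 21247],
   .loop none [.bwd 21215, .bwd 21248]]

theorem just84_len : just84.length = 250 := by decide +kernel

theorem just84_ok : cert.okFacts 21000 just84 = true := by decide +kernel

/-- justifications -/
noncomputable def just85 : List Cert.Just :=
  [.loop none [.bwd 20290, .fwd 21248, .bwd 21214],
   .loop none [.bwd 21250],
   .loop none [.bwd 20291, .bwd 21251],
   .loop none [.fwd 20290, .bwd 21251],
   .loop none [.fwd 21143, .fwd 21251, .bwd 21245],
   .loop none [.fwd 21254],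
   .loop none [.bwd 21138, .fwd 21255, .bwd 21244],
   .loop none [.fwd 21256],
   .loop none [.fwd 21243, .bwd 21257],
   .define,
   .define,
   .define,
   .define,
   .define,
   .define,
   .define,
   .define,
   .define,
   .define,
   .define,
   .define,
   .define,
   .define,
   .define,
   .define,
   .define,
   .define,
   .define,
   .define,
   .define,
   .define,
   .define,
   .loop (some (22, 28)) [.bwd 21252, .fwd 21253, .bwd 20265, .bwd 7866, .bwd 7712, .fwd 11050, .fwd 11451, .fwd 14459, .fwd 21259, .fwd 21260, .fwd 21261, .fwd 21262, .fwd 21263, .fwd 21264, .fwd 21265, .fwd 21266, .fwd 21267, .fwd 21268, .fwd 21269, .fwd 21270, .fwd 21271, .fwd 21272, .fwd 21273, .fwd 21274, .fwd 21275, .fwd 21276, .fwd 21277, .fwd 21278, .fwd 21279, .fwd 21280, .fwd 21281],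
   .loop (some (11, 1)) [.fwd 13882, .fwd 7713, .bwd 20283],
   .define,
   .define,
   .define,
   .loop (some (21, 4)) [.bwd 13771, .fwd 1543, .fwd 862, .fwd 1538, .fwd 13764, .fwd 21284, .fwd 21285, .fwd 21286],
   .define,
   .loop (some (1, 2)) [.bwd 13764, .fwd 13870, .fwd 21288],
   .define,
   .define,
   .loop (some (18, 2)) [.bwd 21097, .bwd 17234, .fwd 1547, .fwd 8280, .fwd 16391],
   .loop (some (15, 0)) [.bwd 18551, .bwd 16394, .bwd 15324, .bwd 8280],
   .define,
   .loop (some (18, 3)) [.fwd 20847, .bwd 13771, .fwd 7808, .fwd 16348, .fwd 21294],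
   .loop (some (21, 5)) [.bwd 21291, .fwd 17240, .bwd 1546, .bwd 1545, .bwd 1544, .bwd 946, .fwd 7993, .fwd 19941, .fwd 20014],
   .loop none [.bwd 21296],
   .loop none [.fwd 21291, .bwd 21297],
   .define,
   .loop (some (8, 2)) [.bwd 7886, .bwd 19870, .fwd 21299],
   .define,
   .define,
   .define,
   .define,
   .define,
   .define,
   .define,
   .define,
   .define,
   .define,
   .define,
   .define,
   .define,
   .define,
   .define,
   .define,
   .define,
   .define,
   .define,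
   .define,
   .define,
   .loop (some (22, 26)) [.fwd 14759, .fwd 14048, .fwd 12329, .fwd 12330, .fwd 1544, .fwd 7814, .bwd 7815, .bwd 17432, .bwd 18048, .bwd 5480, .fwd 21301, .fwd 21302, .fwd 21303, .fwd 21304, .fwd 21305, .fwd 21306, .fwd 21307, .fwd 21308, .fwd 21309, .fwd 21310, .fwd 21311, .fwd 21312, .fwd 21313, .fwd 21314, .fwd 21315, .fwd 21316, .fwd 21317, .fwd 21318, .fwd 21319, .fwd 21320, .fwd 21321],
   .loop (some (1, 2)) [.bwd 17200, .fwd 13879, .fwd 20093],
   .define,
   .loop (some (14, 2)) [.fwd 19870, .fwd 1545, .bwd 17225, .fwd 21324],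
   .define,
   .loop (some (12, 2)) [.bwd 17190, .bwd 17225, .fwd 21326],
   .define,
   .loop (some (20, 1)) [.fwd 20292, .fwd 20012, .fwd 20013, .fwd 17341, .fwd 17314, .bwd 7820, .bwd 8259, .bwd 8266, .bwd 13876],
   .loop none [.bwd 21329],
   .loop none [.fwd 14603, .fwd 21330, .bwd 21282],
   .loop none [.fwd 21331],
   .loop none [.fwd 21252, .bwd 21330],
   .loop none [.bwd 20292, .bwd 21330],
   .loop none [.bwd 13537, .fwd 21332, .bwd 21281],
   .loop none [.fwd 21335],
   .loop none [.fwd 18631, .fwd 21336, .bwd 21280],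
   .loop none [.fwd 21337],
   .loop none [.fwd 21279, .bwd 21338],
   .define,
   .loop (some (5, 2)) [.fwd 13876, .bwd 17240, .fwd 21340],
   .define,
   .define,
   .define,
   .define,
   .define,
   .define,
   .define,
   .define,
   .define,
   .define,
   .define,
   .define,
   .define,
   .define,
   .define,
   .define,
   .define,
   .define,
   .define,
   .define,
   .define,
   .define,
   .define,
   .loop (some (22, 26)) [.bwd 13696, .bwd 15325, .bwd 15324, .bwd 8280, .bwd 1547, .fwd 7805, .bwd 7806, .fwd 9300, .fwd 21342, .fwd 21343, .fwd 21344, .fwd 21345, .fwd 21346, .fwd 21347, .fwd 21348, .fwd 21349, .fwd 21350, .fwd 21351, .fwd 21352, .fwd 21353, .fwd 21354, .fwd 21355, .fwd 21356, .fwd 21357, .fwd 21358, .fwd 21359, .fwd 21360, .fwd 21361, .fwd 21362, .fwd 21363, .fwd 21364],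
   .define,
   .loop (some (18, 3)) [.bwd 19983, .bwd 13512, .bwd 17703, .fwd 20388, .fwd 21366],
   .define,
   .define,
   .define,
   .define,
   .define,
   .define,
   .define,
   .define,
   .define,
   .define,
   .define,
   .define,
   .define,
   .define,
   .define,
   .define,
   .define,
   .define,
   .loop (some (22, 28)) [.bwd 19984, .bwd 19983, .bwd 13512, .fwd 10970, .fwd 10971, .bwd 13811, .bwd 12374, .bwd 14459, .bwd 11109, .fwd 7347, .bwd 3441, .bwd 7358, .bwd 5105, .fwd 21368, .fwd 21369, .fwd 21370, .fwd 21371, .fwd 21372, .fwd 21373, .fwd 21374, .fwd 21375, .fwd 21376, .fwd 21377, .fwd 21378, .fwd 21379, .fwd 21380, .fwd 21381, .fwd 21382, .fwd 21383, .fwd 21384, .fwd 21385],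
   .define,
   .define,
   .define,
   .loop (some (1, 2)) [.bwd 16302, .bwd 16287, .fwd 20388],
   .loop (some (4, 1)) [.bwd 21041, .bwd 16302, .fwd 13566],
   .define,
   .define,
   .define,
   .define,
   .define,
   .define,
   .define,
   .define,
   .define,
   .define,
   .define,
   .define,
   .define,
   .define,
   .define,
   .define,
   .define,
   .define,
   .define,
   .define,
   .define,
   .define,
   .loop (some (22, 28)) [.bwd 20163, .bwd 17312, .bwd 16302, .bwd 7763, .fwd 7742, .fwd 750, .fwd 10116, .fwd 10979, .bwd 13740, .fwd 21392, .fwd 21393, .fwd 21394, .fwd 21395, .fwd 21396, .fwd 21397, .fwd 21398, .fwd 21399, .fwd 21400, .fwd 21401, .fwd 21402, .fwd 21403, .fwd 21404, .fwd 21405, .fwd 21406, .fwd 21407, .fwd 21408, .fwd 21409, .fwd 21410, .fwd 21411, .fwd 21412, .fwd 21413],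
   .define,
   .define,
   .loop (some (1, 2)) [.bwd 16348, .bwd 16335, .fwd 21416],
   .define,
   .define,
   .define,
   .define,
   .define,
   .define,
   .define,
   .define,
   .define,
   .define,
   .define,
   .define,
   .define,
   .define,
   .define,
   .define,
   .define,
   .define,
   .define,
   .define,
   .define,
   .define,
   .define,
   .define,
   .loop (some (22, 29)) [.bwd 21294, .bwd 16348, .fwd 7767, .fwd 7744, .fwd 10981, .fwd 15804, .fwd 18292, .fwd 21418, .fwd 21419, .fwd 21420, .fwd 21421, .fwd 21422, .fwd 21423, .fwd 21424, .fwd 21425, .fwd 21426, .fwd 21427, .fwd 21428, .fwd 21429, .fwd 21430, .fwd 21431, .fwd 21432, .fwd 21433, .fwd 21434, .fwd 21435, .fwd 21436, .fwd 21437, .fwd 21438, .fwd 21439, .fwd 21440, .fwd 21441],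
   .loop (some (20, 2)) [.fwd 21138, .fwd 21139, .fwd 21140, .bwd 18551, .bwd 16394, .bwd 15324, .bwd 16382, .fwd 17763],
   .define,
   .define,
   .loop (some (4, 2)) [.bwd 16391, .fwd 15324, .fwd 21445],
   .define,
   .define,
   .define,
   .define,
   .define,
   .define,
   .define,
   .define,
   .define,
   .define,
   .define,
   .define,
   .define,
   .define,
   .define,
   .define,
   .define,
   .define,
   .define,
   .define,
   .define,
   .define,
   .define,
   .loop (some (22, 29)) [.bwd 21292, .bwd 16391, .fwd 7770, .fwd 7745, .fwd 10982, .bwd 9982, .fwd 11765, .bwd 14571, .fwd 21447, .fwd 21448, .fwd 21449, .fwd 21450, .fwd 21451, .fwd 21452, .fwd 21453, .fwd 21454, .fwd 21455, .fwd 21456, .fwd 21457, .fwd 21458, .fwd 21459, .fwd 21460, .fwd 21461, .fwd 21462, .fwd 21463, .fwd 21464, .fwd 21465, .fwd 21466, .fwd 21467, .fwd 21468, .fwd 21469],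
   .define,
   .define,
   .loop (some (21, 4)) [.bwd 16302, .fwd 1584, .fwd 1585, .fwd 1586, .bwd 1595, .bwd 16708, .fwd 21471, .fwd 21472],
   .define,
   .define,
   .define,
   .define,
   .define,
   .define,
   .define,
   .define,
   .define,
   .define,
   .define,
   .define,
   .define,
   .define,
   .define,
   .define,
   .define,
   .define,
   .define,
   .define,
   .define,
   .define,
   .define,
   .loop (some (22, 28)) [.bwd 17992, .bwd 16702, .fwd 1595, .fwd 7773, .fwd 7748, .fwd 10985, .fwd 15899, .bwd 18282, .fwd 21474, .fwd 21475, .fwd 21476, .fwd 21477, .fwd 21478, .fwd 21479, .fwd 21480, .fwd 21481, .fwd 21482, .fwd 21483, .fwd 21484, .fwd 21485, .fwd 21486, .fwd 21487, .fwd 21488, .fwd 21489, .fwd 21490, .fwd 21491, .fwd 21492, .fwd 21493, .fwd 21494, .fwd 21495, .fwd 21496],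
   .define,
   .define]

theorem just85_len : just85.length = 250 := by decide +kernel

theorem just85_ok : cert.okFacts 21250 just85 = true := by decide +kernel

/-- justifications -/
noncomputable def just86 : List Cert.Just :=
  [.define,
   .loop (some (21, 3)) [.bwd 17757, .bwd 16348, .fwd 1585, .fwd 1586, .fwd 1587, .fwd 16481, .fwd 21499, .fwd 21500],
   .loop (some (20, 2)) [.fwd 21122, .fwd 21123, .fwd 21124, .fwd 19205, .bwd 16484, .bwd 15395, .bwd 16468, .bwd 18861],
   .define,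
   .define,
   .loop (some (4, 2)) [.bwd 16481, .fwd 15395, .fwd 21504],
   .define,
   .define,
   .define,
   .define,
   .define,
   .define,
   .define,
   .define,
   .define,
   .define,
   .define,
   .define,
   .define,
   .define,
   .define,
   .define,
   .define,
   .define,
   .define,
   .define,
   .define,
   .define,
   .define,
   .define,
   .loop (some (22, 29)) [.bwd 21290, .bwd 16481, .bwd 7753, .bwd 7738, .fwd 10987, .fwd 15937, .fwd 18289, .fwd 21506, .fwd 21507, .fwd 21508, .fwd 21509, .fwd 21510, .fwd 21511, .fwd 21512, .fwd 21513, .fwd 21514, .fwd 21515, .fwd 21516, .fwd 21517, .fwd 21518, .fwd 21519, .fwd 21520, .fwd 21521, .fwd 21522, .fwd 21523, .fwd 21524, .fwd 21525, .fwd 21526, .fwd 21527, .fwd 21528, .fwd 21529],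
   .define,
   .define,
   .loop (some (18, 3)) [.fwd 15215, .bwd 5987, .fwd 15476, .bwd 18519, .fwd 21532],
   .loop (some (13, 2)) [.bwd 5987, .bwd 15506, .fwd 21445],
   .define,
   .define,
   .define,
   .define,
   .define,
   .define,
   .define,
   .define,
   .define,
   .define,
   .define,
   .define,
   .define,
   .define,
   .define,
   .define,
   .define,
   .define,
   .define,
   .define,
   .loop (some (22, 28)) [.bwd 13358, .fwd 15215, .bwd 5987, .bwd 7273, .bwd 702, .bwd 9970, .fwd 13056, .fwd 18285, .fwd 18321, .fwd 19765, .fwd 19766, .fwd 21535, .fwd 21536, .fwd 21537, .fwd 21538, .fwd 21539, .fwd 21540, .fwd 21541, .fwd 21542, .fwd 21543, .fwd 21544, .fwd 21545, .fwd 21546, .fwd 21547, .fwd 21548, .fwd 21549, .fwd 21550, .fwd 21551, .fwd 21552, .fwd 21553, .fwd 21554],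
   .loop (some (21, 3)) [.fwd 21501, .fwd 10430, .fwd 1637, .fwd 1638, .fwd 1639, .fwd 1592, .fwd 1593, .fwd 16650],
   .define,
   .define,
   .define,
   .loop (some (19, 3)) [.fwd 16708, .bwd 1594, .bwd 1593, .fwd 21557, .fwd 21558, .fwd 21559],
   .define,
   .loop (some (21, 4)) [.bwd 21471, .fwd 16708, .bwd 1594, .bwd 1593, .bwd 1592, .bwd 1639, .fwd 10849, .fwd 21561],
   .define,
   .define,
   .loop (some (20, 4)) [.bwd 20572, .bwd 20571, .fwd 18529, .bwd 13718, .bwd 17747, .fwd 18749, .fwd 21563, .fwd 21564],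
   .define,
   .define,
   .define,
   .define,
   .define,
   .define,
   .define,
   .define,
   .define,
   .define,
   .define,
   .define,
   .define,
   .define,
   .define,
   .define,
   .define,
   .define,
   .define,
   .define,
   .define,
   .loop (some (22, 27)) [.fwd 13728, .bwd 14320, .bwd 13009, .fwd 1592, .fwd 7780, .fwd 7673, .bwd 11754, .bwd 9929, .bwd 11609, .bwd 6864, .fwd 21566, .fwd 21567, .fwd 21568, .fwd 21569, .fwd 21570, .fwd 21571, .fwd 21572, .fwd 21573, .fwd 21574, .fwd 21575, .fwd 21576, .fwd 21577, .fwd 21578, .fwd 21579, .fwd 21580, .fwd 21581, .fwd 21582, .fwd 21583, .fwd 21584, .fwd 21585, .fwd 21586],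
   .define,
   .define,
   .loop (some (15, 2)) [.fwd 10594, .bwd 10839, .fwd 21588, .fwd 21589],
   .define,
   .loop (some (9, 2)) [.fwd 17747, .bwd 11061, .fwd 21591],
   .define,
   .define,
   .define,
   .define,
   .define,
   .define,
   .define,
   .loop (some (20, 6)) [.bwd 17752, .fwd 17751, .bwd 17755, .fwd 21595, .fwd 21596, .fwd 21597, .fwd 21598, .fwd 21599],
   .define,
   .define,
   .loop (some (18, 4)) [.bwd 16650, .fwd 16642, .fwd 19056, .fwd 21601, .fwd 21602],
   .define,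
   .loop (some (12, 2)) [.bwd 16642, .bwd 16692, .fwd 21604],
   .define,
   .loop (some (13, 2)) [.bwd 16650, .bwd 16692, .fwd 21606],
   .define,
   .define,
   .define,
   .define,
   .define,
   .define,
   .define,
   .define,
   .define,
   .define,
   .define,
   .define,
   .define,
   .define,
   .define,
   .define,
   .define,
   .define,
   .define,
   .define,
   .define,
   .define,
   .define,
   .define,
   .define,
   .loop (some (22, 29)) [.fwd 21603, .bwd 16650, .bwd 7781, .bwd 7756, .fwd 15534, .fwd 16065, .bwd 19050, .fwd 21609, .fwd 21610, .fwd 21611, .fwd 21612, .fwd 21613, .fwd 21614, .fwd 21615, .fwd 21616, .fwd 21617, .fwd 21618, .fwd 21619, .fwd 21620, .fwd 21621, .fwd 21622, .fwd 21623, .fwd 21624, .fwd 21625, .fwd 21626, .fwd 21627, .fwd 21628, .fwd 21629, .fwd 21630, .fwd 21631, .fwd 21632],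
   .define,
   .loop (some (11, 2)) [.fwd 17751, .bwd 16692, .fwd 21634],
   .define,
   .define,
   .define,
   .loop (some (15, 3)) [.bwd 16642, .fwd 21636, .fwd 21637, .fwd 21638],
   .define,
   .define,
   .define,
   .define,
   .define,
   .define,
   .loop (some (20, 6)) [.bwd 17739, .fwd 17738, .bwd 17734, .fwd 21641, .fwd 21642, .fwd 21643, .fwd 21644, .fwd 21645],
   .loop (some (12, 2)) [.bwd 16702, .bwd 16748, .fwd 21294],
   .define,
   .loop (some (15, 1)) [.bwd 17161, .bwd 17992, .bwd 16702, .fwd 21648],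
   .define,
   .define,
   .loop (some (21, 4)) [.bwd 21444, .bwd 17731, .fwd 17730, .fwd 16857, .fwd 15749, .fwd 15750, .fwd 21650, .fwd 21651],
   .define,
   .define,
   .loop (some (18, 4)) [.bwd 15749, .bwd 13527, .fwd 21288, .fwd 21653, .fwd 21654],
   .loop (some (13, 2)) [.bwd 15749, .bwd 16889, .fwd 21444],
   .define,
   .define,
   .define,
   .define,
   .define,
   .define,
   .define,
   .define,
   .define,
   .define,
   .define,
   .define,
   .define,
   .define,
   .define,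
   .define,
   .define,
   .define,
   .define,
   .define,
   .define,
   .define,
   .define,
   .define,
   .define,
   .loop (some (22, 29)) [.fwd 21655, .bwd 15749, .bwd 13755, .fwd 13754, .bwd 12715, .fwd 18630, .fwd 21657, .fwd 21658, .fwd 21659, .fwd 21660, .fwd 21661, .fwd 21662, .fwd 21663, .fwd 21664, .fwd 21665, .fwd 21666, .fwd 21667, .fwd 21668, .fwd 21669, .fwd 21670, .fwd 21671, .fwd 21672, .fwd 21673, .fwd 21674, .fwd 21675, .fwd 21676, .fwd 21677, .fwd 21678, .fwd 21679, .fwd 21680, .fwd 21681],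
   .define,
   .loop (some (16, 3)) [.bwd 13923, .bwd 8293, .fwd 13889, .bwd 14576, .fwd 21683],
   .define,
   .define,
   .define,
   .loop (some (21, 4)) [.bwd 10849, .fwd 1639, .bwd 1591, .fwd 1634, .bwd 10562, .fwd 21685, .fwd 21686, .fwd 21687],
   .define,
   .loop (some (16, 3)) [.fwd 17804, .fwd 8295, .fwd 15316, .bwd 15048, .fwd 21689],
   .define,
   .loop (some (1, 2)) [.bwd 10877, .fwd 15316, .fwd 21691],
   .define,
   .loop (some (15, 1)) [.bwd 14811, .bwd 13904, .bwd 13890, .fwd 21693],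
   .define,
   .loop (some (16, 3)) [.bwd 16587, .fwd 8299, .fwd 17769, .fwd 17803, .fwd 21695],
   .loop (some (1, 1)) [.bwd 21591, .fwd 10430, .fwd 17769],
   .define,
   .loop (some (16, 3)) [.fwd 17809, .fwd 8301, .fwd 17775, .bwd 18614, .fwd 21698],
   .define,
   .define,
   .define,
   .loop (some (21, 4)) [.fwd 10562, .fwd 1635, .fwd 1636, .fwd 1637, .bwd 1648, .fwd 21700, .fwd 21701, .fwd 21702],
   .define,
   .loop (some (16, 3)) [.bwd 16560, .fwd 7779, .bwd 17782, .fwd 17793, .fwd 21704],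
   .define,
   .define,
   .define,
   .define,
   .define,
   .define,
   .loop (some (19, 5)) [.fwd 10093, .fwd 21707, .fwd 21708, .fwd 21709, .fwd 21710, .fwd 21711],
   .define,
   .define,
   .loop (some (21, 5)) [.fwd 21711, .fwd 21712, .fwd 10093, .fwd 7103, .bwd 10046, .fwd 16776, .fwd 21713, .fwd 21714],
   .loop (some (8, 1)) [.bwd 10071, .bwd 7102, .fwd 21707],
   .define,
   .loop (some (21, 4)) [.fwd 12476, .fwd 5979, .fwd 5980, .fwd 5981, .fwd 13006, .fwd 15467, .fwd 21608, .fwd 21717],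
   .define,
   .define,
   .define,
   .define,
   .define,
   .define,
   .define,
   .define,
   .define,
   .define,
   .define,
   .define,
   .define,
   .define,
   .define,
   .define,
   .loop (some (22, 28)) [.bwd 20571, .fwd 18529, .bwd 13006, .fwd 6005, .bwd 638, .bwd 575, .fwd 8333, .bwd 11429, .bwd 9927, .fwd 11419, .bwd 11418, .fwd 11382, .bwd 9762, .bwd 10325, .bwd 14483, .fwd 21719, .fwd 21720, .fwd 21721, .fwd 21722, .fwd 21723, .fwd 21724, .fwd 21725, .fwd 21726, .fwd 21727, .fwd 21728, .fwd 21729, .fwd 21730, .fwd 21731, .fwd 21732, .fwd 21733, .fwd 21734],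
   .loop (some (21, 5)) [.bwd 21701, .bwd 21700, .bwd 1647, .bwd 1646, .bwd 1645, .bwd 1588, .fwd 16481, .fwd 21499, .fwd 21593],
   .loop none [.bwd 21736],
   .loop none [.bwd 21594, .fwd 21737, .fwd 21702],
   .loop none [.fwd 21738],
   .loop none [.bwd 21703, .bwd 21739],
   .define,
   .loop (some (20, 4)) [.bwd 13359, .bwd 13358, .fwd 15215, .fwd 7788, .bwd 16859, .bwd 21655, .bwd 21682, .fwd 21741],
   .loop (some (12, 2)) [.fwd 16861, .bwd 16862, .fwd 21292],
   .define,
   .define,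
   .loop (some (15, 2)) [.fwd 16888, .fwd 16861, .fwd 21744, .fwd 21745],
   .define,
   .define,
   .define]

theorem just86_len : just86.length = 250 := by decide +kernel

theorem just86_ok : cert.okFacts 21500 just86 = true := by decide +kernel

/-- justifications -/
noncomputable def just87 : List Cert.Just :=
  [.define,
   .define,
   .define,
   .loop (some (20, 7)) [.bwd 8313, .fwd 17788, .fwd 21747, .fwd 21748, .fwd 21749, .fwd 21750, .fwd 21751, .fwd 21752],
   .define,
   .loop (some (2, 3)) [.fwd 8314, .fwd 13194, .fwd 21754],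
   .define,
   .define,
   .define,
   .define,
   .define,
   .define,
   .loop (some (11, 2)) [.bwd 8313, .fwd 21758, .fwd 21761],
   .define,
   .define,
   .define,
   .loop (some (15, 3)) [.fwd 21755, .fwd 21763, .fwd 21764, .fwd 21765],
   .define,
   .loop (some (10, 2)) [.bwd 8314, .fwd 21758, .fwd 21767],
   .define,
   .loop (some (16, 3)) [.fwd 17810, .fwd 8302, .bwd 17779, .bwd 18616, .fwd 21769],
   .define,
   .loop (some (7, 2)) [.fwd 8304, .fwd 21700, .fwd 21771],
   .define,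
   .define,
   .define,
   .define,
   .define,
   .loop (some (20, 6)) [.fwd 19546, .fwd 8304, .bwd 17779, .fwd 21773, .fwd 21774, .fwd 21775, .fwd 21776, .fwd 21777],
   .loop (some (8, 2)) [.bwd 10864, .bwd 1647, .bwd 21755],
   .define,
   .loop (some (6, 2)) [.fwd 8302, .fwd 21700, .fwd 21780],
   .define,
   .define,
   .define,
   .define,
   .define,
   .define,
   .define,
   .define,
   .define,
   .define,
   .define,
   .define,
   .define,
   .define,
   .define,
   .define,
   .define,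
   .define,
   .define,
   .define,
   .define,
   .loop (some (22, 27)) [.bwd 15263, .fwd 14585, .bwd 13895, .bwd 1648, .bwd 8302, .bwd 8321, .fwd 13238, .bwd 13971, .fwd 11392, .bwd 5922, .fwd 21782, .fwd 21783, .fwd 21784, .fwd 21785, .fwd 21786, .fwd 21787, .fwd 21788, .fwd 21789, .fwd 21790, .fwd 21791, .fwd 21792, .fwd 21793, .fwd 21794, .fwd 21795, .fwd 21796, .fwd 21797, .fwd 21798, .fwd 21799, .fwd 21800, .fwd 21801, .fwd 21802],
   .define,
   .define,
   .loop (some (15, 2)) [.fwd 10491, .bwd 10864, .fwd 21804, .fwd 21805],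
   .loop (some (9, 2)) [.fwd 17779, .bwd 11066, .bwd 21692],
   .define,
   .define,
   .define,
   .define,
   .define,
   .define,
   .define,
   .define,
   .define,
   .define,
   .define,
   .define,
   .define,
   .define,
   .define,
   .define,
   .define,
   .define,
   .define,
   .define,
   .define,
   .define,
   .define,
   .define,
   .define,
   .define,
   .loop (some (22, 28)) [.bwd 21563, .bwd 18749, .bwd 16552, .bwd 12728, .bwd 12707, .fwd 21808, .fwd 21809, .fwd 21810, .fwd 21811, .fwd 21812, .fwd 21813, .fwd 21814, .fwd 21815, .fwd 21816, .fwd 21817, .fwd 21818, .fwd 21819, .fwd 21820, .fwd 21821, .fwd 21822, .fwd 21823, .fwd 21824, .fwd 21825, .fwd 21826, .fwd 21827, .fwd 21828, .fwd 21829, .fwd 21830, .fwd 21831, .fwd 21832, .fwd 21833],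
   .define,
   .define,
   .loop (some (21, 4)) [.fwd 14664, .fwd 13496, .fwd 13497, .fwd 13498, .bwd 13915, .fwd 13916, .fwd 21835, .fwd 21836],
   .define,
   .define,
   .define,
   .define,
   .define,
   .define,
   .define,
   .define,
   .define,
   .define,
   .define,
   .define,
   .define,
   .define,
   .define,
   .define,
   .define,
   .define,
   .define,
   .define,
   .define,
   .define,
   .define,
   .loop (some (22, 26)) [.bwd 10558, .bwd 11664, .bwd 9771, .bwd 13914, .fwd 13915, .bwd 7674, .fwd 10965, .bwd 17352, .fwd 21838, .fwd 21839, .fwd 21840, .fwd 21841, .fwd 21842, .fwd 21843, .fwd 21844, .fwd 21845, .fwd 21846, .fwd 21847, .fwd 21848, .fwd 21849, .fwd 21850, .fwd 21851, .fwd 21852, .fwd 21853, .fwd 21854, .fwd 21855, .fwd 21856, .fwd 21857, .fwd 21858, .fwd 21859, .fwd 21860],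
   .define,
   .loop (some (1, 2)) [.fwd 11069, .fwd 13923, .fwd 21862],
   .define,
   .define,
   .define,
   .define,
   .define,
   .define,
   .define,
   .define,
   .define,
   .define,
   .define,
   .define,
   .define,
   .define,
   .define,
   .define,
   .define,
   .loop (some (22, 29)) [.bwd 9768, .fwd 11069, .bwd 8293, .bwd 8292, .bwd 6112, .fwd 6170, .bwd 8737, .fwd 9068, .bwd 11265, .bwd 11253, .fwd 18428, .bwd 18551, .bwd 16394, .fwd 21445, .fwd 21864, .fwd 21865, .fwd 21866, .fwd 21867, .fwd 21868, .fwd 21869, .fwd 21870, .fwd 21871, .fwd 21872, .fwd 21873, .fwd 21874, .fwd 21875, .fwd 21876, .fwd 21877, .fwd 21878, .fwd 21879, .fwd 21880],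
   .define,
   .loop (some (1, 2)) [.fwd 11070, .bwd 17804, .fwd 21882],
   .define,
   .define,
   .define,
   .define,
   .define,
   .define,
   .define,
   .define,
   .define,
   .define,
   .define,
   .define,
   .define,
   .define,
   .define,
   .define,
   .define,
   .define,
   .define,
   .define,
   .define,
   .define,
   .define,
   .define,
   .define,
   .loop (some (22, 29)) [.bwd 10246, .fwd 11070, .fwd 8295, .bwd 8294, .fwd 9578, .fwd 18570, .fwd 21884, .fwd 21885, .fwd 21886, .fwd 21887, .fwd 21888, .fwd 21889, .fwd 21890, .fwd 21891, .fwd 21892, .fwd 21893, .fwd 21894, .fwd 21895, .fwd 21896, .fwd 21897, .fwd 21898, .fwd 21899, .fwd 21900, .fwd 21901, .fwd 21902, .fwd 21903, .fwd 21904, .fwd 21905, .fwd 21906, .fwd 21907, .fwd 21908],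
   .define,
   .define,
   .define,
   .define,
   .define,
   .define,
   .define,
   .define,
   .define,
   .define,
   .define,
   .define,
   .define,
   .define,
   .define,
   .define,
   .define,
   .loop (some (22, 29)) [.bwd 10217, .bwd 11000, .fwd 8299, .bwd 8298, .fwd 9580, .bwd 6032, .bwd 11484, .fwd 12062, .fwd 11265, .bwd 6377, .fwd 7239, .bwd 7789, .fwd 14109, .fwd 21391, .fwd 21910, .fwd 21911, .fwd 21912, .fwd 21913, .fwd 21914, .fwd 21915, .fwd 21916, .fwd 21917, .fwd 21918, .fwd 21919, .fwd 21920, .fwd 21921, .fwd 21922, .fwd 21923, .fwd 21924, .fwd 21925, .fwd 21926],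
   .define,
   .loop (some (15, 1)) [.bwd 18816, .bwd 18647, .bwd 12853, .fwd 21928],
   .define,
   .define,
   .define,
   .define,
   .define,
   .define,
   .define,
   .define,
   .define,
   .define,
   .define,
   .define,
   .define,
   .define,
   .define,
   .define,
   .define,
   .define,
   .define,
   .define,
   .define,
   .define,
   .define,
   .define,
   .define,
   .loop (some (22, 29)) [.bwd 10188, .fwd 1685, .fwd 8301, .bwd 8300, .fwd 9581, .fwd 18550, .fwd 21930, .fwd 21931, .fwd 21932, .fwd 21933, .fwd 21934, .fwd 21935, .fwd 21936, .fwd 21937, .fwd 21938, .fwd 21939, .fwd 21940, .fwd 21941, .fwd 21942, .fwd 21943, .fwd 21944, .fwd 21945, .fwd 21946, .fwd 21947, .fwd 21948, .fwd 21949, .fwd 21950, .fwd 21951, .fwd 21952, .fwd 21953, .fwd 21954],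
   .define,
   .loop (some (15, 1)) [.bwd 19633, .bwd 18653, .bwd 12893, .fwd 21956],
   .define,
   .loop (some (1, 2)) [.fwd 11072, .fwd 16560, .fwd 21958],
   .define,
   .define,
   .define,
   .define,
   .define,
   .define,
   .define,
   .define,
   .define,
   .define,
   .define,
   .define,
   .define,
   .define,
   .define,
   .define,
   .define,
   .define,
   .define,
   .define,
   .define,
   .define,
   .define,
   .define,
   .define,
   .loop (some (22, 29)) [.bwd 10163, .fwd 11072, .fwd 7779, .fwd 8291, .fwd 9583, .fwd 18540, .fwd 21960, .fwd 21961, .fwd 21962, .fwd 21963, .fwd 21964, .fwd 21965, .fwd 21966, .fwd 21967, .fwd 21968, .fwd 21969, .fwd 21970, .fwd 21971, .fwd 21972, .fwd 21973, .fwd 21974, .fwd 21975, .fwd 21976, .fwd 21977, .fwd 21978, .fwd 21979, .fwd 21980, .fwd 21981, .fwd 21982, .fwd 21983, .fwd 21984],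
   .define,
   .loop (some (15, 1)) [.bwd 18814, .bwd 18663, .bwd 12933, .fwd 21986],
   .define,
   .loop (some (20, 5)) [.fwd 15743, .bwd 13115, .bwd 7739, .bwd 15980, .bwd 19103, .fwd 15685, .fwd 15686, .fwd 21988],
   .define,
   .define,
   .define,
   .define,
   .define,
   .define,
   .define,
   .define,
   .define,
   .define]

theorem just87_len : just87.length = 250 := by decide +kernel

theorem just87_ok : cert.okFacts 21750 just87 = true := by decide +kernel

/-- justifications -/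
noncomputable def just88 : List Cert.Just :=
  [.define,
   .define,
   .define,
   .define,
   .define,
   .define,
   .define,
   .define,
   .define,
   .define,
   .loop (some (22, 24)) [.bwd 21301, .bwd 20869, .bwd 19739, .fwd 7840, .fwd 7794, .fwd 858, .fwd 1682, .bwd 7754, .bwd 7788, .bwd 15215, .bwd 21533, .fwd 21990, .fwd 21991, .fwd 21992, .fwd 21993, .fwd 21994, .fwd 21995, .fwd 21996, .fwd 21997, .fwd 21998, .fwd 21999, .fwd 22000, .fwd 22001, .fwd 22002, .fwd 22003, .fwd 22004, .fwd 22005, .fwd 22006, .fwd 22007, .fwd 22008, .fwd 22009],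
   .define,
   .define,
   .loop (some (15, 2)) [.fwd 16008, .bwd 13123, .fwd 22011, .fwd 22012],
   .define,
   .define,
   .define,
   .define,
   .define,
   .define,
   .loop (some (20, 6)) [.bwd 13175, .bwd 8322, .fwd 17813, .fwd 22015, .fwd 22016, .fwd 22017, .fwd 22018, .fwd 22019],
   .define,
   .define,
   .loop (some (18, 4)) [.bwd 15974, .fwd 13194, .fwd 13195, .fwd 22021, .fwd 22022],
   .define,
   .loop (some (12, 2)) [.bwd 13194, .bwd 21768, .fwd 22024],
   .define,
   .define,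
   .define,
   .define,
   .define,
   .loop (some (15, 3)) [.bwd 13194, .fwd 22028, .fwd 22029, .fwd 22030],
   .define,
   .loop (some (9, 2)) [.bwd 17813, .bwd 21768, .fwd 22032],
   .define,
   .define,
   .define,
   .define,
   .loop (some (20, 6)) [.bwd 13238, .fwd 8321, .bwd 17810, .fwd 18276, .fwd 22034, .fwd 22035, .fwd 22036, .fwd 22037],
   .define,
   .loop (some (5, 2)) [.fwd 17810, .bwd 21781, .fwd 22039],
   .define,
   .define,
   .define,
   .define,
   .define,
   .define,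
   .define,
   .define,
   .define,
   .define,
   .define,
   .define,
   .define,
   .define,
   .define,
   .define,
   .define,
   .define,
   .define,
   .define,
   .define,
   .define,
   .define,
   .loop (some (22, 27)) [.bwd 18854, .bwd 18653, .bwd 12893, .bwd 1685, .fwd 8302, .bwd 8304, .bwd 19546, .bwd 16443, .fwd 22041, .fwd 22042, .fwd 22043, .fwd 22044, .fwd 22045, .fwd 22046, .fwd 22047, .fwd 22048, .fwd 22049, .fwd 22050, .fwd 22051, .fwd 22052, .fwd 22053, .fwd 22054, .fwd 22055, .fwd 22056, .fwd 22057, .fwd 22058, .fwd 22059, .fwd 22060, .fwd 22061, .fwd 22062, .fwd 22063],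
   .define,
   .define,
   .loop (some (15, 2)) [.fwd 21955, .bwd 10188, .fwd 22065, .fwd 22066],
   .define,
   .loop (some (6, 2)) [.fwd 21712, .bwd 11008, .bwd 16561, .bwd 21705],
   .loop none [.bwd 22069],
   .loop none [.bwd 21712, .bwd 22070],
   .loop none [.fwd 21711, .bwd 22070],
   .define,
   .define,
   .define,
   .define,
   .define,
   .define,
   .define,
   .define,
   .define,
   .loop (some (10, 2)) [.bwd 11008, .bwd 16588, .bwd 21696],
   .define,
   .define,
   .loop (some (21, 4)) [.bwd 12894, .fwd 13935, .fwd 13929, .fwd 13909, .fwd 12761, .fwd 13401, .fwd 22083, .fwd 22084],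
   .define,
   .define,
   .define,
   .define,
   .define,
   .define,
   .define,
   .define,
   .define,
   .define,
   .define,
   .define,
   .define,
   .define,
   .define,
   .define,
   .define,
   .define,
   .define,
   .define,
   .define,
   .define,
   .define,
   .define,
   .loop (some (22, 28)) [.bwd 18264, .bwd 13924, .bwd 12761, .fwd 7674, .bwd 10967, .bwd 13333, .fwd 13582, .fwd 22086, .fwd 22087, .fwd 22088, .fwd 22089, .fwd 22090, .fwd 22091, .fwd 22092, .fwd 22093, .fwd 22094, .fwd 22095, .fwd 22096, .fwd 22097, .fwd 22098, .fwd 22099, .fwd 22100, .fwd 22101, .fwd 22102, .fwd 22103, .fwd 22104, .fwd 22105, .fwd 22106, .fwd 22107, .fwd 22108, .fwd 22109],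
   .define,
   .define,
   .define,
   .define,
   .define,
   .loop (some (19, 5)) [.fwd 9725, .fwd 22111, .fwd 22112, .fwd 22113, .fwd 22114, .fwd 22115],
   .define,
   .loop (some (1, 2)) [.fwd 10923, .bwd 13952, .fwd 22117],
   .define,
   .define,
   .define,
   .define,
   .define,
   .define,
   .define,
   .define,
   .define,
   .define,
   .define,
   .define,
   .define,
   .define,
   .define,
   .define,
   .define,
   .define,
   .define,
   .define,
   .loop (some (22, 26)) [.bwd 12608, .bwd 14499, .bwd 9811, .bwd 11648, .fwd 10923, .fwd 7226, .bwd 10407, .bwd 10908, .fwd 6189, .fwd 8737, .bwd 14130, .fwd 22119, .fwd 22120, .fwd 22121, .fwd 22122, .fwd 22123, .fwd 22124, .fwd 22125, .fwd 22126, .fwd 22127, .fwd 22128, .fwd 22129, .fwd 22130, .fwd 22131, .fwd 22132, .fwd 22133, .fwd 22134, .fwd 22135, .fwd 22136, .fwd 22137, .fwd 22138],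
   .define,
   .define,
   .loop (some (1, 2)) [.bwd 10932, .bwd 12793, .fwd 22141],
   .define,
   .loop (some (18, 4)) [.bwd 10932, .fwd 8323, .fwd 10872, .bwd 12149, .fwd 22143],
   .define,
   .define,
   .define,
   .define,
   .define,
   .define,
   .define,
   .define,
   .define,
   .define,
   .define,
   .define,
   .define,
   .define,
   .define,
   .define,
   .define,
   .define,
   .define,
   .define,
   .define,
   .define,
   .define,
   .define,
   .define,
   .define,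
   .loop (some (22, 29)) [.fwd 22144, .bwd 10932, .fwd 7575, .bwd 10575, .bwd 10574, .fwd 22145, .fwd 22146, .fwd 22147, .fwd 22148, .fwd 22149, .fwd 22150, .fwd 22151, .fwd 22152, .fwd 22153, .fwd 22154, .fwd 22155, .fwd 22156, .fwd 22157, .fwd 22158, .fwd 22159, .fwd 22160, .fwd 22161, .fwd 22162, .fwd 22163, .fwd 22164, .fwd 22165, .fwd 22166, .fwd 22167, .fwd 22168, .fwd 22169, .fwd 22170],
   .define,
   .loop (some (20, 3)) [.fwd 21929, .bwd 18816, .bwd 18647, .bwd 12853, .bwd 8317, .bwd 12838, .bwd 14848, .fwd 22172],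
   .define,
   .define,
   .define,
   .define,
   .define,
   .define,
   .define,
   .define,
   .define,
   .define,
   .define,
   .define,
   .define,
   .define,
   .define,
   .define,
   .define,
   .define,
   .define,
   .define,
   .define,
   .define,
   .loop (some (22, 28)) [.bwd 10380, .bwd 11962, .bwd 10938, .fwd 7577, .bwd 10543, .bwd 10542, .fwd 11482, .fwd 11484, .bwd 14342, .fwd 22174, .fwd 22175, .fwd 22176, .fwd 22177, .fwd 22178, .fwd 22179, .fwd 22180, .fwd 22181, .fwd 22182, .fwd 22183, .fwd 22184, .fwd 22185, .fwd 22186, .fwd 22187, .fwd 22188, .fwd 22189, .fwd 22190, .fwd 22191, .fwd 22192, .fwd 22193, .fwd 22194, .fwd 22195],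
   .define,
   .loop (some (20, 3)) [.fwd 21957, .bwd 19633, .bwd 18653, .bwd 12893, .bwd 8320, .bwd 12884, .bwd 14025, .fwd 22197],
   .define,
   .define,
   .define,
   .define,
   .define,
   .define,
   .define,
   .define,
   .define,
   .define,
   .define,
   .define,
   .define,
   .define,
   .define,
   .define,
   .define,
   .define,
   .define,
   .define,
   .define,
   .define,
   .define,
   .define,
   .define,
   .loop (some (22, 28)) [.fwd 22038, .bwd 13238, .fwd 1706, .fwd 7579, .bwd 10506, .bwd 10505, .fwd 22199, .fwd 22200, .fwd 22201, .fwd 22202, .fwd 22203, .fwd 22204, .fwd 22205, .fwd 22206, .fwd 22207, .fwd 22208, .fwd 22209, .fwd 22210, .fwd 22211, .fwd 22212, .fwd 22213, .fwd 22214, .fwd 22215, .fwd 22216, .fwd 22217, .fwd 22218, .fwd 22219, .fwd 22220, .fwd 22221, .fwd 22222, .fwd 22223],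
   .define,
   .loop (some (20, 3)) [.fwd 21987, .bwd 18814, .bwd 18663, .bwd 12933, .bwd 7671, .bwd 12924, .bwd 14847, .fwd 22225],
   .define,
   .define,
   .loop (some (18, 4)) [.bwd 10950, .fwd 7582, .fwd 10844, .fwd 22227, .fwd 22228],
   .define,
   .define,
   .define,
   .define,
   .define,
   .define,
   .define,
   .define,
   .define,
   .define,
   .define,
   .define,
   .define,
   .define,
   .define,
   .define,
   .define,
   .define,
   .define,
   .define]

theorem just88_len : just88.length = 250 := by decide +kernel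

theorem just88_ok : cert.okFacts 22000 just88 = true := by decide +kernel

/-- justifications -/
noncomputable def just89 : List Cert.Just :=
  [.define,
   .define,
   .define,
   .define,
   .define,
   .define,
   .loop (some (22, 29)) [.fwd 22229, .bwd 10950, .bwd 7387, .bwd 10474, .bwd 10473, .fwd 22230, .fwd 22231, .fwd 22232, .fwd 22233, .fwd 22234, .fwd 22235, .fwd 22236, .fwd 22237, .fwd 22238, .fwd 22239, .fwd 22240, .fwd 22241, .fwd 22242, .fwd 22243, .fwd 22244, .fwd 22245, .fwd 22246, .fwd 22247, .fwd 22248, .fwd 22249, .fwd 22250, .fwd 22251, .fwd 22252, .fwd 22253, .fwd 22254, .fwd 22255],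
   .define,
   .loop (some (19, 3)) [.fwd 13242, .bwd 1705, .bwd 1704, .bwd 15796, .bwd 15795, .fwd 22257],
   .loop (some (20, 4)) [.fwd 22012, .fwd 22013, .fwd 16008, .bwd 13123, .fwd 7739, .bwd 13743, .bwd 18485, .fwd 12106, .fwd 12107],
   .loop none [.bwd 22259],
   .loop none [.bwd 22012, .bwd 22260],
   .loop none [.fwd 22011, .bwd 22260],
   .define,
   .define,
   .define,
   .define,
   .define,
   .define,
   .define,
   .define,
   .define,
   .define,
   .define,
   .define,
   .define,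
   .define,
   .define,
   .define,
   .define,
   .define,
   .define,
   .define,
   .define,
   .define,
   .loop (some (22, 26)) [.bwd 17275, .fwd 11041, .fwd 11020, .fwd 9985, .fwd 1703, .fwd 7666, .bwd 10957, .bwd 13114, .fwd 14750, .fwd 22263, .fwd 22264, .fwd 22265, .fwd 22266, .fwd 22267, .fwd 22268, .fwd 22269, .fwd 22270, .fwd 22271, .fwd 22272, .fwd 22273, .fwd 22274, .fwd 22275, .fwd 22276, .fwd 22277, .fwd 22278, .fwd 22279, .fwd 22280, .fwd 22281, .fwd 22282, .fwd 22283, .fwd 22284],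
   .loop (some (15, 0)) [.fwd 21988, .fwd 21989, .fwd 15743, .bwd 13115],
   .define,
   .loop (some (21, 5)) [.fwd 22258, .fwd 13242, .bwd 1705, .fwd 13182, .fwd 15707, .bwd 17830, .fwd 16016, .fwd 15886],
   .define,
   .define,
   .loop (some (20, 3)) [.fwd 22029, .fwd 22030, .fwd 22031, .bwd 13194, .fwd 8322, .bwd 13975, .fwd 22289, .fwd 22290],
   .define,
   .define,
   .loop (some (18, 4)) [.bwd 13182, .fwd 13175, .fwd 21759, .fwd 22292, .fwd 22293],
   .define,
   .loop (some (14, 2)) [.fwd 15796, .fwd 1704, .bwd 13224, .fwd 22295],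
   .define,
   .define,
   .define,
   .define,
   .define,
   .define,
   .define,
   .define,
   .define,
   .define,
   .define,
   .define,
   .define,
   .define,
   .define,
   .define,
   .define,
   .define,
   .define,
   .define,
   .define,
   .define,
   .define,
   .define,
   .define,
   .define,
   .loop (some (22, 29)) [.fwd 22294, .bwd 13182, .bwd 7667, .fwd 10959, .bwd 13174, .fwd 22297, .fwd 22298, .fwd 22299, .fwd 22300, .fwd 22301, .fwd 22302, .fwd 22303, .fwd 22304, .fwd 22305, .fwd 22306, .fwd 22307, .fwd 22308, .fwd 22309, .fwd 22310, .fwd 22311, .fwd 22312, .fwd 22313, .fwd 22314, .fwd 22315, .fwd 22316, .fwd 22317, .fwd 22318, .fwd 22319, .fwd 22320, .fwd 22321, .fwd 22322],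
   .loop (some (15, 0)) [.fwd 22018, .fwd 22019, .fwd 22020, .bwd 13175],
   .define,
   .loop (some (9, 2)) [.fwd 13975, .bwd 13224, .fwd 22325],
   .define,
   .define,
   .loop (some (20, 3)) [.fwd 22066, .fwd 22067, .fwd 21955, .bwd 10188, .bwd 8321, .bwd 13970, .fwd 22327, .fwd 22328],
   .define,
   .loop (some (12, 2)) [.bwd 13238, .bwd 10962, .bwd 22144],
   .define,
   .define,
   .define,
   .define,
   .define,
   .define,
   .define,
   .define,
   .define,
   .define,
   .define,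
   .define,
   .define,
   .define,
   .define,
   .define,
   .define,
   .define,
   .define,
   .define,
   .define,
   .define,
   .loop (some (22, 25)) [.fwd 18009, .bwd 10187, .fwd 9452, .bwd 9566, .bwd 8325, .bwd 1706, .fwd 7580, .bwd 10947, .bwd 13237, .fwd 22332, .fwd 22333, .fwd 22334, .fwd 22335, .fwd 22336, .fwd 22337, .fwd 22338, .fwd 22339, .fwd 22340, .fwd 22341, .fwd 22342, .fwd 22343, .fwd 22344, .fwd 22345, .fwd 22346, .fwd 22347, .fwd 22348, .fwd 22349, .fwd 22350, .fwd 22351, .fwd 22352, .fwd 22353],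
   .loop (some (15, 0)) [.fwd 22036, .fwd 22037, .fwd 22038, .bwd 13238],
   .define,
   .define,
   .define,
   .define,
   .loop (some (19, 5)) [.fwd 10271, .fwd 14437, .fwd 22356, .fwd 22357, .fwd 22358, .fwd 22359],
   .define,
   .loop (some (14, 2)) [.bwd 22356, .bwd 14437, .bwd 7174, .fwd 14437],
   .define,
   .loop (some (21, 4)) [.bwd 17829, .bwd 13967, .fwd 13966, .fwd 13349, .fwd 13351, .fwd 15460, .fwd 16063, .fwd 22363],
   .define,
   .define,
   .loop (some (18, 3)) [.bwd 16017, .bwd 13351, .bwd 13984, .fwd 22365, .fwd 22366],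
   .define,
   .define,
   .define,
   .define,
   .define,
   .define,
   .define,
   .define,
   .define,
   .define,
   .define,
   .loop (some (1, 2)) [.fwd 11430, .bwd 12224, .fwd 22365],
   .loop (some (15, 0)) [.bwd 18663, .bwd 12933, .bwd 7671, .fwd 7582],
   .loop (some (15, 0)) [.bwd 18653, .bwd 12893, .bwd 8320, .fwd 8325],
   .loop (some (15, 0)) [.bwd 18647, .bwd 12853, .bwd 8317, .fwd 8327],
   .loop (some (5, 1)) [.fwd 22360, .bwd 9726, .bwd 7177],
   .loop (some (12, 2)) [.bwd 12445, .bwd 10889, .fwd 22227],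
   .loop (some (7, 2)) [.fwd 22360, .bwd 10882, .bwd 12586, .fwd 22140],
   .loop none [.bwd 22385],
   .loop none [.fwd 22383, .bwd 22386],
   .loop (some (5, 1)) [.fwd 22116, .bwd 9724, .bwd 6911],
   .loop (some (1, 2)) [.fwd 5601, .fwd 9724, .fwd 22361],
   .loop (some (20, 4)) [.bwd 4573, .bwd 4572, .fwd 11103, .fwd 10277, .bwd 12588, .bwd 19604, .fwd 16789, .fwd 16790],
   .loop (some (7, 2)) [.fwd 22116, .bwd 11027, .bwd 17348, .bwd 21987],
   .loop none [.bwd 22391],
   .loop none [.fwd 22388, .bwd 22392],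
   .loop none [.bwd 22116, .bwd 22392],
   .loop none [.fwd 22115, .bwd 22392],
   .loop (some (11, 2)) [.bwd 11027, .bwd 17853, .bwd 21929],
   .loop (some (1, 2)) [.fwd 8384, .fwd 8381, .fwd 19796],
   .loop (some (15, 0)) [.fwd 20542, .bwd 15060, .bwd 14057, .bwd 8401],
   .loop (some (15, 0)) [.fwd 20548, .bwd 15058, .bwd 14411, .bwd 8390],
   .loop (some (18, 4)) [.bwd 12346, .bwd 12292, .fwd 12099, .fwd 12100, .fwd 20870, .fwd 20871],
   .loop none [.fwd 22400],
   .loop none [.bwd 20872, .bwd 22401],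
   .loop (some (20, 4)) [.fwd 20752, .bwd 2219, .bwd 2173, .fwd 8507, .bwd 5359, .fwd 4532, .fwd 4530, .fwd 5390],
   .loop (some (15, 0)) [.fwd 22403, .fwd 20752, .bwd 2219, .bwd 2173],
   .loop (some (5, 1)) [.fwd 20670, .bwd 2228, .bwd 2212],
   .loop (some (4, 2)) [.bwd 20647, .bwd 2291, .fwd 2219, .fwd 20705],
   .loop none [.fwd 22406],
   .loop none [.fwd 20705, .bwd 22407],
   .loop (some (5, 1)) [.fwd 21239, .bwd 3022, .bwd 3011],
   .loop (some (1, 2)) [.bwd 3059, .fwd 3022, .fwd 20579],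
   .loop (some (5, 3)) [.bwd 2209, .bwd 14777, .fwd 20667],
   .loop (some (5, 3)) [.bwd 14070, .bwd 2210, .bwd 22411, .fwd 20668],
   .loop none [.fwd 22412],
   .loop none [.bwd 12130, .fwd 22413, .bwd 20674],
   .loop none [.fwd 22414],
   .loop none [.fwd 20668, .bwd 22413],
   .loop none [.fwd 20673, .bwd 22415],
   .loop (some (16, 1)) [.bwd 11465, .fwd 19121, .fwd 19164, .bwd 8559, .fwd 22405],
   .loop (some (4, 1)) [.bwd 20629, .bwd 17583, .fwd 8557],
   .loop (some (2, 2)) [.fwd 20752, .bwd 4334, .bwd 20741],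
   .loop (some (5, 1)) [.fwd 20747, .bwd 4347, .bwd 4342],
   .loop (some (3, 2)) [.fwd 22408, .bwd 4334, .fwd 4189],
   .loop (some (7, 1)) [.fwd 20704, .bwd 2289, .bwd 2281],
   .loop (some (1, 2)) [.bwd 2222, .fwd 2302, .fwd 20671],
   .loop (some (5, 1)) [.bwd 20672, .fwd 22424, .fwd 2223],
   .loop (some (7, 1)) [.fwd 20747, .bwd 8125, .bwd 20670],
   .loop (some (14, 0)) [.bwd 22416, .fwd 14069, .bwd 8126, .fwd 4045],
   .loop (some (12, 1)) [.bwd 9616, .fwd 6612, .fwd 22427],
   .loop (some (10, 1)) [.bwd 9053, .fwd 3607, .fwd 22427],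
   .loop (some (7, 3)) [.bwd 2276, .fwd 2239, .fwd 20699],
   .loop (some (7, 3)) [.bwd 2277, .bwd 22430, .fwd 20700],
   .loop (some (7, 3)) [.bwd 2278, .bwd 22431, .fwd 20701],
   .loop (some (7, 3)) [.bwd 2279, .bwd 22432, .fwd 20702],
   .loop (some (4, 2)) [.fwd 2294, .bwd 22433, .bwd 20708],
   .loop (some (17, 4)) [.bwd 22423, .fwd 8588, .fwd 8626, .fwd 8640, .fwd 8670],
   .loop (some (1, 2)) [.bwd 4343, .bwd 3727, .fwd 20748],
   .loop (some (3, 2)) [.bwd 20671, .bwd 3654, .fwd 3596],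
   .loop (some (6, 1)) [.fwd 20604, .bwd 7416, .bwd 12629],
   .loop (some (20, 4)) [.fwd 20495, .bwd 2440, .bwd 2378, .fwd 8628, .bwd 14083, .fwd 12207, .fwd 7280, .bwd 3652],
   .loop (some (8, 1)) [.fwd 20604, .bwd 2335, .fwd 2316],
   .loop (some (8, 1)) [.fwd 20603, .bwd 22440, .fwd 2317],
   .loop (some (2, 2)) [.bwd 22441, .fwd 8607, .fwd 14074],
   .loop (some (8, 1)) [.fwd 20602, .bwd 22441, .fwd 2318],
   .loop (some (17, 2)) [.fwd 8817, .fwd 8656, .fwd 8634, .fwd 8610, .bwd 22433],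
   .loop (some (18, 4)) [.bwd 20153, .bwd 7282, .bwd 14376, .fwd 14385, .bwd 12206],
   .loop (some (7, 1)) [.fwd 6443, .fwd 6449, .bwd 20604],
   .loop (some (12, 0)) [.bwd 22443, .fwd 8629, .fwd 2335],
   .loop (some (11, 1)) [.bwd 9610, .fwd 6449, .fwd 22447],
   .loop (some (20, 6)) [.bwd 22441, .bwd 8631, .bwd 14103, .bwd 14348, .bwd 14356, .bwd 14365, .fwd 9595, .fwd 9604],
   .loop (some (15, 0)) [.bwd 22446, .bwd 22440, .bwd 8630, .fwd 8647],
   .loop (some (2, 2)) [.fwd 20495, .fwd 8638, .bwd 20484],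
   .loop (some (5, 1)) [.fwd 20479, .bwd 2774, .bwd 2766],
   .loop (some (1, 2)) [.bwd 2538, .fwd 2774, .fwd 20468],
   .loop (some (15, 0)) [.bwd 14564, .bwd 15389, .bwd 18210, .bwd 14121],
   .loop (some (1, 2)) [.bwd 2767, .fwd 2548, .fwd 20480],
   .loop (some (5, 3)) [.bwd 2530, .bwd 6519, .fwd 20463],
   .loop (some (5, 3)) [.fwd 12033, .bwd 2531, .bwd 22456, .fwd 20464],
   .loop none [.fwd 22457],
   .loop none [.bwd 20465, .bwd 22458],
   .loop none [.fwd 20464, .bwd 22458],
   .loop none [.fwd 20473, .bwd 22458],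
   .loop (some (5, 3)) [.bwd 2532, .bwd 12033, .fwd 22459],
   .loop (some (9, 2)) [.fwd 22462, .fwd 8745, .fwd 11485],
   .loop (some (5, 3)) [.bwd 2533, .bwd 22462, .fwd 20466],
   .loop (some (1, 2)) [.fwd 2541, .bwd 22464, .bwd 20471],
   .loop (some (9, 2)) [.fwd 22464, .bwd 8730, .bwd 12033],
   .loop (some (5, 1)) [.fwd 20736, .bwd 2606, .bwd 2590],
   .loop (some (5, 1)) [.bwd 20469, .fwd 22453, .fwd 2539],
   .loop (some (16, 1)) [.bwd 14746, .bwd 11486, .bwd 8735, .fwd 8736, .fwd 22468],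
   .loop (some (16, 1)) [.fwd 14708, .fwd 11484, .fwd 8725, .bwd 8727, .bwd 22465],
   .loop (some (7, 1)) [.fwd 20736, .bwd 8067, .bwd 11261],
   .loop (some (2, 2)) [.fwd 20462, .bwd 7294, .bwd 10613],
   .loop (some (3, 2)) [.bwd 20480, .bwd 7294, .fwd 20491],
   .loop (some (0, 2)) [.bwd 12008, .fwd 22463],
   .loop (some (10, 1)) [.fwd 11240, .fwd 7294, .bwd 22474],
   .loop (some (5, 1)) [.fwd 20460, .bwd 12666, .bwd 12659],
   .loop (some (5, 3)) [.bwd 2585, .bwd 3952, .fwd 20731],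
   .loop (some (5, 3)) [.bwd 2586, .bwd 22477, .fwd 20732],
   .loop (some (5, 3)) [.bwd 2587, .bwd 22478, .fwd 20733],
   .loop (some (9, 2)) [.fwd 22479, .bwd 8746, .fwd 22467],
   .loop (some (5, 3)) [.bwd 2588, .bwd 22479, .fwd 20734],
   .loop (some (1, 2)) [.fwd 2600, .bwd 22481, .bwd 20740],
   .loop (some (9, 2)) [.fwd 22481, .bwd 8749, .bwd 22478],
   .loop (some (16, 1)) [.bwd 22421, .fwd 8585, .bwd 8770, .bwd 8752, .fwd 22467],
   .loop (some (9, 2)) [.bwd 22467, .bwd 8750, .fwd 2606],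
   .loop (some (20, 2)) [.fwd 4182, .bwd 3838, .bwd 4321, .fwd 8813, .fwd 2820, .bwd 2746, .fwd 2755, .bwd 20720],
   .loop (some (5, 1)) [.fwd 20726, .bwd 2755, .bwd 2745],
   .loop (some (1, 2)) [.bwd 2597, .fwd 2755, .fwd 20737],
   .loop (some (5, 1)) [.bwd 20738, .fwd 22488, .fwd 2598],
   .loop (some (0, 2)) [.fwd 22485, .fwd 22480],
   .loop (some (11, 1)) [.fwd 22474, .fwd 8067, .bwd 22490],
   .loop (some (16, 2)) [.bwd 22420, .fwd 22477, .fwd 8751, .bwd 8771, .bwd 8769],
   .loop (some (20, 0)) [.fwd 20730, .bwd 4174, .fwd 3934, .bwd 9120, .bwd 4009, .fwd 4008, .bwd 2776, .fwd 8802],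
   .loop (some (5, 3)) [.bwd 2741, .fwd 22493, .fwd 20722],
   .loop (some (5, 3)) [.bwd 2742, .bwd 22494, .fwd 20723],
   .loop (some (9, 2)) [.fwd 22495, .fwd 8805, .fwd 22487],
   .loop (some (9, 2)) [.bwd 22487, .bwd 8799, .fwd 2755],
   .loop (some (7, 1)) [.fwd 20479, .fwd 8068, .bwd 20726],
   .loop (some (2, 2)) [.fwd 20720, .fwd 3956, .bwd 3782]]

theorem just89_len : just89.length = 250 := by decide +kernel

theorem just89_ok : cert.okFacts 22250 just89 = true := by decide +kernel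

/-- justifications -/
noncomputable def just90 : List Cert.Just :=
  [.loop (some (0, 2)) [.fwd 22497, .fwd 22496],
   .loop (some (4, 2)) [.bwd 20737, .bwd 8068, .fwd 20468],
   .loop (some (15, 0)) [.fwd 3838, .bwd 4182, .bwd 22486, .fwd 20720],
   .loop (some (10, 1)) [.fwd 9099, .bwd 3956, .bwd 22500],
   .loop (some (5, 3)) [.bwd 2761, .bwd 6510, .fwd 20474],
   .loop (some (5, 3)) [.bwd 2762, .bwd 22504, .fwd 20475],
   .loop (some (5, 3)) [.bwd 2763, .bwd 22505, .fwd 20476],
   .loop (some (9, 2)) [.fwd 22506, .bwd 8681, .fwd 22452],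
   .loop (some (5, 3)) [.bwd 2764, .bwd 22506, .fwd 20477],
   .loop (some (9, 2)) [.bwd 22452, .bwd 8688, .fwd 2774],
   .loop (some (16, 2)) [.fwd 8737, .fwd 8691, .bwd 8693, .bwd 22455, .bwd 22473],
   .loop (some (5, 1)) [.bwd 20481, .fwd 22455, .fwd 2768],
   .loop (some (6, 1)) [.fwd 20490, .bwd 8069, .bwd 20479],
   .loop (some (0, 2)) [.fwd 22509, .fwd 22507],
   .loop (some (11, 1)) [.fwd 22500, .bwd 8068, .bwd 22513],
   .loop (some (3, 2)) [.fwd 20921, .bwd 8822, .bwd 17894],
   .loop (some (3, 2)) [.fwd 21113, .bwd 8661, .bwd 17914],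
   .loop (some (13, 2)) [.fwd 21113, .fwd 8835, .fwd 2812],
   .loop (some (1, 2)) [.bwd 12662, .bwd 15471, .fwd 20461],
   .loop (some (15, 0)) [.fwd 21283, .fwd 18863, .bwd 18611, .bwd 14150],
   .loop (some (15, 0)) [.bwd 21443, .bwd 17763, .fwd 17765, .bwd 14151],
   .loop (some (18, 4)) [.bwd 12192, .fwd 14109, .fwd 21391, .fwd 21042, .fwd 21043],
   .loop (some (2, 2)) [.fwd 20278, .bwd 7239, .bwd 10913],
   .loop (some (18, 1)) [.fwd 21140, .bwd 15766, .bwd 15765, .bwd 12203, .bwd 20278],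
   .loop (some (12, 2)) [.fwd 20278, .bwd 19312, .bwd 21131],
   .loop (some (15, 0)) [.bwd 21387, .fwd 7713, .fwd 20276, .fwd 20277, .fwd 20278],
   .loop none [.bwd 22525],
   .loop none [.fwd 21387, .bwd 22526],
   .loop (some (16, 0)) [.bwd 22522, .bwd 11211, .fwd 8595, .fwd 8532, .fwd 8531],
   .loop (some (1, 2)) [.fwd 8542, .fwd 22528, .fwd 22523],
   .loop (some (9, 1)) [.fwd 22524, .bwd 22528, .fwd 8859],
   .loop (some (15, 0)) [.fwd 18612, .bwd 14152, .bwd 8597, .fwd 8582],
   .loop (some (16, 1)) [.bwd 11224, .fwd 9041, .fwd 8537, .bwd 8541, .bwd 22529],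
   .loop (some (5, 3)) [.fwd 22529, .bwd 3008, .bwd 22410, .fwd 21236],
   .loop none [.fwd 22533],
   .loop none [.bwd 21237, .bwd 22534],
   .loop (some (5, 3)) [.bwd 22530, .bwd 3009, .bwd 22529, .fwd 22535],
   .loop none [.fwd 22536],
   .loop none [.fwd 22535, .bwd 22537],
   .loop (some (20, 1)) [.fwd 21124, .fwd 19205, .bwd 16484, .bwd 15395, .bwd 8278, .fwd 8262, .fwd 8260, .fwd 8275, .fwd 22409],
   .loop none [.fwd 22539],
   .loop none [.bwd 21239, .bwd 22540],
   .loop (some (7, 2)) [.fwd 20545, .fwd 8093, .bwd 22541, .bwd 21123],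
   .loop none [.fwd 22542],
   .loop none [.bwd 21123, .bwd 22543],
   .loop none [.fwd 21122, .bwd 22543],
   .loop (some (14, 0)) [.bwd 22538, .fwd 22524, .fwd 21242, .bwd 3023],
   .loop (some (11, 2)) [.fwd 20578, .fwd 8093, .fwd 22546, .bwd 21139],
   .loop none [.fwd 22547],
   .loop none [.bwd 21139, .bwd 22548],
   .loop none [.fwd 21138, .bwd 22548],
   .loop none [.bwd 21258, .bwd 22548],
   .loop (some (4, 2)) [.bwd 3304, .fwd 19425, .fwd 15871],
   .loop (some (11, 1)) [.fwd 19315, .bwd 19425, .bwd 8884],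
   .loop (some (17, 3)) [.bwd 15873, .bwd 15872, .fwd 22552, .fwd 3305, .fwd 3306, .fwd 8892],
   .loop none [.bwd 22554],
   .loop none [.fwd 5067, .fwd 22555, .fwd 15874],
   .loop none [.fwd 22556],
   .loop none [.bwd 9265, .fwd 22555, .fwd 19182],
   .loop none [.fwd 22558],
   .loop none [.fwd 9346, .fwd 22555, .bwd 19321],
   .loop none [.fwd 22560],
   .loop none [.bwd 8895, .fwd 22557, .fwd 15875],
   .loop none [.fwd 22562],
   .loop none [.fwd 15735, .bwd 22559],
   .loop none [.fwd 15962, .bwd 22561],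
   .loop none [.fwd 3309, .fwd 22563, .fwd 15876],
   .loop none [.fwd 22566],
   .loop none [.bwd 15877, .bwd 22567],
   .loop none [.bwd 9190, .fwd 22567, .fwd 19185],
   .loop none [.fwd 22569],
   .loop none [.fwd 8896, .fwd 22567, .bwd 19255],
   .loop none [.fwd 22571],
   .loop none [.bwd 15739, .bwd 22570],
   .loop none [.bwd 15966, .bwd 22572],
   .loop (some (11, 1)) [.fwd 19317, .fwd 22552, .bwd 8887],
   .loop (some (17, 5)) [.fwd 3313, .fwd 3314, .fwd 8908, .bwd 19910, .bwd 19909],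
   .loop (some (4, 2)) [.fwd 3312, .bwd 22576, .bwd 19908],
   .loop (some (15, 0)) [.fwd 20789, .fwd 20790, .bwd 14162, .bwd 3315],
   .loop (some (18, 4)) [.bwd 20245, .fwd 3354, .fwd 8202, .fwd 5523, .fwd 5524],
   .loop (some (3, 3)) [.bwd 20245, .bwd 8281, .fwd 17005, .fwd 19943],
   .loop none [.bwd 22580],
   .loop none [.fwd 19943, .fwd 22581, .fwd 20246],
   .loop none [.fwd 22582],
   .loop none [.bwd 19944, .fwd 22581, .fwd 21031],
   .loop none [.bwd 22584],
   .loop none [.fwd 22579, .bwd 22581],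
   .loop none [.fwd 20245, .bwd 22581],
   .loop none [.bwd 17006, .fwd 22583, .fwd 20247],
   .loop none [.fwd 22588],
   .loop none [.fwd 19944, .bwd 22585],
   .loop none [.fwd 19917, .fwd 22585, .fwd 19945],
   .loop none [.fwd 22591],
   .loop none [.bwd 16478, .fwd 22589, .fwd 20248],
   .loop none [.fwd 22593],
   .loop none [.bwd 20927, .fwd 22592, .fwd 19946],
   .loop none [.fwd 22595],
   .loop none [.bwd 16479, .fwd 22594, .fwd 20249],
   .loop none [.fwd 22597],
   .loop none [.fwd 8237, .fwd 22596, .fwd 19947],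
   .loop none [.fwd 22599],
   .loop none [.bwd 20250, .bwd 22598],
   .loop none [.fwd 8263, .fwd 22600, .fwd 19948],
   .loop none [.fwd 22602],
   .loop none [.bwd 8282, .fwd 22603, .fwd 19949],
   .loop none [.fwd 22604],
   .loop none [.fwd 1595, .fwd 22605, .fwd 19950],
   .loop none [.fwd 22606],
   .loop none [.bwd 7774, .fwd 22607, .fwd 19951],
   .loop none [.fwd 22608],
   .loop none [.bwd 7749, .fwd 22609, .fwd 19952],
   .loop none [.fwd 22610],
   .loop none [.bwd 15602, .fwd 22611, .fwd 19953],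
   .loop none [.fwd 22612],
   .loop none [.fwd 15901, .fwd 22613, .fwd 19954],
   .loop none [.fwd 22614],
   .loop none [.fwd 18892, .fwd 22615, .fwd 19955],
   .loop none [.fwd 22616],
   .loop none [.bwd 21035, .fwd 22617, .fwd 19956],
   .loop none [.bwd 22618],
   .loop none [.fwd 21035, .bwd 22619],
   .loop (some (20, 6)) [.bwd 20582, .fwd 6666, .bwd 6885, .bwd 5842, .bwd 10131, .fwd 9732, .fwd 12352, .fwd 12353],
   .loop (some (7, 2)) [.bwd 10479, .bwd 18241, .bwd 22620],
   .loop (some (17, 5)) [.fwd 3411, .fwd 3412, .fwd 8961, .bwd 19940, .bwd 19939],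
   .loop (some (4, 2)) [.fwd 3410, .bwd 22623, .bwd 19938],
   .loop (some (20, 0)) [.fwd 19734, .fwd 19735, .fwd 19736, .fwd 10657, .fwd 10658, .fwd 11035, .fwd 8025, .bwd 3412],
   .loop (some (5, 2)) [.bwd 22625, .fwd 17971, .fwd 19720],
   .loop (some (18, 2)) [.bwd 5680, .bwd 5679, .bwd 8161, .bwd 4495, .fwd 20189],
   .loop (some (3, 3)) [.bwd 19739, .fwd 7840, .fwd 16973, .fwd 19822],
   .loop none [.fwd 22628],
   .loop none [.bwd 19740, .fwd 22629, .bwd 19822],
   .loop none [.bwd 22630],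
   .loop none [.bwd 21008, .fwd 22629, .fwd 19823],
   .loop none [.bwd 22632],
   .loop none [.fwd 15483, .fwd 22631, .fwd 19741],
   .loop none [.fwd 22634],
   .loop none [.bwd 20793, .bwd 22633],
   .loop none [.fwd 21006, .bwd 22633],
   .loop none [.fwd 21008, .bwd 22633],
   .loop none [.bwd 19824, .fwd 22633, .fwd 20607],
   .loop none [.fwd 22639],
   .loop none [.fwd 20606, .bwd 22633],
   .loop none [.bwd 21002, .bwd 22633],
   .loop none [.fwd 21007, .bwd 22633],
   .loop none [.bwd 13750, .fwd 22635, .fwd 19742],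
   .loop none [.fwd 22644],
   .loop none [.bwd 20866, .bwd 22640],
   .loop none [.fwd 21036, .bwd 22640],
   .loop none [.fwd 21039, .bwd 22640],
   .loop none [.bwd 19825, .fwd 22640, .fwd 20608],
   .loop none [.bwd 22649],
   .loop none [.fwd 21005, .bwd 22640],
   .loop none [.bwd 20897, .bwd 22640],
   .loop none [.bwd 21034, .bwd 22640],
   .loop none [.fwd 13124, .fwd 22645, .fwd 19743],
   .loop none [.fwd 22654],
   .loop none [.fwd 7996, .fwd 22650, .fwd 19826],
   .loop none [.fwd 22656],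
   .loop none [.fwd 19825, .bwd 22650],
   .loop none [.bwd 17787, .fwd 22655, .fwd 19744],
   .loop none [.fwd 22659],
   .loop none [.fwd 7818, .fwd 22657, .fwd 19827],
   .loop none [.fwd 22661],
   .loop none [.fwd 16888, .fwd 22660, .fwd 19745],
   .loop none [.fwd 22663],
   .loop none [.bwd 7808, .fwd 22662, .fwd 19828],
   .loop none [.fwd 22665],
   .loop none [.fwd 21746, .fwd 22664, .fwd 19746],
   .loop none [.bwd 22667],
   .loop none [.bwd 16348, .fwd 22666, .fwd 19829],
   .loop none [.fwd 22669],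
   .loop none [.fwd 21745, .bwd 22668],
   .loop none [.bwd 21746, .bwd 22668],
   .loop none [.bwd 16349, .fwd 22670, .fwd 19830],
   .loop none [.fwd 22673],
   .loop none [.bwd 15809, .fwd 22674, .fwd 19831],
   .loop none [.fwd 22675],
   .loop none [.fwd 15807, .fwd 22676, .fwd 19832],
   .loop none [.fwd 22677],
   .loop none [.fwd 15806, .fwd 22678, .fwd 19833],
   .loop none [.fwd 22679],
   .loop none [.bwd 18937, .fwd 22680, .fwd 19834],
   .loop none [.fwd 22681],
   .loop none [.bwd 21040, .fwd 22682, .fwd 19835],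
   .loop none [.bwd 22683],
   .loop none [.fwd 21040, .bwd 22684],
   .loop (some (18, 2)) [.bwd 21369, .bwd 21368, .bwd 8977, .fwd 3444, .fwd 3445],
   .loop (some (11, 3)) [.bwd 8980, .fwd 19634, .bwd 19232],
   .loop (some (2, 1)) [.bwd 21370, .bwd 22686, .fwd 3446],
   .loop (some (4, 0)) [.bwd 15826, .fwd 22687, .fwd 3445],
   .loop (some (11, 1)) [.fwd 19233, .bwd 22689, .bwd 8985],
   .loop (some (17, 5)) [.bwd 3447, .bwd 3446, .fwd 22689, .fwd 15827, .fwd 15828, .fwd 19237],
   .loop none [.fwd 22691],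
   .loop none [.bwd 8992, .fwd 22692, .bwd 19237],
   .loop none [.fwd 22693],
   .loop none [.bwd 3448, .fwd 22692, .bwd 16580],
   .loop none [.fwd 22695],
   .loop none [.fwd 15828, .bwd 22694],
   .loop none [.bwd 5099, .fwd 22694, .fwd 19235],
   .loop none [.fwd 22698],
   .loop none [.bwd 3449, .fwd 22696, .fwd 19240],
   .loop none [.fwd 22700],
   .loop none [.bwd 16583, .bwd 22699],
   .loop none [.bwd 15832, .bwd 22701],
   .loop none [.bwd 8949, .fwd 22701, .fwd 19286],
   .loop none [.fwd 22704],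
   .loop none [.fwd 8997, .fwd 22701, .bwd 19242],
   .loop none [.fwd 22706],
   .loop none [.bwd 15924, .bwd 22705],
   .loop none [.bwd 15784, .bwd 22707],
   .loop (some (15, 0)) [.bwd 21371, .bwd 22688, .fwd 3447, .fwd 3448],
   .loop (some (17, 3)) [.bwd 19244, .bwd 22703, .fwd 3450, .fwd 3451, .fwd 9002],
   .loop (some (17, 5)) [.fwd 3454, .fwd 3455, .fwd 9014, .bwd 19898, .bwd 19897],
   .loop (some (4, 2)) [.fwd 3453, .bwd 22712, .bwd 19896],
   .loop (some (15, 0)) [.fwd 20768, .fwd 20769, .bwd 14177, .bwd 3456],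
   .loop (some (2, 1)) [.fwd 22418, .bwd 9043, .fwd 8554],
   .loop (some (4, 2)) [.bwd 3637, .fwd 3593, .fwd 20491],
   .loop (some (7, 1)) [.fwd 20490, .bwd 3635, .bwd 3631],
   .loop (some (6, 1)) [.bwd 20672, .bwd 22437, .fwd 3597],
   .loop (some (7, 3)) [.bwd 3627, .fwd 22439, .fwd 20486],
   .loop (some (7, 3)) [.bwd 3628, .bwd 22719, .fwd 20487],
   .loop (some (11, 2)) [.fwd 22720, .bwd 9085, .fwd 22717],
   .loop (some (7, 3)) [.bwd 3629, .bwd 22720, .fwd 20488],
   .loop (some (11, 2)) [.bwd 22717, .fwd 9084, .fwd 3635],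
   .loop (some (5, 1)) [.fwd 6186, .fwd 6267, .bwd 20490],
   .loop (some (0, 2)) [.fwd 22723, .fwd 22721],
   .loop (some (9, 1)) [.fwd 9594, .fwd 6267, .bwd 22725],
   .loop (some (10, 1)) [.fwd 22513, .fwd 8069, .bwd 22725],
   .loop (some (7, 1)) [.bwd 20492, .fwd 22716, .fwd 3638],
   .loop (some (6, 3)) [.bwd 3710, .bwd 22503, .fwd 20724],
   .loop (some (6, 1)) [.fwd 20715, .bwd 3783, .bwd 3762],
   .loop (some (20, 1)) [.bwd 22423, .fwd 14076, .bwd 14081, .bwd 14237, .fwd 8624, .fwd 9104, .fwd 9113, .bwd 9114],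
   .loop (some (6, 3)) [.bwd 3758, .fwd 22499, .fwd 20711],
   .loop (some (6, 3)) [.bwd 3759, .bwd 22732, .fwd 20712],
   .loop (some (10, 2)) [.fwd 22733, .bwd 9105, .fwd 22730],
   .loop (some (20, 1)) [.fwd 22432, .fwd 14074, .fwd 14234, .bwd 14233, .bwd 9093, .fwd 9101, .fwd 9112, .bwd 9117],
   .loop (some (6, 3)) [.bwd 3760, .bwd 22733, .fwd 20713],
   .loop (some (3, 2)) [.fwd 3774, .bwd 22736, .bwd 20719],
   .loop (some (20, 1)) [.fwd 22431, .fwd 14073, .fwd 14078, .bwd 14232, .bwd 9092, .fwd 9100, .fwd 9107, .fwd 9108],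
   .loop (some (10, 2)) [.bwd 22730, .bwd 9102, .fwd 3783],
   .loop (some (3, 2)) [.bwd 3771, .fwd 3828, .fwd 20716],
   .loop (some (0, 2)) [.fwd 22739, .fwd 22734],
   .loop (some (11, 1)) [.bwd 9148, .fwd 4174, .bwd 22741],
   .loop (some (15, 0)) [.bwd 14078, .bwd 14073, .bwd 22431, .bwd 22738],
   .loop (some (4, 2)) [.bwd 20716, .fwd 3838, .fwd 4175],
   .loop (some (15, 0)) [.fwd 8068, .bwd 20720, .fwd 22486, .fwd 4182],
   .loop (some (7, 3)) [.bwd 4169, .bwd 22486, .fwd 20711],
   .loop (some (7, 3)) [.bwd 4171, .bwd 22742, .fwd 20713],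
   .loop (some (2, 2)) [.fwd 21234, .fwd 22422, .fwd 20648],
   .loop (some (8, 1)) [.fwd 20736, .bwd 4333, .fwd 4324]]

theorem just90_len : just90.length = 250 := by decide +kernel

theorem just90_ok : cert.okFacts 22500 just90 = true := by decide +kernel

/-- justifications -/
noncomputable def just91 : List Cert.Just :=
  [.loop (some (12, 1)) [.fwd 22490, .bwd 4333, .fwd 9149],
   .loop (some (2, 1)) [.bwd 22484, .bwd 22749, .bwd 8853],
   .loop (some (8, 1)) [.fwd 20735, .bwd 22749, .fwd 4325],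
   .loop (some (12, 1)) [.fwd 22483, .bwd 22752, .bwd 8775],
   .loop (some (2, 2)) [.fwd 20313, .fwd 8848, .fwd 17694],
   .loop (some (5, 3)) [.bwd 4338, .fwd 22492, .fwd 20743],
   .loop (some (8, 1)) [.fwd 20746, .bwd 22751, .fwd 4339],
   .loop (some (12, 2)) [.bwd 22751, .bwd 4349, .fwd 4348],
   .loop (some (2, 2)) [.bwd 22756, .bwd 8784, .fwd 22752],
   .loop (some (5, 3)) [.bwd 4339, .bwd 22755, .fwd 20744],
   .loop (some (8, 1)) [.fwd 20745, .bwd 22756, .fwd 4340],
   .loop (some (9, 2)) [.fwd 22759, .bwd 8576, .fwd 22421],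
   .loop (some (16, 0)) [.bwd 22758, .fwd 22481, .fwd 8763, .bwd 8776, .bwd 8856],
   .loop (some (8, 1)) [.fwd 20744, .bwd 22760, .fwd 4341],
   .loop (some (1, 2)) [.fwd 4346, .fwd 22762, .bwd 20751],
   .loop (some (2, 2)) [.bwd 22763, .fwd 8585, .fwd 22753],
   .loop (some (5, 1)) [.bwd 20749, .fwd 22436, .fwd 4344],
   .loop (some (16, 1)) [.bwd 22489, .fwd 8768, .fwd 8780, .fwd 8847, .fwd 22766],
   .loop (some (16, 1)) [.fwd 22482, .bwd 8765, .bwd 8777, .fwd 8848, .bwd 22764],
   .loop (some (9, 2)) [.fwd 21246, .fwd 20496, .bwd 9150, .bwd 20518],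
   .loop none [.bwd 22769],
   .loop none [.bwd 21130, .bwd 22770],
   .loop none [.fwd 21129, .bwd 22770],
   .loop none [.bwd 21246, .bwd 22770],
   .loop (some (20, 6)) [.bwd 12129, .fwd 8556, .bwd 8488, .bwd 8499, .bwd 8517, .fwd 8538, .bwd 8574, .fwd 22756],
   .loop (some (15, 0)) [.bwd 21174, .bwd 6849, .bwd 6848, .bwd 9166],
   .loop (some (11, 1)) [.bwd 19314, .bwd 22553, .bwd 9173],
   .loop (some (11, 1)) [.fwd 19316, .bwd 22575, .bwd 9177],
   .loop (some (17, 5)) [.fwd 4411, .fwd 4412, .fwd 9204, .bwd 19968, .bwd 19967],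
   .loop (some (4, 2)) [.fwd 4410, .bwd 22778, .bwd 19966],
   .loop (some (21, 1)) [.fwd 22587, .fwd 8229, .fwd 4773, .bwd 1476, .bwd 8044, .bwd 8153, .bwd 8165, .fwd 8180],
   .loop (some (20, 6)) [.fwd 22428, .fwd 9215, .bwd 8497, .fwd 8499, .bwd 8511, .fwd 8535, .bwd 8578, .fwd 22760],
   .loop (some (15, 0)) [.fwd 18445, .fwd 15777, .bwd 19634, .bwd 4463],
   .loop (some (11, 1)) [.fwd 19278, .bwd 19634, .bwd 8984],
   .loop (some (11, 1)) [.fwd 19280, .bwd 22690, .bwd 8987],
   .loop (some (17, 5)) [.fwd 9237, .bwd 4893, .bwd 4892, .fwd 17959, .bwd 20152],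
   .loop (some (4, 2)) [.bwd 4472, .bwd 22785, .bwd 20151],
   .loop (some (17, 5)) [.fwd 22786, .fwd 4473, .fwd 4474, .fwd 9240, .bwd 19866, .bwd 19865],
   .loop none [.bwd 22787],
   .loop none [.bwd 22786, .bwd 22788],
   .loop none [.fwd 20150, .bwd 22788],
   .loop none [.fwd 19864, .fwd 22788, .fwd 20151],
   .loop none [.fwd 22791],
   .loop none [.bwd 20152, .bwd 22792],
   .loop none [.bwd 22785, .bwd 22792],
   .loop (some (11, 2)) [.fwd 22789, .bwd 9009, .bwd 22623],
   .loop (some (15, 0)) [.bwd 20296, .bwd 17942, .bwd 17946, .bwd 4475],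
   .loop (some (6, 1)) [.bwd 19848, .bwd 9242, .bwd 17998],
   .loop (some (20, 6)) [.bwd 12591, .bwd 8528, .bwd 4803, .bwd 8099, .bwd 8506, .fwd 8533, .fwd 8557, .fwd 22763],
   .loop (some (3, 3)) [.bwd 20189, .fwd 8215, .fwd 17071, .fwd 19873],
   .loop none [.bwd 22799],
   .loop none [.fwd 19873, .fwd 22800, .fwd 20190],
   .loop none [.fwd 22801],
   .loop none [.bwd 19874, .fwd 22800, .bwd 22648],
   .loop none [.bwd 22803],
   .loop none [.bwd 22627, .bwd 22800],
   .loop none [.fwd 20189, .bwd 22800],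
   .loop none [.bwd 17072, .fwd 22802, .fwd 20191],
   .loop none [.fwd 22807],
   .loop none [.fwd 19874, .bwd 22804],
   .loop none [.fwd 19824, .fwd 22804, .fwd 19875],
   .loop none [.fwd 22810],
   .loop none [.bwd 16345, .fwd 22808, .fwd 20192],
   .loop none [.fwd 22812],
   .loop none [.bwd 22641, .fwd 22811, .fwd 19876],
   .loop none [.fwd 22814],
   .loop none [.bwd 16346, .fwd 22813, .fwd 20193],
   .loop none [.fwd 22816],
   .loop none [.fwd 8105, .fwd 22815, .fwd 19877],
   .loop none [.fwd 22818],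
   .loop none [.bwd 20194, .bwd 22817],
   .loop none [.bwd 8224, .fwd 22819, .fwd 19878],
   .loop none [.fwd 22821],
   .loop none [.bwd 1553, .fwd 22822, .fwd 19879],
   .loop none [.fwd 22823],
   .loop none [.bwd 1645, .fwd 22824, .fwd 19880],
   .loop none [.fwd 22825],
   .loop none [.bwd 7754, .fwd 22826, .fwd 19881],
   .loop none [.fwd 22827],
   .loop none [.bwd 7739, .fwd 22828, .fwd 19882],
   .loop none [.fwd 22829],
   .loop none [.bwd 13115, .fwd 22830, .fwd 19883],
   .loop none [.fwd 22831],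
   .loop none [.fwd 15717, .fwd 22832, .fwd 19884],
   .loop none [.fwd 22833],
   .loop none [.bwd 18729, .fwd 22834, .fwd 19885],
   .loop none [.fwd 22835],
   .loop none [.bwd 21009, .fwd 22836, .fwd 19886],
   .loop none [.bwd 22837],
   .loop none [.fwd 21009, .bwd 22838],
   .loop (some (17, 5)) [.fwd 4514, .fwd 4515, .fwd 8284, .bwd 19847, .bwd 19846],
   .loop (some (4, 2)) [.fwd 4513, .bwd 22840, .bwd 19845],
   .loop (some (16, 2)) [.bwd 9741, .fwd 18097, .bwd 8284, .bwd 19671, .fwd 21535],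
   .loop (some (19, 6)) [.bwd 20791, .bwd 20850, .bwd 20849, .bwd 20898, .bwd 22652, .fwd 22651, .bwd 21004],
   .loop none [.fwd 22843],
   .loop none [.bwd 20792, .fwd 22844, .bwd 21003],
   .loop none [.fwd 22845],
   .loop none [.bwd 21004, .bwd 22844],
   .loop none [.fwd 22642, .bwd 22846],
   .loop (some (20, 4)) [.bwd 19990, .bwd 19989, .bwd 5138, .bwd 7906, .bwd 22636, .fwd 19824, .fwd 22809, .fwd 22805],
   .loop (some (6, 1)) [.bwd 20155, .bwd 4888, .fwd 20791],
   .loop (some (20, 6)) [.bwd 5523, .bwd 7991, .bwd 22646, .bwd 19824, .fwd 22638, .fwd 20869, .fwd 21301, .fwd 21302],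
   .loop (some (15, 0)) [.bwd 19989, .bwd 5138, .bwd 7906, .fwd 4547],
   .loop (some (11, 2)) [.fwd 9805, .bwd 18008, .bwd 22354],
   .loop (some (4, 2)) [.bwd 4574, .bwd 22390, .fwd 16791],
   .loop (some (17, 3)) [.bwd 16793, .bwd 16792, .fwd 22854, .fwd 4575, .fwd 4576, .fwd 9283],
   .loop none [.bwd 22855],
   .loop none [.fwd 16793, .bwd 22856],
   .loop none [.fwd 5535, .fwd 22856, .fwd 16794],
   .loop none [.fwd 22858],
   .loop none [.bwd 9285, .fwd 22859, .fwd 16795],
   .loop none [.fwd 22860],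
   .loop none [.fwd 4579, .fwd 22861, .fwd 16796],
   .loop none [.fwd 22862],
   .loop none [.bwd 16797, .bwd 22863],
   .loop (some (15, 0)) [.bwd 18053, .bwd 15488, .bwd 18052, .bwd 8059],
   .loop (some (2, 2)) [.fwd 20972, .fwd 8270, .bwd 17189],
   .loop (some (8, 2)) [.fwd 20972, .bwd 4618, .fwd 8059],
   .loop (some (18, 2)) [.bwd 17505, .bwd 17504, .bwd 17622, .bwd 20972, .fwd 21185],
   .loop (some (15, 0)) [.bwd 20971, .fwd 21065, .fwd 20971, .fwd 20972],
   .loop (some (8, 2)) [.bwd 9212, .bwd 4619, .bwd 20972],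
   .loop (some (15, 0)) [.fwd 18052, .fwd 15488, .fwd 18053, .bwd 9212],
   .loop (some (15, 0)) [.fwd 20899, .fwd 20900, .fwd 20901, .fwd 8249],
   .loop (some (8, 2)) [.bwd 20334, .bwd 4786, .bwd 8249],
   .loop (some (15, 0)) [.fwd 20933, .fwd 20934, .bwd 20933, .bwd 20334],
   .loop (some (10, 1)) [.fwd 17529, .bwd 17473, .bwd 20969],
   .loop (some (8, 2)) [.bwd 8198, .bwd 4787, .fwd 20334],
   .loop (some (15, 0)) [.bwd 20901, .bwd 20900, .bwd 20899, .bwd 8198],
   .loop (some (2, 0)) [.fwd 16123, .bwd 19399, .bwd 4847],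
   .loop (some (17, 5)) [.fwd 19399, .fwd 16124, .bwd 16703, .fwd 17992, .bwd 21497],
   .loop (some (4, 2)) [.bwd 4848, .bwd 22879, .bwd 21496],
   .loop (some (17, 5)) [.fwd 22880, .fwd 4849, .fwd 4850, .fwd 16436, .fwd 15612, .bwd 20431],
   .loop none [.bwd 22881],
   .loop none [.bwd 22880, .bwd 22882],
   .loop none [.fwd 21495, .bwd 22882],
   .loop none [.fwd 20430, .fwd 22882, .fwd 21496],
   .loop none [.fwd 22885],
   .loop none [.bwd 21497, .bwd 22886],
   .loop none [.bwd 22879, .bwd 22886],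
   .loop (some (15, 0)) [.bwd 5583, .fwd 18109, .fwd 17029, .bwd 4851],
   .loop (some (19, 6)) [.bwd 20155, .bwd 20233, .bwd 20232, .bwd 20289, .bwd 20288, .bwd 21118, .bwd 21117],
   .loop none [.fwd 22890],
   .loop none [.bwd 20156, .fwd 22891, .bwd 21116],
   .loop none [.fwd 22892],
   .loop none [.bwd 21117, .bwd 22891],
   .loop none [.fwd 21115, .bwd 22893],
   .loop (some (7, 1)) [.bwd 19848, .bwd 4889, .fwd 20155],
   .loop (some (14, 3)) [.fwd 20232, .fwd 20233, .bwd 7914, .bwd 1008, .fwd 20331],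
   .loop none [.fwd 22897],
   .loop none [.fwd 20331, .bwd 22898],
   .loop (some (15, 0)) [.fwd 19968, .bwd 4975, .bwd 4974, .fwd 7989],
   .loop (some (19, 6)) [.bwd 19848, .bwd 19913, .bwd 19912, .bwd 19982, .bwd 19981, .bwd 21287, .bwd 21286],
   .loop none [.fwd 22901],
   .loop none [.bwd 19849, .fwd 22902, .bwd 21285],
   .loop none [.fwd 22903],
   .loop none [.bwd 21286, .bwd 22902],
   .loop none [.fwd 21284, .bwd 22904],
   .loop (some (14, 3)) [.fwd 19912, .fwd 19913, .bwd 9243, .bwd 951, .fwd 20029],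
   .loop none [.fwd 22907],
   .loop none [.fwd 20029, .bwd 22908],
   .loop (some (17, 4)) [.bwd 13869, .fwd 4945, .fwd 4946, .bwd 9270, .bwd 22841],
   .loop (some (15, 0)) [.bwd 18600, .fwd 17134, .fwd 4946, .fwd 4947],
   .loop (some (18, 4)) [.bwd 10158, .fwd 4971, .fwd 6891, .fwd 20582, .fwd 20583],
   .loop (some (14, 2)) [.fwd 20157, .fwd 20158, .bwd 7992, .bwd 20186],
   .loop (some (14, 2)) [.fwd 19850, .fwd 19851, .bwd 9211, .bwd 19870],
   .loop (some (17, 4)) [.bwd 17646, .fwd 4977, .fwd 4978, .bwd 9196, .bwd 22779],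
   .loop (some (7, 2)) [.bwd 17646, .bwd 19706, .fwd 10191],
   .loop (some (7, 2)) [.bwd 4978, .bwd 19708, .fwd 19311],
   .loop (some (8, 0)) [.bwd 15959, .fwd 22917, .fwd 4979],
   .loop (some (18, 2)) [.bwd 20771, .bwd 20770, .bwd 6707, .bwd 5086, .fwd 10242],
   .loop (some (4, 1)) [.bwd 17673, .bwd 5019, .bwd 19940],
   .loop (some (17, 4)) [.bwd 17673, .fwd 5020, .fwd 5021, .bwd 8955, .bwd 22624],
   .loop (some (2, 2)) [.bwd 20851, .fwd 19915, .fwd 5020, .bwd 17418],
   .loop none [.bwd 22922],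
   .loop none [.bwd 20852, .bwd 22923],
   .loop (some (15, 0)) [.bwd 22924, .fwd 17418, .fwd 5021, .fwd 5022],
   .loop (some (14, 2)) [.fwd 21184, .fwd 19969, .fwd 19970, .bwd 8268, .bwd 20158],
   .loop none [.bwd 22926],
   .loop none [.bwd 21184, .bwd 22927],
   .loop (some (19, 4)) [.bwd 20062, .bwd 17559, .bwd 19821, .bwd 19820, .fwd 19691, .fwd 21324],
   .loop (some (17, 4)) [.bwd 14169, .fwd 5061, .fwd 5062, .bwd 8902, .bwd 22577],
   .loop (some (20, 6)) [.bwd 5679, .bwd 7937, .bwd 20978, .bwd 19917, .bwd 19916, .bwd 17980, .fwd 17979, .fwd 20067],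
   .loop (some (15, 0)) [.bwd 18139, .bwd 5645, .bwd 8177, .fwd 8145],
   .loop (some (15, 0)) [.fwd 19910, .bwd 5059, .bwd 5058, .fwd 8178],
   .loop (some (19, 5)) [.bwd 19867, .fwd 17563, .bwd 17310, .bwd 17309, .fwd 19728, .fwd 20025],
   .loop (some (21, 5)) [.bwd 20030, .fwd 20025, .fwd 22934, .bwd 19867, .bwd 7938, .bwd 942, .fwd 7915, .fwd 19848, .fwd 22905],
   .loop none [.fwd 22935],
   .loop none [.fwd 22905, .bwd 22936],
   .loop none [.bwd 21287, .bwd 22936],
   .loop (some (17, 4)) [.bwd 14184, .fwd 5092, .fwd 5093, .bwd 9005, .bwd 22713],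
   .loop (some (2, 2)) [.bwd 20813, .fwd 19872, .fwd 5092, .bwd 17389],
   .loop none [.bwd 22940],
   .loop none [.bwd 20814, .bwd 22941],
   .loop (some (15, 0)) [.fwd 22849, .bwd 19990, .bwd 19989, .bwd 5138],
   .loop (some (4, 1)) [.fwd 20901, .bwd 5139, .fwd 19989],
   .loop (some (17, 3)) [.fwd 21064, .fwd 20901, .fwd 5140, .fwd 5141, .fwd 18060],
   .loop (some (11, 2)) [.fwd 20901, .bwd 9406, .fwd 17979],
   .loop (some (4, 1)) [.bwd 20296, .bwd 18059, .fwd 5141],
   .loop (some (8, 2)) [.bwd 5142, .bwd 19725, .bwd 17479],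
   .loop (some (18, 2)) [.bwd 20298, .bwd 20297, .bwd 22947, .fwd 5142, .fwd 5143],
   .loop (some (3, 2)) [.fwd 20600, .bwd 22947, .fwd 18060, .bwd 17125],
   .loop none [.bwd 22950],
   .loop none [.bwd 20600, .bwd 22951],
   .loop none [.bwd 17125, .fwd 22951, .bwd 20599],
   .loop none [.fwd 22953],
   .loop none [.fwd 20598, .bwd 22954],
   .loop (some (2, 0)) [.bwd 22955, .bwd 18060, .fwd 5142],
   .loop (some (5, 2)) [.fwd 19716, .bwd 22948, .bwd 19729],
   .loop (some (3, 1)) [.bwd 5144, .bwd 5143, .fwd 22956],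
   .loop (some (2, 1)) [.bwd 20299, .bwd 22949, .fwd 5144],
   .loop (some (18, 1)) [.fwd 17124, .fwd 17125, .fwd 22955, .fwd 22958, .fwd 22959],
   .loop (some (4, 1)) [.fwd 20597, .fwd 22958, .fwd 5145],
   .loop (some (3, 0)) [.fwd 20595, .fwd 20596, .bwd 22961],
   .loop (some (10, 2)) [.bwd 22962, .bwd 9414, .fwd 11405],
   .loop (some (2, 0)) [.fwd 20594, .bwd 22962, .fwd 5146],
   .loop (some (3, 1)) [.bwd 5148, .bwd 5147, .fwd 22964],
   .loop (some (10, 2)) [.bwd 22964, .bwd 9415, .fwd 11406],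
   .loop (some (4, 1)) [.fwd 20593, .fwd 22965, .fwd 5149],
   .loop (some (3, 0)) [.fwd 20591, .fwd 20592, .bwd 22967],
   .loop (some (2, 0)) [.fwd 20590, .bwd 22968, .fwd 5150],
   .loop (some (3, 1)) [.bwd 5152, .bwd 5151, .fwd 22969],
   .loop (some (4, 2)) [.fwd 20589, .fwd 22970, .fwd 5153, .fwd 14914],
   .loop none [.bwd 22971],
   .loop none [.bwd 12359, .fwd 22972, .bwd 20588],
   .loop none [.fwd 22973],
   .loop none [.fwd 14476, .fwd 22974, .bwd 20587],
   .loop none [.fwd 22975],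
   .loop none [.bwd 9755, .fwd 22976, .bwd 20586],
   .loop none [.fwd 22977],
   .loop none [.fwd 20585, .bwd 22978],
   .loop (some (17, 3)) [.fwd 12355, .bwd 14908, .fwd 14907, .fwd 22979, .bwd 20584],
   .loop (some (17, 2)) [.bwd 22621, .bwd 14481, .bwd 14917, .fwd 5156, .fwd 5157],
   .loop (some (4, 1)) [.bwd 22979, .bwd 14920, .fwd 5157],
   .loop (some (18, 4)) [.bwd 22982, .fwd 5158, .fwd 5159, .fwd 9334, .fwd 11328],
   .loop (some (5, 1)) [.bwd 22395, .fwd 22393, .bwd 9328],
   .loop (some (9, 2)) [.fwd 22393, .bwd 8375, .fwd 9724],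
   .loop (some (12, 2)) [.bwd 9802, .bwd 6945, .fwd 20770],
   .loop (some (4, 1)) [.bwd 9059, .bwd 5391, .fwd 22403],
   .loop (some (11, 2)) [.bwd 22403, .bwd 14069, .bwd 22774],
   .loop (some (17, 0)) [.fwd 22224, .fwd 22038, .fwd 13239, .bwd 12920, .bwd 15094, .bwd 11454],
   .loop none [.bwd 22989],
   .loop none [.bwd 22224, .bwd 22990],
   .loop none [.bwd 5407, .fwd 22990, .bwd 22223],
   .loop none [.fwd 22992],
   .loop none [.fwd 22222, .bwd 22993],
   .loop (some (2, 2)) [.fwd 5406, .fwd 22991, .bwd 22037],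
   .loop (some (3, 1)) [.bwd 5408, .bwd 5407, .fwd 22991],
   .loop (some (17, 3)) [.fwd 20892, .bwd 18052, .fwd 18051, .fwd 17431, .bwd 17450],
   .loop (some (4, 1)) [.bwd 21301, .bwd 5479, .fwd 18052],
   .loop (some (10, 2)) [.bwd 18051, .bwd 9299, .fwd 21216]]

theorem just91_len : just91.length = 250 := by decide +kernel

theorem just91_ok : cert.okFacts 22750 just91 = true := by decide +kernel

/-- justifications -/
noncomputable def just92 : List Cert.Just :=
  [.loop (some (17, 3)) [.fwd 22010, .bwd 21301, .fwd 5480, .fwd 5481, .bwd 18040],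
   .loop (some (13, 2)) [.fwd 22999, .bwd 18048, .bwd 9434, .fwd 21342],
   .loop none [.fwd 23001],
   .loop none [.fwd 21216, .fwd 23002, .fwd 21343],
   .loop none [.fwd 23003],
   .loop none [.fwd 21342, .bwd 23002],
   .loop none [.bwd 18139, .fwd 23004, .fwd 21344],
   .loop none [.fwd 23006],
   .loop none [.bwd 21345, .bwd 23007],
   .loop (some (17, 5)) [.bwd 18016, .bwd 17435, .bwd 17434, .bwd 22354, .bwd 22353],
   .loop (some (4, 2)) [.bwd 5495, .bwd 23009, .bwd 22352],
   .loop (some (17, 4)) [.fwd 23010, .fwd 5496, .fwd 5497, .bwd 11297, .fwd 9803],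
   .loop (some (10, 1)) [.fwd 22986, .fwd 11297, .bwd 9451],
   .loop (some (20, 1)) [.bwd 22198, .bwd 22197, .fwd 14025, .fwd 18610, .fwd 18275, .fwd 9947, .fwd 9948, .fwd 8392, .fwd 22984],
   .loop none [.fwd 23013],
   .loop none [.fwd 22984, .bwd 23014],
   .loop none [.fwd 22114, .bwd 23014],
   .loop (some (5, 1)) [.bwd 23016, .fwd 23015, .bwd 9363],
   .loop (some (15, 0)) [.fwd 21301, .fwd 21302, .fwd 22851, .bwd 5523],
   .loop (some (4, 2)) [.bwd 5524, .bwd 22851, .fwd 21303],
   .loop (some (17, 3)) [.bwd 21305, .bwd 21304, .fwd 23019, .fwd 5525, .fwd 5526, .bwd 9292],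
   .loop none [.bwd 23020],
   .loop none [.fwd 21305, .bwd 23021],
   .loop none [.fwd 4585, .fwd 23021, .fwd 21306],
   .loop none [.fwd 23023],
   .loop none [.bwd 9290, .fwd 23024, .fwd 21307],
   .loop none [.fwd 23025],
   .loop none [.fwd 5529, .fwd 23026, .fwd 21308],
   .loop none [.fwd 23027],
   .loop none [.bwd 21309, .bwd 23028],
   .loop (some (7, 2)) [.fwd 23019, .bwd 18144, .fwd 18139],
   .loop (some (20, 8)) [.fwd 23019, .fwd 18128, .bwd 5679, .bwd 7937, .bwd 8145, .fwd 8177, .fwd 5645, .fwd 18139, .fwd 23008],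
   .loop none [.fwd 23031],
   .loop none [.fwd 23008, .bwd 23032],
   .loop none [.fwd 21303, .fwd 23032, .fwd 21346],
   .loop none [.fwd 23034],
   .loop none [.bwd 21347, .bwd 23035],
   .loop (some (6, 2)) [.bwd 5525, .bwd 18144, .fwd 21216],
   .loop (some (15, 0)) [.fwd 19916, .fwd 19917, .fwd 22590, .fwd 22586],
   .loop (some (7, 2)) [.bwd 5526, .bwd 23037, .fwd 21217],
   .loop (some (8, 0)) [.bwd 21218, .fwd 23039, .fwd 5527],
   .loop (some (11, 2)) [.bwd 11298, .bwd 9486, .bwd 23009],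
   .loop (some (11, 2)) [.fwd 11398, .bwd 9489, .bwd 23010],
   .loop (some (17, 4)) [.bwd 20899, .bwd 11302, .bwd 10657, .bwd 10656, .bwd 18468],
   .loop (some (11, 2)) [.bwd 20899, .bwd 9301, .bwd 22931],
   .loop (some (11, 2)) [.bwd 17979, .bwd 9498, .fwd 22849],
   .loop (some (8, 0)) [.fwd 20769, .fwd 18086, .bwd 18109],
   .loop (some (10, 2)) [.bwd 11401, .bwd 9502, .bwd 20628],
   .loop (some (2, 2)) [.bwd 21216, .bwd 5645, .fwd 13591, .bwd 20790],
   .loop none [.bwd 23048],
   .loop none [.fwd 21216, .bwd 23049],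
   .loop none [.fwd 20789, .fwd 23049, .fwd 21217],
   .loop none [.fwd 23051],
   .loop none [.bwd 23005, .bwd 23049],
   .loop none [.bwd 23037, .bwd 23049],
   .loop none [.bwd 22999, .bwd 23049],
   .loop none [.bwd 21218, .bwd 23052],
   .loop none [.bwd 23039, .bwd 23052],
   .loop (some (15, 0)) [.bwd 23019, .fwd 23033, .bwd 18139, .bwd 5645],
   .loop (some (17, 3)) [.bwd 15491, .bwd 15490, .bwd 18139, .bwd 23050, .bwd 20789, .bwd 20788],
   .loop none [.fwd 23059],
   .loop none [.bwd 20788, .bwd 23060],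
   .loop none [.fwd 20787, .bwd 23060],
   .loop (some (11, 2)) [.bwd 18139, .bwd 9455, .bwd 22851],
   .loop (some (11, 2)) [.fwd 18053, .bwd 9458, .bwd 23019],
   .loop (some (7, 2)) [.bwd 5648, .bwd 18192, .bwd 17188],
   .loop (some (4, 1)) [.fwd 20789, .fwd 23053, .fwd 5648],
   .loop (some (18, 2)) [.bwd 21219, .bwd 23056, .bwd 23066, .fwd 5649, .fwd 5650],
   .loop (some (3, 2)) [.fwd 23061, .bwd 23066, .bwd 20666, .bwd 20665],
   .loop none [.fwd 23068],
   .loop none [.bwd 15492, .fwd 23069, .bwd 20664],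
   .loop none [.fwd 23070],
   .loop none [.bwd 23062, .fwd 23069, .fwd 20665],
   .loop none [.bwd 23072],
   .loop none [.fwd 20663, .bwd 23071],
   .loop none [.fwd 20786, .bwd 23073],
   .loop none [.fwd 23062, .bwd 23073],
   .loop (some (10, 2)) [.fwd 20666, .bwd 9463, .bwd 9292],
   .loop (some (2, 0)) [.bwd 23075, .fwd 20666, .fwd 5649],
   .loop (some (8, 0)) [.fwd 17187, .fwd 23065, .fwd 5649],
   .loop (some (3, 1)) [.bwd 5651, .bwd 5650, .fwd 23078],
   .loop (some (10, 2)) [.bwd 23078, .bwd 9464, .bwd 9291],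
   .loop (some (2, 1)) [.bwd 21220, .bwd 23067, .fwd 5651],
   .loop (some (18, 1)) [.bwd 15493, .bwd 15492, .bwd 23076, .fwd 23075, .fwd 23080, .fwd 23082],
   .loop none [.fwd 23083],
   .loop none [.bwd 15494, .fwd 23084, .bwd 21220],
   .loop none [.fwd 23085],
   .loop none [.bwd 21221, .bwd 23084],
   .loop none [.fwd 23082, .bwd 23084],
   .loop none [.fwd 23067, .bwd 23086],
   .loop none [.fwd 21219, .bwd 23086],
   .loop (some (4, 1)) [.fwd 20785, .fwd 23080, .fwd 5652],
   .loop (some (3, 0)) [.fwd 20783, .fwd 20784, .bwd 23091],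
   .loop (some (13, 2)) [.bwd 23091, .bwd 9471, .fwd 9289],
   .loop (some (10, 2)) [.bwd 23092, .bwd 9471, .bwd 9288],
   .loop (some (2, 0)) [.fwd 20782, .bwd 23092, .fwd 5653],
   .loop (some (3, 1)) [.bwd 5655, .bwd 5654, .fwd 23095],
   .loop (some (15, 0)) [.bwd 23087, .fwd 23088, .fwd 5652, .fwd 5653],
   .loop (some (10, 2)) [.bwd 23095, .bwd 9472, .bwd 9287],
   .loop (some (4, 1)) [.fwd 20781, .fwd 23096, .fwd 5656],
   .loop (some (3, 0)) [.fwd 20779, .fwd 20780, .bwd 23099],
   .loop (some (13, 2)) [.bwd 23099, .bwd 9479, .fwd 9285],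
   .loop (some (10, 2)) [.bwd 23100, .bwd 9479, .bwd 9284],
   .loop (some (2, 0)) [.fwd 20778, .bwd 23100, .fwd 5657],
   .loop (some (3, 1)) [.bwd 5659, .bwd 5658, .fwd 23103],
   .loop (some (10, 2)) [.bwd 23103, .bwd 9480, .bwd 9283],
   .loop (some (4, 1)) [.fwd 20777, .fwd 23104, .fwd 5660],
   .loop (some (3, 0)) [.fwd 20775, .fwd 20776, .bwd 23106],
   .loop (some (13, 2)) [.bwd 23106, .bwd 9487, .fwd 9281],
   .loop (some (10, 2)) [.bwd 23107, .bwd 9487, .bwd 9280],
   .loop (some (2, 1)) [.fwd 20774, .bwd 23107, .fwd 5661, .fwd 9539],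
   .loop none [.bwd 23110],
   .loop none [.bwd 5875, .fwd 23111, .bwd 20773],
   .loop none [.fwd 23112],
   .loop none [.bwd 20774, .bwd 23111],
   .loop none [.fwd 20772, .bwd 23113],
   .loop (some (7, 0)) [.bwd 17435, .fwd 18142, .bwd 5664],
   .loop (some (6, 2)) [.fwd 5663, .fwd 23116, .fwd 18016],
   .loop (some (10, 2)) [.bwd 23012, .bwd 9494, .fwd 9275],
   .loop (some (2, 2)) [.bwd 5679, .fwd 13842, .bwd 20769],
   .loop (some (15, 0)) [.fwd 17979, .fwd 20067, .fwd 22931, .bwd 5679],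
   .loop (some (7, 2)) [.fwd 22931, .bwd 18134, .fwd 17979],
   .loop (some (3, 1)) [.bwd 5681, .bwd 5680, .bwd 23119],
   .loop (some (4, 2)) [.bwd 22849, .bwd 5680, .bwd 22931, .fwd 20068],
   .loop none [.fwd 23123],
   .loop none [.bwd 20069, .bwd 23124],
   .loop none [.bwd 19991, .fwd 23124, .bwd 20068],
   .loop none [.fwd 23126],
   .loop none [.bwd 22931, .bwd 23127],
   .loop none [.fwd 20067, .bwd 23127],
   .loop none [.fwd 23121, .bwd 23127],
   .loop none [.bwd 23044, .bwd 23127],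
   .loop (some (17, 3)) [.bwd 20070, .bwd 23125, .bwd 22849, .fwd 5681, .fwd 5682, .bwd 20628],
   .loop none [.fwd 23132],
   .loop none [.bwd 20628, .bwd 23133],
   .loop none [.fwd 20627, .bwd 23133],
   .loop none [.bwd 23047, .bwd 23133],
   .loop (some (11, 2)) [.bwd 22849, .bwd 9500, .bwd 20901],
   .loop (some (4, 1)) [.fwd 20768, .fwd 23122, .fwd 5682],
   .loop (some (2, 2)) [.bwd 5683, .bwd 23134, .fwd 20071],
   .loop (some (3, 2)) [.fwd 20767, .bwd 23138, .bwd 23134, .fwd 23135],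
   .loop none [.bwd 23140],
   .loop none [.bwd 20767, .bwd 23141],
   .loop none [.fwd 23135, .fwd 23141, .bwd 20766],
   .loop none [.fwd 23143],
   .loop none [.bwd 20071, .fwd 23144, .bwd 20765],
   .loop none [.fwd 23145],
   .loop none [.fwd 20764, .bwd 23146],
   .loop (some (3, 3)) [.bwd 5684, .bwd 23139, .fwd 20072, .fwd 20073],
   .loop none [.fwd 23148],
   .loop none [.bwd 5685, .fwd 23149, .bwd 20073],
   .loop none [.fwd 23150],
   .loop none [.bwd 20074, .bwd 23149],
   .loop none [.fwd 20072, .bwd 23151],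
   .loop (some (4, 1)) [.bwd 23147, .bwd 23153, .fwd 5686],
   .loop (some (3, 0)) [.fwd 20762, .fwd 20763, .bwd 23154],
   .loop (some (2, 0)) [.fwd 20761, .bwd 23155, .fwd 5687],
   .loop (some (3, 1)) [.bwd 5689, .bwd 5688, .fwd 23156],
   .loop (some (4, 1)) [.fwd 20760, .fwd 23157, .fwd 5690],
   .loop (some (3, 0)) [.fwd 20758, .fwd 20759, .bwd 23158],
   .loop (some (2, 0)) [.fwd 20757, .bwd 23159, .fwd 5691],
   .loop (some (3, 1)) [.bwd 5693, .bwd 5692, .fwd 23160],
   .loop (some (4, 1)) [.fwd 20756, .fwd 23161, .fwd 5694],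
   .loop (some (2, 0)) [.bwd 20753, .bwd 18250, .bwd 5695],
   .loop (some (15, 0)) [.bwd 11416, .bwd 16046, .bwd 18251, .bwd 5695],
   .loop (some (10, 2)) [.bwd 23163, .bwd 9517, .fwd 14913],
   .loop (some (17, 6)) [.fwd 5697, .fwd 5698, .fwd 11422, .fwd 14288, .fwd 21719, .fwd 21720],
   .loop none [.fwd 23166],
   .loop none [.fwd 21720, .bwd 23167],
   .loop none [.bwd 21721, .bwd 23167],
   .loop (some (2, 2)) [.bwd 23169, .fwd 5697, .fwd 11425],
   .loop (some (18, 2)) [.bwd 23162, .fwd 5695, .fwd 5696, .fwd 23169, .fwd 21722],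
   .loop (some (4, 1)) [.bwd 18251, .fwd 5696, .fwd 23168],
   .loop (some (11, 2)) [.bwd 23168, .bwd 9520, .fwd 14917],
   .loop (some (18, 2)) [.bwd 20754, .bwd 20753, .bwd 18466, .fwd 11425, .fwd 10746],
   .loop (some (8, 0)) [.bwd 22983, .bwd 11426, .bwd 5699],
   .loop (some (15, 0)) [.bwd 18467, .bwd 11425, .fwd 5698, .fwd 5699],
   .loop (some (20, 1)) [.bwd 22173, .bwd 22172, .fwd 14848, .bwd 17826, .fwd 17805, .fwd 11848, .bwd 11118, .fwd 8363, .fwd 23017],
   .loop none [.fwd 23177],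
   .loop none [.fwd 23017, .bwd 23178],
   .loop (some (18, 2)) [.bwd 20648, .fwd 22408, .bwd 20752, .fwd 22987, .fwd 5856, .fwd 5857],
   .loop none [.bwd 23180],
   .loop none [.bwd 5858, .fwd 23181, .fwd 22748],
   .loop none [.fwd 23182],
   .loop none [.fwd 5857, .fwd 23181, .fwd 20649],
   .loop none [.fwd 23184],
   .loop none [.bwd 21234, .bwd 23183],
   .loop none [.bwd 20650, .bwd 23185],
   .loop (some (13, 0)) [.fwd 20751, .fwd 22988, .fwd 22987],
   .loop (some (11, 1)) [.fwd 14245, .fwd 9059, .fwd 23188],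
   .loop (some (3, 1)) [.bwd 5858, .bwd 5857, .fwd 23187],
   .loop (some (4, 1)) [.bwd 20651, .fwd 23190, .fwd 5859],
   .loop (some (18, 2)) [.bwd 20653, .bwd 20652, .bwd 23191, .fwd 5860, .fwd 5861],
   .loop (some (15, 0)) [.fwd 8783, .bwd 23186, .fwd 5859, .fwd 5860],
   .loop (some (2, 1)) [.bwd 20654, .bwd 23192, .fwd 5862],
   .loop (some (15, 0)) [.bwd 20655, .bwd 23194, .fwd 5863, .fwd 5864],
   .loop (some (8, 0)) [.fwd 5494, .fwd 23117, .fwd 9536],
   .loop (some (17, 2)) [.bwd 21259, .bwd 14459, .bwd 11109, .fwd 5905, .fwd 5906],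
   .loop (some (15, 0)) [.fwd 22687, .bwd 3444, .bwd 3443, .fwd 8971],
   .loop (some (2, 2)) [.bwd 5907, .fwd 23197, .fwd 21260],
   .loop (some (3, 1)) [.fwd 11075, .bwd 11452, .fwd 23197],
   .loop (some (10, 2)) [.bwd 23197, .bwd 9543, .fwd 11847],
   .loop (some (3, 3)) [.bwd 5908, .bwd 23199, .fwd 21261, .fwd 21262],
   .loop none [.fwd 23202],
   .loop none [.bwd 5909, .fwd 23203, .bwd 21262],
   .loop none [.fwd 23204],
   .loop none [.fwd 21261, .bwd 23205],
   .loop (some (15, 0)) [.fwd 18400, .bwd 18150, .fwd 5910, .fwd 5911],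
   .loop (some (2, 2)) [.bwd 15091, .fwd 5921, .fwd 21782],
   .loop (some (20, 0)) [.fwd 22198, .fwd 21957, .bwd 19633, .bwd 18653, .bwd 12893, .bwd 8320, .fwd 8325, .fwd 9566],
   .loop (some (15, 0)) [.fwd 20126, .fwd 20127, .bwd 5801, .fwd 5935],
   .loop (some (3, 1)) [.bwd 19797, .bwd 19796, .fwd 14298],
   .loop (some (16, 2)) [.bwd 22472, .bwd 12012, .bwd 10900, .bwd 14305, .bwd 14115],
   .loop (some (16, 3)) [.fwd 14187, .bwd 10949, .fwd 13901, .fwd 14131, .fwd 22476],
   .loop (some (16, 3)) [.fwd 13716, .bwd 10958, .bwd 13886, .fwd 14146, .bwd 22518],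
   .loop (some (15, 0)) [.fwd 21742, .bwd 13359, .bwd 13358, .fwd 15215],
   .loop (some (10, 2)) [.fwd 13151, .bwd 10958, .bwd 21534, .fwd 21864],
   .loop none [.fwd 23216],
   .loop none [.fwd 21864, .bwd 23217],
   .loop none [.fwd 13247, .fwd 23217, .fwd 21865],
   .loop none [.fwd 23219],
   .loop none [.bwd 13248, .fwd 23220, .fwd 21866],
   .loop none [.fwd 23221],
   .loop none [.fwd 15327, .fwd 23222, .fwd 21867],
   .loop none [.fwd 23223],
   .loop none [.fwd 18293, .fwd 23224, .fwd 21868],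
   .loop none [.fwd 23225],
   .loop none [.bwd 21869, .bwd 23226],
   .loop (some (2, 2)) [.fwd 21753, .fwd 10960, .bwd 13174],
   .loop (some (15, 0)) [.fwd 21750, .fwd 21751, .fwd 21752, .fwd 21753],
   .loop (some (8, 2)) [.fwd 19546, .bwd 5989, .bwd 21753],
   .loop (some (15, 0)) [.fwd 21776, .fwd 21777, .fwd 21778, .fwd 19546],
   .loop (some (16, 3)) [.fwd 11704, .bwd 10953, .fwd 8717, .fwd 8716, .bwd 22456],
   .loop (some (3, 3)) [.bwd 18540, .bwd 11471, .fwd 22230, .fwd 22231],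
   .loop none [.fwd 23233],
   .loop none [.bwd 21960, .fwd 23234, .bwd 22231],
   .loop none [.fwd 23235],
   .loop none [.fwd 18538, .fwd 23234, .fwd 22232],
   .loop none [.fwd 23237],
   .loop none [.fwd 22230, .bwd 23236],
   .loop none [.bwd 22233, .bwd 23238],
   .loop (some (3, 3)) [.bwd 18550, .bwd 11470, .fwd 22199, .fwd 22200],
   .loop none [.fwd 23241],
   .loop none [.bwd 21930, .fwd 23242, .bwd 22200],
   .loop none [.fwd 23243],
   .loop none [.fwd 18545, .fwd 23242, .fwd 22201],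
   .loop none [.fwd 23245],
   .loop none [.fwd 22199, .bwd 23244],
   .loop none [.bwd 18503, .fwd 23246, .fwd 22202],
   .loop none [.fwd 23248]]

theorem just92_len : just92.length = 250 := by decide +kernel

theorem just92_ok : cert.okFacts 23000 just92 = true := by decide +kernel

/-- justifications -/
noncomputable def just93 : List Cert.Just :=
  [.loop none [.fwd 16128, .fwd 23249, .fwd 22203],
   .loop none [.fwd 23250],
   .loop none [.fwd 18509, .fwd 23251, .fwd 22204],
   .loop none [.fwd 23252],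
   .loop none [.fwd 21646, .fwd 23253, .fwd 22205],
   .loop none [.fwd 23254],
   .loop none [.fwd 21645, .fwd 23255, .fwd 22206],
   .loop none [.fwd 23256],
   .loop none [.bwd 22207, .bwd 23257],
   .loop (some (16, 3)) [.fwd 12009, .fwd 11469, .fwd 8724, .bwd 8726, .bwd 22464],
   .loop (some (3, 3)) [.bwd 18570, .bwd 11460, .fwd 22145, .fwd 22146],
   .loop none [.fwd 23260],
   .loop none [.bwd 21884, .fwd 23261, .bwd 22146],
   .loop none [.fwd 23262],
   .loop none [.fwd 18567, .fwd 23261, .fwd 22147],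
   .loop none [.fwd 23264],
   .loop none [.fwd 22145, .bwd 23263],
   .loop none [.bwd 22148, .bwd 23265],
   .loop (some (18, 3)) [.bwd 22120, .bwd 22119, .bwd 12181, .bwd 12162, .fwd 13589, .bwd 20010],
   .loop none [.bwd 23268],
   .loop none [.bwd 22121, .bwd 23269],
   .loop none [.fwd 22120, .bwd 23269],
   .loop (some (13, 2)) [.bwd 6189, .bwd 11272, .bwd 23247],
   .loop (some (16, 4)) [.fwd 8664, .fwd 8673, .bwd 8639, .bwd 22504, .fwd 22451],
   .loop (some (5, 3)) [.bwd 6182, .bwd 23273, .fwd 20486],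
   .loop (some (5, 3)) [.bwd 6184, .bwd 22726, .fwd 20488],
   .loop (some (1, 2)) [.fwd 6192, .bwd 23275, .bwd 20494],
   .loop (some (11, 2)) [.bwd 9068, .bwd 23272, .fwd 21931],
   .loop (some (15, 0)) [.fwd 8634, .fwd 22443, .fwd 22448, .bwd 9606],
   .loop (some (13, 1)) [.fwd 11271, .fwd 6377, .bwd 23277],
   .loop (some (15, 0)) [.bwd 18859, .bwd 10417, .bwd 10416, .fwd 8423],
   .loop (some (15, 0)) [.bwd 19425, .bwd 3303, .bwd 3302, .fwd 8878],
   .loop (some (18, 2)) [.bwd 21862, .fwd 12583, .bwd 11142, .fwd 6643, .fwd 6644],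
   .loop (some (20, 0)) [.bwd 21782, .fwd 5922, .fwd 5923, .fwd 10511, .fwd 10477, .bwd 10478, .bwd 6659, .bwd 6658],
   .loop (some (1, 2)) [.fwd 14395, .fwd 23283, .fwd 21783],
   .loop (some (2, 0)) [.bwd 22227, .fwd 10531, .bwd 6659],
   .loop (some (3, 2)) [.fwd 12251, .fwd 23285, .fwd 22228],
   .loop (some (10, 2)) [.bwd 23285, .bwd 9638, .fwd 11609],
   .loop (some (20, 0)) [.fwd 22226, .fwd 21987, .bwd 18814, .bwd 18663, .bwd 12933, .bwd 7671, .fwd 7582, .fwd 9571],
   .loop (some (5, 3)) [.bwd 23288, .bwd 9427, .fwd 14436, .fwd 22356],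
   .loop none [.fwd 23289],
   .loop none [.fwd 22356, .bwd 23290],
   .loop none [.fwd 22362, .bwd 23290],
   .loop (some (15, 0)) [.fwd 19014, .bwd 10583, .bwd 10582, .fwd 9248],
   .loop (some (15, 0)) [.bwd 22776, .bwd 4504, .bwd 4503, .fwd 9254],
   .loop (some (17, 5)) [.fwd 14543, .fwd 12880, .fwd 10379, .fwd 10380, .bwd 22196],
   .loop (some (4, 2)) [.bwd 6726, .bwd 23295, .bwd 22195],
   .loop (some (9, 2)) [.bwd 14408, .bwd 9672, .fwd 23283],
   .loop (some (15, 0)) [.bwd 22980, .fwd 22912, .fwd 10159, .bwd 7131],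
   .loop (some (15, 0)) [.bwd 19634, .bwd 4463, .bwd 4462, .fwd 9225],
   .loop (some (7, 2)) [.fwd 14271, .bwd 18648, .bwd 18760],
   .loop (some (20, 0)) [.bwd 21566, .fwd 6864, .fwd 6865, .fwd 10441, .bwd 10439, .bwd 10581, .bwd 6794, .bwd 6793],
   .loop (some (1, 2)) [.fwd 14415, .fwd 23301, .fwd 21567],
   .loop (some (9, 2)) [.bwd 23301, .bwd 11575, .fwd 11624],
   .loop (some (3, 2)) [.fwd 12291, .bwd 14276, .fwd 22143],
   .loop (some (15, 0)) [.fwd 18957, .bwd 10513, .bwd 10512, .fwd 8421],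
   .loop (some (15, 0)) [.bwd 22553, .bwd 4401, .bwd 4400, .fwd 9166],
   .loop (some (17, 3)) [.fwd 20405, .bwd 21174, .fwd 11594, .bwd 9943, .bwd 9942],
   .loop (some (4, 1)) [.bwd 22034, .bwd 6850, .fwd 21174],
   .loop (some (20, 0)) [.bwd 10188, .bwd 8321, .fwd 13238, .bwd 22038, .bwd 22037, .bwd 22036, .bwd 22035, .bwd 22034],
   .loop (some (2, 1)) [.fwd 21770, .fwd 18276, .fwd 6851],
   .loop (some (15, 0)) [.bwd 22328, .bwd 22327, .bwd 18658, .fwd 18276],
   .loop (some (11, 2)) [.fwd 14426, .bwd 9669, .bwd 23295],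
   .loop (some (11, 2)) [.fwd 14427, .bwd 9671, .bwd 23296],
   .loop (some (18, 2)) [.bwd 9933, .bwd 9932, .fwd 11607, .fwd 21566, .fwd 21567],
   .loop (some (15, 0)) [.fwd 18897, .bwd 10480, .bwd 10479, .bwd 11151],
   .loop (some (15, 0)) [.bwd 22783, .bwd 3401, .bwd 3400, .fwd 11190],
   .loop (some (18, 2)) [.bwd 21958, .fwd 17812, .fwd 11621, .fwd 9692, .fwd 9693],
   .loop (some (15, 0)) [.fwd 22390, .bwd 4573, .bwd 4572, .fwd 11103],
   .loop (some (15, 0)) [.bwd 22621, .bwd 12353, .bwd 12352, .bwd 9732],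
   .loop (some (17, 3)) [.bwd 20569, .fwd 20570, .fwd 9741, .fwd 9742, .fwd 14465],
   .loop (some (15, 0)) [.fwd 21161, .bwd 20563, .fwd 20094, .bwd 13813],
   .loop (some (0, 1)) [.fwd 14925, .fwd 23165],
   .loop (some (15, 0)) [.fwd 11518, .fwd 22983, .bwd 22979, .bwd 9755],
   .loop (some (7, 0)) [.fwd 5698, .fwd 23175, .bwd 22979],
   .loop (some (6, 2)) [.fwd 14907, .fwd 23324, .bwd 5697],
   .loop (some (18, 4)) [.bwd 14480, .fwd 9759, .fwd 9760, .bwd 16046, .bwd 23172],
   .loop (some (9, 1)) [.fwd 22853, .bwd 11640, .bwd 14457],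
   .loop (some (17, 3)) [.fwd 21880, .fwd 21881, .fwd 11654, .bwd 10560, .bwd 10559],
   .loop (some (4, 1)) [.bwd 18264, .bwd 9769, .bwd 21881],
   .loop (some (9, 3)) [.bwd 11652, .bwd 23309, .fwd 9623],
   .loop (some (17, 3)) [.fwd 22110, .bwd 18264, .fwd 9770, .fwd 9771, .fwd 11664],
   .loop (some (11, 2)) [.bwd 18264, .bwd 11657, .fwd 19311],
   .loop (some (4, 1)) [.fwd 22354, .bwd 17433, .fwd 9803],
   .loop (some (2, 2)) [.fwd 10316, .bwd 9804, .fwd 23011, .bwd 22351],
   .loop none [.fwd 23334],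
   .loop none [.fwd 11298, .fwd 23335, .bwd 22350],
   .loop none [.fwd 23336],
   .loop none [.bwd 22351, .bwd 23335],
   .loop none [.fwd 9279, .fwd 23337, .bwd 22349],
   .loop none [.fwd 23339],
   .loop none [.bwd 9278, .fwd 23340, .bwd 22348],
   .loop none [.fwd 23341],
   .loop none [.fwd 22347, .bwd 23342],
   .loop (some (0, 0)) [.fwd 22331, .fwd 14495],
   .loop (some (11, 2)) [.bwd 9811, .bwd 14495, .bwd 22038],
   .loop (some (15, 0)) [.fwd 21881, .bwd 9768, .bwd 9767, .fwd 11648],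
   .loop (some (12, 2)) [.bwd 9812, .bwd 23345, .bwd 22037],
   .loop (some (17, 5)) [.fwd 9826, .fwd 9827, .bwd 14199, .bwd 22798, .bwd 22765],
   .loop (some (7, 1)) [.fwd 20732, .fwd 23348, .fwd 22460],
   .loop (some (2, 3)) [.fwd 9826, .bwd 12247, .bwd 23213],
   .loop (some (8, 1)) [.fwd 20459, .fwd 23350, .fwd 22459],
   .loop (some (0, 1)) [.bwd 22461, .fwd 22466],
   .loop (some (1, 2)) [.bwd 14203, .fwd 11703, .bwd 23239],
   .loop (some (9, 2)) [.fwd 22379, .fwd 11432, .bwd 14005],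
   .loop (some (1, 0)) [.fwd 22367, .bwd 18269, .bwd 9929],
   .loop (some (2, 1)) [.bwd 21568, .fwd 23314, .fwd 9934],
   .loop (some (15, 0)) [.bwd 21569, .bwd 23356, .fwd 9935, .fwd 9936],
   .loop (some (4, 0)) [.fwd 20404, .bwd 23307, .bwd 9941],
   .loop (some (20, 3)) [.bwd 21339, .fwd 18631, .fwd 15279, .bwd 15055, .fwd 14635, .bwd 14631, .bwd 15046, .fwd 15040],
   .loop (some (2, 3)) [.fwd 9946, .bwd 18275, .bwd 21699],
   .loop (some (18, 1)) [.bwd 23310, .bwd 11595, .fwd 9944, .fwd 9945, .bwd 23360],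
   .loop (some (15, 0)) [.bwd 22197, .fwd 14025, .fwd 18610, .fwd 18275],
   .loop (some (4, 1)) [.bwd 21506, .bwd 15398, .bwd 14562],
   .loop (some (4, 1)) [.bwd 21474, .bwd 15357, .bwd 14564],
   .loop (some (4, 1)) [.bwd 21418, .bwd 13642, .bwd 13736],
   .loop (some (18, 2)) [.bwd 21393, .bwd 21392, .bwd 12749, .bwd 13613, .fwd 16241],
   .loop (some (11, 2)) [.fwd 14571, .bwd 18291, .fwd 21506],
   .loop (some (18, 2)) [.bwd 20795, .bwd 20794, .bwd 16238, .bwd 14587, .fwd 15759],
   .loop (some (2, 2)) [.fwd 21684, .fwd 12583, .bwd 10094, .bwd 21716],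
   .loop none [.fwd 23369],
   .loop none [.bwd 21716, .bwd 23370],
   .loop (some (20, 4)) [.bwd 21870, .bwd 23227, .bwd 15850, .bwd 11774, .bwd 14590, .fwd 13781, .fwd 5062, .fwd 5063],
   .loop (some (8, 2)) [.bwd 19732, .bwd 10012, .fwd 17475],
   .loop (some (2, 1)) [.bwd 21535, .bwd 17146, .bwd 11043],
   .loop (some (20, 2)) [.bwd 21808, .fwd 12707, .bwd 12736, .bwd 14558, .fwd 10078, .bwd 10038, .fwd 10043, .bwd 17706],
   .loop (some (18, 1)) [.fwd 22285, .bwd 17275, .fwd 10078, .fwd 10039, .fwd 23374],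
   .loop (some (15, 0)) [.bwd 12707, .fwd 21808, .bwd 23375, .fwd 17706],
   .loop (some (20, 6)) [.bwd 16782, .fwd 16182, .fwd 13753, .bwd 13538, .fwd 14633, .fwd 13549, .bwd 10086, .bwd 23371],
   .loop (some (20, 4)) [.bwd 19626, .fwd 19496, .bwd 18369, .bwd 11827, .bwd 14610, .bwd 15055, .fwd 14635, .bwd 23360],
   .loop (some (15, 0)) [.fwd 19465, .bwd 18371, .bwd 11810, .fwd 11807],
   .loop (some (15, 0)) [.fwd 19541, .bwd 18368, .fwd 11823, .fwd 11833],
   .loop (some (8, 1)) [.fwd 22071, .bwd 10092, .fwd 10081],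
   .loop (some (12, 1)) [.fwd 22082, .bwd 10092, .bwd 11838],
   .loop (some (8, 2)) [.bwd 22072, .bwd 23382, .bwd 11842, .bwd 23360],
   .loop none [.bwd 23384],
   .loop none [.bwd 23361, .fwd 23385, .bwd 21715],
   .loop none [.bwd 23386],
   .loop none [.fwd 23310, .bwd 23387],
   .loop (some (2, 3)) [.bwd 11792, .fwd 18277, .bwd 21690],
   .loop (some (7, 1)) [.fwd 16918, .fwd 13761, .bwd 22071],
   .loop (some (11, 1)) [.fwd 18627, .fwd 13761, .bwd 22082],
   .loop (some (15, 0)) [.fwd 14288, .bwd 14517, .bwd 22980, .fwd 22912],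
   .loop (some (17, 3)) [.fwd 21984, .fwd 21985, .fwd 11886, .bwd 10524, .bwd 10523],
   .loop (some (15, 0)) [.fwd 22256, .fwd 22229, .fwd 10162, .fwd 10163],
   .loop (some (6, 2)) [.bwd 10165, .bwd 18674, .bwd 5020],
   .loop (some (7, 2)) [.bwd 10166, .bwd 23395, .fwd 17673],
   .loop (some (17, 3)) [.fwd 21954, .fwd 21955, .fwd 11067, .bwd 10491, .bwd 10490],
   .loop (some (4, 1)) [.bwd 19311, .bwd 10189, .bwd 21955],
   .loop (some (15, 0)) [.fwd 22038, .bwd 13238, .fwd 8321, .fwd 10188],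
   .loop (some (15, 0)) [.fwd 9754, .fwd 9755, .fwd 22979, .bwd 22983],
   .loop (some (12, 2)) [.bwd 11962, .bwd 11078, .bwd 22229],
   .loop (some (17, 3)) [.fwd 21926, .fwd 21927, .fwd 11851, .bwd 10428, .bwd 10427],
   .loop (some (11, 2)) [.bwd 18445, .bwd 11890, .fwd 19272],
   .loop (some (9, 2)) [.fwd 22142, .bwd 11077, .bwd 22118],
   .loop (some (17, 3)) [.fwd 21908, .fwd 21909, .fwd 11930, .bwd 10454, .bwd 10453],
   .loop (some (6, 2)) [.bwd 11930, .bwd 18416, .fwd 20213],
   .loop (some (15, 0)) [.fwd 22171, .fwd 22144, .fwd 10245, .fwd 10246],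
   .loop (some (13, 2)) [.bwd 10295, .bwd 14684, .fwd 22332],
   .loop (some (12, 1)) [.fwd 23272, .bwd 11487, .bwd 23408],
   .loop (some (10, 2)) [.fwd 19548, .bwd 10296, .bwd 23408, .fwd 22333],
   .loop none [.fwd 23410],
   .loop none [.bwd 22041, .fwd 23411, .bwd 22333],
   .loop none [.fwd 23412],
   .loop none [.bwd 22334, .bwd 23411],
   .loop none [.bwd 23409, .bwd 23413],
   .loop none [.fwd 22332, .bwd 23413],
   .loop (some (11, 2)) [.bwd 10297, .bwd 19548, .fwd 23414],
   .loop (some (12, 2)) [.bwd 10298, .bwd 23417, .fwd 22335],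
   .loop (some (13, 2)) [.bwd 10299, .bwd 23418, .fwd 22336],
   .loop (some (10, 2)) [.bwd 10300, .bwd 23419, .fwd 22337],
   .loop (some (11, 2)) [.bwd 10301, .bwd 23420, .fwd 22338],
   .loop (some (12, 2)) [.bwd 10302, .bwd 23421, .fwd 22339],
   .loop (some (13, 2)) [.bwd 10303, .bwd 23422, .fwd 22340],
   .loop (some (10, 2)) [.bwd 10304, .bwd 23423, .fwd 22341],
   .loop (some (11, 2)) [.bwd 10305, .bwd 23424, .fwd 22342],
   .loop (some (12, 2)) [.bwd 10306, .bwd 23425, .fwd 22343],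
   .loop (some (13, 2)) [.bwd 10307, .bwd 23426, .fwd 22344],
   .loop (some (10, 2)) [.bwd 10308, .bwd 23427, .fwd 22345],
   .loop (some (11, 2)) [.bwd 10309, .bwd 23428, .fwd 22346],
   .loop (some (12, 3)) [.bwd 10310, .bwd 23429, .bwd 23343, .fwd 9492],
   .loop none [.bwd 23430],
   .loop none [.fwd 10310, .bwd 23431],
   .loop none [.bwd 9528, .fwd 23431, .fwd 10311],
   .loop none [.fwd 23433],
   .loop none [.fwd 9539, .fwd 23434, .fwd 10312],
   .loop none [.fwd 23435],
   .loop none [.bwd 10313, .bwd 23436],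
   .loop (some (15, 0)) [.bwd 9325, .bwd 5665, .bwd 5664, .fwd 23432],
   .loop (some (12, 0)) [.fwd 23338, .fwd 23042, .bwd 10314],
   .loop (some (0, 0)) [.fwd 23041, .bwd 23439],
   .loop (some (15, 0)) [.fwd 5660, .fwd 5661, .fwd 23437, .fwd 10314],
   .loop (some (15, 0)) [.bwd 16401, .bwd 18594, .fwd 12852, .fwd 10867],
   .loop (some (11, 2)) [.bwd 10380, .bwd 23401, .bwd 22256],
   .loop (some (15, 0)) [.fwd 21927, .bwd 10217, .bwd 10216, .fwd 11962],
   .loop (some (13, 0)) [.bwd 20480, .bwd 12008, .bwd 10394],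
   .loop (some (7, 1)) [.fwd 20735, .bwd 22471, .bwd 20467],
   .loop (some (8, 3)) [.fwd 11261, .bwd 20462, .fwd 20456],
   .loop (some (2, 2)) [.fwd 12286, .bwd 10395, .bwd 23447],
   .loop (some (4, 0)) [.fwd 21925, .bwd 23402, .bwd 10426],
   .loop (some (8, 0)) [.bwd 21294, .fwd 17757, .bwd 10429],
   .loop (some (5, 2)) [.bwd 21591, .bwd 17757, .bwd 21417],
   .loop (some (14, 2)) [.fwd 21607, .fwd 21556, .fwd 21501, .bwd 11065, .bwd 21688],
   .loop none [.fwd 23452],
   .loop none [.fwd 21687, .bwd 23453],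
   .loop none [.bwd 21688, .bwd 23453],
   .loop (some (4, 0)) [.fwd 21907, .bwd 23405, .bwd 10452],
   .loop (some (7, 0)) [.bwd 20214, .fwd 23406, .bwd 10454],
   .loop (some (8, 2)) [.fwd 23406, .fwd 10455, .bwd 17719, .fwd 21292],
   .loop none [.fwd 23458],
   .loop none [.fwd 20213, .fwd 23459, .fwd 21098],
   .loop none [.fwd 23460],
   .loop none [.bwd 20214, .fwd 23459, .bwd 21470],
   .loop none [.fwd 23462],
   .loop none [.fwd 21292, .bwd 23459],
   .loop none [.bwd 21743, .bwd 23459],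
   .loop none [.fwd 16421, .fwd 23461, .fwd 21099],
   .loop none [.fwd 23466],
   .loop none [.fwd 21469, .bwd 23463],
   .loop none [.bwd 21100, .bwd 23467],
   .loop (some (18, 1)) [.bwd 21933, .bwd 21932, .fwd 23279, .bwd 10503, .fwd 11232, .fwd 10471],
   .loop none [.bwd 23470],
   .loop none [.bwd 19208, .fwd 23471, .fwd 21934],
   .loop none [.fwd 23472],
   .loop none [.fwd 21933, .bwd 23471],
   .loop none [.bwd 19205, .fwd 23473, .fwd 21935],
   .loop none [.fwd 23475],
   .loop none [.fwd 16484, .fwd 23476, .fwd 21936],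
   .loop none [.fwd 23477],
   .loop none [.bwd 21504, .fwd 23478, .fwd 21937],
   .loop none [.fwd 23479],
   .loop none [.bwd 21938, .bwd 23480],
   .loop (some (1, 2)) [.bwd 23474, .fwd 12020, .bwd 14202],
   .loop (some (13, 2)) [.bwd 23474, .fwd 12024, .bwd 18425],
   .loop (some (4, 3)) [.bwd 23474, .fwd 10472, .bwd 23239, .fwd 21961],
   .loop none [.fwd 23484],
   .loop none [.fwd 21961, .bwd 23485],
   .loop none [.fwd 21932, .fwd 23485, .fwd 21962],
   .loop none [.fwd 23487],
   .loop none [.bwd 23279, .fwd 23488, .fwd 21963],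
   .loop none [.fwd 23489],
   .loop none [.bwd 19298, .fwd 23490, .fwd 21964],
   .loop none [.fwd 23491],
   .loop none [.bwd 19257, .fwd 23492, .fwd 21965],
   .loop none [.fwd 23493],
   .loop none [.fwd 16438, .fwd 23494, .fwd 21966],
   .loop none [.fwd 23495],
   .loop none [.bwd 17726, .fwd 23496, .fwd 21967],
   .loop none [.fwd 23497],
   .loop none [.bwd 17737, .fwd 23498, .fwd 21968]]

theorem just93_len : just93.length = 250 := by decide +kernel

theorem just93_ok : cert.okFacts 23250 just93 = true := by decide +kernel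

/-- justifications -/
noncomputable def just94 : List Cert.Just :=
  [.loop none [.fwd 23499],
   .loop none [.bwd 13709, .fwd 23500, .fwd 21969],
   .loop none [.fwd 23501],
   .loop none [.fwd 15360, .fwd 23502, .fwd 21970],
   .loop none [.fwd 23503],
   .loop none [.fwd 15359, .fwd 23504, .fwd 21971],
   .loop none [.fwd 23505],
   .loop none [.bwd 18892, .fwd 23506, .fwd 21972],
   .loop none [.fwd 23507],
   .loop none [.bwd 21973, .bwd 23508],
   .loop (some (8, 0)) [.bwd 19957, .fwd 22622, .fwd 10480],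
   .loop (some (4, 0)) [.fwd 21953, .bwd 23397, .bwd 10489],
   .loop (some (15, 0)) [.fwd 21778, .fwd 19546, .fwd 8304, .fwd 10864],
   .loop (some (4, 0)) [.fwd 21983, .bwd 23393, .bwd 10522],
   .loop (some (19, 2)) [.bwd 21388, .bwd 21473, .bwd 21472, .bwd 21562, .bwd 21561, .bwd 23455, .fwd 23454],
   .loop none [.fwd 23514],
   .loop none [.bwd 21389, .fwd 23515, .bwd 21686],
   .loop none [.fwd 23516],
   .loop none [.fwd 21685, .bwd 23517],
   .loop (some (2, 2)) [.fwd 12258, .bwd 22475, .fwd 23351],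
   .loop (some (4, 2)) [.bwd 23328, .bwd 10558, .fwd 23331, .bwd 22109],
   .loop none [.fwd 23520],
   .loop none [.fwd 21879, .fwd 23521, .fwd 22109],
   .loop none [.fwd 23522],
   .loop none [.bwd 22110, .bwd 23523],
   .loop none [.fwd 23331, .bwd 23523],
   .loop (some (11, 2)) [.fwd 23525, .bwd 12046, .fwd 23511],
   .loop (some (4, 3)) [.bwd 18450, .fwd 10573, .bwd 23266, .fwd 21885],
   .loop none [.fwd 23527],
   .loop none [.fwd 16564, .fwd 23528, .fwd 21886],
   .loop none [.fwd 23529],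
   .loop none [.bwd 18425, .fwd 23530, .fwd 21887],
   .loop none [.fwd 23531],
   .loop none [.bwd 19145, .fwd 23532, .fwd 21888],
   .loop none [.fwd 23533],
   .loop none [.bwd 19139, .fwd 23534, .fwd 21889],
   .loop none [.fwd 23535],
   .loop none [.fwd 15476, .fwd 23536, .fwd 21890],
   .loop none [.fwd 23537],
   .loop none [.bwd 5987, .fwd 23538, .fwd 21891],
   .loop none [.fwd 23539],
   .loop none [.bwd 10958, .fwd 23540, .fwd 21892],
   .loop none [.fwd 23541],
   .loop none [.bwd 10957, .fwd 23542, .fwd 21893],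
   .loop none [.fwd 23543],
   .loop none [.fwd 13059, .fwd 23544, .fwd 21894],
   .loop none [.fwd 23545],
   .loop none [.fwd 13058, .fwd 23546, .fwd 21895],
   .loop none [.fwd 23547],
   .loop none [.fwd 18729, .fwd 23548, .fwd 21896],
   .loop none [.fwd 23549],
   .loop none [.bwd 21897, .bwd 23550],
   .loop (some (15, 0)) [.fwd 22702, .fwd 16584, .bwd 18459, .bwd 10591],
   .loop (some (13, 2)) [.bwd 10643, .bwd 23322, .fwd 20754],
   .loop (some (0, 1)) [.fwd 23553, .fwd 14923],
   .loop (some (13, 2)) [.bwd 10655, .bwd 23136, .fwd 23135],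
   .loop (some (11, 2)) [.bwd 18133, .bwd 23136, .bwd 20070],
   .loop (some (0, 1)) [.fwd 23555, .bwd 19669],
   .loop (some (10, 2)) [.bwd 10656, .bwd 23555, .fwd 23142],
   .loop (some (15, 0)) [.fwd 19735, .fwd 19736, .fwd 10657, .fwd 10658],
   .loop (some (3, 3)) [.bwd 10746, .fwd 23170, .fwd 21722, .fwd 21723],
   .loop none [.fwd 23560],
   .loop none [.bwd 10747, .fwd 23561, .bwd 21723],
   .loop none [.fwd 23562],
   .loop none [.bwd 21724, .bwd 23561],
   .loop none [.bwd 23171, .bwd 23563],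
   .loop none [.fwd 21722, .bwd 23563],
   .loop (some (12, 0)) [.fwd 14924, .fwd 23554, .bwd 23174],
   .loop (some (11, 2)) [.bwd 23564, .fwd 23567, .fwd 12462],
   .loop (some (15, 0)) [.bwd 20756, .bwd 23565, .fwd 10748, .fwd 10749],
   .loop (some (12, 2)) [.fwd 13114, .bwd 13151, .bwd 21365],
   .loop (some (3, 2)) [.bwd 13001, .fwd 12493, .fwd 20686],
   .loop (some (15, 0)) [.bwd 15450, .fwd 16187, .bwd 18469, .bwd 12510],
   .loop (some (1, 0)) [.fwd 21587, .bwd 18721, .bwd 18476],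
   .loop (some (4, 1)) [.bwd 20420, .bwd 12104, .fwd 18477],
   .loop (some (20, 0)) [.bwd 13115, .bwd 7739, .fwd 13123, .bwd 16008, .bwd 22013, .bwd 22261, .bwd 12107, .bwd 12106],
   .loop (some (1, 2)) [.bwd 18486, .fwd 23575, .bwd 15717],
   .loop (some (20, 0)) [.bwd 21989, .bwd 21988, .bwd 15686, .bwd 15685, .fwd 19103, .fwd 16199, .bwd 18485, .fwd 12106],
   .loop (some (15, 0)) [.bwd 16008, .bwd 22013, .bwd 22261, .bwd 12107],
   .loop (some (20, 0)) [.fwd 21989, .fwd 15743, .bwd 13115, .bwd 7739, .fwd 13123, .bwd 16008, .bwd 22013, .bwd 22261],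
   .loop (some (15, 0)) [.fwd 18835, .bwd 15255, .fwd 14774, .bwd 12123],
   .loop (some (17, 3)) [.bwd 22768, .fwd 23189, .bwd 14206, .fwd 14207, .bwd 22470],
   .loop (some (15, 0)) [.fwd 22716, .bwd 9048, .fwd 14207, .fwd 12133],
   .loop (some (17, 0)) [.fwd 22170, .fwd 22171, .fwd 23304, .bwd 12834, .bwd 15134, .bwd 14271],
   .loop none [.bwd 23583],
   .loop none [.bwd 22170, .bwd 23584],
   .loop none [.bwd 12146, .fwd 23584, .bwd 22169],
   .loop none [.fwd 23586],
   .loop none [.fwd 22168, .bwd 23587],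
   .loop (some (6, 2)) [.bwd 23585, .bwd 23300, .fwd 15880],
   .loop (some (3, 1)) [.bwd 12147, .bwd 12146, .fwd 23585],
   .loop (some (12, 2)) [.bwd 23588, .bwd 14796, .bwd 22139],
   .loop (some (3, 3)) [.bwd 13589, .fwd 13571, .fwd 21391, .fwd 21910],
   .loop none [.fwd 23592],
   .loop none [.fwd 21910, .bwd 23593],
   .loop none [.bwd 13590, .fwd 23593, .fwd 21911],
   .loop none [.fwd 23595],
   .loop none [.fwd 13585, .fwd 23596, .fwd 21912],
   .loop none [.fwd 23597],
   .loop none [.fwd 13584, .fwd 23598, .fwd 21913],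
   .loop none [.fwd 23599],
   .loop none [.fwd 18279, .fwd 23600, .fwd 21914],
   .loop none [.fwd 23601],
   .loop none [.fwd 16267, .fwd 23602, .fwd 21915],
   .loop none [.fwd 23603],
   .loop none [.bwd 21916, .bwd 23604],
   .loop (some (5, 3)) [.bwd 12151, .fwd 18490, .fwd 20675],
   .loop (some (18, 4)) [.bwd 13648, .bwd 14802, .fwd 15810, .fwd 23267, .fwd 22149],
   .loop (some (5, 3)) [.bwd 15504, .bwd 12152, .bwd 23606, .fwd 20676],
   .loop none [.fwd 23608],
   .loop none [.bwd 20677, .bwd 23609],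
   .loop none [.fwd 20676, .bwd 23609],
   .loop (some (18, 4)) [.fwd 21365, .bwd 13696, .fwd 14814, .bwd 12172, .fwd 22174, .fwd 22175],
   .loop none [.fwd 23612],
   .loop none [.bwd 22176, .bwd 23613],
   .loop none [.fwd 22175, .bwd 23613],
   .loop (some (18, 4)) [.bwd 15404, .fwd 14815, .fwd 15944, .fwd 23240, .fwd 22234],
   .loop (some (3, 3)) [.bwd 15404, .bwd 15396, .fwd 21504, .fwd 23481],
   .loop none [.fwd 23617],
   .loop none [.fwd 23481, .bwd 23618],
   .loop none [.bwd 15405, .fwd 23618, .fwd 21939],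
   .loop none [.fwd 23620],
   .loop none [.fwd 15401, .fwd 23621, .fwd 21940],
   .loop none [.fwd 23622],
   .loop none [.fwd 15400, .fwd 23623, .fwd 21941],
   .loop none [.fwd 23624],
   .loop none [.bwd 18952, .fwd 23625, .fwd 21942],
   .loop none [.fwd 23626],
   .loop none [.bwd 21943, .bwd 23627],
   .loop (some (10, 1)) [.fwd 21635, .fwd 17750, .bwd 15578],
   .loop (some (12, 2)) [.fwd 15601, .bwd 13725, .bwd 23607],
   .loop (some (6, 1)) [.fwd 20685, .bwd 15470, .bwd 15479],
   .loop (some (12, 2)) [.bwd 22174, .bwd 18562, .fwd 23240],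
   .loop (some (15, 0)) [.bwd 22449, .bwd 9604, .bwd 9595, .fwd 14365],
   .loop (some (15, 0)) [.fwd 22446, .bwd 9602, .fwd 9597, .fwd 14351],
   .loop (some (2, 3)) [.bwd 22119, .fwd 14154, .bwd 22521, .fwd 21044],
   .loop none [.bwd 23635],
   .loop none [.fwd 22119, .bwd 23636],
   .loop none [.fwd 23271, .bwd 23636],
   .loop (some (12, 2)) [.fwd 23637, .bwd 18214, .fwd 18503],
   .loop (some (12, 2)) [.fwd 22521, .bwd 18548, .bwd 19070],
   .loop (some (4, 3)) [.bwd 14390, .fwd 23211, .fwd 19798],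
   .loop (some (17, 3)) [.fwd 15173, .fwd 12960, .bwd 23286, .bwd 22256, .bwd 22255],
   .loop (some (15, 0)) [.bwd 9947, .bwd 18275, .bwd 18610, .bwd 14025],
   .loop (some (6, 1)) [.fwd 20458, .fwd 23519, .bwd 14707],
   .loop (some (17, 3)) [.bwd 23644, .bwd 12272, .bwd 14838, .bwd 12122, .bwd 12121],
   .loop (some (2, 1)) [.fwd 23259, .bwd 12273, .fwd 23644],
   .loop (some (15, 0)) [.fwd 11138, .fwd 18277, .fwd 18640, .bwd 14871],
   .loop (some (2, 1)) [.bwd 22402, .bwd 12346, .bwd 14052],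
   .loop (some (18, 1)) [.fwd 21322, .fwd 14759, .bwd 12510, .fwd 12302, .fwd 23648],
   .loop (some (7, 1)) [.fwd 20436, .bwd 12967, .bwd 13278],
   .loop (some (18, 4)) [.bwd 13280, .bwd 13271, .bwd 23641, .fwd 19799, .fwd 19800],
   .loop (some (4, 2)) [.bwd 13280, .fwd 12967, .fwd 20444],
   .loop (some (15, 0)) [.bwd 6666, .fwd 20582, .bwd 22621, .bwd 12353],
   .loop (some (15, 0)) [.bwd 10159, .bwd 22912, .fwd 22980, .fwd 14517],
   .loop (some (20, 6)) [.fwd 20698, .fwd 13824, .bwd 12666, .bwd 2550, .bwd 8741, .fwd 2608, .fwd 2663, .bwd 20687],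
   .loop (some (4, 2)) [.bwd 20686, .bwd 13824, .fwd 20694],
   .loop (some (15, 0)) [.bwd 4028, .bwd 20741, .bwd 23349, .fwd 20472],
   .loop (some (7, 2)) [.fwd 17176, .bwd 19693, .bwd 17219],
   .loop (some (15, 0)) [.bwd 22564, .bwd 4951, .bwd 4950, .bwd 14942],
   .loop (some (15, 0)) [.fwd 22193, .fwd 22194, .fwd 23296, .bwd 14406],
   .loop (some (17, 2)) [.fwd 23656, .fwd 23571, .fwd 13291, .bwd 13281, .bwd 23652],
   .loop (some (7, 1)) [.bwd 20679, .fwd 13291, .fwd 13267],
   .loop (some (2, 3)) [.fwd 13275, .bwd 13281, .bwd 23651, .fwd 19801],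
   .loop none [.fwd 23663],
   .loop none [.fwd 13319, .fwd 23664, .fwd 19802],
   .loop none [.fwd 23665],
   .loop none [.bwd 15512, .fwd 23666, .fwd 19803],
   .loop none [.fwd 23667],
   .loop none [.bwd 19804, .bwd 23668],
   .loop (some (15, 0)) [.bwd 22687, .bwd 15825, .bwd 19162, .bwd 13757],
   .loop (some (16, 5)) [.fwd 14950, .fwd 18285, .bwd 18298, .bwd 18479, .fwd 23573],
   .loop (some (17, 1)) [.fwd 18697, .bwd 14650, .fwd 12549, .fwd 12550, .bwd 23671],
   .loop (some (20, 4)) [.bwd 10136, .bwd 10135, .bwd 14651, .fwd 12550, .fwd 14950, .fwd 13057, .bwd 22839, .fwd 19887],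
   .loop (some (2, 2)) [.bwd 12551, .bwd 23671, .bwd 21586],
   .loop (some (3, 1)) [.bwd 12553, .bwd 12552, .bwd 23674],
   .loop (some (4, 1)) [.fwd 21585, .fwd 23675, .fwd 12554],
   .loop (some (3, 0)) [.fwd 21583, .fwd 21584, .bwd 23676],
   .loop (some (2, 0)) [.fwd 21582, .bwd 23677, .fwd 12555],
   .loop (some (3, 1)) [.bwd 12557, .bwd 12556, .fwd 23678],
   .loop (some (4, 1)) [.fwd 21581, .fwd 23679, .fwd 12558],
   .loop (some (3, 0)) [.fwd 21579, .fwd 21580, .bwd 23680],
   .loop (some (2, 0)) [.fwd 21578, .bwd 23681, .fwd 12559],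
   .loop (some (3, 1)) [.bwd 12561, .bwd 12560, .fwd 23682],
   .loop (some (4, 1)) [.fwd 21577, .fwd 23683, .fwd 12562],
   .loop (some (3, 0)) [.fwd 21575, .fwd 21576, .bwd 23684],
   .loop (some (2, 0)) [.fwd 21574, .bwd 23685, .fwd 12563],
   .loop (some (3, 1)) [.bwd 12565, .bwd 12564, .fwd 23686],
   .loop (some (4, 1)) [.fwd 21573, .fwd 23687, .fwd 12566],
   .loop (some (3, 0)) [.fwd 21571, .fwd 21572, .bwd 23688],
   .loop (some (2, 0)) [.fwd 21570, .bwd 23689, .fwd 12567],
   .loop (some (3, 2)) [.bwd 22117, .fwd 13953, .fwd 19434],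
   .loop (some (4, 2)) [.bwd 22117, .fwd 12582, .fwd 21862],
   .loop (some (15, 0)) [.bwd 22390, .bwd 16790, .bwd 16789, .fwd 19604],
   .loop (some (20, 6)) [.bwd 12595, .bwd 12594, .fwd 23482, .bwd 21932, .bwd 21931, .bwd 23415, .fwd 22042, .fwd 22043],
   .loop (some (4, 2)) [.bwd 12596, .bwd 23694, .fwd 22044],
   .loop (some (17, 3)) [.bwd 22046, .bwd 22045, .fwd 23695, .fwd 12597, .fwd 12598, .bwd 14508],
   .loop none [.bwd 23696],
   .loop none [.fwd 22046, .bwd 23697],
   .loop (some (20, 0)) [.fwd 16790, .fwd 22390, .bwd 4573, .bwd 4572, .fwd 11103, .fwd 10277, .bwd 12590, .bwd 12610],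
   .loop (some (15, 0)) [.fwd 9123, .fwd 22735, .fwd 22432, .fwd 14074],
   .loop (some (2, 2)) [.fwd 12698, .fwd 12682, .fwd 21808],
   .loop (some (5, 3)) [.bwd 12668, .fwd 7453, .fwd 20448],
   .loop (some (3, 3)) [.fwd 14996, .fwd 18630, .fwd 21657],
   .loop (some (4, 1)) [.bwd 21658, .fwd 23703, .fwd 14142],
   .loop (some (5, 3)) [.bwd 12669, .bwd 23702, .fwd 20449],
   .loop (some (5, 3)) [.bwd 18617, .bwd 12670, .bwd 23705, .fwd 20450],
   .loop none [.fwd 23706],
   .loop none [.bwd 20451, .bwd 23707],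
   .loop none [.fwd 20450, .bwd 23707],
   .loop (some (2, 3)) [.bwd 15018, .bwd 15022, .fwd 23359, .bwd 21278],
   .loop none [.fwd 23710],
   .loop none [.bwd 21278, .bwd 23711],
   .loop (some (20, 2)) [.fwd 20462, .fwd 8067, .bwd 4333, .fwd 8819, .fwd 2898, .bwd 12691, .fwd 12696, .bwd 20454],
   .loop (some (5, 1)) [.fwd 20693, .bwd 12696, .bwd 12690],
   .loop (some (2, 2)) [.fwd 20698, .fwd 13823, .fwd 13292],
   .loop (some (14, 2)) [.bwd 20448, .bwd 12680, .fwd 15029, .fwd 23708],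
   .loop (some (13, 2)) [.bwd 20694, .fwd 15029, .bwd 12120],
   .loop (some (5, 3)) [.bwd 12685, .bwd 7607, .fwd 20688],
   .loop (some (3, 3)) [.bwd 23701, .fwd 21809, .fwd 21810],
   .loop (some (13, 2)) [.fwd 23719, .fwd 15031, .bwd 12695],
   .loop (some (5, 3)) [.bwd 12686, .bwd 23718, .fwd 20689],
   .loop (some (5, 3)) [.bwd 12687, .bwd 23721, .fwd 20690],
   .loop (some (9, 2)) [.fwd 23722, .bwd 15024, .fwd 23714],
   .loop (some (5, 3)) [.bwd 12688, .bwd 23722, .fwd 20691],
   .loop (some (1, 2)) [.fwd 12695, .bwd 23724, .bwd 20697],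
   .loop (some (9, 2)) [.bwd 23714, .bwd 15017, .fwd 12696],
   .loop (some (7, 1)) [.fwd 20685, .bwd 17593, .bwd 20693],
   .loop (some (2, 2)) [.fwd 20454, .fwd 17592, .fwd 15645],
   .loop (some (6, 1)) [.fwd 20443, .bwd 17592, .bwd 20693],
   .loop (some (3, 2)) [.bwd 20452, .fwd 17592, .fwd 20437],
   .loop (some (0, 2)) [.fwd 23726, .fwd 23723],
   .loop (some (15, 0)) [.fwd 23375, .bwd 21808, .fwd 12707, .bwd 12736],
   .loop (some (20, 2)) [.fwd 19602, .bwd 18392, .bwd 18366, .bwd 11826, .fwd 11830, .bwd 14586, .fwd 14629, .bwd 23389],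
   .loop (some (15, 0)) [.bwd 20244, .bwd 20243, .bwd 20092, .bwd 14538],
   .loop (some (15, 0)) [.bwd 20235, .bwd 20234, .fwd 20548, .bwd 15058],
   .loop (some (15, 0)) [.bwd 20212, .bwd 20211, .bwd 20122, .bwd 14540],
   .loop (some (15, 0)) [.bwd 20188, .bwd 20187, .fwd 20542, .bwd 15060],
   .loop (some (20, 4)) [.bwd 19899, .fwd 15705, .bwd 13583, .bwd 13740, .bwd 13913, .fwd 13914, .fwd 9771, .fwd 9772],
   .loop (some (15, 0)) [.fwd 19425, .bwd 15870, .bwd 18264, .bwd 13924],
   .loop (some (15, 0)) [.bwd 23738, .bwd 9772, .bwd 9771, .bwd 13914],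
   .loop (some (2, 1)) [.bwd 22086, .fwd 14581, .fwd 12766],
   .loop (some (15, 0)) [.bwd 22087, .bwd 23741, .fwd 12767, .fwd 12768],
   .loop (some (7, 3)) [.fwd 14877, .bwd 18595, .fwd 20432],
   .loop (some (15, 0)) [.fwd 22776, .bwd 15732, .bwd 19175, .bwd 13932],
   .loop (some (1, 0)) [.bwd 23365, .bwd 13905, .bwd 14680],
   .loop (some (20, 4)) [.bwd 10250, .bwd 10249, .fwd 14679, .fwd 12810, .fwd 15101, .fwd 13643, .bwd 22685, .fwd 19836],
   .loop (some (20, 2)) [.bwd 16358, .bwd 16357, .fwd 19473, .fwd 12806, .fwd 12290, .bwd 12834, .bwd 23302, .fwd 23314],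
   .loop (some (15, 0)) [.fwd 19634, .bwd 15777, .bwd 18445, .bwd 13937],
   .loop (some (20, 4)) [.bwd 10221, .bwd 10220, .bwd 14670, .fwd 12856, .fwd 14958, .fwd 15326, .fwd 19854, .fwd 19855]]

theorem just94_len : just94.length = 250 := by decide +kernel

theorem just94_ok : cert.okFacts 23500 just94 = true := by decide +kernel

/-- justifications -/
noncomputable def just95 : List Cert.Just :=
  [.loop (some (6, 1)) [.fwd 22258, .bwd 13241, .bwd 13100],
   .loop (some (15, 0)) [.fwd 22553, .bwd 15959, .bwd 19311, .bwd 13942],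
   .loop (some (20, 4)) [.bwd 10192, .bwd 10191, .fwd 14663, .fwd 12896, .bwd 18281, .fwd 15358, .bwd 22620, .fwd 19957],
   .loop (some (3, 0)) [.fwd 21803, .bwd 15263, .bwd 15067],
   .loop (some (2, 0)) [.fwd 21802, .bwd 23753, .fwd 12897],
   .loop (some (3, 1)) [.bwd 12899, .bwd 12898, .fwd 23754],
   .loop (some (4, 1)) [.fwd 21801, .fwd 23755, .fwd 12900],
   .loop (some (3, 0)) [.fwd 21799, .fwd 21800, .bwd 23756],
   .loop (some (2, 0)) [.fwd 21798, .bwd 23757, .fwd 12901],
   .loop (some (3, 1)) [.bwd 12903, .bwd 12902, .fwd 23758],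
   .loop (some (4, 1)) [.fwd 21797, .fwd 23759, .fwd 12904],
   .loop (some (3, 0)) [.fwd 21795, .fwd 21796, .bwd 23760],
   .loop (some (2, 0)) [.fwd 21794, .bwd 23761, .fwd 12905],
   .loop (some (3, 1)) [.bwd 12907, .bwd 12906, .fwd 23762],
   .loop (some (4, 1)) [.fwd 21793, .fwd 23763, .fwd 12908],
   .loop (some (3, 0)) [.fwd 21791, .fwd 21792, .bwd 23764],
   .loop (some (2, 0)) [.fwd 21790, .bwd 23765, .fwd 12909],
   .loop (some (3, 1)) [.bwd 12911, .bwd 12910, .fwd 23766],
   .loop (some (4, 1)) [.fwd 21789, .fwd 23767, .fwd 12912],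
   .loop (some (3, 0)) [.fwd 21787, .fwd 21788, .bwd 23768],
   .loop (some (2, 0)) [.fwd 21786, .bwd 23769, .fwd 12913],
   .loop (some (3, 1)) [.bwd 12915, .bwd 12914, .fwd 23770],
   .loop (some (4, 1)) [.fwd 21785, .fwd 23771, .fwd 12916],
   .loop (some (15, 0)) [.fwd 22221, .bwd 22994, .fwd 11453, .fwd 15091],
   .loop (some (9, 2)) [.bwd 15182, .bwd 14873, .bwd 23302],
   .loop (some (7, 1)) [.fwd 20435, .bwd 23650, .bwd 14855],
   .loop (some (15, 0)) [.bwd 18824, .bwd 14984, .fwd 14852, .fwd 14831],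
   .loop (some (15, 0)) [.fwd 22783, .bwd 15917, .bwd 19272, .bwd 13944],
   .loop (some (20, 4)) [.bwd 10167, .bwd 10166, .fwd 14658, .fwd 12936, .fwd 18288, .fwd 15399, .fwd 21001, .fwd 19929],
   .loop (some (9, 2)) [.fwd 23284, .bwd 14862, .fwd 18273],
   .loop (some (7, 1)) [.fwd 20443, .bwd 15441, .bwd 15643],
   .loop (some (8, 2)) [.bwd 22327, .bwd 12993, .fwd 22289],
   .loop (some (2, 1)) [.bwd 5396, .fwd 14255, .bwd 23571],
   .loop (some (17, 3)) [.fwd 13035, .fwd 13036, .fwd 18530, .fwd 20571, .bwd 21735],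
   .loop (some (15, 0)) [.fwd 21565, .bwd 20572, .bwd 20571, .fwd 18529],
   .loop (some (4, 0)) [.fwd 21734, .fwd 23783, .bwd 13034],
   .loop (some (2, 2)) [.fwd 13181, .bwd 13183, .bwd 22294],
   .loop (some (4, 1)) [.fwd 13087, .bwd 13058, .bwd 22839],
   .loop (some (11, 2)) [.fwd 22839, .bwd 18730, .fwd 19854],
   .loop (some (6, 1)) [.fwd 22906, .bwd 13062, .fwd 16969],
   .loop (some (7, 1)) [.fwd 22895, .bwd 13063, .bwd 22906],
   .loop (some (9, 2)) [.fwd 21289, .bwd 13871, .bwd 13876],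
   .loop (some (6, 1)) [.fwd 22848, .fwd 22637, .bwd 22895],
   .loop (some (9, 2)) [.fwd 21120, .bwd 15204, .bwd 21146],
   .loop (some (8, 1)) [.fwd 22895, .fwd 13064, .bwd 21118],
   .loop (some (14, 2)) [.fwd 22894, .fwd 21118, .bwd 13843, .fwd 20284],
   .loop (some (9, 2)) [.fwd 21151, .bwd 13843, .bwd 20282],
   .loop (some (2, 2)) [.bwd 13076, .bwd 22939, .bwd 19895],
   .loop (some (17, 0)) [.fwd 23673, .fwd 11858, .bwd 10590, .bwd 10589, .fwd 18970],
   .loop (some (2, 2)) [.bwd 13084, .fwd 23798, .bwd 19887],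
   .loop (some (3, 3)) [.fwd 23798, .fwd 19888, .fwd 19889],
   .loop (some (15, 0)) [.fwd 22573, .fwd 15740, .bwd 18748, .bwd 13084],
   .loop (some (17, 4)) [.bwd 18748, .bwd 23799, .fwd 22839, .bwd 18729, .fwd 23551],
   .loop (some (10, 1)) [.fwd 23788, .fwd 23799, .bwd 18746],
   .loop (some (18, 2)) [.bwd 19888, .bwd 19887, .fwd 23787, .bwd 13154, .fwd 18332],
   .loop (some (7, 2)) [.bwd 23611, .bwd 15672, .fwd 13689, .bwd 21694],
   .loop none [.fwd 23805],
   .loop none [.bwd 21694, .bwd 23806],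
   .loop (some (17, 1)) [.bwd 23677, .bwd 12554, .bwd 12553, .fwd 14953, .bwd 15671],
   .loop (some (3, 3)) [.bwd 14750, .fwd 14749, .bwd 21533, .fwd 21990],
   .loop none [.fwd 23809],
   .loop none [.bwd 22263, .fwd 23810, .bwd 21990],
   .loop none [.bwd 23811],
   .loop none [.bwd 21991, .bwd 23810],
   .loop none [.bwd 22264, .bwd 23812],
   .loop (some (13, 2)) [.bwd 14750, .bwd 23570, .fwd 23615],
   .loop (some (10, 2)) [.bwd 14749, .bwd 23570, .fwd 23614],
   .loop (some (4, 1)) [.bwd 23551, .fwd 15717, .bwd 15743],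
   .loop (some (20, 0)) [.fwd 19103, .fwd 16199, .bwd 18485, .fwd 12106, .fwd 12107, .fwd 22261, .fwd 22013, .fwd 16008],
   .loop (some (1, 2)) [.bwd 13124, .fwd 23818, .fwd 19104],
   .loop (some (11, 2)) [.bwd 13126, .bwd 18737, .bwd 19986],
   .loop (some (18, 2)) [.bwd 19747, .fwd 22672, .bwd 18769, .fwd 13127, .fwd 13128],
   .loop (some (12, 2)) [.bwd 13127, .bwd 23820, .bwd 19985],
   .loop (some (10, 2)) [.bwd 18770, .bwd 23820, .bwd 20829],
   .loop (some (10, 2)) [.bwd 18771, .bwd 23822, .bwd 21386],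
   .loop (some (2, 1)) [.bwd 19748, .bwd 23821, .fwd 13129],
   .loop (some (18, 1)) [.fwd 20865, .bwd 16886, .bwd 16885, .fwd 18772, .fwd 23825],
   .loop (some (13, 0)) [.fwd 21385, .fwd 23824, .fwd 18772],
   .loop (some (17, 5)) [.fwd 18787, .bwd 16868, .bwd 16867, .fwd 21563, .bwd 21834],
   .loop (some (15, 0)) [.fwd 22284, .fwd 22285, .bwd 18396, .bwd 13147],
   .loop (some (2, 1)) [.bwd 23614, .fwd 21365, .fwd 23218],
   .loop (some (12, 2)) [.fwd 21365, .bwd 18502, .bwd 23616],
   .loop (some (3, 3)) [.bwd 22297, .fwd 23228, .fwd 22026, .fwd 22027],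
   .loop none [.bwd 23832],
   .loop none [.fwd 22027, .fwd 23833, .fwd 22298],
   .loop none [.fwd 23834],
   .loop none [.bwd 22299, .bwd 23835],
   .loop (some (7, 2)) [.fwd 22020, .bwd 13976, .bwd 15743],
   .loop (some (20, 0)) [.bwd 22289, .fwd 18681, .fwd 22015, .fwd 22016, .fwd 22017, .fwd 22018, .fwd 22019, .fwd 22020],
   .loop (some (3, 2)) [.bwd 21760, .bwd 21759, .fwd 13176, .fwd 13178],
   .loop none [.bwd 23839],
   .loop none [.fwd 21760, .bwd 23840],
   .loop (some (15, 0)) [.fwd 22031, .bwd 13194, .fwd 8322, .fwd 13175],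
   .loop (some (2, 2)) [.bwd 13179, .fwd 23841, .fwd 22292],
   .loop (some (17, 3)) [.fwd 13220, .fwd 13221, .bwd 23786, .bwd 22323, .bwd 22322],
   .loop (some (7, 2)) [.fwd 22031, .bwd 13945, .bwd 16008],
   .loop (some (20, 0)) [.bwd 22015, .bwd 18681, .fwd 22289, .fwd 22290, .fwd 22291, .fwd 22029, .fwd 22030, .fwd 22031],
   .loop (some (5, 2)) [.bwd 23846, .bwd 13945, .fwd 23818],
   .loop (some (3, 2)) [.bwd 13196, .bwd 13195, .fwd 21754, .fwd 21756],
   .loop none [.fwd 23848],
   .loop none [.bwd 21757, .bwd 23849],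
   .loop none [.fwd 21756, .bwd 23849],
   .loop (some (15, 0)) [.fwd 22020, .bwd 13175, .bwd 8322, .fwd 13194],
   .loop (some (4, 1)) [.fwd 21766, .bwd 23851, .fwd 13197],
   .loop (some (4, 0)) [.fwd 22321, .fwd 23844, .bwd 13219],
   .loop (some (12, 2)) [.bwd 13233, .bwd 23774, .fwd 23314],
   .loop (some (4, 3)) [.fwd 13236, .bwd 23416, .fwd 22042],
   .loop (some (7, 2)) [.fwd 22038, .bwd 13977, .bwd 22020],
   .loop (some (20, 0)) [.bwd 22327, .bwd 18658, .fwd 18276, .fwd 22034, .fwd 22035, .fwd 22036, .fwd 22037, .fwd 22038],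
   .loop (some (11, 2)) [.fwd 22038, .bwd 22331, .bwd 22171],
   .loop (some (15, 0)) [.fwd 21955, .bwd 10188, .bwd 8321, .fwd 13238],
   .loop (some (8, 1)) [.fwd 20436, .fwd 13292, .fwd 20439],
   .loop (some (3, 1)) [.bwd 13294, .bwd 13293, .fwd 23715],
   .loop (some (1, 0)) [.fwd 23719, .bwd 23718, .fwd 23862],
   .loop (some (9, 0)) [.fwd 23725, .fwd 23720, .bwd 23863],
   .loop (some (3, 1)) [.bwd 22086, .bwd 13582, .fwd 13581],
   .loop (some (5, 1)) [.bwd 22363, .fwd 16064, .fwd 13340],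
   .loop (some (0, 0)) [.fwd 23632, .fwd 23815],
   .loop (some (20, 0)) [.bwd 14149, .fwd 17764, .bwd 21655, .bwd 21682, .fwd 21741, .fwd 21742, .bwd 13359, .bwd 13358],
   .loop (some (4, 1)) [.bwd 23814, .fwd 21533, .fwd 13358],
   .loop (some (11, 2)) [.bwd 13358, .bwd 23816, .fwd 22177],
   .loop (some (9, 1)) [.fwd 18067, .bwd 23868, .bwd 23816],
   .loop (some (18, 2)) [.bwd 22266, .bwd 22265, .bwd 23869, .fwd 13359, .fwd 13360],
   .loop (some (3, 2)) [.bwd 23869, .bwd 21555, .bwd 21554],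
   .loop (some (12, 2)) [.bwd 13359, .bwd 23870, .fwd 22178],
   .loop (some (15, 0)) [.bwd 21682, .fwd 21741, .fwd 21742, .bwd 13359],
   .loop (some (13, 2)) [.bwd 13360, .bwd 23874, .fwd 22179],
   .loop (some (2, 1)) [.bwd 22267, .bwd 23872, .fwd 13361],
   .loop (some (10, 2)) [.bwd 13361, .bwd 23876, .fwd 22180],
   .loop (some (11, 2)) [.bwd 13362, .bwd 23878, .fwd 22181],
   .loop (some (12, 2)) [.bwd 13363, .bwd 23879, .fwd 22182],
   .loop (some (13, 2)) [.bwd 13364, .bwd 23880, .fwd 22183],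
   .loop (some (15, 0)) [.bwd 22268, .bwd 23877, .fwd 13362, .fwd 13363],
   .loop (some (10, 2)) [.bwd 13365, .bwd 23881, .fwd 22184],
   .loop (some (11, 2)) [.bwd 13366, .bwd 23883, .fwd 22185],
   .loop (some (12, 2)) [.bwd 13367, .bwd 23884, .fwd 22186],
   .loop (some (13, 2)) [.bwd 13368, .bwd 23885, .fwd 22187],
   .loop (some (10, 2)) [.bwd 13369, .bwd 23886, .fwd 22188],
   .loop (some (11, 2)) [.bwd 13370, .bwd 23887, .fwd 22189],
   .loop (some (12, 2)) [.bwd 13371, .bwd 23888, .fwd 22190],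
   .loop (some (13, 2)) [.bwd 13372, .bwd 23889, .fwd 22191],
   .loop (some (10, 2)) [.bwd 13373, .bwd 23890, .fwd 22192],
   .loop (some (11, 2)) [.bwd 13374, .bwd 23891, .fwd 22193],
   .loop (some (4, 1)) [.bwd 22924, .bwd 17417, .bwd 15889],
   .loop (some (4, 1)) [.bwd 22942, .bwd 17388, .fwd 17385],
   .loop (some (15, 0)) [.bwd 23372, .bwd 5063, .bwd 5062, .bwd 13781],
   .loop (some (15, 0)) [.fwd 20244, .fwd 11396, .bwd 14047, .bwd 14753],
   .loop (some (15, 0)) [.fwd 20235, .fwd 8477, .fwd 14297, .fwd 14897],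
   .loop (some (15, 0)) [.fwd 20188, .fwd 9497, .bwd 14400, .fwd 14299],
   .loop (some (20, 4)) [.fwd 23861, .bwd 23650, .bwd 14831, .bwd 14852, .bwd 18832, .bwd 19632, .bwd 18646, .bwd 15234],
   .loop (some (15, 0)) [.fwd 18949, .fwd 18945, .fwd 18839, .bwd 15256],
   .loop (some (20, 5)) [.fwd 23743, .bwd 14713, .bwd 14438, .fwd 17856, .bwd 19596, .fwd 18852, .bwd 18723, .fwd 23780],
   .loop (some (4, 2)) [.fwd 20088, .bwd 18835, .bwd 19759],
   .loop (some (13, 2)) [.bwd 16956, .bwd 18846, .bwd 19759],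
   .loop (some (13, 2)) [.bwd 16943, .bwd 18850, .bwd 22064],
   .loop (some (7, 2)) [.bwd 20266, .fwd 21249, .fwd 13513, .bwd 21180],
   .loop none [.fwd 23905],
   .loop none [.bwd 21180, .bwd 23906],
   .loop (some (15, 0)) [.bwd 19986, .bwd 19985, .bwd 19984, .bwd 19983],
   .loop (some (15, 0)) [.bwd 20020, .bwd 20019, .bwd 20018, .bwd 20017],
   .loop (some (15, 0)) [.bwd 19940, .bwd 20091, .fwd 20570, .fwd 13813],
   .loop (some (15, 0)) [.fwd 15040, .fwd 23359, .bwd 21339, .fwd 18631],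
   .loop (some (15, 0)) [.bwd 23378, .fwd 23371, .fwd 10086, .bwd 13549],
   .loop (some (15, 0)) [.bwd 23391, .bwd 23383, .bwd 14638, .fwd 14929],
   .loop (some (15, 0)) [.bwd 23379, .fwd 23360, .bwd 14635, .fwd 15055],
   .loop (some (15, 0)) [.bwd 23390, .bwd 23382, .bwd 14637, .fwd 14927],
   .loop (some (18, 2)) [.bwd 21508, .bwd 21507, .bwd 23363, .bwd 15435, .fwd 21706],
   .loop (some (18, 3)) [.bwd 21476, .bwd 21475, .bwd 23364, .bwd 15389, .fwd 17778, .fwd 21773],
   .loop none [.fwd 23917],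
   .loop none [.bwd 21774, .bwd 23918],
   .loop none [.fwd 21773, .bwd 23918],
   .loop (some (18, 2)) [.bwd 21448, .bwd 21447, .fwd 13559, .bwd 15348, .fwd 21697],
   .loop (some (18, 2)) [.bwd 21420, .bwd 21419, .bwd 23365, .fwd 13737, .fwd 21691],
   .loop (some (12, 2)) [.bwd 21447, .bwd 23367, .fwd 21507],
   .loop (some (4, 2)) [.bwd 22087, .bwd 23865, .fwd 15257, .fwd 13293],
   .loop none [.bwd 23924],
   .loop none [.fwd 22087, .bwd 23925],
   .loop none [.bwd 22088, .bwd 23925],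
   .loop none [.fwd 23742, .bwd 23925],
   .loop (some (3, 3)) [.fwd 13564, .fwd 15759, .fwd 20128],
   .loop (some (4, 2)) [.bwd 20129, .fwd 23929, .bwd 18576, .fwd 22368],
   .loop none [.fwd 23930],
   .loop none [.bwd 22369, .bwd 23931],
   .loop none [.fwd 22368, .bwd 23931],
   .loop (some (13, 2)) [.bwd 21391, .bwd 17709, .fwd 17726],
   .loop (some (15, 0)) [.fwd 20277, .fwd 20278, .bwd 7789, .fwd 14109],
   .loop (some (2, 2)) [.bwd 23270, .fwd 20010, .fwd 23594, .fwd 21042],
   .loop none [.bwd 23936],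
   .loop none [.bwd 22122, .bwd 23937],
   .loop (some (2, 2)) [.bwd 13597, .bwd 22930, .bwd 19907],
   .loop (some (17, 3)) [.fwd 9779, .fwd 11680, .bwd 15061, .bwd 23939, .bwd 19906, .bwd 19905],
   .loop none [.fwd 23940],
   .loop none [.fwd 9778, .fwd 23941, .fwd 19905],
   .loop none [.fwd 23942],
   .loop none [.bwd 19906, .bwd 23943],
   .loop (some (17, 0)) [.bwd 23738, .fwd 11666, .bwd 10556, .bwd 10555, .fwd 15294],
   .loop (some (15, 0)) [.fwd 22709, .fwd 15785, .fwd 18925, .bwd 13605],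
   .loop (some (18, 4)) [.bwd 15802, .fwd 15797, .fwd 23894, .fwd 20815, .fwd 20816],
   .loop (some (13, 2)) [.bwd 18456, .bwd 13885, .fwd 21391],
   .loop (some (15, 0)) [.bwd 23746, .bwd 19836, .fwd 22685, .bwd 13643],
   .loop (some (2, 1)) [.bwd 22150, .fwd 23607, .fwd 18493],
   .loop (some (2, 2)) [.bwd 16345, .fwd 13651, .bwd 20847],
   .loop (some (6, 1)) [.bwd 19981, .bwd 13651, .fwd 17063],
   .loop (some (14, 2)) [.bwd 22937, .fwd 22938, .bwd 13877, .fwd 19977],
   .loop (some (2, 2)) [.bwd 13665, .bwd 22910, .bwd 19844],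
   .loop (some (17, 3)) [.fwd 10257, .fwd 11995, .fwd 15300, .bwd 23954, .bwd 19843, .bwd 19842],
   .loop none [.fwd 23955],
   .loop none [.fwd 10256, .fwd 23956, .fwd 19842],
   .loop none [.fwd 23957],
   .loop none [.bwd 19843, .bwd 23958],
   .loop (some (17, 0)) [.fwd 23746, .fwd 11988, .bwd 10450, .bwd 10449, .fwd 15311],
   .loop (some (15, 0)) [.fwd 22703, .fwd 15833, .bwd 18941, .bwd 13673],
   .loop (some (7, 2)) [.fwd 18939, .fwd 15315, .bwd 23295],
   .loop (some (7, 3)) [.fwd 18754, .fwd 23899, .fwd 20440],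
   .loop (some (20, 7)) [.fwd 23963, .fwd 15321, .fwd 18945, .fwd 18839, .bwd 15256, .fwd 14863, .fwd 14719, .fwd 23775],
   .loop (some (11, 2)) [.fwd 23963, .bwd 18755, .fwd 23780],
   .loop (some (18, 4)) [.bwd 15848, .fwd 15840, .fwd 18309, .fwd 20831, .fwd 20832],
   .loop (some (11, 2)) [.bwd 19854, .bwd 18294, .fwd 21001],
   .loop (some (2, 2)) [.bwd 15334, .bwd 22793, .bwd 19863],
   .loop (some (17, 3)) [.fwd 10228, .fwd 11977, .fwd 18859, .bwd 23968, .bwd 19862, .bwd 19861],
   .loop none [.fwd 23969],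
   .loop none [.fwd 10227, .fwd 23970, .fwd 19861],
   .loop none [.fwd 23971],
   .loop none [.bwd 19862, .bwd 23972],
   .loop (some (17, 0)) [.fwd 23749, .fwd 11968, .bwd 10424, .bwd 10423, .fwd 18967],
   .loop (some (15, 0)) [.fwd 22568, .fwd 15878, .bwd 18986, .bwd 15342],
   .loop (some (10, 1)) [.fwd 23967, .bwd 23803, .fwd 18983],
   .loop (some (7, 3)) [.bwd 18753, .bwd 23963, .fwd 20441],
   .loop (some (20, 7)) [.fwd 23977, .fwd 15351, .fwd 18883, .fwd 18835, .bwd 15255, .fwd 14774, .bwd 12123, .bwd 12122],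
   .loop (some (18, 4)) [.bwd 16119, .bwd 15892, .fwd 15888, .fwd 23893, .fwd 20853, .fwd 20854],
   .loop none [.fwd 23979],
   .loop none [.bwd 20855, .bwd 23980],
   .loop none [.fwd 20854, .bwd 23980],
   .loop (some (16, 2)) [.bwd 23981, .bwd 19075, .fwd 15603, .bwd 18667, .fwd 12899],
   .loop (some (8, 1)) [.bwd 20367, .bwd 15363, .bwd 20242],
   .loop (some (14, 2)) [.fwd 20333, .fwd 20275, .fwd 20242, .bwd 17586, .bwd 21118],
   .loop none [.fwd 23985],
   .loop none [.bwd 23794, .bwd 23986],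
   .loop (some (15, 0)) [.fwd 20809, .fwd 20810, .bwd 17650, .bwd 15363],
   .loop (some (14, 2)) [.fwd 19970, .bwd 17675, .bwd 17647, .bwd 21156],
   .loop (some (2, 2)) [.bwd 15375, .bwd 22915, .bwd 19965],
   .loop (some (6, 2)) [.fwd 22915, .bwd 22916, .fwd 11937],
   .loop (some (17, 3)) [.fwd 10199, .fwd 11957, .bwd 18897, .bwd 23990, .bwd 19964, .bwd 19963],
   .loop none [.fwd 23992],
   .loop none [.fwd 10198, .fwd 23993, .fwd 19963],
   .loop none [.fwd 23994],
   .loop none [.bwd 19964, .bwd 23995],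
   .loop (some (17, 0)) [.fwd 23752, .fwd 11940, .bwd 10487, .bwd 10486, .fwd 18908],
   .loop (some (6, 0)) [.fwd 11957, .fwd 23510, .bwd 23997],
   .loop (some (15, 0)) [.fwd 22708, .fwd 15925, .bwd 19000, .bwd 15383]]

theorem just95_len : just95.length = 250 := by decide +kernel

theorem just95_ok : cert.okFacts 23750 just95 = true := by decide +kernel


end CfsgLib.ThCent.DX
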