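import Cfsg.Agent.Lib.ThCent.DXData

/-!
Justifications of the side facts (generated data).
-/

namespace CfsgLib.ThCent.DX

open CfsgLib.PresCert

set_option maxRecDepth 100000

/-- justifications -/
noncomputable def just96 : List Cert.Just :=
  [.loop (some (11, 2)) [.bwd 23780, .bwd 18728, .fwd 15441],
   .loop (some (13, 2)) [.bwd 21504, .bwd 17741, .fwd 5987],
   .loop (some (15, 0)) [.bwd 23778, .bwd 19929, .bwd 21001, .bwd 15399],
   .loop (some (17, 2)) [.bwd 19015, .fwd 23976, .bwd 21001, .fwd 18952, .fwd 23628],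
   .loop (some (7, 2)) [.bwd 21001, .bwd 19007, .fwd 10512],
   .loop (some (2, 1)) [.bwd 22235, .fwd 23616, .fwd 23619],
   .loop (some (2, 2)) [.bwd 16478, .fwd 15407, .bwd 20810],
   .loop (some (6, 1)) [.bwd 20062, .bwd 15407, .fwd 16993],
   .loop (some (2, 2)) [.bwd 15421, .bwd 22921, .bwd 19937],
   .loop (some (17, 3)) [.fwd 10174, .fwd 11920, .bwd 18957, .bwd 24008, .bwd 19936, .bwd 19935],
   .loop none [.fwd 24009],
   .loop none [.fwd 10173, .fwd 24010, .fwd 19935],
   .loop none [.fwd 24011],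
   .loop none [.bwd 19936, .bwd 24012],
   .loop (some (3, 1)) [.bwd 15423, .bwd 15422, .bwd 24008],
   .loop (some (17, 0)) [.fwd 23778, .fwd 11900, .bwd 10520, .bwd 10519, .fwd 18981],
   .loop (some (15, 0)) [.fwd 22574, .fwd 15967, .bwd 19015, .bwd 15429],
   .loop (some (6, 0)) [.fwd 11924, .fwd 24004, .bwd 23976],
   .loop (some (0, 2)) [.fwd 24000, .fwd 23965],
   .loop (some (10, 1)) [.fwd 23731, .fwd 17592, .bwd 24018],
   .loop (some (2, 3)) [.fwd 18990, .fwd 16119, .fwd 23981],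
   .loop (some (18, 1)) [.fwd 19758, .fwd 19759, .bwd 18883, .fwd 18930, .bwd 24020],
   .loop (some (12, 2)) [.bwd 16119, .bwd 16157, .bwd 23947],
   .loop (some (15, 0)) [.fwd 21598, .fwd 21599, .fwd 21600, .bwd 17752],
   .loop (some (12, 2)) [.bwd 17739, .bwd 18511, .fwd 23950],
   .loop (some (6, 1)) [.fwd 20684, .bwd 23631, .bwd 20678],
   .loop (some (11, 2)) [.bwd 17431, .bwd 23055, .bwd 20789],
   .loop (some (20, 0)) [.bwd 20900, .bwd 20899, .bwd 8198, .fwd 8197, .fwd 8048, .bwd 8058, .fwd 8059, .fwd 18052],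
   .loop (some (3, 2)) [.fwd 22010, .bwd 22998, .bwd 20892, .bwd 20891],
   .loop none [.bwd 24028],
   .loop none [.fwd 23000, .bwd 24029],
   .loop none [.bwd 20891, .fwd 24029, .bwd 22009],
   .loop none [.fwd 24031],
   .loop none [.fwd 22008, .bwd 24032],
   .loop (some (9, 1)) [.fwd 22946, .bwd 24027, .fwd 19027],
   .loop (some (10, 2)) [.fwd 20892, .fwd 19027, .fwd 15490],
   .loop (some (2, 0)) [.bwd 24033, .fwd 20892, .fwd 15488],
   .loop (some (3, 1)) [.bwd 15490, .bwd 15489, .fwd 24036],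
   .loop (some (10, 2)) [.bwd 24036, .bwd 23064, .fwd 21304],
   .loop (some (2, 1)) [.bwd 21304, .fwd 23033, .fwd 15490],
   .loop (some (9, 1)) [.fwd 23045, .bwd 24034, .bwd 23063],
   .loop (some (10, 2)) [.bwd 15490, .bwd 23063, .fwd 23036],
   .loop (some (18, 1)) [.fwd 20890, .fwd 20891, .fwd 24033, .fwd 24037, .fwd 24039],
   .loop (some (13, 1)) [.bwd 24042, .fwd 24038, .fwd 24037, .bwd 24041],
   .loop none [.fwd 24043],
   .loop none [.fwd 23036, .bwd 24044],
   .loop none [.fwd 20889, .fwd 24044, .fwd 21348],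
   .loop none [.fwd 24046],
   .loop none [.bwd 24041, .bwd 24044],
   .loop none [.bwd 21349, .bwd 24047],
   .loop (some (4, 2)) [.fwd 22007, .fwd 24037, .fwd 15491, .bwd 23076],
   .loop none [.bwd 24050],
   .loop none [.bwd 20666, .fwd 24051, .bwd 22006],
   .loop none [.fwd 24052],
   .loop none [.bwd 22007, .bwd 24051],
   .loop none [.bwd 23066, .fwd 24053, .bwd 22005],
   .loop none [.fwd 24055],
   .loop none [.bwd 23056, .fwd 24056, .bwd 22004],
   .loop none [.fwd 24057],
   .loop none [.fwd 22003, .bwd 24058],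
   .loop (some (11, 2)) [.bwd 15491, .bwd 24048, .bwd 20889],
   .loop (some (15, 0)) [.fwd 4584, .fwd 4585, .fwd 23022, .bwd 24039],
   .loop (some (2, 2)) [.bwd 15492, .fwd 23061, .fwd 23056],
   .loop (some (12, 2)) [.bwd 15492, .bwd 24060, .fwd 24049],
   .loop (some (13, 1)) [.bwd 4586, .fwd 23077, .fwd 23076, .bwd 24060],
   .loop none [.fwd 24064],
   .loop none [.bwd 4587, .fwd 24065, .bwd 20888],
   .loop none [.fwd 24066],
   .loop none [.bwd 20889, .bwd 24065],
   .loop none [.bwd 24049, .bwd 24065],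
   .loop none [.bwd 24060, .bwd 24065],
   .loop none [.fwd 9293, .fwd 24067, .bwd 20887],
   .loop none [.fwd 24071],
   .loop none [.bwd 5527, .fwd 24072, .bwd 20886],
   .loop none [.fwd 24073],
   .loop none [.fwd 20885, .bwd 24074],
   .loop (some (17, 3)) [.fwd 20662, .bwd 23074, .bwd 24062, .fwd 24059, .bwd 22002],
   .loop (some (6, 0)) [.fwd 9291, .fwd 23040, .fwd 24062],
   .loop (some (13, 2)) [.bwd 15493, .bwd 24063, .fwd 21350],
   .loop (some (15, 0)) [.fwd 23022, .bwd 24039, .fwd 15491, .fwd 15492],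
   .loop (some (12, 1)) [.fwd 9468, .bwd 23088, .bwd 24078],
   .loop (some (10, 2)) [.bwd 15494, .bwd 24078, .fwd 21351],
   .loop (some (12, 1)) [.fwd 9466, .bwd 23089, .bwd 24081],
   .loop (some (4, 1)) [.bwd 24059, .bwd 23090, .fwd 15495],
   .loop (some (11, 2)) [.bwd 15495, .bwd 24081, .fwd 21352],
   .loop (some (3, 0)) [.fwd 22001, .fwd 22002, .bwd 24083],
   .loop (some (12, 2)) [.bwd 15496, .bwd 24084, .fwd 21353],
   .loop (some (2, 0)) [.fwd 22000, .bwd 24085, .fwd 15496],
   .loop (some (3, 1)) [.bwd 15498, .bwd 15497, .fwd 24087],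
   .loop (some (13, 2)) [.bwd 15497, .bwd 24086, .fwd 21354],
   .loop (some (10, 2)) [.bwd 15498, .bwd 24089, .fwd 21355],
   .loop (some (4, 1)) [.fwd 21999, .fwd 24088, .fwd 15499],
   .loop (some (11, 2)) [.bwd 15499, .bwd 24090, .fwd 21356],
   .loop (some (3, 0)) [.fwd 21997, .fwd 21998, .bwd 24091],
   .loop (some (2, 0)) [.fwd 21996, .bwd 24093, .fwd 15500],
   .loop (some (3, 1)) [.bwd 15502, .bwd 15501, .fwd 24094],
   .loop (some (4, 1)) [.fwd 21995, .fwd 24095, .fwd 15503],
   .loop (some (3, 0)) [.fwd 21993, .fwd 21994, .bwd 24096],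
   .loop (some (1, 2)) [.bwd 23669, .fwd 19029, .fwd 9933],
   .loop (some (4, 2)) [.bwd 23669, .fwd 15513, .fwd 18535],
   .loop (some (4, 4)) [.fwd 15518, .fwd 9933, .fwd 23747, .fwd 16359],
   .loop none [.fwd 24100],
   .loop none [.bwd 16360, .bwd 24101],
   .loop none [.fwd 16359, .bwd 24101],
   .loop none [.fwd 19480, .bwd 24101],
   .loop (some (9, 1)) [.fwd 18719, .bwd 19035, .fwd 24104],
   .loop (some (10, 1)) [.fwd 21605, .fwd 16643, .bwd 16655],
   .loop (some (4, 1)) [.fwd 21639, .fwd 19056, .fwd 15552],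
   .loop (some (15, 0)) [.fwd 16101, .fwd 16102, .bwd 19058, .bwd 15573],
   .loop (some (13, 2)) [.bwd 16128, .bwd 23630, .bwd 22149],
   .loop (some (1, 2)) [.fwd 15901, .fwd 19075, .fwd 23982],
   .loop (some (4, 1)) [.bwd 23509, .fwd 15901, .bwd 15928],
   .loop (some (10, 2)) [.fwd 21647, .fwd 16703, .bwd 16719, .fwd 22820],
   .loop none [.bwd 24112],
   .loop none [.bwd 20195, .fwd 24113, .bwd 21442],
   .loop none [.fwd 24114],
   .loop none [.fwd 21294, .bwd 24113],
   .loop none [.bwd 21295, .bwd 24113],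
   .loop none [.fwd 23450, .bwd 24113],
   .loop none [.bwd 21647, .bwd 24113],
   .loop none [.fwd 21441, .bwd 24115],
   .loop (some (2, 2)) [.bwd 15613, .bwd 20431, .fwd 22884],
   .loop (some (3, 1)) [.bwd 15615, .bwd 15614, .bwd 24121],
   .loop (some (18, 1)) [.fwd 20429, .fwd 20430, .fwd 22884, .fwd 24122, .fwd 19090],
   .loop (some (4, 1)) [.fwd 21494, .fwd 24122, .fwd 15616],
   .loop (some (3, 0)) [.fwd 21492, .fwd 21493, .bwd 24124],
   .loop (some (2, 0)) [.fwd 21491, .bwd 24125, .fwd 15617],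
   .loop (some (3, 1)) [.bwd 15619, .bwd 15618, .fwd 24126],
   .loop (some (4, 1)) [.fwd 21490, .fwd 24127, .fwd 15620],
   .loop (some (3, 0)) [.fwd 21488, .fwd 21489, .bwd 24128],
   .loop (some (2, 0)) [.fwd 21487, .bwd 24129, .fwd 15621],
   .loop (some (3, 1)) [.bwd 15623, .bwd 15622, .fwd 24130],
   .loop (some (4, 1)) [.fwd 21486, .fwd 24131, .fwd 15624],
   .loop (some (3, 0)) [.fwd 21484, .fwd 21485, .bwd 24132],
   .loop (some (2, 0)) [.fwd 21483, .bwd 24133, .fwd 15625],
   .loop (some (3, 1)) [.bwd 15627, .bwd 15626, .fwd 24134],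
   .loop (some (4, 1)) [.fwd 21482, .fwd 24135, .fwd 15628],
   .loop (some (3, 0)) [.fwd 21480, .fwd 21481, .bwd 24136],
   .loop (some (2, 0)) [.fwd 21479, .bwd 24137, .fwd 15629],
   .loop (some (3, 1)) [.bwd 15631, .bwd 15630, .fwd 24138],
   .loop (some (4, 1)) [.fwd 21478, .fwd 24139, .fwd 15632],
   .loop (some (18, 4)) [.bwd 24140, .fwd 15633, .fwd 15634, .bwd 15046, .bwd 12726],
   .loop (some (3, 1)) [.bwd 15647, .bwd 15646, .fwd 23728],
   .loop (some (12, 0)) [.fwd 23964, .fwd 24018, .fwd 15645],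
   .loop (some (10, 1)) [.fwd 23716, .bwd 23728, .fwd 24143],
   .loop (some (4, 1)) [.bwd 23713, .fwd 24142, .fwd 15648],
   .loop (some (18, 2)) [.bwd 20480, .bwd 20462, .bwd 24145, .fwd 15649, .fwd 15650],
   .loop (some (2, 1)) [.fwd 22473, .bwd 24146, .fwd 15651],
   .loop (some (15, 0)) [.bwd 14207, .fwd 9048, .bwd 22716, .bwd 24147],
   .loop (some (15, 0)) [.bwd 15743, .bwd 21989, .bwd 21988, .bwd 15686],
   .loop (some (20, 6)) [.bwd 21898, .bwd 23551, .fwd 23576, .bwd 16190, .bwd 18600, .fwd 17134, .fwd 4946, .fwd 4947],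
   .loop (some (11, 2)) [.bwd 23551, .bwd 18731, .fwd 23227],
   .loop (some (20, 4)) [.bwd 22265, .bwd 23814, .bwd 21532, .fwd 15719, .fwd 19112, .bwd 17923, .fwd 17046, .fwd 17047],
   .loop (some (15, 0)) [.bwd 23814, .bwd 21532, .fwd 15719, .fwd 15720],
   .loop (some (17, 0)) [.bwd 23456, .bwd 11985, .bwd 10249, .bwd 10248, .fwd 19175],
   .loop (some (2, 2)) [.bwd 15732, .fwd 24154, .bwd 21906],
   .loop (some (15, 0)) [.fwd 4503, .fwd 4504, .fwd 22776, .bwd 15732],
   .loop (some (17, 3)) [.fwd 4954, .bwd 9260, .fwd 22776, .bwd 24155, .bwd 21905, .bwd 21904],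
   .loop none [.fwd 24157],
   .loop none [.fwd 4953, .fwd 24158, .fwd 21904],
   .loop none [.fwd 24159],
   .loop none [.bwd 21905, .bwd 24160],
   .loop (some (3, 1)) [.bwd 15734, .bwd 15733, .bwd 24155],
   .loop (some (17, 0)) [.bwd 24150, .bwd 9269, .bwd 4511, .bwd 4510, .fwd 22573],
   .loop (some (3, 3)) [.fwd 24163, .fwd 21899, .fwd 21900],
   .loop (some (8, 2)) [.fwd 21989, .fwd 23837, .bwd 22019],
   .loop (some (13, 1)) [.fwd 24151, .bwd 23817, .bwd 18759],
   .loop (some (15, 0)) [.bwd 21742, .bwd 21741, .fwd 21682, .fwd 21655],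
   .loop (some (8, 2)) [.bwd 21747, .bwd 15750, .bwd 21655],
   .loop (some (14, 1)) [.fwd 21656, .fwd 15750, .fwd 15751, .bwd 21807],
   .loop (some (12, 2)) [.fwd 23920, .bwd 21807, .fwd 23922],
   .loop (some (17, 4)) [.fwd 18886, .fwd 20128, .fwd 20129, .fwd 23932, .fwd 22370],
   .loop (some (2, 1)) [.bwd 20796, .bwd 23368, .fwd 20128],
   .loop (some (16, 2)) [.bwd 20389, .fwd 21390, .fwd 16303, .bwd 16298, .bwd 24171],
   .loop (some (15, 0)) [.fwd 21443, .bwd 22550, .fwd 22549, .fwd 21140],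
   .loop (some (17, 0)) [.bwd 23449, .bwd 11965, .bwd 10220, .bwd 10219, .fwd 18445],
   .loop (some (2, 2)) [.bwd 15777, .fwd 24175, .bwd 21924],
   .loop (some (17, 3)) [.fwd 4901, .bwd 9229, .fwd 19634, .bwd 24176, .bwd 21923, .bwd 21922],
   .loop none [.fwd 24177],
   .loop none [.fwd 4900, .fwd 24178, .fwd 21922],
   .loop none [.fwd 24179],
   .loop none [.bwd 21923, .bwd 24180],
   .loop (some (3, 1)) [.bwd 15779, .bwd 15778, .bwd 24176],
   .loop (some (2, 0)) [.bwd 23605, .bwd 18924, .bwd 15785],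
   .loop (some (3, 3)) [.fwd 24183, .fwd 21917, .fwd 21918],
   .loop (some (3, 2)) [.bwd 23894, .fwd 18315, .bwd 20228],
   .loop (some (15, 0)) [.fwd 22711, .bwd 16576, .bwd 18938, .bwd 15805],
   .loop (some (20, 0)) [.bwd 20815, .bwd 22942, .fwd 17389, .fwd 5093, .fwd 5094, .fwd 22711, .bwd 16576, .bwd 18938],
   .loop (some (12, 2)) [.bwd 23267, .bwd 18569, .bwd 23637],
   .loop (some (11, 2)) [.bwd 23227, .bwd 18314, .fwd 23628],
   .loop (some (2, 2)) [.bwd 15870, .bwd 23524, .bwd 21878],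
   .loop (some (15, 0)) [.fwd 3302, .fwd 3303, .fwd 19425, .bwd 15870],
   .loop (some (10, 1)) [.fwd 23526, .fwd 23524, .bwd 23332],
   .loop (some (17, 3)) [.fwd 5070, .bwd 8885, .fwd 19425, .bwd 24190, .bwd 21877, .bwd 21876],
   .loop none [.fwd 24193],
   .loop none [.fwd 5069, .fwd 24194, .fwd 21876],
   .loop none [.fwd 24195],
   .loop none [.fwd 8890, .fwd 24194, .bwd 21875],
   .loop none [.fwd 24197],
   .loop none [.bwd 21877, .bwd 24196],
   .loop none [.bwd 3307, .fwd 24198, .bwd 21874],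
   .loop none [.fwd 24200],
   .loop none [.fwd 21873, .bwd 24201],
   .loop (some (3, 1)) [.bwd 15872, .bwd 15871, .bwd 24190],
   .loop (some (17, 0)) [.bwd 23372, .bwd 8900, .bwd 3310, .bwd 3309, .fwd 22568],
   .loop (some (3, 3)) [.fwd 24204, .fwd 21871, .fwd 21872],
   .loop (some (13, 1)) [.fwd 24189, .bwd 24166, .bwd 19250],
   .loop (some (20, 6)) [.bwd 21974, .bwd 23509, .bwd 24110, .bwd 20853, .bwd 22924, .fwd 17418, .fwd 5021, .fwd 5022],
   .loop (some (9, 2)) [.fwd 24110, .bwd 18997, .fwd 24187],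
   .loop (some (15, 0)) [.fwd 19259, .bwd 16131, .bwd 16130, .fwd 19070],
   .loop (some (15, 0)) [.fwd 21502, .bwd 22545, .fwd 22544, .fwd 21124],
   .loop (some (17, 0)) [.bwd 23513, .bwd 11895, .bwd 10166, .bwd 10165, .fwd 19272],
   .loop (some (2, 2)) [.bwd 15917, .fwd 24211, .bwd 21982],
   .loop (some (15, 0)) [.fwd 3400, .fwd 3401, .fwd 22783, .bwd 15917],
   .loop (some (17, 3)) [.fwd 5029, .bwd 8939, .fwd 22783, .bwd 24212, .bwd 21981, .bwd 21980],
   .loop none [.fwd 24214],
   .loop none [.fwd 5028, .fwd 24215, .fwd 21980],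
   .loop none [.fwd 24216],
   .loop none [.bwd 21981, .bwd 24217],
   .loop (some (10, 2)) [.fwd 24212, .fwd 19277, .bwd 19229],
   .loop (some (17, 0)) [.bwd 24207, .bwd 8953, .bwd 3408, .bwd 3407, .fwd 22708],
   .loop (some (3, 3)) [.fwd 24220, .fwd 21975, .fwd 21976],
   .loop (some (3, 2)) [.bwd 18822, .fwd 18857, .bwd 20177],
   .loop (some (7, 2)) [.bwd 23628, .bwd 19008, .fwd 4400],
   .loop (some (2, 2)) [.bwd 22601, .fwd 16480, .bwd 16482, .fwd 21290],
   .loop none [.fwd 24224],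
   .loop none [.bwd 20251, .fwd 24225, .bwd 21530],
   .loop none [.fwd 24226],
   .loop none [.fwd 21290, .bwd 24225],
   .loop none [.fwd 21529, .bwd 24227],
   .loop (some (2, 2)) [.bwd 15959, .fwd 24192, .bwd 21952],
   .loop (some (15, 0)) [.fwd 4400, .fwd 4401, .fwd 22553, .bwd 15959],
   .loop (some (17, 3)) [.fwd 4986, .bwd 9175, .fwd 22553, .bwd 24230, .bwd 21951, .bwd 21950],
   .loop none [.fwd 24232],
   .loop none [.fwd 4985, .fwd 24233, .fwd 21950],
   .loop none [.fwd 24234],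
   .loop none [.fwd 9182, .fwd 24233, .bwd 21949],
   .loop none [.fwd 24236],
   .loop none [.bwd 21951, .bwd 24235],
   .loop none [.bwd 4405, .fwd 24237, .bwd 21948],
   .loop none [.fwd 24239],
   .loop none [.fwd 21947, .bwd 24240],
   .loop (some (6, 2)) [.fwd 24230, .bwd 22918, .bwd 9194],
   .loop (some (3, 1)) [.bwd 15961, .bwd 15960, .bwd 24230],
   .loop (some (2, 0)) [.bwd 21944, .fwd 24003, .bwd 15967],
   .loop (some (3, 3)) [.fwd 24244, .fwd 21945, .fwd 21946],
   .loop (some (13, 2)) [.fwd 24245, .bwd 19254, .bwd 24164],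
   .loop (some (7, 0)) [.fwd 11926, .bwd 24017, .fwd 19015],
   .loop (some (15, 0)) [.bwd 21988, .bwd 15686, .bwd 15685, .fwd 19103],
   .loop (some (17, 4)) [.bwd 18690, .fwd 18689, .fwd 18688, .bwd 18717, .fwd 23785]]

theorem just96_len : just96.length = 250 := by decide +kernel

theorem just96_ok : cert.okFacts 24000 just96 = true := by decide +kernel

/-- justifications -/
noncomputable def just97 : List Cert.Just :=
  [.loop (some (4, 1)) [.bwd 20571, .bwd 15986, .fwd 18690],
   .loop (some (14, 1)) [.fwd 24024, .bwd 19023, .bwd 19022, .bwd 18696],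
   .loop (some (11, 2)) [.bwd 20571, .bwd 18696, .bwd 12474],
   .loop (some (17, 2)) [.bwd 19806, .bwd 19805, .bwd 24099, .fwd 15991, .fwd 15992],
   .loop (some (1, 0)) [.bwd 24103, .fwd 19035, .fwd 18535],
   .loop (some (9, 1)) [.fwd 19478, .bwd 24254, .bwd 19031],
   .loop (some (2, 2)) [.bwd 15993, .fwd 24253, .fwd 19807],
   .loop (some (3, 3)) [.bwd 15994, .bwd 24256, .fwd 19808, .fwd 19809],
   .loop none [.fwd 24257],
   .loop none [.bwd 15995, .fwd 24258, .bwd 19809],
   .loop none [.fwd 24259],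
   .loop none [.bwd 19810, .bwd 24258],
   .loop none [.fwd 19808, .bwd 24260],
   .loop (some (11, 1)) [.fwd 23823, .bwd 19347, .bwd 19340],
   .loop (some (8, 2)) [.fwd 22013, .fwd 23845, .bwd 22030],
   .loop (some (15, 0)) [.fwd 12106, .fwd 12107, .fwd 22261, .fwd 22013],
   .loop (some (2, 2)) [.bwd 16030, .bwd 24249, .bwd 21733],
   .loop (some (18, 2)) [.bwd 20573, .bwd 20572, .bwd 24250, .fwd 16030, .fwd 16031],
   .loop (some (3, 1)) [.bwd 16032, .bwd 16031, .bwd 24266],
   .loop (some (2, 1)) [.bwd 20574, .bwd 24267, .fwd 16032],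
   .loop (some (4, 1)) [.fwd 21732, .fwd 24268, .fwd 16033],
   .loop (some (3, 0)) [.fwd 21730, .fwd 21731, .bwd 24270],
   .loop (some (2, 0)) [.fwd 21729, .bwd 24271, .fwd 16034],
   .loop (some (3, 1)) [.bwd 16036, .bwd 16035, .fwd 24272],
   .loop (some (4, 1)) [.fwd 21728, .fwd 24273, .fwd 16037],
   .loop (some (2, 2)) [.fwd 16649, .bwd 16651, .bwd 21603],
   .loop (some (4, 1)) [.fwd 21600, .bwd 19046, .fwd 16081],
   .loop (some (3, 2)) [.bwd 23982, .fwd 23981, .fwd 24021],
   .loop (some (4, 1)) [.fwd 21646, .bwd 19071, .fwd 16130],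
   .loop (some (18, 2)) [.bwd 23258, .fwd 21645, .bwd 24278, .fwd 16131, .fwd 16132],
   .loop (some (2, 1)) [.bwd 22208, .bwd 24279, .fwd 16133],
   .loop (some (10, 2)) [.bwd 18849, .bwd 18828, .bwd 24222],
   .loop (some (12, 2)) [.bwd 16190, .bwd 19108, .fwd 20831],
   .loop (some (13, 2)) [.fwd 18486, .bwd 24282, .fwd 20832],
   .loop (some (17, 2)) [.fwd 23692, .bwd 23691, .bwd 19432, .fwd 16202, .fwd 16203],
   .loop (some (4, 1)) [.fwd 23378, .bwd 19433, .fwd 16203],
   .loop (some (2, 3)) [.bwd 16204, .fwd 24284, .bwd 23282, .fwd 6645],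
   .loop none [.bwd 24286],
   .loop none [.fwd 16204, .bwd 24287],
   .loop none [.bwd 16205, .bwd 24287],
   .loop (some (18, 2)) [.bwd 10072, .bwd 23371, .bwd 24285, .bwd 24288, .fwd 24289],
   .loop (some (12, 0)) [.fwd 23388, .fwd 9625, .fwd 24288],
   .loop (some (11, 1)) [.fwd 19439, .fwd 16203, .fwd 24291],
   .loop (some (2, 1)) [.bwd 6643, .fwd 11514, .bwd 24290, .fwd 16206],
   .loop none [.fwd 24293],
   .loop none [.fwd 16206, .bwd 24294],
   .loop none [.bwd 16207, .bwd 24294],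
   .loop (some (12, 0)) [.fwd 9944, .fwd 11835, .bwd 24290],
   .loop (some (15, 0)) [.fwd 6642, .fwd 6643, .fwd 24296, .fwd 16208],
   .loop (some (3, 3)) [.bwd 16297, .fwd 16295, .fwd 19767, .fwd 19768],
   .loop none [.fwd 24299],
   .loop none [.fwd 24171, .fwd 24300, .bwd 19768],
   .loop none [.bwd 24301],
   .loop none [.bwd 18886, .fwd 24300, .fwd 19769],
   .loop none [.fwd 24303],
   .loop none [.bwd 24173, .bwd 24302],
   .loop none [.bwd 24171, .bwd 24302],
   .loop none [.fwd 22370, .bwd 24302],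
   .loop none [.bwd 22371, .bwd 24302],
   .loop none [.bwd 23368, .fwd 24304, .fwd 19770],
   .loop none [.bwd 24309],
   .loop none [.fwd 23368, .bwd 24310],
   .loop none [.bwd 19771, .fwd 24310, .bwd 20795],
   .loop none [.fwd 24312],
   .loop none [.fwd 20794, .bwd 24313],
   .loop (some (20, 4)) [.bwd 4894, .bwd 4893, .bwd 13777, .bwd 17551, .fwd 16239, .fwd 15760, .bwd 16267, .fwd 23605],
   .loop (some (2, 2)) [.bwd 19772, .fwd 24314, .bwd 18316, .bwd 20264],
   .loop none [.fwd 24316],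
   .loop none [.bwd 19773, .fwd 24317, .bwd 20263],
   .loop none [.fwd 24318],
   .loop none [.bwd 20264, .bwd 24317],
   .loop none [.fwd 20262, .bwd 24319],
   .loop (some (2, 1)) [.bwd 21394, .bwd 23366, .fwd 16242],
   .loop (some (12, 2)) [.bwd 23366, .bwd 18446, .bwd 23920],
   .loop (some (12, 2)) [.bwd 24322, .bwd 18629, .fwd 24141],
   .loop (some (1, 2)) [.bwd 24305, .bwd 19767, .fwd 16285, .fwd 20095],
   .loop none [.bwd 24325],
   .loop none [.fwd 24305, .bwd 24326],
   .loop none [.bwd 20096, .fwd 24326, .bwd 20389],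
   .loop none [.fwd 24328],
   .loop none [.bwd 20390, .bwd 24326],
   .loop none [.bwd 21366, .bwd 24329],
   .loop none [.fwd 20388, .bwd 24329],
   .loop (some (18, 2)) [.bwd 22372, .bwd 24308, .bwd 19767, .fwd 17261, .fwd 10055],
   .loop (some (4, 2)) [.bwd 24307, .bwd 19767, .bwd 18364, .fwd 22073],
   .loop none [.bwd 24334],
   .loop none [.bwd 22074, .fwd 24335, .bwd 23932],
   .loop none [.bwd 24336],
   .loop none [.fwd 20129, .fwd 24337, .fwd 22075],
   .loop none [.fwd 24338],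
   .loop none [.bwd 24172, .fwd 24339, .fwd 22076],
   .loop none [.fwd 24340],
   .loop none [.bwd 22077, .bwd 24341],
   .loop (some (13, 2)) [.bwd 20095, .bwd 19443, .fwd 18873],
   .loop (some (4, 2)) [.bwd 24330, .bwd 20095, .fwd 23375, .fwd 21809],
   .loop none [.fwd 24344],
   .loop none [.bwd 21810, .bwd 24345],
   .loop none [.fwd 21809, .bwd 24345],
   .loop (some (13, 2)) [.fwd 24332, .bwd 17710, .fwd 17729],
   .loop (some (4, 1)) [.bwd 20097, .fwd 24332, .fwd 17702],
   .loop (some (15, 0)) [.bwd 20277, .bwd 20276, .bwd 7713, .bwd 17703],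
   .loop (some (2, 2)) [.bwd 17263, .bwd 24306, .fwd 24308],
   .loop (some (17, 3)) [.fwd 19461, .fwd 16326, .fwd 16327, .bwd 19197, .fwd 20163, .bwd 21414],
   .loop none [.fwd 24352],
   .loop none [.bwd 21414, .bwd 24353],
   .loop none [.bwd 17339, .fwd 24353, .bwd 21413],
   .loop none [.fwd 24355],
   .loop none [.fwd 21412, .bwd 24356],
   .loop (some (9, 2)) [.fwd 19513, .fwd 24255, .bwd 19452, .bwd 15230],
   .loop none [.bwd 24358],
   .loop none [.bwd 16494, .bwd 24359],
   .loop (some (15, 0)) [.fwd 21411, .bwd 24357, .bwd 19457, .bwd 16324],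
   .loop (some (2, 2)) [.bwd 19460, .fwd 16326, .fwd 20908],
   .loop (some (13, 2)) [.bwd 21416, .fwd 17715, .bwd 24332],
   .loop (some (17, 3)) [.fwd 19407, .fwd 17088, .bwd 23951, .bwd 20846, .bwd 20845],
   .loop (some (17, 3)) [.fwd 16376, .fwd 16377, .fwd 22820, .fwd 20195, .fwd 24120],
   .loop (some (17, 5)) [.bwd 16361, .bwd 24102, .fwd 15518, .bwd 11605, .bwd 6860, .bwd 6859],
   .loop none [.bwd 24366],
   .loop none [.fwd 16361, .bwd 24367],
   .loop none [.bwd 16362, .bwd 24367],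
   .loop none [.bwd 9632, .fwd 24367, .fwd 19561],
   .loop none [.fwd 24370],
   .loop none [.fwd 9663, .fwd 24367, .bwd 19482],
   .loop none [.fwd 24372],
   .loop none [.fwd 16449, .bwd 24371],
   .loop none [.bwd 16450, .bwd 24371],
   .loop none [.fwd 16311, .bwd 24373],
   .loop none [.bwd 14557, .fwd 24373, .fwd 16312],
   .loop none [.fwd 24377],
   .loop none [.bwd 16313, .bwd 24378],
   .loop none [.bwd 19483, .bwd 24378],
   .loop none [.fwd 19563, .bwd 24378],
   .loop (some (18, 4)) [.bwd 16363, .bwd 24369, .bwd 6858, .bwd 6857, .fwd 11600],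
   .loop (some (2, 1)) [.fwd 9938, .fwd 24382, .fwd 16364],
   .loop (some (15, 0)) [.bwd 23358, .bwd 9940, .bwd 9939, .fwd 24382],
   .loop (some (4, 2)) [.fwd 24365, .bwd 16375, .bwd 24364, .bwd 20844],
   .loop none [.bwd 24385],
   .loop none [.fwd 24120, .bwd 24386],
   .loop none [.bwd 24365, .bwd 24386],
   .loop none [.bwd 20844, .fwd 24386, .bwd 21440],
   .loop none [.fwd 24389],
   .loop none [.fwd 21439, .bwd 24390],
   .loop (some (11, 2)) [.fwd 24364, .bwd 19495, .fwd 19457],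
   .loop (some (17, 3)) [.fwd 16420, .fwd 16421, .fwd 20213, .fwd 20214, .fwd 23468],
   .loop (some (10, 2)) [.bwd 20213, .bwd 19251, .fwd 22601],
   .loop (some (4, 2)) [.fwd 24393, .bwd 16419, .fwd 24263, .bwd 20828],
   .loop none [.bwd 24395],
   .loop none [.bwd 24393, .bwd 24396],
   .loop none [.bwd 20828, .fwd 24396, .bwd 21468],
   .loop none [.fwd 24398],
   .loop none [.fwd 21467, .bwd 24399],
   .loop (some (2, 2)) [.bwd 19353, .fwd 16420, .fwd 23469],
   .loop (some (4, 1)) [.fwd 21778, .bwd 16443, .fwd 23414],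
   .loop (some (7, 2)) [.fwd 21778, .bwd 23230, .bwd 21752],
   .loop (some (18, 0)) [.bwd 22044, .bwd 22043, .fwd 23856, .bwd 13235, .fwd 19557],
   .loop (some (2, 3)) [.bwd 16448, .fwd 24404, .fwd 22045],
   .loop (some (15, 0)) [.fwd 9819, .fwd 9820, .fwd 23698, .fwd 24405],
   .loop (some (15, 0)) [.fwd 23698, .fwd 24405, .bwd 24374, .fwd 24375],
   .loop (some (13, 2)) [.bwd 21503, .bwd 17742, .fwd 15749],
   .loop (some (17, 3)) [.fwd 19535, .fwd 17022, .bwd 24006, .bwd 20809, .bwd 20808],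
   .loop (some (17, 3)) [.fwd 16510, .fwd 16511, .fwd 22601, .fwd 20251, .fwd 24229],
   .loop (some (17, 5)) [.bwd 16495, .bwd 24360, .fwd 13261, .bwd 15183, .bwd 5918, .bwd 5917],
   .loop none [.bwd 24411],
   .loop none [.fwd 16495, .bwd 24412],
   .loop none [.bwd 16496, .bwd 24412],
   .loop none [.bwd 11566, .fwd 24412, .fwd 19516],
   .loop none [.fwd 24415],
   .loop none [.fwd 9553, .fwd 24412, .bwd 19518],
   .loop none [.fwd 24417],
   .loop none [.bwd 16406, .bwd 24416],
   .loop none [.bwd 6788, .fwd 24418, .fwd 24253],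
   .loop none [.fwd 24420],
   .loop none [.fwd 15992, .bwd 24418],
   .loop none [.bwd 6789, .fwd 24421, .bwd 19806],
   .loop none [.fwd 24423],
   .loop none [.bwd 19807, .bwd 24421],
   .loop none [.fwd 19805, .bwd 24424],
   .loop (some (4, 2)) [.fwd 24410, .bwd 16509, .bwd 24409, .bwd 20807],
   .loop none [.bwd 24427],
   .loop none [.fwd 24229, .bwd 24428],
   .loop none [.bwd 24410, .bwd 24428],
   .loop none [.bwd 20807, .fwd 24428, .bwd 21528],
   .loop none [.fwd 24431],
   .loop none [.fwd 21527, .bwd 24432],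
   .loop (some (11, 2)) [.fwd 24409, .bwd 19531, .fwd 19347],
   .loop (some (12, 2)) [.bwd 18749, .bwd 21592, .fwd 23921],
   .loop (some (12, 2)) [.bwd 23950, .bwd 23948, .fwd 21042],
   .loop (some (15, 0)) [.fwd 5093, .fwd 5094, .fwd 22711, .bwd 16576],
   .loop (some (15, 0)) [.fwd 21600, .bwd 17752, .fwd 17751, .fwd 16642],
   .loop (some (17, 3)) [.fwd 16686, .fwd 16687, .bwd 24275, .bwd 21633, .bwd 21632],
   .loop (some (6, 2)) [.fwd 24275, .bwd 19374, .fwd 24106],
   .loop (some (7, 2)) [.fwd 21600, .bwd 19022, .fwd 20571],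
   .loop (some (15, 0)) [.fwd 21639, .bwd 16642, .bwd 17751, .fwd 17752],
   .loop (some (4, 0)) [.fwd 21631, .fwd 24439, .bwd 16685],
   .loop (some (7, 2)) [.bwd 17992, .bwd 17756, .bwd 21639],
   .loop (some (11, 2)) [.bwd 17992, .bwd 24119, .fwd 20195],
   .loop (some (15, 0)) [.fwd 21646, .bwd 17739, .fwd 17738, .fwd 16702],
   .loop (some (7, 2)) [.fwd 21646, .bwd 19023, .bwd 21600],
   .loop (some (0, 0)) [.fwd 24436, .fwd 24024],
   .loop (some (11, 2)) [.fwd 21646, .bwd 24024, .fwd 22151],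
   .loop (some (9, 1)) [.fwd 19643, .fwd 19410, .bwd 24024],
   .loop (some (2, 0)) [.fwd 21064, .bwd 20900, .bwd 23043, .bwd 16740],
   .loop none [.bwd 24451],
   .loop none [.bwd 21064, .bwd 24452],
   .loop none [.fwd 16739, .fwd 24452, .bwd 22945],
   .loop none [.fwd 24454],
   .loop none [.fwd 21063, .bwd 24452],
   .loop none [.fwd 16738, .fwd 24455, .bwd 18060],
   .loop none [.bwd 24457],
   .loop none [.bwd 22955, .bwd 24455],
   .loop none [.fwd 17125, .bwd 24455],
   .loop none [.bwd 22947, .fwd 24458, .bwd 16737],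
   .loop none [.bwd 24461],
   .loop none [.fwd 22952, .bwd 24462],
   .loop none [.fwd 16736, .fwd 24462, .fwd 20297],
   .loop none [.fwd 24464],
   .loop none [.fwd 22796, .bwd 24462],
   .loop none [.bwd 20298, .bwd 24465],
   .loop (some (3, 2)) [.bwd 24456, .fwd 24453, .bwd 22944],
   .loop (some (4, 2)) [.bwd 24456, .bwd 16739, .fwd 24460],
   .loop (some (15, 0)) [.fwd 20597, .bwd 24459, .fwd 16739, .fwd 16740],
   .loop (some (10, 0)) [.bwd 19992, .fwd 23131, .bwd 23043],
   .loop (some (2, 3)) [.fwd 16742, .bwd 23129, .fwd 19992],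
   .loop (some (18, 1)) [.fwd 21062, .bwd 24456, .fwd 16740, .fwd 16741, .bwd 24472],
   .loop (some (13, 1)) [.bwd 24473, .bwd 24471, .fwd 16741, .bwd 23556],
   .loop none [.bwd 24474],
   .loop none [.bwd 20070, .fwd 24475, .bwd 21061],
   .loop none [.fwd 24476],
   .loop none [.bwd 21062, .bwd 24475],
   .loop none [.bwd 23134, .fwd 24477, .bwd 21060],
   .loop none [.fwd 24479],
   .loop none [.bwd 23138, .fwd 24480, .bwd 21059],
   .loop none [.fwd 24481],
   .loop none [.fwd 21058, .bwd 24482],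
   .loop (some (15, 0)) [.fwd 7937, .fwd 5679, .bwd 23128, .fwd 23129],
   .loop (some (15, 0)) [.bwd 23128, .fwd 23129, .bwd 17979, .fwd 17980],
   .loop (some (20, 0)) [.fwd 12590, .bwd 10277, .bwd 11103, .fwd 4572, .fwd 4573, .bwd 22390, .bwd 16790, .bwd 16789],
   .loop (some (15, 0)) [.fwd 4572, .fwd 4573, .bwd 22390, .bwd 16790],
   .loop (some (2, 2)) [.fwd 17489, .bwd 17490, .bwd 20024],
   .loop (some (2, 2)) [.bwd 16827, .fwd 22515, .bwd 20920],
   .loop (some (3, 1)) [.bwd 16829, .bwd 16828, .bwd 24489],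
   .loop (some (4, 1)) [.fwd 20919, .fwd 24490, .fwd 16830],
   .loop (some (3, 1)) [.fwd 20917, .fwd 20918, .bwd 24491, .bwd 19413],
   .loop none [.bwd 24492],
   .loop none [.bwd 16135, .fwd 24493, .bwd 20916],
   .loop none [.fwd 24494],
   .loop none [.fwd 20915, .bwd 24495],
   .loop (some (4, 3)) [.bwd 19419, .bwd 16136, .fwd 24496],
   .loop (some (3, 3)) [.bwd 24362, .fwd 20909, .fwd 20910],
   .loop (some (4, 1)) [.bwd 20911, .fwd 24498, .bwd 16838]]

theorem just97_len : just97.length = 250 := by decide +kernel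

theorem just97_ok : cert.okFacts 24250 just97 = true := by decide +kernel

/-- justifications -/
noncomputable def just98 : List Cert.Just :=
  [.loop (some (8, 2)) [.bwd 18276, .bwd 16848, .fwd 22015],
   .loop (some (11, 2)) [.fwd 16888, .bwd 23465, .fwd 20214],
   .loop (some (20, 0)) [.bwd 10839, .fwd 13718, .bwd 18529, .fwd 20571, .fwd 20572, .bwd 21565, .bwd 21564, .bwd 21563],
   .loop (some (9, 1)) [.fwd 11062, .bwd 24502, .bwd 24435],
   .loop (some (10, 2)) [.bwd 16867, .bwd 24435, .fwd 21449],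
   .loop (some (16, 0)) [.bwd 5909, .fwd 18149, .bwd 11001, .bwd 24502, .fwd 16867],
   .loop (some (11, 2)) [.bwd 16868, .bwd 24504, .fwd 21450],
   .loop (some (9, 1)) [.fwd 9546, .bwd 24505, .bwd 24504],
   .loop (some (12, 2)) [.bwd 16869, .bwd 24506, .fwd 21451],
   .loop (some (13, 2)) [.bwd 16870, .bwd 24508, .fwd 21452],
   .loop (some (10, 2)) [.bwd 16871, .bwd 24509, .fwd 21453],
   .loop (some (11, 2)) [.bwd 16872, .bwd 24510, .fwd 21454],
   .loop (some (12, 2)) [.bwd 16873, .bwd 24511, .fwd 21455],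
   .loop (some (13, 2)) [.bwd 16874, .bwd 24512, .fwd 21456],
   .loop (some (10, 2)) [.bwd 16875, .bwd 24513, .fwd 21457],
   .loop (some (11, 2)) [.bwd 16876, .bwd 24514, .fwd 21458],
   .loop (some (12, 2)) [.bwd 16877, .bwd 24515, .fwd 21459],
   .loop (some (13, 2)) [.bwd 16878, .bwd 24516, .fwd 21460],
   .loop (some (10, 2)) [.bwd 16879, .bwd 24517, .fwd 21461],
   .loop (some (11, 2)) [.bwd 16880, .bwd 24518, .fwd 21462],
   .loop (some (12, 2)) [.bwd 16881, .bwd 24519, .fwd 21463],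
   .loop (some (13, 2)) [.bwd 16882, .bwd 24520, .fwd 21464],
   .loop (some (10, 2)) [.bwd 16883, .bwd 24521, .fwd 21465],
   .loop (some (11, 2)) [.fwd 23824, .bwd 16884, .bwd 24522, .fwd 21466],
   .loop none [.fwd 24523],
   .loop none [.fwd 24400, .bwd 24524],
   .loop (some (0, 1)) [.fwd 23823, .fwd 24434],
   .loop (some (13, 2)) [.bwd 16886, .bwd 23823, .bwd 20828],
   .loop (some (2, 2)) [.fwd 20865, .fwd 16887, .bwd 22672],
   .loop (some (12, 2)) [.fwd 20865, .bwd 24527, .bwd 20827],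
   .loop (some (12, 2)) [.fwd 22672, .bwd 24501, .fwd 20215],
   .loop (some (13, 1)) [.fwd 23820, .fwd 18769, .bwd 24501],
   .loop (some (15, 0)) [.fwd 14637, .fwd 23382, .fwd 23390, .bwd 19622],
   .loop (some (15, 0)) [.fwd 14638, .fwd 23383, .fwd 23391, .bwd 19624],
   .loop (some (15, 0)) [.bwd 14401, .bwd 23389, .fwd 23733, .fwd 19602],
   .loop (some (18, 2)) [.bwd 20131, .bwd 20130, .fwd 23933, .fwd 16936, .fwd 16932],
   .loop (some (20, 0)) [.bwd 23978, .fwd 12122, .fwd 12123, .bwd 14774, .fwd 15255, .bwd 18835, .bwd 18883, .bwd 18991],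
   .loop (some (2, 1)) [.bwd 20132, .bwd 24535, .fwd 18626],
   .loop (some (13, 2)) [.fwd 20228, .bwd 18844, .fwd 16956],
   .loop (some (14, 1)) [.fwd 23904, .fwd 16944, .fwd 16945, .bwd 24281],
   .loop (some (18, 1)) [.bwd 24342, .bwd 24172, .fwd 23929, .fwd 15258, .fwd 16956, .bwd 24320],
   .loop none [.bwd 24540],
   .loop none [.fwd 19772, .fwd 24541, .fwd 22078],
   .loop none [.fwd 24542],
   .loop none [.fwd 24342, .bwd 24541],
   .loop none [.bwd 22079, .bwd 24543],
   .loop (some (12, 2)) [.fwd 24320, .bwd 23903, .bwd 19758],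
   .loop (some (10, 1)) [.fwd 22914, .bwd 23789, .bwd 17999],
   .loop (some (10, 1)) [.fwd 23953, .bwd 22797, .bwd 18940],
   .loop (some (15, 0)) [.fwd 20864, .fwd 20865, .fwd 18762, .fwd 19346],
   .loop (some (6, 1)) [.fwd 22929, .bwd 24007, .bwd 19012],
   .loop (some (3, 2)) [.bwd 16994, .fwd 24007, .fwd 20063],
   .loop (some (10, 1)) [.fwd 20026, .bwd 24548, .bwd 17493],
   .loop (some (15, 0)) [.bwd 24075, .bwd 5527, .bwd 5526, .bwd 18044],
   .loop (some (18, 6)) [.bwd 17007, .bwd 2367, .bwd 12641, .fwd 24349, .fwd 20098, .fwd 20099],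
   .loop none [.fwd 24554],
   .loop none [.bwd 20100, .bwd 24555],
   .loop none [.bwd 17008, .fwd 24555, .bwd 20099],
   .loop none [.fwd 24557],
   .loop none [.fwd 20098, .bwd 24558],
   .loop (some (3, 1)) [.bwd 17009, .bwd 17008, .fwd 24556],
   .loop (some (9, 3)) [.bwd 17874, .bwd 19409, .fwd 23640],
   .loop (some (12, 2)) [.bwd 24559, .bwd 19645, .bwd 17900],
   .loop (some (4, 1)) [.bwd 20101, .fwd 24560, .fwd 17010],
   .loop (some (18, 2)) [.bwd 20103, .bwd 20102, .bwd 24563, .fwd 17011, .fwd 17012],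
   .loop (some (2, 1)) [.bwd 20104, .bwd 24564, .fwd 17013],
   .loop (some (15, 0)) [.bwd 20105, .bwd 24565, .fwd 17014, .fwd 17015],
   .loop (some (15, 0)) [.fwd 20805, .fwd 20806, .fwd 24430, .fwd 19538],
   .loop (some (3, 2)) [.bwd 17031, .fwd 17239, .bwd 21298],
   .loop (some (6, 1)) [.bwd 20015, .fwd 24568, .fwd 17032],
   .loop (some (3, 2)) [.bwd 17474, .fwd 24569, .fwd 20016],
   .loop (some (2, 2)) [.bwd 17047, .fwd 22516, .bwd 21112],
   .loop (some (3, 1)) [.bwd 17049, .bwd 17048, .bwd 24571],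
   .loop (some (4, 2)) [.bwd 17048, .fwd 24152, .fwd 22266],
   .loop (some (17, 2)) [.bwd 22268, .bwd 22267, .fwd 24573, .fwd 17049, .fwd 17050],
   .loop (some (20, 6)) [.fwd 23872, .fwd 24573, .bwd 24450, .bwd 23950, .bwd 18650, .bwd 24116, .fwd 20195, .fwd 20196],
   .loop (some (4, 1)) [.fwd 21111, .fwd 24572, .fwd 17050],
   .loop (some (2, 2)) [.bwd 17051, .fwd 24574, .fwd 22269],
   .loop (some (3, 1)) [.fwd 21109, .fwd 21110, .bwd 24576, .fwd 24574],
   .loop none [.fwd 24578],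
   .loop none [.fwd 21108, .fwd 24579, .fwd 22269],
   .loop none [.fwd 24580],
   .loop none [.fwd 23882, .bwd 24579],
   .loop none [.bwd 24577, .bwd 24581],
   .loop none [.bwd 22270, .bwd 24581],
   .loop (some (3, 3)) [.bwd 17052, .bwd 24583, .fwd 24584, .fwd 22271],
   .loop none [.fwd 24585],
   .loop none [.bwd 17053, .fwd 24586, .bwd 22271],
   .loop none [.fwd 24587],
   .loop none [.bwd 22272, .bwd 24586],
   .loop none [.fwd 24584, .bwd 24588],
   .loop (some (4, 1)) [.fwd 21107, .bwd 24590, .fwd 17054],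
   .loop (some (10, 2)) [.bwd 23952, .fwd 19660, .bwd 24570],
   .loop (some (5, 3)) [.fwd 17249, .fwd 17177, .bwd 19764],
   .loop (some (15, 0)) [.fwd 20842, .fwd 20843, .fwd 24388, .fwd 19403],
   .loop (some (3, 1)) [.bwd 17110, .bwd 17109, .fwd 22754],
   .loop (some (4, 1)) [.fwd 20312, .fwd 24595, .fwd 17111],
   .loop (some (3, 0)) [.fwd 20310, .fwd 20311, .bwd 24596],
   .loop (some (2, 0)) [.fwd 20309, .bwd 24597, .fwd 17112],
   .loop (some (3, 1)) [.bwd 17114, .bwd 17113, .fwd 24598],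
   .loop (some (4, 1)) [.fwd 20308, .fwd 24599, .fwd 17115],
   .loop (some (3, 0)) [.fwd 20306, .fwd 20307, .bwd 24600],
   .loop (some (2, 0)) [.fwd 20305, .bwd 24601, .fwd 17116],
   .loop (some (3, 1)) [.bwd 17118, .bwd 17117, .fwd 24602],
   .loop (some (4, 1)) [.fwd 20304, .fwd 24603, .fwd 17119],
   .loop (some (3, 0)) [.fwd 20302, .fwd 20303, .bwd 24604],
   .loop (some (2, 0)) [.fwd 20301, .bwd 24605, .fwd 17120],
   .loop (some (2, 0)) [.fwd 16736, .fwd 24463, .bwd 17124],
   .loop (some (15, 0)) [.bwd 20070, .fwd 24478, .bwd 24469, .bwd 17124],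
   .loop (some (11, 2)) [.bwd 24469, .fwd 19669, .bwd 18468],
   .loop (some (15, 0)) [.bwd 24150, .bwd 4947, .bwd 4946, .bwd 17134],
   .loop (some (7, 2)) [.bwd 17149, .bwd 19684, .fwd 17186],
   .loop (some (2, 0)) [.fwd 20646, .fwd 17450, .bwd 17150],
   .loop (some (12, 0)) [.bwd 23056, .fwd 24026, .bwd 17150],
   .loop (some (11, 2)) [.fwd 17149, .fwd 24613, .fwd 24059],
   .loop (some (10, 2)) [.bwd 24612, .fwd 24613, .fwd 24062],
   .loop (some (2, 2)) [.bwd 17161, .bwd 22887, .bwd 20429],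
   .loop (some (12, 2)) [.bwd 17161, .bwd 24445, .fwd 20196],
   .loop (some (8, 0)) [.fwd 21638, .fwd 24444, .fwd 17161],
   .loop (some (13, 2)) [.bwd 17162, .bwd 24617, .fwd 20197],
   .loop (some (11, 2)) [.fwd 21649, .bwd 24617, .fwd 24575],
   .loop (some (10, 2)) [.bwd 17163, .bwd 24619, .fwd 20198],
   .loop (some (4, 1)) [.fwd 20428, .bwd 24123, .fwd 17164],
   .loop (some (11, 2)) [.bwd 17164, .bwd 24621, .fwd 20199],
   .loop (some (3, 0)) [.fwd 20426, .fwd 20427, .bwd 24622],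
   .loop (some (12, 2)) [.bwd 17165, .bwd 24623, .fwd 20200],
   .loop (some (2, 0)) [.fwd 20425, .bwd 24624, .fwd 17165],
   .loop (some (3, 1)) [.bwd 17167, .bwd 17166, .fwd 24626],
   .loop (some (13, 2)) [.bwd 17166, .bwd 24625, .fwd 20201],
   .loop (some (10, 2)) [.bwd 17167, .bwd 24628, .fwd 20202],
   .loop (some (4, 1)) [.fwd 20424, .fwd 24627, .fwd 17168],
   .loop (some (11, 2)) [.bwd 17168, .bwd 24629, .fwd 20203],
   .loop (some (3, 0)) [.fwd 20422, .fwd 20423, .bwd 24630],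
   .loop (some (12, 2)) [.bwd 17169, .bwd 24631, .fwd 20204],
   .loop (some (2, 0)) [.fwd 20421, .bwd 24632, .fwd 17169],
   .loop (some (13, 2)) [.bwd 17170, .bwd 24633, .fwd 20205],
   .loop (some (5, 2)) [.fwd 19692, .bwd 23079, .bwd 19702],
   .loop (some (3, 3)) [.bwd 21328, .fwd 22866, .fwd 21185, .fwd 21186],
   .loop none [.bwd 24637],
   .loop none [.fwd 21328, .bwd 24638],
   .loop (some (4, 1)) [.bwd 21187, .fwd 24639, .bwd 17188],
   .loop (some (2, 2)) [.fwd 20326, .fwd 17213, .bwd 20937],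
   .loop (some (12, 2)) [.fwd 20326, .bwd 20333, .fwd 23987],
   .loop (some (15, 0)) [.fwd 20967, .fwd 20937, .fwd 17214, .fwd 17215],
   .loop (some (7, 2)) [.fwd 21212, .bwd 19691, .fwd 17674],
   .loop (some (11, 0)) [.bwd 24075, .fwd 9464, .bwd 17233],
   .loop (some (20, 0)) [.bwd 21334, .fwd 21333, .fwd 21253, .fwd 21249, .fwd 19983, .fwd 19984, .fwd 19985, .fwd 19986],
   .loop (some (9, 2)) [.bwd 21340, .bwd 19658, .bwd 21323],
   .loop (some (3, 3)) [.bwd 17264, .bwd 24351, .fwd 22372, .fwd 22373],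
   .loop none [.fwd 24648],
   .loop none [.fwd 17301, .fwd 24649, .fwd 22374],
   .loop none [.fwd 24650],
   .loop none [.bwd 17462, .fwd 24651, .fwd 22375],
   .loop none [.fwd 24652],
   .loop none [.bwd 22376, .bwd 24653],
   .loop (some (2, 1)) [.bwd 19889, .bwd 23804, .fwd 17284],
   .loop (some (20, 0)) [.bwd 19983, .bwd 21249, .bwd 21253, .bwd 21333, .fwd 21334, .fwd 20012, .fwd 20013, .fwd 17341],
   .loop (some (1, 2)) [.fwd 17313, .fwd 24656, .bwd 21367],
   .loop (some (20, 4)) [.bwd 4979, .bwd 4978, .bwd 18102, .fwd 17325, .bwd 19288, .fwd 15938, .fwd 23628, .fwd 21944],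
   .loop (some (2, 2)) [.bwd 17326, .bwd 24222, .bwd 20176],
   .loop (some (3, 1)) [.bwd 17328, .bwd 17327, .bwd 24659],
   .loop (some (4, 1)) [.fwd 20175, .fwd 24660, .fwd 17329],
   .loop (some (11, 2)) [.bwd 17329, .bwd 19709, .fwd 20420],
   .loop (some (3, 0)) [.fwd 20173, .fwd 20174, .bwd 24661],
   .loop (some (12, 2)) [.bwd 17330, .bwd 24662, .fwd 20421],
   .loop (some (10, 2)) [.bwd 24663, .bwd 24662, .bwd 24634],
   .loop (some (2, 0)) [.fwd 20172, .bwd 24663, .fwd 17330],
   .loop (some (3, 1)) [.bwd 17332, .bwd 17331, .fwd 24666],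
   .loop (some (13, 2)) [.bwd 17331, .bwd 24664, .fwd 20422],
   .loop (some (10, 2)) [.bwd 24666, .bwd 24664, .bwd 24632],
   .loop (some (10, 2)) [.bwd 17332, .bwd 24668, .fwd 20423],
   .loop (some (4, 1)) [.fwd 20171, .fwd 24667, .fwd 17333],
   .loop (some (11, 2)) [.bwd 17333, .bwd 24670, .fwd 20424],
   .loop (some (3, 0)) [.fwd 20169, .fwd 20170, .bwd 24671],
   .loop (some (12, 2)) [.bwd 17334, .bwd 24672, .fwd 20425],
   .loop (some (13, 2)) [.bwd 24671, .bwd 24672, .fwd 24627],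
   .loop (some (10, 2)) [.bwd 24673, .bwd 24672, .bwd 24626],
   .loop (some (2, 0)) [.fwd 20168, .bwd 24673, .fwd 17334],
   .loop (some (3, 1)) [.bwd 17336, .bwd 17335, .fwd 24677],
   .loop (some (13, 2)) [.bwd 17335, .bwd 24674, .fwd 20426],
   .loop (some (10, 2)) [.bwd 24677, .bwd 24674, .bwd 24624],
   .loop (some (10, 2)) [.bwd 17336, .bwd 24679, .fwd 20427],
   .loop (some (4, 1)) [.fwd 20167, .fwd 24678, .fwd 17337],
   .loop (some (11, 2)) [.bwd 17337, .bwd 24681, .fwd 20428],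
   .loop (some (2, 0)) [.bwd 20164, .bwd 24354, .bwd 17338],
   .loop (some (13, 2)) [.bwd 24682, .bwd 24683, .bwd 24123],
   .loop (some (10, 2)) [.bwd 24684, .bwd 24683, .fwd 24616],
   .loop (some (2, 2)) [.bwd 24357, .fwd 17340, .bwd 20013],
   .loop (some (15, 0)) [.bwd 22711, .bwd 5094, .bwd 5093, .bwd 17389],
   .loop (some (15, 0)) [.bwd 24207, .bwd 5022, .bwd 5021, .bwd 17418],
   .loop (some (8, 2)) [.bwd 17436, .bwd 23116, .fwd 23432],
   .loop (some (12, 2)) [.bwd 17436, .bwd 18015, .fwd 23114],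
   .loop (some (6, 1)) [.fwd 23196, .bwd 18018, .bwd 24690],
   .loop (some (13, 2)) [.bwd 17437, .bwd 24691, .fwd 20775],
   .loop (some (0, 1)) [.fwd 24693, .fwd 18017],
   .loop (some (10, 2)) [.bwd 17438, .bwd 24693, .fwd 20776],
   .loop (some (11, 2)) [.bwd 17439, .bwd 24695, .fwd 20777],
   .loop (some (12, 2)) [.bwd 17440, .bwd 24696, .fwd 20778],
   .loop (some (13, 2)) [.bwd 17441, .bwd 24697, .fwd 20779],
   .loop (some (0, 1)) [.fwd 24698, .fwd 18024],
   .loop (some (10, 2)) [.bwd 17442, .bwd 24698, .fwd 20780],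
   .loop (some (11, 2)) [.bwd 17443, .bwd 24700, .fwd 20781],
   .loop (some (12, 2)) [.bwd 17444, .bwd 24701, .fwd 20782],
   .loop (some (13, 2)) [.bwd 17445, .bwd 24702, .fwd 20783],
   .loop (some (0, 1)) [.fwd 24703, .fwd 18031],
   .loop (some (4, 2)) [.bwd 24654, .bwd 18063, .fwd 5143],
   .loop (some (8, 2)) [.bwd 17477, .fwd 22626, .fwd 19734],
   .loop (some (7, 2)) [.bwd 17478, .bwd 24706, .fwd 19735],
   .loop (some (3, 2)) [.bwd 20942, .bwd 20021, .fwd 17483, .fwd 17486],
   .loop none [.bwd 24708],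
   .loop none [.bwd 20943, .bwd 24709],
   .loop (some (4, 1)) [.bwd 24710, .bwd 17486, .bwd 17533],
   .loop (some (17, 3)) [.fwd 17526, .fwd 17527, .bwd 24488, .bwd 20057, .bwd 20056],
   .loop (some (2, 2)) [.bwd 20324, .fwd 17502, .fwd 20935],
   .loop (some (8, 3)) [.bwd 20324, .fwd 24644, .bwd 20329, .fwd 20327],
   .loop none [.fwd 24714],
   .loop none [.bwd 20328, .bwd 24715],
   .loop (some (14, 3)) [.bwd 21181, .bwd 24644, .bwd 22928, .bwd 20157, .fwd 24642],
   .loop none [.bwd 24717],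
   .loop none [.bwd 21182, .bwd 24718],
   .loop (some (15, 0)) [.fwd 21092, .bwd 20935, .fwd 17503, .fwd 17504],
   .loop (some (4, 0)) [.fwd 20055, .fwd 24712, .bwd 17525],
   .loop (some (20, 0)) [.bwd 8025, .bwd 11035, .bwd 10658, .bwd 10657, .bwd 19736, .bwd 19735, .bwd 19734, .bwd 19733],
   .loop (some (15, 0)) [.bwd 10657, .bwd 19736, .bwd 19735, .bwd 19734],
   .loop (some (20, 0)) [.fwd 19762, .fwd 3412, .bwd 8025, .bwd 11035, .bwd 10658, .bwd 10657, .bwd 19736, .bwd 19735],
   .loop (some (15, 0)) [.fwd 18355, .fwd 19732, .fwd 19733, .fwd 19734],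
   .loop (some (12, 0)) [.bwd 24483, .fwd 23558, .bwd 19736],
   .loop (some (11, 2)) [.fwd 19735, .fwd 24726, .bwd 21057],
   .loop (some (13, 2)) [.bwd 19747, .bwd 24530, .fwd 20216],
   .loop (some (15, 0)) [.fwd 7788, .bwd 16861, .bwd 16888, .bwd 22672],
   .loop (some (10, 1)) [.fwd 24529, .bwd 24528, .bwd 24530],
   .loop (some (10, 2)) [.bwd 19748, .bwd 24728, .fwd 20217],
   .loop (some (12, 1)) [.fwd 21384, .bwd 23827, .fwd 23825, .bwd 24731],
   .loop none [.bwd 24732],
   .loop none [.bwd 20218, .fwd 24733, .bwd 21383],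
   .loop none [.fwd 24734],
   .loop none [.fwd 21382, .bwd 24735],
   .loop (some (13, 1)) [.fwd 24529, .bwd 23826, .bwd 24731],
   .loop (some (4, 1)) [.fwd 20864, .bwd 23826, .fwd 19749],
   .loop (some (11, 2)) [.bwd 19749, .bwd 24731, .fwd 20218],
   .loop (some (3, 0)) [.fwd 20862, .fwd 20863, .bwd 24738],
   .loop (some (12, 2)) [.bwd 19750, .bwd 24739, .fwd 20219],
   .loop (some (10, 2)) [.bwd 24740, .bwd 24739, .fwd 24736],
   .loop (some (2, 0)) [.fwd 20861, .bwd 24740, .fwd 19750],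
   .loop (some (3, 1)) [.bwd 19752, .bwd 19751, .fwd 24743],
   .loop (some (13, 2)) [.bwd 19751, .bwd 24741, .fwd 20220],
   .loop (some (10, 2)) [.bwd 19752, .bwd 24745, .fwd 20221],
   .loop (some (4, 1)) [.fwd 20860, .fwd 24744, .fwd 19753],
   .loop (some (11, 2)) [.bwd 19753, .bwd 24746, .fwd 20222],
   .loop (some (3, 0)) [.fwd 20858, .fwd 20859, .bwd 24747]]

theorem just98_len : just98.length = 250 := by decide +kernel

theorem just98_ok : cert.okFacts 24500 just98 = true := by decide +kernel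

/-- justifications -/
noncomputable def just99 : List Cert.Just :=
  [.loop (some (12, 2)) [.bwd 19754, .bwd 24748, .fwd 20223],
   .loop (some (2, 0)) [.fwd 20857, .bwd 24749, .fwd 19754],
   .loop (some (13, 2)) [.bwd 19755, .bwd 24750, .fwd 20224],
   .loop (some (10, 2)) [.bwd 19756, .bwd 24752, .fwd 20225],
   .loop (some (11, 2)) [.bwd 19757, .bwd 24753, .fwd 20226],
   .loop (some (0, 1)) [.fwd 24754, .fwd 24546],
   .loop (some (15, 0)) [.fwd 20086, .fwd 20087, .bwd 23902, .bwd 19758],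
   .loop (some (10, 1)) [.fwd 24208, .bwd 24277, .bwd 24754],
   .loop (some (20, 0)) [.fwd 19736, .fwd 10657, .fwd 10658, .fwd 11035, .fwd 8025, .bwd 3412, .bwd 19762, .bwd 19761],
   .loop (some (15, 0)) [.fwd 11035, .fwd 8025, .bwd 3412, .bwd 19762],
   .loop (some (4, 1)) [.bwd 20797, .bwd 24544, .fwd 19773],
   .loop (some (11, 2)) [.bwd 19773, .bwd 24546, .bwd 19757],
   .loop (some (3, 2)) [.bwd 24760, .fwd 24321, .bwd 20261],
   .loop (some (0, 0)) [.fwd 24753, .fwd 24761],
   .loop (some (10, 2)) [.bwd 24321, .bwd 24761, .bwd 19756],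
   .loop (some (15, 0)) [.fwd 18821, .bwd 24320, .fwd 19773, .fwd 19774],
   .loop (some (2, 3)) [.bwd 24426, .fwd 6790, .fwd 15134],
   .loop (some (15, 0)) [.fwd 12806, .fwd 12290, .bwd 12834, .fwd 24766],
   .loop (some (15, 0)) [.fwd 14271, .bwd 6790, .bwd 6789, .fwd 24425],
   .loop (some (15, 0)) [.bwd 22849, .bwd 22805, .bwd 22809, .bwd 19824],
   .loop (some (14, 2)) [.fwd 22847, .bwd 22651, .fwd 22653, .fwd 20896],
   .loop (some (15, 0)) [.bwd 21418, .fwd 13643, .bwd 22685, .fwd 19836],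
   .loop (some (15, 0)) [.fwd 4511, .fwd 4512, .bwd 22841, .bwd 19844],
   .loop (some (15, 0)) [.bwd 21161, .fwd 20064, .fwd 20065, .fwd 20066],
   .loop (some (11, 1)) [.fwd 23795, .fwd 22896, .bwd 23953],
   .loop (some (11, 1)) [.fwd 22913, .bwd 23790, .bwd 22914],
   .loop (some (15, 0)) [.fwd 14571, .fwd 15326, .fwd 19854, .fwd 19855],
   .loop (some (15, 0)) [.fwd 4470, .fwd 4471, .bwd 22794, .bwd 19863],
   .loop (some (11, 1)) [.fwd 20361, .fwd 24719, .bwd 24775, .bwd 21325],
   .loop none [.fwd 24778],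
   .loop none [.fwd 20360, .fwd 24779, .bwd 24550],
   .loop none [.bwd 24780],
   .loop none [.bwd 20360, .bwd 24781],
   .loop none [.bwd 19644, .fwd 24781, .bwd 20359],
   .loop none [.fwd 24783],
   .loop none [.fwd 20358, .bwd 24784],
   .loop (some (15, 0)) [.bwd 19014, .bwd 13076, .bwd 14184, .bwd 19872],
   .loop (some (15, 0)) [.bwd 18286, .fwd 13057, .bwd 22839, .fwd 19887],
   .loop (some (15, 0)) [.fwd 3451, .fwd 3452, .bwd 22713, .bwd 19895],
   .loop (some (15, 0)) [.fwd 3310, .fwd 3311, .bwd 22577, .bwd 19907],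
   .loop (some (15, 0)) [.bwd 18957, .bwd 15421, .bwd 17673, .bwd 19915],
   .loop (some (15, 0)) [.bwd 17979, .fwd 17980, .fwd 19916, .fwd 19917],
   .loop (some (15, 0)) [.bwd 21506, .fwd 15399, .fwd 21001, .fwd 19929],
   .loop (some (15, 0)) [.fwd 3408, .fwd 3409, .bwd 22624, .bwd 19937],
   .loop (some (2, 3)) [.fwd 19939, .bwd 20091, .fwd 20569],
   .loop (some (18, 3)) [.bwd 24014, .fwd 19937, .fwd 19938, .bwd 24794, .bwd 20119, .bwd 20118],
   .loop none [.fwd 24795],
   .loop none [.bwd 20118, .bwd 24796],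
   .loop (some (15, 0)) [.fwd 12368, .fwd 12369, .fwd 23320, .fwd 24794],
   .loop (some (15, 0)) [.fwd 20094, .bwd 13813, .bwd 20570, .fwd 20091],
   .loop (some (15, 0)) [.bwd 21474, .fwd 15358, .bwd 22620, .fwd 19957],
   .loop (some (15, 0)) [.fwd 4408, .fwd 4409, .bwd 22779, .bwd 19965],
   .loop (some (13, 2)) [.fwd 21149, .bwd 23989, .fwd 20323],
   .loop (some (11, 1)) [.fwd 21211, .fwd 24716, .bwd 24774, .bwd 20026],
   .loop none [.bwd 24803],
   .loop none [.fwd 24552, .fwd 24804, .bwd 21210],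
   .loop none [.fwd 24805],
   .loop none [.fwd 19644, .fwd 24806, .bwd 21209],
   .loop none [.fwd 24807],
   .loop none [.fwd 21208, .bwd 24808],
   .loop (some (15, 0)) [.bwd 21235, .bwd 8266, .fwd 17234, .bwd 19986, .bwd 19985],
   .loop none [.bwd 24810],
   .loop none [.fwd 21235, .bwd 24811],
   .loop (some (15, 0)) [.fwd 21249, .fwd 19983, .fwd 19984, .fwd 19985],
   .loop (some (15, 0)) [.bwd 21213, .bwd 20294, .bwd 24774, .fwd 19987],
   .loop (some (15, 0)) [.fwd 7906, .fwd 5138, .fwd 19989, .fwd 19990],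
   .loop (some (17, 2)) [.fwd 23142, .fwd 20768, .fwd 23119, .bwd 23128, .fwd 19992, .fwd 19993],
   .loop none [.bwd 24816],
   .loop none [.bwd 23142, .bwd 24817],
   .loop none [.bwd 19994, .fwd 24817, .bwd 20626],
   .loop none [.fwd 24819],
   .loop none [.fwd 23135, .bwd 24817],
   .loop none [.fwd 23557, .bwd 24817],
   .loop none [.fwd 20625, .bwd 24820],
   .loop (some (6, 2)) [.bwd 19992, .fwd 23130, .bwd 16742],
   .loop (some (15, 0)) [.bwd 19916, .bwd 17980, .fwd 17979, .bwd 23129],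
   .loop (some (7, 2)) [.bwd 19993, .bwd 24824, .bwd 18133],
   .loop (some (15, 0)) [.fwd 10653, .fwd 10654, .fwd 18133, .bwd 24472],
   .loop (some (2, 2)) [.bwd 19994, .fwd 24818, .fwd 24483],
   .loop (some (18, 2)) [.fwd 23153, .bwd 20071, .bwd 24821, .fwd 19994, .fwd 19995],
   .loop (some (6, 2)) [.bwd 24818, .bwd 24826, .bwd 11401],
   .loop (some (12, 2)) [.bwd 19994, .fwd 24822, .bwd 17124],
   .loop (some (17, 3)) [.fwd 20624, .bwd 24823, .bwd 24828, .bwd 21057, .bwd 21056],
   .loop (some (3, 1)) [.bwd 19996, .bwd 19995, .bwd 24828],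
   .loop (some (13, 2)) [.bwd 19995, .bwd 24831, .bwd 22960],
   .loop (some (11, 2)) [.bwd 24823, .bwd 24831, .bwd 17123],
   .loop (some (15, 0)) [.fwd 18133, .bwd 24472, .fwd 19993, .fwd 19994],
   .loop (some (10, 2)) [.fwd 24828, .bwd 24831, .fwd 24607],
   .loop (some (2, 1)) [.fwd 5685, .bwd 24829, .fwd 19996],
   .loop (some (4, 1)) [.fwd 21057, .fwd 24833, .fwd 19997],
   .loop (some (3, 0)) [.fwd 21055, .fwd 21056, .bwd 24839],
   .loop (some (2, 0)) [.fwd 21054, .bwd 24840, .fwd 19998],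
   .loop (some (3, 1)) [.bwd 20000, .bwd 19999, .fwd 24841],
   .loop (some (15, 0)) [.bwd 23152, .bwd 24838, .fwd 19997, .fwd 19998],
   .loop (some (4, 1)) [.fwd 21053, .fwd 24842, .fwd 20001],
   .loop (some (3, 0)) [.fwd 21051, .fwd 21052, .bwd 24844],
   .loop (some (2, 0)) [.fwd 21050, .bwd 24845, .fwd 20002],
   .loop (some (3, 1)) [.bwd 20004, .bwd 20003, .fwd 24846],
   .loop (some (4, 1)) [.fwd 21049, .fwd 24847, .fwd 20005],
   .loop (some (3, 0)) [.fwd 21047, .fwd 21048, .bwd 24848],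
   .loop (some (15, 0)) [.fwd 13608, .fwd 13585, .bwd 13590, .bwd 20010],
   .loop (some (15, 0)) [.bwd 21249, .bwd 21253, .bwd 21333, .fwd 21334],
   .loop (some (15, 0)) [.bwd 20318, .fwd 7820, .bwd 17314, .bwd 17341, .bwd 20013],
   .loop none [.bwd 24852],
   .loop none [.fwd 20318, .bwd 24853],
   .loop (some (15, 0)) [.fwd 23907, .fwd 20017, .fwd 20018, .fwd 20019],
   .loop (some (15, 0)) [.bwd 21212, .bwd 20329, .bwd 20058, .fwd 20027],
   .loop (some (15, 0)) [.fwd 17123, .fwd 17124, .fwd 24469, .bwd 24478],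
   .loop (some (11, 0)) [.bwd 24705, .fwd 9505, .fwd 23152],
   .loop (some (15, 0)) [.bwd 19997, .fwd 24838, .fwd 23152, .fwd 20075],
   .loop (some (15, 0)) [.fwd 19757, .fwd 19758, .fwd 23902, .bwd 20087],
   .loop (some (15, 0)) [.bwd 20376, .fwd 7863, .fwd 7975, .bwd 19940, .bwd 20091],
   .loop none [.bwd 24861],
   .loop none [.fwd 20376, .bwd 24862],
   .loop (some (17, 2)) [.bwd 21811, .bwd 24346, .bwd 24330, .fwd 20096, .fwd 20097],
   .loop (some (12, 2)) [.bwd 24331, .bwd 24348, .fwd 21641],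
   .loop (some (2, 2)) [.bwd 17009, .fwd 24559, .fwd 24864, .fwd 21812],
   .loop none [.fwd 24866],
   .loop none [.fwd 21812, .bwd 24867],
   .loop none [.fwd 24560, .fwd 24867, .fwd 21813],
   .loop none [.fwd 24869],
   .loop none [.fwd 24556, .fwd 24870, .fwd 21814],
   .loop none [.fwd 24871],
   .loop none [.bwd 21815, .bwd 24872],
   .loop (some (2, 3)) [.bwd 24556, .bwd 17007, .bwd 8662],
   .loop (some (15, 0)) [.bwd 8783, .fwd 24874, .fwd 20101, .fwd 20102],
   .loop (some (15, 0)) [.bwd 20797, .bwd 24172, .fwd 20129, .fwd 20130],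
   .loop (some (15, 0)) [.bwd 5910, .fwd 18150, .bwd 18400, .fwd 24537],
   .loop (some (12, 0)) [.fwd 24794, .fwd 22795, .fwd 22790],
   .loop (some (11, 2)) [.fwd 20149, .fwd 24878, .bwd 23320],
   .loop (some (10, 1)) [.fwd 24770, .fwd 22850, .bwd 23795],
   .loop (some (13, 2)) [.bwd 20165, .bwd 24686, .fwd 17162],
   .loop (some (15, 0)) [.bwd 21041, .fwd 17312, .fwd 20163, .fwd 20164],
   .loop (some (0, 0)) [.fwd 24619, .fwd 24881],
   .loop (some (0, 0)) [.fwd 24621, .fwd 24685],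
   .loop (some (0, 0)) [.fwd 24623, .fwd 24680],
   .loop (some (0, 0)) [.fwd 24625, .fwd 24676],
   .loop (some (13, 2)) [.bwd 20169, .bwd 24676, .fwd 17166],
   .loop (some (0, 0)) [.fwd 24628, .fwd 24887],
   .loop (some (0, 0)) [.fwd 24629, .fwd 24675],
   .loop (some (0, 0)) [.fwd 24631, .fwd 24669],
   .loop (some (0, 0)) [.fwd 24633, .fwd 24665],
   .loop (some (8, 2)) [.fwd 20176, .fwd 24539, .bwd 22063],
   .loop (some (15, 0)) [.bwd 19205, .bwd 21124, .bwd 22544, .fwd 22545],
   .loop (some (15, 0)) [.fwd 14057, .fwd 15060, .bwd 20542, .fwd 20187],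
   .loop (some (7, 2)) [.bwd 20195, .fwd 24118, .bwd 10428],
   .loop (some (15, 0)) [.bwd 22151, .bwd 23950, .bwd 18650, .bwd 24116],
   .loop (some (2, 2)) [.bwd 20196, .bwd 24387, .bwd 20843],
   .loop (some (6, 2)) [.fwd 24387, .bwd 24895, .bwd 10427],
   .loop (some (17, 3)) [.bwd 13362, .bwd 13361, .bwd 24575, .bwd 24897, .bwd 20842, .bwd 20841],
   .loop none [.fwd 24899],
   .loop none [.bwd 20841, .bwd 24900],
   .loop none [.fwd 20840, .bwd 24900],
   .loop (some (3, 1)) [.bwd 20198, .bwd 20197, .bwd 24897],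
   .loop (some (4, 3)) [.bwd 20197, .fwd 24575, .bwd 13360, .bwd 21742],
   .loop none [.fwd 24904],
   .loop none [.bwd 21742, .bwd 24905],
   .loop none [.fwd 21741, .bwd 24905],
   .loop none [.fwd 23215, .bwd 24905],
   .loop (some (20, 0)) [.fwd 22672, .fwd 16888, .fwd 16861, .bwd 7788, .bwd 15215, .fwd 13358, .fwd 13359, .bwd 24906],
   .loop (some (2, 1)) [.fwd 21681, .bwd 24907, .fwd 20198],
   .loop (some (11, 1)) [.fwd 23874, .bwd 24906, .bwd 24883],
   .loop (some (15, 0)) [.fwd 17764, .bwd 21655, .bwd 21682, .bwd 24907],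
   .loop (some (9, 1)) [.fwd 24530, .bwd 24909, .bwd 24883],
   .loop (some (18, 3)) [.bwd 20844, .bwd 20843, .fwd 24903, .fwd 24910, .bwd 21680, .bwd 21679],
   .loop none [.fwd 24914],
   .loop none [.bwd 24364, .fwd 24915, .bwd 21678],
   .loop none [.fwd 24916],
   .loop none [.bwd 19407, .fwd 24917, .bwd 21677],
   .loop none [.fwd 24918],
   .loop none [.fwd 19400, .fwd 24919, .bwd 21676],
   .loop none [.fwd 24920],
   .loop none [.fwd 21675, .bwd 24921],
   .loop (some (4, 1)) [.fwd 20842, .fwd 24903, .fwd 20199],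
   .loop (some (3, 0)) [.bwd 24902, .fwd 24901, .bwd 24923],
   .loop (some (2, 0)) [.fwd 20839, .bwd 24924, .fwd 20200],
   .loop (some (3, 1)) [.bwd 20202, .bwd 20201, .fwd 24925],
   .loop (some (10, 2)) [.bwd 24925, .bwd 24886, .bwd 24673],
   .loop (some (18, 0)) [.bwd 13364, .bwd 13363, .fwd 24902, .bwd 20839, .fwd 24926],
   .loop (some (12, 1)) [.fwd 23881, .bwd 24928, .bwd 24889],
   .loop (some (4, 1)) [.fwd 20838, .fwd 24926, .fwd 20203],
   .loop (some (3, 0)) [.fwd 20836, .fwd 20837, .bwd 24930],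
   .loop (some (13, 2)) [.bwd 24930, .bwd 24890, .fwd 24667],
   .loop (some (2, 0)) [.fwd 20835, .bwd 24931, .fwd 20204],
   .loop (some (3, 1)) [.bwd 20206, .bwd 20205, .fwd 24933],
   .loop (some (10, 2)) [.bwd 24933, .bwd 24891, .bwd 24663],
   .loop (some (4, 1)) [.fwd 20834, .fwd 24934, .fwd 20207],
   .loop (some (15, 0)) [.bwd 19257, .bwd 21131, .bwd 22771, .fwd 22772],
   .loop (some (11, 2)) [.bwd 20214, .bwd 24394, .fwd 20251],
   .loop (some (12, 2)) [.bwd 20215, .bwd 24938, .fwd 20252],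
   .loop (some (1, 2)) [.bwd 20216, .bwd 24913, .bwd 20165],
   .loop (some (13, 2)) [.bwd 20216, .bwd 24939, .fwd 20253],
   .loop (some (15, 0)) [.fwd 21446, .bwd 23464, .fwd 20214, .fwd 20215],
   .loop (some (9, 1)) [.fwd 24881, .fwd 24913, .bwd 24939],
   .loop (some (20, 8)) [.bwd 24940, .bwd 20164, .bwd 20163, .bwd 17312, .fwd 21041, .fwd 21042, .fwd 23938, .fwd 22123],
   .loop (some (0, 1)) [.fwd 24941, .fwd 24728],
   .loop (some (4, 2)) [.fwd 20216, .bwd 24944, .fwd 22124],
   .loop (some (9, 1)) [.fwd 24686, .fwd 24940, .bwd 24941],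
   .loop (some (10, 2)) [.bwd 20217, .bwd 24941, .fwd 20254],
   .loop (some (4, 1)) [.fwd 20826, .bwd 24737, .fwd 20218],
   .loop (some (11, 2)) [.bwd 20218, .bwd 24948, .fwd 20255],
   .loop (some (3, 2)) [.fwd 20825, .bwd 24949, .fwd 24736, .bwd 21381],
   .loop none [.fwd 24951],
   .loop none [.fwd 21380, .bwd 24952],
   .loop none [.fwd 20824, .fwd 24952, .fwd 21381],
   .loop none [.fwd 24954],
   .loop none [.fwd 24736, .bwd 24955],
   .loop none [.bwd 24742, .bwd 24955],
   .loop (some (12, 2)) [.bwd 20219, .bwd 24950, .fwd 20256],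
   .loop (some (0, 1)) [.fwd 24950, .fwd 24739],
   .loop (some (2, 0)) [.fwd 20823, .fwd 24956, .fwd 20219],
   .loop (some (3, 1)) [.bwd 20221, .bwd 20220, .fwd 24960],
   .loop (some (13, 2)) [.bwd 20220, .bwd 24958, .fwd 20257],
   .loop (some (10, 2)) [.bwd 20221, .bwd 24962, .fwd 20258],
   .loop (some (4, 1)) [.fwd 20822, .fwd 24961, .fwd 20222],
   .loop (some (11, 2)) [.bwd 20222, .bwd 24963, .fwd 20259],
   .loop (some (3, 0)) [.fwd 20820, .fwd 20821, .bwd 24964],
   .loop (some (12, 2)) [.bwd 20223, .bwd 24965, .fwd 20260],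
   .loop (some (0, 1)) [.fwd 24965, .fwd 24748],
   .loop (some (2, 0)) [.fwd 20819, .bwd 24966, .fwd 20223],
   .loop (some (3, 1)) [.bwd 20225, .bwd 20224, .fwd 24969],
   .loop (some (0, 1)) [.fwd 24967, .fwd 24750],
   .loop (some (10, 2)) [.bwd 24969, .bwd 24967, .fwd 24762],
   .loop (some (15, 0)) [.fwd 14411, .fwd 15058, .bwd 20548, .fwd 20234],
   .loop (some (15, 0)) [.fwd 14420, .fwd 14538, .fwd 20092, .fwd 20243],
   .loop (some (15, 0)) [.bwd 22236, .bwd 24005, .fwd 21505, .bwd 24228],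
   .loop (some (2, 2)) [.bwd 20252, .bwd 24429, .bwd 20806],
   .loop (some (3, 1)) [.bwd 20254, .bwd 20253, .bwd 24976],
   .loop (some (15, 0)) [.fwd 21505, .bwd 24228, .fwd 20251, .fwd 20252],
   .loop (some (20, 9)) [.fwd 24947, .bwd 17161, .bwd 17992, .bwd 16702, .bwd 17738, .fwd 17739, .bwd 21646, .bwd 21645, .bwd 21644],
   .loop none [.fwd 24979],
   .loop none [.bwd 21644, .bwd 24980],
   .loop none [.fwd 21643, .bwd 24980],
   .loop (some (12, 2)) [.bwd 24982, .bwd 24945, .bwd 23821],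
   .loop (some (4, 2)) [.fwd 20253, .fwd 24981, .fwd 23258],
   .loop (some (4, 1)) [.fwd 20805, .fwd 24977, .fwd 20255],
   .loop (some (3, 0)) [.fwd 20803, .fwd 20804, .bwd 24985],
   .loop (some (10, 2)) [.bwd 24986, .bwd 24959, .fwd 24740],
   .loop (some (2, 0)) [.fwd 20802, .bwd 24986, .fwd 20256],
   .loop (some (3, 1)) [.bwd 20258, .bwd 20257, .fwd 24988],
   .loop (some (4, 1)) [.fwd 20801, .fwd 24989, .fwd 20259],
   .loop (some (2, 0)) [.bwd 20798, .bwd 24762, .bwd 20260],
   .loop (some (15, 0)) [.bwd 21415, .fwd 13566, .bwd 14109, .fwd 7789, .bwd 20278],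
   .loop none [.bwd 24992],
   .loop none [.fwd 21415, .bwd 24993],
   .loop (some (10, 2)) [.fwd 20939, .bwd 24880, .bwd 24716, .bwd 24713],
   .loop none [.bwd 24995],
   .loop none [.fwd 20938, .bwd 24996],
   .loop none [.bwd 20939, .bwd 24996],
   .loop (some (15, 0)) [.bwd 5145, .fwd 22959, .fwd 20300, .fwd 20301]]

theorem just99_len : just99.length = 250 := by decide +kernel

theorem just99_ok : cert.okFacts 24750 just99 = true := by decide +kernel

/-- justifications -/
noncomputable def just100 : List Cert.Just :=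
  [.loop (some (17, 3)) [.fwd 24782, .fwd 20361, .bwd 24641, .bwd 20967, .bwd 20966],
   .loop (some (10, 2)) [.fwd 24641, .bwd 24642, .fwd 23792],
   .loop (some (15, 0)) [.bwd 8255, .fwd 8222, .fwd 8220, .fwd 20334],
   .loop (some (8, 0)) [.bwd 17494, .fwd 17492, .fwd 24785],
   .loop (some (15, 0)) [.fwd 9939, .fwd 9940, .fwd 23358, .bwd 20403],
   .loop (some (17, 0)) [.bwd 22034, .fwd 6851, .fwd 6852, .fwd 11597, .fwd 23358],
   .loop (some (2, 2)) [.fwd 20403, .fwd 25005, .fwd 22035],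
   .loop (some (17, 1)) [.bwd 18487, .bwd 12106, .bwd 12105, .fwd 20420, .bwd 24634],
   .loop (some (0, 2)) [.fwd 24662, .fwd 24935],
   .loop (some (11, 2)) [.fwd 20420, .bwd 25008, .bwd 20834],
   .loop (some (12, 0)) [.bwd 20835, .fwd 25008, .fwd 20421],
   .loop (some (13, 2)) [.bwd 20422, .fwd 25010, .fwd 20836],
   .loop (some (10, 2)) [.bwd 20423, .bwd 25011, .fwd 20837],
   .loop (some (11, 2)) [.bwd 20424, .bwd 25012, .fwd 20838],
   .loop (some (12, 2)) [.bwd 20425, .bwd 25013, .fwd 20839],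
   .loop (some (13, 2)) [.bwd 20426, .bwd 25014, .bwd 24902],
   .loop (some (0, 1)) [.fwd 23879, .fwd 25015, .fwd 24679],
   .loop none [.bwd 25016],
   .loop none [.fwd 22181, .bwd 25017],
   .loop none [.bwd 22182, .bwd 25017],
   .loop (some (15, 0)) [.fwd 4846, .fwd 4847, .bwd 22888, .bwd 20429],
   .loop (some (6, 3)) [.bwd 20432, .fwd 23728, .fwd 20449],
   .loop (some (17, 1)) [.fwd 23519, .bwd 12257, .fwd 12881, .fwd 23775, .fwd 24144],
   .loop (some (2, 1)) [.bwd 24019, .bwd 23964, .fwd 24144],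
   .loop (some (6, 1)) [.bwd 20453, .bwd 23730, .fwd 20438],
   .loop (some (6, 3)) [.bwd 20441, .fwd 24019, .fwd 20691],
   .loop (some (3, 2)) [.fwd 20447, .bwd 25025, .bwd 20697],
   .loop (some (2, 1)) [.fwd 25021, .bwd 23901, .bwd 23729],
   .loop (some (18, 0)) [.bwd 22089, .bwd 23927, .bwd 13293, .bwd 13292, .fwd 20444],
   .loop (some (17, 5)) [.fwd 25021, .fwd 23743, .bwd 12801, .fwd 12285, .bwd 23448],
   .loop (some (8, 1)) [.fwd 20692, .fwd 25027, .bwd 23709],
   .loop (some (15, 0)) [.bwd 8819, .fwd 4333, .bwd 8067, .bwd 20462],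
   .loop (some (15, 0)) [.bwd 8825, .fwd 22752, .bwd 23446, .bwd 23646],
   .loop (some (15, 0)) [.bwd 8829, .fwd 22750, .fwd 22491, .fwd 23351],
   .loop (some (15, 0)) [.bwd 8781, .fwd 22753, .fwd 23348, .bwd 23350],
   .loop (some (11, 2)) [.bwd 23349, .bwd 23352, .fwd 23446],
   .loop (some (7, 1)) [.bwd 20738, .bwd 22501, .fwd 20469],
   .loop (some (17, 3)) [.fwd 22767, .bwd 25036, .fwd 22469, .bwd 14216, .fwd 22718],
   .loop (some (20, 7)) [.bwd 22514, .fwd 22506, .fwd 8812, .bwd 8817, .bwd 9136, .bwd 9137, .fwd 9145, .bwd 22747],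
   .loop (some (16, 5)) [.fwd 22508, .fwd 8684, .bwd 8682, .bwd 9590, .bwd 23275],
   .loop (some (17, 5)) [.bwd 25039, .fwd 22722, .bwd 9079, .bwd 9096, .bwd 22729],
   .loop (some (20, 7)) [.fwd 25040, .fwd 22508, .fwd 8811, .bwd 8816, .bwd 9134, .bwd 9140, .fwd 9146, .bwd 22742],
   .loop (some (20, 7)) [.fwd 22498, .bwd 22452, .fwd 8686, .bwd 8815, .bwd 9138, .fwd 9131, .fwd 9147, .bwd 22746],
   .loop (some (14, 1)) [.fwd 24449, .bwd 24447, .bwd 24441, .bwd 24252],
   .loop (some (15, 0)) [.fwd 21563, .fwd 21564, .fwd 21565, .bwd 20572],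
   .loop (some (15, 0)) [.bwd 16033, .fwd 24269, .fwd 20575, .fwd 20576],
   .loop (some (15, 0)) [.bwd 6635, .fwd 5117, .bwd 6666, .fwd 20582],
   .loop (some (15, 0)) [.bwd 9828, .fwd 7131, .bwd 10159, .bwd 22912],
   .loop (some (17, 6)) [.bwd 22962, .bwd 5145, .bwd 5144, .fwd 24705, .fwd 22377, .fwd 22378],
   .loop none [.fwd 25048],
   .loop none [.fwd 22378, .bwd 25049],
   .loop (some (10, 0)) [.fwd 17122, .fwd 24835, .bwd 20624],
   .loop (some (0, 0)) [.fwd 24063, .fwd 24615],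
   .loop (some (15, 0)) [.fwd 24054, .bwd 24033, .bwd 22997, .bwd 20646],
   .loop (some (15, 0)) [.bwd 5863, .fwd 23194, .fwd 20655, .fwd 20656],
   .loop (some (7, 0)) [.fwd 4584, .bwd 24077, .fwd 23074],
   .loop (some (6, 2)) [.fwd 20662, .fwd 25055, .bwd 4583],
   .loop (some (6, 1)) [.fwd 20683, .bwd 24025, .bwd 23610],
   .loop (some (17, 5)) [.bwd 25057, .bwd 15672, .fwd 15320, .bwd 23963, .fwd 24019],
   .loop (some (15, 0)) [.bwd 23349, .fwd 20472, .bwd 13824, .bwd 20698],
   .loop (some (15, 0)) [.bwd 23446, .bwd 23646, .bwd 23645, .fwd 25030],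
   .loop (some (2, 3)) [.bwd 23661, .fwd 25028, .fwd 22090],
   .loop (some (12, 2)) [.fwd 25061, .bwd 23717, .bwd 12119],
   .loop (some (15, 0)) [.fwd 22423, .bwd 22731, .fwd 9124, .fwd 22731],
   .loop (some (15, 0)) [.bwd 9140, .fwd 9146, .bwd 22742, .fwd 25041],
   .loop (some (15, 0)) [.fwd 9131, .fwd 9147, .bwd 22746, .fwd 25042],
   .loop (some (15, 0)) [.bwd 8507, .fwd 2173, .fwd 2219, .bwd 20752],
   .loop (some (15, 0)) [.bwd 8506, .fwd 8533, .fwd 8557, .fwd 22763],
   .loop (some (0, 0)) [.fwd 22757, .fwd 22761],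
   .loop (some (15, 0)) [.bwd 8511, .fwd 8535, .bwd 8578, .fwd 22760],
   .loop (some (15, 0)) [.bwd 8517, .fwd 8538, .bwd 8574, .fwd 22756],
   .loop (some (15, 0)) [.fwd 8505, .fwd 8546, .bwd 8572, .fwd 22751],
   .loop (some (15, 0)) [.fwd 10373, .fwd 12451, .bwd 18268, .fwd 20753],
   .loop (some (15, 0)) [.fwd 10131, .fwd 5842, .bwd 10155, .fwd 22919],
   .loop (some (15, 0)) [.bwd 11102, .bwd 5876, .bwd 5875, .fwd 23114],
   .loop (some (15, 0)) [.fwd 3314, .fwd 3315, .fwd 14162, .bwd 20790],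
   .loop (some (15, 0)) [.bwd 20129, .fwd 24172, .fwd 20797, .fwd 20798],
   .loop (some (0, 0)) [.fwd 24957, .fwd 24987],
   .loop (some (17, 6)) [.fwd 20804, .fwd 20805, .fwd 24976, .bwd 24984, .fwd 22208, .fwd 22209],
   .loop none [.fwd 25078],
   .loop none [.fwd 22209, .bwd 25079],
   .loop none [.bwd 22210, .bwd 25079],
   .loop (some (18, 2)) [.bwd 24989, .fwd 20802, .fwd 20803, .fwd 25081, .fwd 22211],
   .loop (some (15, 0)) [.fwd 17018, .bwd 19538, .bwd 24430, .bwd 20806],
   .loop (some (13, 2)) [.bwd 20824, .bwd 25077, .fwd 20803],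
   .loop (some (17, 6)) [.fwd 20825, .fwd 20826, .bwd 24730, .bwd 24946, .fwd 22125, .fwd 22126],
   .loop none [.fwd 25085],
   .loop none [.bwd 24953, .fwd 25086, .fwd 22127],
   .loop none [.fwd 25087],
   .loop none [.bwd 22128, .bwd 25088],
   .loop (some (18, 2)) [.bwd 24961, .fwd 20823, .fwd 20824, .fwd 24953, .fwd 25089],
   .loop (some (12, 2)) [.bwd 24953, .bwd 25084, .fwd 25081],
   .loop (some (15, 0)) [.fwd 17058, .bwd 19353, .bwd 24397, .bwd 20827],
   .loop (some (12, 2)) [.fwd 24525, .bwd 24526, .fwd 24433],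
   .loop (some (12, 2)) [.bwd 24391, .bwd 24392, .fwd 24357],
   .loop (some (15, 0)) [.fwd 18992, .bwd 24020, .fwd 20856, .fwd 20857],
   .loop (some (15, 0)) [.fwd 16988, .bwd 19346, .bwd 18762, .bwd 20865],
   .loop (some (4, 1)) [.fwd 21321, .bwd 23649, .fwd 20873],
   .loop (some (3, 0)) [.fwd 21319, .fwd 21320, .bwd 25097],
   .loop (some (2, 0)) [.fwd 21318, .bwd 25098, .fwd 20874],
   .loop (some (3, 1)) [.bwd 20876, .bwd 20875, .fwd 25099],
   .loop (some (15, 0)) [.fwd 14447, .fwd 23648, .fwd 20873, .fwd 20874],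
   .loop (some (4, 1)) [.fwd 21317, .fwd 25100, .fwd 20877],
   .loop (some (3, 0)) [.fwd 21315, .fwd 21316, .bwd 25102],
   .loop (some (2, 0)) [.fwd 21314, .bwd 25103, .fwd 20878],
   .loop (some (3, 1)) [.bwd 20880, .bwd 20879, .fwd 25104],
   .loop (some (4, 1)) [.fwd 21313, .fwd 25105, .fwd 20881],
   .loop (some (3, 0)) [.fwd 21311, .fwd 21312, .bwd 25106],
   .loop (some (2, 0)) [.fwd 21310, .bwd 25107, .fwd 20882],
   .loop (some (3, 1)) [.bwd 20884, .bwd 20883, .fwd 25108],
   .loop (some (17, 5)) [.fwd 20884, .bwd 24075, .bwd 9291, .bwd 4584, .bwd 4583],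
   .loop (some (4, 2)) [.fwd 20883, .bwd 25110, .bwd 4582],
   .loop (some (15, 0)) [.fwd 17447, .fwd 17448, .bwd 24030, .bwd 20890],
   .loop (some (15, 0)) [.fwd 20785, .bwd 23075, .fwd 24054, .bwd 24033],
   .loop (some (15, 0)) [.bwd 20932, .bwd 8217, .bwd 8249, .bwd 20901, .bwd 20900],
   .loop none [.bwd 25114],
   .loop none [.fwd 20932, .bwd 25115],
   .loop (some (15, 0)) [.bwd 15764, .bwd 16301, .bwd 16327, .fwd 20908],
   .loop (some (7, 2)) [.fwd 21092, .fwd 24997, .fwd 20968],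
   .loop (some (4, 1)) [.fwd 20967, .bwd 20936, .bwd 21092],
   .loop (some (3, 0)) [.fwd 21091, .fwd 25119, .bwd 20966, .bwd 20965],
   .loop none [.bwd 25120],
   .loop none [.bwd 21091, .bwd 25121],
   .loop (some (7, 0)) [.bwd 17216, .fwd 17203, .bwd 25000],
   .loop (some (15, 0)) [.bwd 8220, .bwd 8222, .fwd 8255, .bwd 20972],
   .loop (some (15, 0)) [.bwd 24944, .bwd 22123, .bwd 23938, .bwd 21042],
   .loop (some (11, 2)) [.bwd 23938, .bwd 24448, .bwd 21646],
   .loop (some (15, 0)) [.bwd 20163, .bwd 17312, .fwd 21041, .fwd 21042],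
   .loop (some (11, 2)) [.bwd 21045, .bwd 23639, .fwd 19069],
   .loop (some (12, 2)) [.bwd 21046, .bwd 25128, .fwd 16724],
   .loop (some (13, 2)) [.bwd 21047, .bwd 25129, .fwd 16725],
   .loop (some (15, 0)) [.bwd 14130, .bwd 23637, .fwd 21045, .fwd 21046],
   .loop (some (10, 2)) [.bwd 21048, .bwd 25130, .fwd 16726],
   .loop (some (11, 2)) [.bwd 21049, .bwd 25132, .fwd 16727],
   .loop (some (12, 2)) [.bwd 21050, .bwd 25133, .fwd 16728],
   .loop (some (13, 2)) [.bwd 21051, .bwd 25134, .fwd 16729],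
   .loop (some (10, 2)) [.bwd 21052, .bwd 25135, .fwd 16730],
   .loop (some (11, 2)) [.bwd 21053, .bwd 25136, .fwd 16731],
   .loop (some (12, 2)) [.bwd 21054, .bwd 25137, .fwd 16732],
   .loop (some (13, 2)) [.bwd 21055, .bwd 25138, .fwd 16733],
   .loop (some (11, 1)) [.bwd 25051, .bwd 24832, .bwd 25139],
   .loop (some (10, 2)) [.bwd 21056, .bwd 25139, .fwd 16734],
   .loop (some (15, 0)) [.fwd 14177, .bwd 20769, .bwd 20768, .fwd 24483],
   .loop (some (15, 0)) [.bwd 23147, .bwd 20071, .bwd 20070, .fwd 24478],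
   .loop (some (6, 2)) [.fwd 25122, .bwd 25118, .fwd 22875],
   .loop (some (15, 0)) [.bwd 15855, .bwd 16390, .bwd 16421, .fwd 23469],
   .loop (some (15, 0)) [.bwd 21498, .fwd 15354, .fwd 16438, .bwd 19257, .bwd 21131],
   .loop none [.bwd 25146],
   .loop none [.fwd 21498, .bwd 25147],
   .loop (some (8, 0)) [.bwd 17205, .fwd 17203, .fwd 24809],
   .loop (some (15, 0)) [.fwd 14162, .bwd 20790, .bwd 20789, .fwd 23056],
   .loop (some (15, 0)) [.bwd 5652, .bwd 23088, .fwd 23087, .fwd 21222],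
   .loop (some (12, 2)) [.bwd 21653, .bwd 23791, .fwd 21334],
   .loop (some (15, 0)) [.fwd 20060, .bwd 21178, .bwd 24775, .fwd 21299],
   .loop (some (15, 0)) [.fwd 22638, .fwd 20869, .fwd 21301, .fwd 21302],
   .loop (some (6, 2)) [.bwd 21304, .bwd 23030, .fwd 15490],
   .loop (some (15, 0)) [.bwd 23074, .bwd 15492, .bwd 15491, .fwd 24039],
   .loop (some (15, 0)) [.fwd 20058, .fwd 20329, .fwd 21212, .fwd 21326],
   .loop (some (15, 0)) [.bwd 24030, .bwd 20890, .bwd 24068, .fwd 24069],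
   .loop (some (15, 0)) [.fwd 15345, .bwd 13248, .fwd 13247, .bwd 21365],
   .loop (some (10, 2)) [.bwd 23614, .bwd 23831, .fwd 22235],
   .loop (some (9, 1)) [.fwd 19451, .bwd 24657, .bwd 24865],
   .loop (some (15, 0)) [.bwd 7357, .fwd 5472, .bwd 5105, .fwd 21368],
   .loop (some (15, 0)) [.bwd 3447, .fwd 22688, .fwd 21371, .fwd 21372],
   .loop (some (13, 2)) [.bwd 25089, .bwd 25091, .fwd 22211],
   .loop (some (15, 0)) [.fwd 16417, .fwd 16418, .fwd 24263, .bwd 24525],
   .loop (some (0, 0)) [.fwd 24170, .fwd 24323],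
   .loop (some (11, 2)) [.bwd 21395, .bwd 24324, .fwd 21478],
   .loop (some (12, 2)) [.bwd 21396, .bwd 25167, .fwd 21479],
   .loop (some (13, 2)) [.bwd 21397, .bwd 25168, .fwd 21480],
   .loop (some (15, 0)) [.bwd 16243, .fwd 24322, .fwd 21395, .fwd 21396],
   .loop (some (10, 2)) [.bwd 21398, .bwd 25169, .fwd 21481],
   .loop (some (11, 2)) [.bwd 21399, .bwd 25171, .fwd 21482],
   .loop (some (12, 2)) [.bwd 21400, .bwd 25172, .fwd 21483],
   .loop (some (13, 2)) [.bwd 21401, .bwd 25173, .fwd 21484],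
   .loop (some (10, 2)) [.bwd 21402, .bwd 25174, .fwd 21485],
   .loop (some (11, 2)) [.bwd 21403, .bwd 25175, .fwd 21486],
   .loop (some (12, 2)) [.bwd 21404, .bwd 25176, .fwd 21487],
   .loop (some (13, 2)) [.bwd 21405, .bwd 25177, .fwd 21488],
   .loop (some (10, 2)) [.bwd 21406, .bwd 25178, .fwd 21489],
   .loop (some (11, 2)) [.bwd 21407, .bwd 25179, .fwd 21490],
   .loop (some (12, 2)) [.bwd 21408, .bwd 25180, .fwd 21491],
   .loop (some (13, 2)) [.bwd 21409, .bwd 25181, .fwd 21492],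
   .loop (some (15, 0)) [.fwd 16323, .fwd 16324, .fwd 19457, .fwd 24357],
   .loop (some (10, 2)) [.bwd 21421, .bwd 25166, .fwd 21394],
   .loop (some (0, 0)) [.fwd 24324, .fwd 25184],
   .loop (some (11, 2)) [.bwd 21422, .bwd 25184, .fwd 21395],
   .loop (some (12, 2)) [.bwd 21423, .bwd 25186, .fwd 21396],
   .loop (some (13, 2)) [.bwd 21424, .bwd 25187, .fwd 21397],
   .loop (some (10, 2)) [.bwd 21425, .bwd 25188, .fwd 21398],
   .loop (some (11, 2)) [.bwd 21426, .bwd 25189, .fwd 21399],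
   .loop (some (12, 2)) [.bwd 21427, .bwd 25190, .fwd 21400],
   .loop (some (13, 2)) [.bwd 21428, .bwd 25191, .fwd 21401],
   .loop (some (10, 2)) [.bwd 21429, .bwd 25192, .fwd 21402],
   .loop (some (11, 2)) [.bwd 21430, .bwd 25193, .fwd 21403],
   .loop (some (12, 2)) [.bwd 21431, .bwd 25194, .fwd 21404],
   .loop (some (13, 2)) [.bwd 21432, .bwd 25195, .fwd 21405],
   .loop (some (10, 2)) [.bwd 21433, .bwd 25196, .fwd 21406],
   .loop (some (11, 2)) [.bwd 21434, .bwd 25197, .fwd 21407],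
   .loop (some (12, 2)) [.bwd 21435, .bwd 25198, .fwd 21408],
   .loop (some (15, 0)) [.fwd 16373, .fwd 16374, .bwd 24364, .fwd 24391],
   .loop (some (15, 0)) [.fwd 24911, .bwd 22178, .bwd 22177, .bwd 23830],
   .loop (some (1, 0)) [.fwd 11853, .bwd 24503, .bwd 21448],
   .loop (some (13, 2)) [.bwd 21448, .bwd 23923, .fwd 21508],
   .loop (some (9, 1)) [.fwd 11892, .bwd 25202, .bwd 23923],
   .loop (some (10, 2)) [.bwd 21449, .bwd 25203, .fwd 21509],
   .loop (some (11, 2)) [.bwd 21450, .bwd 25205, .fwd 21510],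
   .loop (some (9, 1)) [.fwd 11551, .bwd 24507, .bwd 25205],
   .loop (some (12, 2)) [.bwd 21451, .bwd 25206, .fwd 21511],
   .loop (some (13, 2)) [.bwd 21452, .bwd 25208, .fwd 21512],
   .loop (some (10, 2)) [.bwd 21453, .bwd 25209, .fwd 21513],
   .loop (some (11, 2)) [.bwd 21454, .bwd 25210, .fwd 21514],
   .loop (some (12, 2)) [.bwd 21455, .bwd 25211, .fwd 21515],
   .loop (some (0, 1)) [.fwd 25211, .fwd 24511],
   .loop (some (13, 2)) [.bwd 21456, .bwd 25212, .fwd 21516],
   .loop (some (0, 1)) [.fwd 25214, .fwd 24513],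
   .loop (some (20, 0)) [.bwd 10864, .bwd 8304, .bwd 19546, .bwd 21778, .bwd 21777, .bwd 21776, .bwd 21775, .bwd 23919],
   .loop (some (16, 0)) [.bwd 6851, .fwd 23309, .fwd 11067, .bwd 25216, .fwd 21477],
   .loop (some (9, 1)) [.fwd 9649, .bwd 25217, .bwd 25185],
   .loop (some (15, 0)) [.bwd 15041, .fwd 24141, .fwd 21478, .fwd 21479],
   .loop (some (15, 0)) [.fwd 16461, .bwd 19396, .bwd 22883, .fwd 22884],
   .loop (some (15, 0)) [.fwd 16507, .fwd 16508, .bwd 24409, .fwd 24433],
   .loop (some (4, 1)) [.fwd 22284, .bwd 23376, .fwd 21536],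
   .loop (some (3, 0)) [.fwd 22282, .fwd 22283, .bwd 25222],
   .loop (some (2, 0)) [.fwd 22281, .bwd 25223, .fwd 21537],
   .loop (some (3, 1)) [.bwd 21539, .bwd 21538, .fwd 25224],
   .loop (some (15, 0)) [.fwd 11812, .fwd 23374, .fwd 21536, .fwd 21537],
   .loop (some (4, 1)) [.fwd 22280, .fwd 25225, .fwd 21540],
   .loop (some (3, 0)) [.fwd 22278, .fwd 22279, .bwd 25227],
   .loop (some (2, 0)) [.fwd 22277, .bwd 25228, .fwd 21541],
   .loop (some (3, 1)) [.bwd 21543, .bwd 21542, .fwd 25229],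
   .loop (some (4, 1)) [.fwd 22276, .fwd 25230, .fwd 21544],
   .loop (some (3, 0)) [.fwd 22274, .fwd 22275, .bwd 25231],
   .loop (some (2, 0)) [.fwd 22273, .bwd 25232, .fwd 21545],
   .loop (some (3, 1)) [.bwd 21547, .bwd 21546, .fwd 25233],
   .loop (some (4, 1)) [.fwd 17052, .fwd 24589, .fwd 25234, .fwd 21548],
   .loop none [.fwd 25235],
   .loop none [.fwd 17051, .fwd 25236, .fwd 21549],
   .loop none [.fwd 25237],
   .loop none [.bwd 24576, .fwd 25238, .fwd 21550],
   .loop none [.fwd 25239],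
   .loop none [.fwd 21110, .fwd 25240, .fwd 21551],
   .loop none [.fwd 25241],
   .loop none [.bwd 21552, .bwd 25242],
   .loop (some (17, 0)) [.bwd 24152, .bwd 24571, .bwd 21111, .bwd 21110, .fwd 25243],
   .loop (some (3, 3)) [.fwd 25244, .fwd 22266, .fwd 22267],
   .loop (some (15, 0)) [.fwd 20571, .fwd 20572, .bwd 21565, .bwd 21564],
   .loop (some (20, 0)) [.fwd 21590, .fwd 10594, .bwd 10839, .fwd 13718, .bwd 18529, .fwd 20571, .fwd 20572, .bwd 21565],
   .loop (some (15, 0)) [.bwd 10441, .bwd 6865, .bwd 6864, .fwd 21566],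
   .loop (some (15, 0)) [.fwd 16357, .fwd 16358, .bwd 23747, .bwd 23314]]

theorem just100_len : just100.length = 250 := by decide +kernel

theorem just100_ok : cert.okFacts 25000 just100 = true := by decide +kernel

/-- justifications -/
noncomputable def just101 : List Cert.Just :=
  [.loop (some (15, 0)) [.bwd 9935, .fwd 23356, .fwd 21569, .fwd 21570],
   .loop (some (15, 0)) [.fwd 16625, .fwd 16626, .bwd 23672, .bwd 21586],
   .loop (some (15, 0)) [.bwd 13718, .fwd 10839, .bwd 10594, .bwd 21590],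
   .loop (some (20, 0)) [.fwd 21638, .fwd 21639, .bwd 16642, .bwd 17751, .fwd 17752, .bwd 21600, .bwd 21599, .bwd 21598],
   .loop (some (5, 0)) [.fwd 24947, .fwd 24618, .bwd 25253],
   .loop (some (15, 0)) [.fwd 18613, .fwd 21595, .fwd 21596, .fwd 21597],
   .loop (some (7, 0)) [.bwd 24981, .bwd 25254, .fwd 21598],
   .loop (some (15, 0)) [.fwd 16683, .fwd 16684, .fwd 24443, .bwd 21630],
   .loop (some (7, 0)) [.fwd 21649, .fwd 24618, .bwd 21637],
   .loop (some (20, 0)) [.fwd 21599, .fwd 21600, .bwd 17752, .fwd 17751, .fwd 16642, .bwd 21639, .bwd 21638, .bwd 21637],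
   .loop (some (5, 1)) [.bwd 25256, .bwd 25259, .fwd 25258],
   .loop (some (15, 0)) [.bwd 21646, .bwd 21645, .bwd 24981, .fwd 24982],
   .loop (some (12, 0)) [.bwd 22152, .fwd 24449, .bwd 21645],
   .loop (some (13, 2)) [.bwd 23258, .fwd 25262, .fwd 22153],
   .loop (some (9, 1)) [.fwd 24620, .fwd 25260, .fwd 25262],
   .loop (some (15, 0)) [.fwd 21642, .bwd 24982, .fwd 24981, .fwd 21645],
   .loop (some (0, 0)) [.fwd 23876, .fwd 24620],
   .loop (some (9, 3)) [.bwd 25152, .bwd 24646, .fwd 18737],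
   .loop (some (18, 2)) [.bwd 2767, .bwd 12667, .fwd 23704, .fwd 21659, .fwd 21660],
   .loop (some (2, 1)) [.bwd 8693, .bwd 25268, .fwd 21661],
   .loop (some (2, 0)) [.bwd 19403, .fwd 16376, .fwd 24922],
   .loop (some (12, 0)) [.bwd 20908, .fwd 19464, .fwd 24922],
   .loop (some (15, 0)) [.bwd 15809, .bwd 16347, .bwd 16377, .fwd 24922],
   .loop (some (15, 0)) [.fwd 14633, .fwd 13549, .bwd 10086, .bwd 23371],
   .loop (some (15, 0)) [.bwd 15281, .bwd 15057, .bwd 14401, .bwd 23389],
   .loop (some (15, 0)) [.bwd 14616, .bwd 14929, .fwd 14638, .fwd 23383],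
   .loop (some (15, 0)) [.fwd 15279, .bwd 15055, .fwd 14635, .bwd 23360],
   .loop (some (15, 0)) [.fwd 5153, .fwd 5154, .fwd 14908, .bwd 23326],
   .loop (some (12, 2)) [.bwd 21725, .bwd 23568, .fwd 12463],
   .loop (some (13, 2)) [.bwd 21726, .bwd 25278, .fwd 12464],
   .loop (some (10, 2)) [.bwd 21727, .bwd 25279, .fwd 12465],
   .loop (some (20, 0)) [.bwd 13359, .bwd 13358, .fwd 15215, .fwd 7788, .bwd 16861, .bwd 16888, .bwd 22672, .fwd 22671],
   .loop (some (1, 4)) [.fwd 25281, .fwd 13360, .bwd 25264, .fwd 22153],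
   .loop none [.fwd 25282],
   .loop none [.bwd 25263, .bwd 25283],
   .loop (some (11, 0)) [.fwd 24946, .fwd 24530, .fwd 22671],
   .loop (some (9, 1)) [.fwd 23874, .bwd 25281, .fwd 25285],
   .loop (some (4, 3)) [.fwd 21752, .fwd 22026, .fwd 23836],
   .loop (some (15, 0)) [.fwd 21748, .fwd 21749, .fwd 21750, .fwd 21751],
   .loop (some (15, 0)) [.fwd 21766, .fwd 21755, .fwd 8313, .bwd 21753],
   .loop (some (15, 0)) [.fwd 21752, .fwd 21753, .bwd 8313, .bwd 21755],
   .loop (some (15, 0)) [.bwd 8313, .bwd 21755, .bwd 21766, .bwd 21765],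
   .loop (some (15, 0)) [.bwd 18615, .bwd 23920, .fwd 23919, .fwd 21775],
   .loop (some (15, 0)) [.fwd 23919, .fwd 21775, .fwd 21776, .fwd 21777],
   .loop (some (15, 0)) [.bwd 10511, .bwd 5923, .bwd 5922, .fwd 21782],
   .loop (some (10, 2)) [.bwd 21784, .bwd 23779, .bwd 13318],
   .loop (some (13, 2)) [.fwd 15135, .fwd 23772, .bwd 25295, .bwd 13317],
   .loop none [.fwd 25296],
   .loop none [.fwd 15131, .fwd 25297, .bwd 13316],
   .loop none [.fwd 25298],
   .loop none [.bwd 13317, .bwd 25297],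
   .loop none [.fwd 14272, .fwd 25299, .bwd 13315],
   .loop none [.fwd 25301],
   .loop none [.bwd 12147, .fwd 25302, .bwd 13314],
   .loop none [.fwd 25303],
   .loop none [.fwd 23590, .fwd 25304, .bwd 13313],
   .loop none [.bwd 25305],
   .loop none [.bwd 22171, .bwd 25306],
   .loop none [.fwd 23589, .bwd 25306],
   .loop none [.bwd 23859, .bwd 25306],
   .loop none [.fwd 23407, .bwd 25306],
   .loop (some (15, 0)) [.fwd 8304, .fwd 10864, .bwd 10491, .bwd 21806],
   .loop (some (15, 0)) [.bwd 8600, .fwd 17007, .fwd 24873, .fwd 21816],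
   .loop (some (15, 0)) [.fwd 11774, .fwd 15850, .fwd 23227, .fwd 21870],
   .loop (some (20, 0)) [.bwd 22080, .bwd 24545, .fwd 24314, .fwd 17551, .fwd 13777, .fwd 4893, .fwd 4894, .bwd 24315],
   .loop (some (1, 2)) [.bwd 21917, .fwd 25314, .fwd 22081],
   .loop (some (15, 0)) [.fwd 10995, .fwd 15760, .bwd 16267, .fwd 23605],
   .loop (some (15, 0)) [.bwd 22042, .fwd 23415, .fwd 21931, .fwd 21932],
   .loop (some (15, 0)) [.fwd 4978, .fwd 4979, .bwd 24658, .bwd 21944],
   .loop (some (8, 0)) [.bwd 4401, .fwd 24223, .fwd 21944],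
   .loop (some (7, 0)) [.fwd 22783, .fwd 19276, .fwd 24207],
   .loop (some (6, 2)) [.fwd 24220, .fwd 25320, .fwd 8939],
   .loop (some (7, 2)) [.fwd 21988, .bwd 24165, .bwd 22018],
   .loop (some (15, 0)) [.bwd 22014, .fwd 7739, .fwd 13115, .bwd 15743, .bwd 21989],
   .loop none [.bwd 25323],
   .loop none [.fwd 22014, .bwd 25324],
   .loop (some (15, 0)) [.fwd 13354, .fwd 13355, .fwd 23813, .fwd 21992],
   .loop (some (7, 0)) [.bwd 25110, .fwd 25056, .bwd 24076],
   .loop (some (7, 2)) [.fwd 22261, .bwd 24264, .bwd 22029],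
   .loop (some (15, 0)) [.bwd 22287, .bwd 7739, .fwd 13123, .bwd 16008, .bwd 22013],
   .loop none [.bwd 25329],
   .loop none [.fwd 22287, .bwd 25330],
   .loop (some (7, 2)) [.bwd 22016, .bwd 23847, .fwd 15685],
   .loop (some (15, 0)) [.bwd 22020, .bwd 22019, .bwd 22018, .bwd 22017],
   .loop (some (20, 0)) [.fwd 22291, .fwd 22029, .fwd 22030, .fwd 22031, .bwd 13194, .fwd 8322, .fwd 13175, .bwd 22020],
   .loop (some (5, 2)) [.bwd 25334, .bwd 23837, .bwd 23577],
   .loop (some (15, 0)) [.fwd 22323, .fwd 22294, .fwd 17815, .bwd 22023],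
   .loop (some (15, 0)) [.bwd 22038, .bwd 22037, .bwd 22036, .bwd 22035],
   .loop (some (17, 3)) [.fwd 5405, .bwd 22995, .bwd 22036, .fwd 25006, .bwd 20402, .bwd 20401],
   .loop none [.fwd 25338],
   .loop none [.fwd 5404, .fwd 25339, .fwd 20401],
   .loop none [.fwd 25340],
   .loop none [.fwd 20400, .bwd 25339],
   .loop none [.bwd 20402, .bwd 25341],
   .loop (some (12, 0)) [.fwd 13312, .fwd 25309, .bwd 22037],
   .loop (some (0, 1)) [.bwd 25344, .fwd 23347],
   .loop (some (15, 0)) [.bwd 22068, .bwd 8321, .fwd 13238, .bwd 22038, .bwd 22037],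
   .loop none [.bwd 25346],
   .loop none [.fwd 22068, .bwd 25347],
   .loop (some (10, 1)) [.fwd 14267, .bwd 22995, .fwd 25344],
   .loop (some (15, 0)) [.fwd 22034, .fwd 22035, .fwd 22036, .fwd 22037],
   .loop (some (15, 0)) [.bwd 23486, .bwd 21932, .bwd 21931, .bwd 23415],
   .loop (some (15, 0)) [.bwd 21931, .bwd 23415, .fwd 22042, .fwd 22043],
   .loop (some (15, 0)) [.bwd 17551, .bwd 24314, .fwd 24545, .fwd 22080],
   .loop (some (15, 0)) [.bwd 12767, .fwd 23741, .bwd 23926, .fwd 23927],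
   .loop (some (11, 2)) [.bwd 22091, .bwd 25062, .bwd 12118],
   .loop (some (15, 0)) [.bwd 23656, .bwd 25061, .fwd 22091, .fwd 22092],
   .loop (some (12, 2)) [.bwd 22123, .bwd 25126, .bwd 21645],
   .loop (some (1, 0)) [.bwd 22179, .bwd 25286, .bwd 22124],
   .loop (some (13, 2)) [.bwd 22124, .bwd 25357, .fwd 23258],
   .loop (some (2, 1)) [.fwd 20221, .bwd 25090, .fwd 22129],
   .loop (some (10, 2)) [.bwd 22129, .bwd 25164, .fwd 22212],
   .loop (some (12, 1)) [.fwd 24962, .bwd 25360, .bwd 25361],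
   .loop (some (15, 0)) [.fwd 12783, .bwd 14993, .bwd 14440, .bwd 22139],
   .loop (some (15, 0)) [.fwd 13676, .fwd 13645, .bwd 13649, .bwd 23607],
   .loop (some (15, 0)) [.bwd 20195, .fwd 24116, .fwd 18650, .fwd 23950],
   .loop (some (15, 0)) [.fwd 12830, .bwd 15131, .bwd 14272, .fwd 23588],
   .loop (some (11, 2)) [.bwd 22177, .bwd 25160, .fwd 22236],
   .loop (some (9, 1)) [.fwd 19609, .bwd 23871, .bwd 25160],
   .loop (some (12, 2)) [.bwd 22178, .bwd 25367, .fwd 22237],
   .loop (some (0, 1)) [.fwd 25367, .fwd 23870],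
   .loop (some (13, 2)) [.fwd 25266, .bwd 22179, .bwd 25369, .fwd 22238],
   .loop none [.fwd 25371],
   .loop none [.bwd 22239, .bwd 25372],
   .loop (some (9, 1)) [.fwd 25359, .fwd 25286, .bwd 25369],
   .loop (some (10, 2)) [.bwd 22180, .bwd 25266, .fwd 25373],
   .loop (some (11, 2)) [.fwd 24679, .fwd 25018, .bwd 25375, .fwd 22240],
   .loop none [.fwd 25376],
   .loop none [.fwd 22240, .bwd 25377],
   .loop none [.bwd 22241, .bwd 25377],
   .loop (some (12, 0)) [.bwd 25379, .fwd 24679, .fwd 25019],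
   .loop (some (13, 2)) [.bwd 22183, .fwd 25380, .fwd 22242],
   .loop (some (2, 1)) [.fwd 20170, .fwd 24929, .fwd 22184],
   .loop (some (12, 1)) [.fwd 24675, .fwd 24929, .bwd 25381],
   .loop (some (0, 1)) [.fwd 25381, .fwd 23881],
   .loop (some (10, 2)) [.bwd 22184, .bwd 25381, .fwd 22243],
   .loop (some (12, 1)) [.fwd 24887, .bwd 25382, .bwd 25385],
   .loop (some (0, 1)) [.fwd 25385, .fwd 23883],
   .loop (some (11, 2)) [.bwd 22185, .bwd 25385, .fwd 22244],
   .loop (some (12, 2)) [.bwd 22186, .bwd 25388, .fwd 22245],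
   .loop (some (13, 2)) [.bwd 22187, .bwd 25389, .fwd 22246],
   .loop (some (0, 1)) [.fwd 25390, .fwd 23886],
   .loop (some (10, 2)) [.bwd 22188, .bwd 25390, .fwd 22247],
   .loop (some (11, 2)) [.bwd 22189, .bwd 25392, .fwd 22248],
   .loop (some (12, 2)) [.bwd 22190, .bwd 25393, .fwd 22249],
   .loop (some (0, 1)) [.fwd 25393, .fwd 23888],
   .loop (some (0, 1)) [.fwd 25394, .fwd 23889],
   .loop (some (13, 2)) [.bwd 22191, .bwd 25394, .fwd 22250],
   .loop (some (0, 1)) [.fwd 25397, .fwd 23890],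
   .loop (some (10, 2)) [.bwd 22192, .bwd 25397, .fwd 22251],
   .loop (some (11, 2)) [.bwd 22193, .bwd 25399, .fwd 22252],
   .loop (some (12, 2)) [.bwd 22194, .bwd 25400, .fwd 22253],
   .loop (some (0, 1)) [.fwd 25400, .fwd 23892],
   .loop (some (15, 0)) [.bwd 14548, .fwd 14406, .bwd 23296, .bwd 22194],
   .loop (some (11, 1)) [.fwd 9670, .bwd 23296, .bwd 25401],
   .loop (some (15, 0)) [.fwd 18653, .fwd 19633, .bwd 21957, .bwd 22198],
   .loop (some (15, 0)) [.bwd 24496, .bwd 16135, .bwd 16134, .fwd 24280],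
   .loop (some (15, 0)) [.bwd 16134, .fwd 24280, .bwd 25080, .fwd 25081],
   .loop (some (15, 0)) [.fwd 18663, .fwd 18814, .bwd 21987, .bwd 22226],
   .loop (some (15, 0)) [.fwd 22979, .bwd 22983, .bwd 11518, .fwd 22227],
   .loop (some (15, 0)) [.fwd 21985, .bwd 10163, .bwd 10162, .bwd 22229],
   .loop (some (15, 0)) [.fwd 15432, .fwd 15401, .bwd 15405, .bwd 23616],
   .loop (some (15, 0)) [.bwd 20251, .fwd 24228, .bwd 21505, .fwd 24005],
   .loop (some (20, 0)) [.fwd 24279, .fwd 24984, .bwd 20252, .bwd 20251, .fwd 24228, .bwd 21505, .fwd 24005, .fwd 22236],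
   .loop (some (15, 0)) [.bwd 25007, .bwd 17169, .bwd 17168, .bwd 25383],
   .loop (some (12, 1)) [.fwd 24628, .bwd 25386, .bwd 25387],
   .loop (some (15, 0)) [.fwd 17046, .fwd 17047, .fwd 24152, .bwd 22265],
   .loop (some (11, 0)) [.bwd 24873, .fwd 19642, .fwd 24152],
   .loop (some (15, 0)) [.fwd 20195, .fwd 20196, .fwd 24575, .fwd 23872],
   .loop (some (17, 5)) [.bwd 25223, .bwd 21536, .bwd 21535, .fwd 17147, .bwd 19792],
   .loop (some (4, 2)) [.bwd 22282, .bwd 25419, .bwd 19791],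
   .loop (some (15, 0)) [.bwd 22031, .bwd 22030, .bwd 22029, .bwd 22291],
   .loop (some (15, 0)) [.fwd 13217, .fwd 13218, .fwd 23854, .bwd 22320],
   .loop (some (15, 0)) [.bwd 21955, .bwd 22067, .bwd 22066, .bwd 22329],
   .loop (some (15, 0)) [.fwd 18545, .fwd 16442, .fwd 23414, .fwd 22335],
   .loop (some (15, 0)) [.bwd 8352, .bwd 5543, .bwd 5542, .fwd 23343],
   .loop (some (15, 0)) [.fwd 5538, .fwd 5539, .fwd 11298, .fwd 23338],
   .loop (some (15, 0)) [.bwd 21536, .bwd 23374, .bwd 11812, .fwd 24333],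
   .define,
   .define,
   .define,
   .loop (some (21, 4)) [.bwd 10872, .fwd 1746, .bwd 589, .fwd 1741, .bwd 11430, .fwd 25428, .fwd 25429, .fwd 25430],
   .define,
   .define,
   .define,
   .define,
   .define,
   .define,
   .define,
   .define,
   .define,
   .define,
   .define,
   .define,
   .define,
   .define,
   .define,
   .define,
   .define,
   .define,
   .loop (some (22, 29)) [.bwd 9928, .fwd 11430, .bwd 7295, .fwd 7189, .fwd 518, .bwd 7111, .fwd 7110, .fwd 5388, .fwd 5385, .bwd 5055, .bwd 4426, .bwd 9215, .bwd 22428, .fwd 25432, .fwd 25433, .fwd 25434, .fwd 25435, .fwd 25436, .fwd 25437, .fwd 25438, .fwd 25439, .fwd 25440, .fwd 25441, .fwd 25442, .fwd 25443, .fwd 25444, .fwd 25445, .fwd 25446, .fwd 25447, .fwd 25448, .fwd 25449],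
   .define,
   .define,
   .define,
   .loop (some (21, 4)) [.bwd 1812, .bwd 589, .fwd 1741, .fwd 1742, .fwd 10844, .fwd 25451, .fwd 25452, .fwd 25453],
   .define,
   .define,
   .define,
   .define,
   .define,
   .define,
   .define,
   .define,
   .define,
   .define,
   .define,
   .define,
   .define,
   .define,
   .loop (some (22, 29)) [.bwd 22227, .bwd 10844, .fwd 7299, .fwd 7192, .fwd 7136, .fwd 3524, .fwd 7197, .fwd 5619, .bwd 5378, .bwd 4939, .bwd 5360, .fwd 8863, .fwd 6612, .fwd 3670, .bwd 8596, .bwd 22716, .bwd 24147, .fwd 25455, .fwd 25456, .fwd 25457, .fwd 25458, .fwd 25459, .fwd 25460, .fwd 25461, .fwd 25462, .fwd 25463, .fwd 25464, .fwd 25465, .fwd 25466, .fwd 25467, .fwd 25468],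
   .define,
   .define,
   .loop (some (21, 4)) [.fwd 11430, .fwd 1742, .fwd 1743, .fwd 1744, .bwd 1753, .bwd 12450, .fwd 25470, .fwd 25471],
   .define,
   .define,
   .define,
   .define,
   .define,
   .define,
   .define,
   .define,
   .define,
   .define,
   .define,
   .define,
   .define,
   .define,
   .define,
   .define,
   .define,
   .define,
   .loop (some (22, 29)) [.bwd 12445, .fwd 1753, .fwd 7309, .fwd 7219, .bwd 7214, .fwd 7215, .fwd 6928, .fwd 5441, .fwd 4538, .fwd 3231, .bwd 5369, .bwd 8530, .fwd 22715, .fwd 25473, .fwd 25474, .fwd 25475, .fwd 25476, .fwd 25477, .fwd 25478, .fwd 25479, .fwd 25480, .fwd 25481, .fwd 25482, .fwd 25483, .fwd 25484, .fwd 25485, .fwd 25486, .fwd 25487, .fwd 25488, .fwd 25489, .fwd 25490],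
   .define,
   .define,
   .loop (some (21, 3)) [.bwd 11114, .bwd 10844, .fwd 1743, .fwd 1744, .fwd 1745, .fwd 10872, .fwd 25492, .fwd 25493],
   .define,
   .loop (some (1, 2)) [.bwd 10872, .bwd 12280, .fwd 25495],
   .define,
   .define,
   .loop (some (21, 4)) [.bwd 11345, .fwd 9531, .fwd 9403, .fwd 7177, .fwd 9721, .fwd 9722, .fwd 25497, .fwd 25498]]

theorem just101_len : just101.length = 250 := by decide +kernel

theorem just101_ok : cert.okFacts 25250 just101 = true := by decide +kernel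

/-- justifications -/
noncomputable def just102 : List Cert.Just :=
  [.define,
   .define,
   .define,
   .define,
   .define,
   .define,
   .define,
   .define,
   .define,
   .define,
   .define,
   .define,
   .define,
   .define,
   .define,
   .define,
   .loop (some (22, 26)) [.bwd 5540, .bwd 9279, .bwd 4572, .fwd 11103, .bwd 9721, .bwd 5342, .bwd 473, .bwd 3511, .bwd 5559, .bwd 7213, .bwd 9022, .fwd 9045, .bwd 3599, .fwd 14206, .bwd 23189, .fwd 25500, .fwd 25501, .fwd 25502, .fwd 25503, .fwd 25504, .fwd 25505, .fwd 25506, .fwd 25507, .fwd 25508, .fwd 25509, .fwd 25510, .fwd 25511, .fwd 25512, .fwd 25513, .fwd 25514, .fwd 25515],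
   .loop (some (21, 3)) [.fwd 25494, .bwd 8364, .fwd 1804, .fwd 1805, .fwd 1806, .fwd 1750, .fwd 1751, .fwd 12394],
   .define,
   .define,
   .define,
   .loop (some (19, 3)) [.fwd 12450, .bwd 1752, .bwd 1751, .fwd 25518, .fwd 25519, .fwd 25520],
   .define,
   .loop (some (21, 4)) [.bwd 25470, .fwd 12450, .bwd 1752, .bwd 1751, .bwd 1750, .bwd 1806, .fwd 7352, .fwd 25522],
   .define,
   .define,
   .define,
   .loop (some (20, 5)) [.fwd 5599, .fwd 5600, .bwd 7357, .bwd 14015, .bwd 15196, .fwd 25524, .fwd 25525, .fwd 25526],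
   .define,
   .loop (some (8, 2)) [.bwd 5472, .fwd 25518, .fwd 25528],
   .define,
   .define,
   .define,
   .define,
   .define,
   .define,
   .define,
   .define,
   .define,
   .define,
   .loop (some (22, 25)) [.bwd 21260, .fwd 23200, .fwd 11075, .fwd 10999, .bwd 9735, .fwd 1750, .fwd 7353, .fwd 6955, .bwd 6943, .fwd 1881, .fwd 6832, .fwd 5512, .bwd 5010, .fwd 10187, .bwd 10185, .fwd 11393, .bwd 5410, .fwd 13971, .fwd 13239, .bwd 12920, .bwd 13262, .fwd 25530, .fwd 25531, .fwd 25532, .fwd 25533, .fwd 25534, .fwd 25535, .fwd 25536, .fwd 25537, .fwd 25538, .fwd 25539],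
   .define,
   .define,
   .define,
   .define,
   .define,
   .define,
   .define,
   .loop (some (20, 6)) [.bwd 12404, .fwd 11113, .bwd 14019, .fwd 25543, .fwd 25544, .fwd 25545, .fwd 25546, .fwd 25547],
   .define,
   .loop (some (1, 2)) [.bwd 12394, .bwd 14019, .fwd 25549],
   .define,
   .define,
   .loop (some (18, 4)) [.bwd 12394, .fwd 12387, .fwd 14690, .fwd 25551, .fwd 25552],
   .define,
   .loop (some (12, 2)) [.bwd 12387, .bwd 12435, .fwd 25554],
   .define,
   .loop (some (0, 1)) [.fwd 12435, .fwd 25556],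
   .define,
   .loop (some (13, 2)) [.bwd 12394, .bwd 12435, .fwd 25558],
   .define,
   .loop (some (4, 2)) [.bwd 12394, .bwd 11113, .fwd 25560],
   .define,
   .define,
   .loop (some (11, 2)) [.fwd 11113, .bwd 12435, .fwd 25563],
   .define,
   .define,
   .define,
   .loop (some (15, 3)) [.bwd 12387, .fwd 25565, .fwd 25566, .fwd 25567],
   .define,
   .loop (some (9, 2)) [.fwd 14019, .bwd 12435, .fwd 25569],
   .define,
   .loop (some (7, 2)) [.bwd 10373, .bwd 12450, .fwd 25571],
   .define,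
   .loop (some (5, 2)) [.fwd 14005, .bwd 12450, .fwd 25573],
   .define,
   .define,
   .loop (some (15, 2)) [.fwd 25491, .bwd 12445, .fwd 25575, .fwd 25576],
   .define,
   .loop (some (18, 3)) [.fwd 19604, .bwd 12587, .fwd 12581, .fwd 22117, .fwd 25578],
   .define,
   .define,
   .define,
   .define,
   .define,
   .define,
   .loop (some (21, 4)) [.bwd 7352, .fwd 1806, .bwd 1749, .fwd 1801, .fwd 8342, .fwd 25583, .fwd 25584, .fwd 25585],
   .define,
   .define,
   .define,
   .loop (some (21, 4)) [.bwd 8342, .fwd 1802, .fwd 1803, .fwd 1804, .bwd 1815, .fwd 25587, .fwd 25588, .fwd 25589],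
   .loop (some (21, 2)) [.fwd 12580, .fwd 11083, .bwd 8404, .fwd 1803, .fwd 1804, .fwd 1805, .fwd 7352, .fwd 25522],
   .define,
   .loop (some (21, 4)) [.fwd 5700, .fwd 9363, .fwd 9328, .fwd 6911, .bwd 5601, .fwd 10268, .fwd 25560, .fwd 25592],
   .loop (some (21, 5)) [.bwd 25588, .bwd 25587, .bwd 1814, .bwd 1813, .bwd 1812, .bwd 1746, .fwd 10872, .fwd 25492, .fwd 25541],
   .loop none [.bwd 25594],
   .loop none [.bwd 25542, .fwd 25595, .fwd 25589],
   .loop none [.fwd 25596],
   .loop none [.bwd 25590, .bwd 25597],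
   .define,
   .loop (some (8, 2)) [.fwd 12590, .bwd 25454, .fwd 25599],
   .define,
   .define,
   .define,
   .define,
   .define,
   .define,
   .loop (some (20, 7)) [.fwd 11137, .fwd 17847, .fwd 25601, .fwd 25602, .fwd 25603, .fwd 25604, .fwd 25605, .fwd 25606],
   .define,
   .loop (some (2, 3)) [.fwd 8379, .fwd 9862, .fwd 25608],
   .loop (some (8, 2)) [.fwd 25609, .bwd 1813, .bwd 12590],
   .define,
   .define,
   .define,
   .loop (some (18, 4)) [.bwd 12578, .bwd 25609, .fwd 25611, .fwd 25612, .fwd 25613],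
   .define,
   .define,
   .loop (some (14, 2)) [.fwd 25454, .fwd 1813, .fwd 25615, .fwd 25616],
   .define,
   .loop (some (13, 2)) [.bwd 12578, .fwd 25615, .fwd 25618],
   .define,
   .define,
   .define,
   .loop (some (11, 2)) [.fwd 11137, .fwd 25615, .fwd 25622],
   .define,
   .define,
   .define,
   .loop (some (15, 3)) [.fwd 25609, .fwd 25624, .fwd 25625, .fwd 25626],
   .define,
   .loop (some (10, 2)) [.bwd 8379, .fwd 25615, .fwd 25628],
   .define,
   .define,
   .define,
   .define,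
   .loop (some (20, 5)) [.fwd 5497, .fwd 5498, .fwd 9367, .bwd 17844, .fwd 25630, .fwd 25631, .fwd 25632, .fwd 25633],
   .define,
   .loop (some (6, 2)) [.fwd 8358, .fwd 25587, .fwd 25635],
   .define,
   .define,
   .define,
   .define,
   .define,
   .define,
   .define,
   .define,
   .define,
   .define,
   .define,
   .define,
   .define,
   .define,
   .define,
   .define,
   .define,
   .define,
   .define,
   .loop (some (22, 28)) [.bwd 25524, .fwd 15196, .bwd 12321, .bwd 13447, .bwd 12309, .bwd 14023, .fwd 19434, .fwd 23691, .bwd 23692, .bwd 23282, .bwd 6644, .fwd 24295, .fwd 25637, .fwd 25638, .fwd 25639, .fwd 25640, .fwd 25641, .fwd 25642, .fwd 25643, .fwd 25644, .fwd 25645, .fwd 25646, .fwd 25647, .fwd 25648, .fwd 25649, .fwd 25650, .fwd 25651, .fwd 25652, .fwd 25653, .fwd 25654, .fwd 25655],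
   .define,
   .define,
   .loop (some (21, 4)) [.bwd 11131, .fwd 11123, .fwd 10114, .fwd 10115, .bwd 8380, .fwd 9980, .fwd 25657, .fwd 25658],
   .define,
   .define,
   .loop (some (1, 2)) [.fwd 8407, .bwd 14036, .fwd 25661],
   .loop (some (21, 2)) [.fwd 12382, .bwd 14417, .fwd 8384, .fwd 1847, .fwd 1848, .fwd 1849, .bwd 1856, .bwd 25636],
   .define,
   .loop (some (1, 2)) [.fwd 8417, .fwd 12331, .fwd 25664],
   .define,
   .loop (some (19, 3)) [.fwd 25636, .bwd 1855, .bwd 1854, .bwd 12244, .bwd 12243, .fwd 25666],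
   .define,
   .loop (some (8, 2)) [.fwd 9708, .bwd 12244, .fwd 25668],
   .define,
   .define,
   .define,
   .define,
   .define,
   .define,
   .define,
   .define,
   .define,
   .define,
   .define,
   .define,
   .define,
   .define,
   .define,
   .define,
   .define,
   .define,
   .define,
   .define,
   .loop (some (22, 25)) [.bwd 18424, .fwd 18417, .fwd 10900, .fwd 10407, .fwd 649, .fwd 1853, .bwd 7228, .bwd 10277, .bwd 11103, .bwd 9277, .fwd 9275, .fwd 25670, .fwd 25671, .fwd 25672, .fwd 25673, .fwd 25674, .fwd 25675, .fwd 25676, .fwd 25677, .fwd 25678, .fwd 25679, .fwd 25680, .fwd 25681, .fwd 25682, .fwd 25683, .fwd 25684, .fwd 25685, .fwd 25686, .fwd 25687, .fwd 25688, .fwd 25689],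
   .loop (some (21, 5)) [.fwd 25667, .fwd 25636, .bwd 1855, .fwd 10608, .fwd 10609, .bwd 14042, .fwd 12345, .fwd 12269],
   .define,
   .define,
   .loop (some (18, 4)) [.bwd 10608, .fwd 9862, .fwd 9863, .fwd 25692, .fwd 25693],
   .loop (some (14, 1)) [.fwd 14704, .fwd 12244, .fwd 1854, .bwd 25629],
   .define,
   .loop (some (12, 2)) [.bwd 9862, .bwd 25629, .fwd 25696],
   .loop (some (0, 1)) [.fwd 25629, .fwd 14727],
   .loop (some (13, 1)) [.fwd 14296, .bwd 10608, .bwd 25629],
   .loop (some (11, 1)) [.fwd 9897, .bwd 8418, .bwd 25629],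
   .loop (some (7, 1)) [.fwd 9907, .bwd 8415, .bwd 25636],
   .define,
   .define,
   .define,
   .define,
   .define,
   .define,
   .define,
   .define,
   .define,
   .define,
   .define,
   .define,
   .define,
   .define,
   .define,
   .define,
   .define,
   .define,
   .define,
   .define,
   .define,
   .loop (some (22, 27)) [.fwd 15056, .bwd 14411, .bwd 8390, .bwd 1856, .fwd 8358, .bwd 9367, .bwd 5498, .bwd 18012, .bwd 17434, .bwd 22354, .fwd 25702, .fwd 25703, .fwd 25704, .fwd 25705, .fwd 25706, .fwd 25707, .fwd 25708, .fwd 25709, .fwd 25710, .fwd 25711, .fwd 25712, .fwd 25713, .fwd 25714, .fwd 25715, .fwd 25716, .fwd 25717, .fwd 25718, .fwd 25719, .fwd 25720, .fwd 25721, .fwd 25722],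
   .define,
   .loop (some (21, 4)) [.bwd 14041, .fwd 14039, .fwd 12577, .fwd 12332, .fwd 12292, .fwd 12293, .fwd 12389, .fwd 25724],
   .define,
   .define,
   .define,
   .define,
   .define,
   .define,
   .define,
   .define,
   .define,
   .define,
   .define,
   .define,
   .define,
   .define,
   .define,
   .define,
   .define,
   .define,
   .define,
   .define,
   .define,
   .define,
   .define,
   .define]

theorem just102_len : just102.length = 250 := by decide +kernel

theorem just102_ok : cert.okFacts 25500 just102 = true := by decide +kernel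

/-- justifications -/
noncomputable def just103 : List Cert.Just :=
  [.define,
   .loop (some (22, 28)) [.bwd 12347, .bwd 12346, .bwd 12292, .fwd 12094, .fwd 12095, .fwd 12498, .fwd 25726, .fwd 25727, .fwd 25728, .fwd 25729, .fwd 25730, .fwd 25731, .fwd 25732, .fwd 25733, .fwd 25734, .fwd 25735, .fwd 25736, .fwd 25737, .fwd 25738, .fwd 25739, .fwd 25740, .fwd 25741, .fwd 25742, .fwd 25743, .fwd 25744, .fwd 25745, .fwd 25746, .fwd 25747, .fwd 25748, .fwd 25749, .fwd 25750],
   .define,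
   .define,
   .loop (some (21, 4)) [.bwd 6846, .fwd 8408, .fwd 8405, .fwd 9639, .fwd 8349, .fwd 9965, .fwd 25752, .fwd 25753],
   .define,
   .define,
   .loop (some (1, 2)) [.fwd 6637, .bwd 8429, .fwd 25756],
   .define,
   .define,
   .define,
   .define,
   .define,
   .define,
   .define,
   .define,
   .define,
   .define,
   .define,
   .define,
   .define,
   .loop (some (22, 23)) [.bwd 11836, .bwd 11622, .bwd 11130, .fwd 7352, .bwd 8924, .bwd 3396, .fwd 6888, .fwd 6637, .fwd 5114, .bwd 4874, .fwd 5448, .fwd 5350, .bwd 10276, .fwd 10277, .bwd 12590, .bwd 12589, .bwd 9810, .bwd 12787, .fwd 25758, .fwd 25759, .fwd 25760, .fwd 25761, .fwd 25762, .fwd 25763, .fwd 25764, .fwd 25765, .fwd 25766, .fwd 25767, .fwd 25768, .fwd 25769, .fwd 25770],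
   .define,
   .loop (some (1, 2)) [.bwd 6705, .fwd 6701, .fwd 25772],
   .define,
   .define,
   .define,
   .define,
   .define,
   .define,
   .define,
   .define,
   .define,
   .define,
   .loop (some (22, 22)) [.fwd 10090, .bwd 11843, .fwd 11848, .bwd 11118, .fwd 8364, .fwd 8337, .bwd 4458, .fwd 7232, .bwd 6705, .fwd 6702, .fwd 5623, .bwd 5086, .fwd 10242, .bwd 11366, .fwd 11102, .bwd 12149, .fwd 22143, .fwd 23304, .bwd 12834, .fwd 24766, .bwd 23669, .fwd 25774, .fwd 25775, .fwd 25776, .fwd 25777, .fwd 25778, .fwd 25779, .fwd 25780, .fwd 25781, .fwd 25782, .fwd 25783],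
   .define,
   .define,
   .define,
   .define,
   .define,
   .define,
   .define,
   .define,
   .define,
   .define,
   .define,
   .define,
   .define,
   .loop (some (22, 23)) [.bwd 11792, .bwd 11138, .bwd 11115, .fwd 8404, .bwd 9249, .bwd 4499, .bwd 7232, .bwd 6771, .fwd 6767, .fwd 5563, .bwd 5052, .fwd 7152, .bwd 9790, .bwd 10373, .fwd 12445, .fwd 13962, .bwd 10379, .bwd 12880, .fwd 25785, .fwd 25786, .fwd 25787, .fwd 25788, .fwd 25789, .fwd 25790, .fwd 25791, .fwd 25792, .fwd 25793, .fwd 25794, .fwd 25795, .fwd 25796, .fwd 25797],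
   .define,
   .loop (some (1, 2)) [.fwd 6889, .bwd 9684, .fwd 25799],
   .define,
   .define,
   .define,
   .define,
   .define,
   .define,
   .define,
   .define,
   .define,
   .define,
   .loop (some (22, 20)) [.bwd 25637, .fwd 24290, .bwd 10072, .fwd 10094, .fwd 10102, .bwd 1837, .fwd 8342, .bwd 8871, .bwd 3298, .bwd 6888, .fwd 6889, .fwd 5894, .fwd 5453, .bwd 4971, .fwd 10158, .bwd 10210, .bwd 11518, .fwd 22227, .fwd 22228, .fwd 23286, .bwd 12960, .fwd 25801, .fwd 25802, .fwd 25803, .fwd 25804, .fwd 25805, .fwd 25806, .fwd 25807, .fwd 25808, .fwd 25809, .fwd 25810],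
   .define,
   .loop (some (19, 3)) [.fwd 9907, .bwd 1880, .bwd 1879, .bwd 10469, .bwd 10468, .fwd 25812],
   .define,
   .define,
   .define,
   .loop (some (21, 5)) [.fwd 25813, .fwd 9907, .bwd 1880, .fwd 9851, .fwd 10401, .bwd 11162, .fwd 10628, .fwd 10537],
   .define,
   .define,
   .define,
   .define,
   .define,
   .define,
   .define,
   .define,
   .define,
   .define,
   .define,
   .define,
   .define,
   .define,
   .define,
   .define,
   .define,
   .define,
   .define,
   .define,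
   .define,
   .define,
   .define,
   .loop (some (22, 26)) [.bwd 10712, .fwd 14733, .bwd 14701, .bwd 10677, .bwd 9851, .bwd 6941, .fwd 6939, .fwd 9844, .fwd 25818, .fwd 25819, .fwd 25820, .fwd 25821, .fwd 25822, .fwd 25823, .fwd 25824, .fwd 25825, .fwd 25826, .fwd 25827, .fwd 25828, .fwd 25829, .fwd 25830, .fwd 25831, .fwd 25832, .fwd 25833, .fwd 25834, .fwd 25835, .fwd 25836, .fwd 25837, .fwd 25838, .fwd 25839, .fwd 25840],
   .define,
   .loop (some (9, 2)) [.fwd 11166, .bwd 9897, .fwd 25842],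
   .define,
   .loop (some (5, 2)) [.fwd 11160, .bwd 9907, .fwd 25844],
   .define,
   .loop (some (21, 4)) [.bwd 11157, .fwd 8440, .bwd 9921, .fwd 9920, .fwd 9711, .fwd 9712, .fwd 10675, .fwd 25846],
   .define,
   .define,
   .define,
   .define,
   .define,
   .loop (some (19, 5)) [.bwd 3507, .fwd 25848, .fwd 25849, .fwd 25850, .fwd 25851, .fwd 25852],
   .loop (some (8, 1)) [.bwd 2811, .bwd 3505, .fwd 25848],
   .define,
   .define,
   .define,
   .define,
   .define,
   .define,
   .define,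
   .define,
   .define,
   .define,
   .define,
   .define,
   .loop (some (22, 23)) [.bwd 8826, .bwd 8842, .fwd 8854, .bwd 3055, .fwd 8522, .bwd 8505, .bwd 8099, .bwd 3096, .bwd 2101, .fwd 2098, .bwd 1511, .bwd 22641, .fwd 22637, .bwd 13063, .fwd 15203, .fwd 16860, .bwd 17787, .bwd 16008, .bwd 22013, .fwd 25855, .fwd 25856, .fwd 25857, .fwd 25858, .fwd 25859, .fwd 25860, .fwd 25861, .fwd 25862, .fwd 25863, .fwd 25864, .fwd 25865, .fwd 25866],
   .define,
   .define,
   .define,
   .define,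
   .define,
   .define,
   .define,
   .define,
   .define,
   .define,
   .define,
   .loop (some (22, 22)) [.fwd 2876, .bwd 8830, .bwd 8844, .bwd 8598, .fwd 8542, .bwd 8531, .fwd 8507, .fwd 2124, .fwd 3096, .fwd 4808, .bwd 4830, .bwd 8120, .fwd 22658, .fwd 22647, .fwd 13846, .bwd 20847, .bwd 24117, .bwd 22820, .bwd 16377, .fwd 24922, .fwd 25868, .fwd 25869, .fwd 25870, .fwd 25871, .fwd 25872, .fwd 25873, .fwd 25874, .fwd 25875, .fwd 25876, .fwd 25877, .fwd 25878],
   .define,
   .define,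
   .define,
   .define,
   .define,
   .define,
   .define,
   .define,
   .define,
   .define,
   .define,
   .define,
   .loop (some (22, 23)) [.fwd 8820, .fwd 8290, .fwd 2973, .fwd 3059, .fwd 8510, .fwd 8506, .fwd 8099, .fwd 2115, .fwd 8498, .fwd 4811, .bwd 8171, .bwd 20927, .fwd 20924, .bwd 15362, .bwd 18083, .fwd 18084, .fwd 16703, .bwd 16124, .bwd 16123, .fwd 25880, .fwd 25881, .fwd 25882, .fwd 25883, .fwd 25884, .fwd 25885, .fwd 25886, .fwd 25887, .fwd 25888, .fwd 25889, .fwd 25890, .fwd 25891],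
   .define,
   .define,
   .define,
   .define,
   .define,
   .define,
   .define,
   .define,
   .define,
   .loop (some (15, 0)) [.bwd 22798, .bwd 22763, .bwd 8557, .bwd 8533],
   .loop (some (15, 0)) [.bwd 22781, .bwd 22760, .fwd 8578, .bwd 8535],
   .define,
   .define,
   .define,
   .loop (some (15, 0)) [.bwd 22774, .bwd 22756, .fwd 8574, .bwd 8538],
   .define,
   .define,
   .define,
   .define,
   .define,
   .define,
   .define,
   .define,
   .define,
   .define,
   .define,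
   .define,
   .define,
   .define,
   .define,
   .define,
   .define,
   .loop (some (22, 27)) [.fwd 8784, .fwd 8574, .bwd 8538, .bwd 3084, .bwd 8522, .bwd 8275, .bwd 8260, .fwd 17629, .fwd 21030, .fwd 22590, .fwd 22586, .bwd 5524, .bwd 9295, .bwd 4588, .fwd 25908, .fwd 25909, .fwd 25910, .fwd 25911, .fwd 25912, .fwd 25913, .fwd 25914, .fwd 25915, .fwd 25916, .fwd 25917, .fwd 25918, .fwd 25919, .fwd 25920, .fwd 25921, .fwd 25922, .fwd 25923, .fwd 25924],
   .loop (some (15, 0)) [.fwd 22426, .bwd 22751, .fwd 8572, .bwd 8546],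
   .loop (some (18, 2)) [.bwd 25473, .bwd 22715, .bwd 7893, .fwd 5390, .fwd 5391],
   .define,
   .define,
   .loop (some (21, 4)) [.bwd 16974, .fwd 2210, .fwd 2211, .fwd 2212, .fwd 2291, .fwd 2292, .fwd 25928, .fwd 25929],
   .define,
   .define,
   .define,
   .define,
   .define,
   .define,
   .define,
   .define,
   .define,
   .define,
   .define,
   .define,
   .define,
   .define,
   .define,
   .define,
   .define,
   .loop (some (22, 23)) [.bwd 22475, .bwd 22491, .bwd 22750, .bwd 4332, .fwd 8848, .fwd 8581, .fwd 8540, .bwd 2291, .fwd 2233, .bwd 2912, .bwd 12641, .fwd 24349, .fwd 24864, .bwd 21811, .fwd 25931, .fwd 25932, .fwd 25933, .fwd 25934, .fwd 25935, .fwd 25936, .fwd 25937, .fwd 25938, .fwd 25939, .fwd 25940, .fwd 25941, .fwd 25942, .fwd 25943, .fwd 25944, .fwd 25945, .fwd 25946, .fwd 25947],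
   .define,
   .define,
   .define,
   .define,
   .define,
   .define,
   .define,
   .define,
   .define,
   .define,
   .define,
   .define,
   .define,
   .define,
   .define,
   .define,
   .define,
   .define,
   .define,
   .define,
   .define,
   .loop (some (22, 28)) [.bwd 20629, .bwd 17857, .bwd 4832, .bwd 8524, .bwd 8290, .fwd 2931, .fwd 12648, .fwd 14146, .bwd 14147, .bwd 19440, .fwd 25949, .fwd 25950, .fwd 25951, .fwd 25952, .fwd 25953, .fwd 25954, .fwd 25955, .fwd 25956, .fwd 25957, .fwd 25958, .fwd 25959, .fwd 25960, .fwd 25961, .fwd 25962, .fwd 25963, .fwd 25964, .fwd 25965, .fwd 25966, .fwd 25967, .fwd 25968, .fwd 25969],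
   .define,
   .loop (some (4, 2)) [.bwd 17616, .bwd 8572, .fwd 25971],
   .define,
   .loop (some (21, 2)) [.bwd 2277, .bwd 2276, .bwd 100, .fwd 2207, .fwd 2208, .fwd 2209, .fwd 16974, .fwd 25973],
   .define,
   .define,
   .define,
   .define,
   .define,
   .define,
   .define,
   .define,
   .define,
   .define,
   .define,
   .define,
   .define,
   .define,
   .define,
   .define,
   .define,
   .define,
   .define,
   .define,
   .define,
   .define,
   .define,
   .define,
   .loop (some (22, 28)) [.fwd 25972, .bwd 17858, .bwd 16974, .bwd 8575, .fwd 8842, .fwd 14150, .bwd 12640, .fwd 25975, .fwd 25976, .fwd 25977, .fwd 25978, .fwd 25979, .fwd 25980, .fwd 25981, .fwd 25982, .fwd 25983, .fwd 25984, .fwd 25985, .fwd 25986, .fwd 25987, .fwd 25988, .fwd 25989, .fwd 25990, .fwd 25991, .fwd 25992, .fwd 25993, .fwd 25994, .fwd 25995, .fwd 25996, .fwd 25997, .fwd 25998]]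

theorem just103_len : just103.length = 250 := by decide +kernel

theorem just103_ok : cert.okFacts 25750 just103 = true := by decide +kernel

/-- justifications -/
noncomputable def just104 : List Cert.Just :=
  [.define,
   .define,
   .define,
   .define,
   .loop (some (21, 4)) [.bwd 17616, .fwd 2209, .fwd 2210, .fwd 2211, .fwd 17583, .fwd 26001, .fwd 26002, .fwd 26003],
   .define,
   .define,
   .define,
   .define,
   .define,
   .define,
   .define,
   .define,
   .define,
   .define,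
   .define,
   .define,
   .define,
   .define,
   .loop (some (21, 5)) [.fwd 2279, .fwd 2280, .fwd 2281, .fwd 2222, .fwd 2223, .fwd 26016, .fwd 26017, .fwd 26018],
   .loop (some (13, 2)) [.bwd 2222, .bwd 8612, .bwd 26019],
   .define,
   .define,
   .define,
   .define,
   .define,
   .loop (some (8, 2)) [.bwd 8623, .fwd 26022, .fwd 26025],
   .define,
   .loop (some (12, 2)) [.bwd 8623, .bwd 26020, .fwd 26027],
   .define,
   .loop (some (0, 1)) [.fwd 26020, .fwd 26029],
   .define,
   .define,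
   .define,
   .loop (some (15, 2)) [.fwd 22434, .bwd 8623, .fwd 26032, .fwd 26033],
   .define,
   .define,
   .loop (some (10, 2)) [.fwd 8589, .bwd 26020, .fwd 26036],
   .define,
   .loop (some (1, 2)) [.bwd 26016, .fwd 22425, .fwd 26038],
   .define,
   .define,
   .define,
   .loop (some (12, 2)) [.bwd 8594, .fwd 26041, .fwd 26042],
   .define,
   .loop (some (14, 2)) [.fwd 26020, .fwd 2223, .fwd 2224, .bwd 17861, .bwd 26004],
   .loop none [.bwd 26045],
   .loop none [.bwd 26035, .bwd 26046],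
   .loop none [.bwd 26036, .bwd 26046],
   .loop none [.bwd 26027, .bwd 26046],
   .loop none [.bwd 26019, .bwd 26046],
   .loop none [.fwd 26030, .bwd 26046],
   .define,
   .define,
   .define,
   .loop (some (21, 4)) [.bwd 17860, .fwd 2961, .fwd 2962, .fwd 2963, .fwd 2323, .fwd 2324, .fwd 26053, .fwd 26054],
   .define,
   .define,
   .define,
   .define,
   .define,
   .define,
   .define,
   .define,
   .define,
   .define,
   .define,
   .define,
   .define,
   .define,
   .define,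
   .define,
   .define,
   .define,
   .define,
   .define,
   .define,
   .define,
   .loop (some (22, 26)) [.bwd 2876, .bwd 8831, .bwd 8845, .fwd 8593, .bwd 2323, .bwd 2233, .fwd 2219, .bwd 20752, .fwd 22987, .fwd 26056, .fwd 26057, .fwd 26058, .fwd 26059, .fwd 26060, .fwd 26061, .fwd 26062, .fwd 26063, .fwd 26064, .fwd 26065, .fwd 26066, .fwd 26067, .fwd 26068, .fwd 26069, .fwd 26070, .fwd 26071, .fwd 26072, .fwd 26073, .fwd 26074, .fwd 26075, .fwd 26076, .fwd 26077],
   .define,
   .loop (some (18, 4)) [.bwd 26079, .fwd 2304, .fwd 13826, .bwd 14076, .fwd 26023],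
   .define,
   .define,
   .define,
   .define,
   .define,
   .define,
   .define,
   .define,
   .define,
   .define,
   .define,
   .define,
   .define,
   .define,
   .define,
   .define,
   .define,
   .define,
   .define,
   .define,
   .define,
   .define,
   .define,
   .define,
   .loop (some (22, 29)) [.fwd 26080, .bwd 26079, .fwd 8601, .bwd 8628, .fwd 2378, .fwd 2506, .bwd 8668, .bwd 8699, .fwd 26082, .fwd 26083, .fwd 26084, .fwd 26085, .fwd 26086, .fwd 26087, .fwd 26088, .fwd 26089, .fwd 26090, .fwd 26091, .fwd 26092, .fwd 26093, .fwd 26094, .fwd 26095, .fwd 26096, .fwd 26097, .fwd 26098, .fwd 26099, .fwd 26100, .fwd 26101, .fwd 26102, .fwd 26103, .fwd 26104],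
   .loop (some (18, 5)) [.fwd 25974, .fwd 14073, .fwd 12630, .bwd 14074, .bwd 26050, .fwd 26049],
   .loop none [.fwd 26106],
   .loop none [.bwd 26028, .bwd 26107],
   .define,
   .loop (some (3, 2)) [.fwd 25974, .bwd 8604, .fwd 26109],
   .define,
   .define,
   .define,
   .loop (some (1, 1)) [.bwd 26047, .fwd 26050, .bwd 8606],
   .loop (some (3, 1)) [.bwd 26048, .fwd 26050, .bwd 8607],
   .loop (some (13, 2)) [.bwd 26051, .fwd 26050, .bwd 8616, .fwd 26023],
   .loop none [.bwd 26116],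
   .loop none [.fwd 26051, .bwd 26117],
   .loop none [.fwd 26029, .bwd 26117],
   .define,
   .define,
   .define,
   .loop (some (21, 2)) [.fwd 25930, .fwd 25973, .fwd 25974, .fwd 2278, .fwd 2279, .fwd 2280, .fwd 26023, .fwd 26024],
   .define,
   .define,
   .loop (some (4, 1)) [.fwd 26105, .bwd 26023, .fwd 22423],
   .define,
   .define,
   .define,
   .define,
   .define,
   .define,
   .define,
   .loop (some (3, 2)) [.bwd 25928, .fwd 8621, .fwd 26053],
   .define,
   .define,
   .loop (some (10, 2)) [.bwd 8621, .bwd 26043, .fwd 26136],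
   .define,
   .loop (some (6, 2)) [.fwd 8611, .bwd 26026, .fwd 26138],
   .define,
   .define,
   .loop (some (10, 2)) [.fwd 8611, .bwd 26108, .bwd 26110],
   .define,
   .loop (some (21, 4)) [.bwd 26114, .fwd 3665, .fwd 3666, .fwd 3667, .fwd 20671, .fwd 20672, .fwd 26038, .fwd 26143],
   .define,
   .define,
   .define,
   .define,
   .define,
   .define,
   .define,
   .define,
   .define,
   .define,
   .define,
   .define,
   .define,
   .define,
   .define,
   .define,
   .define,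
   .define,
   .define,
   .define,
   .define,
   .define,
   .define,
   .define,
   .define,
   .define,
   .loop (some (22, 27)) [.fwd 22435, .bwd 22423, .fwd 14076, .bwd 13826, .fwd 7416, .bwd 6449, .bwd 6392, .fwd 26147, .fwd 26148, .fwd 26149, .fwd 26150, .fwd 26151, .fwd 26152, .fwd 26153, .fwd 26154, .fwd 26155, .fwd 26156, .fwd 26157, .fwd 26158, .fwd 26159, .fwd 26160, .fwd 26161, .fwd 26162, .fwd 26163, .fwd 26164, .fwd 26165, .fwd 26166, .fwd 26167, .fwd 26168, .fwd 26169, .fwd 26170],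
   .define,
   .loop (some (21, 4)) [.bwd 26115, .fwd 2318, .fwd 2319, .fwd 2320, .fwd 2964, .fwd 2965, .fwd 26040, .fwd 26172],
   .loop (some (20, 6)) [.fwd 2451, .bwd 2321, .fwd 2333, .bwd 7282, .fwd 9615, .fwd 7408, .fwd 3635, .fwd 26145],
   .define,
   .define,
   .define,
   .define,
   .define,
   .define,
   .define,
   .define,
   .define,
   .define,
   .define,
   .define,
   .define,
   .define,
   .define,
   .define,
   .define,
   .define,
   .define,
   .loop (some (22, 23)) [.bwd 8792, .bwd 8804, .fwd 8812, .bwd 2815, .fwd 8657, .fwd 8635, .bwd 8643, .bwd 2964, .bwd 2306, .fwd 2289, .bwd 3827, .fwd 26130, .fwd 26175, .fwd 26176, .fwd 26177, .fwd 26178, .fwd 26179, .fwd 26180, .fwd 26181, .fwd 26182, .fwd 26183, .fwd 26184, .fwd 26185, .fwd 26186, .fwd 26187, .fwd 26188, .fwd 26189, .fwd 26190, .fwd 26191, .fwd 26192, .fwd 26193],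
   .define,
   .define,
   .define,
   .loop (some (21, 4)) [.bwd 26125, .fwd 2320, .fwd 2307, .fwd 2315, .fwd 26081, .fwd 26195, .fwd 26196, .fwd 26197],
   .define,
   .loop (some (18, 4)) [.bwd 26081, .fwd 2335, .fwd 12213, .fwd 14090, .fwd 26125],
   .define,
   .loop (some (4, 2)) [.bwd 26081, .bwd 8628, .fwd 26201],
   .define,
   .define,
   .define,
   .define,
   .define,
   .define,
   .define,
   .define,
   .define,
   .define,
   .define,
   .define,
   .define,
   .define,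
   .define,
   .define,
   .define,
   .define,
   .define,
   .define,
   .define,
   .define,
   .define,
   .loop (some (22, 29)) [.fwd 26200, .bwd 26081, .bwd 8601, .bwd 22430, .fwd 20709, .fwd 3771, .bwd 22740, .bwd 22744, .fwd 26203, .fwd 26204, .fwd 26205, .fwd 26206, .fwd 26207, .fwd 26208, .fwd 26209, .fwd 26210, .fwd 26211, .fwd 26212, .fwd 26213, .fwd 26214, .fwd 26215, .fwd 26216, .fwd 26217, .fwd 26218, .fwd 26219, .fwd 26220, .fwd 26221, .fwd 26222, .fwd 26223, .fwd 26224, .fwd 26225],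
   .define,
   .define,
   .define,
   .loop (some (21, 4)) [.bwd 2964, .fwd 2307, .fwd 2315, .fwd 2316, .fwd 26109, .fwd 26227, .fwd 26228, .fwd 26229],
   .define,
   .loop (some (20, 6)) [.bwd 8647, .fwd 8630, .bwd 14084, .bwd 14371, .bwd 14228, .bwd 14220, .bwd 22719, .fwd 26231],
   .define,
   .loop (some (18, 4)) [.bwd 26109, .fwd 22440, .fwd 20605, .bwd 22441, .fwd 26115],
   .define,
   .loop (some (4, 2)) [.bwd 26109, .bwd 8630, .fwd 26235],
   .loop (some (15, 0)) [.bwd 9597, .fwd 9602, .bwd 22446, .bwd 22440],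
   .loop (some (21, 1)) [.bwd 17859, .bwd 2959, .bwd 2958, .bwd 2240, .fwd 2315, .fwd 2316, .fwd 2317, .fwd 26115],
   .define,
   .loop (some (20, 6)) [.bwd 8649, .fwd 8631, .bwd 14085, .bwd 14387, .bwd 14389, .bwd 14222, .bwd 22720, .fwd 26239],
   .define,
   .loop (some (13, 2)) [.bwd 26115, .fwd 8632, .fwd 26125],
   .define,
   .define,
   .define,
   .define,
   .define,
   .define,
   .define]

theorem just104_len : just104.length = 250 := by decide +kernel

theorem just104_ok : cert.okFacts 26000 just104 = true := by decide +kernel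

/-- justifications -/
noncomputable def just105 : List Cert.Just :=
  [.define,
   .define,
   .define,
   .define,
   .define,
   .define,
   .define,
   .define,
   .define,
   .define,
   .define,
   .define,
   .define,
   .define,
   .define,
   .loop (some (22, 28)) [.fwd 26236, .bwd 26234, .bwd 26115, .fwd 8607, .bwd 22432, .bwd 22735, .bwd 3801, .bwd 9129, .bwd 9141, .fwd 26243, .fwd 26244, .fwd 26245, .fwd 26246, .fwd 26247, .fwd 26248, .fwd 26249, .fwd 26250, .fwd 26251, .fwd 26252, .fwd 26253, .fwd 26254, .fwd 26255, .fwd 26256, .fwd 26257, .fwd 26258, .fwd 26259, .fwd 26260, .fwd 26261, .fwd 26262, .fwd 26263, .fwd 26264],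
   .loop (some (15, 0)) [.fwd 9595, .fwd 9604, .fwd 22449, .bwd 22441],
   .define,
   .loop (some (20, 6)) [.bwd 8652, .fwd 8634, .bwd 14087, .bwd 14385, .fwd 14384, .bwd 14223, .bwd 22722, .fwd 26267],
   .loop (some (15, 0)) [.bwd 9599, .fwd 9606, .bwd 22448, .bwd 22443],
   .define,
   .define,
   .define,
   .loop (some (21, 4)) [.bwd 26109, .fwd 2317, .fwd 2318, .fwd 2319, .fwd 26125, .fwd 26270, .fwd 26271, .fwd 26272],
   .define,
   .loop (some (20, 6)) [.bwd 8655, .bwd 8626, .fwd 14082, .bwd 14373, .fwd 9090, .fwd 9083, .fwd 22717, .fwd 26274],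
   .define,
   .loop (some (13, 2)) [.bwd 26125, .bwd 8618, .fwd 2964],
   .loop (some (4, 1)) [.fwd 26226, .bwd 26125, .fwd 8626],
   .define,
   .define,
   .define,
   .define,
   .define,
   .define,
   .define,
   .define,
   .define,
   .define,
   .define,
   .define,
   .define,
   .define,
   .define,
   .define,
   .define,
   .define,
   .define,
   .define,
   .define,
   .define,
   .define,
   .define,
   .define,
   .loop (some (22, 28)) [.fwd 26202, .bwd 26200, .bwd 26125, .bwd 8588, .fwd 22423, .bwd 22731, .fwd 26279, .fwd 26280, .fwd 26281, .fwd 26282, .fwd 26283, .fwd 26284, .fwd 26285, .fwd 26286, .fwd 26287, .fwd 26288, .fwd 26289, .fwd 26290, .fwd 26291, .fwd 26292, .fwd 26293, .fwd 26294, .fwd 26295, .fwd 26296, .fwd 26297, .fwd 26298, .fwd 26299, .fwd 26300, .fwd 26301, .fwd 26302, .fwd 26303],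
   .define,
   .define,
   .define,
   .define,
   .define,
   .define,
   .define,
   .define,
   .define,
   .define,
   .define,
   .define,
   .define,
   .define,
   .define,
   .define,
   .define,
   .define,
   .define,
   .define,
   .define,
   .define,
   .define,
   .define,
   .define,
   .define,
   .loop (some (22, 29)) [.bwd 26031, .bwd 2913, .fwd 2383, .bwd 4008, .fwd 4009, .fwd 26305, .fwd 26306, .fwd 26307, .fwd 26308, .fwd 26309, .fwd 26310, .fwd 26311, .fwd 26312, .fwd 26313, .fwd 26314, .fwd 26315, .fwd 26316, .fwd 26317, .fwd 26318, .fwd 26319, .fwd 26320, .fwd 26321, .fwd 26322, .fwd 26323, .fwd 26324, .fwd 26325, .fwd 26326, .fwd 26327, .fwd 26328, .fwd 26329, .fwd 26330],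
   .define,
   .define,
   .loop (some (20, 4)) [.bwd 21816, .bwd 24873, .bwd 17007, .fwd 8600, .bwd 14072, .fwd 15765, .fwd 18222, .fwd 26333],
   .define,
   .loop (some (15, 1)) [.bwd 17073, .bwd 8845, .fwd 8593, .fwd 26335],
   .define,
   .define,
   .define,
   .define,
   .define,
   .loop (some (11, 2)) [.bwd 8642, .bwd 26137, .fwd 26341],
   .define,
   .loop (some (15, 1)) [.bwd 26044, .fwd 8846, .bwd 8622, .fwd 26343],
   .define,
   .loop (some (9, 2)) [.bwd 14093, .bwd 26137, .fwd 26345],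
   .define,
   .define,
   .loop (some (7, 2)) [.fwd 8635, .bwd 26139, .fwd 26348],
   .define,
   .loop (some (14, 2)) [.fwd 17864, .fwd 2324, .fwd 2325, .bwd 26142, .bwd 26273],
   .loop none [.fwd 26351],
   .loop none [.fwd 26055, .fwd 26352, .bwd 26272],
   .loop none [.fwd 26353],
   .loop none [.bwd 26273, .bwd 26352],
   .loop none [.bwd 26337, .fwd 26354, .bwd 26271],
   .loop none [.bwd 26356],
   .loop none [.fwd 26337, .bwd 26357],
   .define,
   .define,
   .define,
   .define,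
   .define,
   .define,
   .define,
   .define,
   .define,
   .define,
   .define,
   .define,
   .define,
   .define,
   .define,
   .define,
   .define,
   .define,
   .define,
   .loop (some (22, 22)) [.bwd 12169, .fwd 7277, .fwd 7279, .bwd 7282, .bwd 14376, .fwd 14375, .bwd 22448, .bwd 22443, .bwd 2326, .fwd 8611, .bwd 22434, .bwd 26034, .fwd 26359, .fwd 26360, .fwd 26361, .fwd 26362, .fwd 26363, .fwd 26364, .fwd 26365, .fwd 26366, .fwd 26367, .fwd 26368, .fwd 26369, .fwd 26370, .fwd 26371, .fwd 26372, .fwd 26373, .fwd 26374, .fwd 26375, .fwd 26376, .fwd 26377],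
   .loop (some (11, 2)) [.fwd 8635, .bwd 26142, .bwd 26236],
   .define,
   .define,
   .define,
   .define,
   .define,
   .loop (some (19, 5)) [.fwd 2441, .fwd 26380, .fwd 26381, .fwd 26382, .fwd 26383, .fwd 26384],
   .define,
   .define,
   .define,
   .loop (some (21, 5)) [.fwd 26384, .fwd 26385, .fwd 2441, .fwd 2459, .bwd 2505, .fwd 26386, .fwd 26387, .fwd 26388],
   .loop (some (8, 1)) [.bwd 26145, .bwd 6507, .fwd 6505, .fwd 26380],
   .loop none [.fwd 26390],
   .loop none [.bwd 26381, .bwd 26391],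
   .loop none [.fwd 26380, .bwd 26391],
   .loop (some (14, 2)) [.bwd 26392, .fwd 26393, .bwd 2489, .bwd 26393],
   .define,
   .define,
   .define,
   .define,
   .define,
   .define,
   .define,
   .define,
   .define,
   .define,
   .define,
   .define,
   .define,
   .define,
   .define,
   .define,
   .define,
   .define,
   .define,
   .loop (some (22, 22)) [.bwd 26241, .fwd 14098, .bwd 9595, .fwd 14365, .bwd 12184, .bwd 14821, .fwd 14824, .fwd 22445, .bwd 20153, .bwd 6432, .fwd 6221, .bwd 12185, .fwd 26395, .fwd 26396, .fwd 26397, .fwd 26398, .fwd 26399, .fwd 26400, .fwd 26401, .fwd 26402, .fwd 26403, .fwd 26404, .fwd 26405, .fwd 26406, .fwd 26407, .fwd 26408, .fwd 26409, .fwd 26410, .fwd 26411, .fwd 26412, .fwd 26413],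
   .define,
   .define,
   .loop (some (16, 4)) [.bwd 8646, .fwd 14101, .bwd 14117, .fwd 26415, .fwd 26416],
   .define,
   .define,
   .define,
   .loop (some (21, 4)) [.bwd 26278, .fwd 2360, .fwd 2322, .fwd 2355, .fwd 26201, .fwd 26418, .fwd 26419, .fwd 26420],
   .define,
   .define,
   .loop (some (3, 1)) [.fwd 26303, .fwd 26304, .bwd 26201, .fwd 8646],
   .loop none [.bwd 26424],
   .loop none [.bwd 26303, .bwd 26425],
   .define,
   .define,
   .loop (some (16, 4)) [.fwd 8650, .bwd 14102, .bwd 14358, .fwd 26427, .fwd 26428],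
   .define,
   .loop (some (1, 2)) [.bwd 26235, .bwd 14102, .fwd 26430],
   .loop (some (3, 1)) [.fwd 26264, .fwd 26265, .bwd 26235, .bwd 8650],
   .loop none [.bwd 26432],
   .loop none [.bwd 26264, .bwd 26433],
   .define,
   .define,
   .define,
   .define,
   .loop (some (16, 4)) [.fwd 8656, .bwd 14105, .fwd 14366, .fwd 26437, .fwd 26438],
   .loop (some (18, 2)) [.bwd 26141, .bwd 26140, .fwd 2370, .fwd 8652, .fwd 26120],
   .define,
   .define,
   .define,
   .loop (some (21, 4)) [.bwd 26235, .fwd 2357, .fwd 2358, .fwd 2359, .fwd 26278, .fwd 26441, .fwd 26442, .fwd 26443],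
   .define,
   .define,
   .define,
   .define,
   .define,
   .loop (some (19, 5)) [.fwd 4130, .fwd 26445, .fwd 26446, .fwd 26447, .fwd 26448, .fwd 26449],
   .define,
   .define,
   .define,
   .loop (some (21, 5)) [.fwd 26449, .fwd 26450, .fwd 4130, .bwd 4126, .bwd 2664, .fwd 26451, .fwd 26452, .fwd 26453],
   .loop (some (8, 1)) [.bwd 6515, .fwd 6512, .fwd 26445],
   .define,
   .define,
   .loop (some (20, 3)) [.fwd 26336, .bwd 17073, .bwd 8845, .fwd 8593, .bwd 8600, .bwd 14110, .bwd 22521, .fwd 26457],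
   .loop (some (15, 0)) [.fwd 26334, .bwd 21816, .bwd 24873, .bwd 17007],
   .define,
   .loop (some (10, 2)) [.fwd 8662, .bwd 17871, .fwd 26460],
   .define,
   .define,
   .loop (some (20, 3)) [.fwd 26344, .bwd 26044, .fwd 8846, .bwd 8622, .fwd 8642, .fwd 14111, .fwd 26462, .fwd 26463],
   .loop (some (8, 2)) [.bwd 26135, .bwd 2368, .fwd 17007],
   .define,
   .define,
   .define,
   .loop (some (9, 2)) [.bwd 14111, .bwd 26342, .fwd 26468],
   .define,
   .define,
   .define,
   .loop (some (16, 4)) [.fwd 8657, .bwd 14106, .fwd 14821, .fwd 26471, .fwd 26472],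
   .define,
   .define,
   .loop (some (20, 3)) [.fwd 26331, .bwd 26031, .fwd 8627, .fwd 8643, .bwd 8635, .bwd 14106, .fwd 26474, .fwd 26475],
   .loop (some (8, 2)) [.bwd 26140, .bwd 2369, .fwd 26135],
   .loop (some (14, 2)) [.fwd 17871, .fwd 2368, .fwd 2369, .bwd 26379, .bwd 26444],
   .loop none [.fwd 26478],
   .loop none [.bwd 26444, .bwd 26479],
   .define,
   .define,
   .define,
   .define,
   .define,
   .define,
   .define,
   .define,
   .define,
   .define,
   .define,
   .define,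
   .define,
   .define,
   .define,
   .define,
   .define,
   .define,
   .define]

theorem just105_len : just105.length = 250 := by decide +kernel

theorem just105_ok : cert.okFacts 26250 just105 = true := by decide +kernel

/-- justifications -/
noncomputable def just106 : List Cert.Just :=
  [.define,
   .define,
   .define,
   .define,
   .define,
   .define,
   .define,
   .loop (some (22, 28)) [.fwd 26268, .bwd 8652, .bwd 2370, .bwd 8657, .bwd 8818, .fwd 26481, .fwd 26482, .fwd 26483, .fwd 26484, .fwd 26485, .fwd 26486, .fwd 26487, .fwd 26488, .fwd 26489, .fwd 26490, .fwd 26491, .fwd 26492, .fwd 26493, .fwd 26494, .fwd 26495, .fwd 26496, .fwd 26497, .fwd 26498, .fwd 26499, .fwd 26500, .fwd 26501, .fwd 26502, .fwd 26503, .fwd 26504, .fwd 26505, .fwd 26506],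
   .loop (some (9, 2)) [.fwd 14106, .bwd 26379, .bwd 26431],
   .loop (some (10, 2)) [.fwd 8657, .bwd 26379, .bwd 26265],
   .define,
   .define,
   .loop (some (18, 3)) [.bwd 26350, .bwd 16897, .bwd 6175, .fwd 26510, .fwd 26511],
   .define,
   .define,
   .define,
   .define,
   .define,
   .define,
   .define,
   .loop (some (7, 2)) [.fwd 26385, .bwd 2440, .bwd 2432, .bwd 26232],
   .loop none [.bwd 26520],
   .loop none [.bwd 26385, .bwd 26521],
   .loop none [.fwd 26384, .bwd 26521],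
   .define,
   .define,
   .loop (some (21, 4)) [.bwd 26120, .fwd 2430, .fwd 2431, .fwd 2432, .fwd 2506, .fwd 2507, .fwd 26524, .fwd 26525],
   .loop (some (13, 2)) [.bwd 2506, .fwd 8669, .fwd 26120],
   .define,
   .loop (some (4, 2)) [.bwd 2506, .fwd 2440, .fwd 26528],
   .define,
   .define,
   .define,
   .define,
   .define,
   .define,
   .define,
   .define,
   .define,
   .define,
   .define,
   .define,
   .define,
   .define,
   .define,
   .define,
   .define,
   .define,
   .define,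
   .define,
   .define,
   .define,
   .define,
   .define,
   .define,
   .define,
   .define,
   .loop (some (22, 29)) [.bwd 26423, .bwd 2506, .fwd 2454, .bwd 2746, .fwd 26530, .fwd 26531, .fwd 26532, .fwd 26533, .fwd 26534, .fwd 26535, .fwd 26536, .fwd 26537, .fwd 26538, .fwd 26539, .fwd 26540, .fwd 26541, .fwd 26542, .fwd 26543, .fwd 26544, .fwd 26545, .fwd 26546, .fwd 26547, .fwd 26548, .fwd 26549, .fwd 26550, .fwd 26551, .fwd 26552, .fwd 26553, .fwd 26554, .fwd 26555, .fwd 26556],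
   .loop (some (11, 2)) [.bwd 2440, .fwd 8669, .bwd 26268],
   .define,
   .loop (some (1, 2)) [.bwd 2873, .bwd 4129, .fwd 26559],
   .define,
   .define,
   .loop (some (18, 4)) [.bwd 2873, .bwd 2776, .fwd 26131, .fwd 26561, .fwd 26562],
   .define,
   .loop (some (17, 4)) [.fwd 26174, .bwd 8639, .fwd 8802, .bwd 8785, .fwd 26564],
   .loop (some (1, 2)) [.bwd 26021, .bwd 8673, .fwd 26510],
   .loop (some (3, 3)) [.bwd 26021, .bwd 8639, .fwd 26131, .fwd 26132],
   .loop none [.fwd 26567],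
   .loop none [.bwd 26133, .bwd 26568],
   .loop (some (4, 2)) [.bwd 26569, .bwd 26021, .bwd 26174, .fwd 26146],
   .loop none [.fwd 26570],
   .loop none [.fwd 26146, .bwd 26571],
   .define,
   .loop (some (17, 4)) [.fwd 26275, .bwd 8677, .fwd 8803, .fwd 8788, .fwd 26573],
   .loop (some (7, 3)) [.fwd 26275, .bwd 2428, .bwd 26174, .fwd 26392],
   .loop none [.fwd 26575],
   .loop none [.bwd 26382, .bwd 26576],
   .loop none [.fwd 26392, .bwd 26576],
   .loop none [.fwd 26394, .bwd 26576],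
   .define,
   .loop (some (3, 1)) [.bwd 26128, .bwd 26127, .bwd 8677],
   .define,
   .loop (some (17, 3)) [.fwd 26507, .fwd 26268, .bwd 8679, .fwd 8804, .fwd 8792],
   .loop (some (7, 3)) [.fwd 26268, .bwd 2429, .bwd 26275, .fwd 26577],
   .loop none [.fwd 26584],
   .loop none [.bwd 26383, .bwd 26585],
   .loop none [.fwd 26577, .bwd 26585],
   .define,
   .loop (some (21, 2)) [.bwd 2492, .bwd 2491, .bwd 104, .fwd 2427, .fwd 2428, .fwd 2429, .fwd 26120, .fwd 26588],
   .define,
   .loop (some (1, 2)) [.bwd 26120, .bwd 8678, .fwd 26590],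
   .loop (some (3, 1)) [.bwd 26121, .bwd 26120, .bwd 8679],
   .define,
   .define,
   .define,
   .loop (some (7, 3)) [.fwd 26240, .bwd 2430, .bwd 26268, .fwd 26586],
   .loop none [.fwd 26596],
   .loop none [.fwd 26389, .bwd 26597],
   .loop none [.fwd 26523, .bwd 26597],
   .loop none [.fwd 26586, .bwd 26597],
   .define,
   .loop (some (13, 2)) [.fwd 2446, .bwd 8675, .fwd 26127],
   .loop (some (4, 2)) [.fwd 2446, .bwd 26240, .fwd 26598],
   .define,
   .define,
   .define,
   .define,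
   .loop (some (21, 4)) [.bwd 26127, .fwd 2429, .fwd 2430, .fwd 2431, .fwd 26111, .fwd 26605, .fwd 26606, .fwd 26607],
   .define,
   .loop (some (3, 1)) [.bwd 26112, .bwd 26111, .fwd 8667],
   .define,
   .define,
   .define,
   .define,
   .loop (some (21, 4)) [.bwd 26593, .bwd 26600, .fwd 26599, .fwd 26522, .fwd 26528, .fwd 26612, .fwd 26613, .fwd 26614],
   .define,
   .loop (some (9, 1)) [.bwd 26435, .fwd 14360, .fwd 7276, .bwd 26558],
   .loop none [.bwd 26617],
   .loop none [.fwd 26507, .fwd 26618, .fwd 26436],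
   .loop none [.bwd 26619],
   .loop none [.fwd 26583, .bwd 26620],
   .define,
   .loop (some (7, 2)) [.bwd 2504, .bwd 2496, .fwd 26622],
   .define,
   .define,
   .define,
   .loop (some (21, 5)) [.fwd 2494, .fwd 2495, .fwd 2496, .fwd 2443, .fwd 2444, .fwd 26624, .fwd 26625, .fwd 26626],
   .loop (some (13, 2)) [.bwd 2443, .bwd 8728, .bwd 26627],
   .loop (some (4, 2)) [.bwd 2443, .fwd 2504, .fwd 26386],
   .define,
   .define,
   .define,
   .define,
   .loop (some (11, 2)) [.bwd 2504, .bwd 8728, .fwd 26633],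
   .loop (some (7, 1)) [.bwd 26387, .fwd 26629, .fwd 2444],
   .define,
   .define,
   .define,
   .loop (some (12, 2)) [.fwd 25269, .bwd 26628, .fwd 26638],
   .define,
   .loop (some (0, 1)) [.fwd 26628, .fwd 26640],
   .define,
   .loop (some (11, 2)) [.fwd 26629, .bwd 26628, .fwd 26642],
   .define,
   .define,
   .define,
   .define,
   .define,
   .define,
   .loop (some (20, 7)) [.bwd 26635, .fwd 8694, .fwd 26644, .fwd 26645, .fwd 26646, .fwd 26647, .fwd 26648, .fwd 26649],
   .define,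
   .loop (some (1, 2)) [.bwd 26624, .fwd 8694, .fwd 26651],
   .define,
   .define,
   .define,
   .define,
   .loop (some (11, 2)) [.bwd 26635, .fwd 26654, .fwd 26656],
   .define,
   .loop (some (17, 4)) [.fwd 26603, .bwd 8685, .fwd 8808, .fwd 8795, .fwd 26658],
   .define,
   .define,
   .define,
   .define,
   .define,
   .loop (some (5, 2)) [.fwd 8683, .fwd 26601, .fwd 26664],
   .loop (some (14, 2)) [.fwd 26628, .fwd 2444, .fwd 2445, .bwd 26602, .bwd 26608],
   .loop none [.bwd 26666],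
   .loop none [.bwd 26642, .bwd 26667],
   .loop none [.bwd 26638, .bwd 26667],
   .loop none [.bwd 26627, .bwd 26667],
   .loop none [.bwd 26628, .bwd 26667],
   .loop none [.fwd 26641, .bwd 26667],
   .define,
   .define,
   .loop (some (21, 4)) [.bwd 26590, .fwd 6164, .fwd 6165, .fwd 6166, .fwd 6123, .fwd 6030, .fwd 26673, .fwd 26674],
   .define,
   .define,
   .loop (some (18, 4)) [.bwd 6123, .bwd 12196, .fwd 26422, .fwd 26676, .fwd 26677],
   .loop (some (13, 2)) [.bwd 6123, .bwd 8696, .fwd 26590],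
   .define,
   .define,
   .loop (some (21, 4)) [.bwd 26592, .fwd 2764, .fwd 2765, .fwd 2766, .fwd 2538, .fwd 2539, .fwd 26680, .fwd 26681],
   .define,
   .define,
   .define,
   .define,
   .loop (some (20, 6)) [.bwd 26530, .fwd 2746, .fwd 2774, .bwd 26455, .fwd 26683, .fwd 26684, .fwd 26685, .fwd 26686],
   .define,
   .define,
   .loop (some (18, 4)) [.bwd 2538, .bwd 2820, .fwd 26426, .fwd 26688, .fwd 26689],
   .loop (some (13, 2)) [.bwd 2538, .bwd 8698, .fwd 26592],
   .define,
   .define,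
   .define,
   .loop (some (19, 4)) [.fwd 26623, .fwd 2505, .fwd 17880, .fwd 26692, .fwd 26693, .fwd 26694],
   .define,
   .loop (some (21, 5)) [.fwd 26695, .fwd 26623, .fwd 2505, .bwd 2459, .bwd 2441, .fwd 26528, .fwd 26612, .fwd 26696],
   .define,
   .define,
   .define,
   .define,
   .define,
   .loop (some (19, 5)) [.fwd 2758, .fwd 26698, .fwd 26699, .fwd 26700, .fwd 26701, .fwd 26702],
   .define,
   .define,
   .define,
   .define,
   .define,
   .loop (some (19, 5)) [.fwd 2734, .fwd 26704, .fwd 26705, .fwd 26706, .fwd 26707, .fwd 26708],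
   .define,
   .define,
   .define,
   .define,
   .define,
   .loop (some (19, 5)) [.bwd 4202, .fwd 26710, .fwd 26711, .fwd 26712, .fwd 26713, .fwd 26714],
   .define,
   .loop (some (6, 2)) [.fwd 4203, .fwd 4202, .fwd 26716],
   .define,
   .define,
   .define,
   .define,
   .define,
   .loop (some (19, 5)) [.fwd 3914, .fwd 26718, .fwd 26719, .fwd 26720, .fwd 26721, .fwd 26722],
   .loop (some (8, 1)) [.bwd 4202, .fwd 2465, .fwd 26718],
   .define,
   .loop (some (6, 2)) [.fwd 8705, .bwd 3914, .fwd 26725],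
   .loop (some (7, 1)) [.fwd 26726, .bwd 2468, .bwd 26717],
   .define,
   .define,
   .define,
   .define,
   .define,
   .loop (some (19, 5)) [.fwd 26726, .fwd 26728, .fwd 26729, .fwd 26730, .fwd 26731, .fwd 26732],
   .loop (some (8, 1)) [.fwd 26717, .fwd 8714, .fwd 26728],
   .define,
   .loop (some (17, 4)) [.fwd 15475, .fwd 8716, .bwd 8741, .fwd 8751, .fwd 26735],
   .define,
   .loop (some (1, 2)) [.bwd 26737, .bwd 8717, .bwd 14334],
   .define,
   .loop (some (3, 2)) [.bwd 26737, .fwd 8716, .fwd 26739],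
   .loop (some (13, 2)) [.bwd 26737, .bwd 8721, .bwd 2509],
   .define,
   .loop (some (4, 2)) [.bwd 26737, .bwd 15475, .fwd 26742],
   .define,
   .loop (some (11, 2)) [.fwd 15475, .bwd 8721, .fwd 26744],
   .define,
   .define,
   .loop (some (17, 5)) [.bwd 8719, .bwd 8743, .bwd 8758, .fwd 26746, .fwd 26747],
   .loop (some (7, 3)) [.fwd 26748, .bwd 2492, .bwd 15475, .fwd 26692]]

theorem just106_len : just106.length = 250 := by decide +kernel

theorem just106_ok : cert.okFacts 26500 just106 = true := by decide +kernel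

/-- justifications -/
noncomputable def just107 : List Cert.Just :=
  [.loop none [.bwd 26749],
   .loop none [.fwd 26747, .bwd 26750],
   .loop none [.bwd 26748, .bwd 26750],
   .loop (some (20, 7)) [.fwd 26752, .bwd 8718, .bwd 9583, .bwd 8291, .fwd 13899, .bwd 15190, .fwd 15201, .fwd 15640],
   .define,
   .define,
   .define,
   .loop (some (18, 4)) [.fwd 26589, .fwd 14120, .fwd 26754, .fwd 26755, .fwd 26756],
   .define,
   .loop (some (3, 2)) [.fwd 26589, .bwd 8719, .fwd 26758],
   .loop (some (13, 2)) [.fwd 26589, .bwd 2524, .fwd 26737],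
   .define,
   .define,
   .define,
   .define,
   .loop (some (17, 4)) [.bwd 26633, .bwd 8723, .bwd 8744, .bwd 8761, .fwd 26764],
   .loop (some (7, 3)) [.bwd 26633, .bwd 2493, .bwd 26752, .fwd 26693],
   .loop none [.fwd 26766],
   .loop none [.bwd 26694, .bwd 26767],
   .define,
   .loop (some (18, 3)) [.bwd 26669, .fwd 26670, .fwd 14121, .bwd 12651, .fwd 26769],
   .loop (some (13, 2)) [.bwd 26672, .fwd 26670, .bwd 8732, .fwd 26636],
   .loop none [.bwd 26771],
   .loop none [.fwd 26672, .bwd 26772],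
   .define,
   .loop (some (17, 4)) [.bwd 26744, .bwd 8726, .bwd 8747, .fwd 8763, .fwd 26774],
   .loop (some (7, 3)) [.bwd 26744, .bwd 2494, .fwd 26633, .fwd 26768],
   .loop none [.bwd 26776],
   .loop none [.fwd 26775, .bwd 26777],
   .loop none [.fwd 26744, .bwd 26777],
   .loop none [.bwd 26745, .bwd 26777],
   .define,
   .loop (some (20, 7)) [.fwd 26779, .bwd 8724, .bwd 9580, .fwd 8298, .fwd 13893, .bwd 15137, .bwd 15139, .fwd 15672],
   .define,
   .define,
   .define,
   .loop (some (18, 4)) [.fwd 2509, .fwd 14122, .fwd 26783, .fwd 26784, .fwd 26785],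
   .loop (some (13, 2)) [.fwd 2509, .bwd 8720, .bwd 26589],
   .loop (some (4, 2)) [.fwd 2509, .bwd 26779, .bwd 26697],
   .define,
   .define,
   .loop (some (11, 2)) [.fwd 26779, .bwd 8720, .bwd 26752],
   .define,
   .loop (some (17, 4)) [.bwd 26622, .fwd 8692, .fwd 8739, .fwd 8752, .fwd 26792],
   .loop (some (21, 2)) [.fwd 26526, .fwd 26588, .fwd 26589, .fwd 2493, .fwd 2494, .fwd 2495, .fwd 26636, .fwd 26637],
   .loop (some (20, 7)) [.bwd 26622, .fwd 8690, .bwd 9578, .fwd 8294, .fwd 13890, .fwd 13904, .fwd 14811, .bwd 23807],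
   .define,
   .define,
   .loop (some (4, 2)) [.bwd 26636, .fwd 26622, .fwd 26797],
   .define,
   .define,
   .define,
   .define,
   .define,
   .define,
   .define,
   .define,
   .define,
   .define,
   .loop (some (19, 5)) [.fwd 2664, .fwd 26804, .fwd 26805, .fwd 26806, .fwd 26807, .fwd 26808],
   .define,
   .define,
   .loop (some (21, 5)) [.fwd 26808, .fwd 26809, .fwd 2664, .fwd 4126, .bwd 4130, .fwd 26559, .fwd 26810, .fwd 26811],
   .loop (some (8, 1)) [.fwd 17618, .fwd 7612, .fwd 26804],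
   .define,
   .loop (some (6, 2)) [.fwd 26809, .bwd 8660, .bwd 26623, .bwd 26793],
   .loop none [.bwd 26815],
   .loop none [.bwd 26809, .bwd 26816],
   .define,
   .loop (some (10, 2)) [.bwd 8660, .bwd 26634, .bwd 26765],
   .loop (some (7, 1)) [.bwd 26612, .fwd 26529, .fwd 2507],
   .loop (some (12, 2)) [.bwd 26423, .bwd 26527, .fwd 26440],
   .define,
   .define,
   .loop (some (15, 2)) [.fwd 26557, .bwd 26423, .fwd 26822, .fwd 26823],
   .define,
   .define,
   .define,
   .define,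
   .define,
   .define,
   .loop (some (20, 7)) [.bwd 26820, .fwd 8735, .fwd 26825, .fwd 26826, .fwd 26827, .fwd 26828, .fwd 26829, .fwd 26830],
   .loop (some (1, 2)) [.bwd 26524, .fwd 8735, .fwd 26673],
   .loop (some (3, 2)) [.bwd 26524, .fwd 8736, .fwd 26680],
   .loop (some (4, 2)) [.bwd 26524, .fwd 26820, .fwd 26613],
   .define,
   .loop (some (17, 4)) [.fwd 26788, .bwd 8727, .bwd 8748, .bwd 8765, .fwd 26835],
   .define,
   .loop (some (6, 2)) [.fwd 8727, .fwd 26781, .fwd 26837],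
   .loop (some (12, 2)) [.fwd 26786, .bwd 26787, .bwd 26757],
   .define,
   .loop (some (10, 2)) [.fwd 8727, .bwd 26787, .bwd 26759],
   .define,
   .loop (some (21, 4)) [.bwd 18550, .fwd 6013, .fwd 6014, .bwd 6114, .fwd 6170, .fwd 6171, .fwd 26651, .fwd 26842],
   .define,
   .define,
   .define,
   .define,
   .define,
   .define,
   .define,
   .define,
   .define,
   .define,
   .define,
   .define,
   .define,
   .define,
   .define,
   .define,
   .define,
   .loop (some (22, 28)) [.bwd 10297, .fwd 11488, .bwd 6170, .fwd 6110, .bwd 7238, .bwd 10913, .bwd 11228, .bwd 22532, .bwd 22549, .fwd 22550, .fwd 21143, .fwd 21147, .bwd 21161, .fwd 20064, .fwd 26844, .fwd 26845, .fwd 26846, .fwd 26847, .fwd 26848, .fwd 26849, .fwd 26850, .fwd 26851, .fwd 26852, .fwd 26853, .fwd 26854, .fwd 26855, .fwd 26856, .fwd 26857, .fwd 26858, .fwd 26859, .fwd 26860],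
   .loop (some (20, 6)) [.bwd 26735, .fwd 2674, .bwd 2536, .fwd 2548, .bwd 20462, .bwd 23713, .fwd 20454, .fwd 17593, .bwd 26813],
   .loop none [.fwd 26862],
   .loop none [.bwd 26813, .bwd 26863],
   .loop none [.bwd 26805, .bwd 26863],
   .loop none [.fwd 26804, .bwd 26863],
   .define,
   .loop (some (1, 2)) [.bwd 26739, .bwd 22456, .fwd 26867],
   .loop (some (4, 2)) [.bwd 26739, .bwd 8741, .fwd 26818],
   .define,
   .loop (some (15, 1)) [.fwd 12698, .bwd 12660, .bwd 2550, .fwd 26870],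
   .loop (some (1, 2)) [.bwd 26758, .bwd 12033, .bwd 9825],
   .define,
   .define,
   .define,
   .loop (some (18, 4)) [.bwd 26758, .fwd 14134, .fwd 26873, .fwd 26874, .fwd 26875],
   .loop (some (13, 2)) [.bwd 26758, .bwd 2555, .fwd 26739],
   .define,
   .loop (some (4, 2)) [.bwd 26758, .bwd 8743, .fwd 26878],
   .define,
   .loop (some (15, 1)) [.bwd 15021, .bwd 14143, .bwd 14134, .fwd 26880],
   .loop (some (20, 5)) [.bwd 26774, .bwd 8757, .fwd 8744, .bwd 22462, .fwd 23351, .bwd 25022, .fwd 25023, .fwd 25058],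
   .define,
   .define,
   .loop (some (15, 1)) [.bwd 15018, .fwd 15006, .bwd 14135, .fwd 26884],
   .define,
   .define,
   .loop (some (15, 1)) [.bwd 15015, .fwd 15004, .bwd 14138, .fwd 26887],
   .define,
   .define,
   .define,
   .loop (some (21, 4)) [.bwd 26758, .fwd 2532, .fwd 2533, .fwd 2534, .fwd 26796, .fwd 26889, .fwd 26890, .fwd 26891],
   .loop (some (20, 5)) [.bwd 26746, .bwd 8764, .bwd 8739, .fwd 11485, .bwd 23447, .fwd 25029, .bwd 25027, .fwd 23727],
   .define,
   .loop (some (4, 2)) [.bwd 26796, .fwd 8739, .fwd 26894],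
   .define,
   .loop (some (15, 1)) [.bwd 15012, .fwd 15003, .bwd 14139, .fwd 26896],
   .loop (some (15, 0)) [.fwd 17593, .bwd 26864, .bwd 26735, .fwd 2674],
   .define,
   .loop (some (21, 4)) [.bwd 26886, .fwd 26838, .bwd 2540, .bwd 2539, .bwd 2538, .bwd 2766, .fwd 26610, .fwd 26899],
   .define,
   .loop (some (12, 2)) [.fwd 26690, .bwd 26691, .fwd 26901],
   .loop (some (11, 2)) [.fwd 8699, .bwd 26691, .fwd 26122],
   .define,
   .define,
   .loop (some (1, 2)) [.bwd 26680, .fwd 22468, .fwd 26905],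
   .define,
   .define,
   .define,
   .define,
   .define,
   .loop (some (20, 6)) [.bwd 26840, .fwd 8748, .bwd 22465, .fwd 26907, .fwd 26908, .fwd 26909, .fwd 26910, .fwd 26911],
   .loop (some (14, 2)) [.fwd 26691, .fwd 2539, .fwd 2540, .bwd 26841, .bwd 26892],
   .loop none [.fwd 26913],
   .loop none [.fwd 26682, .fwd 26914, .bwd 26891],
   .loop none [.fwd 26915],
   .loop none [.bwd 26892, .bwd 26914],
   .loop none [.bwd 26904, .fwd 26916, .bwd 26890],
   .loop none [.bwd 26918],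
   .loop none [.fwd 26904, .bwd 26919],
   .loop (some (11, 2)) [.fwd 8748, .bwd 26841, .bwd 26879],
   .define,
   .define,
   .define,
   .define,
   .define,
   .define,
   .define,
   .define,
   .define,
   .define,
   .define,
   .define,
   .loop (some (22, 29)) [.fwd 24146, .bwd 20480, .bwd 7294, .bwd 3593, .bwd 3575, .bwd 9027, .fwd 9041, .fwd 8556, .fwd 8529, .fwd 8520, .fwd 4486, .fwd 5356, .bwd 6695, .fwd 6697, .bwd 10157, .bwd 10478, .bwd 6659, .bwd 12251, .bwd 23286, .bwd 22256, .fwd 26923, .fwd 26924, .fwd 26925, .fwd 26926, .fwd 26927, .fwd 26928, .fwd 26929, .fwd 26930, .fwd 26931, .fwd 26932, .fwd 26933],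
   .loop (some (20, 6)) [.fwd 26871, .fwd 12698, .bwd 12660, .fwd 12666, .bwd 20472, .fwd 23349, .fwd 20741, .fwd 4028, .bwd 25854],
   .loop none [.bwd 26935],
   .loop none [.bwd 26871, .bwd 26936],
   .define,
   .define,
   .define,
   .loop (some (18, 4)) [.bwd 26818, .fwd 2608, .fwd 2713, .fwd 26939, .fwd 26940],
   .loop (some (3, 3)) [.bwd 26818, .fwd 8751, .fwd 26630, .fwd 26631],
   .loop none [.bwd 26942],
   .loop none [.bwd 26632, .fwd 26943, .fwd 26869],
   .loop none [.fwd 26944],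
   .loop none [.fwd 26941, .bwd 26943],
   .loop none [.fwd 26818, .bwd 26943],
   .loop none [.fwd 26868, .bwd 26945],
   .loop none [.bwd 26740, .bwd 26945],
   .loop none [.fwd 26739, .bwd 26945],
   .loop none [.bwd 26877, .bwd 26945],
   .define,
   .define,
   .define,
   .define,
   .define,
   .define,
   .define,
   .define,
   .define,
   .define,
   .define,
   .define,
   .define,
   .define,
   .define,
   .define,
   .define,
   .define,
   .define,
   .loop (some (22, 29)) [.bwd 26946, .fwd 26947, .fwd 8751, .fwd 26735, .fwd 26864, .fwd 20461, .fwd 23214, .fwd 13732, .bwd 14954, .bwd 12552, .bwd 23674, .bwd 21585, .fwd 26952, .fwd 26953, .fwd 26954, .fwd 26955, .fwd 26956, .fwd 26957, .fwd 26958, .fwd 26959, .fwd 26960, .fwd 26961, .fwd 26962, .fwd 26963, .fwd 26964, .fwd 26965, .fwd 26966, .fwd 26967, .fwd 26968, .fwd 26969, .fwd 26970],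
   .loop (some (15, 0)) [.bwd 23655, .fwd 20687, .bwd 2663, .bwd 2608],
   .loop (some (20, 3)) [.fwd 26881, .bwd 15021, .bwd 14143, .bwd 14134, .bwd 8743, .bwd 22478, .bwd 22753, .fwd 8781],
   .define,
   .loop (some (1, 2)) [.bwd 26878, .bwd 22478, .fwd 26974],
   .loop (some (3, 3)) [.bwd 26878, .bwd 8758, .fwd 26799, .fwd 26800],
   .loop none [.bwd 26976],
   .loop none [.fwd 26975, .bwd 26977],
   .loop none [.bwd 26801, .fwd 26977, .fwd 26879],
   .loop none [.bwd 26979],
   .loop none [.fwd 26878, .bwd 26977],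
   .loop none [.bwd 26921, .bwd 26977],
   .loop none [.fwd 26801, .bwd 26980],
   .loop none [.fwd 26876, .fwd 26980, .fwd 26802],
   .loop none [.bwd 26984],
   .loop none [.bwd 26876, .bwd 26985],
   .loop none [.bwd 26803, .fwd 26985, .bwd 26875],
   .loop none [.fwd 26987],
   .loop none [.fwd 26874, .bwd 26988],
   .loop (some (13, 2)) [.fwd 26981, .bwd 2628, .bwd 26947],
   .define,
   .loop (some (21, 2)) [.bwd 2741, .bwd 2740, .bwd 2557, .fwd 2585, .fwd 2586, .fwd 2587, .fwd 26883, .fwd 26991],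
   .loop (some (20, 5)) [.bwd 15018, .fwd 15006, .bwd 14135, .bwd 8744, .bwd 22479, .bwd 22750, .fwd 8829, .bwd 26078, .bwd 26077],
   .loop none [.fwd 26993],
   .loop none [.bwd 23712, .fwd 26994, .bwd 26076],
   .loop none [.fwd 26995],
   .loop none [.fwd 26885, .fwd 26994, .fwd 26077],
   .loop none [.bwd 26997],
   .loop none [.fwd 26075, .bwd 26996]]

theorem just107_len : just107.length = 250 := by decide +kernel

theorem just107_ok : cert.okFacts 26750 just107 = true := by decide +kernel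


end CfsgLib.ThCent.DX
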