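import Cfsg.Agent.Lib.ThCent.DXData

/-!
Justifications of the side facts (generated data).
-/

namespace CfsgLib.ThCent.DX

open CfsgLib.PresCert

set_option maxRecDepth 100000

/-- justifications -/
noncomputable def just108 : List Cert.Just :=
  [.loop none [.bwd 26885, .bwd 26998],
   .loop none [.fwd 26884, .bwd 26998],
   .loop (some (3, 3)) [.bwd 26883, .bwd 8761, .fwd 26789, .fwd 26790],
   .loop none [.bwd 27002],
   .loop none [.fwd 26883, .bwd 27003],
   .loop none [.bwd 26991, .bwd 27003],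
   .loop (some (13, 2)) [.fwd 27004, .bwd 8746, .fwd 26894],
   .loop (some (15, 0)) [.fwd 25058, .fwd 26882, .bwd 26774, .bwd 8757],
   .loop (some (20, 3)) [.fwd 26888, .bwd 15015, .fwd 15004, .bwd 14138, .bwd 8747, .bwd 22481, .bwd 22752, .fwd 8825],
   .loop (some (20, 3)) [.fwd 26897, .bwd 15012, .fwd 15003, .bwd 14139, .fwd 8739, .fwd 22467, .bwd 22749, .fwd 8821],
   .loop (some (3, 3)) [.bwd 26894, .fwd 8752, .fwd 26761, .fwd 26762],
   .loop none [.bwd 27010],
   .loop none [.bwd 26763, .fwd 27011, .fwd 26895],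
   .loop none [.fwd 27012],
   .loop none [.bwd 27006, .bwd 27011],
   .loop none [.bwd 26889, .bwd 27013],
   .loop (some (15, 0)) [.fwd 23727, .fwd 26893, .bwd 26746, .bwd 8764],
   .loop (some (13, 1)) [.fwd 26903, .bwd 2597, .bwd 8806],
   .loop (some (15, 0)) [.fwd 26685, .fwd 26686, .fwd 26687, .bwd 26530],
   .loop (some (14, 1)) [.fwd 26903, .fwd 2598, .fwd 2599, .bwd 26982],
   .loop (some (15, 0)) [.fwd 26910, .fwd 26911, .fwd 26912, .bwd 26840],
   .loop (some (10, 2)) [.fwd 8765, .bwd 26982, .bwd 26800],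
   .loop (some (11, 2)) [.bwd 26735, .fwd 8772, .fwd 26774],
   .loop (some (7, 3)) [.bwd 26746, .bwd 2658, .fwd 26735, .fwd 26865],
   .loop none [.fwd 27023],
   .loop none [.bwd 26806, .bwd 27024],
   .loop none [.fwd 26865, .bwd 27024],
   .loop (some (7, 3)) [.bwd 26764, .bwd 2659, .fwd 26746, .fwd 27025],
   .loop none [.fwd 27027],
   .loop none [.bwd 26807, .bwd 27028],
   .loop none [.fwd 27025, .bwd 27028],
   .loop (some (7, 3)) [.bwd 26774, .bwd 2660, .fwd 26764, .fwd 27029],
   .loop none [.fwd 27031],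
   .loop none [.fwd 26812, .bwd 27032],
   .loop (some (4, 2)) [.bwd 26835, .fwd 2669, .fwd 26774, .fwd 27033],
   .loop none [.bwd 27034],
   .loop none [.bwd 26836, .bwd 27035],
   .loop (some (5, 1)) [.fwd 2867, .bwd 4140, .bwd 26817],
   .loop (some (9, 1)) [.fwd 8832, .bwd 4140, .bwd 26819],
   .loop (some (13, 2)) [.bwd 2666, .bwd 8796, .bwd 26194],
   .loop (some (10, 1)) [.fwd 26903, .bwd 8767, .bwd 27039],
   .loop (some (14, 1)) [.fwd 27039, .fwd 2667, .fwd 2668, .bwd 27021],
   .loop (some (13, 2)) [.bwd 4189, .bwd 8782, .bwd 25925],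
   .loop (some (7, 4)) [.bwd 2705, .fwd 4121, .fwd 26445, .fwd 26683],
   .loop none [.fwd 27043],
   .loop none [.bwd 26564, .fwd 27044, .bwd 26683],
   .loop none [.bwd 27045],
   .loop none [.bwd 2733, .fwd 27044, .fwd 26684],
   .loop none [.fwd 27047],
   .loop none [.bwd 26565, .bwd 27046],
   .loop none [.fwd 26564, .bwd 27046],
   .loop none [.fwd 27018, .bwd 27048],
   .loop (some (8, 1)) [.fwd 26709, .bwd 2733, .fwd 2706],
   .loop (some (11, 2)) [.fwd 27050, .bwd 8790, .fwd 26595],
   .loop (some (7, 3)) [.bwd 26573, .bwd 2706, .bwd 27050, .fwd 26446],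
   .loop none [.bwd 27054],
   .loop none [.bwd 26574, .bwd 27055],
   .loop none [.fwd 26573, .bwd 27055],
   .loop (some (20, 7)) [.fwd 27057, .bwd 8787, .bwd 9138, .fwd 9131, .fwd 9147, .bwd 22746, .fwd 25042, .fwd 22498],
   .loop (some (2, 2)) [.bwd 27052, .bwd 8788, .fwd 26582],
   .loop (some (8, 1)) [.fwd 26708, .bwd 27052, .fwd 2707],
   .loop (some (7, 3)) [.fwd 26621, .bwd 2707, .bwd 27057, .fwd 26447],
   .loop none [.fwd 27061],
   .loop none [.bwd 26448, .bwd 27062],
   .loop (some (20, 7)) [.fwd 26621, .bwd 8791, .bwd 9134, .bwd 9140, .fwd 9146, .bwd 22742, .fwd 25041, .fwd 25040],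
   .loop (some (8, 1)) [.fwd 26707, .bwd 27060, .fwd 2708],
   .loop (some (7, 3)) [.bwd 26595, .bwd 2708, .bwd 26621, .fwd 27063],
   .loop none [.bwd 27066],
   .loop none [.fwd 26595, .bwd 27067],
   .loop none [.bwd 27053, .bwd 27067],
   .loop (some (20, 7)) [.fwd 27068, .bwd 8793, .bwd 9136, .bwd 9137, .fwd 9145, .bwd 22747, .fwd 25038, .bwd 22514],
   .loop (some (4, 2)) [.bwd 26658, .fwd 2716, .bwd 27068, .bwd 26454],
   .loop none [.bwd 27071],
   .loop none [.bwd 26659, .bwd 27072],
   .loop (some (20, 6)) [.bwd 26616, .fwd 2711, .fwd 4129, .bwd 2776, .fwd 8802, .fwd 2757, .fwd 8706, .bwd 26724],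
   .loop (some (5, 1)) [.fwd 3837, .bwd 4144, .bwd 26709],
   .loop (some (6, 2)) [.fwd 26703, .fwd 8707, .bwd 26709, .bwd 27059],
   .loop none [.bwd 27076],
   .loop none [.bwd 26703, .bwd 27077],
   .loop none [.fwd 26702, .bwd 27077],
   .loop (some (12, 0)) [.bwd 27065, .fwd 8790, .fwd 2733],
   .loop (some (15, 0)) [.bwd 8068, .bwd 26455, .fwd 27050, .fwd 2733],
   .loop (some (8, 2)) [.bwd 27079, .bwd 26582, .fwd 2742, .fwd 26594],
   .loop none [.bwd 27082],
   .loop none [.fwd 27079, .bwd 27083],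
   .loop none [.fwd 26701, .bwd 27083],
   .loop (some (4, 3)) [.fwd 26992, .bwd 8803, .fwd 26581, .fwd 26129],
   .loop none [.bwd 27086],
   .loop none [.bwd 26992, .bwd 27087],
   .loop none [.fwd 27005, .bwd 27087],
   .loop (some (8, 2)) [.bwd 27085, .bwd 26594, .fwd 2743, .fwd 26604],
   .loop none [.bwd 27090],
   .loop none [.fwd 26700, .bwd 27091],
   .loop (some (8, 2)) [.bwd 27092, .bwd 26604, .fwd 2744, .fwd 26611],
   .loop none [.bwd 27093],
   .loop none [.fwd 27092, .bwd 27094],
   .loop (some (4, 3)) [.bwd 8697, .fwd 26610, .fwd 26113],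
   .loop (some (7, 1)) [.fwd 26715, .bwd 8706, .bwd 27078],
   .loop (some (1, 2)) [.bwd 26653, .fwd 22511, .fwd 26922],
   .loop (some (15, 0)) [.bwd 8708, .bwd 2733, .bwd 27050, .fwd 26455],
   .loop (some (20, 1)) [.fwd 26455, .fwd 8068, .bwd 20720, .fwd 22486, .fwd 4182, .bwd 3838, .bwd 4321, .fwd 8813, .bwd 26417],
   .loop none [.bwd 27100],
   .loop none [.fwd 26416, .fwd 27101, .fwd 27049],
   .loop none [.bwd 27102],
   .loop none [.fwd 27069, .bwd 27101],
   .loop none [.fwd 26415, .bwd 27103],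
   .loop (some (9, 2)) [.bwd 27104, .fwd 26417, .fwd 8814, .bwd 26439],
   .loop none [.bwd 27106],
   .loop none [.bwd 27068, .bwd 27107],
   .loop none [.fwd 27070, .bwd 27107],
   .loop none [.fwd 26454, .bwd 27107],
   .loop none [.fwd 27063, .bwd 27107],
   .loop (some (20, 1)) [.bwd 27058, .bwd 22498, .bwd 25042, .fwd 22746, .bwd 9147, .bwd 9131, .fwd 9138, .fwd 8815, .bwd 26429],
   .loop none [.bwd 27112],
   .loop none [.fwd 26428, .fwd 27113, .fwd 27056],
   .loop none [.bwd 27114],
   .loop none [.fwd 27058, .bwd 27113],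
   .loop none [.fwd 26427, .bwd 27115],
   .loop none [.bwd 26428, .bwd 27115],
   .loop (some (1, 2)) [.fwd 26473, .fwd 2815, .bwd 26439, .fwd 27110],
   .loop none [.bwd 27119],
   .loop none [.bwd 27073, .fwd 27120, .bwd 26472],
   .loop none [.fwd 27121],
   .loop none [.fwd 26471, .bwd 27122],
   .loop (some (15, 0)) [.bwd 27097, .bwd 26582, .bwd 8803, .fwd 8809],
   .loop (some (18, 2)) [.bwd 24868, .bwd 24560, .bwd 24874, .bwd 2812, .bwd 25854, .fwd 26005],
   .loop none [.fwd 27125],
   .loop none [.fwd 24864, .fwd 27126, .fwd 26006],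
   .loop none [.fwd 27127],
   .loop none [.fwd 26005, .bwd 27126],
   .loop none [.fwd 20097, .fwd 27128, .fwd 26007],
   .loop none [.fwd 27130],
   .loop none [.bwd 24331, .fwd 27131, .fwd 26008],
   .loop none [.fwd 27132],
   .loop none [.bwd 21367, .fwd 27133, .fwd 26009],
   .loop none [.fwd 27134],
   .loop none [.bwd 26010, .bwd 27135],
   .loop (some (12, 2)) [.fwd 25854, .bwd 8832, .fwd 27008],
   .loop (some (13, 2)) [.fwd 26461, .bwd 2812, .bwd 8832, .bwd 25867],
   .loop none [.bwd 27138],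
   .loop none [.bwd 26461, .bwd 27139],
   .loop (some (15, 0)) [.bwd 26938, .fwd 12660, .bwd 12698, .bwd 26937, .fwd 25854],
   .loop none [.bwd 27141],
   .loop none [.fwd 26938, .bwd 27142],
   .loop (some (0, 1)) [.fwd 27140, .fwd 22517],
   .loop (some (14, 1)) [.fwd 27140, .fwd 2813, .fwd 2814, .bwd 26509],
   .loop (some (16, 0)) [.fwd 26736, .bwd 18512, .bwd 15477, .bwd 17886, .bwd 8820],
   .loop (some (8, 2)) [.fwd 25853, .bwd 2898, .fwd 2863, .fwd 27009],
   .loop none [.fwd 27147],
   .loop none [.fwd 27009, .bwd 27148],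
   .loop (some (18, 3)) [.fwd 25891, .fwd 25892, .fwd 2898, .fwd 12662, .bwd 14246],
   .loop (some (3, 2)) [.fwd 25892, .fwd 8820, .bwd 8840],
   .loop (some (9, 1)) [.fwd 27022, .bwd 27146, .bwd 8824],
   .loop (some (20, 0)) [.bwd 26893, .bwd 23727, .fwd 25027, .bwd 25029, .fwd 23447, .fwd 22471, .bwd 22749, .fwd 8821],
   .loop (some (8, 2)) [.fwd 25852, .fwd 27149, .fwd 2864, .fwd 27008],
   .loop none [.fwd 27154],
   .loop none [.bwd 26888, .bwd 27155],
   .loop none [.fwd 27008, .bwd 27155],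
   .loop none [.bwd 27137, .bwd 27155],
   .loop (some (8, 2)) [.fwd 25851, .fwd 27157, .fwd 2865, .bwd 26078],
   .loop none [.fwd 27159],
   .loop none [.bwd 27000, .bwd 27160],
   .loop none [.bwd 26078, .bwd 27160],
   .loop none [.bwd 27001, .bwd 27160],
   .loop (some (15, 0)) [.bwd 15004, .fwd 15015, .bwd 27156, .fwd 27157],
   .loop (some (16, 2)) [.bwd 18501, .bwd 17888, .fwd 8830, .fwd 27152, .bwd 26778],
   .loop (some (8, 2)) [.fwd 25850, .fwd 27162, .fwd 2866, .fwd 26973],
   .loop none [.fwd 27166],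
   .loop none [.bwd 26881, .bwd 27167],
   .loop none [.fwd 26973, .bwd 27167],
   .loop (some (1, 2)) [.fwd 2876, .fwd 27152, .fwd 27033],
   .loop (some (15, 0)) [.bwd 15006, .fwd 15018, .bwd 27161, .fwd 27162],
   .loop (some (2, 2)) [.fwd 26563, .fwd 8641, .fwd 26031],
   .loop (some (5, 1)) [.bwd 26810, .fwd 26560, .fwd 2874],
   .loop (some (16, 2)) [.fwd 15856, .fwd 18558, .fwd 8831, .bwd 27170, .fwd 27036],
   .loop (some (2, 2)) [.fwd 25879, .bwd 8831, .fwd 17073],
   .loop (some (16, 2)) [.fwd 26751, .bwd 27153, .bwd 8822, .fwd 17889, .fwd 18504],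
   .loop (some (15, 0)) [.fwd 26475, .fwd 26476, .fwd 26331, .bwd 26031],
   .loop (some (15, 0)) [.fwd 26457, .fwd 26458, .fwd 26336, .bwd 17073],
   .loop (some (13, 2)) [.bwd 12648, .fwd 14157, .fwd 26000],
   .loop (some (8, 1)) [.fwd 26139, .bwd 8643, .bwd 26230],
   .loop (some (14, 2)) [.fwd 26229, .fwd 26230, .bwd 26037, .bwd 26173],
   .loop (some (15, 0)) [.bwd 24873, .bwd 17007, .fwd 8600, .bwd 8593],
   .loop (some (20, 4)) [.bwd 25671, .bwd 25670, .bwd 4569, .bwd 6635, .bwd 6630, .fwd 5842, .bwd 10155, .fwd 22919],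
   .loop (some (15, 0)) [.fwd 22621, .bwd 20582, .fwd 6666, .bwd 5117],
   .loop (some (9, 2)) [.fwd 25757, .bwd 8431, .bwd 11160],
   .loop (some (6, 1)) [.bwd 25583, .bwd 8871, .bwd 14159],
   .loop (some (15, 0)) [.bwd 24296, .bwd 6643, .bwd 6642, .bwd 8878],
   .loop (some (15, 0)) [.bwd 25670, .bwd 4569, .bwd 6635, .fwd 5117],
   .loop (some (9, 2)) [.fwd 25800, .bwd 8442, .bwd 9924],
   .loop (some (6, 1)) [.bwd 25522, .bwd 8924, .fwd 12344],
   .loop (some (15, 0)) [.fwd 19272, .fwd 15917, .bwd 22783, .bwd 3401],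
   .loop (some (7, 0)) [.fwd 5029, .fwd 25321, .bwd 22708],
   .loop (some (6, 2)) [.bwd 3407, .fwd 27192, .bwd 5028],
   .loop (some (6, 1)) [.fwd 25529, .fwd 7358, .bwd 12351],
   .loop (some (3, 3)) [.bwd 22429, .fwd 25432, .fwd 25433],
   .loop (some (4, 2)) [.bwd 25434, .fwd 27195, .bwd 10533, .bwd 25948],
   .loop none [.fwd 27196],
   .loop none [.bwd 25948, .bwd 27197],
   .loop (some (3, 3)) [.bwd 22418, .fwd 25473, .fwd 25474],
   .loop (some (4, 1)) [.bwd 25475, .fwd 27199, .bwd 10396],
   .loop (some (18, 2)) [.bwd 25455, .fwd 24147, .bwd 20491, .bwd 10613, .fwd 26052],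
   .loop (some (13, 2)) [.bwd 20491, .bwd 11240, .bwd 27198],
   .loop (some (13, 0)) [.fwd 27195, .bwd 9053, .fwd 3637],
   .loop (some (9, 1)) [.fwd 23277, .fwd 9052, .fwd 27203],
   .loop (some (21, 1)) [.bwd 12592, .bwd 14201, .bwd 8126, .fwd 4044, .fwd 3662, .fwd 3663, .fwd 3664, .fwd 26114],
   .loop (some (13, 2)) [.bwd 26114, .fwd 9094, .fwd 26124],
   .loop (some (13, 2)) [.bwd 26124, .bwd 8617, .fwd 20671],
   .loop (some (5, 1)) [.fwd 26723, .bwd 3913, .bwd 3899],
   .loop (some (20, 0)) [.fwd 26724, .bwd 8706, .bwd 2757, .bwd 8802, .fwd 2776, .bwd 4008, .fwd 4009, .fwd 9120],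
   .loop (some (5, 3)) [.bwd 3895, .fwd 27209, .fwd 26719],
   .loop (some (5, 3)) [.bwd 3896, .bwd 27210, .fwd 26720],
   .loop (some (15, 0)) [.fwd 22514, .bwd 25038, .fwd 22747, .bwd 9145],
   .loop (some (9, 2)) [.fwd 27211, .bwd 9139, .fwd 27208],
   .loop (some (15, 0)) [.bwd 22498, .bwd 25042, .fwd 22746, .bwd 9147],
   .loop (some (9, 2)) [.bwd 27208, .bwd 9142, .fwd 3913],
   .loop (some (6, 1)) [.fwd 26733, .bwd 26725, .bwd 26723],
   .loop (some (0, 2)) [.fwd 27215, .fwd 27213],
   .loop (some (11, 1)) [.bwd 27080, .fwd 8708, .bwd 27217],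
   .loop (some (2, 2)) [.fwd 26724, .fwd 26716, .bwd 26734],
   .loop (some (15, 0)) [.bwd 2711, .fwd 26616, .bwd 27074, .fwd 26724],
   .loop (some (3, 4)) [.fwd 22435, .fwd 26126, .bwd 26104, .bwd 26103],
   .loop none [.fwd 27221],
   .loop none [.fwd 26171, .fwd 27222, .fwd 26103],
   .loop none [.bwd 27223],
   .loop none [.bwd 26171, .bwd 27224],
   .loop (some (12, 2)) [.fwd 23186, .bwd 27042, .bwd 25924],
   .loop (some (15, 0)) [.fwd 23713, .fwd 20462, .fwd 8067, .bwd 4333],
   .loop (some (3, 4)) [.bwd 8853, .fwd 25971, .bwd 25999, .bwd 25998],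
   .loop none [.fwd 27228],
   .loop none [.bwd 22749, .fwd 27229, .bwd 25997],
   .loop none [.fwd 27230],
   .loop none [.fwd 22471, .fwd 27231, .bwd 25996],
   .loop none [.fwd 27232],
   .loop none [.bwd 10395, .fwd 27233, .bwd 25995],
   .loop none [.fwd 27234],
   .loop none [.bwd 27200, .fwd 27235, .bwd 25994],
   .loop none [.fwd 27236],
   .loop none [.bwd 25476, .fwd 27237, .bwd 25993],
   .loop none [.fwd 27238],
   .loop none [.fwd 25992, .bwd 27239],
   .loop (some (3, 4)) [.bwd 8585, .fwd 22419, .bwd 25970, .bwd 25969],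
   .loop none [.fwd 27241],
   .loop none [.bwd 22753, .fwd 27242, .bwd 25968],
   .loop none [.fwd 27243],
   .loop none [.bwd 23348, .fwd 27244, .bwd 25967],
   .loop none [.fwd 27245],
   .loop none [.bwd 9826, .fwd 27246, .bwd 25966],
   .loop none [.fwd 27247],
   .loop none [.bwd 14203, .fwd 27248, .bwd 25965]]

theorem just108_len : just108.length = 250 := by decide +kernel

theorem just108_ok : cert.okFacts 27000 just108 = true := by decide +kernel

/-- justifications -/
noncomputable def just109 : List Cert.Just :=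
  [.loop none [.fwd 27249],
   .loop none [.bwd 12595, .fwd 27250, .bwd 25964],
   .loop none [.fwd 27251],
   .loop none [.fwd 23694, .fwd 27252, .bwd 25963],
   .loop none [.fwd 27253],
   .loop none [.fwd 25962, .bwd 27254],
   .loop (some (6, 2)) [.bwd 9175, .bwd 25319, .bwd 24244],
   .loop (some (16, 2)) [.bwd 25660, .fwd 19853, .bwd 9242, .bwd 17366, .fwd 15680],
   .loop (some (20, 6)) [.bwd 20770, .fwd 6708, .bwd 6698, .bwd 7131, .fwd 9828, .bwd 18009, .bwd 22354, .fwd 25702],
   .loop (some (19, 3)) [.fwd 25695, .bwd 14741, .bwd 12440, .bwd 10850, .bwd 10610, .bwd 10609],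
   .loop (some (15, 0)) [.fwd 27183, .bwd 25671, .bwd 25670, .bwd 4569],
   .loop (some (17, 4)) [.bwd 25670, .bwd 9275, .bwd 5542, .bwd 5541, .bwd 11398],
   .loop (some (4, 1)) [.fwd 9805, .bwd 4570, .fwd 25670],
   .loop (some (11, 2)) [.bwd 25670, .bwd 11295, .fwd 9803],
   .loop (some (8, 0)) [.fwd 25607, .bwd 9722, .bwd 11103],
   .loop (some (18, 2)) [.bwd 25814, .bwd 23343, .bwd 9278, .fwd 4573, .fwd 4574],
   .loop (some (2, 1)) [.bwd 25815, .bwd 27265, .fwd 4575],
   .loop (some (15, 0)) [.bwd 25816, .bwd 27266, .fwd 4576, .fwd 4577],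
   .loop (some (15, 0)) [.fwd 20881, .fwd 20882, .bwd 25111, .bwd 4581],
   .loop (some (15, 0)) [.bwd 15491, .fwd 24039, .bwd 23022, .bwd 4585],
   .loop (some (2, 2)) [.bwd 24069, .fwd 4587, .fwd 25908],
   .loop (some (18, 2)) [.fwd 24082, .bwd 5528, .bwd 5527, .fwd 9293, .fwd 25908, .fwd 25909],
   .loop none [.fwd 27271],
   .loop none [.fwd 21351, .fwd 27272, .fwd 25910],
   .loop none [.fwd 27273],
   .loop none [.fwd 25909, .bwd 27272],
   .loop none [.bwd 25911, .bwd 27274],
   .loop (some (12, 2)) [.bwd 25908, .bwd 18041, .bwd 17150],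
   .loop (some (15, 0)) [.bwd 24152, .bwd 17047, .bwd 17046, .fwd 17923],
   .loop (some (21, 8)) [.fwd 8840, .bwd 2906, .bwd 2351, .bwd 2322, .bwd 2360, .fwd 26278, .bwd 26421, .bwd 26420],
   .loop (some (2, 2)) [.bwd 4835, .fwd 27151, .bwd 25891],
   .loop (some (10, 2)) [.fwd 27280, .bwd 18064, .fwd 27175],
   .loop (some (13, 1)) [.fwd 27281, .bwd 27150, .bwd 18068],
   .loop (some (4, 1)) [.fwd 25890, .bwd 27150, .fwd 4838],
   .loop (some (3, 0)) [.fwd 25888, .fwd 25889, .bwd 27283],
   .loop (some (2, 0)) [.fwd 25887, .bwd 27284, .fwd 4839],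
   .loop (some (3, 1)) [.bwd 4841, .bwd 4840, .fwd 27285],
   .loop (some (4, 1)) [.fwd 25886, .fwd 27286, .fwd 4842],
   .loop (some (3, 0)) [.fwd 25884, .fwd 25885, .bwd 27287],
   .loop (some (2, 0)) [.fwd 25883, .bwd 27288, .fwd 4843],
   .loop (some (3, 1)) [.bwd 4845, .bwd 4844, .fwd 27289],
   .loop (some (4, 1)) [.fwd 25882, .fwd 27290, .fwd 4846],
   .loop (some (19, 4)) [.bwd 25451, .fwd 11114, .bwd 25494, .bwd 25517, .fwd 14743, .bwd 14740],
   .loop (some (14, 2)) [.fwd 25559, .fwd 25517, .fwd 25494, .bwd 9223, .bwd 25586],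
   .loop none [.fwd 27293],
   .loop none [.fwd 25585, .bwd 27294],
   .loop none [.bwd 25586, .bwd 27294],
   .loop (some (14, 2)) [.fwd 12580, .fwd 11083, .bwd 9250, .bwd 25598],
   .loop (some (19, 2)) [.bwd 25428, .bwd 25472, .bwd 25471, .bwd 25523, .bwd 25522, .bwd 27296, .fwd 27295],
   .loop none [.fwd 27298],
   .loop none [.bwd 25429, .fwd 27299, .bwd 25584],
   .loop none [.fwd 27300],
   .loop none [.fwd 27295, .bwd 27299],
   .loop none [.fwd 27186, .bwd 27301],
   .loop none [.fwd 25583, .bwd 27301],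
   .loop (some (15, 0)) [.fwd 23128, .bwd 5679, .bwd 7937, .bwd 8145],
   .loop (some (15, 0)) [.fwd 23227, .fwd 21870, .bwd 23372, .bwd 5063],
   .loop (some (18, 2)) [.bwd 25621, .bwd 25620, .bwd 9728, .bwd 9894, .fwd 10688],
   .loop (some (3, 2)) [.bwd 9728, .bwd 11112, .fwd 25560],
   .loop (some (10, 1)) [.fwd 25564, .fwd 11112, .bwd 10368],
   .loop (some (6, 1)) [.fwd 25572, .fwd 9790, .bwd 10375],
   .loop (some (3, 2)) [.bwd 9860, .bwd 11136, .fwd 25497],
   .loop (some (10, 1)) [.fwd 25623, .fwd 11136, .bwd 9891],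
   .loop (some (17, 2)) [.bwd 26057, .bwd 26056, .bwd 9059, .fwd 5392, .fwd 5393],
   .loop (some (2, 1)) [.bwd 25474, .bwd 25927, .fwd 5392],
   .loop (some (15, 0)) [.bwd 27240, .bwd 25476, .bwd 25475, .bwd 27314],
   .loop (some (16, 5)) [.bwd 27313, .fwd 14254, .fwd 13353, .fwd 26738, .bwd 26949, .fwd 26948],
   .loop none [.fwd 27316],
   .loop none [.fwd 26948, .bwd 27317],
   .loop none [.fwd 26867, .bwd 27317],
   .loop (some (20, 4)) [.bwd 27240, .bwd 25476, .bwd 25475, .bwd 27314, .fwd 5393, .fwd 14254, .fwd 13003, .fwd 18688, .fwd 16606],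
   .loop none [.bwd 27320],
   .loop none [.fwd 18716, .fwd 27321, .bwd 25991],
   .loop none [.fwd 27322],
   .loop none [.fwd 27315, .bwd 27321],
   .loop none [.bwd 18715, .fwd 27323, .bwd 25990],
   .loop none [.fwd 27325],
   .loop none [.fwd 19324, .fwd 27326, .bwd 25989],
   .loop none [.fwd 27327],
   .loop none [.fwd 24422, .fwd 27328, .bwd 25988],
   .loop none [.fwd 27329],
   .loop none [.bwd 6788, .fwd 27330, .bwd 25987],
   .loop none [.fwd 27331],
   .loop none [.fwd 25986, .bwd 27332],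
   .loop (some (2, 2)) [.bwd 5394, .fwd 27313, .fwd 26058],
   .loop (some (3, 3)) [.bwd 5395, .bwd 27334, .fwd 26059, .fwd 26060],
   .loop none [.fwd 27335],
   .loop none [.bwd 5396, .fwd 27336, .bwd 26060],
   .loop none [.fwd 27337],
   .loop none [.bwd 26061, .bwd 27336],
   .loop none [.fwd 26059, .bwd 27338],
   .loop (some (20, 7)) [.bwd 26062, .bwd 27339, .bwd 18692, .fwd 13005, .fwd 12546, .fwd 11610, .fwd 9931, .fwd 9932, .bwd 15518],
   .loop none [.bwd 27341],
   .loop none [.bwd 24103, .fwd 27342, .fwd 26063],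
   .loop none [.fwd 27343],
   .loop none [.bwd 26064, .bwd 27344],
   .loop (some (15, 0)) [.bwd 22091, .fwd 25061, .fwd 23656, .fwd 23782],
   .loop (some (3, 0)) [.bwd 25342, .bwd 5404, .bwd 5403],
   .loop (some (14, 2)) [.fwd 25619, .fwd 12579, .fwd 12580, .bwd 11084, .bwd 25431],
   .loop none [.bwd 27348],
   .loop none [.fwd 25618, .bwd 27349],
   .loop (some (18, 2)) [.bwd 25897, .fwd 17150, .fwd 18042, .fwd 5482, .fwd 5483],
   .loop (some (2, 1)) [.bwd 25898, .bwd 27351, .fwd 5484],
   .loop (some (12, 2)) [.bwd 27352, .bwd 9438, .bwd 23088],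
   .loop (some (15, 0)) [.bwd 25899, .bwd 27352, .fwd 5485, .fwd 5486],
   .loop (some (7, 0)) [.fwd 5871, .fwd 23196, .bwd 5493],
   .loop (some (6, 2)) [.fwd 5492, .fwd 27355, .bwd 5870],
   .loop (some (12, 2)) [.fwd 25634, .bwd 9450, .fwd 23432],
   .loop (some (15, 0)) [.fwd 25633, .fwd 25634, .fwd 5497, .fwd 5498],
   .loop (some (15, 0)) [.bwd 27276, .fwd 24080, .fwd 5530, .fwd 5531],
   .loop (some (15, 0)) [.bwd 23010, .bwd 23338, .bwd 11298, .bwd 5539],
   .loop (some (15, 0)) [.fwd 22346, .bwd 23343, .fwd 5542, .fwd 5543],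
   .loop (some (18, 2)) [.bwd 25904, .fwd 19736, .bwd 11400, .fwd 5584, .fwd 5585],
   .loop (some (2, 1)) [.bwd 25905, .bwd 27362, .fwd 5586],
   .loop (some (15, 0)) [.bwd 25906, .bwd 27363, .fwd 5587, .fwd 5588],
   .loop (some (12, 2)) [.fwd 25527, .bwd 9521, .fwd 11425],
   .loop (some (15, 0)) [.fwd 25524, .fwd 25525, .fwd 25526, .fwd 25527],
   .loop (some (15, 0)) [.fwd 25526, .fwd 25527, .fwd 5599, .fwd 5600],
   .loop (some (15, 0)) [.bwd 11398, .bwd 10314, .bwd 23437, .bwd 5661],
   .loop (some (17, 4)) [.bwd 23437, .fwd 9539, .fwd 5875, .fwd 23115, .fwd 27183],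
   .loop (some (12, 2)) [.bwd 9536, .bwd 9490, .bwd 25516],
   .loop (some (15, 0)) [.fwd 10309, .bwd 23432, .fwd 5664, .fwd 5665],
   .loop (some (15, 0)) [.bwd 25901, .fwd 24829, .fwd 5686, .fwd 5687],
   .loop (some (8, 2)) [.bwd 11425, .bwd 23324, .bwd 9755],
   .loop (some (15, 0)) [.bwd 27183, .bwd 22919, .fwd 10155, .bwd 5842],
   .loop (some (12, 2)) [.bwd 5856, .fwd 23188, .fwd 25500],
   .loop (some (13, 2)) [.bwd 5857, .bwd 27375, .fwd 25501],
   .loop (some (10, 2)) [.fwd 27226, .bwd 5858, .bwd 27376, .fwd 25502],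
   .loop none [.bwd 27377],
   .loop none [.bwd 27226, .bwd 27378],
   .loop (some (11, 2)) [.bwd 5859, .bwd 27379, .fwd 25503],
   .loop (some (12, 2)) [.bwd 5860, .bwd 27380, .fwd 25504],
   .loop (some (13, 2)) [.bwd 5861, .bwd 27381, .fwd 25505],
   .loop (some (10, 2)) [.bwd 5862, .bwd 27382, .fwd 25506],
   .loop (some (11, 2)) [.bwd 5863, .bwd 27383, .fwd 25507],
   .loop (some (12, 2)) [.bwd 5864, .bwd 27384, .fwd 25508],
   .loop (some (13, 2)) [.bwd 5865, .bwd 27385, .fwd 25509],
   .loop (some (10, 2)) [.bwd 5866, .bwd 27386, .fwd 25510],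
   .loop (some (11, 2)) [.bwd 5867, .bwd 27387, .fwd 25511],
   .loop (some (12, 2)) [.bwd 5868, .bwd 27388, .fwd 25512],
   .loop (some (13, 2)) [.bwd 5869, .bwd 27389, .fwd 25513],
   .loop (some (17, 5)) [.fwd 5870, .fwd 5871, .bwd 24692, .bwd 10309, .bwd 10308],
   .loop (some (4, 2)) [.fwd 5869, .bwd 27391, .bwd 10307],
   .loop (some (11, 1)) [.fwd 23427, .fwd 27391, .bwd 27390],
   .loop (some (10, 2)) [.bwd 5870, .bwd 27390, .fwd 25514],
   .loop (some (4, 1)) [.fwd 25540, .bwd 23206, .fwd 5910],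
   .loop (some (15, 0)) [.bwd 20133, .bwd 24537, .fwd 18400, .bwd 18150],
   .loop (some (3, 0)) [.fwd 25538, .fwd 25539, .bwd 27395],
   .loop (some (2, 0)) [.fwd 25537, .bwd 27397, .fwd 5911],
   .loop (some (3, 1)) [.bwd 5913, .bwd 5912, .fwd 27398],
   .loop (some (4, 1)) [.fwd 25536, .fwd 27399, .fwd 5914],
   .loop (some (18, 4)) [.bwd 27400, .fwd 5915, .fwd 5916, .fwd 24414, .fwd 16497],
   .loop (some (3, 0)) [.fwd 25534, .fwd 25535, .bwd 27400],
   .loop (some (2, 0)) [.fwd 25533, .bwd 27402, .fwd 5915],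
   .loop (some (3, 1)) [.bwd 5917, .bwd 5916, .fwd 27403],
   .loop (some (13, 2)) [.fwd 27404, .bwd 9554, .fwd 27333],
   .loop (some (4, 1)) [.fwd 25532, .fwd 27404, .fwd 5918],
   .loop (some (21, 1)) [.bwd 26580, .bwd 6162, .bwd 6161, .bwd 376, .fwd 6010, .fwd 6011, .fwd 6012, .fwd 18550],
   .loop (some (20, 5)) [.fwd 26377, .fwd 26378, .fwd 14118, .fwd 8666, .fwd 26423, .bwd 26557, .bwd 26824, .bwd 26823],
   .loop (some (15, 0)) [.bwd 26828, .bwd 26827, .bwd 26826, .bwd 26825],
   .loop (some (14, 1)) [.fwd 26679, .fwd 6030, .fwd 6031, .bwd 18571],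
   .loop (some (4, 2)) [.bwd 26510, .bwd 14226, .fwd 26395],
   .loop (some (13, 2)) [.bwd 26590, .bwd 8680, .fwd 26609],
   .loop (some (15, 0)) [.bwd 26647, .bwd 26646, .bwd 26645, .bwd 26644],
   .loop (some (15, 0)) [.bwd 26663, .bwd 26662, .bwd 26661, .bwd 26660],
   .loop (some (3, 2)) [.bwd 26148, .bwd 26147, .fwd 14219, .fwd 26199],
   .loop none [.fwd 27415],
   .loop none [.fwd 26199, .bwd 27416],
   .loop (some (18, 2)) [.bwd 26276, .bwd 14373, .bwd 6573, .bwd 12207, .bwd 27417],
   .loop (some (4, 1)) [.bwd 25637, .bwd 24289, .fwd 6646],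
   .loop (some (9, 3)) [.bwd 9625, .bwd 25217, .fwd 24324],
   .loop (some (18, 2)) [.bwd 25639, .bwd 25638, .bwd 27419, .fwd 6647, .fwd 6648],
   .loop (some (3, 0)) [.fwd 25810, .fwd 25811, .bwd 27419],
   .loop (some (2, 0)) [.fwd 25809, .bwd 27422, .fwd 6647],
   .loop (some (3, 1)) [.bwd 6649, .bwd 6648, .fwd 27423],
   .loop (some (15, 0)) [.fwd 16203, .bwd 24288, .fwd 6646, .fwd 6647],
   .loop (some (2, 1)) [.bwd 25640, .bwd 27421, .fwd 6649],
   .loop (some (4, 1)) [.fwd 25808, .fwd 27424, .fwd 6650],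
   .loop (some (18, 4)) [.bwd 27427, .fwd 6651, .fwd 6652, .fwd 24375, .fwd 16451],
   .loop (some (3, 0)) [.fwd 25806, .fwd 25807, .bwd 27427],
   .loop (some (10, 2)) [.bwd 27429, .bwd 9630, .fwd 11601],
   .loop (some (2, 0)) [.fwd 25805, .bwd 27429, .fwd 6651],
   .loop (some (3, 1)) [.bwd 6653, .bwd 6652, .fwd 27431],
   .loop (some (15, 0)) [.bwd 25641, .bwd 27426, .fwd 6650, .fwd 6651],
   .loop (some (17, 5)) [.fwd 25404, .fwd 6657, .fwd 6658, .fwd 23285, .bwd 25469, .bwd 25468],
   .loop none [.fwd 27434],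
   .loop none [.bwd 22254, .fwd 27435, .bwd 25467],
   .loop none [.fwd 27436],
   .loop none [.fwd 25466, .bwd 27437],
   .loop (some (3, 0)) [.fwd 25798, .bwd 11792, .bwd 11539],
   .loop (some (10, 2)) [.bwd 27439, .bwd 9641, .fwd 11514],
   .loop (some (2, 0)) [.fwd 25797, .bwd 27439, .fwd 6713],
   .loop (some (3, 1)) [.bwd 6715, .bwd 6714, .fwd 27441],
   .loop (some (10, 2)) [.bwd 27441, .bwd 9642, .fwd 24295],
   .loop (some (4, 1)) [.fwd 25796, .fwd 27442, .fwd 6716],
   .loop (some (3, 0)) [.fwd 25794, .fwd 25795, .bwd 27444],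
   .loop (some (13, 2)) [.bwd 27444, .bwd 9650, .fwd 27419],
   .loop (some (10, 2)) [.bwd 27445, .bwd 9650, .fwd 27422],
   .loop (some (2, 0)) [.fwd 25793, .bwd 27445, .fwd 6717],
   .loop (some (3, 1)) [.bwd 6719, .bwd 6718, .fwd 27448],
   .loop (some (10, 2)) [.bwd 27448, .bwd 9651, .fwd 27423],
   .loop (some (4, 1)) [.fwd 25792, .fwd 27449, .fwd 6720],
   .loop (some (18, 4)) [.bwd 27451, .fwd 6721, .fwd 6722, .fwd 14557, .fwd 24379],
   .loop (some (3, 0)) [.fwd 25790, .fwd 25791, .bwd 27451],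
   .loop (some (13, 2)) [.bwd 27451, .bwd 9658, .fwd 27427],
   .loop (some (2, 1)) [.fwd 25789, .bwd 27453, .fwd 6721, .fwd 14554],
   .loop none [.bwd 27455],
   .loop none [.bwd 12533, .fwd 27456, .bwd 25788],
   .loop none [.fwd 27457],
   .loop none [.bwd 25789, .bwd 27456],
   .loop none [.fwd 25787, .bwd 27458],
   .loop (some (2, 0)) [.bwd 25785, .bwd 14543, .bwd 6725],
   .loop (some (17, 5)) [.fwd 23296, .fwd 6727, .fwd 6728, .bwd 12446, .bwd 25491, .bwd 25490],
   .loop none [.fwd 27462],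
   .loop none [.bwd 22195, .fwd 27463, .bwd 25489],
   .loop none [.fwd 27464],
   .loop none [.fwd 25488, .bwd 27465],
   .loop (some (2, 2)) [.bwd 6778, .fwd 11847, .bwd 25784],
   .loop (some (3, 1)) [.bwd 6780, .bwd 6779, .bwd 27467],
   .loop (some (4, 1)) [.fwd 25783, .fwd 27468, .fwd 6781],
   .loop (some (3, 0)) [.fwd 25781, .fwd 25782, .bwd 27469],
   .loop (some (2, 0)) [.fwd 25780, .bwd 27470, .fwd 6782],
   .loop (some (3, 1)) [.bwd 6784, .bwd 6783, .fwd 27471],
   .loop (some (4, 1)) [.fwd 25779, .fwd 27472, .fwd 6785],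
   .loop (some (3, 0)) [.fwd 25777, .fwd 25778, .bwd 27473],
   .loop (some (2, 0)) [.fwd 25776, .bwd 27474, .fwd 6786],
   .loop (some (3, 1)) [.bwd 27333, .bwd 6788, .bwd 6787, .fwd 27475],
   .loop none [.bwd 27476],
   .loop none [.fwd 27333, .bwd 27477],
   .loop none [.bwd 27405, .bwd 27477],
   .loop (some (18, 2)) [.bwd 25777, .bwd 25776, .fwd 27478, .fwd 24425, .bwd 24262],
   .loop (some (4, 1)) [.fwd 25775, .fwd 27478, .fwd 6789],
   .loop (some (18, 4)) [.bwd 27481, .fwd 6790, .fwd 6791, .fwd 15131, .fwd 25300],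
   .loop (some (16, 3)) [.bwd 25844, .bwd 9906, .fwd 9905, .fwd 10376, .fwd 10731],
   .loop (some (6, 1)) [.fwd 25813, .bwd 9906, .bwd 9794],
   .loop (some (10, 2)) [.bwd 11592, .bwd 9643, .fwd 27439],
   .loop (some (10, 2)) [.bwd 11594, .bwd 9644, .fwd 27441],
   .loop (some (13, 2)) [.bwd 11596, .bwd 9652, .fwd 27444],
   .loop (some (10, 2)) [.bwd 11597, .bwd 9652, .fwd 27445],
   .loop (some (15, 0)) [.bwd 24292, .fwd 23388, .fwd 6852, .fwd 6853],
   .loop (some (10, 2)) [.bwd 11601, .bwd 9660, .fwd 27453],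
   .loop (some (17, 6)) [.fwd 11602, .bwd 9935, .bwd 9934, .fwd 23747, .fwd 27345, .fwd 26065],
   .loop none [.fwd 27491],
   .loop none [.fwd 6857, .fwd 27492, .fwd 26066],
   .loop none [.fwd 27493],
   .loop none [.bwd 11600, .fwd 27494, .fwd 26067],
   .loop none [.fwd 27495],
   .loop none [.fwd 9938, .fwd 27496, .fwd 26068],
   .loop none [.fwd 27497],
   .loop none [.bwd 26069, .bwd 27498]]

theorem just109_len : just109.length = 250 := by decide +kernel

theorem just109_ok : cert.okFacts 27250 just109 = true := by decide +kernel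

/-- justifications -/
noncomputable def just110 : List Cert.Just :=
  [.loop (some (10, 2)) [.bwd 11605, .bwd 9668, .fwd 27461],
   .loop (some (17, 5)) [.fwd 14427, .fwd 6863, .fwd 6864, .fwd 11609, .bwd 25450, .bwd 25449],
   .loop none [.fwd 27501],
   .loop none [.bwd 13376, .fwd 27502, .bwd 25448],
   .loop none [.fwd 27503],
   .loop none [.fwd 25447, .bwd 27504],
   .loop (some (6, 1)) [.bwd 25428, .fwd 11429, .fwd 12225],
   .loop (some (3, 0)) [.fwd 25771, .bwd 11836, .fwd 11621],
   .loop (some (2, 0)) [.fwd 25770, .bwd 27507, .fwd 9692],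
   .loop (some (3, 1)) [.bwd 9694, .bwd 9693, .fwd 27508],
   .loop (some (4, 1)) [.fwd 25769, .fwd 27509, .fwd 9695],
   .loop (some (3, 0)) [.fwd 25767, .fwd 25768, .bwd 27510],
   .loop (some (10, 2)) [.bwd 27511, .bwd 11555, .fwd 27397],
   .loop (some (2, 0)) [.fwd 25766, .bwd 27511, .fwd 9696],
   .loop (some (3, 1)) [.bwd 9698, .bwd 9697, .fwd 27513],
   .loop (some (10, 2)) [.bwd 27513, .bwd 11556, .fwd 27398],
   .loop (some (4, 1)) [.fwd 25765, .fwd 27514, .fwd 9699],
   .loop (some (18, 4)) [.bwd 27516, .fwd 9700, .fwd 9701, .fwd 24419, .fwd 16407],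
   .loop (some (3, 0)) [.fwd 25763, .fwd 25764, .bwd 27516],
   .loop (some (13, 2)) [.bwd 27516, .bwd 11563, .fwd 27400],
   .loop (some (2, 0)) [.fwd 25762, .bwd 27518, .fwd 9700],
   .loop (some (3, 1)) [.bwd 9702, .bwd 9701, .fwd 27520],
   .loop (some (10, 2)) [.bwd 27520, .bwd 11564, .fwd 27403],
   .loop (some (2, 0)) [.bwd 25758, .bwd 14990, .bwd 9704],
   .loop (some (10, 2)) [.bwd 27523, .bwd 11571, .fwd 15183],
   .loop (some (12, 1)) [.fwd 25843, .fwd 11630, .bwd 10720],
   .loop (some (1, 2)) [.fwd 14454, .fwd 11640, .bwd 27262],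
   .loop (some (16, 4)) [.bwd 11654, .bwd 23330, .fwd 6645, .bwd 27420, .bwd 21394],
   .loop (some (10, 2)) [.bwd 11440, .bwd 11589, .fwd 27484],
   .loop (some (11, 2)) [.bwd 9803, .bwd 22986, .bwd 27258],
   .loop (some (18, 4)) [.bwd 25702, .bwd 23333, .fwd 9804, .bwd 27262, .fwd 25671, .fwd 25672],
   .loop none [.bwd 27530],
   .loop none [.bwd 27258, .bwd 27531],
   .loop none [.fwd 25702, .bwd 27531],
   .loop none [.bwd 27529, .bwd 27531],
   .loop (some (13, 2)) [.bwd 23333, .bwd 27534, .bwd 25672],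
   .loop (some (9, 1)) [.fwd 14520, .bwd 11693, .bwd 27534],
   .loop (some (1, 0)) [.fwd 25579, .fwd 24486, .bwd 12589],
   .loop (some (17, 5)) [.fwd 9822, .fwd 9823, .fwd 14511, .bwd 23694, .fwd 27255],
   .loop (some (4, 2)) [.bwd 23698, .fwd 9821, .bwd 27538, .bwd 25961],
   .loop none [.fwd 27539],
   .loop none [.bwd 24405, .fwd 27540, .bwd 25960],
   .loop none [.fwd 27541],
   .loop none [.bwd 25961, .bwd 27540],
   .loop none [.fwd 24374, .fwd 27542, .bwd 25959],
   .loop none [.fwd 27544],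
   .loop none [.bwd 6653, .fwd 27545, .bwd 25958],
   .loop none [.fwd 27546],
   .loop none [.fwd 27432, .fwd 27547, .bwd 25957],
   .loop none [.fwd 27548],
   .loop none [.bwd 25805, .fwd 27549, .bwd 25956],
   .loop none [.fwd 27550],
   .loop none [.fwd 25955, .bwd 27551],
   .loop (some (13, 0)) [.bwd 27340, .fwd 14781, .bwd 14510],
   .loop (some (12, 0)) [.fwd 26058, .bwd 27553, .fwd 9824],
   .loop (some (4, 0)) [.bwd 26974, .fwd 23348, .bwd 9825],
   .loop (some (15, 0)) [.bwd 27532, .fwd 27533, .fwd 22354, .fwd 18009],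
   .loop (some (6, 1)) [.bwd 25498, .fwd 27311, .fwd 10272],
   .loop (some (3, 2)) [.bwd 9864, .bwd 9863, .fwd 25608, .fwd 25611],
   .loop none [.fwd 27558],
   .loop none [.bwd 25612, .bwd 27559],
   .loop none [.fwd 25611, .bwd 27559],
   .loop (some (4, 1)) [.fwd 25627, .bwd 27561, .fwd 9865],
   .loop (some (15, 0)) [.fwd 25840, .fwd 25841, .bwd 11741, .bwd 9886],
   .loop (some (6, 0)) [.bwd 27312, .fwd 11723, .bwd 11740],
   .loop (some (5, 2)) [.bwd 25842, .bwd 11729, .bwd 14068],
   .loop (some (7, 1)) [.fwd 25667, .fwd 25701, .bwd 25813],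
   .loop (some (11, 2)) [.fwd 25701, .bwd 11582, .fwd 11155],
   .loop (some (5, 1)) [.bwd 25846, .fwd 10676, .fwd 9911],
   .loop (some (14, 3)) [.fwd 25471, .fwd 25472, .fwd 11432, .bwd 1752, .fwd 25556],
   .loop none [.fwd 27569],
   .loop none [.bwd 25557, .bwd 27570],
   .loop (some (4, 1)) [.fwd 13378, .bwd 9929, .bwd 25450],
   .loop (some (13, 2)) [.bwd 9933, .bwd 27500, .fwd 25786],
   .loop (some (11, 1)) [.fwd 19478, .bwd 23747, .bwd 27573],
   .loop (some (13, 2)) [.bwd 9937, .bwd 27490, .fwd 25790],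
   .loop (some (12, 1)) [.fwd 19485, .fwd 24383, .bwd 27575],
   .loop (some (15, 0)) [.fwd 25343, .fwd 20403, .bwd 23358, .bwd 9940],
   .loop (some (4, 0)) [.fwd 25723, .fwd 14635, .bwd 9945],
   .loop (some (15, 0)) [.fwd 23738, .bwd 19899, .fwd 15705, .bwd 13583],
   .loop (some (15, 0)) [.bwd 23749, .bwd 19855, .bwd 19854, .bwd 15326],
   .loop (some (15, 0)) [.fwd 23372, .bwd 21870, .bwd 23227, .bwd 15850],
   .loop (some (15, 0)) [.fwd 23378, .bwd 16782, .fwd 16182, .bwd 10045],
   .loop (some (15, 0)) [.fwd 23733, .fwd 19602, .bwd 18392, .bwd 18366],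
   .loop (some (15, 0)) [.fwd 23391, .bwd 19624, .fwd 19541, .bwd 18368],
   .loop (some (15, 0)) [.fwd 23379, .bwd 19626, .fwd 19496, .bwd 18369],
   .loop (some (1, 1)) [.bwd 27257, .bwd 18338, .bwd 14592],
   .loop (some (15, 0)) [.bwd 24315, .bwd 23605, .fwd 16267, .bwd 15760],
   .loop (some (18, 2)) [.bwd 25580, .fwd 21590, .bwd 11854, .fwd 10136, .fwd 10137],
   .loop (some (2, 1)) [.bwd 25581, .bwd 27588, .fwd 10138],
   .loop (some (15, 0)) [.bwd 25582, .bwd 27589, .fwd 10139, .fwd 10140],
   .loop (some (15, 0)) [.fwd 25670, .fwd 25671, .bwd 27183, .bwd 22919],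
   .loop (some (2, 3)) [.fwd 10177, .bwd 12348, .bwd 25751],
   .loop (some (15, 0)) [.fwd 24099, .bwd 24766, .fwd 12834, .bwd 12290],
   .loop (some (15, 0)) [.fwd 13311, .fwd 13312, .fwd 25307, .fwd 22144],
   .loop (some (17, 1)) [.bwd 14712, .bwd 11730, .fwd 11615, .bwd 11617, .fwd 27557],
   .loop (some (1, 0)) [.bwd 26052, .bwd 12012, .fwd 10925],
   .loop (some (15, 0)) [.fwd 27574, .bwd 16308, .bwd 18422, .bwd 10294],
   .loop (some (4, 1)) [.fwd 25690, .bwd 16305, .fwd 10297],
   .loop (some (3, 2)) [.fwd 25689, .bwd 27598, .bwd 26861, .bwd 26860],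
   .loop none [.fwd 27599],
   .loop none [.fwd 25688, .fwd 27600, .fwd 26860],
   .loop none [.fwd 27601],
   .loop none [.bwd 26861, .bwd 27602],
   .loop (some (2, 0)) [.fwd 25687, .fwd 27603, .fwd 10298],
   .loop (some (3, 1)) [.bwd 10300, .bwd 10299, .fwd 27604],
   .loop (some (4, 1)) [.fwd 25686, .fwd 27605, .fwd 10301],
   .loop (some (3, 0)) [.fwd 25684, .fwd 25685, .bwd 27606],
   .loop (some (2, 0)) [.fwd 25683, .bwd 27607, .fwd 10302],
   .loop (some (3, 1)) [.bwd 10304, .bwd 10303, .fwd 27608],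
   .loop (some (4, 1)) [.fwd 25682, .fwd 27609, .fwd 10305],
   .loop (some (3, 0)) [.fwd 25680, .fwd 25681, .bwd 27610],
   .loop (some (15, 0)) [.fwd 5867, .fwd 5868, .bwd 27392, .bwd 10306],
   .loop (some (2, 0)) [.fwd 25679, .bwd 27611, .fwd 10306],
   .loop (some (3, 1)) [.bwd 10308, .bwd 10307, .fwd 27613],
   .loop (some (11, 1)) [.fwd 27389, .bwd 27392, .bwd 23426],
   .loop (some (4, 1)) [.fwd 25678, .fwd 27614, .fwd 10309],
   .loop (some (15, 0)) [.fwd 25515, .fwd 25516, .bwd 11398, .bwd 10314],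
   .loop (some (2, 2)) [.bwd 12391, .fwd 10341, .fwd 25551],
   .loop (some (4, 1)) [.fwd 25491, .fwd 13962, .fwd 10380],
   .loop (some (2, 2)) [.bwd 10381, .bwd 22196, .fwd 27466],
   .loop (some (12, 2)) [.bwd 10381, .bwd 23443, .fwd 26923],
   .loop (some (3, 1)) [.bwd 10383, .bwd 10382, .bwd 27620],
   .loop (some (13, 2)) [.bwd 10382, .bwd 27621, .fwd 26924],
   .loop (some (10, 2)) [.bwd 10383, .bwd 27623, .fwd 26925],
   .loop (some (4, 1)) [.fwd 25487, .fwd 27622, .fwd 10384],
   .loop (some (11, 2)) [.bwd 10384, .bwd 27624, .fwd 26926],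
   .loop (some (3, 0)) [.fwd 25485, .fwd 25486, .bwd 27625],
   .loop (some (2, 0)) [.fwd 25484, .bwd 27627, .fwd 10385],
   .loop (some (3, 1)) [.bwd 10387, .bwd 10386, .fwd 27628],
   .loop (some (4, 1)) [.fwd 25483, .fwd 27629, .fwd 10388],
   .loop (some (3, 0)) [.fwd 25481, .fwd 25482, .bwd 27630],
   .loop (some (2, 0)) [.fwd 25480, .bwd 27631, .fwd 10389],
   .loop (some (3, 1)) [.bwd 10391, .bwd 10390, .fwd 27632],
   .loop (some (4, 1)) [.fwd 25479, .fwd 27633, .fwd 10392],
   .loop (some (3, 0)) [.fwd 25477, .fwd 25478, .bwd 27634],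
   .loop (some (2, 0)) [.fwd 25476, .bwd 27635, .fwd 10393],
   .loop (some (10, 2)) [.bwd 27636, .fwd 23445, .bwd 22473],
   .loop (some (15, 0)) [.fwd 24181, .fwd 21924, .bwd 23449, .bwd 10425],
   .loop (some (11, 2)) [.bwd 14529, .bwd 11731, .bwd 25701],
   .loop (some (15, 0)) [.fwd 24161, .fwd 21906, .bwd 23456, .bwd 10451],
   .loop (some (9, 2)) [.fwd 25496, .bwd 11101, .bwd 12588],
   .loop (some (7, 0)) [.fwd 10199, .bwd 23998, .bwd 18908],
   .loop (some (6, 2)) [.bwd 10486, .fwd 27642, .bwd 10198],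
   .loop (some (15, 0)) [.fwd 24238, .fwd 21952, .bwd 23511, .bwd 10488],
   .loop (some (15, 0)) [.fwd 24218, .fwd 21982, .bwd 23513, .bwd 10521],
   .loop (some (14, 2)) [.fwd 25494, .bwd 11114, .bwd 11431, .bwd 25472],
   .loop (some (15, 0)) [.fwd 24199, .fwd 21878, .fwd 23525, .bwd 10557],
   .loop (some (15, 0)) [.fwd 25690, .bwd 18424, .bwd 18257, .bwd 10561],
   .loop (some (11, 2)) [.fwd 14418, .bwd 27528, .fwd 27566],
   .loop (some (10, 1)) [.fwd 27297, .bwd 14712, .bwd 14860],
   .loop (some (3, 3)) [.bwd 12500, .bwd 12499, .fwd 25726, .fwd 25727],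
   .loop none [.fwd 27651],
   .loop none [.bwd 25728, .bwd 27652],
   .loop (some (4, 2)) [.bwd 27653, .bwd 12500, .fwd 10612, .fwd 26052],
   .loop none [.fwd 27654],
   .loop none [.fwd 27596, .bwd 27655],
   .loop none [.bwd 25729, .fwd 27655, .fwd 27201],
   .loop none [.bwd 27657],
   .loop none [.fwd 26052, .bwd 27655],
   .loop none [.fwd 25455, .fwd 27658, .fwd 25730],
   .loop none [.fwd 27660],
   .loop none [.fwd 15651, .fwd 27661, .fwd 25731],
   .loop none [.fwd 27662],
   .loop none [.fwd 26934, .fwd 27663, .fwd 25732],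
   .loop none [.bwd 27664],
   .loop none [.fwd 26933, .bwd 27665],
   .loop none [.bwd 26934, .bwd 27665],
   .loop (some (15, 0)) [.bwd 19993, .fwd 24472, .bwd 18133, .bwd 10654],
   .loop (some (5, 1)) [.bwd 25724, .fwd 12390, .fwd 12328],
   .loop (some (6, 1)) [.bwd 25517, .fwd 12395, .fwd 12328],
   .loop (some (10, 1)) [.fwd 25559, .fwd 12395, .bwd 12403],
   .loop (some (4, 1)) [.fwd 25548, .bwd 14534, .fwd 10690],
   .loop (some (21, 1)) [.bwd 25616, .bwd 27350, .fwd 25431, .fwd 25492, .fwd 25493, .bwd 25517, .fwd 14743, .bwd 14740, .fwd 10712],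
   .loop none [.bwd 27673],
   .loop none [.bwd 25617, .bwd 27674],
   .loop (some (14, 0)) [.bwd 25428, .fwd 11431, .fwd 25451, .bwd 27292],
   .loop (some (10, 1)) [.fwd 27571, .bwd 12434, .bwd 14434],
   .loop (some (7, 2)) [.bwd 18467, .bwd 27373, .bwd 9754],
   .loop (some (4, 2)) [.bwd 12108, .fwd 22261, .fwd 25855],
   .loop (some (17, 2)) [.bwd 25857, .bwd 25856, .fwd 27679, .fwd 12109, .fwd 12110],
   .loop (some (2, 2)) [.bwd 12111, .fwd 27680, .fwd 25858],
   .loop (some (3, 3)) [.bwd 12112, .bwd 27681, .fwd 25859, .fwd 25860],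
   .loop none [.fwd 27682],
   .loop none [.bwd 25861, .bwd 27683],
   .loop (some (2, 2)) [.bwd 12133, .bwd 22470, .fwd 26907],
   .loop (some (3, 1)) [.bwd 12135, .bwd 12134, .bwd 27685],
   .loop (some (4, 1)) [.bwd 26908, .fwd 27686, .fwd 12136],
   .loop (some (17, 5)) [.fwd 12143, .fwd 12144, .bwd 25349, .bwd 13311, .bwd 13310],
   .loop (some (4, 2)) [.fwd 12142, .bwd 27688, .bwd 13309],
   .loop (some (1, 2)) [.bwd 13589, .fwd 18490, .fwd 26814],
   .loop (some (1, 2)) [.bwd 14336, .fwd 18512, .fwd 26742],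
   .loop (some (2, 2)) [.fwd 26378, .fwd 17875, .fwd 26350],
   .loop (some (1, 2)) [.bwd 26395, .bwd 27105, .bwd 26572],
   .loop (some (3, 3)) [.bwd 26395, .fwd 14117, .fwd 26422, .fwd 26513],
   .loop none [.fwd 27694],
   .loop none [.bwd 26396, .fwd 27695, .bwd 26513],
   .loop none [.fwd 27696],
   .loop none [.bwd 27411, .fwd 27695, .fwd 26514],
   .loop none [.fwd 27698],
   .loop none [.bwd 26676, .bwd 27697],
   .loop none [.fwd 26422, .bwd 27697],
   .loop none [.bwd 26511, .fwd 27699, .fwd 26515],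
   .loop none [.fwd 27702],
   .loop none [.bwd 26512, .fwd 27703, .fwd 26516],
   .loop none [.fwd 27704],
   .loop none [.bwd 27692, .fwd 27705, .fwd 26517],
   .loop none [.fwd 27706],
   .loop none [.fwd 26377, .fwd 27707, .fwd 26518],
   .loop none [.fwd 27708],
   .loop none [.fwd 27408, .fwd 27709, .fwd 26519],
   .loop none [.bwd 27710],
   .loop none [.bwd 27408, .bwd 27711],
   .loop none [.fwd 26822, .bwd 27711],
   .loop (some (4, 3)) [.fwd 27701, .bwd 14099, .bwd 27417, .fwd 26149],
   .loop none [.bwd 27714],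
   .loop none [.fwd 26149, .fwd 27715, .fwd 26397],
   .loop none [.fwd 27716],
   .loop none [.bwd 26150, .fwd 27715, .fwd 27700],
   .loop none [.fwd 27718],
   .loop none [.bwd 27418, .fwd 27717, .fwd 26398],
   .loop none [.fwd 27720],
   .loop none [.bwd 26151, .fwd 27719, .fwd 26677],
   .loop none [.fwd 27722],
   .loop none [.fwd 26276, .fwd 27721, .fwd 26399],
   .loop none [.fwd 27724],
   .loop none [.bwd 26678, .bwd 27723],
   .loop none [.bwd 14089, .fwd 27725, .fwd 26400],
   .loop none [.fwd 27727],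
   .loop none [.bwd 9088, .fwd 27728, .fwd 26401],
   .loop none [.fwd 27729],
   .loop none [.bwd 14350, .fwd 27730, .fwd 26402],
   .loop none [.fwd 27731],
   .loop none [.bwd 26403, .bwd 27732],
   .loop (some (3, 3)) [.bwd 26430, .bwd 14358, .fwd 27733, .fwd 26404],
   .loop none [.bwd 27734],
   .loop none [.fwd 26430, .bwd 27735],
   .loop none [.bwd 26508, .bwd 27735],
   .loop (some (4, 2)) [.bwd 26405, .fwd 27736, .fwd 14364, .fwd 26233],
   .loop none [.bwd 27738],
   .loop none [.fwd 26405, .bwd 27739],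
   .loop none [.bwd 26406, .bwd 27739],
   .loop (some (15, 0)) [.bwd 26336, .bwd 26458, .bwd 26457, .fwd 22521],
   .loop (some (8, 2)) [.bwd 26462, .bwd 12193, .bwd 22521],
   .loop (some (11, 1)) [.fwd 26346, .bwd 14823, .bwd 26469],
   .loop (some (15, 0)) [.bwd 26344, .bwd 26464, .bwd 26463, .bwd 26462],
   .loop (some (8, 2)) [.bwd 26474, .bwd 12194, .fwd 26462],
   .loop (some (14, 1)) [.fwd 18548, .fwd 12193, .fwd 12194, .bwd 27737],
   .loop (some (15, 0)) [.bwd 26331, .bwd 26476, .bwd 26475, .bwd 26474],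
   .loop (some (18, 5)) [.bwd 26233, .bwd 14371, .fwd 12212, .fwd 14387, .fwd 26241, .bwd 26414]]

theorem just110_len : just110.length = 250 := by decide +kernel

theorem just110_ok : cert.okFacts 27500 just110 = true := by decide +kernel

/-- justifications -/
noncomputable def just111 : List Cert.Just :=
  [.loop none [.fwd 27749],
   .loop none [.bwd 27740, .fwd 27750, .bwd 26413],
   .loop none [.fwd 27751],
   .loop none [.bwd 27741, .fwd 27750, .fwd 26414],
   .loop none [.bwd 27753],
   .loop none [.fwd 26404, .fwd 27752, .bwd 26412],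
   .loop none [.fwd 27755],
   .loop none [.fwd 26241, .fwd 27754, .fwd 26407],
   .loop none [.fwd 27757],
   .loop none [.fwd 27733, .fwd 27756, .bwd 26411],
   .loop none [.fwd 27759],
   .loop none [.bwd 14098, .fwd 27758, .fwd 26408],
   .loop none [.fwd 27761],
   .loop none [.fwd 14350, .fwd 27760, .bwd 26410],
   .loop none [.fwd 27763],
   .loop none [.fwd 9595, .fwd 27762, .fwd 26409, .bwd 27764],
   .loop none [.fwd 27765],
   .loop none [.fwd 22726, .fwd 27766, .bwd 22724],
   .loop none [.fwd 27767],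
   .loop none [.bwd 9588, .fwd 27766, .bwd 8695],
   .loop none [.fwd 27769],
   .loop none [.bwd 9595, .fwd 27766, .bwd 9088],
   .loop none [.fwd 27771],
   .loop none [.bwd 14365, .fwd 27766, .fwd 14350],
   .loop none [.bwd 27773],
   .loop none [.bwd 6184, .fwd 27766, .fwd 6186],
   .loop none [.bwd 27775],
   .loop none [.fwd 6183, .fwd 27766, .bwd 6185, .bwd 27776],
   .loop none [.bwd 27777],
   .loop none [.bwd 9594, .fwd 27766, .fwd 9589],
   .loop none [.fwd 27779],
   .loop none [.fwd 27780, .fwd 27766],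
   .loop none [.fwd 17867, .bwd 27781, .bwd 17868],
   .loop none [.fwd 27782],
   .loop none [.bwd 14362, .bwd 27781, .fwd 14370],
   .loop none [.fwd 27784],
   .loop none [.bwd 22727, .fwd 27768, .bwd 22512],
   .loop none [.fwd 27786],
   .loop none [.bwd 22720, .fwd 27768, .bwd 22717],
   .loop none [.fwd 27788],
   .loop none [.bwd 26239, .fwd 27768, .fwd 26274],
   .loop none [.fwd 27790],
   .loop none [.bwd 20488, .fwd 27768, .fwd 20490],
   .loop none [.bwd 27792],
   .loop none [.fwd 20487, .fwd 27768, .bwd 20489, .bwd 27793],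
   .loop none [.bwd 27794],
   .loop none [.bwd 8678, .fwd 27770, .bwd 8665],
   .loop none [.fwd 27796],
   .loop none [.fwd 14353, .fwd 27770, .fwd 14116],
   .loop none [.fwd 27798],
   .loop none [.bwd 14352, .fwd 27770, .fwd 14354],
   .loop none [.bwd 27800],
   .loop none [.bwd 26590, .fwd 27770, .fwd 26609],
   .loop none [.fwd 27802],
   .loop none [.bwd 6164, .fwd 27770, .fwd 6166],
   .loop none [.bwd 27804],
   .loop none [.fwd 6163, .fwd 27770, .bwd 6165, .bwd 27805],
   .loop none [.bwd 27806],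
   .loop none [.bwd 8696, .fwd 27770, .fwd 8680],
   .loop none [.fwd 27808],
   .loop none [.fwd 27809, .fwd 27770],
   .loop none [.fwd 9612, .bwd 27810, .bwd 14381],
   .loop none [.fwd 27811],
   .loop none [.bwd 14119, .bwd 27810, .fwd 18218],
   .loop none [.fwd 27813],
   .loop none [.fwd 14098, .fwd 27772, .bwd 14089, .bwd 27785],
   .loop none [.bwd 27815],
   .loop none [.bwd 9604, .fwd 27772, .fwd 9607],
   .loop none [.bwd 27817],
   .loop none [.bwd 6374, .fwd 27772, .fwd 6376],
   .loop none [.bwd 27819],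
   .loop none [.fwd 6373, .fwd 27772, .bwd 6375, .bwd 27820],
   .loop none [.bwd 27821],
   .loop none [.fwd 9089, .fwd 27772, .fwd 9598],
   .loop none [.fwd 27823],
   .loop none [.fwd 27824, .fwd 27772],
   .loop none [.fwd 17876, .bwd 27825, .bwd 14825],
   .loop none [.fwd 27826],
   .loop none [.bwd 17974, .bwd 27825, .fwd 14374],
   .loop none [.fwd 27828],
   .loop none [.fwd 12185, .fwd 27780, .fwd 14365, .bwd 27774],
   .loop none [.fwd 27830],
   .loop none [.fwd 27831, .fwd 27774],
   .loop none [.bwd 26395, .bwd 27832, .bwd 12184],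
   .loop none [.bwd 27833],
   .loop none [.fwd 27831, .bwd 12176, .bwd 27832, .fwd 12179, .bwd 27799],
   .loop none [.fwd 27835],
   .loop none [.fwd 12175, .bwd 27832, .bwd 12178, .bwd 27836],
   .loop none [.fwd 27837],
   .loop none [.fwd 27838, .bwd 27832],
   .loop none [.fwd 27838, .fwd 27831],
   .loop none [.fwd 7284, .bwd 27839, .bwd 14826],
   .loop none [.fwd 27841],
   .loop none [.bwd 7278, .bwd 27839, .fwd 23633],
   .loop none [.fwd 27843],
   .loop none [.fwd 27838, .fwd 27836],
   .loop none [.bwd 10796, .fwd 27776, .bwd 6192],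
   .loop none [.bwd 27846],
   .loop none [.bwd 6177, .fwd 27780, .fwd 6184, .bwd 27776],
   .loop none [.fwd 27848],
   .loop none [.fwd 27849, .fwd 27776],
   .loop none [.bwd 6179, .bwd 27850, .bwd 9596],
   .loop none [.fwd 27851],
   .loop none [.fwd 27849, .fwd 27778],
   .loop none [.bwd 6201, .bwd 27850, .bwd 26269],
   .loop none [.fwd 27854],
   .loop none [.bwd 6370, .bwd 27850, .fwd 14369],
   .loop none [.fwd 27856],
   .loop none [.fwd 6501, .bwd 27853, .bwd 23274, .bwd 27795],
   .loop none [.fwd 27858],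
   .loop none [.fwd 377, .bwd 27853, .fwd 9587, .bwd 27807],
   .loop none [.fwd 27860],
   .loop none [.bwd 378, .bwd 27853, .bwd 9597, .bwd 27822],
   .loop none [.fwd 27862],
   .loop none [.bwd 27845, .fwd 27799],
   .loop none [.fwd 27849, .fwd 27780],
   .loop none [.bwd 6201, .bwd 27853, .bwd 26237],
   .loop none [.fwd 27866],
   .loop none [.fwd 27861, .fwd 27809],
   .loop none [.bwd 6201, .bwd 27865, .bwd 26266],
   .loop none [.fwd 27869],
   .loop none [.bwd 6370, .bwd 27865, .fwd 14367, .bwd 27816],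
   .loop none [.fwd 27871],
   .loop none [.fwd 27872, .fwd 27785],
   .loop none [.fwd 2306, .fwd 27783, .bwd 8588],
   .loop none [.fwd 27874],
   .loop none [.fwd 13829, .fwd 27783, .bwd 14090],
   .loop none [.bwd 27876],
   .loop none [.bwd 2964, .fwd 27783, .fwd 26125],
   .loop none [.fwd 27878],
   .loop none [.bwd 2307, .fwd 27783, .fwd 2320],
   .loop none [.fwd 27880],
   .loop none [.fwd 536, .bwd 27873, .fwd 14096, .bwd 27827],
   .loop none [.fwd 27882],
   .loop none [.bwd 6338, .bwd 27873, .fwd 26276],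
   .loop none [.fwd 27884],
   .loop none [.bwd 12197, .bwd 27873, .fwd 12202, .bwd 27872],
   .loop none [.bwd 27886],
   .loop none [.bwd 22506, .fwd 27787, .bwd 22452],
   .loop none [.fwd 27888],
   .loop none [.bwd 22514, .fwd 27787, .bwd 22498],
   .loop none [.fwd 27890],
   .loop none [.fwd 27109, .fwd 27787, .bwd 27116],
   .loop none [.bwd 27892],
   .loop none [.bwd 20477, .fwd 27787, .fwd 20479],
   .loop none [.bwd 27894],
   .loop none [.bwd 22513, .fwd 27787, .fwd 22507],
   .loop none [.fwd 27896],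
   .loop none [.fwd 27897, .fwd 27787],
   .loop none [.fwd 22745, .bwd 27898, .bwd 27214],
   .loop none [.fwd 27899],
   .loop none [.fwd 9076, .fwd 27789, .bwd 8625],
   .loop none [.fwd 27901],
   .loop none [.bwd 14222, .fwd 27789, .bwd 9083],
   .loop none [.bwd 27903],
   .loop none [.bwd 3629, .fwd 27789, .fwd 3631],
   .loop none [.bwd 27905],
   .loop none [.bwd 9081, .fwd 27789, .fwd 9085],
   .loop none [.fwd 27907],
   .loop none [.fwd 27883, .fwd 27827],
   .loop none [.bwd 6304, .bwd 27840, .bwd 27117, .bwd 27791],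
   .loop none [.fwd 27910],
   .loop none [.fwd 27911, .fwd 27791],
   .loop none [.bwd 4120, .bwd 27912, .fwd 27118],
   .loop none [.fwd 27913],
   .loop none [.bwd 2332, .bwd 27912, .fwd 26275],
   .loop none [.fwd 27915],
   .loop none [.fwd 26393, .bwd 27912, .bwd 26587],
   .loop none [.fwd 27917],
   .loop none [.fwd 2441, .bwd 27912, .fwd 26578],
   .loop none [.fwd 27919],
   .loop none [.fwd 2489, .bwd 27912, .fwd 26579, .bwd 27920],
   .loop none [.fwd 27921],
   .loop none [.fwd 27859, .fwd 27793],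
   .loop none [.fwd 1086, .bwd 27923, .fwd 25039, .bwd 27895],
   .loop none [.fwd 27924],
   .loop none [.bwd 6504, .bwd 27923, .fwd 22722, .bwd 27906],
   .loop none [.fwd 27926],
   .loop none [.fwd 27922, .fwd 27920, .fwd 27918],
   .loop none [.bwd 6506, .bwd 27923, .bwd 20494],
   .loop none [.fwd 27929],
   .loop none [.fwd 27925, .fwd 27897],
   .loop none [.fwd 27927, .fwd 27908],
   .loop none [.fwd 8652, .fwd 27797, .bwd 8647],
   .loop none [.bwd 27933],
   .loop none [.bwd 26120, .fwd 27797, .fwd 26111],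
   .loop none [.bwd 27935],
   .loop none [.bwd 2430, .fwd 27797, .fwd 2432],
   .loop none [.bwd 27937],
   .loop none [.fwd 27916, .fwd 2429, .fwd 27797, .bwd 2431, .bwd 27938],
   .loop none [.fwd 27939],
   .loop none [.fwd 27940, .fwd 8669, .fwd 27797, .fwd 8658],
   .loop none [.fwd 27941],
   .loop none [.fwd 27942, .fwd 27797],
   .loop none [.fwd 6220, .bwd 27943, .fwd 22450, .bwd 27812],
   .loop none [.fwd 27944],
   .loop none [.fwd 27838, .bwd 12175, .bwd 27864, .fwd 12180],
   .loop none [.fwd 27946],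
   .loop none [.fwd 7284, .bwd 27864, .bwd 14827],
   .loop none [.fwd 27948],
   .loop none [.bwd 7278, .bwd 27864, .fwd 23634],
   .loop none [.fwd 27950],
   .loop none [.fwd 6320, .bwd 27868, .fwd 14352, .bwd 27801],
   .loop none [.fwd 27952],
   .loop none [.fwd 27953, .fwd 27801],
   .loop none [.bwd 6321, .bwd 27954, .bwd 12195],
   .loop none [.fwd 27955],
   .loop none [.fwd 27927, .fwd 27906],
   .loop none [.fwd 27863, .fwd 27820],
   .loop none [.bwd 26679, .fwd 27803, .fwd 27412],
   .loop none [.fwd 27959],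
   .loop none [.fwd 27861, .fwd 27805],
   .loop none [.fwd 27940, .fwd 27938],
   .loop none [.fwd 376, .bwd 27961, .bwd 6173],
   .loop none [.fwd 27963],
   .loop none [.bwd 6052, .bwd 27961, .bwd 9586],
   .loop none [.fwd 27965],
   .loop none [.fwd 27861, .fwd 27807],
   .loop none [.fwd 6470, .bwd 27961, .bwd 14379, .bwd 27818],
   .loop none [.fwd 27968],
   .loop none [.bwd 6178, .bwd 27961, .fwd 18217, .bwd 27904],
   .loop none [.fwd 27970],
   .loop none [.fwd 376, .bwd 27967, .fwd 26580],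
   .loop none [.fwd 27972],
   .loop none [.fwd 376, .bwd 27868, .fwd 26590, .bwd 27960],
   .loop none [.fwd 27974],
   .loop none [.bwd 6178, .bwd 27868, .fwd 18216],
   .loop none [.fwd 27976],
   .loop none [.fwd 27945, .fwd 27812],
   .loop none [.fwd 6457, .bwd 27978, .bwd 14229, .bwd 27814],
   .loop none [.fwd 27979],
   .loop none [.fwd 27969, .fwd 27818],
   .loop none [.bwd 380, .bwd 27978, .fwd 6563, .fwd 27981],
   .loop none [.bwd 27982],
   .loop none [.bwd 6438, .bwd 27978, .fwd 6443, .bwd 27945],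
   .loop none [.bwd 27984],
   .loop none [.fwd 27980, .fwd 27814],
   .loop none [.bwd 604, .bwd 27986, .fwd 14230],
   .loop none [.fwd 27987],
   .loop none [.fwd 27971, .fwd 27904],
   .loop none [.bwd 5276, .bwd 27986, .fwd 12617, .fwd 27989],
   .loop none [.fwd 27990],
   .loop none [.fwd 27991, .fwd 27980],
   .loop none [.fwd 27991, .bwd 27989],
   .loop none [.fwd 27991, .fwd 27977],
   .loop none [.bwd 6207, .bwd 27958, .bwd 6380],
   .loop none [.fwd 27995],
   .loop none [.bwd 6210, .bwd 27958, .bwd 9603],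
   .loop none [.fwd 27997],
   .loop none [.bwd 6437, .bwd 27958, .fwd 23278, .bwd 27934]]

theorem just111_len : just111.length = 250 := by decide +kernel

theorem just111_ok : cert.okFacts 27750 just111 = true := by decide +kernel

/-- justifications -/
noncomputable def just112 : List Cert.Just :=
  [.loop none [.fwd 27999],
   .loop none [.bwd 6317, .bwd 27909, .bwd 14092, .bwd 27829],
   .loop none [.fwd 28001],
   .loop none [.fwd 28002, .fwd 27829],
   .loop none [.fwd 2388, .bwd 28003, .fwd 8640],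
   .loop none [.fwd 28004],
   .loop none [.bwd 2351, .bwd 28003, .fwd 26278],
   .loop none [.fwd 28006],
   .loop none [.bwd 2355, .bwd 28003, .fwd 2360, .bwd 28002],
   .loop none [.bwd 28008],
   .loop none [.fwd 28000, .fwd 27934],
   .loop none [.bwd 7278, .bwd 27840, .fwd 14820],
   .loop none [.fwd 28011],
   .loop none [.fwd 27123, .fwd 27834, .bwd 27693],
   .loop none [.bwd 28013],
   .loop none [.fwd 27964, .bwd 14357, .fwd 27834, .fwd 27411],
   .loop none [.fwd 28015],
   .loop none [.fwd 534, .fwd 27838, .fwd 26395, .bwd 27834],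
   .loop none [.fwd 28017],
   .loop none [.fwd 28012, .fwd 27877],
   .loop none [.fwd 6411, .fwd 27842, .bwd 12212, .bwd 27949],
   .loop none [.fwd 28020],
   .loop none [.fwd 5295, .fwd 27844, .bwd 22442],
   .loop none [.fwd 28022],
   .loop none [.bwd 2342, .fwd 27844, .bwd 20605, .bwd 27951],
   .loop none [.fwd 28024],
   .loop none [.fwd 28025, .fwd 27951],
   .loop none [.fwd 28025, .bwd 28019],
   .loop none [.fwd 27930, .fwd 23276, .fwd 27847, .fwd 14227],
   .loop none [.fwd 28028],
   .loop none [.fwd 27996, .fwd 9600, .fwd 27847, .fwd 11275],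
   .loop none [.fwd 28030],
   .loop none [.bwd 6046, .fwd 27849, .fwd 10796, .bwd 27847],
   .loop none [.fwd 28032],
   .loop none [.fwd 28033, .fwd 27847],
   .loop none [.fwd 6039, .bwd 28034, .fwd 10797],
   .loop none [.fwd 28035],
   .loop none [.fwd 6181, .bwd 27852],
   .loop none [.bwd 6201, .fwd 27852, .bwd 11176],
   .loop none [.fwd 28038],
   .loop none [.fwd 101, .fwd 27855, .fwd 8610],
   .loop none [.fwd 28040],
   .loop none [.bwd 2240, .fwd 27855, .bwd 2326],
   .loop none [.fwd 28042],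
   .loop none [.bwd 6338, .fwd 27857, .bwd 12206],
   .loop none [.fwd 28044],
   .loop none [.fwd 101, .fwd 27867, .fwd 8604],
   .loop none [.fwd 28046],
   .loop none [.bwd 2240, .fwd 27867, .fwd 26109],
   .loop none [.fwd 28048],
   .loop none [.fwd 101, .fwd 27870, .fwd 8607],
   .loop none [.fwd 28050],
   .loop none [.bwd 2240, .fwd 27870, .fwd 26115],
   .loop none [.fwd 28052],
   .loop none [.bwd 2302, .fwd 27875, .fwd 8587, .bwd 27902],
   .loop none [.fwd 28054],
   .loop none [.bwd 2289, .fwd 27875, .fwd 22423],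
   .loop none [.fwd 28056],
   .loop none [.bwd 2222, .fwd 27875, .fwd 26023],
   .loop none [.fwd 28058],
   .loop none [.fwd 2221, .fwd 27875, .fwd 2281],
   .loop none [.fwd 28060],
   .loop none [.fwd 28061, .fwd 27875],
   .loop none [.fwd 8136, .bwd 28062, .bwd 25063, .bwd 28057],
   .loop none [.fwd 28063],
   .loop none [.bwd 4023, .bwd 28062, .fwd 17866],
   .loop none [.fwd 28065],
   .loop none [.bwd 2188, .bwd 28027, .fwd 13829, .bwd 27881],
   .loop none [.bwd 28067],
   .loop none [.fwd 8627, .fwd 27879, .bwd 26226, .bwd 28007],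
   .loop none [.bwd 28069],
   .loop none [.fwd 26230, .fwd 27879, .bwd 26198],
   .loop none [.bwd 28071],
   .loop none [.bwd 2965, .fwd 27879, .fwd 26270],
   .loop none [.fwd 28073],
   .loop none [.fwd 27879, .bwd 26277, .fwd 27879, .fwd 26242, .bwd 28053],
   .loop none [.bwd 28075],
   .loop none [.bwd 6321, .fwd 27883, .fwd 16897],
   .loop none [.fwd 28077],
   .loop none [.fwd 5281, .fwd 27885, .bwd 27418],
   .loop none [.fwd 28079],
   .loop none [.bwd 6338, .fwd 27887, .bwd 27417, .bwd 28080],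
   .loop none [.fwd 28081],
   .loop none [.bwd 8804, .fwd 27889, .fwd 8697],
   .loop none [.fwd 28083],
   .loop none [.bwd 8812, .fwd 27889, .fwd 8686],
   .loop none [.bwd 28085],
   .loop none [.bwd 26592, .fwd 27889, .fwd 26610],
   .loop none [.bwd 28087],
   .loop none [.bwd 2764, .fwd 27889, .fwd 2766],
   .loop none [.bwd 28089],
   .loop none [.fwd 25038, .fwd 27891, .bwd 25042],
   .loop none [.bwd 28091],
   .loop none [.bwd 20724, .fwd 27891, .fwd 20726],
   .loop none [.bwd 28093],
   .loop none [.bwd 22500, .fwd 27891, .fwd 22496],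
   .loop none [.fwd 28095],
   .loop none [.fwd 28096, .fwd 27891],
   .loop none [.bwd 22502, .bwd 28097, .fwd 25065],
   .loop none [.fwd 28098],
   .loop none [.fwd 27914, .fwd 27893],
   .loop none [.fwd 2387, .bwd 28100, .fwd 26439, .bwd 28086],
   .loop none [.fwd 28101],
   .loop none [.fwd 4121, .bwd 28100, .fwd 27108],
   .loop none [.fwd 28103],
   .loop none [.fwd 4126, .bwd 28100, .fwd 27110],
   .loop none [.fwd 28105],
   .loop none [.fwd 4130, .bwd 28100, .fwd 27111],
   .loop none [.fwd 28107],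
   .loop none [.fwd 27925, .fwd 27895],
   .loop none [.bwd 6510, .bwd 28109, .fwd 22508, .bwd 28090],
   .loop none [.fwd 28110],
   .loop none [.bwd 6511, .bwd 28109, .bwd 25040, .bwd 28094],
   .loop none [.fwd 28112],
   .loop none [.bwd 6512, .bwd 28109, .fwd 27064, .bwd 28108],
   .loop none [.fwd 28114],
   .loop none [.fwd 1085, .bwd 28109, .bwd 20483],
   .loop none [.fwd 28116],
   .loop none [.fwd 28113, .fwd 28096],
   .loop none [.bwd 6516, .bwd 27931, .bwd 27212],
   .loop none [.fwd 28119],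
   .loop none [.bwd 3913, .fwd 27900, .fwd 27208],
   .loop none [.fwd 28121],
   .loop none [.fwd 28055, .fwd 27902],
   .loop none [.bwd 3668, .bwd 28123, .fwd 8624, .bwd 28066],
   .loop none [.bwd 28124],
   .loop none [.bwd 20671, .bwd 28123, .fwd 26124],
   .loop none [.fwd 28126],
   .loop none [.fwd 3620, .bwd 28123, .fwd 3667],
   .loop none [.fwd 28128],
   .loop none [.fwd 28129, .bwd 28123],
   .loop none [.fwd 28129, .bwd 3620, .bwd 28130, .bwd 3666],
   .loop none [.fwd 28131],
   .loop none [.fwd 28129, .fwd 28055],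
   .loop none [.fwd 28064, .fwd 28057],
   .loop none [.bwd 383, .bwd 27993, .bwd 14222, .fwd 27932],
   .loop none [.bwd 28135],
   .loop none [.fwd 244, .bwd 27957, .bwd 3640],
   .loop none [.fwd 28137],
   .loop none [.bwd 2459, .fwd 27911, .fwd 26598, .bwd 28014],
   .loop none [.fwd 28139],
   .loop none [.bwd 104, .fwd 27916, .fwd 26127],
   .loop none [.fwd 28141],
   .loop none [.bwd 2427, .fwd 27916, .fwd 2429, .bwd 27942],
   .loop none [.bwd 28143],
   .loop none [.fwd 28140, .fwd 28014],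
   .loop none [.bwd 2459, .bwd 27928, .fwd 26593],
   .loop none [.fwd 28146],
   .loop none [.bwd 2459, .fwd 27922, .fwd 26528],
   .loop none [.fwd 28148],
   .loop none [.fwd 1085, .fwd 27925, .fwd 20468],
   .loop none [.fwd 28150],
   .loop none [.bwd 8070, .fwd 27925, .fwd 27099],
   .loop none [.fwd 28152],
   .loop none [.fwd 244, .fwd 27927, .fwd 3596],
   .loop none [.fwd 28154],
   .loop none [.bwd 11241, .fwd 27930, .bwd 20493],
   .loop none [.fwd 28156],
   .loop none [.fwd 28102, .fwd 28086],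
   .loop none [.bwd 2351, .bwd 28010, .bwd 2370],
   .loop none [.fwd 28159],
   .loop none [.fwd 27975, .fwd 27960],
   .loop none [.fwd 6097, .bwd 28161, .fwd 26591, .bwd 27936],
   .loop none [.fwd 28162],
   .loop none [.fwd 28163, .fwd 27936],
   .loop none [.bwd 105, .bwd 28164, .fwd 26121, .bwd 28088],
   .loop none [.fwd 28165],
   .loop none [.fwd 5328, .bwd 28164, .fwd 26440],
   .loop none [.fwd 28167],
   .loop none [.bwd 2491, .bwd 28164, .bwd 26526],
   .loop none [.fwd 28169],
   .loop none [.bwd 2442, .bwd 28164, .fwd 26588],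
   .loop none [.fwd 28171],
   .loop none [.bwd 2458, .bwd 28164, .fwd 26527],
   .loop none [.fwd 28173],
   .loop none [.fwd 28111, .fwd 28090],
   .loop none [.bwd 104, .bwd 27962, .bwd 2446],
   .loop none [.fwd 28176],
   .loop none [.fwd 534, .fwd 27947, .fwd 12169],
   .loop none [.fwd 28178],
   .loop none [.fwd 3067, .bwd 28026, .bwd 22438],
   .loop none [.fwd 28180],
   .loop none [.bwd 6321, .fwd 27953, .bwd 27736],
   .loop none [.fwd 28182],
   .loop none [.fwd 803, .fwd 27956, .fwd 26474],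
   .loop none [.fwd 28184],
   .loop none [.fwd 16904, .fwd 27956, .bwd 12194],
   .loop none [.bwd 28186],
   .loop none [.bwd 7792, .fwd 27956, .fwd 27748],
   .loop none [.fwd 28188],
   .loop none [.bwd 6010, .bwd 28161, .bwd 26675],
   .loop none [.fwd 28190],
   .loop none [.fwd 6113, .bwd 28161, .bwd 27410],
   .loop none [.fwd 28192],
   .loop none [.fwd 375, .fwd 27964, .fwd 26660],
   .loop none [.fwd 28194],
   .loop none [.bwd 6010, .fwd 27964, .bwd 6172],
   .loop none [.fwd 28196],
   .loop none [.fwd 6113, .fwd 27964, .bwd 26665],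
   .loop none [.fwd 28198],
   .loop none [.fwd 7559, .fwd 27964, .fwd 27414],
   .loop none [.fwd 28200],
   .loop none [.fwd 6161, .bwd 27966],
   .loop none [.bwd 6010, .fwd 27973, .bwd 27407],
   .loop none [.fwd 28203],
   .loop none [.fwd 375, .fwd 27975, .bwd 27726],
   .loop none [.fwd 28205],
   .loop none [.fwd 6113, .fwd 27975, .fwd 6030],
   .loop none [.fwd 28207],
   .loop none [.bwd 6486, .bwd 27994, .fwd 14236],
   .loop none [.fwd 28209],
   .loop none [.bwd 6486, .bwd 27992, .fwd 7409],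
   .loop none [.fwd 28211],
   .loop none [.fwd 380, .bwd 27983],
   .loop none [.bwd 6220, .fwd 27983, .fwd 6406],
   .loop none [.bwd 28214],
   .loop none [.bwd 6470, .fwd 27983, .fwd 6571],
   .loop none [.fwd 28216],
   .loop none [.fwd 6438, .bwd 27985],
   .loop none [.fwd 28215, .fwd 28144],
   .loop none [.fwd 6584, .fwd 27988, .bwd 14079, .bwd 28181],
   .loop none [.fwd 28220],
   .loop none [.bwd 5289, .fwd 27988, .fwd 14238, .bwd 28210],
   .loop none [.fwd 28222],
   .loop none [.fwd 28223, .fwd 28212],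
   .loop none [.bwd 5290, .fwd 27988, .bwd 22743],
   .loop none [.fwd 28225],
   .loop none [.bwd 7415, .fwd 27988, .fwd 14994],
   .loop none [.fwd 28227],
   .loop none [.bwd 6457, .bwd 27991],
   .loop none [.bwd 5276, .bwd 27991],
   .loop none [.fwd 512, .fwd 27996, .fwd 11274, .bwd 28031],
   .loop none [.fwd 28231],
   .loop none [.fwd 28232, .fwd 27996],
   .loop none [.fwd 10915, .bwd 28233, .bwd 6379],
   .loop none [.bwd 28234],
   .loop none [.fwd 6371, .bwd 27998],
   .loop none [.bwd 2351, .fwd 28000, .fwd 26235],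
   .loop none [.fwd 28237],
   .loop none [.fwd 2827, .fwd 28005, .fwd 8670],
   .loop none [.fwd 28239],
   .loop none [.bwd 2861, .fwd 28005, .fwd 27124],
   .loop none [.fwd 28241],
   .loop none [.bwd 2906, .fwd 28007, .bwd 26421],
   .loop none [.fwd 28243],
   .loop none [.fwd 2355, .bwd 28009],
   .loop none [.bwd 17880, .bwd 28145, .bwd 26388],
   .loop none [.fwd 28246],
   .loop none [.fwd 6097, .fwd 28016, .fwd 26566],
   .loop none [.fwd 28248]]

theorem just112_len : just112.length = 250 := by decide +kernel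

theorem just112_ok : cert.okFacts 28000 just112 = true := by decide +kernel

/-- justifications -/
noncomputable def just113 : List Cert.Just :=
  [.loop none [.bwd 12163, .fwd 28018, .bwd 12183],
   .loop none [.fwd 28250],
   .loop none [.bwd 6387, .bwd 28021],
   .loop none [.bwd 3545, .fwd 28021, .bwd 8644],
   .loop none [.fwd 28253],
   .loop none [.bwd 6585, .fwd 28021, .fwd 7284],
   .loop none [.bwd 28255],
   .loop none [.bwd 5300, .fwd 28023, .bwd 14239],
   .loop none [.fwd 28257],
   .loop none [.bwd 7419, .fwd 28023, .fwd 23700],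
   .loop none [.fwd 28259],
   .loop none [.fwd 6219, .bwd 28025],
   .loop none [.fwd 3594, .fwd 28029, .fwd 12217],
   .loop none [.fwd 28262],
   .loop none [.fwd 28232, .fwd 28031],
   .loop none [.bwd 3564, .bwd 28264, .fwd 11263, .bwd 28155],
   .loop none [.fwd 28265],
   .loop none [.fwd 3574, .bwd 28264, .fwd 10782],
   .loop none [.fwd 28267],
   .loop none [.fwd 10803, .fwd 28033, .bwd 6191],
   .loop none [.bwd 28269],
   .loop none [.fwd 7238, .fwd 28036, .bwd 12092, .bwd 28268],
   .loop none [.bwd 28271],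
   .loop none [.fwd 11463, .fwd 28036, .fwd 10798],
   .loop none [.fwd 28273],
   .loop none [.fwd 101, .fwd 28039, .bwd 8601],
   .loop none [.fwd 28275],
   .loop none [.fwd 2315, .bwd 28039],
   .loop none [.bwd 2239, .fwd 28041, .bwd 22433],
   .loop none [.fwd 28278],
   .loop none [.fwd 100, .fwd 28041, .bwd 2294],
   .loop none [.fwd 28280],
   .loop none [.bwd 115, .fwd 28043, .bwd 8643, .bwd 28076],
   .loop none [.bwd 28282],
   .loop none [.bwd 2958, .fwd 28043, .bwd 2325],
   .loop none [.bwd 28284],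
   .loop none [.fwd 2234, .fwd 28043, .bwd 26139],
   .loop none [.fwd 28286],
   .loop none [.fwd 19142, .fwd 28045, .bwd 12205],
   .loop none [.bwd 28288],
   .loop none [.bwd 2239, .fwd 28047, .bwd 22431],
   .loop none [.fwd 28290],
   .loop none [.fwd 100, .fwd 28047, .bwd 25974],
   .loop none [.fwd 28292],
   .loop none [.bwd 4023, .fwd 28047, .fwd 17865],
   .loop none [.fwd 28294],
   .loop none [.fwd 28285, .bwd 2958, .fwd 28049, .bwd 26355],
   .loop none [.fwd 28296],
   .loop none [.fwd 100, .fwd 28051, .bwd 26050],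
   .loop none [.fwd 28298],
   .loop none [.fwd 28285, .bwd 2958, .fwd 28053, .bwd 26173],
   .loop none [.fwd 28300],
   .loop none [.fwd 2234, .fwd 28053, .fwd 26238],
   .loop none [.fwd 28302],
   .loop none [.fwd 4044, .bwd 28133, .fwd 26114],
   .loop none [.fwd 28304],
   .loop none [.fwd 2243, .bwd 28134, .fwd 26126],
   .loop none [.fwd 28306],
   .loop none [.fwd 8590, .fwd 28059, .bwd 26105, .bwd 28307],
   .loop none [.bwd 28308],
   .loop none [.bwd 2223, .fwd 28059, .fwd 26024],
   .loop none [.fwd 28310],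
   .loop none [.fwd 28059, .fwd 26119, .fwd 28059, .fwd 26118, .bwd 28299],
   .loop none [.bwd 28312],
   .loop none [.fwd 2826, .fwd 28064, .bwd 4322],
   .loop none [.fwd 28314],
   .loop none [.bwd 102, .fwd 28068, .fwd 1269],
   .loop none [.fwd 28316],
   .loop none [.fwd 2188, .bwd 28068],
   .loop none [.fwd 6201, .fwd 28068, .bwd 5744],
   .loop none [.fwd 28319],
   .loop none [.fwd 113, .fwd 28070, .bwd 8641],
   .loop none [.fwd 28321],
   .loop none [.fwd 5335, .fwd 28070, .fwd 26031, .bwd 28189],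
   .loop none [.bwd 28323],
   .loop none [.bwd 2366, .fwd 28070, .fwd 2914],
   .loop none [.fwd 28325],
   .loop none [.fwd 5303, .fwd 28070, .fwd 27177, .bwd 28185],
   .loop none [.bwd 28327],
   .loop none [.fwd 3024, .fwd 28287, .bwd 27180, .bwd 28072],
   .loop none [.fwd 28329],
   .loop none [.fwd 28330, .fwd 28072],
   .loop none [.bwd 3007, .bwd 28331, .bwd 26229],
   .loop none [.fwd 28332],
   .loop none [.bwd 26040, .fwd 28074, .fwd 26358],
   .loop none [.fwd 28334],
   .loop none [.fwd 2234, .fwd 28076, .fwd 2965],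
   .loop none [.fwd 28336],
   .loop none [.fwd 2930, .fwd 28078, .fwd 16898],
   .loop none [.fwd 28338],
   .loop none [.bwd 5265, .fwd 28082, .bwd 5736],
   .loop none [.fwd 28340],
   .loop none [.fwd 28289, .fwd 19142, .fwd 28082, .bwd 21242],
   .loop none [.fwd 28342],
   .loop none [.bwd 4722, .fwd 28082, .bwd 3023],
   .loop none [.fwd 28344],
   .loop none [.bwd 5268, .fwd 28082, .bwd 7778],
   .loop none [.fwd 28346],
   .loop none [.bwd 7894, .fwd 28082, .fwd 8274],
   .loop none [.bwd 28348],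
   .loop none [.bwd 8792, .fwd 28084, .fwd 8766],
   .loop none [.fwd 28350],
   .loop none [.bwd 26594, .fwd 28084, .fwd 26611],
   .loop none [.fwd 28352],
   .loop none [.bwd 27017, .fwd 28084, .bwd 27096],
   .loop none [.bwd 28354],
   .loop none [.bwd 2743, .fwd 28084, .fwd 2745],
   .loop none [.bwd 28356],
   .loop none [.fwd 2742, .fwd 28084, .bwd 2744, .bwd 28357],
   .loop none [.bwd 28358],
   .loop none [.bwd 8806, .fwd 28084, .bwd 8805],
   .loop none [.fwd 28360],
   .loop none [.fwd 2827, .bwd 28158, .bwd 8817],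
   .loop none [.fwd 28362],
   .loop none [.bwd 112, .bwd 28158, .bwd 2815],
   .loop none [.fwd 28364],
   .loop none [.fwd 28166, .fwd 28088],
   .loop none [.bwd 106, .bwd 28366, .fwd 26122, .bwd 28355],
   .loop none [.fwd 28367],
   .loop none [.fwd 5322, .bwd 28366, .fwd 26901],
   .loop none [.fwd 28369],
   .loop none [.bwd 2530, .bwd 28366, .bwd 26682],
   .loop none [.fwd 28371],
   .loop none [.fwd 2523, .bwd 28366, .fwd 26917],
   .loop none [.fwd 28373],
   .loop none [.bwd 2529, .bwd 28366, .fwd 26691],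
   .loop none [.fwd 28375],
   .loop none [.fwd 110, .bwd 28175, .fwd 8807, .bwd 28357],
   .loop none [.fwd 28377],
   .loop none [.bwd 2456, .bwd 28175, .bwd 2770],
   .loop none [.fwd 28379],
   .loop none [.fwd 28378, .fwd 28359],
   .loop none [.fwd 28378, .fwd 28361],
   .loop none [.fwd 3753, .bwd 28118, .bwd 25038, .bwd 28092],
   .loop none [.fwd 28383],
   .loop none [.fwd 28384, .fwd 28092],
   .loop none [.bwd 3785, .bwd 28385, .bwd 20719],
   .loop none [.fwd 28386],
   .loop none [.fwd 28113, .fwd 28094],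
   .loop none [.fwd 28378, .fwd 28357],
   .loop none [.bwd 1422, .bwd 28388, .bwd 20729],
   .loop none [.fwd 28390],
   .loop none [.bwd 8140, .bwd 28388, .fwd 25064],
   .loop none [.fwd 28392],
   .loop none [.fwd 4144, .fwd 28099, .bwd 27075],
   .loop none [.fwd 28394],
   .loop none [.bwd 112, .fwd 28102, .fwd 26434],
   .loop none [.fwd 28396],
   .loop none [.bwd 2612, .fwd 28104, .fwd 27065],
   .loop none [.fwd 28398],
   .loop none [.fwd 108, .fwd 28104, .bwd 2716],
   .loop none [.fwd 28400],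
   .loop none [.bwd 2705, .fwd 28104, .fwd 2709, .bwd 28351],
   .loop none [.fwd 28402],
   .loop none [.bwd 2665, .fwd 28104, .bwd 2708, .bwd 28403],
   .loop none [.fwd 28404],
   .loop none [.bwd 2677, .fwd 28104, .fwd 8790, .bwd 28405],
   .loop none [.fwd 28406],
   .loop none [.fwd 26866, .fwd 28106, .bwd 26453],
   .loop none [.bwd 28408],
   .loop none [.fwd 28407, .fwd 28405, .fwd 28403],
   .loop none [.bwd 1422, .fwd 28113, .fwd 20737],
   .loop none [.fwd 28411],
   .loop none [.fwd 8709, .fwd 28113, .bwd 27081],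
   .loop none [.fwd 28413],
   .loop none [.fwd 4126, .fwd 28115, .fwd 26559],
   .loop none [.fwd 28415],
   .loop none [.fwd 8715, .fwd 28115, .bwd 27220],
   .loop none [.fwd 28417],
   .loop none [.bwd 20463, .fwd 28117, .bwd 20482],
   .loop none [.fwd 28419],
   .loop none [.fwd 3909, .fwd 28120, .bwd 27211],
   .loop none [.fwd 28421],
   .loop none [.fwd 28153, .fwd 28122],
   .loop none [.fwd 8705, .bwd 28423, .fwd 27216],
   .loop none [.fwd 28424],
   .loop none [.fwd 28414, .fwd 28395],
   .loop none [.bwd 26718, .bwd 28423, .fwd 26723, .bwd 28153],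
   .loop none [.bwd 28427],
   .loop none [.bwd 3700, .fwd 28125, .fwd 20748],
   .loop none [.fwd 28429],
   .loop none [.fwd 28127, .bwd 27207, .fwd 28127, .fwd 27206, .bwd 28305],
   .loop none [.bwd 28431],
   .loop none [.fwd 4044, .fwd 28132, .bwd 3673],
   .loop none [.fwd 28433],
   .loop none [.fwd 6323, .fwd 28136, .fwd 6605],
   .loop none [.fwd 28435],
   .loop none [.fwd 28266, .fwd 28138],
   .loop none [.bwd 3482, .bwd 28437, .bwd 9080, .bwd 28434],
   .loop none [.fwd 28438],
   .loop none [.fwd 28266, .fwd 28155],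
   .loop none [.bwd 3551, .bwd 28437, .bwd 3639],
   .loop none [.fwd 28441],
   .loop none [.bwd 2491, .fwd 28142, .bwd 26608],
   .loop none [.fwd 28443],
   .loop none [.fwd 32, .bwd 28219, .fwd 26021, .bwd 28249],
   .loop none [.fwd 28445],
   .loop none [.bwd 17880, .fwd 28147, .bwd 26615],
   .loop none [.fwd 28447],
   .loop none [.fwd 28446, .fwd 28174],
   .loop none [.fwd 2505, .fwd 28149, .fwd 26612],
   .loop none [.fwd 28450],
   .loop none [.bwd 6524, .fwd 28151, .fwd 20469],
   .loop none [.fwd 28452],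
   .loop none [.fwd 8705, .fwd 28153, .fwd 26725],
   .loop none [.fwd 28454],
   .loop none [.fwd 28439, .fwd 28432],
   .loop none [.fwd 3523, .bwd 28440, .fwd 3597],
   .loop none [.fwd 28457],
   .loop none [.bwd 10464, .fwd 28157, .bwd 22728, .bwd 28442],
   .loop none [.bwd 28459],
   .loop none [.bwd 11246, .fwd 28157, .bwd 20492],
   .loop none [.fwd 28461],
   .loop none [.fwd 28446, .fwd 28163],
   .loop none [.fwd 28324, .fwd 5335, .fwd 28160, .fwd 26140],
   .loop none [.fwd 28464],
   .loop none [.bwd 2906, .fwd 28160, .bwd 2369],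
   .loop none [.bwd 28466],
   .loop none [.bwd 2366, .fwd 28160, .bwd 26349],
   .loop none [.fwd 28468],
   .loop none [.bwd 1036, .bwd 28463, .fwd 26112, .bwd 28166],
   .loop none [.fwd 28470],
   .loop none [.fwd 28471, .fwd 28166],
   .loop none [.fwd 235, .bwd 28472, .fwd 26113, .bwd 28368],
   .loop none [.fwd 28473],
   .loop none [.fwd 282, .bwd 28472, .fwd 26899],
   .loop none [.fwd 28475],
   .loop none [.fwd 28471, .fwd 28376],
   .loop none [.bwd 5332, .fwd 28168, .fwd 26821],
   .loop none [.fwd 28478],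
   .loop none [.bwd 26737, .fwd 28170, .bwd 26794],
   .loop none [.bwd 28480],
   .loop none [.bwd 2492, .fwd 28170, .bwd 26525],
   .loop none [.fwd 28482],
   .loop none [.fwd 12652, .fwd 28172, .bwd 26757],
   .loop none [.fwd 28484],
   .loop none [.bwd 2443, .fwd 28172, .fwd 26589],
   .loop none [.fwd 28486],
   .loop none [.fwd 8731, .fwd 28172, .fwd 26787],
   .loop none [.fwd 28488],
   .loop none [.fwd 8728, .fwd 28172, .bwd 26760, .bwd 28481],
   .loop none [.fwd 28490],
   .loop none [.fwd 31, .bwd 28449, .fwd 26423, .bwd 28479],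
   .loop none [.fwd 28492],
   .loop none [.bwd 1126, .bwd 28449, .bwd 27713],
   .loop none [.fwd 28494],
   .loop none [.fwd 28446, .fwd 28177],
   .loop none [.fwd 28471, .fwd 28380],
   .loop none [.bwd 1099, .bwd 28496, .bwd 2445],
   .loop none [.fwd 28498]]

theorem just113_len : just113.length = 250 := by decide +kernel

theorem just113_ok : cert.okFacts 28250 just113 = true := by decide +kernel

/-- justifications -/
noncomputable def just114 : List Cert.Just :=
  [.loop none [.fwd 1018, .bwd 28496, .fwd 26601],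
   .loop none [.fwd 28500],
   .loop none [.fwd 533, .fwd 28179, .bwd 26378],
   .loop none [.fwd 28502],
   .loop none [.bwd 6293, .fwd 28179, .fwd 12170],
   .loop none [.fwd 28504],
   .loop none [.fwd 28187, .fwd 16904, .fwd 28183, .fwd 27747],
   .loop none [.fwd 28506],
   .loop none [.fwd 1590, .fwd 28185, .bwd 27746],
   .loop none [.fwd 28508],
   .loop none [.bwd 26466, .fwd 28187, .bwd 18519],
   .loop none [.bwd 28510],
   .loop none [.fwd 12193, .fwd 28187, .bwd 17893],
   .loop none [.fwd 28512],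
   .loop none [.bwd 16904, .bwd 28187],
   .loop none [.fwd 26469, .fwd 28187, .bwd 17743],
   .loop none [.bwd 28515],
   .loop none [.bwd 27745, .fwd 28187, .fwd 19026],
   .loop none [.bwd 28517],
   .loop none [.fwd 63, .fwd 28189, .fwd 27172],
   .loop none [.fwd 28519],
   .loop none [.bwd 6011, .fwd 28191, .bwd 26674],
   .loop none [.fwd 28521],
   .loop none [.bwd 6110, .fwd 28193, .fwd 21960],
   .loop none [.fwd 28523],
   .loop none [.bwd 6111, .fwd 28193, .bwd 18538],
   .loop none [.fwd 28525],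
   .loop none [.bwd 6112, .fwd 28193, .fwd 16488],
   .loop none [.fwd 28527],
   .loop none [.bwd 6170, .fwd 28193, .bwd 18540],
   .loop none [.bwd 28529],
   .loop none [.bwd 8733, .fwd 28193, .fwd 18571],
   .loop none [.fwd 28531],
   .loop none [.bwd 8738, .fwd 28193, .bwd 18819],
   .loop none [.fwd 28533],
   .loop none [.bwd 1494, .fwd 28195, .fwd 26661],
   .loop none [.fwd 28535],
   .loop none [.bwd 8717, .fwd 28197, .bwd 8694, .bwd 28499],
   .loop none [.bwd 28537],
   .loop none [.fwd 28534, .fwd 14334, .fwd 28197, .fwd 26651],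
   .loop none [.fwd 28539],
   .loop none [.bwd 14337, .fwd 28197, .fwd 27413],
   .loop none [.fwd 28541],
   .loop none [.fwd 2518, .fwd 28199, .bwd 26664, .bwd 28501],
   .loop none [.bwd 28543],
   .loop none [.bwd 670, .fwd 28201, .bwd 26663],
   .loop none [.fwd 28545],
   .loop none [.fwd 28538, .fwd 28444],
   .loop none [.bwd 14312, .fwd 28204, .bwd 18545],
   .loop none [.fwd 28548],
   .loop none [.bwd 6035, .fwd 28204, .fwd 16442],
   .loop none [.fwd 28550],
   .loop none [.bwd 6011, .fwd 28204, .bwd 26843],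
   .loop none [.fwd 28552],
   .loop none [.bwd 1493, .fwd 28206, .fwd 26152],
   .loop none [.fwd 28554],
   .loop none [.bwd 11179, .fwd 28208, .fwd 27409],
   .loop none [.fwd 28556],
   .loop none [.fwd 5288, .fwd 28224],
   .loop none [.fwd 6220, .bwd 28215],
   .loop none [.bwd 1122, .bwd 28217],
   .loop none [.bwd 377, .fwd 28217, .fwd 1134, .bwd 28436],
   .loop none [.fwd 28561],
   .loop none [.fwd 376, .fwd 28217, .bwd 5733],
   .loop none [.fwd 28563],
   .loop none [.bwd 8096, .bwd 28217],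
   .loop none [.bwd 5300, .fwd 28221, .bwd 3210],
   .loop none [.bwd 28566],
   .loop none [.bwd 7419, .fwd 28221, .fwd 8073],
   .loop none [.bwd 28568],
   .loop none [.fwd 6486, .bwd 28223],
   .loop none [.fwd 5287, .bwd 28223],
   .loop none [.fwd 28569, .fwd 28226],
   .loop none [.fwd 28567, .fwd 28228],
   .loop none [.fwd 1258, .bwd 28572, .fwd 22738, .bwd 28291],
   .loop none [.fwd 28574],
   .loop none [.fwd 28569, .fwd 28260],
   .loop none [.fwd 3145, .bwd 28573, .bwd 9100, .bwd 28295],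
   .loop none [.fwd 28577],
   .loop none [.fwd 28567, .fwd 28258],
   .loop none [.fwd 989, .bwd 28232],
   .loop none [.fwd 4732, .fwd 28232, .fwd 513],
   .loop none [.fwd 28581],
   .loop none [.fwd 512, .bwd 28232],
   .loop none [.fwd 6207, .bwd 28232],
   .loop none [.fwd 28235, .fwd 10915, .fwd 28232, .bwd 10788],
   .loop none [.fwd 28585],
   .loop none [.fwd 7372, .fwd 28232, .bwd 622],
   .loop none [.bwd 28587],
   .loop none [.bwd 7237, .fwd 28232, .fwd 7240],
   .loop none [.fwd 28589],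
   .loop none [.fwd 9601, .fwd 28235, .bwd 10403],
   .loop none [.bwd 28591],
   .loop none [.fwd 11228, .bwd 28235],
   .loop none [.fwd 6378, .fwd 28235, .bwd 11220],
   .loop none [.fwd 28594],
   .loop none [.bwd 10915, .bwd 28235],
   .loop none [.fwd 23277, .fwd 28595, .fwd 11221, .bwd 28235],
   .loop none [.bwd 28597],
   .loop none [.fwd 11235, .bwd 28235],
   .loop none [.fwd 12073, .bwd 28235],
   .loop none [.bwd 12011, .bwd 28235],
   .loop none [.fwd 28467, .bwd 2906, .fwd 28238, .bwd 26480],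
   .loop none [.fwd 28602],
   .loop none [.bwd 256, .fwd 28240, .bwd 27225],
   .loop none [.fwd 28604],
   .loop none [.bwd 2730, .fwd 28242, .bwd 27097],
   .loop none [.fwd 28606],
   .loop none [.fwd 28467, .fwd 28244],
   .loop none [.fwd 2368, .bwd 28608, .bwd 26420],
   .loop none [.fwd 28609],
   .loop none [.fwd 15474, .fwd 28247, .bwd 26650],
   .loop none [.fwd 28611],
   .loop none [.bwd 26742, .fwd 28247, .fwd 26655],
   .loop none [.bwd 28613],
   .loop none [.bwd 26692, .fwd 28247, .bwd 26387],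
   .loop none [.bwd 28615],
   .loop none [.fwd 26780, .fwd 28247, .bwd 26657],
   .loop none [.bwd 28617],
   .loop none [.bwd 12164, .fwd 28251, .bwd 12182],
   .loop none [.fwd 28619],
   .loop none [.bwd 75, .fwd 28254, .fwd 4120],
   .loop none [.fwd 28621],
   .loop none [.fwd 74, .fwd 28254, .fwd 2459],
   .loop none [.fwd 28623],
   .loop none [.fwd 534, .fwd 28256, .bwd 1931],
   .loop none [.bwd 28625],
   .loop none [.fwd 6585, .bwd 28256],
   .loop none [.bwd 8479, .bwd 28256],
   .loop none [.fwd 2079, .bwd 28579, .bwd 3774],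
   .loop none [.fwd 28629],
   .loop none [.fwd 92, .bwd 28576, .bwd 9128, .bwd 28393],
   .loop none [.fwd 28631],
   .loop none [.fwd 3593, .fwd 28263, .bwd 14216, .bwd 28458],
   .loop none [.bwd 28633],
   .loop none [.fwd 11238, .fwd 28263, .bwd 14212],
   .loop none [.fwd 28635],
   .loop none [.fwd 242, .fwd 28266, .bwd 549],
   .loop none [.fwd 28637],
   .loop none [.fwd 28592, .fwd 28270],
   .loop none [.fwd 6927, .bwd 28639, .bwd 11704],
   .loop none [.fwd 28640],
   .loop none [.bwd 5425, .bwd 28639, .bwd 10953],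
   .loop none [.fwd 28642],
   .loop none [.bwd 8453, .bwd 28639, .fwd 10437],
   .loop none [.fwd 28644],
   .loop none [.bwd 9020, .bwd 28639, .fwd 13002],
   .loop none [.fwd 28646],
   .loop none [.fwd 8483, .bwd 28639, .bwd 11475],
   .loop none [.fwd 28648],
   .loop none [.fwd 9021, .bwd 28639, .bwd 10954],
   .loop none [.fwd 28650],
   .loop none [.fwd 12013, .bwd 28639, .bwd 11489],
   .loop none [.bwd 28652],
   .loop none [.bwd 11395, .bwd 28639, .fwd 12027],
   .loop none [.bwd 28654],
   .loop none [.fwd 5713, .fwd 28272, .fwd 7238],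
   .loop none [.fwd 28656],
   .loop none [.fwd 11207, .fwd 28272, .bwd 11466],
   .loop none [.fwd 28658],
   .loop none [.fwd 11210, .fwd 28272, .bwd 11271],
   .loop none [.bwd 28660],
   .loop none [.fwd 13323, .fwd 28272, .fwd 10912],
   .loop none [.bwd 28662],
   .loop none [.bwd 11237, .fwd 28272, .fwd 11273],
   .loop none [.bwd 28664],
   .loop none [.bwd 11479, .fwd 28274, .fwd 14700, .bwd 28647],
   .loop none [.bwd 28666],
   .loop none [.fwd 28657, .fwd 28524],
   .loop none [.fwd 11613, .fwd 28274, .bwd 14686],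
   .loop none [.fwd 28669],
   .loop none [.fwd 2276, .bwd 28276],
   .loop none [.fwd 28575, .fwd 28279],
   .loop none [.bwd 1257, .bwd 28672, .fwd 22444, .bwd 28363],
   .loop none [.fwd 28673],
   .loop none [.fwd 1283, .bwd 28672, .bwd 20708],
   .loop none [.fwd 28675],
   .loop none [.fwd 28439, .fwd 28434],
   .loop none [.fwd 2146, .fwd 28281, .bwd 22434, .bwd 28676],
   .loop none [.bwd 28678],
   .loop none [.fwd 99, .fwd 28281, .bwd 8623, .bwd 28313],
   .loop none [.fwd 28680],
   .loop none [.fwd 28681, .fwd 28281],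
   .loop none [.bwd 2150, .bwd 28682, .bwd 2293],
   .loop none [.fwd 28683],
   .loop none [.fwd 28681, .fwd 28293],
   .loop none [.fwd 114, .fwd 28283, .fwd 2191],
   .loop none [.fwd 28686],
   .loop none [.fwd 115, .bwd 28283],
   .loop none [.fwd 28285, .bwd 2958, .fwd 28283, .fwd 3006],
   .loop none [.fwd 28689],
   .loop none [.fwd 2234, .fwd 28283, .fwd 2194],
   .loop none [.bwd 28691],
   .loop none [.fwd 28684, .fwd 8621, .fwd 28285, .fwd 8524],
   .loop none [.fwd 28693],
   .loop none [.fwd 28692, .fwd 28337],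
   .loop none [.bwd 26053, .fwd 28285, .fwd 8567],
   .loop none [.bwd 28696],
   .loop none [.fwd 2324, .fwd 28285, .fwd 2959],
   .loop none [.fwd 28698],
   .loop none [.fwd 2958, .bwd 28285],
   .loop none [.bwd 26339, .fwd 28285, .fwd 2974, .bwd 28699],
   .loop none [.bwd 28701],
   .loop none [.fwd 26137, .fwd 28285, .fwd 8850],
   .loop none [.bwd 28703],
   .loop none [.bwd 26347, .fwd 28285, .bwd 15275],
   .loop none [.bwd 28705],
   .loop none [.bwd 26343, .fwd 28285, .fwd 8852],
   .loop none [.bwd 28707],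
   .loop none [.fwd 28692, .fwd 28287],
   .loop none [.bwd 3012, .bwd 28709, .fwd 26348, .bwd 28469],
   .loop none [.fwd 28710],
   .loop none [.bwd 26338, .fwd 28289, .fwd 19141],
   .loop none [.bwd 28712],
   .loop none [.fwd 12204, .fwd 28289, .bwd 19262],
   .loop none [.fwd 28714],
   .loop none [.fwd 26346, .fwd 28289, .fwd 19143],
   .loop none [.bwd 28716],
   .loop none [.bwd 19144, .bwd 28289],
   .loop none [.bwd 19227, .bwd 28289],
   .loop none [.bwd 2150, .bwd 28685, .bwd 25973],
   .loop none [.fwd 28720],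
   .loop none [.fwd 28692, .fwd 28303],
   .loop none [.fwd 28697, .bwd 26053, .fwd 28297, .bwd 17860],
   .loop none [.bwd 28723],
   .loop none [.fwd 2324, .fwd 28297, .bwd 26055, .bwd 28335],
   .loop none [.fwd 28725],
   .loop none [.fwd 28704, .fwd 26137, .fwd 28297, .bwd 17925],
   .loop none [.fwd 28727],
   .loop none [.fwd 28708, .bwd 26343, .fwd 28297, .fwd 19640],
   .loop none [.fwd 28729],
   .loop none [.fwd 28439, .fwd 28305],
   .loop none [.fwd 28724, .fwd 28697],
   .loop none [.fwd 28702, .bwd 26339, .fwd 28301, .fwd 27181, .bwd 28333],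
   .loop none [.fwd 28733],
   .loop none [.bwd 8551, .bwd 28722, .fwd 17863],
   .loop none [.bwd 28735],
   .loop none [.fwd 8562, .bwd 28722, .bwd 17924, .bwd 28724],
   .loop none [.bwd 28737],
   .loop none [.fwd 11009, .bwd 28722, .bwd 19411],
   .loop none [.fwd 28739],
   .loop none [.bwd 6606, .bwd 28731, .bwd 26144],
   .loop none [.fwd 28741],
   .loop none [.bwd 3178, .bwd 28731, .fwd 27205],
   .loop none [.fwd 28743],
   .loop none [.fwd 28679, .fwd 28307],
   .loop none [.fwd 97, .bwd 28745, .bwd 26104, .bwd 28605],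
   .loop none [.fwd 28746],
   .loop none [.fwd 28679, .fwd 28309],
   .loop none [.bwd 276, .bwd 28748, .bwd 22436, .bwd 28430]]

theorem just114_len : just114.length = 250 := by decide +kernel

theorem just114_ok : cert.okFacts 28500 just114 = true := by decide +kernel

/-- justifications -/
noncomputable def just115 : List Cert.Just :=
  [.loop none [.fwd 28749],
   .loop none [.fwd 2102, .bwd 28748, .fwd 4344],
   .loop none [.fwd 28751],
   .loop none [.bwd 26016, .fwd 28311, .fwd 26123],
   .loop none [.bwd 28753],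
   .loop none [.fwd 28674, .fwd 28315],
   .loop none [.bwd 227, .bwd 28755, .bwd 2731, .bwd 28407],
   .loop none [.fwd 28756],
   .loop none [.fwd 2388, .fwd 28317, .bwd 1152],
   .loop none [.bwd 28758],
   .loop none [.bwd 1055, .bwd 28317],
   .loop none [.fwd 3112, .bwd 28320],
   .loop none [.fwd 3505, .fwd 28322, .bwd 26563, .bwd 28520],
   .loop none [.bwd 28762],
   .loop none [.bwd 2811, .fwd 28322, .fwd 2874],
   .loop none [.fwd 28764],
   .loop none [.bwd 1514, .fwd 28324, .fwd 12631],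
   .loop none [.fwd 28766],
   .loop none [.bwd 1005, .fwd 28324, .fwd 5336],
   .loop none [.fwd 28768],
   .loop none [.fwd 28711, .fwd 28326],
   .loop none [.bwd 4603, .bwd 28770, .fwd 17915, .bwd 28339],
   .loop none [.bwd 28771],
   .loop none [.bwd 4604, .bwd 28770, .bwd 8838, .bwd 28765],
   .loop none [.fwd 28773],
   .loop none [.fwd 8106, .bwd 28770, .fwd 2915],
   .loop none [.bwd 28775],
   .loop none [.fwd 2051, .fwd 28328, .bwd 1001],
   .loop none [.fwd 28777],
   .loop none [.bwd 1605, .fwd 28328, .fwd 1457, .bwd 28778],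
   .loop none [.fwd 28779],
   .loop none [.bwd 13883, .fwd 28328, .fwd 17624],
   .loop none [.fwd 28781],
   .loop none [.fwd 1590, .fwd 28328, .bwd 1530],
   .loop none [.bwd 28783],
   .loop none [.fwd 28726, .fwd 28335],
   .loop none [.bwd 26332, .bwd 28785, .bwd 26054, .fwd 28732],
   .loop none [.bwd 28786],
   .loop none [.fwd 8622, .fwd 28695],
   .loop none [.fwd 28780, .fwd 28503],
   .loop none [.fwd 17913, .fwd 28339, .bwd 18559],
   .loop none [.bwd 28790],
   .loop none [.fwd 28626, .fwd 6288, .fwd 28341, .fwd 5735, .bwd 28564],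
   .loop none [.fwd 28792],
   .loop none [.fwd 28514, .fwd 28341, .bwd 20533],
   .loop none [.fwd 28794],
   .loop none [.bwd 20278, .bwd 28343],
   .loop none [.fwd 28713, .bwd 26338, .fwd 28343, .fwd 22523],
   .loop none [.fwd 28797],
   .loop none [.fwd 28717, .fwd 26346, .fwd 28343, .bwd 22524],
   .loop none [.fwd 28799],
   .loop none [.bwd 28718, .fwd 28343, .bwd 24350],
   .loop none [.fwd 28801],
   .loop none [.bwd 28719, .fwd 28343, .fwd 24994],
   .loop none [.bwd 28803],
   .loop none [.fwd 7234, .bwd 28345],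
   .loop none [.fwd 19312, .fwd 28345, .fwd 22546, .bwd 28798],
   .loop none [.bwd 28806],
   .loop none [.fwd 17342, .fwd 28345, .bwd 17766],
   .loop none [.fwd 28808],
   .loop none [.bwd 22527, .fwd 28345, .fwd 17933],
   .loop none [.bwd 28810],
   .loop none [.bwd 800, .fwd 28347, .bwd 771],
   .loop none [.fwd 28812],
   .loop none [.bwd 863, .fwd 28347, .fwd 6346],
   .loop none [.fwd 28814],
   .loop none [.bwd 795, .fwd 28349, .fwd 681],
   .loop none [.fwd 28816],
   .loop none [.bwd 66, .fwd 28349, .bwd 680],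
   .loop none [.fwd 28818],
   .loop none [.bwd 7716, .bwd 28349],
   .loop none [.fwd 28757, .bwd 28410],
   .loop none [.fwd 28607, .bwd 27084, .fwd 28353, .fwd 27095],
   .loop none [.fwd 28822],
   .loop none [.fwd 28474, .fwd 28368, .fwd 28355],
   .loop none [.bwd 17, .bwd 28824, .bwd 27040],
   .loop none [.fwd 28825],
   .loop none [.fwd 16, .bwd 28824, .bwd 27017, .fwd 28382],
   .loop none [.fwd 28827],
   .loop none [.bwd 221, .bwd 28824, .bwd 27019],
   .loop none [.fwd 28829],
   .loop none [.fwd 28828, .bwd 28389],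
   .loop none [.fwd 15, .bwd 28831, .fwd 26604, .bwd 28823],
   .loop none [.fwd 28832],
   .loop none [.bwd 16, .bwd 28831, .bwd 2750],
   .loop none [.fwd 28834],
   .loop none [.fwd 28828, .bwd 28382],
   .loop none [.fwd 28828, .bwd 28381],
   .loop none [.fwd 28833, .fwd 28607],
   .loop none [.bwd 16, .bwd 28837, .bwd 27088],
   .loop none [.fwd 28839],
   .loop none [.fwd 135, .bwd 28836, .fwd 8792, .fwd 28821],
   .loop none [.bwd 28841],
   .loop none [.fwd 28828, .fwd 28378],
   .loop none [.bwd 2862, .fwd 28365, .bwd 2814],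
   .loop none [.bwd 28844],
   .loop none [.bwd 5325, .fwd 28370, .fwd 26902],
   .loop none [.fwd 28846],
   .loop none [.fwd 26950, .fwd 28372, .bwd 26920],
   .loop none [.fwd 28848],
   .loop none [.bwd 2531, .fwd 28372, .bwd 26681],
   .loop none [.fwd 28850],
   .loop none [.bwd 2548, .fwd 28374, .bwd 26872],
   .loop none [.fwd 28852],
   .loop none [.bwd 2536, .fwd 28374, .fwd 26983, .bwd 28830],
   .loop none [.bwd 28854],
   .loop none [.fwd 12667, .fwd 28374, .bwd 26986],
   .loop none [.fwd 28856],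
   .loop none [.bwd 2767, .fwd 28374, .bwd 26758],
   .loop none [.bwd 28858],
   .loop none [.bwd 8734, .fwd 28374, .fwd 26841],
   .loop none [.fwd 28860],
   .loop none [.bwd 8740, .fwd 28374, .bwd 26951],
   .loop none [.fwd 28862],
   .loop none [.bwd 61, .bwd 28477, .bwd 26690, .bwd 28847],
   .loop none [.fwd 28864],
   .loop none [.bwd 269, .bwd 28843, .bwd 27051, .bwd 28414],
   .loop none [.fwd 28866],
   .loop none [.fwd 1208, .bwd 28497, .bwd 2769],
   .loop none [.fwd 28868],
   .loop none [.fwd 28632, .fwd 28387],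
   .loop none [.bwd 92, .bwd 28870, .fwd 22737, .bwd 28630],
   .loop none [.fwd 28871],
   .loop none [.bwd 20731, .fwd 28391, .bwd 20728],
   .loop none [.bwd 28873],
   .loop none [.fwd 28867, .fwd 28399],
   .loop none [.fwd 28867, .bwd 28426],
   .loop none [.bwd 4, .bwd 28876, .bwd 27059, .fwd 28838],
   .loop none [.bwd 28877],
   .loop none [.fwd 28845, .bwd 2862, .fwd 28397, .fwd 27145],
   .loop none [.fwd 28879],
   .loop none [.fwd 3, .bwd 28875, .bwd 27218, .bwd 28422],
   .loop none [.fwd 28881],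
   .loop none [.bwd 2657, .fwd 28401, .bwd 2715],
   .loop none [.fwd 28883],
   .loop none [.bwd 16, .bwd 28821, .bwd 26194, .bwd 28826],
   .loop none [.fwd 28885],
   .loop none [.fwd 26452, .fwd 28409, .bwd 27026],
   .loop none [.fwd 28887],
   .loop none [.fwd 28886, .fwd 28826],
   .loop none [.fwd 28750, .fwd 28430],
   .loop none [.bwd 3955, .fwd 28412, .fwd 20738],
   .loop none [.fwd 28891],
   .loop none [.fwd 2664, .fwd 28416, .fwd 26810],
   .loop none [.fwd 28893],
   .loop none [.fwd 4203, .fwd 28418, .fwd 26716],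
   .loop none [.fwd 28895],
   .loop none [.fwd 28882, .fwd 28428],
   .loop none [.bwd 22456, .fwd 28420, .bwd 22511, .bwd 28869],
   .loop none [.bwd 28898],
   .loop none [.fwd 27319, .fwd 28420, .fwd 26922],
   .loop none [.fwd 28900],
   .loop none [.fwd 22460, .fwd 28420, .bwd 20481],
   .loop none [.fwd 28902],
   .loop none [.bwd 26728, .fwd 28425, .fwd 26733, .bwd 28455],
   .loop none [.bwd 28904],
   .loop none [.fwd 0, .bwd 28897, .bwd 27219, .bwd 28905],
   .loop none [.fwd 28906],
   .loop none [.fwd 2123, .bwd 28890, .fwd 20749],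
   .loop none [.fwd 28908],
   .loop none [.bwd 3178, .bwd 28456, .fwd 20672],
   .loop none [.fwd 28910],
   .loop none [.bwd 6606, .bwd 28677, .bwd 3672],
   .loop none [.bwd 28912],
   .loop none [.fwd 28913, .bwd 6606, .fwd 28439, .fwd 8126],
   .loop none [.fwd 28914],
   .loop none [.bwd 3178, .fwd 28439, .fwd 4045],
   .loop none [.fwd 28916],
   .loop none [.fwd 28439, .fwd 8129, .fwd 28439, .fwd 4046],
   .loop none [.bwd 28918],
   .loop none [.bwd 9086, .bwd 28442],
   .loop none [.bwd 3552, .fwd 28442, .bwd 3638],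
   .loop none [.fwd 28921],
   .loop none [.bwd 7874, .bwd 28547, .fwd 26668],
   .loop none [.fwd 28923],
   .loop none [.bwd 1120, .bwd 28547, .fwd 26669],
   .loop none [.fwd 28925],
   .loop none [.fwd 8013, .bwd 28547, .fwd 26670],
   .loop none [.fwd 28927],
   .loop none [.bwd 1124, .bwd 28547, .fwd 26671],
   .loop none [.fwd 28929],
   .loop none [.fwd 8002, .bwd 28547, .bwd 26773],
   .loop none [.fwd 28931],
   .loop none [.fwd 28793, .fwd 28564],
   .loop none [.bwd 1126, .fwd 28446, .bwd 6299],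
   .loop none [.bwd 28934],
   .loop none [.fwd 28616, .bwd 26692, .fwd 28448, .bwd 26614],
   .loop none [.fwd 28936],
   .loop none [.fwd 15677, .fwd 28451, .bwd 26831],
   .loop none [.fwd 28938],
   .loop none [.fwd 26623, .fwd 28451, .fwd 26696],
   .loop none [.fwd 28940],
   .loop none [.fwd 28903, .bwd 20480, .fwd 28453, .fwd 26905],
   .loop none [.fwd 28942],
   .loop none [.fwd 11261, .fwd 28453, .fwd 20470],
   .loop none [.fwd 28944],
   .loop none [.fwd 28907, .fwd 28455],
   .loop none [.fwd 7, .bwd 28946, .bwd 26727, .bwd 28896],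
   .loop none [.fwd 28947],
   .loop none [.fwd 9027, .fwd 28460, .bwd 9058],
   .loop none [.fwd 28949],
   .loop none [.bwd 3552, .fwd 28460, .fwd 3587],
   .loop none [.fwd 28951],
   .loop none [.bwd 9044, .fwd 28460, .fwd 9060],
   .loop none [.fwd 28953],
   .loop none [.fwd 10927, .fwd 28460, .bwd 14775],
   .loop none [.fwd 28955],
   .loop none [.bwd 11212, .fwd 28460, .fwd 9063],
   .loop none [.bwd 28957],
   .loop none [.fwd 28649, .bwd 11703, .fwd 28462, .fwd 22510],
   .loop none [.fwd 28959],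
   .loop none [.fwd 12247, .fwd 28462, .bwd 24147],
   .loop none [.fwd 28961],
   .loop none [.bwd 14203, .fwd 28462, .bwd 20491],
   .loop none [.bwd 28963],
   .loop none [.bwd 11256, .fwd 28462, .fwd 27637],
   .loop none [.fwd 28965],
   .loop none [.fwd 28641, .fwd 11248, .fwd 28462, .bwd 27202],
   .loop none [.fwd 28967],
   .loop none [.fwd 10500, .fwd 28462, .bwd 23582],
   .loop none [.fwd 28969],
   .loop none [.bwd 1005, .fwd 28465, .bwd 26477],
   .loop none [.fwd 28971],
   .loop none [.bwd 26340, .fwd 28467, .bwd 8840],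
   .loop none [.bwd 28973],
   .loop none [.fwd 2368, .fwd 28467, .fwd 2907],
   .loop none [.fwd 28975],
   .loop none [.fwd 2906, .bwd 28467],
   .loop none [.bwd 26467, .fwd 28467, .fwd 2933, .bwd 28976],
   .loop none [.bwd 28978],
   .loop none [.fwd 26342, .fwd 28467, .fwd 8839],
   .loop none [.bwd 28980],
   .loop none [.bwd 26470, .fwd 28467, .bwd 11058],
   .loop none [.bwd 28982],
   .loop none [.fwd 1289, .fwd 28471, .bwd 6519],
   .loop none [.fwd 28984],
   .loop none [.fwd 1498, .fwd 28471, .bwd 8133],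
   .loop none [.fwd 28986],
   .loop none [.fwd 224, .fwd 28474, .fwd 2585],
   .loop none [.fwd 28988],
   .loop none [.fwd 1431, .fwd 28476, .fwd 26900],
   .loop none [.fwd 28990],
   .loop none [.fwd 28928, .fwd 28491, .fwd 28481],
   .loop none [.fwd 20553, .bwd 28992, .bwd 26738, .bwd 28534],
   .loop none [.bwd 28993],
   .loop none [.bwd 7942, .bwd 28992, .bwd 26949, .bwd 28863],
   .loop none [.fwd 28995],
   .loop none [.bwd 7943, .bwd 28992, .bwd 26743, .bwd 28614],
   .loop none [.fwd 28997],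
   .loop none [.fwd 7976, .bwd 28992, .bwd 26741, .bwd 28489]]

theorem just115_len : just115.length = 250 := by decide +kernel

theorem just115_ok : cert.okFacts 28750 just115 = true := by decide +kernel

/-- justifications -/
noncomputable def just116 : List Cert.Just :=
  [.loop none [.fwd 28999],
   .loop none [.fwd 28930, .fwd 28487, .fwd 28483],
   .loop none [.fwd 20504, .bwd 29001, .bwd 26832, .bwd 28522],
   .loop none [.bwd 29002],
   .loop none [.bwd 4558, .bwd 29001, .bwd 26833, .bwd 28851],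
   .loop none [.fwd 29004],
   .loop none [.fwd 5128, .bwd 29001, .bwd 26834, .bwd 28937],
   .loop none [.fwd 29006],
   .loop none [.fwd 29007, .fwd 28616],
   .loop none [.bwd 12653, .fwd 28485, .fwd 26839],
   .loop none [.fwd 29009],
   .loop none [.fwd 28930, .fwd 28487],
   .loop none [.fwd 7953, .bwd 29011, .fwd 14120],
   .loop none [.fwd 29012],
   .loop none [.bwd 8075, .bwd 29011, .fwd 8720],
   .loop none [.fwd 29014],
   .loop none [.bwd 17594, .bwd 29011, .fwd 17882],
   .loop none [.bwd 29016],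
   .loop none [.fwd 29000, .fwd 28489],
   .loop none [.fwd 20536, .bwd 29018, .bwd 8725, .bwd 28532],
   .loop none [.bwd 29019],
   .loop none [.bwd 4551, .bwd 29018, .bwd 8727, .bwd 28861],
   .loop none [.fwd 29021],
   .loop none [.fwd 5121, .bwd 29018, .bwd 26788, .bwd 28941],
   .loop none [.fwd 29023],
   .loop none [.fwd 7897, .bwd 29018, .bwd 26786, .bwd 29010],
   .loop none [.fwd 29025],
   .loop none [.fwd 28780, .fwd 28778],
   .loop none [.bwd 994, .fwd 28493, .fwd 12642],
   .loop none [.fwd 29028],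
   .loop none [.fwd 948, .fwd 28493, .fwd 5331],
   .loop none [.fwd 29030],
   .loop none [.fwd 7405, .fwd 28493, .fwd 6343],
   .loop none [.bwd 29032],
   .loop none [.bwd 1096, .fwd 28493, .fwd 7432],
   .loop none [.fwd 29034],
   .loop none [.fwd 28935, .fwd 28495],
   .loop none [.fwd 579, .bwd 29036, .fwd 27712],
   .loop none [.fwd 29037],
   .loop none [.fwd 8013, .fwd 28499, .fwd 26624],
   .loop none [.fwd 29039],
   .loop none [.bwd 1494, .bwd 28789, .bwd 26377, .bwd 29038],
   .loop none [.bwd 29041],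
   .loop none [.fwd 12168, .fwd 28505, .fwd 12171],
   .loop none [.fwd 29043],
   .loop none [.fwd 28784, .fwd 28509],
   .loop none [.bwd 29045, .bwd 26462, .fwd 28507, .bwd 19070],
   .loop none [.fwd 29046],
   .loop none [.fwd 28511, .bwd 26466, .fwd 28507, .fwd 18547],
   .loop none [.fwd 29048],
   .loop none [.fwd 28516, .fwd 26469, .fwd 28507, .bwd 19225],
   .loop none [.bwd 29050],
   .loop none [.fwd 28518, .bwd 27745, .fwd 28507, .fwd 24209],
   .loop none [.fwd 29052],
   .loop none [.fwd 20281, .bwd 29045, .bwd 27743],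
   .loop none [.fwd 29054],
   .loop none [.fwd 29055, .fwd 22521, .fwd 28513, .bwd 16484],
   .loop none [.bwd 29056],
   .loop none [.fwd 24893, .bwd 28513],
   .loop none [.bwd 27742, .fwd 28513, .fwd 19585],
   .loop none [.bwd 29059],
   .loop none [.fwd 29051, .fwd 28516],
   .loop none [.bwd 19224, .bwd 29061, .bwd 26468, .bwd 28981],
   .loop none [.bwd 29062],
   .loop none [.fwd 19132, .bwd 29061, .fwd 27744, .bwd 28717],
   .loop none [.fwd 29064],
   .loop none [.fwd 3527, .bwd 28668, .fwd 23353, .bwd 28964],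
   .loop none [.fwd 29066],
   .loop none [.bwd 5713, .bwd 28668, .bwd 23486],
   .loop none [.fwd 29068],
   .loop none [.fwd 28645, .fwd 10955, .bwd 28668, .bwd 25351],
   .loop none [.fwd 29070],
   .loop none [.fwd 12162, .fwd 28526, .fwd 23240],
   .loop none [.fwd 29072],
   .loop none [.fwd 14345, .fwd 28526, .bwd 18539],
   .loop none [.fwd 29074],
   .loop none [.fwd 18417, .fwd 28528, .fwd 16489],
   .loop none [.fwd 29076],
   .loop none [.fwd 9579, .fwd 28528, .bwd 19507],
   .loop none [.fwd 29078],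
   .loop none [.fwd 9583, .fwd 28530, .bwd 11488],
   .loop none [.fwd 29080],
   .loop none [.fwd 18290, .fwd 28530, .bwd 25131],
   .loop none [.fwd 29082],
   .loop none [.bwd 8457, .fwd 28643, .bwd 14334, .bwd 28534],
   .loop none [.fwd 29084],
   .loop none [.fwd 29085, .fwd 28534],
   .loop none [.fwd 23735, .bwd 29086, .bwd 25326],
   .loop none [.fwd 29087],
   .loop none [.fwd 29042, .fwd 28536],
   .loop none [.bwd 579, .bwd 29089, .fwd 26662, .bwd 28546],
   .loop none [.fwd 29090],
   .loop none [.bwd 11057, .fwd 28538, .bwd 8717, .bwd 28643],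
   .loop none [.bwd 29092],
   .loop none [.bwd 7874, .fwd 28538, .bwd 15475],
   .loop none [.fwd 29094],
   .loop none [.fwd 9541, .fwd 28538, .bwd 18722],
   .loop none [.fwd 29096],
   .loop none [.bwd 13827, .fwd 28538, .fwd 17881],
   .loop none [.bwd 29098],
   .loop none [.fwd 29085, .fwd 28540],
   .loop none [.fwd 5569, .bwd 29100, .fwd 26652, .bwd 29040],
   .loop none [.bwd 29101],
   .loop none [.bwd 8467, .bwd 29100, .fwd 26842, .bwd 28553],
   .loop none [.fwd 29103],
   .loop none [.fwd 29097, .fwd 28542],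
   .loop none [.fwd 5903, .bwd 29105, .fwd 26648],
   .loop none [.fwd 29106],
   .loop none [.bwd 1110, .fwd 28544, .fwd 2504],
   .loop none [.fwd 29108],
   .loop none [.fwd 8426, .fwd 28544, .bwd 18296],
   .loop none [.fwd 29110],
   .loop none [.bwd 8026, .fwd 28544, .fwd 17879],
   .loop none [.bwd 29112],
   .loop none [.bwd 12173, .fwd 28549, .fwd 18503],
   .loop none [.fwd 29114],
   .loop none [.bwd 14816, .fwd 28549, .bwd 18549],
   .loop none [.fwd 29116],
   .loop none [.fwd 15193, .fwd 28549, .bwd 25424],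
   .loop none [.fwd 29118],
   .loop none [.fwd 1643, .fwd 28551, .fwd 23414],
   .loop none [.fwd 29120],
   .loop none [.bwd 13006, .fwd 28551, .fwd 16443],
   .loop none [.fwd 29122],
   .loop none [.bwd 15208, .fwd 28551, .fwd 19550],
   .loop none [.fwd 29124],
   .loop none [.bwd 515, .fwd 28555, .fwd 26153],
   .loop none [.fwd 29126],
   .loop none [.fwd 29111, .fwd 28557],
   .loop none [.fwd 1868, .bwd 29128, .fwd 26829],
   .loop none [.fwd 29129],
   .loop none [.fwd 28872, .fwd 28567],
   .loop none [.bwd 28761, .fwd 28562, .fwd 6317],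
   .loop none [.bwd 29132],
   .loop none [.fwd 377, .fwd 28562, .bwd 535],
   .loop none [.fwd 29134],
   .loop none [.bwd 378, .fwd 28562, .fwd 536],
   .loop none [.fwd 29136],
   .loop none [.fwd 28582, .bwd 6046, .fwd 28562, .fwd 6321],
   .loop none [.fwd 29138],
   .loop none [.bwd 6201, .fwd 28562, .fwd 6323],
   .loop none [.fwd 29140],
   .loop none [.fwd 354, .bwd 28933, .fwd 5728],
   .loop none [.bwd 29142],
   .loop none [.fwd 1926, .fwd 28933],
   .loop none [.bwd 5727, .bwd 28933, .bwd 1010, .fwd 29027],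
   .loop none [.bwd 29145],
   .loop none [.fwd 1929, .bwd 28933, .fwd 5734],
   .loop none [.bwd 29147],
   .loop none [.fwd 7572, .bwd 28933, .bwd 7684, .bwd 28935],
   .loop none [.bwd 29149],
   .loop none [.bwd 5838, .bwd 28933, .fwd 8001],
   .loop none [.bwd 29151],
   .loop none [.fwd 1258, .bwd 29131, .bwd 247, .bwd 28578],
   .loop none [.fwd 29153],
   .loop none [.fwd 7415, .fwd 29131],
   .loop none [.fwd 5300, .fwd 29131],
   .loop none [.bwd 29155, .fwd 28569, .bwd 7419],
   .loop none [.fwd 29157],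
   .loop none [.fwd 29154, .fwd 28578],
   .loop none [.fwd 2239, .bwd 28575],
   .loop none [.bwd 3973, .bwd 28575],
   .loop none [.bwd 8136, .bwd 28575],
   .loop none [.bwd 29160, .bwd 29159, .bwd 246],
   .loop none [.fwd 29163],
   .loop none [.fwd 1283, .bwd 29159, .fwd 3700, .bwd 28750],
   .loop none [.fwd 29165],
   .loop none [.fwd 4740, .fwd 28582, .fwd 514],
   .loop none [.fwd 29167],
   .loop none [.fwd 6046, .bwd 28582],
   .loop none [.bwd 5793, .fwd 28582, .fwd 7244],
   .loop none [.bwd 29170],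
   .loop none [.fwd 28661, .bwd 28593, .fwd 28586, .bwd 18425],
   .loop none [.fwd 29172],
   .loop none [.fwd 6378, .fwd 28586, .bwd 12022],
   .loop none [.fwd 29174],
   .loop none [.bwd 28599, .fwd 28586, .bwd 11236],
   .loop none [.fwd 29176],
   .loop none [.fwd 585, .fwd 28588, .bwd 4765],
   .loop none [.fwd 29178],
   .loop none [.bwd 7372, .bwd 28588],
   .loop none [.fwd 558, .bwd 28590],
   .loop none [.fwd 590, .fwd 28590, .fwd 559],
   .loop none [.fwd 29182],
   .loop none [.bwd 9601, .bwd 28592],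
   .loop none [.fwd 14879, .bwd 28595],
   .loop none [.bwd 12067, .bwd 28595],
   .loop none [.fwd 28920, .fwd 28598, .bwd 27204],
   .loop none [.fwd 29187],
   .loop none [.bwd 23277, .bwd 28598],
   .loop none [.fwd 28958, .bwd 28600, .fwd 28598, .bwd 25352],
   .loop none [.fwd 29190],
   .loop none [.fwd 28972, .bwd 26135, .fwd 28603, .fwd 16977],
   .loop none [.fwd 29192],
   .loop none [.fwd 28974, .bwd 26340, .fwd 28603, .bwd 17873],
   .loop none [.bwd 29194],
   .loop none [.fwd 29195, .fwd 28974],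
   .loop none [.fwd 28948, .fwd 28896],
   .loop none [.bwd 26456, .fwd 28610, .fwd 27279, .bwd 29195],
   .loop none [.bwd 29198],
   .loop none [.fwd 13330, .fwd 28612, .bwd 26649, .bwd 29107],
   .loop none [.bwd 29200],
   .loop none [.fwd 29102, .fwd 28998, .fwd 28614],
   .loop none [.fwd 29085, .fwd 28994],
   .loop none [.bwd 29203, .fwd 20553, .bwd 29202, .fwd 27691, .bwd 29075],
   .loop none [.fwd 29204],
   .loop none [.bwd 8013, .bwd 29202, .bwd 26742, .bwd 29095],
   .loop none [.fwd 29206],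
   .loop none [.fwd 5508, .bwd 29008, .bwd 27176],
   .loop none [.fwd 29208],
   .loop none [.bwd 5127, .bwd 29008, .fwd 26751, .bwd 28888],
   .loop none [.fwd 29210],
   .loop none [.fwd 5896, .bwd 29008, .bwd 26753],
   .loop none [.fwd 29212],
   .loop none [.fwd 29207, .fwd 29095],
   .loop none [.bwd 5669, .bwd 29008, .fwd 26791, .bwd 28618],
   .loop none [.fwd 29215],
   .loop none [.fwd 29216, .fwd 28618],
   .loop none [.bwd 5630, .bwd 29217, .fwd 27165],
   .loop none [.fwd 29218],
   .loop none [.fwd 6769, .bwd 29217, .bwd 26782],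
   .loop none [.fwd 29220],
   .loop none [.fwd 29024, .fwd 28941],
   .loop none [.fwd 29209, .fwd 28620],
   .loop none [.fwd 5507, .bwd 29223, .fwd 14154],
   .loop none [.fwd 29224],
   .loop none [.bwd 11396, .bwd 29223, .bwd 23637],
   .loop none [.fwd 29226],
   .loop none [.fwd 29148, .fwd 5945, .bwd 29223, .bwd 12181],
   .loop none [.fwd 29228],
   .loop none [.fwd 29219, .fwd 29117],
   .loop none [.fwd 23734, .bwd 29223, .bwd 14687],
   .loop none [.bwd 29231],
   .loop none [.fwd 319, .fwd 28622, .bwd 4126],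
   .loop none [.fwd 29233],
   .loop none [.fwd 29143, .fwd 28624],
   .loop none [.bwd 1036, .bwd 29235, .bwd 2503, .bwd 29234],
   .loop none [.bwd 29236],
   .loop none [.fwd 31, .bwd 29235, .bwd 7266],
   .loop none [.fwd 29238],
   .loop none [.fwd 1018, .bwd 29235, .bwd 2505, .bwd 29109],
   .loop none [.bwd 29240],
   .loop none [.fwd 6978, .bwd 29235, .bwd 7718],
   .loop none [.fwd 29242],
   .loop none [.fwd 9040, .fwd 28634, .fwd 9053],
   .loop none [.fwd 29244],
   .loop none [.fwd 12286, .fwd 28636, .fwd 12133, .bwd 28970],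
   .loop none [.bwd 29246],
   .loop none [.fwd 10602, .fwd 28636, .bwd 24148, .bwd 28962],
   .loop none [.fwd 29248]]

theorem just116_len : just116.length = 250 := by decide +kernel

theorem just116_ok : cert.okFacts 29000 just116 = true := by decide +kernel

/-- justifications -/
noncomputable def just117 : List Cert.Just :=
  [.loop none [.fwd 241, .fwd 28638, .bwd 6520, .bwd 28985],
   .loop none [.fwd 29250],
   .loop none [.bwd 6928, .fwd 28641, .bwd 23232],
   .loop none [.fwd 29252],
   .loop none [.bwd 3529, .fwd 28641, .bwd 10952],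
   .loop none [.fwd 29254],
   .loop none [.bwd 3517, .fwd 28641, .fwd 11246],
   .loop none [.fwd 29256],
   .loop none [.fwd 7200, .fwd 28641, .bwd 11244],
   .loop none [.fwd 29258],
   .loop none [.bwd 8449, .fwd 28643, .fwd 6035],
   .loop none [.bwd 29260],
   .loop none [.fwd 8458, .fwd 28643, .fwd 9585],
   .loop none [.fwd 29262],
   .loop none [.fwd 11753, .fwd 28643, .bwd 14561],
   .loop none [.fwd 29264],
   .loop none [.bwd 14277, .fwd 28643, .fwd 14337, .bwd 29097],
   .loop none [.bwd 29266],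
   .loop none [.bwd 9717, .fwd 28645, .fwd 12156],
   .loop none [.fwd 29268],
   .loop none [.fwd 7188, .fwd 28645, .bwd 10897],
   .loop none [.fwd 29270],
   .loop none [.fwd 12072, .fwd 28649, .bwd 11519],
   .loop none [.bwd 29272],
   .loop none [.bwd 9034, .fwd 28651, .fwd 11483],
   .loop none [.fwd 29274],
   .loop none [.fwd 12056, .fwd 28651, .bwd 11578],
   .loop none [.bwd 29276],
   .loop none [.bwd 14283, .fwd 28651, .fwd 12065],
   .loop none [.bwd 29278],
   .loop none [.fwd 8430, .fwd 28653, .bwd 10900],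
   .loop none [.fwd 29280],
   .loop none [.bwd 10438, .fwd 28653, .fwd 10925],
   .loop none [.bwd 29282],
   .loop none [.fwd 11200, .bwd 28653],
   .loop none [.bwd 12013, .bwd 28653],
   .loop none [.bwd 5840, .fwd 28655, .fwd 22472],
   .loop none [.fwd 29286],
   .loop none [.bwd 10129, .fwd 28655, .bwd 27659],
   .loop none [.fwd 29288],
   .loop none [.fwd 11395, .bwd 28655],
   .loop none [.bwd 10909, .bwd 28657],
   .loop none [.fwd 14861, .fwd 28659, .bwd 10878],
   .loop none [.bwd 29292],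
   .loop none [.bwd 12032, .fwd 28659, .fwd 12068],
   .loop none [.fwd 29294],
   .loop none [.fwd 28593, .bwd 28661],
   .loop none [.fwd 10865, .fwd 28661, .bwd 14878],
   .loop none [.fwd 29297],
   .loop none [.bwd 12052, .fwd 28661, .fwd 12061],
   .loop none [.bwd 29299],
   .loop none [.bwd 580, .fwd 28663, .fwd 12486],
   .loop none [.fwd 29301],
   .loop none [.bwd 1853, .fwd 28663, .fwd 12544],
   .loop none [.fwd 29303],
   .loop none [.bwd 10605, .fwd 28665, .fwd 652],
   .loop none [.bwd 29305],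
   .loop none [.bwd 10616, .fwd 28665, .fwd 704],
   .loop none [.bwd 29307],
   .loop none [.bwd 576, .bwd 28665],
   .loop none [.fwd 11237, .bwd 28665],
   .loop none [.bwd 7390, .bwd 28665],
   .loop none [.fwd 29259, .fwd 28966],
   .loop none [.fwd 10504, .bwd 28667],
   .loop none [.bwd 14279, .fwd 28667, .fwd 12055],
   .loop none [.bwd 29314],
   .loop none [.bwd 9683, .fwd 28670, .fwd 10296, .bwd 29081],
   .loop none [.bwd 29316],
   .loop none [.bwd 10576, .fwd 28670, .bwd 10295],
   .loop none [.bwd 29318],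
   .loop none [.fwd 29166, .fwd 28750],
   .loop none [.fwd 2197, .bwd 28681],
   .loop none [.fwd 99, .bwd 28681],
   .loop none [.bwd 100, .bwd 28681],
   .loop none [.fwd 2114, .fwd 28681, .bwd 2174],
   .loop none [.fwd 29324],
   .loop none [.bwd 2274, .bwd 28681],
   .loop none [.fwd 8515, .fwd 28684, .fwd 25928],
   .loop none [.fwd 29327],
   .loop none [.bwd 2151, .fwd 28684, .bwd 2292],
   .loop none [.fwd 29329],
   .loop none [.fwd 113, .fwd 28687, .fwd 1351, .bwd 29251],
   .loop none [.fwd 29331],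
   .loop none [.fwd 868, .bwd 28687],
   .loop none [.fwd 28977, .fwd 28687, .bwd 4352],
   .loop none [.fwd 29334],
   .loop none [.bwd 7824, .bwd 28687],
   .loop none [.fwd 8531, .bwd 28690],
   .loop none [.fwd 28704, .fwd 26137, .fwd 28690, .fwd 8859],
   .loop none [.fwd 29338],
   .loop none [.fwd 28804, .fwd 28706],
   .loop none [.bwd 2971, .bwd 28692],
   .loop none [.bwd 2234, .bwd 28692],
   .loop none [.fwd 28736, .fwd 3011, .fwd 28692, .bwd 2963],
   .loop none [.bwd 29343],
   .loop none [.fwd 29344, .fwd 28736],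
   .loop none [.bwd 8534, .fwd 28694, .fwd 8568],
   .loop none [.fwd 29346],
   .loop none [.fwd 28694, .fwd 8571, .fwd 28694, .bwd 9617, .bwd 28913],
   .loop none [.fwd 29348],
   .loop none [.fwd 29349, .fwd 28915],
   .loop none [.bwd 8575, .bwd 28732, .fwd 26134, .bwd 29328],
   .loop none [.bwd 29351],
   .loop none [.fwd 26053, .fwd 28732],
   .loop none [.fwd 25312, .fwd 28699, .bwd 18864],
   .loop none [.bwd 29354],
   .loop none [.bwd 26335, .fwd 28699, .fwd 8855],
   .loop none [.bwd 29356],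
   .loop none [.fwd 26339, .bwd 28702],
   .loop none [.bwd 26137, .bwd 28704],
   .loop none [.fwd 26347, .fwd 29340],
   .loop none [.fwd 26343, .bwd 28708],
   .loop none [.fwd 28776, .fwd 8106, .fwd 28711, .bwd 2911],
   .loop none [.bwd 29362],
   .loop none [.bwd 24210, .bwd 28715],
   .loop none [.fwd 29349, .fwd 28913],
   .loop none [.bwd 2151, .fwd 28721, .bwd 25930],
   .loop none [.fwd 29366],
   .loop none [.bwd 11180, .fwd 28724, .fwd 27278],
   .loop none [.fwd 29368],
   .loop none [.fwd 29367, .fwd 28754],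
   .loop none [.fwd 17927, .bwd 28728],
   .loop none [.fwd 18868, .fwd 28728, .bwd 25416],
   .loop none [.fwd 29372],
   .loop none [.bwd 13764, .fwd 28730, .fwd 16132],
   .loop none [.fwd 29374],
   .loop none [.fwd 3059, .bwd 28734],
   .loop none [.fwd 29355, .fwd 25312, .fwd 28734, .bwd 8288],
   .loop none [.bwd 29377],
   .loop none [.fwd 29357, .bwd 26335, .fwd 28734, .fwd 22531],
   .loop none [.fwd 29379],
   .loop none [.fwd 8559, .bwd 29345, .fwd 8522],
   .loop none [.bwd 29381],
   .loop none [.bwd 3011, .fwd 29345],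
   .loop none [.fwd 8551, .fwd 29345],
   .loop none [.fwd 18870, .bwd 29345, .bwd 8289],
   .loop none [.bwd 29385],
   .loop none [.bwd 8857, .bwd 29345, .fwd 17929],
   .loop none [.fwd 29387],
   .loop none [.bwd 8562, .bwd 28738],
   .loop none [.fwd 18867, .fwd 28738, .bwd 17723],
   .loop none [.bwd 29390],
   .loop none [.bwd 11180, .fwd 28738, .fwd 17928],
   .loop none [.fwd 29392],
   .loop none [.bwd 1645, .fwd 28740, .fwd 24278],
   .loop none [.fwd 29394],
   .loop none [.bwd 29365, .fwd 28742],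
   .loop none [.bwd 2151, .bwd 29396, .bwd 26143],
   .loop none [.fwd 29397],
   .loop none [.fwd 3582, .fwd 28744, .fwd 12593],
   .loop none [.fwd 29399],
   .loop none [.bwd 7893, .fwd 28744, .bwd 12592],
   .loop none [.fwd 29401],
   .loop none [.bwd 8550, .fwd 28744, .fwd 14218],
   .loop none [.fwd 29403],
   .loop none [.fwd 8555, .fwd 28744, .bwd 14252],
   .loop none [.bwd 29405],
   .loop none [.fwd 29332, .fwd 29251],
   .loop none [.fwd 1274, .fwd 28747, .fwd 4323],
   .loop none [.fwd 29408],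
   .loop none [.fwd 291, .fwd 28747, .bwd 4029],
   .loop none [.fwd 29410],
   .loop none [.fwd 4794, .fwd 28747, .bwd 7463],
   .loop none [.fwd 29412],
   .loop none [.bwd 2104, .fwd 28747, .bwd 6534],
   .loop none [.fwd 29414],
   .loop none [.bwd 2107, .bwd 29320, .fwd 20742],
   .loop none [.fwd 29416],
   .loop none [.fwd 2102, .bwd 29320, .fwd 3718],
   .loop none [.fwd 29418],
   .loop none [.bwd 8144, .fwd 29320],
   .loop none [.fwd 2112, .fwd 28752, .fwd 4345],
   .loop none [.fwd 29421],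
   .loop none [.fwd 8526, .bwd 29370, .bwd 26039, .bwd 29398],
   .loop none [.bwd 29423],
   .loop none [.bwd 2388, .bwd 28759],
   .loop none [.bwd 1499, .fwd 28763, .fwd 25848],
   .loop none [.fwd 29426],
   .loop none [.bwd 1444, .fwd 28763, .fwd 3507],
   .loop none [.fwd 29428],
   .loop none [.fwd 28774, .fwd 28765],
   .loop none [.fwd 1433, .bwd 29430, .fwd 27173, .bwd 28894],
   .loop none [.fwd 29431],
   .loop none [.fwd 4824, .bwd 29430, .fwd 2875],
   .loop none [.bwd 29433],
   .loop none [.fwd 13830, .fwd 28767, .fwd 24349],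
   .loop none [.fwd 29435],
   .loop none [.bwd 8261, .fwd 28767, .fwd 14995],
   .loop none [.fwd 29437],
   .loop none [.bwd 1006, .fwd 28769, .fwd 12648],
   .loop none [.fwd 29439],
   .loop none [.fwd 8264, .fwd 28769, .fwd 14157],
   .loop none [.fwd 29441],
   .loop none [.fwd 29049, .bwd 17918, .fwd 28772, .bwd 20578],
   .loop none [.fwd 29443],
   .loop none [.bwd 1345, .fwd 28774, .fwd 2812],
   .loop none [.fwd 29445],
   .loop none [.fwd 29434, .fwd 4824, .fwd 28774, .bwd 2867],
   .loop none [.bwd 29447],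
   .loop none [.fwd 29448, .fwd 29434],
   .loop none [.fwd 4861, .fwd 28774, .bwd 8832],
   .loop none [.bwd 29450],
   .loop none [.fwd 8219, .fwd 28774, .bwd 23657],
   .loop none [.fwd 29452],
   .loop none [.bwd 8109, .fwd 28774, .fwd 27143],
   .loop none [.fwd 29454],
   .loop none [.fwd 1000, .fwd 29027],
   .loop none [.fwd 29042, .fwd 28819],
   .loop none [.fwd 29281, .bwd 5976, .bwd 29027, .fwd 20162],
   .loop none [.fwd 29458],
   .loop none [.fwd 1644, .bwd 29027, .bwd 1016],
   .loop none [.bwd 29460],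
   .loop none [.fwd 29168, .bwd 1493, .fwd 28780, .fwd 2051],
   .loop none [.fwd 29462],
   .loop none [.fwd 29281, .bwd 5976, .fwd 28780, .fwd 12150],
   .loop none [.fwd 29464],
   .loop none [.fwd 29461, .fwd 1644, .fwd 28780, .fwd 2056],
   .loop none [.bwd 29466],
   .loop none [.fwd 29035, .fwd 7670, .fwd 28780, .bwd 7741, .bwd 28815],
   .loop none [.bwd 29468],
   .loop none [.bwd 21391, .fwd 28782, .fwd 21119],
   .loop none [.fwd 29470],
   .loop none [.bwd 13884, .fwd 28782, .bwd 21128],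
   .loop none [.fwd 29472],
   .loop none [.fwd 17709, .fwd 28782, .bwd 21121],
   .loop none [.fwd 29474],
   .loop none [.bwd 20265, .fwd 28784, .fwd 5987],
   .loop none [.bwd 29476],
   .loop none [.bwd 2067, .fwd 29463, .bwd 1590, .bwd 28784],
   .loop none [.fwd 29478],
   .loop none [.fwd 29479, .fwd 28784],
   .loop none [.fwd 10410, .bwd 29480, .bwd 15482],
   .loop none [.fwd 29481],
   .loop none [.fwd 7188, .bwd 29480, .bwd 15506],
   .loop none [.fwd 29483],
   .loop none [.fwd 29067, .fwd 11262, .bwd 29480, .bwd 8277],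
   .loop none [.fwd 29485],
   .loop none [.fwd 26332, .bwd 28787],
   .loop none [.bwd 26333, .fwd 28791, .bwd 16350],
   .loop none [.bwd 29488],
   .loop none [.fwd 29482, .fwd 29057],
   .loop none [.bwd 29490, .fwd 29055],
   .loop none [.bwd 376, .bwd 28793],
   .loop none [.fwd 8453, .fwd 29479, .fwd 20276, .bwd 28795],
   .loop none [.fwd 29493],
   .loop none [.fwd 29494, .fwd 28795],
   .loop none [.bwd 9020, .bwd 29495, .bwd 22551, .bwd 29444],
   .loop none [.fwd 29496],
   .loop none [.fwd 9021, .bwd 29495, .bwd 22773],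
   .loop none [.fwd 29498]]

theorem just117_len : just117.length = 250 := by decide +kernel

theorem just117_ok : cert.okFacts 29250 just117 = true := by decide +kernel

/-- justifications -/
noncomputable def just118 : List Cert.Just :=
  [.loop none [.fwd 29285, .bwd 29495, .bwd 23935],
   .loop none [.fwd 29500],
   .loop none [.fwd 29065, .fwd 28800],
   .loop none [.bwd 19132, .bwd 29502, .bwd 22771, .bwd 29499],
   .loop none [.bwd 29503],
   .loop none [.fwd 29373, .bwd 24153, .bwd 29502, .fwd 25148],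
   .loop none [.bwd 29505],
   .loop none [.bwd 7752, .fwd 28802, .bwd 16286],
   .loop none [.fwd 29507],
   .loop none [.bwd 13764, .fwd 28802, .bwd 24332],
   .loop none [.fwd 29509],
   .loop none [.bwd 8279, .fwd 28802, .bwd 17710],
   .loop none [.fwd 29511],
   .loop none [.fwd 7763, .fwd 28804, .bwd 13888],
   .loop none [.fwd 29513],
   .loop none [.bwd 16302, .fwd 28804, .fwd 21288],
   .loop none [.fwd 29515],
   .loop none [.fwd 19260, .bwd 28807],
   .loop none [.fwd 29497, .fwd 29049],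
   .loop none [.bwd 19312, .bwd 28807],
   .loop none [.fwd 861, .fwd 28809, .bwd 13755],
   .loop none [.fwd 29520],
   .loop none [.bwd 949, .fwd 28809, .fwd 15749],
   .loop none [.fwd 29522],
   .loop none [.fwd 8563, .bwd 28809],
   .loop none [.fwd 1551, .bwd 28811],
   .loop none [.fwd 790, .fwd 28811, .fwd 10970],
   .loop none [.fwd 29526],
   .loop none [.bwd 6903, .fwd 29479, .bwd 7713, .bwd 28811],
   .loop none [.fwd 29528],
   .loop none [.fwd 29529, .fwd 28811],
   .loop none [.fwd 29308, .bwd 10616, .bwd 29530, .fwd 13512],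
   .loop none [.fwd 29531],
   .loop none [.fwd 29295, .fwd 10615, .bwd 29530, .bwd 13522, .bwd 29386],
   .loop none [.fwd 29533],
   .loop none [.fwd 29534, .fwd 29386],
   .loop none [.fwd 29300, .fwd 10622, .bwd 29530, .bwd 13882, .bwd 29391],
   .loop none [.fwd 29536],
   .loop none [.bwd 29310, .bwd 29530, .bwd 22527],
   .loop none [.bwd 29538],
   .loop none [.bwd 1477, .fwd 28813, .fwd 6357],
   .loop none [.fwd 29540],
   .loop none [.fwd 7683, .fwd 28813, .bwd 7567],
   .loop none [.bwd 29542],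
   .loop none [.bwd 941, .fwd 28815, .fwd 13745],
   .loop none [.fwd 29544],
   .loop none [.fwd 933, .fwd 28815, .fwd 6331],
   .loop none [.fwd 29546],
   .loop none [.fwd 1916, .fwd 28815, .bwd 8130, .bwd 29239],
   .loop none [.bwd 29548],
   .loop none [.bwd 768, .fwd 28817, .fwd 7494],
   .loop none [.bwd 29550],
   .loop none [.fwd 26, .fwd 28817, .fwd 682],
   .loop none [.fwd 29552],
   .loop none [.bwd 757, .fwd 28817, .fwd 7500, .bwd 29553],
   .loop none [.bwd 29554],
   .loop none [.fwd 7056, .fwd 28817, .bwd 8311],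
   .loop none [.fwd 29556],
   .loop none [.fwd 29469, .fwd 29035],
   .loop none [.bwd 689, .bwd 29457, .fwd 13506],
   .loop none [.fwd 29559],
   .loop none [.bwd 640, .bwd 29457, .fwd 7512],
   .loop none [.fwd 29561],
   .loop none [.bwd 221, .bwd 28889, .bwd 27041],
   .loop none [.fwd 29563],
   .loop none [.bwd 290, .fwd 28830, .fwd 26978],
   .loop none [.fwd 29565],
   .loop none [.bwd 293, .fwd 28830, .bwd 26800, .bwd 29564],
   .loop none [.bwd 29567],
   .loop none [.bwd 222, .fwd 28830, .fwd 26981],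
   .loop none [.fwd 29569],
   .loop none [.fwd 3382, .fwd 28830, .fwd 26982],
   .loop none [.fwd 29571],
   .loop none [.fwd 3388, .fwd 28830, .bwd 26990],
   .loop none [.fwd 29573],
   .loop none [.fwd 224, .fwd 28835, .bwd 2749],
   .loop none [.fwd 29575],
   .loop none [.fwd 224, .fwd 28840, .fwd 27089],
   .loop none [.fwd 29577],
   .loop none [.bwd 135, .bwd 28842],
   .loop none [.fwd 200, .fwd 28842, .fwd 144],
   .loop none [.fwd 29580],
   .loop none [.fwd 29446, .fwd 2813, .fwd 28845, .fwd 2863],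
   .loop none [.fwd 29582],
   .loop none [.fwd 2862, .bwd 28845],
   .loop none [.fwd 4605, .fwd 29583, .bwd 2901, .bwd 28845],
   .loop none [.fwd 29585],
   .loop none [.fwd 29586, .fwd 28845],
   .loop none [.fwd 8102, .bwd 29587, .bwd 8824],
   .loop none [.bwd 29588],
   .loop none [.fwd 8225, .bwd 29587, .bwd 25031, .bwd 29287],
   .loop none [.bwd 29590],
   .loop none [.bwd 8123, .bwd 29587, .fwd 14145],
   .loop none [.fwd 29592],
   .loop none [.fwd 28996, .fwd 28863, .fwd 28849],
   .loop none [.bwd 1429, .bwd 29594, .bwd 27015],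
   .loop none [.fwd 29595],
   .loop none [.fwd 29005, .fwd 28851],
   .loop none [.fwd 4545, .bwd 29597, .bwd 26906, .bwd 28943],
   .loop none [.fwd 29598],
   .loop none [.bwd 8067, .fwd 28853, .fwd 27555, .bwd 29566],
   .loop none [.bwd 29600],
   .loop none [.fwd 29599, .fwd 28903],
   .loop none [.fwd 22474, .fwd 28853, .fwd 27554],
   .loop none [.fwd 29603],
   .loop none [.fwd 292, .fwd 28855, .bwd 2674],
   .loop none [.fwd 29605],
   .loop none [.fwd 275, .fwd 28855, .bwd 2590],
   .loop none [.fwd 29607],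
   .loop none [.fwd 3388, .fwd 28855, .bwd 8754],
   .loop none [.fwd 29609],
   .loop none [.fwd 8252, .fwd 28855, .bwd 15028],
   .loop none [.fwd 29611],
   .loop none [.fwd 3349, .fwd 28855, .fwd 26898],
   .loop none [.fwd 29613],
   .loop none [.fwd 29593, .fwd 28857],
   .loop none [.bwd 4546, .bwd 29615, .fwd 26803],
   .loop none [.fwd 29616],
   .loop none [.fwd 29005, .fwd 28859],
   .loop none [.fwd 7983, .bwd 29618, .bwd 25268],
   .loop none [.fwd 29619],
   .loop none [.fwd 29022, .fwd 28861],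
   .loop none [.bwd 29449, .fwd 4822, .bwd 29621, .bwd 22465, .bwd 28945],
   .loop none [.fwd 29622],
   .loop none [.fwd 1430, .bwd 29621, .bwd 26838],
   .loop none [.fwd 29624],
   .loop none [.fwd 28996, .fwd 28863],
   .loop none [.fwd 29451, .fwd 4860, .bwd 29626, .bwd 27318, .bwd 29604],
   .loop none [.fwd 29627],
   .loop none [.fwd 1451, .fwd 28865, .bwd 7287],
   .loop none [.fwd 29629],
   .loop none [.fwd 4368, .fwd 28869, .fwd 26653],
   .loop none [.fwd 29631],
   .loop none [.fwd 134, .bwd 28872],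
   .loop none [.bwd 5441, .fwd 29253, .fwd 23349, .bwd 28874],
   .loop none [.fwd 29634],
   .loop none [.fwd 29635, .fwd 28874],
   .loop none [.fwd 3232, .bwd 29636, .fwd 20732],
   .loop none [.fwd 29637],
   .loop none [.fwd 4966, .bwd 29636, .bwd 25035],
   .loop none [.fwd 29639],
   .loop none [.fwd 9304, .bwd 29636, .bwd 25059],
   .loop none [.fwd 29641],
   .loop none [.fwd 4, .bwd 28878],
   .loop none [.fwd 29586, .fwd 28880],
   .loop none [.bwd 4600, .bwd 29644, .bwd 25866],
   .loop none [.fwd 29645],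
   .loop none [.fwd 29589, .fwd 8102, .bwd 29644, .bwd 27144],
   .loop none [.fwd 29647],
   .loop none [.fwd 29606, .fwd 28884],
   .loop none [.fwd 3273, .bwd 29649, .fwd 8800, .bwd 29576],
   .loop none [.bwd 29650],
   .loop none [.fwd 17, .bwd 28886],
   .loop none [.fwd 29211, .fwd 28888],
   .loop none [.bwd 323, .bwd 29653, .bwd 27030],
   .loop none [.fwd 29654],
   .loop none [.fwd 29601, .fwd 28892],
   .loop none [.bwd 2101, .bwd 29656, .bwd 22767, .bwd 28909],
   .loop none [.fwd 29657],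
   .loop none [.fwd 2090, .bwd 29656, .fwd 20739],
   .loop none [.fwd 29659],
   .loop none [.fwd 29432, .fwd 28894],
   .loop none [.fwd 1431, .bwd 29661, .fwd 26811],
   .loop none [.fwd 29662],
   .loop none [.fwd 28907, .fwd 28905],
   .loop none [.fwd 45, .bwd 29197, .bwd 26734, .fwd 29664],
   .loop none [.bwd 29665],
   .loop none [.bwd 8097, .fwd 28899, .bwd 22456, .bwd 29253],
   .loop none [.fwd 29667],
   .loop none [.fwd 29591, .fwd 29427],
   .loop none [.fwd 29628, .fwd 29604, .fwd 28901],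
   .loop none [.fwd 29655, .fwd 27038, .bwd 29670, .fwd 27098, .bwd 29632],
   .loop none [.fwd 29671],
   .loop none [.fwd 8120, .bwd 29602, .bwd 24146],
   .loop none [.fwd 29673],
   .loop none [.fwd 1345, .bwd 29602, .bwd 20480],
   .loop none [.fwd 29675],
   .loop none [.fwd 29589, .fwd 8115, .bwd 29602, .bwd 23445],
   .loop none [.fwd 29677],
   .loop none [.fwd 29658, .fwd 28909],
   .loop none [.bwd 2113, .bwd 29679, .bwd 25037, .bwd 28911],
   .loop none [.fwd 29680],
   .loop none [.fwd 2112, .bwd 29679, .fwd 20750],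
   .loop none [.fwd 29682],
   .loop none [.fwd 29681, .fwd 28911],
   .loop none [.fwd 2155, .bwd 29684, .bwd 22417, .bwd 29404],
   .loop none [.fwd 29685],
   .loop none [.bwd 8532, .fwd 29365],
   .loop none [.fwd 29337, .bwd 29365, .bwd 8595],
   .loop none [.fwd 29688],
   .loop none [.bwd 8507, .bwd 29365, .bwd 8863],
   .loop none [.fwd 29690],
   .loop none [.fwd 29681, .fwd 28917],
   .loop none [.fwd 8515, .bwd 29365, .bwd 8539, .bwd 29406],
   .loop none [.fwd 29693],
   .loop none [.bwd 8534, .bwd 29365, .fwd 9616],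
   .loop none [.fwd 29695],
   .loop none [.fwd 29424, .fwd 29402],
   .loop none [.bwd 8534, .bwd 29350, .bwd 14069],
   .loop none [.fwd 29698],
   .loop none [.fwd 22404, .fwd 29350],
   .loop none [.fwd 2155, .bwd 29692, .bwd 20670],
   .loop none [.fwd 29701],
   .loop none [.fwd 8527, .bwd 29692, .fwd 22427],
   .loop none [.fwd 29703],
   .loop none [.bwd 3173, .bwd 28919],
   .loop none [.fwd 9052, .bwd 28922],
   .loop none [.fwd 29689, .fwd 29188],
   .loop none [.fwd 29207, .fwd 28924],
   .loop none [.bwd 1124, .bwd 29708, .fwd 26643, .bwd 29007],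
   .loop none [.fwd 29709],
   .loop none [.bwd 1521, .fwd 28926, .bwd 26770],
   .loop none [.fwd 29711],
   .loop none [.bwd 7865, .fwd 28926, .fwd 26639],
   .loop none [.fwd 29713],
   .loop none [.fwd 29672, .fwd 28996],
   .loop none [.bwd 7944, .fwd 28928, .fwd 14121],
   .loop none [.fwd 29716],
   .loop none [.bwd 17595, .fwd 28928, .fwd 22454],
   .loop none [.bwd 29718],
   .loop none [.bwd 8079, .fwd 28932, .bwd 26798],
   .loop none [.fwd 29720],
   .loop none [.fwd 6960, .bwd 28935],
   .loop none [.fwd 29265, .fwd 29099],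
   .loop none [.fwd 1126, .bwd 28935],
   .loop none [.fwd 15676, .fwd 28939, .bwd 26830, .bwd 29130],
   .loop none [.bwd 29725],
   .loop none [.fwd 5673, .bwd 29222, .fwd 27174, .bwd 29044],
   .loop none [.fwd 29727],
   .loop none [.bwd 5120, .bwd 29222, .bwd 27036, .bwd 29663],
   .loop none [.fwd 29729],
   .loop none [.fwd 29730, .fwd 29022],
   .loop none [.fwd 29623, .fwd 28945],
   .loop none [.fwd 8781, .bwd 29732, .fwd 23581, .bwd 29660],
   .loop none [.bwd 29733],
   .loop none [.fwd 27169, .bwd 29732, .fwd 26907],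
   .loop none [.fwd 29735],
   .loop none [.fwd 29694, .fwd 29406],
   .loop none [.fwd 29298, .bwd 14197, .fwd 28950, .bwd 27324],
   .loop none [.fwd 29738],
   .loop none [.fwd 7576, .fwd 28952, .bwd 14851],
   .loop none [.fwd 29740],
   .loop none [.bwd 14195, .fwd 28952, .fwd 9064],
   .loop none [.bwd 29742],
   .loop none [.fwd 10948, .fwd 28954, .bwd 14850],
   .loop none [.fwd 29744],
   .loop none [.bwd 14198, .fwd 28954, .fwd 9066],
   .loop none [.bwd 29746],
   .loop none [.fwd 7226, .fwd 28956, .fwd 12232],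
   .loop none [.fwd 29748]]

theorem just118_len : just118.length = 250 := by decide +kernel

theorem just118_ok : cert.okFacts 29500 just118 = true := by decide +kernel

/-- justifications -/
noncomputable def just119 : List Cert.Just :=
  [.loop none [.fwd 12127, .bwd 28956],
   .loop none [.bwd 9765, .fwd 28956, .fwd 12233],
   .loop none [.fwd 29751],
   .loop none [.fwd 10917, .bwd 28958],
   .loop none [.bwd 7295, .fwd 28958, .bwd 12499],
   .loop none [.fwd 29754],
   .loop none [.fwd 10611, .bwd 28958],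
   .loop none [.bwd 8333, .fwd 28958, .fwd 12500],
   .loop none [.fwd 29757],
   .loop none [.fwd 29361, .fwd 29689, .fwd 11212, .bwd 28958],
   .loop none [.bwd 29759],
   .loop none [.fwd 28600, .bwd 28958],
   .loop none [.bwd 9068, .bwd 28960],
   .loop none [.fwd 29249, .fwd 28962],
   .loop none [.fwd 6930, .bwd 29763, .bwd 15651, .bwd 29674],
   .loop none [.fwd 29764],
   .loop none [.bwd 7197, .bwd 29312, .bwd 27636, .bwd 29678],
   .loop none [.bwd 29766],
   .loop none [.fwd 3524, .bwd 29312, .bwd 27200],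
   .loop none [.fwd 29768],
   .loop none [.bwd 3529, .fwd 28968, .fwd 25435],
   .loop none [.fwd 29770],
   .loop none [.bwd 7135, .fwd 28970, .bwd 27685, .bwd 29736],
   .loop none [.fwd 29772],
   .loop none [.bwd 10156, .fwd 28970, .fwd 12134],
   .loop none [.fwd 29774],
   .loop none [.fwd 1519, .fwd 28972, .bwd 26465],
   .loop none [.fwd 29776],
   .loop none [.fwd 26340, .fwd 29196],
   .loop none [.fwd 26467, .bwd 28979],
   .loop none [.bwd 26342, .bwd 28981],
   .loop none [.fwd 26470, .bwd 28983],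
   .loop none [.bwd 1032, .fwd 28987, .bwd 17618],
   .loop none [.fwd 29782],
   .loop none [.fwd 3373, .fwd 28989, .fwd 8756],
   .loop none [.fwd 29784],
   .loop none [.fwd 8967, .fwd 28989, .bwd 15032],
   .loop none [.fwd 29786],
   .loop none [.bwd 3465, .fwd 28989, .fwd 26972, .bwd 29642],
   .loop none [.fwd 29788],
   .loop none [.fwd 29789, .fwd 29642],
   .loop none [.fwd 29730, .fwd 28991],
   .loop none [.bwd 1404, .bwd 29791, .bwd 26886, .bwd 29625],
   .loop none [.fwd 29792],
   .loop none [.bwd 20235, .fwd 29203],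
   .loop none [.bwd 8477, .bwd 29203, .bwd 20234],
   .loop none [.fwd 29795],
   .loop none [.fwd 8473, .bwd 29203, .fwd 20555],
   .loop none [.fwd 29797],
   .loop none [.fwd 29104, .fwd 29003],
   .loop none [.fwd 8468, .bwd 29203, .fwd 20557, .bwd 29020],
   .loop none [.fwd 29800],
   .loop none [.fwd 23735, .bwd 29203, .bwd 23897, .bwd 29719],
   .loop none [.bwd 29802],
   .loop none [.bwd 18132, .bwd 29203, .fwd 24973],
   .loop none [.bwd 29804],
   .loop none [.fwd 5555, .bwd 29715, .bwd 22462, .bwd 29628],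
   .loop none [.bwd 29806],
   .loop none [.bwd 5002, .bwd 29715, .bwd 8744, .bwd 29610],
   .loop none [.bwd 29808],
   .loop none [.fwd 5513, .bwd 29715, .fwd 14135],
   .loop none [.fwd 29810],
   .loop none [.fwd 323, .bwd 29715, .bwd 2532, .bwd 29005],
   .loop none [.fwd 29812],
   .loop none [.fwd 6762, .bwd 29715, .bwd 27163],
   .loop none [.fwd 29814],
   .loop none [.fwd 29801, .fwd 29020],
   .loop none [.bwd 13828, .fwd 29000, .fwd 17884],
   .loop none [.bwd 29817],
   .loop none [.bwd 20244, .fwd 29799],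
   .loop none [.fwd 29232, .fwd 23734, .bwd 29799, .bwd 23896, .bwd 29017],
   .loop none [.bwd 29820],
   .loop none [.bwd 18126, .bwd 29799, .fwd 24974],
   .loop none [.bwd 29822],
   .loop none [.fwd 29813, .fwd 29005],
   .loop none [.bwd 4886, .bwd 29824, .bwd 8743, .bwd 29570],
   .loop none [.bwd 29825],
   .loop none [.fwd 5454, .bwd 29824, .fwd 14134],
   .loop none [.fwd 29827],
   .loop none [.bwd 7877, .fwd 29013, .fwd 14131, .bwd 29828],
   .loop none [.bwd 29829],
   .loop none [.fwd 7844, .fwd 29013, .fwd 17791],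
   .loop none [.fwd 29831],
   .loop none [.bwd 7861, .fwd 29013, .fwd 14124],
   .loop none [.fwd 29833],
   .loop none [.fwd 18588, .fwd 29013, .fwd 17792],
   .loop none [.bwd 29835],
   .loop none [.bwd 17596, .fwd 29015, .fwd 17883],
   .loop none [.bwd 29837],
   .loop none [.fwd 14563, .fwd 29017, .bwd 14421],
   .loop none [.bwd 29839],
   .loop none [.bwd 10989, .fwd 29017, .fwd 15247],
   .loop none [.fwd 29841],
   .loop none [.fwd 14562, .fwd 29017, .fwd 15245, .bwd 29823],
   .loop none [.bwd 29843],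
   .loop none [.bwd 5673, .bwd 29816, .fwd 20536],
   .loop none [.bwd 29845],
   .loop none [.bwd 20188, .fwd 29816],
   .loop none [.bwd 9497, .bwd 29816, .bwd 20187],
   .loop none [.fwd 29848],
   .loop none [.fwd 23737, .bwd 29816, .bwd 23898, .bwd 29818],
   .loop none [.bwd 29850],
   .loop none [.bwd 18143, .bwd 29816, .fwd 24894],
   .loop none [.bwd 29852],
   .loop none [.bwd 5115, .bwd 29731, .fwd 11485, .bwd 29623],
   .loop none [.bwd 29854],
   .loop none [.bwd 4868, .bwd 29731, .fwd 8739, .bwd 29608],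
   .loop none [.bwd 29856],
   .loop none [.fwd 5624, .bwd 29731, .fwd 14139],
   .loop none [.fwd 29858],
   .loop none [.fwd 29793, .fwd 29596],
   .loop none [.fwd 29846, .fwd 29024],
   .loop none [.fwd 29730, .bwd 4551, .bwd 29861, .bwd 26793],
   .loop none [.fwd 29862],
   .loop none [.fwd 7897, .bwd 29861, .bwd 26795],
   .loop none [.fwd 29864],
   .loop none [.bwd 1191, .bwd 29861, .fwd 26797, .bwd 29721],
   .loop none [.fwd 29866],
   .loop none [.fwd 29849, .bwd 20180, .fwd 29026, .fwd 14306],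
   .loop none [.bwd 29868],
   .loop none [.fwd 7928, .fwd 29026, .fwd 14141, .bwd 29859],
   .loop none [.bwd 29870],
   .loop none [.bwd 7858, .fwd 29026, .fwd 14999],
   .loop none [.fwd 29872],
   .loop none [.fwd 14985, .fwd 29026, .fwd 15000],
   .loop none [.bwd 29874],
   .loop none [.fwd 9573, .fwd 29029, .fwd 14128],
   .loop none [.bwd 29876],
   .loop none [.fwd 29467, .fwd 29461],
   .loop none [.bwd 1521, .fwd 29031, .fwd 12637],
   .loop none [.fwd 29879],
   .loop none [.fwd 14056, .fwd 29031, .fwd 14333],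
   .loop none [.bwd 29881],
   .loop none [.bwd 7405, .bwd 29033],
   .loop none [.bwd 651, .fwd 29558],
   .loop none [.fwd 29, .bwd 29558, .fwd 695],
   .loop none [.fwd 29885],
   .loop none [.bwd 941, .bwd 29558, .fwd 13325, .bwd 29726],
   .loop none [.fwd 29887],
   .loop none [.fwd 933, .bwd 29558, .bwd 717, .bwd 29201],
   .loop none [.bwd 29889],
   .loop none [.fwd 1494, .bwd 29042],
   .loop none [.fwd 24, .fwd 29042, .bwd 66],
   .loop none [.fwd 29892],
   .loop none [.bwd 689, .fwd 29042, .fwd 1634],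
   .loop none [.fwd 29894],
   .loop none [.bwd 640, .fwd 29042, .fwd 1591],
   .loop none [.fwd 29896],
   .loop none [.fwd 29728, .fwd 29044],
   .loop none [.fwd 29869, .bwd 9497, .bwd 29898, .fwd 22174],
   .loop none [.fwd 29899],
   .loop none [.fwd 29205, .fwd 29075],
   .loop none [.fwd 29479, .fwd 29047],
   .loop none [.fwd 516, .bwd 29902, .fwd 19409, .bwd 29193],
   .loop none [.fwd 29903],
   .loop none [.bwd 29878, .fwd 29261],
   .loop none [.bwd 9717, .bwd 29902, .fwd 19071],
   .loop none [.fwd 29906],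
   .loop none [.fwd 7212, .bwd 29518, .bwd 17895],
   .loop none [.bwd 29908],
   .loop none [.bwd 9042, .bwd 29518, .bwd 16438],
   .loop none [.fwd 29910],
   .loop none [.fwd 29504, .fwd 29051],
   .loop none [.bwd 7262, .bwd 29518, .bwd 17918],
   .loop none [.bwd 29913],
   .loop none [.fwd 29271, .fwd 12066, .bwd 29518, .bwd 24937],
   .loop none [.fwd 29915],
   .loop none [.fwd 29315, .bwd 14279, .bwd 29518, .fwd 19545],
   .loop none [.fwd 29917],
   .loop none [.fwd 7196, .bwd 29912, .bwd 17888],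
   .loop none [.bwd 29919],
   .loop none [.bwd 10502, .bwd 29912, .fwd 18551, .bwd 29065],
   .loop none [.fwd 29921],
   .loop none [.fwd 29911, .fwd 29475],
   .loop none [.fwd 29279, .bwd 14283, .bwd 29912, .fwd 19505],
   .loop none [.fwd 29924],
   .loop none [.fwd 13830, .fwd 29053, .fwd 16828],
   .loop none [.fwd 29926],
   .loop none [.fwd 9682, .bwd 29491, .fwd 24561, .bwd 29777],
   .loop none [.fwd 29928],
   .loop none [.fwd 29317, .fwd 29227],
   .loop none [.fwd 29319, .bwd 10576, .bwd 29491, .bwd 21043],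
   .loop none [.fwd 29931],
   .loop none [.fwd 29769, .fwd 14695, .bwd 29491, .bwd 27178, .bwd 29363],
   .loop none [.bwd 29933],
   .loop none [.fwd 29319, .bwd 10576, .bwd 29490, .fwd 21150],
   .loop none [.fwd 29935],
   .loop none [.fwd 29934, .fwd 29769],
   .loop none [.bwd 8231, .fwd 29060, .fwd 27175],
   .loop none [.fwd 29938],
   .loop none [.bwd 17629, .fwd 29060, .fwd 17074],
   .loop none [.fwd 29940],
   .loop none [.fwd 29247, .bwd 14278, .fwd 29225, .fwd 27742, .bwd 29060],
   .loop none [.fwd 29942],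
   .loop none [.fwd 29943, .fwd 29060],
   .loop none [.fwd 29257, .bwd 10500, .bwd 29944, .fwd 19661],
   .loop none [.bwd 29945],
   .loop none [.fwd 29918, .fwd 29442],
   .loop none [.fwd 19226, .bwd 29063],
   .loop none [.fwd 29922, .fwd 29065],
   .loop none [.fwd 11229, .bwd 29949, .bwd 18489],
   .loop none [.bwd 29950],
   .loop none [.bwd 11233, .bwd 29949, .bwd 19119],
   .loop none [.fwd 29952],
   .loop none [.fwd 29747, .fwd 14872, .bwd 29949, .bwd 21293],
   .loop none [.fwd 29954],
   .loop none [.bwd 12051, .bwd 29949, .fwd 24174, .bwd 29506],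
   .loop none [.fwd 29956],
   .loop none [.fwd 3512, .fwd 29067, .fwd 7294, .bwd 29676],
   .loop none [.fwd 29958],
   .loop none [.bwd 11262, .bwd 29067],
   .loop none [.fwd 29539, .fwd 29069],
   .loop none [.fwd 29341, .bwd 29961, .bwd 23482, .bwd 29400],
   .loop none [.fwd 29962],
   .loop none [.bwd 12203, .bwd 29961, .bwd 23474, .bwd 29175],
   .loop none [.bwd 29964],
   .loop none [.fwd 29519, .bwd 29961, .bwd 23483, .bwd 29173],
   .loop none [.bwd 29966],
   .loop none [.bwd 25317, .fwd 29961],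
   .loop none [.bwd 6903, .fwd 29071, .fwd 22042],
   .loop none [.fwd 29969],
   .loop none [.bwd 9717, .fwd 29071, .fwd 23416],
   .loop none [.fwd 29971],
   .loop none [.fwd 29465, .fwd 29073],
   .loop none [.bwd 25756, .bwd 29973, .fwd 22234],
   .loop none [.bwd 29974],
   .loop none [.fwd 8433, .bwd 29973, .bwd 23867],
   .loop none [.fwd 29976],
   .loop none [.fwd 29803, .fwd 23735, .bwd 29901, .bwd 19361],
   .loop none [.fwd 29978],
   .loop none [.fwd 18235, .fwd 29077, .fwd 16490],
   .loop none [.fwd 29980],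
   .loop none [.bwd 18424, .fwd 29077, .fwd 19586],
   .loop none [.bwd 29982],
   .loop none [.fwd 19177, .fwd 29077, .fwd 19508],
   .loop none [.bwd 29984],
   .loop none [.fwd 18418, .fwd 29077, .bwd 19587],
   .loop none [.fwd 29986],
   .loop none [.bwd 19589, .bwd 29077],
   .loop none [.bwd 8300, .fwd 29079, .fwd 18690],
   .loop none [.fwd 29989],
   .loop none [.fwd 8291, .fwd 29081, .fwd 10297],
   .loop none [.fwd 29991],
   .loop none [.bwd 10989, .fwd 29083, .bwd 24849],
   .loop none [.fwd 29993],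
   .loop none [.bwd 15398, .fwd 29083, .fwd 21047],
   .loop none [.fwd 29995],
   .loop none [.fwd 29821, .fwd 29232],
   .loop none [.bwd 8477, .fwd 29085, .bwd 9581],
   .loop none [.bwd 29998]]

theorem just119_len : just119.length = 250 := by decide +kernel

theorem just119_ok : cert.okFacts 29750 just119 = true := by decide +kernel


end CfsgLib.ThCent.DX
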