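import Cfsg.Agent.Lib.PresCert.Range

/-!
Checking the side facts of a certificate in chunks.
-/

namespace CfsgLib.PresCert.Cert

variable {C : Cert}

theorem okFacts_nil (k : Nat) : C.okFacts k ([] : List (List Just)).flatten = true := rfl

theorem okFacts_append : ∀ (a b : List Just) (k : Nat), C.okFacts k a = true →
    C.okFacts (k + a.length) b = true → C.okFacts k (a ++ b) = true
  | [], b, k, _, h => by simpa using h
  | j :: a, b, k, ha, hb => by
    simp only [okFacts, Bool.and_eq_true, List.cons_append] at ha ⊢
    exact ⟨ha.1, okFacts_append a b (k + 1) ha.2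
      (by simpa [Nat.add_comm, Nat.add_left_comm, Nat.add_assoc] using hb)⟩

theorem okFacts_cons {a : List Just} {L : List (List Just)} {k n : Nat} (hl : a.length = n)
    (ha : C.okFacts k a = true) (hb : C.okFacts (k + n) L.flatten = true) :
    C.okFacts k (a :: L).flatten = true := by
  rw [List.flatten_cons]
  exact okFacts_append a _ k ha (hl ▸ hb)

end CfsgLib.PresCert.Cert
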