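import Cfsg.Agent.Lib.PresCert.Range
import Cfsg.Agent.Lib.ThCent.FactChunks
import Cfsg.Agent.Lib.ThCent.DXFacts0
import Cfsg.Agent.Lib.ThCent.DXFacts1
import Cfsg.Agent.Lib.ThCent.DXFacts2
import Cfsg.Agent.Lib.ThCent.DXFacts3
import Cfsg.Agent.Lib.ThCent.DXFacts4
import Cfsg.Agent.Lib.ThCent.DXFacts5
import Cfsg.Agent.Lib.ThCent.DXFacts6
import Cfsg.Agent.Lib.ThCent.DXFacts7
import Cfsg.Agent.Lib.ThCent.DXFacts8
import Cfsg.Agent.Lib.ThCent.DXFacts9
import Cfsg.Agent.Lib.ThCent.DXFacts10
import Cfsg.Agent.Lib.ThCent.DXFacts11
import Cfsg.Agent.Lib.ThCent.DXFacts12
import Cfsg.Agent.Lib.ThCent.DXFacts13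
import Cfsg.Agent.Lib.ThCent.DXFacts14
import Cfsg.Agent.Lib.ThCent.DXFacts15

/-!
The certificate is valid.
-/

namespace CfsgLib.ThCent.DX

open CfsgLib.PresCert

set_option maxRecDepth 100000

/-- justifications -/
noncomputable def justs : List Cert.Just :=
  [just0, just1, just2, just3, just4, just5, just6, just7, just8, just9, just10, just11, just12, just13, just14, just15, just16, just17, just18, just19, just20, just21, just22, just23, just24, just25, just26, just27, just28, just29, just30, just31, just32, just33, just34, just35, just36, just37, just38, just39, just40, just41, just42, just43, just44, just45, just46, just47, just48, just49, just50, just51, just52, just53, just54, just55, just56, just57, just58, just59, just60, just61, just62, just63, just64, just65, just66, just67, just68, just69, just70, just71, just72, just73, just74, just75, just76, just77, just78, just79, just80, just81, just82, just83, just84, just85, just86, just87, just88, just89, just90, just91, just92, just93, just94, just95, just96, just97, just98, just99, just100, just101, just102, just103, just104, just105, just106, just107, just108, just109, just110, just111, just112, just113, just114, just115,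 just116, just117, just118, just119, just120, just121, just122, just123, just124, just125, just126, just127, just128, just129, just130, just131, just132, just133, just134, just135, just136, just137, just138, just139, just140, just141, just142, just143, just144, just145, just146, just147, just148, just149, just150, just151, just152, just153, just154, just155, just156, just157, just158, just159, just160, just161, just162, just163, just164, just165, just166, just167, just168, just169, just170, just171, just172, just173, just174, just175, just176, just177, just178, just179, just180, just181, just182, just183, just184, just185, just186, just187, just188, just189, just190].flatten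

theorem slots_all : cert.okRange 0 819 = true := by decide +kernel

theorem labs_ok : ((List.range cert.nfact).all fun i => Nat.ble (cert.fLab i) cert.g) = true := by
  decide +kernel

theorem valid : Cert.Valid cert justs where
  facts := by
    exact (Cert.okFacts_cons just0_len just0_ok (Cert.okFacts_cons just1_len just1_ok (Cert.okFacts_cons just2_len just2_ok (Cert.okFacts_cons just3_len just3_ok (Cert.okFacts_cons just4_len just4_ok (Cert.okFacts_cons just5_len just5_ok (Cert.okFacts_cons just6_len just6_ok (Cert.okFacts_cons just7_len just7_ok (Cert.okFacts_cons just8_len just8_ok (Cert.okFacts_cons just9_len just9_ok (Cert.okFacts_cons just10_len just10_ok (Cert.okFacts_cons just11_len just11_ok (Cert.okFacts_cons just12_len just12_ok (Cert.okFacts_cons just13_len just13_ok (Cert.okFacts_cons just14_len just14_ok (Cert.okFacts_cons just15_len just15_ok (Cert.okFacts_cons just16_len just16_ok (Cert.okFacts_cons just17_len just17_ok (Cert.okFacts_cons just18_len just18_ok (Cert.okFacts_cons just19_len just19_ok (Cert.okFacts_cons just20_len just20_ok (Cert.okFacts_cons just21_len just21_ok (Cert.okFacts_cons just22_len just22_ok (Cert.okFacts_cons just23_len just23_ok (Cert.okFacts_cons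 just24_len just24_ok (Cert.okFacts_cons just25_len just25_ok (Cert.okFacts_cons just26_len just26_ok (Cert.okFacts_cons just27_len just27_ok (Cert.okFacts_cons just28_len just28_ok (Cert.okFacts_cons just29_len just29_ok (Cert.okFacts_cons just30_len just30_ok (Cert.okFacts_cons just31_len just31_ok (Cert.okFacts_cons just32_len just32_ok (Cert.okFacts_cons just33_len just33_ok (Cert.okFacts_cons just34_len just34_ok (Cert.okFacts_cons just35_len just35_ok (Cert.okFacts_cons just36_len just36_ok (Cert.okFacts_cons just37_len just37_ok (Cert.okFacts_cons just38_len just38_ok (Cert.okFacts_cons just39_len just39_ok (Cert.okFacts_cons just40_len just40_ok (Cert.okFacts_cons just41_len just41_ok (Cert.okFacts_cons just42_len just42_ok (Cert.okFacts_cons just43_len just43_ok (Cert.okFacts_cons just44_len just44_ok (Cert.okFacts_cons just45_len just45_ok (Cert.okFacts_cons just46_len just46_ok (Cert.okFacts_cons just47_len just47_ok (Cert.okFacts_cons just48_len just48_ok (Cert.okFacts_cons just49_len just49_ok (Cert.okFacts_cons just50_len just50_ok (Cert.okFacts_cons just51_len just51_ok (Cert.okFacts_cons just52_len just52_ok (Cert.okFacts_cons just53_len just53_ok (Cert.okFacts_cons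 just54_len just54_ok (Cert.okFacts_cons just55_len just55_ok (Cert.okFacts_cons just56_len just56_ok (Cert.okFacts_cons just57_len just57_ok (Cert.okFacts_cons just58_len just58_ok (Cert.okFacts_cons just59_len just59_ok (Cert.okFacts_cons just60_len just60_ok (Cert.okFacts_cons just61_len just61_ok (Cert.okFacts_cons just62_len just62_ok (Cert.okFacts_cons just63_len just63_ok (Cert.okFacts_cons just64_len just64_ok (Cert.okFacts_cons just65_len just65_ok (Cert.okFacts_cons just66_len just66_ok (Cert.okFacts_cons just67_len just67_ok (Cert.okFacts_cons just68_len just68_ok (Cert.okFacts_cons just69_len just69_ok (Cert.okFacts_cons just70_len just70_ok (Cert.okFacts_cons just71_len just71_ok (Cert.okFacts_cons just72_len just72_ok (Cert.okFacts_cons just73_len just73_ok (Cert.okFacts_cons just74_len just74_ok (Cert.okFacts_cons just75_len just75_ok (Cert.okFacts_cons just76_len just76_ok (Cert.okFacts_cons just77_len just77_ok (Cert.okFacts_cons just78_len just78_ok (Cert.okFacts_cons just79_len just79_ok (Cert.okFacts_cons just80_len just80_ok (Cert.okFacts_cons just81_len just81_ok (Cert.okFacts_cons just82_len just82_ok (Cert.okFacts_cons just83_len just83_ok (Cert.okFacts_cons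 just84_len just84_ok (Cert.okFacts_cons just85_len just85_ok (Cert.okFacts_cons just86_len just86_ok (Cert.okFacts_cons just87_len just87_ok (Cert.okFacts_cons just88_len just88_ok (Cert.okFacts_cons just89_len just89_ok (Cert.okFacts_cons just90_len just90_ok (Cert.okFacts_cons just91_len just91_ok (Cert.okFacts_cons just92_len just92_ok (Cert.okFacts_cons just93_len just93_ok (Cert.okFacts_cons just94_len just94_ok (Cert.okFacts_cons just95_len just95_ok (Cert.okFacts_cons just96_len just96_ok (Cert.okFacts_cons just97_len just97_ok (Cert.okFacts_cons just98_len just98_ok (Cert.okFacts_cons just99_len just99_ok (Cert.okFacts_cons just100_len just100_ok (Cert.okFacts_cons just101_len just101_ok (Cert.okFacts_cons just102_len just102_ok (Cert.okFacts_cons just103_len just103_ok (Cert.okFacts_cons just104_len just104_ok (Cert.okFacts_cons just105_len just105_ok (Cert.okFacts_cons just106_len just106_ok (Cert.okFacts_cons just107_len just107_ok (Cert.okFacts_cons just108_len just108_ok (Cert.okFacts_cons just109_len just109_ok (Cert.okFacts_cons just110_len just110_ok (Cert.okFacts_cons just111_len just111_ok (Cert.okFacts_cons just112_len just112_ok (Cert.okFacts_cons just113_len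 just113_ok (Cert.okFacts_cons just114_len just114_ok (Cert.okFacts_cons just115_len just115_ok (Cert.okFacts_cons just116_len just116_ok (Cert.okFacts_cons just117_len just117_ok (Cert.okFacts_cons just118_len just118_ok (Cert.okFacts_cons just119_len just119_ok (Cert.okFacts_cons just120_len just120_ok (Cert.okFacts_cons just121_len just121_ok (Cert.okFacts_cons just122_len just122_ok (Cert.okFacts_cons just123_len just123_ok (Cert.okFacts_cons just124_len just124_ok (Cert.okFacts_cons just125_len just125_ok (Cert.okFacts_cons just126_len just126_ok (Cert.okFacts_cons just127_len just127_ok (Cert.okFacts_cons just128_len just128_ok (Cert.okFacts_cons just129_len just129_ok (Cert.okFacts_cons just130_len just130_ok (Cert.okFacts_cons just131_len just131_ok (Cert.okFacts_cons just132_len just132_ok (Cert.okFacts_cons just133_len just133_ok (Cert.okFacts_cons just134_len just134_ok (Cert.okFacts_cons just135_len just135_ok (Cert.okFacts_cons just136_len just136_ok (Cert.okFacts_cons just137_len just137_ok (Cert.okFacts_cons just138_len just138_ok (Cert.okFacts_cons just139_len just139_ok (Cert.okFacts_cons just140_len just140_ok (Cert.okFacts_cons just141_len just141_ok (Cert.okFacts_cons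 just142_len just142_ok (Cert.okFacts_cons just143_len just143_ok (Cert.okFacts_cons just144_len just144_ok (Cert.okFacts_cons just145_len just145_ok (Cert.okFacts_cons just146_len just146_ok (Cert.okFacts_cons just147_len just147_ok (Cert.okFacts_cons just148_len just148_ok (Cert.okFacts_cons just149_len just149_ok (Cert.okFacts_cons just150_len just150_ok (Cert.okFacts_cons just151_len just151_ok (Cert.okFacts_cons just152_len just152_ok (Cert.okFacts_cons just153_len just153_ok (Cert.okFacts_cons just154_len just154_ok (Cert.okFacts_cons just155_len just155_ok (Cert.okFacts_cons just156_len just156_ok (Cert.okFacts_cons just157_len just157_ok (Cert.okFacts_cons just158_len just158_ok (Cert.okFacts_cons just159_len just159_ok (Cert.okFacts_cons just160_len just160_ok (Cert.okFacts_cons just161_len just161_ok (Cert.okFacts_cons just162_len just162_ok (Cert.okFacts_cons just163_len just163_ok (Cert.okFacts_cons just164_len just164_ok (Cert.okFacts_cons just165_len just165_ok (Cert.okFacts_cons just166_len just166_ok (Cert.okFacts_cons just167_len just167_ok (Cert.okFacts_cons just168_len just168_ok (Cert.okFacts_cons just169_len just169_ok (Cert.okFacts_cons just170_len just170_ok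 (Cert.okFacts_cons just171_len just171_ok (Cert.okFacts_cons just172_len just172_ok (Cert.okFacts_cons just173_len just173_ok (Cert.okFacts_cons just174_len just174_ok (Cert.okFacts_cons just175_len just175_ok (Cert.okFacts_cons just176_len just176_ok (Cert.okFacts_cons just177_len just177_ok (Cert.okFacts_cons just178_len just178_ok (Cert.okFacts_cons just179_len just179_ok (Cert.okFacts_cons just180_len just180_ok (Cert.okFacts_cons just181_len just181_ok (Cert.okFacts_cons just182_len just182_ok (Cert.okFacts_cons just183_len just183_ok (Cert.okFacts_cons just184_len just184_ok (Cert.okFacts_cons just185_len just185_ok (Cert.okFacts_cons just186_len just186_ok (Cert.okFacts_cons just187_len just187_ok (Cert.okFacts_cons just188_len just188_ok (Cert.okFacts_cons just189_len just189_ok (Cert.okFacts_cons just190_len just190_ok (Cert.okFacts_nil _))))))))))))))))))))))))))))))))))))))))))))))))))))))))))))))))))))))))))))))))))))))))))))))))))))))))))))))))))))))))))))))))))))))))))))))))))))))))))))))))))))))))))))))))))))))))))))))))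
  len := by decide +kernel
  labs := labs_ok
  slots := fun c hc => Cert.slotsOK_of_range slots_all c (Nat.zero_le c) (by simpa [cert] using hc)
  pos := (by decide +kernel : 0 < cert.n)

end CfsgLib.ThCent.DX
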