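import Cfsg.Agent.Lib.ThCent.KLData

/-!
Justifications of the side facts (generated data).
-/

namespace CfsgLib.ThCent.KL

open CfsgLib.PresCert

set_option maxRecDepth 100000

/-- justifications -/
noncomputable def just0 : List Cert.Just :=
  [.define,
   .define,
   .define,
   .define,
   .define,
   .define,
   .define,
   .define,
   .loop (some (13, 8)) [.fwd 0, .fwd 1, .fwd 2, .fwd 3, .fwd 4, .fwd 5, .fwd 6, .fwd 7],
   .loop (some (4, 2)) [.fwd 8, .edge 5, .bwd 8],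
   .loop (some (7, 2)) [.fwd 8, .edge 7, .bwd 8],
   .loop (some (2, 1)) [.fwd 8, .edge 3, .bwd 8],
   .loop (some (1, 1)) [.bwd 0, .edge 3, .fwd 0],
   .loop (some (6, 2)) [.bwd 0, .edge 7, .fwd 0],
   .loop (some (3, 2)) [.bwd 0, .edge 5, .fwd 0],
   .loop (some (13, 9)) [.bwd 0, .edge 2, .bwd 8, .bwd 7, .bwd 6, .bwd 5, .bwd 4, .bwd 3, .bwd 2],
   .loop none [.fwd 15],
   .loop none [.bwd 2, .bwd 16],
   .loop none [.fwd 1, .bwd 16],
   .loop (some (4, 2)) [.bwd 17, .bwd 14, .fwd 17],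
   .loop (some (7, 2)) [.bwd 17, .bwd 13, .fwd 17],
   .loop (some (2, 1)) [.bwd 17, .fwd 12, .fwd 17],
   .define,
   .loop (some (11, 2)) [.bwd 22, .bwd 3, .fwd 21, .fwd 3, .fwd 22],
   .loop (some (13, 0)) [.bwd 7, .bwd 6, .bwd 5, .bwd 4, .bwd 3, .bwd 17, .fwd 18, .fwd 17],
   .loop (some (5, 2)) [.bwd 3, .fwd 19, .fwd 3],
   .loop (some (8, 2)) [.bwd 3, .bwd 20, .fwd 3],
   .loop (some (13, 0)) [.fwd 7, .fwd 8, .edge 2, .bwd 8, .bwd 7, .bwd 6, .bwd 5, .bwd 4],
   .loop (some (4, 2)) [.bwd 4, .bwd 25, .fwd 4],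
   .loop (some (7, 2)) [.bwd 4, .bwd 26, .fwd 4],
   .loop (some (9, 2)) [.bwd 22, .bwd 26, .fwd 22],
   .define,
   .loop (some (2, 2)) [.bwd 22, .fwd 4, .fwd 31],
   .define,
   .loop (some (1, 2)) [.bwd 22, .fwd 27, .fwd 33],
   .loop (some (6, 2)) [.bwd 27, .bwd 26, .fwd 27],
   .loop (some (3, 2)) [.bwd 27, .bwd 25, .fwd 27],
   .define,
   .define,
   .define,
   .loop (some (14, 4)) [.bwd 22, .fwd 25, .fwd 25, .fwd 25, .fwd 22, .fwd 37, .fwd 38, .fwd 39],
   .define,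
   .define,
   .define,
   .loop (some (11, 4)) [.bwd 31, .fwd 5, .fwd 41, .fwd 42, .fwd 43],
   .loop (some (13, 0)) [.bwd 5, .bwd 4, .bwd 3, .bwd 17, .fwd 18, .fwd 17, .fwd 3, .fwd 4],
   .loop (some (9, 2)) [.bwd 31, .bwd 29, .fwd 31],
   .loop (some (5, 2)) [.bwd 5, .fwd 28, .fwd 5],
   .loop (some (8, 2)) [.bwd 5, .bwd 29, .fwd 5],
   .loop (some (1, 2)) [.bwd 31, .fwd 45, .fwd 41],
   .define,
   .define,
   .define,
   .loop (some (14, 4)) [.bwd 31, .fwd 28, .fwd 28, .fwd 28, .fwd 31, .fwd 50, .fwd 51, .fwd 52],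
   .loop (some (9, 2)) [.bwd 41, .bwd 48, .fwd 41],
   .loop (some (2, 2)) [.bwd 41, .fwd 6, .fwd 33],
   .define,
   .define,
   .define,
   .loop (some (14, 4)) [.bwd 41, .fwd 47, .fwd 47, .fwd 47, .fwd 41, .fwd 56, .fwd 57, .fwd 58],
   .loop (some (11, 4)) [.bwd 33, .fwd 7, .bwd 11, .bwd 7, .fwd 33],
   .loop (some (9, 2)) [.bwd 33, .bwd 35, .fwd 33],
   .define,
   .define,
   .define,
   .loop (some (14, 4)) [.bwd 33, .fwd 36, .fwd 36, .fwd 36, .fwd 33, .fwd 62, .fwd 63, .fwd 64],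
   .define,
   .define,
   .loop (some (13, 6)) [.fwd 44, .fwd 32, .bwd 34, .bwd 60, .fwd 55, .fwd 42, .fwd 66, .fwd 67],
   .loop (some (4, 1)) [.bwd 50, .fwd 32, .fwd 37],
   .loop (some (5, 1)) [.bwd 37, .fwd 23, .bwd 40],
   .loop (some (10, 2)) [.fwd 39, .fwd 40, .bwd 30, .bwd 40],
   .loop (some (3, 1)) [.bwd 62, .fwd 34, .fwd 37],
   .define,
   .define,
   .loop (some (14, 6)) [.bwd 73, .bwd 37, .bwd 22, .bwd 25, .fwd 22, .fwd 37, .fwd 73, .fwd 74],
   .define,
   .loop (some (12, 3)) [.fwd 75, .bwd 73, .bwd 37, .bwd 40, .bwd 39, .fwd 76],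
   .define,
   .loop (some (5, 2)) [.fwd 44, .bwd 53, .fwd 78],
   .loop (some (8, 2)) [.fwd 44, .bwd 46, .bwd 44],
   .loop (some (10, 2)) [.fwd 52, .fwd 53, .bwd 46, .bwd 53],
   .loop (some (3, 1)) [.bwd 56, .fwd 49, .fwd 50],
   .define,
   .define,
   .loop (some (14, 6)) [.bwd 83, .bwd 50, .bwd 31, .bwd 28, .fwd 31, .fwd 50, .fwd 83, .fwd 84],
   .define,
   .loop (some (12, 3)) [.fwd 85, .bwd 83, .bwd 50, .bwd 53, .bwd 52, .fwd 86],
   .loop (some (4, 1)) [.bwd 56, .bwd 55, .fwd 62],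
   .loop (some (5, 1)) [.bwd 62, .fwd 60, .bwd 65],
   .loop (some (10, 2)) [.fwd 64, .fwd 65, .bwd 61, .bwd 65],
   .define,
   .define,
   .loop (some (14, 6)) [.bwd 91, .bwd 62, .bwd 33, .bwd 36, .fwd 33, .fwd 62, .fwd 91, .fwd 92],
   .define,
   .loop (some (12, 3)) [.fwd 93, .bwd 91, .bwd 62, .bwd 65, .bwd 64, .fwd 94],
   .define,
   .define,
   .define,
   .loop (some (11, 4)) [.bwd 38, .bwd 70, .fwd 96, .fwd 97, .fwd 98],
   .define,
   .define,
   .define,
   .define,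
   .define,
   .loop (some (13, 7)) [.bwd 69, .fwd 72, .bwd 89, .fwd 100, .fwd 101, .fwd 102, .fwd 103, .fwd 104],
   .loop (some (4, 1)) [.bwd 83, .bwd 69, .fwd 73],
   .define,
   .define,
   .loop (some (7, 2)) [.bwd 69, .fwd 107, .fwd 108],
   .loop (some (9, 1)) [.bwd 96, .fwd 71, .bwd 38, .fwd 107],
   .loop none [.fwd 110],
   .loop none [.bwd 108, .bwd 111],
   .loop none [.fwd 107, .bwd 111],
   .define,
   .loop (some (0, 1)) [.fwd 113, .fwd 114],
   .loop (some (2, 2)) [.bwd 38, .fwd 69, .fwd 51],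
   .loop (some (8, 2)) [.fwd 70, .bwd 113, .fwd 97],
   .loop (some (1, 2)) [.bwd 38, .fwd 72, .fwd 63],
   .loop (some (10, 1)) [.fwd 117, .fwd 40, .fwd 37, .bwd 113],
   .define,
   .loop (some (6, 2)) [.bwd 72, .bwd 113, .fwd 120],
   .loop (some (3, 1)) [.bwd 91, .bwd 72, .fwd 73],
   .define,
   .define,
   .loop (some (14, 5)) [.fwd 77, .fwd 75, .bwd 73, .fwd 38, .fwd 39, .fwd 96, .fwd 123, .fwd 124],
   .define,
   .define,
   .define,
   .define,
   .define,
   .define,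
   .loop (some (13, 7)) [.fwd 116, .bwd 118, .fwd 126, .fwd 127, .fwd 128, .fwd 129, .fwd 130, .fwd 131],
   .loop (some (4, 1)) [.bwd 52, .fwd 116, .fwd 39],
   .loop (some (0, 0)) [.fwd 117, .fwd 71],
   .define,
   .loop (some (5, 2)) [.fwd 99, .fwd 76, .fwd 135],
   .loop (some (8, 3)) [.fwd 99, .bwd 71, .fwd 70, .fwd 114],
   .loop none [.fwd 137],
   .loop none [.bwd 115, .bwd 138],
   .loop none [.fwd 114, .bwd 138],
   .loop (some (10, 5)) [.bwd 71, .bwd 39, .fwd 134, .bwd 119, .fwd 123],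
   .loop none [.fwd 141],
   .loop none [.bwd 76, .fwd 142, .bwd 123],
   .loop none [.fwd 143],
   .loop none [.bwd 39, .fwd 142, .fwd 124],
   .loop none [.fwd 145],
   .loop none [.bwd 120, .bwd 144],
   .loop none [.bwd 112, .bwd 144],
   .loop none [.bwd 135, .fwd 144, .fwd 97],
   .loop none [.bwd 149],
   .loop none [.bwd 77, .fwd 144, .fwd 119],
   .loop none [.fwd 151],
   .loop none [.bwd 113, .bwd 144],
   .loop none [.fwd 139, .bwd 144],
   .loop none [.bwd 125, .bwd 146],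
   .loop none [.fwd 152, .fwd 150],
   .loop none [.fwd 135, .fwd 156],
   .loop none [.bwd 75, .bwd 156, .fwd 136],
   .loop none [.fwd 158],
   .loop none [.bwd 117, .bwd 152],
   .loop none [.fwd 134, .bwd 152],
   .loop none [.bwd 99, .bwd 159],
   .loop none [.fwd 154, .bwd 159],
   .loop none [.bwd 140, .bwd 159],
   .loop (some (6, 1)) [.fwd 90, .fwd 118, .bwd 71],
   .define,
   .define,
   .define,
   .loop (some (13, 6)) [.bwd 78, .bwd 133, .fwd 165, .fwd 89, .fwd 88, .fwd 166, .fwd 167, .fwd 168],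
   .define,
   .loop (some (7, 2)) [.bwd 133, .bwd 160, .fwd 170],
   .loop (some (2, 1)) [.bwd 148, .bwd 155, .fwd 133],
   .loop (some (1, 1)) [.bwd 147, .bwd 155, .fwd 165],
   .define,
   .loop (some (6, 2)) [.bwd 165, .bwd 160, .fwd 174],
   .define,
   .loop (some (5, 2)) [.bwd 42, .bwd 59, .fwd 176],
   .loop (some (8, 2)) [.bwd 42, .bwd 54, .fwd 42],
   .loop (some (10, 2)) [.fwd 58, .fwd 59, .bwd 54, .bwd 59],
   .define,
   .define,
   .loop (some (14, 6)) [.bwd 180, .bwd 56, .bwd 41, .bwd 47, .fwd 41, .fwd 56, .fwd 180, .fwd 181],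
   .define,
   .loop (some (12, 3)) [.fwd 182, .bwd 180, .bwd 56, .bwd 59, .bwd 58, .fwd 183],
   .loop (some (13, 0)) [.fwd 44, .fwd 32, .fwd 23, .bwd 32, .bwd 44, .bwd 68, .bwd 67, .bwd 66],
   .define,
   .loop (some (4, 2)) [.bwd 66, .bwd 177, .fwd 186],
   .loop (some (7, 2)) [.bwd 66, .bwd 178, .fwd 66],
   .loop (some (2, 1)) [.fwd 68, .bwd 43, .fwd 66],
   .loop (some (5, 0)) [.bwd 166, .bwd 56, .fwd 42],
   .define,
   .loop (some (10, 3)) [.bwd 190, .bwd 178, .fwd 190, .fwd 191],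
   .loop (some (3, 1)) [.fwd 79, .bwd 185, .bwd 177],
   .define,
   .define,
   .define,
   .define,
   .define,
   .loop (some (14, 7)) [.fwd 177, .fwd 43, .bwd 79, .fwd 194, .fwd 195, .fwd 196, .fwd 197, .fwd 198],
   .define,
   .loop (some (12, 3)) [.fwd 198, .fwd 199, .fwd 177, .fwd 190, .bwd 192, .fwd 200],
   .loop (some (4, 2)) [.fwd 68, .bwd 79, .bwd 169],
   .loop (some (7, 2)) [.fwd 68, .bwd 80, .bwd 68],
   .loop (some (5, 0)) [.fwd 105, .bwd 50, .bwd 44],
   .define,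
   .loop (some (10, 3)) [.bwd 204, .bwd 80, .fwd 204, .fwd 205],
   .define,
   .define,
   .define,
   .define,
   .define,
   .loop (some (14, 7)) [.fwd 79, .bwd 43, .bwd 177, .fwd 207, .fwd 208, .fwd 209, .fwd 210, .fwd 211],
   .define,
   .loop (some (12, 3)) [.fwd 211, .fwd 212, .fwd 79, .fwd 204, .bwd 206, .fwd 213],
   .define,
   .define,
   .loop (some (11, 3)) [.fwd 132, .bwd 51, .bwd 105, .fwd 215, .fwd 216],
   .define,
   .loop (some (0, 1)) [.fwd 109, .fwd 218],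
   .define,
   .loop (some (8, 2)) [.fwd 105, .bwd 109, .fwd 220],
   .loop (some (1, 2)) [.bwd 51, .fwd 82, .fwd 57],
   .loop (some (10, 1)) [.fwd 171, .fwd 53, .fwd 50, .bwd 109],
   .define,
   .loop (some (6, 2)) [.bwd 82, .bwd 109, .fwd 224],
   .loop (some (3, 1)) [.bwd 180, .bwd 82, .fwd 83],
   .define,
   .define,
   .loop (some (14, 5)) [.fwd 87, .fwd 85, .bwd 83, .fwd 51, .fwd 52, .fwd 172, .fwd 227, .fwd 228],
   .define,
   .define,
   .define,
   .define,
   .loop (some (13, 5)) [.bwd 106, .fwd 162, .bwd 116, .bwd 222, .fwd 230, .fwd 231, .fwd 232, .fwd 233],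
   .loop (some (0, 0)) [.fwd 171, .fwd 81],
   .define,
   .loop (some (5, 2)) [.fwd 132, .fwd 86, .fwd 236],
   .loop (some (8, 2)) [.fwd 132, .bwd 81, .fwd 78],
   .loop (some (10, 5)) [.bwd 81, .bwd 52, .fwd 235, .bwd 223, .fwd 227],
   .loop none [.fwd 239],
   .loop none [.bwd 86, .fwd 240, .bwd 227],
   .loop none [.fwd 241],
   .loop none [.bwd 52, .fwd 240, .fwd 228],
   .loop none [.fwd 243],
   .loop none [.bwd 224, .bwd 242],
   .loop none [.fwd 148, .bwd 242],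
   .loop none [.bwd 236, .fwd 242, .fwd 220],
   .loop none [.bwd 247],
   .loop none [.bwd 87, .fwd 242, .fwd 223]]

theorem just0_len : just0.length = 250 := by decide +kernel

theorem just0_ok : cert.okFacts 0 just0 = true := by decide +kernel

/-- justifications -/
noncomputable def just1 : List Cert.Just :=
  [.loop none [.fwd 249],
   .loop none [.bwd 109, .bwd 242],
   .loop none [.fwd 219, .bwd 242],
   .loop none [.bwd 229, .bwd 244],
   .loop none [.fwd 236, .bwd 248],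
   .loop none [.bwd 237, .bwd 248],
   .loop none [.fwd 170, .bwd 250],
   .loop none [.bwd 171, .bwd 250],
   .loop none [.fwd 235, .bwd 250],
   .loop (some (6, 1)) [.fwd 179, .fwd 222, .bwd 81],
   .define,
   .loop (some (11, 3)) [.fwd 254, .bwd 253, .fwd 78, .fwd 194, .fwd 260],
   .loop (some (13, 3)) [.fwd 103, .fwd 104, .fwd 105, .bwd 69, .bwd 70, .fwd 133, .fwd 259, .fwd 176, .fwd 186],
   .loop none [.fwd 262],
   .loop none [.fwd 102, .fwd 263, .bwd 186],
   .loop none [.fwd 264],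
   .loop none [.bwd 187, .bwd 263],
   .loop none [.bwd 193, .bwd 265],
   .loop none [.fwd 101, .fwd 265, .bwd 176],
   .loop none [.bwd 268],
   .loop none [.bwd 207, .bwd 265],
   .loop none [.bwd 177, .bwd 265],
   .loop none [.fwd 199, .bwd 265],
   .loop none [.fwd 100, .bwd 269],
   .loop none [.bwd 101, .bwd 269],
   .loop (some (9, 2)) [.bwd 252, .bwd 253, .bwd 257, .bwd 84],
   .loop none [.bwd 275],
   .loop none [.fwd 252, .bwd 276],
   .loop none [.fwd 218, .bwd 276],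
   .loop (some (5, 2)) [.fwd 212, .bwd 78, .bwd 52, .bwd 132],
   .loop none [.bwd 279],
   .loop none [.bwd 212, .bwd 280],
   .loop none [.fwd 255, .fwd 280, .bwd 211],
   .loop none [.bwd 282],
   .loop none [.bwd 254, .bwd 283],
   .loop none [.fwd 210, .fwd 283, .bwd 261],
   .loop none [.fwd 285],
   .loop none [.bwd 255, .bwd 283],
   .loop none [.bwd 221, .bwd 283],
   .loop none [.fwd 260, .bwd 286],
   .define,
   .loop (some (8, 2)) [.bwd 78, .bwd 257, .fwd 290],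
   .loop (some (1, 1)) [.bwd 245, .bwd 253, .fwd 259],
   .define,
   .loop (some (6, 2)) [.bwd 259, .bwd 257, .fwd 293],
   .define,
   .define,
   .loop (some (11, 3)) [.bwd 230, .bwd 57, .fwd 166, .fwd 295, .fwd 296],
   .loop (some (4, 1)) [.bwd 91, .fwd 88, .fwd 180],
   .loop (some (7, 1)) [.fwd 121, .fwd 88, .bwd 225],
   .define,
   .loop (some (0, 1)) [.fwd 225, .fwd 300],
   .loop (some (2, 2)) [.bwd 57, .bwd 88, .fwd 63],
   .define,
   .loop (some (8, 2)) [.bwd 166, .bwd 225, .fwd 303],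
   .loop (some (10, 1)) [.fwd 294, .fwd 59, .fwd 56, .bwd 225],
   .define,
   .define,
   .loop (some (14, 5)) [.fwd 184, .fwd 182, .bwd 180, .fwd 57, .fwd 58, .fwd 292, .fwd 306, .fwd 307],
   .loop (some (0, 0)) [.fwd 294, .fwd 179],
   .define,
   .loop (some (5, 2)) [.bwd 230, .fwd 183, .fwd 310],
   .loop (some (8, 2)) [.bwd 230, .bwd 179, .fwd 274],
   .loop (some (10, 5)) [.bwd 179, .bwd 58, .fwd 309, .bwd 305, .fwd 306],
   .loop none [.fwd 313],
   .loop none [.bwd 183, .fwd 314, .bwd 306],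
   .loop none [.fwd 315],
   .loop none [.bwd 58, .fwd 314, .fwd 307],
   .loop none [.fwd 317],
   .loop none [.fwd 245, .bwd 316],
   .loop none [.bwd 299, .bwd 316],
   .loop none [.bwd 310, .fwd 316, .fwd 303],
   .loop none [.bwd 321],
   .loop none [.bwd 184, .fwd 316, .fwd 305],
   .loop none [.fwd 323],
   .loop none [.bwd 225, .bwd 316],
   .loop none [.fwd 301, .bwd 316],
   .loop none [.bwd 308, .bwd 318],
   .loop none [.fwd 310, .bwd 322],
   .loop none [.bwd 311, .bwd 322],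
   .loop none [.fwd 293, .bwd 324],
   .loop none [.bwd 294, .bwd 324],
   .loop none [.fwd 309, .bwd 324],
   .define,
   .loop (some (11, 3)) [.fwd 328, .bwd 327, .fwd 274, .fwd 270, .fwd 333],
   .loop (some (7, 1)) [.fwd 175, .bwd 273, .bwd 331],
   .loop (some (9, 2)) [.bwd 326, .bwd 327, .bwd 331, .bwd 181],
   .loop none [.bwd 336],
   .loop none [.fwd 326, .bwd 337],
   .loop none [.fwd 300, .bwd 337],
   .loop (some (5, 2)) [.bwd 272, .bwd 274, .bwd 58, .fwd 230],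
   .loop none [.fwd 340],
   .loop none [.bwd 231, .bwd 341],
   .loop none [.fwd 230, .bwd 341],
   .loop none [.fwd 297, .bwd 341],
   .loop none [.fwd 198, .fwd 341, .bwd 329],
   .loop none [.fwd 345],
   .loop none [.fwd 312, .bwd 341],
   .loop none [.bwd 328, .bwd 346],
   .loop none [.fwd 197, .fwd 346, .bwd 334],
   .loop none [.fwd 349],
   .loop none [.bwd 304, .bwd 346],
   .loop none [.fwd 333, .bwd 350],
   .define,
   .loop (some (8, 2)) [.bwd 274, .bwd 331, .fwd 353],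
   .define,
   .define,
   .loop (some (0, 1)) [.fwd 121, .fwd 356],
   .loop (some (8, 2)) [.fwd 175, .fwd 89, .bwd 121, .fwd 355],
   .loop none [.fwd 358],
   .loop none [.fwd 355, .bwd 359],
   .loop (some (10, 1)) [.fwd 175, .fwd 65, .fwd 62, .bwd 121],
   .define,
   .define,
   .loop (some (14, 5)) [.fwd 95, .fwd 93, .bwd 91, .fwd 63, .fwd 64, .fwd 173, .fwd 362, .fwd 363],
   .loop (some (0, 0)) [.fwd 175, .fwd 90],
   .define,
   .loop (some (5, 2)) [.bwd 126, .fwd 94, .fwd 366],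
   .loop (some (8, 3)) [.bwd 126, .bwd 90, .fwd 89, .fwd 356],
   .loop none [.fwd 368],
   .loop none [.bwd 357, .bwd 369],
   .loop none [.fwd 356, .bwd 369],
   .loop (some (10, 5)) [.bwd 90, .bwd 64, .fwd 365, .bwd 361, .fwd 362],
   .loop none [.fwd 372],
   .loop none [.bwd 94, .fwd 373, .bwd 362],
   .loop none [.fwd 374],
   .loop none [.bwd 64, .fwd 373, .fwd 363],
   .loop none [.fwd 376],
   .loop none [.fwd 147, .bwd 375],
   .loop none [.fwd 320, .bwd 375],
   .loop none [.bwd 366, .fwd 375, .bwd 360],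
   .loop none [.bwd 380],
   .loop none [.bwd 95, .fwd 375, .fwd 361],
   .loop none [.fwd 382],
   .loop none [.bwd 121, .bwd 375],
   .loop none [.fwd 370, .bwd 375],
   .loop none [.bwd 364, .bwd 377],
   .loop none [.fwd 383, .fwd 381],
   .loop none [.fwd 366, .fwd 387],
   .loop none [.bwd 93, .bwd 387, .fwd 367],
   .loop none [.fwd 389],
   .loop none [.fwd 174, .bwd 383],
   .loop none [.fwd 335, .bwd 383],
   .loop none [.bwd 175, .bwd 383],
   .loop none [.fwd 365, .bwd 383],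
   .loop none [.fwd 298, .fwd 390, .fwd 127],
   .loop none [.bwd 395],
   .loop none [.fwd 126, .bwd 390],
   .loop none [.fwd 385, .bwd 390],
   .loop none [.bwd 371, .bwd 390],
   .loop none [.fwd 226, .bwd 396],
   .loop none [.bwd 298, .bwd 396],
   .loop none [.bwd 181, .bwd 396],
   .loop none [.fwd 180, .bwd 396],
   .loop none [.fwd 182, .bwd 396],
   .loop none [.bwd 338, .bwd 396],
   .loop none [.bwd 339, .bwd 396],
   .loop (some (13, 0)) [.bwd 67, .bwd 66, .bwd 42, .bwd 55, .fwd 60, .fwd 55, .fwd 42, .fwd 66],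
   .loop (some (5, 0)) [.fwd 168, .fwd 202, .bwd 67],
   .define,
   .loop (some (10, 3)) [.bwd 408, .bwd 188, .fwd 408, .fwd 409],
   .loop (some (3, 1)) [.fwd 202, .bwd 407, .bwd 266],
   .define,
   .define,
   .define,
   .define,
   .define,
   .loop (some (14, 7)) [.fwd 266, .fwd 189, .bwd 202, .fwd 412, .fwd 413, .fwd 414, .fwd 415, .fwd 416],
   .define,
   .loop (some (12, 3)) [.fwd 416, .fwd 417, .fwd 266, .fwd 408, .bwd 410, .fwd 418],
   .loop (some (5, 0)) [.bwd 103, .fwd 266, .fwd 67],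
   .define,
   .loop (some (10, 3)) [.bwd 420, .bwd 203, .fwd 420, .fwd 421],
   .define,
   .define,
   .define,
   .define,
   .define,
   .loop (some (14, 7)) [.fwd 202, .bwd 189, .bwd 266, .fwd 423, .fwd 424, .fwd 425, .fwd 426, .fwd 427],
   .define,
   .loop (some (12, 3)) [.fwd 427, .fwd 428, .fwd 202, .fwd 420, .bwd 422, .fwd 429],
   .define,
   .define,
   .loop (some (13, 6)) [.bwd 290, .fwd 256, .bwd 391, .fwd 388, .fwd 379, .bwd 348, .fwd 431, .fwd 432],
   .define,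
   .define,
   .loop (some (13, 6)) [.fwd 284, .fwd 246, .bwd 378, .bwd 388, .fwd 392, .fwd 353, .fwd 434, .fwd 435],
   .loop (some (4, 2)) [.fwd 428, .fwd 169, .bwd 281, .bwd 131],
   .loop none [.bwd 437],
   .loop none [.bwd 428, .bwd 438],
   .loop none [.fwd 427, .bwd 438],
   .loop (some (7, 2)) [.fwd 169, .bwd 291, .bwd 433],
   .define,
   .loop (some (9, 2)) [.bwd 194, .bwd 291, .fwd 442],
   .loop (some (0, 1)) [.fwd 291, .fwd 238],
   .loop (some (2, 2)) [.bwd 194, .bwd 169, .fwd 412],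
   .loop (some (1, 2)) [.bwd 194, .bwd 267, .fwd 270],
   .loop (some (10, 1)) [.fwd 214, .fwd 288, .bwd 204, .bwd 79, .bwd 291],
   .loop none [.fwd 447],
   .loop none [.fwd 433, .bwd 448],
   .loop none [.fwd 290, .bwd 448],
   .loop none [.bwd 442, .bwd 448],
   .loop none [.bwd 291, .bwd 448],
   .loop none [.fwd 444, .bwd 448],
   .loop (some (6, 1)) [.fwd 354, .fwd 267, .bwd 452],
   .loop (some (3, 1)) [.bwd 272, .fwd 267, .bwd 281],
   .define,
   .define,
   .loop (some (14, 4)) [.bwd 451, .fwd 214, .fwd 287, .fwd 281, .fwd 194, .fwd 195, .fwd 456, .fwd 457],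
   .define,
   .loop (some (11, 2)) [.bwd 451, .fwd 450, .bwd 84, .bwd 234, .fwd 459],
   .loop (some (5, 3)) [.fwd 234, .bwd 83, .bwd 105, .bwd 206],
   .loop none [.bwd 461],
   .loop none [.fwd 233, .bwd 462],
   .loop none [.bwd 234, .bwd 462],
   .loop none [.bwd 459, .bwd 462],
   .loop (some (8, 2)) [.fwd 284, .bwd 277, .bwd 464],
   .loop (some (4, 2)) [.fwd 417, .bwd 102, .fwd 272, .fwd 342],
   .loop none [.bwd 467],
   .loop none [.bwd 417, .bwd 468],
   .loop none [.fwd 416, .bwd 468],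
   .loop (some (7, 2)) [.bwd 102, .bwd 354, .fwd 434],
   .define,
   .loop (some (9, 2)) [.bwd 270, .bwd 354, .fwd 472],
   .loop (some (0, 1)) [.fwd 354, .bwd 347],
   .loop (some (2, 2)) [.bwd 270, .fwd 102, .fwd 423],
   .loop (some (10, 1)) [.fwd 201, .fwd 351, .bwd 190, .bwd 271, .bwd 354],
   .loop none [.fwd 476],
   .loop none [.fwd 454, .bwd 477],
   .loop none [.bwd 434, .bwd 477],
   .loop none [.fwd 353, .bwd 477],
   .loop none [.bwd 472, .bwd 477],
   .loop none [.bwd 354, .bwd 477],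
   .loop none [.fwd 474, .bwd 477],
   .define,
   .define,
   .loop (some (14, 4)) [.bwd 481, .fwd 201, .fwd 198, .bwd 272, .fwd 270, .fwd 208, .fwd 484, .fwd 485],
   .define,
   .define,
   .define,
   .loop (some (11, 4)) [.bwd 423, .fwd 103, .fwd 487, .fwd 488, .fwd 489],
   .define,
   .loop (some (9, 2)) [.bwd 423, .bwd 471, .fwd 491],
   .define,
   .loop (some (0, 1)) [.fwd 471, .fwd 493],
   .loop (some (8, 2)) [.bwd 103, .bwd 471, .fwd 435],
   .loop (some (1, 2)) [.bwd 423, .fwd 411, .fwd 412],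
   .define,
   .loop (some (10, 2)) [.bwd 408, .bwd 266, .bwd 471, .fwd 497],
   .loop (some (6, 1)) [.fwd 441, .bwd 411, .bwd 471]]

theorem just1_len : just1.length = 250 := by decide +kernel

theorem just1_ok : cert.okFacts 250 just1 = true := by decide +kernel

/-- justifications -/
noncomputable def just2 : List Cert.Just :=
  [.loop (some (3, 1)) [.fwd 439, .bwd 411, .bwd 469],
   .define,
   .define,
   .define,
   .loop (some (14, 5)) [.fwd 419, .bwd 470, .fwd 469, .fwd 423, .fwd 424, .fwd 501, .fwd 502, .fwd 503],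
   .loop (some (13, 0)) [.fwd 168, .fwd 169, .bwd 78, .bwd 133, .fwd 70, .fwd 69, .bwd 105, .bwd 104],
   .define,
   .loop (some (9, 2)) [.bwd 487, .bwd 495, .fwd 506],
   .loop (some (0, 1)) [.fwd 495, .fwd 421],
   .loop (some (2, 2)) [.bwd 487, .fwd 104, .fwd 215],
   .loop (some (5, 1)) [.bwd 232, .fwd 469, .fwd 103, .bwd 422],
   .loop none [.fwd 510],
   .loop none [.bwd 429, .bwd 511],
   .loop none [.bwd 422, .bwd 511],
   .loop none [.bwd 508, .bwd 511],
   .loop none [.fwd 421, .bwd 511],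
   .define,
   .loop (some (1, 2)) [.bwd 487, .fwd 505, .fwd 516],
   .define,
   .loop (some (10, 2)) [.bwd 512, .fwd 513, .bwd 495, .fwd 518],
   .loop (some (6, 1)) [.fwd 498, .bwd 505, .bwd 495],
   .define,
   .define,
   .define,
   .define,
   .loop (some (14, 5)) [.fwd 439, .fwd 202, .fwd 420, .fwd 487, .fwd 521, .fwd 522, .fwd 523, .fwd 524],
   .loop (some (13, 0)) [.bwd 166, .bwd 88, .bwd 89, .bwd 273, .fwd 274, .fwd 102, .fwd 103, .fwd 104],
   .loop (some (9, 2)) [.bwd 215, .bwd 288, .bwd 210],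
   .loop (some (1, 2)) [.bwd 215, .fwd 526, .fwd 295],
   .loop (some (6, 1)) [.fwd 351, .bwd 526, .bwd 288],
   .define,
   .define,
   .define,
   .loop (some (14, 4)) [.fwd 217, .fwd 281, .fwd 79, .fwd 204, .fwd 215, .fwd 530, .fwd 531, .fwd 532],
   .define,
   .loop (some (11, 2)) [.bwd 481, .fwd 480, .bwd 402, .fwd 128, .fwd 534],
   .loop (some (5, 3)) [.bwd 128, .fwd 403, .fwd 166, .bwd 192],
   .loop none [.fwd 536],
   .loop none [.bwd 200, .bwd 537],
   .loop none [.bwd 192, .bwd 537],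
   .loop none [.fwd 191, .bwd 537],
   .loop (some (13, 0)) [.fwd 464, .bwd 106, .fwd 162, .bwd 116, .bwd 132, .bwd 131, .bwd 130, .bwd 129],
   .loop (some (4, 3)) [.bwd 129, .fwd 539, .fwd 167, .bwd 410],
   .loop none [.fwd 542],
   .loop none [.bwd 418, .bwd 543],
   .loop none [.bwd 410, .bwd 543],
   .loop none [.fwd 409, .bwd 543],
   .loop (some (9, 2)) [.bwd 534, .fwd 540, .fwd 295],
   .loop (some (0, 0)) [.fwd 351, .bwd 540],
   .define,
   .loop (some (2, 2)) [.bwd 534, .fwd 129, .fwd 549],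
   .loop (some (1, 2)) [.bwd 534, .fwd 541, .fwd 465],
   .define,
   .define,
   .define,
   .loop (some (14, 4)) [.bwd 270, .fwd 271, .fwd 190, .bwd 539, .fwd 534, .fwd 552, .fwd 553, .fwd 554],
   .define,
   .define,
   .loop (some (11, 4)) [.bwd 549, .fwd 130, .bwd 525, .fwd 556, .fwd 557],
   .loop (some (13, 0)) [.bwd 232, .bwd 342, .fwd 343, .bwd 302, .bwd 397, .bwd 401, .fwd 128, .fwd 129],
   .loop (some (9, 2)) [.bwd 549, .fwd 546, .fwd 516],
   .loop (some (0, 0)) [.fwd 498, .bwd 546],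
   .loop (some (5, 1)) [.bwd 440, .bwd 130, .fwd 544],
   .loop (some (8, 2)) [.bwd 130, .fwd 546, .fwd 168],
   .define,
   .loop (some (1, 2)) [.bwd 549, .fwd 559, .fwd 564],
   .loop (some (10, 4)) [.bwd 544, .fwd 546, .bwd 545, .fwd 561, .bwd 497],
   .loop none [.fwd 566],
   .loop none [.bwd 499, .bwd 567],
   .loop none [.fwd 479, .bwd 567],
   .loop none [.bwd 562, .fwd 567, .fwd 435],
   .loop none [.fwd 570],
   .loop none [.fwd 504, .fwd 567, .fwd 491],
   .loop none [.bwd 572],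
   .loop none [.bwd 419, .fwd 567, .fwd 497],
   .loop none [.fwd 574],
   .loop none [.bwd 471, .bwd 567],
   .loop none [.fwd 494, .bwd 567],
   .loop none [.fwd 575, .bwd 520, .bwd 571],
   .loop none [.bwd 436, .bwd 571],
   .loop none [.fwd 426, .fwd 571, .fwd 506],
   .loop none [.fwd 580],
   .loop none [.fwd 440, .fwd 571, .fwd 518],
   .loop none [.fwd 582],
   .loop none [.bwd 495, .bwd 571],
   .loop none [.fwd 514, .bwd 571],
   .loop none [.bwd 504, .bwd 573],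
   .loop none [.fwd 503, .bwd 573],
   .loop none [.bwd 498, .bwd 575],
   .loop none [.fwd 561, .bwd 575],
   .loop none [.bwd 507, .bwd 581],
   .loop none [.bwd 519, .bwd 583],
   .define,
   .define,
   .define,
   .loop (some (14, 4)) [.bwd 423, .fwd 266, .fwd 408, .bwd 545, .fwd 549, .fwd 592, .fwd 593, .fwd 594],
   .loop (some (9, 2)) [.fwd 525, .bwd 563, .fwd 412],
   .loop (some (0, 1)) [.fwd 441, .fwd 563, .fwd 591],
   .loop none [.bwd 597],
   .loop none [.fwd 568, .bwd 598],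
   .loop none [.fwd 449, .bwd 598],
   .loop none [.fwd 432, .bwd 598],
   .loop none [.bwd 441, .bwd 598],
   .loop (some (2, 2)) [.fwd 525, .fwd 131, .bwd 217],
   .define,
   .loop (some (1, 2)) [.fwd 525, .bwd 500, .fwd 604],
   .loop (some (6, 3)) [.fwd 500, .bwd 563, .bwd 411, .fwd 493],
   .loop none [.fwd 606],
   .loop none [.fwd 577, .bwd 607],
   .loop none [.fwd 493, .bwd 607],
   .define,
   .define,
   .define,
   .loop (some (14, 4)) [.bwd 564, .fwd 512, .fwd 430, .bwd 440, .bwd 525, .fwd 610, .fwd 611, .fwd 612],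
   .loop (some (9, 2)) [.fwd 217, .bwd 238, .fwd 194],
   .loop (some (1, 2)) [.fwd 217, .fwd 455, .fwd 344],
   .define,
   .define,
   .define,
   .loop (some (14, 4)) [.bwd 465, .fwd 213, .fwd 214, .fwd 287, .bwd 217, .fwd 616, .fwd 617, .fwd 618],
   .loop (some (7, 2)) [.fwd 588, .bwd 167, .bwd 351, .fwd 431],
   .loop none [.fwd 620],
   .loop none [.fwd 431, .bwd 621],
   .loop none [.fwd 601, .bwd 621],
   .loop (some (9, 2)) [.bwd 295, .bwd 351, .bwd 197],
   .loop (some (2, 2)) [.bwd 295, .fwd 167, .fwd 516],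
   .define,
   .define,
   .define,
   .loop (some (14, 4)) [.bwd 344, .bwd 272, .fwd 271, .fwd 190, .fwd 295, .fwd 626, .fwd 627, .fwd 628],
   .define,
   .define,
   .loop (some (11, 4)) [.bwd 516, .fwd 168, .fwd 412, .fwd 630, .fwd 631],
   .loop (some (9, 2)) [.bwd 516, .bwd 588, .bwd 415],
   .define,
   .define,
   .define,
   .loop (some (14, 4)) [.bwd 604, .fwd 469, .fwd 266, .fwd 408, .fwd 516, .fwd 634, .fwd 635, .fwd 636],
   .define,
   .loop (some (9, 2)) [.bwd 412, .bwd 602, .fwd 638],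
   .define,
   .define,
   .loop (some (14, 4)) [.bwd 638, .fwd 430, .bwd 440, .fwd 439, .fwd 412, .fwd 413, .fwd 640, .fwd 641],
   .define,
   .define,
   .define,
   .define,
   .loop (some (13, 6)) [.bwd 630, .fwd 445, .bwd 446, .bwd 352, .fwd 643, .fwd 644, .fwd 645, .fwd 646],
   .loop (some (4, 1)) [.bwd 413, .fwd 445, .fwd 195],
   .loop (some (7, 1)) [.fwd 639, .fwd 445, .bwd 443],
   .loop (some (0, 1)) [.fwd 443, .fwd 614],
   .define,
   .define,
   .loop (some (5, 2)) [.fwd 289, .fwd 651, .fwd 652],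
   .loop (some (8, 2)) [.fwd 289, .bwd 443, .bwd 460],
   .define,
   .loop (some (10, 3)) [.bwd 651, .bwd 443, .bwd 458, .fwd 655],
   .loop (some (6, 1)) [.fwd 473, .fwd 446, .bwd 443],
   .loop (some (3, 1)) [.bwd 208, .fwd 446, .fwd 195],
   .define,
   .define,
   .loop (some (14, 6)) [.bwd 196, .bwd 195, .bwd 194, .bwd 281, .bwd 217, .fwd 616, .fwd 659, .fwd 660],
   .define,
   .loop (some (12, 3)) [.fwd 661, .bwd 196, .bwd 195, .fwd 651, .bwd 656, .fwd 662],
   .define,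
   .define,
   .define,
   .define,
   .loop (some (11, 4)) [.bwd 456, .fwd 664, .fwd 665, .fwd 666, .fwd 667],
   .define,
   .define,
   .define,
   .define,
   .define,
   .define,
   .loop (some (13, 7)) [.bwd 648, .fwd 658, .fwd 669, .fwd 670, .fwd 671, .fwd 672, .fwd 673, .fwd 674],
   .loop (some (4, 2)) [.bwd 414, .bwd 648, .fwd 196, .fwd 643],
   .loop none [.fwd 676],
   .loop none [.fwd 643, .bwd 677],
   .loop none [.bwd 644, .bwd 677],
   .define,
   .define,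
   .loop (some (7, 2)) [.bwd 648, .fwd 680, .fwd 681],
   .define,
   .loop (some (9, 2)) [.bwd 456, .fwd 680, .fwd 683],
   .define,
   .loop (some (0, 1)) [.bwd 680, .fwd 685],
   .loop (some (2, 2)) [.bwd 456, .fwd 648, .fwd 640],
   .loop (some (5, 4)) [.bwd 195, .bwd 289, .bwd 209, .fwd 669],
   .loop none [.fwd 688],
   .loop none [.bwd 648, .fwd 689, .fwd 670],
   .loop none [.fwd 690],
   .loop none [.bwd 664, .fwd 689, .bwd 669],
   .loop none [.bwd 692],
   .loop none [.fwd 675, .fwd 691, .fwd 671],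
   .loop none [.bwd 694],
   .loop none [.fwd 664, .bwd 693],
   .loop none [.bwd 484, .fwd 693, .fwd 665],
   .loop none [.fwd 697],
   .loop none [.bwd 672, .fwd 695, .bwd 674],
   .loop none [.fwd 699],
   .loop none [.bwd 675, .bwd 695],
   .loop none [.bwd 666, .bwd 698],
   .loop none [.fwd 673, .bwd 700],
   .define,
   .loop (some (8, 2)) [.fwd 696, .fwd 680, .fwd 704],
   .loop (some (1, 2)) [.bwd 456, .fwd 658, .fwd 484],
   .define,
   .loop (some (10, 2)) [.bwd 651, .fwd 195, .fwd 680, .fwd 707],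
   .loop (some (6, 1)) [.fwd 705, .bwd 658, .fwd 680],
   .loop (some (3, 1)) [.bwd 209, .bwd 658, .fwd 196],
   .define,
   .define,
   .define,
   .loop (some (14, 5)) [.fwd 663, .fwd 661, .bwd 196, .fwd 456, .fwd 457, .fwd 711, .fwd 712, .fwd 713],
   .define,
   .loop (some (4, 2)) [.fwd 678, .bwd 661, .fwd 715],
   .define,
   .define,
   .loop (some (7, 2)) [.fwd 678, .fwd 717, .fwd 718],
   .loop (some (9, 1)) [.bwd 534, .fwd 548, .bwd 197, .fwd 717],
   .loop none [.fwd 720],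
   .loop none [.fwd 550, .fwd 721, .fwd 718],
   .loop none [.fwd 722],
   .loop none [.fwd 717, .bwd 721],
   .loop none [.bwd 719, .bwd 723],
   .loop (some (10, 1)) [.fwd 443, .fwd 195, .fwd 196, .bwd 724],
   .loop (some (3, 1)) [.fwd 653, .bwd 710, .bwd 661],
   .define,
   .define,
   .loop (some (14, 5)) [.fwd 662, .fwd 663, .fwd 661, .fwd 197, .bwd 201, .fwd 481, .fwd 728, .fwd 729],
   .define,
   .loop (some (14, 4)) [.bwd 295, .bwd 539, .fwd 538, .fwd 201, .bwd 197, .bwd 661, .bwd 660, .fwd 731],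
   .loop (some (9, 2)) [.bwd 344, .fwd 347, .fwd 270],
   .loop (some (2, 2)) [.bwd 344, .fwd 342, .fwd 604],
   .loop (some (14, 1)) [.bwd 711, .fwd 458, .bwd 726, .bwd 534, .fwd 538, .fwd 201, .fwd 198, .fwd 344],
   .loop (some (9, 2)) [.bwd 481, .fwd 483, .fwd 344],
   .loop (some (2, 2)) [.bwd 481, .bwd 569, .bwd 586],
   .loop (some (14, 2)) [.bwd 465, .fwd 206, .bwd 204, .bwd 43, .fwd 190, .bwd 539, .fwd 538, .fwd 481, .fwd 728],
   .loop none [.fwd 738],
   .loop none [.fwd 619, .fwd 739, .bwd 728],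
   .loop none [.bwd 740],
   .loop none [.bwd 729, .bwd 739],
   .loop none [.fwd 486, .fwd 741, .bwd 618],
   .loop none [.fwd 743],
   .loop none [.bwd 619, .bwd 741],
   .loop none [.fwd 617, .bwd 744],
   .loop (some (9, 2)) [.bwd 465, .bwd 205, .fwd 215],
   .loop (some (2, 2)) [.bwd 465, .fwd 463, .fwd 564],
   .define]

theorem just2_len : just2.length = 250 := by decide +kernel

theorem just2_ok : cert.okFacts 500 just2 = true := by decide +kernel

/-- justifications -/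
noncomputable def just3 : List Cert.Just :=
  [.define,
   .define,
   .define,
   .loop (some (13, 6)) [.fwd 490, .fwd 475, .fwd 446, .bwd 289, .fwd 749, .fwd 750, .fwd 751, .fwd 752],
   .loop (some (4, 1)) [.bwd 424, .fwd 475, .fwd 208],
   .loop (some (5, 1)) [.fwd 661, .fwd 352, .bwd 555],
   .loop (some (10, 2)) [.fwd 554, .fwd 555, .bwd 473, .bwd 486],
   .loop (some (14, 5)) [.fwd 653, .bwd 209, .bwd 208, .bwd 270, .fwd 272, .fwd 344, .fwd 735, .fwd 712],
   .define,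
   .loop (some (12, 3)) [.fwd 653, .bwd 209, .bwd 208, .bwd 555, .bwd 554, .fwd 758],
   .define,
   .define,
   .loop (some (13, 5)) [.bwd 761, .bwd 760, .bwd 754, .bwd 658, .bwd 696, .fwd 754, .fwd 760, .fwd 761],
   .loop (some (4, 2)) [.bwd 425, .bwd 754, .fwd 209, .fwd 749],
   .loop none [.fwd 763],
   .loop none [.fwd 749, .bwd 764],
   .loop none [.bwd 750, .bwd 764],
   .define,
   .loop (some (7, 2)) [.bwd 754, .bwd 705, .fwd 767],
   .define,
   .loop (some (9, 2)) [.bwd 484, .bwd 705, .fwd 769],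
   .define,
   .loop (some (0, 1)) [.fwd 705, .fwd 771],
   .loop (some (2, 2)) [.bwd 484, .fwd 754, .fwd 501],
   .define,
   .loop (some (10, 2)) [.fwd 555, .fwd 208, .bwd 705, .fwd 774],
   .loop (some (14, 5)) [.fwd 759, .fwd 653, .bwd 209, .fwd 484, .fwd 485, .fwd 746, .fwd 659, .fwd 731],
   .define,
   .loop (some (4, 2)) [.fwd 765, .bwd 653, .fwd 777],
   .loop (some (7, 2)) [.fwd 765, .bwd 654, .bwd 748],
   .loop (some (14, 4)) [.bwd 215, .bwd 206, .fwd 213, .fwd 214, .bwd 210, .bwd 653, .bwd 757, .fwd 713],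
   .define,
   .define,
   .define,
   .loop (some (13, 6)) [.bwd 488, .bwd 509, .bwd 528, .fwd 296, .bwd 734, .fwd 781, .fwd 782, .fwd 783],
   .loop (some (4, 1)) [.bwd 521, .bwd 509, .fwd 530],
   .loop (some (5, 1)) [.bwd 616, .bwd 216, .bwd 780],
   .loop (some (10, 3)) [.fwd 713, .fwd 780, .bwd 527, .bwd 209, .fwd 771],
   .loop none [.fwd 787],
   .loop none [.bwd 772, .bwd 788],
   .loop none [.fwd 771, .bwd 788],
   .loop (some (3, 1)) [.bwd 626, .fwd 528, .fwd 530],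
   .loop (some (14, 8)) [.bwd 530, .bwd 215, .bwd 204, .bwd 43, .bwd 271, .fwd 272, .fwd 344, .bwd 629, .bwd 628],
   .loop none [.fwd 792],
   .loop none [.bwd 531, .fwd 793, .bwd 627],
   .loop none [.fwd 794],
   .loop none [.bwd 628, .bwd 793],
   .loop none [.fwd 791, .bwd 795],
   .loop none [.fwd 626, .bwd 795],
   .define,
   .define,
   .loop (some (13, 6)) [.bwd 556, .bwd 603, .bwd 615, .bwd 296, .bwd 625, .bwd 632, .fwd 799, .fwd 800],
   .loop (some (4, 1)) [.bwd 610, .bwd 603, .fwd 616],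
   .loop (some (5, 1)) [.bwd 530, .fwd 216, .bwd 533],
   .loop (some (10, 2)) [.fwd 532, .fwd 533, .bwd 614, .fwd 651],
   .loop (some (3, 1)) [.bwd 735, .fwd 615, .fwd 616],
   .define,
   .loop (some (11, 3)) [.bwd 781, .bwd 604, .fwd 232, .fwd 564, .fwd 806],
   .loop (some (9, 2)) [.bwd 604, .fwd 609, .fwd 423],
   .define,
   .define,
   .define,
   .loop (some (14, 4)) [.bwd 549, .fwd 544, .fwd 419, .bwd 470, .fwd 604, .fwd 809, .fwd 810, .fwd 811],
   .loop (some (9, 2)) [.bwd 564, .fwd 515, .fwd 487],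
   .define,
   .define,
   .define,
   .loop (some (14, 4)) [.bwd 412, .fwd 202, .fwd 420, .bwd 513, .fwd 564, .fwd 814, .fwd 815, .fwd 816],
   .loop (some (4, 1)) [.bwd 634, .fwd 625, .bwd 798],
   .loop (some (5, 1)) [.bwd 735, .bwd 296, .bwd 732],
   .loop (some (10, 3)) [.fwd 731, .fwd 732, .bwd 624, .bwd 196, .fwd 685],
   .loop none [.fwd 820],
   .loop none [.bwd 686, .bwd 821],
   .loop none [.fwd 685, .bwd 821],
   .loop (some (4, 1)) [.bwd 809, .fwd 734, .fwd 735],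
   .loop (some (5, 1)) [.fwd 798, .fwd 296, .bwd 629],
   .loop (some (10, 2)) [.fwd 796, .fwd 629, .bwd 733, .bwd 555],
   .loop (some (0, 1)) [.fwd 639, .fwd 596],
   .define,
   .loop (some (5, 2)) [.bwd 630, .bwd 817, .fwd 828],
   .define,
   .loop (some (8, 2)) [.bwd 630, .bwd 639, .fwd 830],
   .loop (some (10, 2)) [.fwd 816, .fwd 817, .bwd 639, .bwd 642],
   .loop (some (6, 1)) [.fwd 492, .bwd 496, .bwd 639],
   .loop (some (3, 1)) [.bwd 424, .bwd 496, .fwd 413],
   .define,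
   .loop (some (14, 5)) [.fwd 716, .bwd 414, .bwd 413, .bwd 412, .bwd 439, .bwd 525, .fwd 610, .fwd 835],
   .define,
   .loop (some (12, 3)) [.fwd 716, .bwd 414, .bwd 413, .bwd 817, .bwd 816, .fwd 837],
   .define,
   .define,
   .define,
   .loop (some (11, 4)) [.bwd 640, .bwd 701, .fwd 839, .fwd 840, .fwd 841],
   .define,
   .loop (some (9, 2)) [.bwd 640, .bwd 682, .fwd 843],
   .define,
   .loop (some (0, 1)) [.fwd 682, .fwd 845],
   .loop (some (5, 2)) [.fwd 701, .bwd 413, .fwd 630],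
   .define,
   .loop (some (8, 2)) [.fwd 701, .bwd 682, .fwd 848],
   .loop (some (1, 2)) [.bwd 640, .fwd 834, .fwd 501],
   .define,
   .loop (some (10, 2)) [.fwd 817, .fwd 413, .bwd 682, .fwd 851],
   .loop (some (6, 1)) [.fwd 768, .bwd 834, .bwd 682],
   .loop (some (3, 1)) [.bwd 425, .bwd 834, .fwd 414],
   .define,
   .define,
   .define,
   .loop (some (14, 5)) [.fwd 838, .fwd 716, .bwd 414, .fwd 640, .fwd 641, .fwd 855, .fwd 856, .fwd 857],
   .loop (some (11, 1)) [.bwd 830, .bwd 638, .bwd 623, .bwd 415, .fwd 679],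
   .loop (some (5, 2)) [.bwd 679, .bwd 414, .bwd 701],
   .loop (some (8, 2)) [.bwd 679, .bwd 725, .bwd 558],
   .loop (some (10, 2)) [.fwd 639, .fwd 413, .fwd 414, .bwd 725, .bwd 812],
   .loop none [.fwd 862],
   .loop none [.fwd 642, .fwd 863, .bwd 811],
   .loop none [.fwd 864],
   .loop none [.bwd 812, .bwd 863],
   .loop none [.bwd 855, .fwd 865, .bwd 810],
   .loop none [.bwd 867],
   .loop none [.fwd 855, .bwd 868],
   .loop none [.bwd 856, .bwd 868],
   .loop (some (3, 1)) [.fwd 778, .bwd 854, .bwd 716],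
   .loop (some (14, 3)) [.fwd 613, .fwd 814, .fwd 815, .fwd 837, .fwd 838, .fwd 716, .fwd 415, .bwd 419, .bwd 586],
   .loop none [.bwd 872],
   .loop none [.bwd 587, .fwd 873, .bwd 612],
   .loop none [.fwd 874],
   .loop none [.bwd 613, .bwd 873],
   .loop none [.fwd 611, .bwd 875],
   .define,
   .loop (some (14, 4)) [.bwd 516, .bwd 545, .fwd 544, .fwd 419, .bwd 415, .bwd 716, .bwd 836, .fwd 878],
   .define,
   .loop (some (11, 4)) [.fwd 586, .fwd 562, .bwd 426, .fwd 766, .fwd 880],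
   .loop (some (9, 2)) [.fwd 586, .bwd 608, .fwd 604],
   .define,
   .loop (some (5, 2)) [.fwd 490, .bwd 595, .fwd 883],
   .loop (some (8, 2)) [.fwd 490, .bwd 492, .bwd 881],
   .loop (some (10, 2)) [.fwd 594, .fwd 595, .bwd 492, .fwd 587],
   .loop (some (14, 5)) [.fwd 778, .bwd 425, .bwd 424, .bwd 423, .bwd 469, .fwd 604, .fwd 809, .fwd 870],
   .define,
   .loop (some (12, 3)) [.fwd 778, .bwd 425, .bwd 424, .bwd 595, .bwd 594, .fwd 888],
   .define,
   .define,
   .define,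
   .loop (some (11, 4)) [.bwd 501, .fwd 760, .fwd 890, .fwd 891, .fwd 892],
   .define,
   .loop (some (9, 2)) [.bwd 501, .bwd 768, .fwd 894],
   .define,
   .loop (some (0, 1)) [.fwd 768, .fwd 896],
   .loop (some (5, 2)) [.bwd 760, .bwd 424, .bwd 490],
   .define,
   .loop (some (8, 2)) [.bwd 760, .bwd 768, .fwd 899],
   .define,
   .loop (some (10, 2)) [.fwd 595, .fwd 424, .bwd 768, .fwd 901],
   .loop (some (14, 5)) [.fwd 889, .fwd 778, .bwd 425, .fwd 501, .fwd 502, .fwd 877, .fwd 835, .fwd 878],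
   .loop (some (5, 2)) [.bwd 766, .bwd 425, .fwd 760],
   .loop (some (8, 2)) [.bwd 766, .bwd 779, .fwd 806],
   .loop (some (14, 4)) [.bwd 487, .bwd 513, .fwd 512, .fwd 430, .bwd 426, .bwd 778, .bwd 887, .fwd 857],
   .define,
   .define,
   .loop (some (13, 6)) [.bwd 830, .bwd 649, .fwd 657, .bwd 535, .bwd 550, .bwd 558, .fwd 907, .fwd 908],
   .loop (some (5, 1)) [.bwd 742, .fwd 460, .bwd 458],
   .loop (some (10, 2)) [.fwd 684, .fwd 457, .fwd 458, .bwd 650, .bwd 533],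
   .loop none [.bwd 911],
   .loop none [.fwd 683, .bwd 912],
   .loop none [.bwd 684, .bwd 912],
   .define,
   .define,
   .loop (some (14, 6)) [.bwd 552, .fwd 726, .bwd 451, .bwd 213, .fwd 465, .fwd 742, .fwd 915, .fwd 916],
   .define,
   .loop (some (12, 3)) [.fwd 917, .bwd 552, .fwd 726, .bwd 458, .bwd 457, .fwd 918],
   .define,
   .define,
   .define,
   .define,
   .loop (some (13, 6)) [.fwd 842, .fwd 687, .bwd 706, .fwd 702, .fwd 920, .fwd 921, .fwd 922, .fwd 923],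
   .loop (some (4, 1)) [.bwd 641, .fwd 687, .fwd 457],
   .loop (some (7, 1)) [.fwd 844, .fwd 687, .bwd 914],
   .define,
   .loop (some (0, 1)) [.fwd 914, .fwd 927],
   .define,
   .loop (some (5, 2)) [.fwd 668, .fwd 918, .fwd 929],
   .loop (some (8, 2)) [.fwd 668, .bwd 914, .fwd 803],
   .loop (some (10, 2)) [.bwd 919, .bwd 918, .bwd 914, .bwd 532],
   .loop (some (6, 1)) [.fwd 770, .fwd 706, .bwd 914],
   .loop (some (3, 1)) [.bwd 485, .fwd 706, .fwd 457],
   .loop (some (11, 2)) [.bwd 776, .fwd 819, .bwd 711, .fwd 910, .fwd 730],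
   .define,
   .define,
   .define,
   .define,
   .define,
   .define,
   .loop (some (13, 7)) [.bwd 925, .fwd 934, .fwd 936, .fwd 937, .fwd 938, .fwd 939, .fwd 940, .fwd 941],
   .define,
   .define,
   .loop (some (7, 2)) [.bwd 925, .fwd 943, .fwd 944],
   .define,
   .loop (some (9, 2)) [.bwd 711, .fwd 943, .fwd 946],
   .loop (some (0, 1)) [.bwd 943, .fwd 655],
   .loop (some (5, 2)) [.bwd 915, .bwd 910, .bwd 457, .bwd 668],
   .loop none [.bwd 949],
   .loop none [.fwd 667, .fwd 950, .fwd 916],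
   .loop none [.fwd 951],
   .loop none [.fwd 915, .bwd 950],
   .loop none [.bwd 917, .bwd 952],
   .loop none [.fwd 919, .bwd 952],
   .loop none [.fwd 932, .bwd 952],
   .define,
   .loop (some (8, 2)) [.bwd 910, .fwd 943, .fwd 957],
   .define,
   .loop (some (10, 2)) [.bwd 918, .fwd 457, .fwd 943, .fwd 959],
   .define,
   .loop (some (6, 2)) [.bwd 934, .fwd 943, .fwd 961],
   .define,
   .define,
   .loop (some (13, 6)) [.bwd 806, .fwd 748, .fwd 551, .fwd 535, .bwd 737, .bwd 881, .fwd 963, .fwd 964],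
   .loop (some (4, 1)) [.bwd 814, .fwd 748, .fwd 742],
   .loop (some (10, 2)) [.fwd 962, .fwd 486, .fwd 745, .bwd 747, .bwd 780],
   .loop none [.bwd 967],
   .loop none [.fwd 961, .bwd 968],
   .loop none [.bwd 962, .bwd 968],
   .loop (some (3, 1)) [.bwd 552, .bwd 551, .fwd 742],
   .loop (some (14, 5)) [.fwd 930, .fwd 953, .bwd 742, .bwd 465, .fwd 206, .fwd 215, .fwd 530, .fwd 796],
   .loop (some (12, 3)) [.fwd 930, .fwd 953, .bwd 742, .bwd 745, .bwd 486, .bwd 485],
   .loop (some (5, 2)) [.bwd 552, .fwd 535, .bwd 486, .fwd 936],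
   .loop none [.fwd 974],
   .loop none [.bwd 937, .bwd 975],
   .loop none [.fwd 936, .bwd 975],
   .loop (some (10, 2)) [.fwd 770, .fwd 485, .fwd 486, .bwd 736, .bwd 629],
   .loop none [.bwd 978],
   .loop none [.fwd 933, .bwd 979],
   .loop none [.bwd 972, .fwd 979, .bwd 769],
   .loop none [.bwd 981],
   .loop none [.bwd 770, .bwd 979],
   .loop none [.fwd 704, .fwd 982, .bwd 929],
   .loop none [.fwd 984],
   .loop none [.fwd 972, .bwd 982],
   .loop none [.bwd 774, .fwd 982, .fwd 930],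
   .loop none [.bwd 987],
   .loop none [.fwd 973, .bwd 982],
   .loop none [.bwd 707, .fwd 985, .bwd 955],
   .loop none [.bwd 990],
   .loop none [.fwd 918, .bwd 985],
   .loop none [.fwd 822, .fwd 985, .bwd 960],
   .loop none [.fwd 993],
   .loop none [.fwd 774, .bwd 988],
   .loop none [.bwd 775, .bwd 988],
   .loop none [.fwd 707, .bwd 991],
   .loop none [.bwd 708, .bwd 991],
   .loop none [.bwd 731, .fwd 994, .bwd 959]]

theorem just3_len : just3.length = 250 := by decide +kernel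

theorem just3_ok : cert.okFacts 750 just3 = true := by decide +kernel

/-- justifications -/
noncomputable def just4 : List Cert.Just :=
  [.loop none [.fwd 999],
   .loop none [.fwd 969, .bwd 1000],
   .loop none [.bwd 944, .bwd 1000],
   .loop none [.bwd 819, .fwd 1000, .fwd 957],
   .loop none [.fwd 1003],
   .loop none [.bwd 776, .fwd 1000, .fwd 946],
   .loop none [.fwd 1005],
   .loop none [.fwd 943, .bwd 1000],
   .loop none [.fwd 948, .bwd 1000],
   .loop none [.bwd 958, .bwd 1004],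
   .loop none [.bwd 947, .bwd 1006],
   .define,
   .define,
   .define,
   .define,
   .loop (some (13, 6)) [.fwd 893, .fwd 773, .fwd 706, .bwd 668, .fwd 1011, .fwd 1012, .fwd 1013, .fwd 1014],
   .loop (some (4, 1)) [.bwd 502, .fwd 773, .fwd 485],
   .loop (some (7, 1)) [.fwd 895, .fwd 773, .bwd 983],
   .define,
   .loop (some (0, 1)) [.fwd 983, .fwd 1018],
   .loop (some (11, 2)) [.bwd 714, .fwd 786, .bwd 746, .bwd 977, .fwd 553],
   .define,
   .define,
   .define,
   .define,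
   .loop (some (13, 7)) [.bwd 1016, .bwd 934, .fwd 910, .fwd 966, .fwd 1021, .fwd 1022, .fwd 1023, .fwd 1024],
   .define,
   .loop (some (7, 2)) [.bwd 1016, .bwd 970, .fwd 1026],
   .loop (some (9, 2)) [.bwd 746, .bwd 970, .fwd 714],
   .loop (some (0, 1)) [.fwd 970, .fwd 756],
   .loop (some (8, 2)) [.fwd 977, .bwd 970, .fwd 786],
   .define,
   .loop (some (5, 2)) [.bwd 488, .bwd 906, .fwd 1031],
   .loop (some (8, 2)) [.bwd 488, .bwd 590, .fwd 766],
   .loop (some (10, 3)) [.fwd 857, .fwd 906, .bwd 590, .bwd 425, .fwd 896],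
   .loop none [.fwd 1034],
   .loop none [.bwd 897, .bwd 1035],
   .loop none [.fwd 896, .bwd 1035],
   .loop (some (3, 1)) [.bwd 634, .fwd 517, .fwd 521],
   .loop (some (14, 8)) [.bwd 521, .bwd 487, .bwd 420, .bwd 189, .bwd 266, .bwd 469, .fwd 604, .bwd 637, .bwd 636],
   .loop none [.fwd 1039],
   .loop none [.bwd 522, .fwd 1040, .bwd 635],
   .loop none [.fwd 1041],
   .loop none [.bwd 636, .bwd 1040],
   .loop none [.fwd 1038, .bwd 1042],
   .loop none [.fwd 818, .bwd 1042],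
   .loop none [.fwd 634, .bwd 1042],
   .loop (some (13, 0)) [.fwd 632, .fwd 625, .fwd 296, .bwd 734, .fwd 781, .fwd 782, .fwd 783, .fwd 784],
   .define,
   .loop (some (4, 2)) [.fwd 784, .bwd 1032, .fwd 1048],
   .loop (some (7, 2)) [.fwd 784, .bwd 1033, .fwd 751],
   .loop (some (0, 0)) [.fwd 905, .fwd 1033],
   .loop (some (2, 1)) [.fwd 753, .bwd 489, .bwd 784],
   .define,
   .loop (some (5, 1)) [.bwd 521, .fwd 488, .fwd 1053],
   .loop (some (1, 2)) [.bwd 489, .fwd 1047, .bwd 631],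
   .define,
   .define,
   .loop (some (10, 3)) [.bwd 1053, .bwd 1033, .fwd 1056, .fwd 1057],
   .define,
   .loop (some (6, 2)) [.bwd 1047, .bwd 1033, .fwd 1059],
   .define,
   .loop (some (3, 2)) [.bwd 1047, .bwd 1032, .fwd 1061],
   .define,
   .define,
   .define,
   .define,
   .define,
   .loop (some (14, 7)) [.fwd 1032, .fwd 489, .bwd 884, .fwd 1063, .fwd 1064, .fwd 1065, .fwd 1066, .fwd 1067],
   .define,
   .loop (some (12, 3)) [.fwd 1067, .fwd 1068, .fwd 1032, .fwd 1053, .bwd 1058, .fwd 1069],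
   .define,
   .loop (some (4, 2)) [.fwd 753, .bwd 884, .fwd 1071],
   .loop (some (7, 2)) [.fwd 753, .bwd 885, .fwd 963],
   .define,
   .loop (some (0, 1)) [.fwd 885, .fwd 1074],
   .loop (some (10, 1)) [.fwd 905, .bwd 904, .bwd 898, .bwd 885],
   .loop (some (6, 1)) [.fwd 831, .fwd 1055, .bwd 885],
   .loop (some (3, 1)) [.fwd 829, .fwd 1055, .bwd 884],
   .define,
   .define,
   .define,
   .define,
   .define,
   .loop (some (14, 7)) [.fwd 884, .bwd 489, .bwd 1032, .fwd 1079, .fwd 1080, .fwd 1081, .fwd 1082, .fwd 1083],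
   .loop (some (12, 3)) [.fwd 1083, .fwd 1084, .fwd 884, .fwd 898, .fwd 904, .fwd 1056],
   .loop (some (5, 2)) [.fwd 881, .fwd 587, .bwd 1025],
   .loop (some (8, 2)) [.fwd 1075, .fwd 881, .bwd 882, .fwd 781],
   .loop none [.bwd 1087],
   .loop none [.bwd 1075, .bwd 1088],
   .loop none [.fwd 1074, .bwd 1088],
   .loop (some (10, 2)) [.fwd 895, .fwd 502, .bwd 587, .bwd 882, .bwd 637],
   .loop none [.bwd 1091],
   .loop none [.fwd 1017, .bwd 1092],
   .loop none [.fwd 894, .bwd 1092],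
   .loop none [.bwd 895, .bwd 1092],
   .define,
   .define,
   .loop (some (14, 6)) [.bwd 814, .bwd 876, .fwd 586, .bwd 544, .fwd 549, .fwd 592, .fwd 1096, .fwd 1097],
   .define,
   .loop (some (12, 3)) [.fwd 1098, .bwd 814, .bwd 876, .fwd 587, .bwd 502, .fwd 1099],
   .define,
   .loop (some (0, 1)) [.fwd 1095, .fwd 1101],
   .define,
   .loop (some (5, 2)) [.fwd 893, .fwd 1099, .fwd 1103],
   .define,
   .loop (some (8, 2)) [.fwd 893, .bwd 1095, .fwd 1105],
   .loop (some (10, 2)) [.bwd 1100, .bwd 1099, .bwd 1095, .bwd 1043],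
   .loop (some (6, 1)) [.fwd 844, .bwd 850, .bwd 1095],
   .loop (some (3, 1)) [.bwd 641, .bwd 850, .fwd 502],
   .define,
   .define,
   .define,
   .loop (some (11, 4)) [.bwd 877, .bwd 1025, .fwd 1110, .fwd 1111, .fwd 1112],
   .define,
   .loop (some (9, 2)) [.bwd 877, .bwd 1027, .fwd 1114],
   .loop (some (5, 2)) [.fwd 1025, .bwd 502, .bwd 893],
   .define,
   .loop (some (8, 2)) [.fwd 1025, .bwd 1027, .fwd 1117],
   .loop (some (1, 2)) [.bwd 877, .fwd 1109, .bwd 869],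
   .define,
   .loop (some (10, 2)) [.bwd 1099, .fwd 502, .bwd 1027, .fwd 1120],
   .loop (some (6, 1)) [.fwd 945, .bwd 1109, .bwd 1027],
   .loop (some (5, 1)) [.fwd 1062, .fwd 632, .bwd 879],
   .loop (some (8, 2)) [.fwd 1060, .fwd 632, .bwd 633, .fwd 679],
   .loop none [.bwd 1124],
   .loop none [.fwd 1059, .bwd 1125],
   .loop none [.bwd 1060, .bwd 1125],
   .loop (some (10, 3)) [.fwd 878, .fwd 879, .bwd 633, .bwd 414, .fwd 845],
   .loop none [.fwd 1128],
   .loop none [.bwd 846, .bwd 1129],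
   .loop none [.fwd 845, .bwd 1129],
   .define,
   .define,
   .define,
   .loop (some (11, 4)) [.bwd 522, .bwd 1054, .fwd 1132, .fwd 1133, .fwd 1134],
   .define,
   .define,
   .define,
   .loop (some (13, 5)) [.bwd 926, .fwd 803, .fwd 785, .bwd 1044, .bwd 1135, .fwd 1136, .fwd 1137, .fwd 1138],
   .define,
   .loop (some (7, 1)) [.fwd 826, .fwd 785, .fwd 1140],
   .define,
   .loop (some (9, 2)) [.bwd 522, .fwd 1140, .fwd 1142],
   .loop (some (0, 1)) [.bwd 1140, .fwd 1107],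
   .define,
   .loop (some (8, 2)) [.fwd 1054, .fwd 1140, .fwd 1145],
   .define,
   .loop (some (10, 2)) [.fwd 906, .fwd 521, .fwd 1140, .fwd 1147],
   .loop (some (6, 1)) [.fwd 1143, .fwd 1044, .fwd 1140],
   .loop (some (3, 2)) [.bwd 523, .fwd 1044, .fwd 1043, .fwd 1108],
   .loop none [.fwd 1150],
   .loop none [.fwd 1108, .bwd 1151],
   .loop none [.fwd 926, .bwd 1151],
   .loop none [.fwd 1139, .bwd 1151],
   .loop none [.fwd 843, .bwd 1151],
   .loop none [.bwd 844, .bwd 1151],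
   .loop (some (14, 3)) [.fwd 641, .bwd 869, .bwd 809, .bwd 637, .bwd 1043, .fwd 522, .fwd 523, .fwd 1155],
   .define,
   .define,
   .loop (some (13, 4)) [.bwd 1105, .fwd 1093, .fwd 825, .bwd 1045, .fwd 1044, .bwd 1054, .fwd 1158, .fwd 1159],
   .loop (some (7, 1)) [.fwd 804, .bwd 1045, .bwd 1143],
   .define,
   .loop (some (0, 1)) [.fwd 1143, .fwd 1162],
   .loop (some (5, 2)) [.fwd 1135, .fwd 1046, .bwd 632],
   .define,
   .loop (some (8, 2)) [.fwd 1135, .bwd 1143, .fwd 1165],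
   .define,
   .loop (some (10, 2)) [.fwd 879, .bwd 1046, .bwd 1143, .fwd 1167],
   .loop (some (14, 3)) [.bwd 1099, .fwd 502, .fwd 877, .bwd 610, .bwd 524, .bwd 523, .bwd 522, .fwd 1043, .fwd 1094],
   .loop none [.bwd 1169],
   .loop none [.bwd 899, .fwd 1170, .fwd 1103],
   .loop none [.fwd 1171],
   .loop none [.bwd 901, .fwd 1170, .fwd 1100],
   .loop none [.fwd 1173],
   .loop none [.fwd 1099, .bwd 1170],
   .loop none [.fwd 1036, .fwd 1170, .bwd 1121],
   .loop none [.fwd 1176],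
   .loop none [.bwd 1104, .bwd 1172],
   .loop none [.fwd 1097, .bwd 1174],
   .loop none [.bwd 1098, .bwd 1174],
   .loop none [.bwd 902, .fwd 1174, .fwd 1144],
   .loop none [.fwd 1181],
   .loop none [.fwd 1107, .bwd 1174],
   .loop none [.bwd 857, .fwd 1177, .bwd 1120],
   .loop none [.fwd 1184],
   .loop none [.bwd 1149, .bwd 1182],
   .loop none [.bwd 1141, .bwd 1182],
   .loop none [.bwd 883, .fwd 1182, .fwd 1145],
   .loop none [.fwd 1188],
   .loop none [.bwd 1142, .bwd 1182],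
   .loop none [.fwd 594, .fwd 1182, .fwd 1147],
   .loop none [.fwd 1191],
   .loop none [.fwd 1140, .bwd 1182],
   .loop none [.bwd 1122, .bwd 1185],
   .loop none [.fwd 1026, .bwd 1185],
   .loop none [.bwd 1031, .fwd 1185, .fwd 1117],
   .loop none [.fwd 1196],
   .loop none [.bwd 858, .fwd 1185, .fwd 1114],
   .loop none [.fwd 1198],
   .loop none [.bwd 1027, .bwd 1185],
   .loop none [.bwd 1146, .bwd 1189],
   .loop none [.bwd 1148, .bwd 1192],
   .loop none [.bwd 1118, .bwd 1197],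
   .loop none [.bwd 1115, .bwd 1199],
   .define,
   .define,
   .loop (some (11, 3)) [.bwd 848, .bwd 1155, .fwd 1154, .fwd 1205, .fwd 1206],
   .define,
   .loop (some (7, 1)) [.fwd 928, .bwd 1153, .fwd 1208],
   .loop (some (9, 1)) [.bwd 836, .fwd 1130, .bwd 1155, .fwd 1208],
   .loop none [.fwd 1210],
   .loop none [.fwd 715, .fwd 1211, .fwd 1209],
   .loop none [.fwd 1212],
   .loop none [.fwd 1208, .bwd 1211],
   .loop none [.bwd 928, .bwd 1213],
   .loop none [.fwd 927, .bwd 1213],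
   .loop (some (0, 1)) [.fwd 1214, .fwd 1156],
   .loop (some (5, 2)) [.bwd 1154, .bwd 523, .bwd 1135],
   .define,
   .loop (some (8, 2)) [.bwd 1154, .bwd 1214, .fwd 1219],
   .loop (some (6, 2)) [.fwd 1102, .bwd 1152, .bwd 1214, .fwd 871],
   .loop none [.bwd 1221],
   .loop none [.bwd 1102, .bwd 1222],
   .loop none [.fwd 1101, .bwd 1222],
   .loop (some (5, 2)) [.bwd 556, .bwd 524, .fwd 1154],
   .loop (some (8, 2)) [.bwd 556, .bwd 596, .fwd 630],
   .loop (some (10, 2)) [.fwd 1143, .fwd 523, .fwd 524, .bwd 596, .bwd 817],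
   .loop none [.bwd 1227],
   .loop none [.fwd 1186, .bwd 1228],
   .loop none [.bwd 1161, .bwd 1228],
   .loop none [.bwd 828, .fwd 1228, .fwd 1165],
   .loop none [.fwd 1231],
   .loop none [.fwd 1190, .bwd 1228],
   .loop none [.fwd 816, .fwd 1228, .fwd 1167],
   .loop none [.fwd 1234],
   .loop none [.bwd 1143, .bwd 1228],
   .loop none [.fwd 852, .fwd 1228, .bwd 1163],
   .loop none [.fwd 1237],
   .loop none [.bwd 1166, .bwd 1232],
   .loop none [.bwd 1168, .bwd 1235],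
   .loop none [.fwd 1162, .bwd 1238],
   .loop (some (9, 1)) [.fwd 804, .bwd 531, .bwd 826],
   .loop (some (6, 1)) [.fwd 804, .fwd 797, .bwd 826],
   .loop (some (8, 2)) [.fwd 1019, .fwd 825, .bwd 804, .fwd 652],
   .loop none [.bwd 1244],
   .loop none [.bwd 1019, .bwd 1245],
   .loop none [.fwd 1018, .bwd 1245],
   .loop (some (4, 2)) [.bwd 592, .fwd 550, .fwd 552, .fwd 976],
   .loop none [.fwd 1248]]

theorem just4_len : just4.length = 250 := by decide +kernel

theorem just4_ok : cert.okFacts 1000 just4 = true := by decide +kernel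

/-- justifications -/
noncomputable def just5 : List Cert.Just :=
  [.loop none [.fwd 976, .bwd 1249],
   .loop none [.bwd 938, .bwd 1249],
   .loop (some (5, 2)) [.fwd 558, .bwd 866, .fwd 830],
   .loop (some (8, 2)) [.fwd 558, .bwd 560, .bwd 632],
   .loop (some (10, 2)) [.fwd 945, .fwd 642, .fwd 866, .bwd 560, .bwd 879],
   .loop none [.bwd 1254],
   .loop none [.fwd 1194, .bwd 1255],
   .loop none [.fwd 1002, .bwd 1255],
   .loop none [.bwd 945, .bwd 1255],
   .loop (some (3, 1)) [.bwd 814, .fwd 565, .fwd 592],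
   .loop (some (14, 7)) [.bwd 1096, .bwd 592, .bwd 549, .fwd 545, .fwd 516, .bwd 1046, .fwd 523, .fwd 1155, .fwd 851],
   .loop none [.bwd 1260],
   .loop none [.fwd 1179, .bwd 1261],
   .loop none [.fwd 1096, .bwd 1261],
   .loop (some (4, 2)) [.fwd 1263, .fwd 1250, .bwd 954, .fwd 920],
   .loop none [.fwd 1264],
   .loop none [.fwd 920, .bwd 1265],
   .loop none [.bwd 921, .bwd 1265],
   .loop (some (7, 2)) [.fwd 1250, .bwd 1030, .fwd 802],
   .loop (some (0, 0)) [.fwd 1028, .fwd 1030],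
   .loop (some (2, 2)) [.bwd 553, .bwd 1250, .fwd 593],
   .loop (some (1, 2)) [.bwd 553, .bwd 971, .fwd 730],
   .loop (some (3, 1)) [.fwd 953, .fwd 971, .bwd 954],
   .define,
   .define,
   .define,
   .define,
   .define,
   .loop (some (13, 7)) [.fwd 1270, .bwd 1271, .fwd 935, .fwd 1273, .fwd 1274, .fwd 1275, .fwd 1276, .fwd 1277],
   .loop (some (11, 2)) [.fwd 757, .bwd 652, .bwd 1242, .fwd 755, .bwd 660],
   .define,
   .define,
   .loop (some (13, 5)) [.bwd 1071, .bwd 883, .fwd 1187, .fwd 1243, .fwd 652, .fwd 777, .fwd 1280, .fwd 1281],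
   .loop (some (7, 2)) [.fwd 902, .fwd 1187, .bwd 996, .fwd 1011],
   .loop none [.fwd 1283],
   .loop none [.fwd 1011, .bwd 1284],
   .loop none [.bwd 1012, .bwd 1284],
   .loop (some (10, 2)) [.bwd 758, .fwd 554, .bwd 996, .fwd 953],
   .loop (some (13, 0)) [.bwd 781, .fwd 734, .bwd 296, .bwd 625, .bwd 632, .fwd 799, .fwd 800, .fwd 801],
   .loop (some (4, 2)) [.fwd 801, .bwd 1225, .bwd 1138],
   .loop (some (7, 2)) [.fwd 801, .bwd 1226, .bwd 647],
   .loop (some (0, 0)) [.fwd 831, .fwd 1226],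
   .loop (some (2, 1)) [.bwd 907, .bwd 557, .bwd 801],
   .loop (some (5, 0)) [.fwd 1113, .bwd 610, .fwd 556],
   .loop (some (1, 2)) [.bwd 557, .fwd 1288, .bwd 807],
   .define,
   .loop (some (10, 3)) [.bwd 1293, .bwd 1226, .fwd 847, .fwd 1295],
   .define,
   .loop (some (3, 2)) [.bwd 1288, .bwd 1225, .fwd 1297],
   .loop (some (12, 2)) [.fwd 1062, .fwd 1164, .fwd 1218, .fwd 1225, .fwd 1293, .bwd 1296],
   .loop (some (4, 2)) [.bwd 907, .bwd 1252, .bwd 909],
   .loop (some (7, 2)) [.bwd 907, .bwd 1253, .fwd 799],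
   .loop (some (5, 0)) [.bwd 1251, .bwd 592, .bwd 558],
   .define,
   .loop (some (10, 3)) [.bwd 1302, .bwd 1253, .fwd 1164, .fwd 1303],
   .define,
   .define,
   .define,
   .define,
   .loop (some (14, 7)) [.fwd 1252, .bwd 557, .bwd 1225, .fwd 1205, .fwd 1305, .fwd 1306, .fwd 1307, .fwd 1308],
   .define,
   .loop (some (12, 3)) [.fwd 1308, .fwd 1309, .fwd 1252, .fwd 1302, .bwd 1304, .fwd 1310],
   .define,
   .define,
   .loop (some (11, 3)) [.fwd 1278, .bwd 593, .fwd 1251, .fwd 1312, .fwd 1313],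
   .loop (some (0, 0)) [.fwd 1204, .fwd 1268],
   .loop (some (8, 2)) [.bwd 1251, .bwd 1268, .bwd 1113],
   .loop (some (1, 2)) [.bwd 593, .fwd 1259, .fwd 815],
   .loop (some (6, 2)) [.bwd 1259, .bwd 1268, .bwd 1119],
   .loop (some (3, 1)) [.fwd 1180, .bwd 1259, .bwd 1263],
   .define,
   .define,
   .define,
   .define,
   .define,
   .loop (some (13, 6)) [.bwd 1020, .bwd 1270, .bwd 1317, .fwd 1320, .fwd 1321, .fwd 1322, .fwd 1323, .fwd 1324],
   .define,
   .loop (some (5, 2)) [.fwd 1278, .fwd 888, .fwd 1326],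
   .loop (some (8, 2)) [.fwd 1278, .bwd 886, .bwd 1025],
   .define,
   .loop (some (11, 3)) [.bwd 828, .fwd 1233, .fwd 883, .fwd 1063, .fwd 1329],
   .define,
   .define,
   .loop (some (13, 4)) [.bwd 1219, .bwd 715, .bwd 755, .bwd 1187, .bwd 1229, .fwd 828, .fwd 1331, .fwd 1332],
   .loop (some (5, 2)) [.fwd 1084, .bwd 883, .bwd 594, .bwd 1278],
   .loop none [.fwd 1334],
   .loop none [.fwd 1277, .bwd 1335],
   .loop none [.bwd 1278, .bwd 1335],
   .loop none [.fwd 1314, .bwd 1335],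
   .loop none [.fwd 1083, .fwd 1335, .bwd 1327],
   .loop none [.fwd 1339],
   .loop none [.fwd 1328, .bwd 1335],
   .loop none [.fwd 1326, .bwd 1340],
   .loop (some (8, 2)) [.bwd 883, .bwd 902, .fwd 1286],
   .loop (some (10, 2)) [.bwd 888, .fwd 594, .bwd 902, .fwd 1180],
   .loop (some (5, 2)) [.fwd 1298, .bwd 781, .bwd 637, .fwd 1105],
   .loop none [.bwd 1345],
   .loop none [.fwd 1297, .bwd 1346],
   .loop none [.bwd 1298, .bwd 1346],
   .define,
   .define,
   .loop (some (13, 3)) [.bwd 1048, .bwd 1031, .fwd 1195, .fwd 786, .fwd 802, .bwd 1119, .fwd 1349, .fwd 1350],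
   .loop (some (4, 1)) [.bwd 659, .fwd 802, .fwd 835],
   .loop (some (7, 1)) [.fwd 1325, .fwd 1028, .fwd 802, .bwd 1204],
   .loop none [.bwd 1353],
   .loop none [.bwd 1325, .bwd 1354],
   .loop none [.fwd 1324, .bwd 1354],
   .loop (some (8, 2)) [.fwd 1113, .bwd 1204, .fwd 1356],
   .define,
   .loop (some (6, 2)) [.fwd 1119, .bwd 1204, .fwd 1358],
   .loop (some (3, 1)) [.bwd 870, .fwd 1119, .fwd 835],
   .define,
   .define,
   .loop (some (13, 6)) [.fwd 1113, .bwd 802, .fwd 805, .bwd 819, .bwd 1257, .fwd 1123, .fwd 1361, .fwd 1362],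
   .loop (some (6, 1)) [.fwd 1010, .bwd 805, .bwd 1028],
   .loop (some (3, 1)) [.bwd 712, .bwd 805, .fwd 659],
   .loop (some (4, 2)) [.fwd 647, .bwd 829, .fwd 1331],
   .loop (some (7, 2)) [.fwd 647, .bwd 831, .bwd 909],
   .loop (some (2, 1)) [.bwd 799, .bwd 631, .bwd 647],
   .define,
   .define,
   .define,
   .define,
   .define,
   .loop (some (14, 7)) [.fwd 829, .fwd 631, .bwd 1062, .fwd 1369, .fwd 1370, .fwd 1371, .fwd 1372, .fwd 1373],
   .define,
   .loop (some (12, 3)) [.fwd 1373, .fwd 1374, .fwd 829, .fwd 847, .fwd 860, .fwd 1375],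
   .loop (some (4, 2)) [.bwd 799, .bwd 1062, .fwd 1361],
   .loop (some (7, 2)) [.bwd 799, .bwd 1127, .fwd 645],
   .loop (some (10, 2)) [.fwd 1220, .bwd 1218, .bwd 1164, .bwd 1127, .fwd 1375],
   .loop none [.fwd 1379],
   .loop none [.bwd 1376, .bwd 1380],
   .loop none [.fwd 1375, .bwd 1380],
   .define,
   .loop (some (14, 4)) [.fwd 1112, .bwd 1296, .fwd 1299, .fwd 1062, .bwd 631, .bwd 829, .bwd 1330, .fwd 1383],
   .define,
   .define,
   .loop (some (11, 3)) [.bwd 899, .bwd 1094, .fwd 1105, .fwd 1385, .fwd 1386],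
   .loop (some (5, 3)) [.bwd 1105, .bwd 1043, .bwd 1054, .bwd 1058],
   .loop none [.bwd 1388],
   .loop none [.bwd 1347, .bwd 1389],
   .loop none [.fwd 1160, .bwd 1389],
   .loop none [.fwd 1105, .bwd 1389],
   .loop none [.bwd 1385, .bwd 1389],
   .loop none [.bwd 1069, .fwd 1389, .fwd 1348],
   .loop none [.bwd 1394],
   .loop none [.bwd 1106, .bwd 1389],
   .loop none [.bwd 1070, .bwd 1395],
   .loop none [.fwd 1069, .bwd 1395],
   .loop (some (8, 2)) [.fwd 1057, .fwd 1392, .bwd 1223, .fwd 1280],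
   .loop none [.fwd 1399],
   .loop none [.bwd 1281, .bwd 1400],
   .loop none [.fwd 1280, .bwd 1400],
   .loop (some (5, 2)) [.fwd 1309, .bwd 830, .bwd 642, .bwd 942],
   .loop none [.bwd 1403],
   .loop none [.bwd 1309, .bwd 1404],
   .loop none [.fwd 1308, .bwd 1404],
   .loop (some (5, 2)) [.fwd 842, .bwd 1157, .fwd 848],
   .loop (some (8, 2)) [.fwd 842, .bwd 1156, .fwd 1154],
   .define,
   .define,
   .loop (some (11, 3)) [.bwd 1349, .fwd 869, .bwd 942, .fwd 1409, .fwd 1410],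
   .loop (some (9, 2)) [.fwd 1359, .fwd 869, .bwd 1258, .fwd 903],
   .loop none [.bwd 1412],
   .loop none [.fwd 1358, .bwd 1413],
   .loop none [.bwd 1359, .bwd 1413],
   .loop (some (5, 2)) [.bwd 1406, .fwd 942, .bwd 641, .bwd 842],
   .loop none [.bwd 1416],
   .loop none [.fwd 841, .fwd 1417, .bwd 1307],
   .loop none [.fwd 1418],
   .loop none [.fwd 1406, .bwd 1417],
   .loop none [.fwd 1407, .fwd 1417, .bwd 1311],
   .loop none [.fwd 1421],
   .loop none [.fwd 1306, .bwd 1419],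
   .loop none [.fwd 1310, .bwd 1422],
   .loop (some (8, 2)) [.fwd 942, .bwd 1258, .fwd 1123],
   .loop (some (4, 2)) [.bwd 645, .bwd 860, .fwd 672],
   .loop (some (7, 2)) [.bwd 645, .bwd 861, .fwd 907],
   .loop (some (2, 1)) [.fwd 909, .bwd 859, .fwd 645],
   .loop (some (10, 2)) [.bwd 1381, .fwd 1382, .bwd 861, .fwd 1302],
   .loop (some (3, 1)) [.fwd 904, .bwd 1126, .bwd 860],
   .define,
   .loop (some (14, 4)) [.fwd 1330, .fwd 829, .fwd 847, .fwd 860, .fwd 859, .bwd 1405, .fwd 1409, .fwd 1431],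
   .loop (some (13, 0)) [.fwd 752, .fwd 753, .fwd 490, .fwd 475, .bwd 352, .bwd 678, .fwd 679, .fwd 645],
   .loop (some (9, 2)) [.bwd 1428, .bwd 1427, .bwd 1292],
   .loop (some (5, 0)) [.bwd 1332, .fwd 1366, .bwd 646],
   .define,
   .loop (some (1, 2)) [.bwd 1428, .fwd 1433, .fwd 1436],
   .define,
   .define,
   .loop (some (10, 3)) [.bwd 1435, .bwd 1427, .fwd 1438, .fwd 1439],
   .define,
   .loop (some (6, 2)) [.bwd 1433, .bwd 1427, .fwd 1441],
   .define,
   .loop (some (3, 2)) [.bwd 1433, .bwd 1426, .fwd 1443],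
   .define,
   .define,
   .define,
   .define,
   .define,
   .define,
   .loop (some (14, 7)) [.fwd 1426, .fwd 1428, .fwd 1445, .fwd 1446, .fwd 1447, .fwd 1448, .fwd 1449, .fwd 1450],
   .define,
   .loop (some (12, 3)) [.fwd 1450, .fwd 1451, .fwd 1426, .fwd 1435, .bwd 1440, .fwd 1452],
   .loop (some (13, 0)) [.bwd 752, .bwd 751, .bwd 766, .fwd 765, .fwd 289, .bwd 445, .fwd 630, .bwd 647],
   .loop (some (5, 0)) [.fwd 1451, .fwd 703, .fwd 1426, .fwd 646],
   .loop none [.bwd 1455],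
   .loop none [.bwd 1451, .bwd 1456],
   .loop none [.fwd 1366, .fwd 1456, .bwd 1450],
   .loop none [.fwd 1458],
   .loop none [.fwd 1449, .bwd 1459],
   .loop none [.fwd 1453, .bwd 1459],
   .loop (some (1, 2)) [.bwd 1368, .fwd 1454, .bwd 1052],
   .loop (some (6, 2)) [.fwd 1073, .bwd 1454, .bwd 1367, .bwd 1437],
   .loop none [.fwd 1463],
   .loop none [.bwd 1437, .bwd 1464],
   .loop none [.fwd 1436, .bwd 1464],
   .loop (some (3, 1)) [.fwd 1072, .bwd 1454, .bwd 1366],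
   .define,
   .define,
   .define,
   .loop (some (14, 5)) [.fwd 1452, .bwd 1461, .fwd 1366, .fwd 1368, .bwd 1377, .fwd 1468, .fwd 1469, .fwd 1470],
   .loop (some (4, 2)) [.fwd 889, .bwd 777, .bwd 759, .fwd 1273],
   .loop none [.fwd 1472],
   .loop none [.fwd 1273, .bwd 1473],
   .loop none [.fwd 1342, .fwd 1473, .fwd 1274],
   .loop none [.fwd 1475],
   .loop none [.bwd 1275, .bwd 1476],
   .loop (some (2, 2)) [.fwd 757, .fwd 777, .bwd 887],
   .loop (some (13, 8)) [.fwd 1271, .fwd 1020, .bwd 1355, .fwd 1356, .bwd 1323, .bwd 1322, .bwd 1321, .bwd 1320],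
   .define,
   .define,
   .loop (some (13, 5)) [.bwd 1481, .bwd 1480, .fwd 1352, .fwd 1365, .bwd 1279, .bwd 1352, .fwd 1480, .fwd 1481],
   .define,
   .loop (some (7, 2)) [.bwd 672, .bwd 849, .fwd 1483],
   .loop (some (9, 2)) [.bwd 839, .bwd 849, .bwd 1207],
   .loop (some (0, 1)) [.fwd 849, .fwd 1295],
   .define,
   .loop (some (2, 2)) [.bwd 839, .fwd 672, .fwd 1487],
   .loop (some (1, 2)) [.bwd 839, .fwd 1430, .fwd 890],
   .loop (some (10, 2)) [.fwd 1382, .bwd 860, .bwd 849, .fwd 1407],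
   .loop (some (6, 1)) [.fwd 900, .bwd 1430, .bwd 849],
   .define,
   .define,
   .define,
   .define,
   .loop (some (14, 5)) [.fwd 1374, .fwd 829, .fwd 847, .fwd 839, .fwd 1492, .fwd 1493, .fwd 1494, .fwd 1495],
   .define,
   .loop (some (11, 3)) [.bwd 1497, .bwd 1487, .bwd 703, .fwd 1487, .fwd 1497],
   .loop (some (13, 1)) [.fwd 762, .bwd 761, .bwd 760, .bwd 754, .fwd 696, .fwd 648, .bwd 701, .fwd 672, .fwd 1443]]

theorem just5_len : just5.length = 250 := by decide +kernel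

theorem just5_ok : cert.okFacts 1250 just5 = true := by decide +kernel

/-- justifications -/
noncomputable def just6 : List Cert.Just :=
  [.loop none [.fwd 1499],
   .loop none [.fwd 1443, .bwd 1500],
   .loop none [.bwd 1444, .bwd 1500],
   .define,
   .loop (some (9, 2)) [.bwd 1487, .bwd 1484, .fwd 1503],
   .define,
   .loop (some (0, 1)) [.fwd 1484, .fwd 1505],
   .loop (some (8, 1)) [.fwd 1484, .fwd 703, .bwd 1484],
   .define,
   .loop (some (1, 2)) [.bwd 1487, .bwd 1501, .fwd 1508],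
   .define,
   .loop (some (10, 2)) [.bwd 1435, .bwd 1426, .bwd 1484, .fwd 1510],
   .define,
   .loop (some (6, 2)) [.fwd 1501, .bwd 1484, .fwd 1512],
   .loop (some (3, 2)) [.fwd 1501, .bwd 1457, .fwd 1454],
   .define,
   .define,
   .define,
   .define,
   .loop (some (14, 5)) [.bwd 1461, .fwd 1366, .fwd 1457, .fwd 1487, .fwd 1515, .fwd 1516, .fwd 1517, .fwd 1518],
   .define,
   .loop (some (13, 3)) [.bwd 1520, .bwd 899, .bwd 767, .bwd 704, .fwd 681, .fwd 853, .fwd 899, .fwd 1520],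
   .loop (some (5, 2)) [.bwd 1424, .bwd 848, .fwd 851, .fwd 1267],
   .loop none [.bwd 1522],
   .loop none [.fwd 1424, .bwd 1523],
   .loop none [.bwd 1304, .bwd 1523],
   .loop none [.fwd 1303, .bwd 1523],
   .loop (some (8, 2)) [.fwd 1486, .bwd 848, .bwd 1130, .fwd 1480],
   .loop none [.fwd 1527],
   .loop none [.bwd 1481, .bwd 1528],
   .loop none [.fwd 1480, .bwd 1528],
   .define,
   .define,
   .loop (some (13, 5)) [.bwd 1532, .bwd 1531, .fwd 1478, .bwd 1365, .fwd 1279, .bwd 1478, .fwd 1531, .fwd 1532],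
   .define,
   .define,
   .loop (some (11, 3)) [.fwd 1530, .fwd 836, .fwd 1219, .fwd 1534, .fwd 1535],
   .loop (some (7, 2)) [.fwd 1442, .bwd 751, .bwd 905, .bwd 965],
   .loop none [.bwd 1537],
   .loop none [.fwd 1441, .bwd 1538],
   .loop none [.bwd 1442, .bwd 1538],
   .define,
   .loop (some (10, 2)) [.bwd 1085, .bwd 1056, .bwd 905, .fwd 1541],
   .define,
   .loop (some (14, 4)) [.bwd 1063, .fwd 884, .fwd 898, .fwd 904, .fwd 880, .bwd 1086, .fwd 1110, .fwd 1543],
   .loop (some (11, 3)) [.bwd 964, .fwd 1466, .fwd 752, .bwd 1052, .bwd 783],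
   .loop (some (9, 2)) [.fwd 1466, .bwd 1540, .bwd 1545],
   .loop (some (0, 1)) [.fwd 1540, .fwd 1050],
   .loop (some (5, 0)) [.fwd 1282, .fwd 1072, .bwd 752],
   .define,
   .define,
   .loop (some (10, 3)) [.bwd 1548, .bwd 1540, .fwd 1549, .fwd 1550],
   .define,
   .define,
   .define,
   .define,
   .loop (some (14, 5)) [.fwd 1072, .fwd 1514, .fwd 1502, .bwd 1466, .fwd 1552, .fwd 1553, .fwd 1554, .fwd 1555],
   .define,
   .loop (some (12, 3)) [.fwd 1072, .fwd 1514, .fwd 1502, .fwd 1548, .bwd 1551, .fwd 1557],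
   .loop (some (0, 0)) [.fwd 1546, .fwd 1073],
   .loop (some (10, 1)) [.fwd 1540, .bwd 1502, .bwd 1514, .bwd 1073],
   .define,
   .define,
   .define,
   .loop (some (14, 5)) [.fwd 1557, .fwd 1558, .fwd 1072, .bwd 1052, .bwd 1049, .fwd 1561, .fwd 1562, .fwd 1563],
   .loop (some (7, 2)) [.fwd 1513, .bwd 761, .bwd 900, .fwd 1520],
   .loop none [.fwd 1565],
   .loop none [.fwd 1520, .bwd 1566],
   .loop none [.fwd 1566, .fwd 1521, .bwd 1566],
   .loop (some (9, 2)) [.bwd 890, .bwd 900, .bwd 1387],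
   .define,
   .loop (some (0, 1)) [.fwd 900, .fwd 1570],
   .loop (some (2, 2)) [.bwd 890, .fwd 761, .fwd 1508],
   .loop (some (10, 2)) [.bwd 1056, .bwd 904, .bwd 900, .fwd 1178],
   .define,
   .define,
   .define,
   .loop (some (14, 4)) [.bwd 1338, .fwd 1084, .fwd 884, .fwd 898, .fwd 890, .fwd 1574, .fwd 1575, .fwd 1576],
   .define,
   .loop (some (11, 3)) [.bwd 1578, .bwd 1508, .bwd 762, .fwd 1508, .fwd 1578],
   .define,
   .loop (some (9, 2)) [.bwd 1508, .bwd 1513, .fwd 1580],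
   .define,
   .loop (some (0, 1)) [.fwd 1513, .fwd 1582],
   .define,
   .loop (some (10, 2)) [.bwd 1548, .bwd 1502, .bwd 1513, .fwd 1584],
   .define,
   .define,
   .define,
   .define,
   .loop (some (14, 5)) [.fwd 1558, .fwd 1072, .fwd 1514, .fwd 1508, .fwd 1586, .fwd 1587, .fwd 1588, .fwd 1589],
   .loop (some (5, 2)) [.bwd 899, .fwd 901, .fwd 1286],
   .loop (some (8, 2)) [.fwd 1571, .bwd 899, .bwd 1036, .fwd 1531],
   .loop none [.bwd 1592],
   .loop none [.bwd 1571, .bwd 1593],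
   .loop none [.fwd 1570, .bwd 1593],
   .define,
   .define,
   .loop (some (11, 3)) [.bwd 1531, .fwd 887, .bwd 1402, .fwd 1596, .fwd 1597],
   .loop (some (4, 2)) [.bwd 782, .fwd 1398, .fwd 1391],
   .loop (some (5, 1)) [.bwd 1349, .bwd 809, .fwd 781, .fwd 1397],
   .loop none [.bwd 1600],
   .loop none [.bwd 1350, .bwd 1601],
   .loop none [.fwd 1349, .bwd 1601],
   .loop none [.fwd 1066, .fwd 1601, .bwd 1411],
   .loop none [.fwd 1604],
   .loop none [.fwd 1410, .bwd 1605],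
   .loop (some (10, 3)) [.bwd 1067, .bwd 1397, .fwd 1090, .fwd 898, .bwd 1595],
   .loop none [.fwd 1607],
   .loop none [.bwd 1532, .bwd 1608],
   .loop none [.fwd 1531, .bwd 1608],
   .loop none [.fwd 1598, .bwd 1608],
   .loop none [.bwd 1594, .bwd 1608],
   .loop none [.bwd 1595, .bwd 1608],
   .loop (some (13, 0)) [.bwd 800, .bwd 799, .fwd 632, .fwd 625, .fwd 296, .bwd 734, .fwd 781, .fwd 782],
   .loop (some (5, 0)) [.fwd 1351, .fwd 1049, .bwd 783],
   .loop (some (10, 3)) [.bwd 1615, .bwd 1559, .fwd 1514, .fwd 1582],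
   .loop (some (3, 1)) [.fwd 1289, .bwd 1614, .bwd 1599],
   .define,
   .loop (some (14, 7)) [.fwd 1599, .fwd 1545, .bwd 1560, .fwd 1466, .bwd 1502, .bwd 1514, .bwd 1052, .fwd 1618],
   .loop (some (12, 2)) [.fwd 1049, .fwd 1618, .fwd 1619, .fwd 1599, .fwd 1615, .bwd 1616],
   .loop (some (5, 1)) [.fwd 1159, .fwd 1599, .fwd 783, .fwd 1618],
   .loop none [.fwd 1621],
   .loop none [.bwd 1619, .bwd 1622],
   .loop none [.fwd 1618, .bwd 1622],
   .loop (some (10, 2)) [.bwd 1623, .fwd 1624, .bwd 1050, .fwd 1548],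
   .loop (some (3, 1)) [.fwd 1377, .bwd 1462, .bwd 1049],
   .define,
   .define,
   .loop (some (14, 5)) [.bwd 1616, .fwd 1620, .fwd 1049, .fwd 1052, .bwd 1072, .bwd 1556, .fwd 1627, .fwd 1628],
   .loop (some (5, 0)) [.fwd 1137, .fwd 1289, .bwd 800],
   .define,
   .loop (some (10, 3)) [.bwd 1630, .bwd 1378, .fwd 1435, .fwd 1631],
   .define,
   .define,
   .define,
   .define,
   .loop (some (14, 7)) [.fwd 1377, .bwd 1368, .bwd 1366, .fwd 1460, .fwd 1633, .fwd 1634, .fwd 1635, .fwd 1636],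
   .define,
   .loop (some (12, 3)) [.fwd 1636, .fwd 1637, .fwd 1377, .fwd 1630, .bwd 1632, .fwd 1638],
   .loop (some (5, 0)) [.bwd 1362, .fwd 1377, .fwd 800],
   .loop (some (10, 3)) [.bwd 1640, .bwd 1290, .fwd 1457, .fwd 1505],
   .loop (some (14, 9)) [.fwd 1292, .bwd 1300, .bwd 1428, .bwd 1426, .bwd 1457, .fwd 1368, .fwd 1630, .bwd 1632, .fwd 1638],
   .loop none [.fwd 1642],
   .loop none [.bwd 1640, .fwd 1643, .fwd 1639],
   .loop none [.fwd 1644],
   .loop none [.fwd 1289, .fwd 1643, .bwd 1638],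
   .loop none [.fwd 1646],
   .loop none [.fwd 1635, .bwd 1645],
   .loop none [.fwd 1641, .fwd 1645, .fwd 1636],
   .loop none [.fwd 1649],
   .loop none [.bwd 1632, .bwd 1647],
   .loop none [.fwd 1631, .bwd 1647],
   .loop none [.bwd 1637, .bwd 1650],
   .loop (some (5, 1)) [.bwd 1021, .bwd 814, .fwd 806, .fwd 1541],
   .loop none [.fwd 1654],
   .loop none [.fwd 1541, .bwd 1655],
   .loop none [.bwd 1542, .bwd 1655],
   .define,
   .loop (some (10, 3)) [.fwd 1656, .bwd 1051, .fwd 1053, .fwd 1658],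
   .define,
   .loop (some (14, 4)) [.fwd 892, .fwd 1116, .fwd 1086, .fwd 1076, .fwd 807, .fwd 1398, .fwd 1393, .fwd 1660],
   .loop (some (12, 2)) [.fwd 1591, .fwd 1178, .fwd 1116, .fwd 1086, .fwd 1076, .bwd 1656, .bwd 1659],
   .loop none [.fwd 1662],
   .loop none [.bwd 1659, .bwd 1663],
   .loop none [.fwd 1658, .bwd 1663],
   .loop (some (8, 2)) [.fwd 1603, .bwd 1415, .bwd 1342],
   .define,
   .define,
   .loop (some (11, 3)) [.bwd 1320, .bwd 815, .fwd 1021, .fwd 1667, .fwd 1668],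
   .loop (some (8, 2)) [.bwd 1021, .bwd 1318, .bwd 1603],
   .loop (some (5, 2)) [.bwd 1320, .fwd 837, .fwd 1356],
   .loop (some (8, 2)) [.bwd 1320, .bwd 832, .bwd 942],
   .loop (some (5, 2)) [.fwd 1374, .bwd 828, .bwd 816, .fwd 1320],
   .loop none [.bwd 1673],
   .loop none [.fwd 1669, .fwd 1674, .bwd 1496],
   .loop none [.bwd 1675],
   .loop none [.bwd 1374, .bwd 1674],
   .loop none [.fwd 1671, .fwd 1674, .bwd 1373],
   .loop none [.fwd 1678],
   .loop none [.fwd 1668, .bwd 1676],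
   .loop none [.bwd 1669, .bwd 1676],
   .loop none [.fwd 1372, .bwd 1679],
   .loop none [.fwd 1381, .bwd 1679],
   .loop none [.fwd 1429, .bwd 1679],
   .loop (some (8, 2)) [.bwd 828, .bwd 852, .fwd 1267],
   .loop (some (4, 2)) [.bwd 1461, .bwd 1331, .bwd 1677, .fwd 1321],
   .loop none [.bwd 1686],
   .loop none [.fwd 1519, .bwd 1687],
   .loop none [.fwd 1461, .bwd 1687],
   .loop none [.fwd 1452, .bwd 1687],
   .loop (some (7, 2)) [.bwd 1331, .bwd 1685, .fwd 922],
   .define,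
   .loop (some (9, 2)) [.fwd 1330, .bwd 1685, .fwd 1692],
   .loop (some (2, 2)) [.fwd 1330, .fwd 1331, .fwd 1460],
   .loop (some (1, 2)) [.fwd 1330, .bwd 1078, .fwd 1063],
   .loop (some (6, 1)) [.fwd 1343, .fwd 1078, .bwd 1685],
   .loop (some (3, 1)) [.fwd 1084, .fwd 1078, .bwd 1677],
   .define,
   .define,
   .loop (some (14, 4)) [.bwd 1534, .bwd 1683, .fwd 1671, .fwd 1677, .bwd 1330, .fwd 1383, .fwd 1698, .fwd 1699],
   .loop (some (4, 2)) [.bwd 1445, .fwd 909, .bwd 1405, .bwd 941],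
   .loop none [.bwd 1701],
   .loop none [.bwd 1446, .bwd 1702],
   .loop none [.fwd 1445, .bwd 1702],
   .loop (some (3, 1)) [.fwd 1086, .fwd 1077, .bwd 1405],
   .loop (some (14, 4)) [.fwd 1207, .fwd 1407, .fwd 1420, .fwd 1405, .bwd 859, .bwd 860, .fwd 839, .fwd 1492],
   .loop (some (11, 2)) [.bwd 1079, .bwd 1031, .fwd 858, .fwd 1356, .fwd 1682],
   .define,
   .define,
   .define,
   .define,
   .loop (some (13, 6)) [.bwd 1497, .fwd 1488, .bwd 1489, .fwd 891, .fwd 1708, .fwd 1709, .fwd 1710, .fwd 1711],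
   .loop (some (4, 1)) [.bwd 1515, .fwd 1488, .fwd 1492],
   .loop (some (7, 1)) [.fwd 1504, .fwd 1488, .bwd 1485],
   .define,
   .loop (some (0, 1)) [.fwd 1485, .fwd 1715],
   .define,
   .define,
   .loop (some (5, 2)) [.bwd 840, .fwd 1717, .fwd 1718],
   .loop (some (8, 2)) [.bwd 840, .bwd 1485, .bwd 1206],
   .define,
   .loop (some (10, 3)) [.bwd 1717, .bwd 1485, .bwd 1706, .fwd 1721],
   .loop (some (6, 1)) [.fwd 1569, .fwd 1489, .bwd 1485],
   .loop (some (3, 1)) [.bwd 1574, .fwd 1489, .fwd 1492],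
   .loop (some (14, 6)) [.bwd 1706, .bwd 1492, .bwd 839, .bwd 847, .fwd 631, .bwd 1062, .bwd 1299, .bwd 1536],
   .define,
   .loop (some (12, 3)) [.fwd 1725, .bwd 1706, .bwd 1492, .fwd 1717, .bwd 1722, .fwd 1726],
   .define,
   .define,
   .define,
   .define,
   .define,
   .define,
   .define,
   .define,
   .loop (some (13, 8)) [.fwd 1728, .fwd 1729, .fwd 1730, .fwd 1731, .fwd 1732, .fwd 1733, .fwd 1734, .fwd 1735],
   .define,
   .loop (some (4, 2)) [.fwd 1736, .bwd 1719, .fwd 1737],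
   .define,
   .loop (some (7, 2)) [.fwd 1736, .bwd 1720, .fwd 1739],
   .define,
   .loop (some (0, 1)) [.fwd 1720, .fwd 1741],
   .loop (some (2, 1)) [.fwd 924, .bwd 841, .bwd 1736],
   .loop (some (5, 1)) [.bwd 1492, .fwd 840, .fwd 1423],
   .define,
   .loop (some (1, 2)) [.bwd 841, .fwd 1728, .fwd 1745],
   .loop (some (10, 1)) [.fwd 1742, .fwd 1305, .bwd 1423, .bwd 1720],
   .define,
   .loop (some (6, 2)) [.bwd 1728, .bwd 1720, .fwd 1748]]

theorem just6_len : just6.length = 250 := by decide +kernel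

theorem just6_ok : cert.okFacts 1500 just6 = true := by decide +kernel

/-- justifications -/
noncomputable def just7 : List Cert.Just :=
  [.define,
   .loop (some (3, 2)) [.bwd 1728, .bwd 1719, .fwd 1750],
   .define,
   .define,
   .loop (some (14, 7)) [.fwd 1719, .fwd 841, .bwd 1407, .bwd 1207, .bwd 1725, .bwd 1727, .fwd 1752, .fwd 1753],
   .loop (some (12, 3)) [.fwd 1753, .fwd 1754, .fwd 1719, .fwd 1423, .bwd 1305, .fwd 1747],
   .loop (some (13, 1)) [.fwd 893, .fwd 773, .fwd 702, .bwd 1266, .fwd 1267, .fwd 922, .fwd 923, .fwd 924, .bwd 1746],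
   .loop none [.fwd 1756],
   .loop none [.bwd 1746, .bwd 1757],
   .loop none [.fwd 892, .fwd 1757, .bwd 1745],
   .loop none [.fwd 1759],
   .loop none [.fwd 1728, .bwd 1760],
   .loop none [.fwd 891, .fwd 1760, .fwd 1729],
   .loop none [.fwd 1762],
   .loop none [.fwd 1751, .bwd 1760],
   .loop none [.fwd 1749, .bwd 1760],
   .loop none [.fwd 1572, .fwd 1763, .fwd 1730],
   .loop none [.fwd 1766],
   .loop none [.bwd 1578, .fwd 1767, .fwd 1731],
   .loop none [.fwd 1768],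
   .loop none [.bwd 1732, .bwd 1769],
   .loop (some (4, 3)) [.fwd 924, .bwd 1407, .fwd 1483, .fwd 1510],
   .loop none [.fwd 1771],
   .loop none [.fwd 1510, .bwd 1772],
   .loop none [.bwd 1511, .bwd 1772],
   .loop (some (7, 2)) [.fwd 924, .bwd 1408, .bwd 1138],
   .define,
   .define,
   .loop (some (14, 4)) [.bwd 1312, .bwd 1525, .fwd 1524, .fwd 1407, .bwd 841, .bwd 1719, .fwd 1776, .fwd 1777],
   .loop (some (4, 2)) [.bwd 1483, .bwd 1524, .fwd 922],
   .loop (some (7, 2)) [.fwd 1506, .bwd 1483, .bwd 1486, .fwd 1529],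
   .loop none [.bwd 1780],
   .loop none [.bwd 1653, .bwd 1781],
   .loop none [.bwd 1641, .bwd 1781],
   .loop none [.bwd 1506, .bwd 1781],
   .loop none [.fwd 1505, .bwd 1781],
   .loop (some (9, 2)) [.fwd 1716, .fwd 1207, .bwd 1486, .bwd 1536],
   .loop none [.bwd 1786],
   .loop none [.bwd 1716, .bwd 1787],
   .loop none [.fwd 1715, .bwd 1787],
   .loop (some (6, 1)) [.fwd 1612, .bwd 1491, .bwd 1486],
   .define,
   .loop (some (11, 3)) [.bwd 1286, .bwd 1262, .fwd 1267, .fwd 1692, .fwd 1791],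
   .loop (some (8, 2)) [.bwd 1031, .bwd 1202, .bwd 1337],
   .loop (some (11, 2)) [.fwd 1082, .fwd 1342, .bwd 903, .fwd 1123, .fwd 1369],
   .loop (some (8, 2)) [.bwd 1123, .bwd 1240, .fwd 1320],
   .loop (some (4, 2)) [.bwd 1552, .bwd 963, .bwd 1086, .bwd 1024],
   .loop none [.bwd 1796],
   .loop none [.bwd 1553, .bwd 1797],
   .loop none [.fwd 1552, .bwd 1797],
   .loop (some (14, 4)) [.fwd 1387, .fwd 1178, .fwd 1116, .fwd 1086, .bwd 880, .bwd 904, .fwd 890, .fwd 1574],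
   .loop (some (4, 2)) [.fwd 1558, .bwd 1071, .bwd 1084, .fwd 1336],
   .loop none [.bwd 1801],
   .loop none [.fwd 1590, .bwd 1802],
   .loop none [.bwd 1558, .bwd 1802],
   .loop none [.fwd 1557, .bwd 1802],
   .loop (some (7, 2)) [.bwd 1071, .bwd 1343, .fwd 1013],
   .loop (some (9, 2)) [.bwd 1063, .bwd 1343, .bwd 1792],
   .loop (some (2, 2)) [.bwd 1063, .fwd 1071, .bwd 1556],
   .define,
   .define,
   .loop (some (14, 4)) [.bwd 1596, .fwd 1085, .fwd 1083, .fwd 1084, .fwd 1063, .fwd 1064, .fwd 1809, .fwd 1810],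
   .loop (some (4, 1)) [.bwd 1586, .fwd 1572, .fwd 1574],
   .loop (some (7, 1)) [.fwd 1581, .fwd 1572, .bwd 1569],
   .define,
   .loop (some (0, 1)) [.fwd 1569, .fwd 1814],
   .define,
   .loop (some (5, 1)) [.bwd 1764, .bwd 891, .fwd 1816],
   .loop (some (8, 2)) [.bwd 1765, .bwd 891, .bwd 1569, .bwd 1386],
   .loop none [.bwd 1818],
   .loop none [.fwd 1748, .bwd 1819],
   .loop none [.fwd 1765, .bwd 1819],
   .define,
   .loop (some (10, 3)) [.bwd 1816, .bwd 1569, .bwd 1800, .fwd 1822],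
   .loop (some (14, 6)) [.bwd 1800, .bwd 1574, .bwd 890, .bwd 898, .bwd 489, .bwd 1032, .bwd 1068, .fwd 1611],
   .define,
   .loop (some (12, 3)) [.fwd 1824, .bwd 1800, .bwd 1574, .fwd 1816, .bwd 1823, .fwd 1825],
   .define,
   .loop (some (4, 2)) [.bwd 1708, .fwd 1764, .fwd 1827],
   .define,
   .loop (some (7, 2)) [.bwd 1708, .bwd 1821, .fwd 1829],
   .define,
   .loop (some (0, 1)) [.fwd 1821, .fwd 1831],
   .loop (some (2, 1)) [.fwd 1015, .bwd 892, .fwd 1708],
   .loop (some (5, 1)) [.bwd 1574, .fwd 891, .bwd 1661],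
   .loop (some (10, 1)) [.fwd 1832, .fwd 1660, .fwd 1661, .bwd 1821],
   .define,
   .define,
   .loop (some (14, 7)) [.bwd 1764, .fwd 892, .bwd 1178, .bwd 1387, .bwd 1824, .bwd 1826, .fwd 1836, .fwd 1837],
   .loop (some (12, 3)) [.fwd 1837, .fwd 1838, .bwd 1764, .bwd 1661, .bwd 1660, .fwd 1835],
   .loop (some (4, 3)) [.fwd 1015, .bwd 1178, .bwd 1567, .fwd 1584],
   .loop none [.fwd 1840],
   .loop none [.fwd 1584, .bwd 1841],
   .loop none [.bwd 1585, .bwd 1841],
   .loop (some (7, 2)) [.fwd 1015, .bwd 1396, .fwd 1391],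
   .define,
   .define,
   .loop (some (14, 4)) [.bwd 1667, .bwd 1664, .fwd 1591, .fwd 1178, .bwd 892, .fwd 1764, .fwd 1845, .fwd 1846],
   .loop (some (4, 2)) [.fwd 1567, .bwd 1591, .fwd 1013],
   .loop (some (7, 2)) [.fwd 1583, .fwd 1567, .bwd 1612, .fwd 1609],
   .loop none [.bwd 1849],
   .loop none [.bwd 1620, .bwd 1850],
   .loop none [.bwd 1616, .bwd 1850],
   .loop none [.bwd 1583, .bwd 1850],
   .loop none [.fwd 1582, .bwd 1850],
   .loop (some (9, 2)) [.fwd 1815, .fwd 1387, .bwd 1612, .fwd 1611],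
   .loop none [.bwd 1855],
   .loop none [.bwd 1815, .bwd 1856],
   .loop none [.fwd 1814, .bwd 1856],
   .loop (some (5, 1)) [.fwd 940, .fwd 1704, .bwd 908, .fwd 1438],
   .loop none [.fwd 1859],
   .loop none [.fwd 1438, .bwd 1860],
   .loop none [.bwd 1439, .bwd 1860],
   .define,
   .loop (some (10, 3)) [.fwd 1861, .bwd 1301, .fwd 1630, .fwd 1863],
   .define,
   .define,
   .define,
   .define,
   .loop (some (14, 6)) [.fwd 1704, .fwd 1300, .bwd 1292, .bwd 1289, .fwd 1865, .fwd 1866, .fwd 1867, .fwd 1868],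
   .define,
   .loop (some (12, 3)) [.fwd 1869, .fwd 1704, .fwd 1300, .bwd 1861, .bwd 1864, .fwd 1870],
   .loop (some (10, 2)) [.fwd 1861, .bwd 1300, .bwd 1434, .fwd 1640],
   .loop (some (3, 1)) [.fwd 1799, .fwd 1465, .bwd 1704],
   .define,
   .loop (some (14, 5)) [.fwd 1871, .fwd 1869, .fwd 1704, .bwd 1428, .bwd 1426, .fwd 1487, .fwd 1515, .fwd 1874],
   .loop (some (4, 3)) [.bwd 922, .fwd 1525, .fwd 939, .bwd 1864],
   .loop none [.fwd 1876],
   .loop none [.bwd 1779, .fwd 1877, .fwd 1870],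
   .loop none [.fwd 1878],
   .loop none [.bwd 1864, .bwd 1877],
   .loop none [.fwd 1863, .bwd 1877],
   .loop none [.bwd 1503, .fwd 1879, .bwd 1875],
   .loop none [.fwd 1882],
   .loop none [.fwd 1773, .fwd 1879, .fwd 1871],
   .loop none [.fwd 1884],
   .loop none [.fwd 1874, .bwd 1883],
   .loop none [.fwd 1743, .fwd 1885, .bwd 1868],
   .loop none [.fwd 1887],
   .loop none [.bwd 1869, .bwd 1885],
   .loop none [.fwd 1867, .bwd 1888],
   .loop (some (9, 2)) [.bwd 1692, .fwd 1526, .bwd 1134],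
   .define,
   .loop (some (2, 2)) [.bwd 1692, .fwd 922, .fwd 1892],
   .loop (some (1, 2)) [.bwd 1692, .fwd 1696, .bwd 1792],
   .loop (some (6, 1)) [.bwd 1665, .bwd 1696, .fwd 1526],
   .loop (some (3, 1)) [.bwd 1664, .bwd 1696, .fwd 1525],
   .loop (some (14, 1)) [.fwd 1371, .bwd 1682, .fwd 1683, .fwd 1382, .fwd 859, .fwd 1252, .fwd 1302, .bwd 1525, .fwd 1692],
   .loop none [.fwd 1897],
   .loop none [.fwd 1894, .bwd 1898],
   .loop none [.fwd 1893, .bwd 1898],
   .loop none [.bwd 1791, .bwd 1898],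
   .loop none [.fwd 1692, .bwd 1898],
   .loop none [.bwd 1693, .bwd 1898],
   .loop none [.fwd 1891, .bwd 1898],
   .define,
   .loop (some (11, 4)) [.bwd 1892, .fwd 923, .bwd 1743, .bwd 1735, .fwd 1905],
   .loop (some (13, 0)) [.fwd 1014, .fwd 1015, .fwd 893, .fwd 773, .fwd 702, .bwd 1266, .fwd 1267, .fwd 922],
   .define,
   .loop (some (9, 2)) [.bwd 1892, .fwd 1881, .fwd 1908],
   .loop (some (0, 1)) [.bwd 1881, .fwd 1691],
   .define,
   .loop (some (1, 2)) [.bwd 1892, .fwd 1907, .fwd 1911],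
   .define,
   .loop (some (6, 2)) [.bwd 1907, .fwd 1881, .fwd 1913],
   .define,
   .loop (some (3, 2)) [.bwd 1907, .fwd 1880, .fwd 1915],
   .loop (some (14, 1)) [.fwd 1470, .fwd 1471, .fwd 1440, .bwd 1435, .fwd 1428, .fwd 1300, .bwd 1861, .bwd 1880, .fwd 1892],
   .loop none [.fwd 1917],
   .loop none [.fwd 1912, .bwd 1918],
   .loop none [.fwd 1900, .bwd 1918],
   .loop none [.fwd 1906, .bwd 1918],
   .loop none [.fwd 1892, .bwd 1918],
   .loop none [.fwd 1909, .bwd 1918],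
   .loop (some (13, 0)) [.bwd 1014, .bwd 1013, .bwd 1286, .fwd 1285, .fwd 668, .bwd 687, .bwd 842, .bwd 924],
   .loop (some (9, 2)) [.fwd 1740, .fwd 1743, .bwd 1775, .fwd 1865],
   .loop none [.fwd 1925],
   .loop none [.fwd 1865, .bwd 1926],
   .loop none [.bwd 1866, .bwd 1926],
   .loop (some (1, 2)) [.fwd 1743, .fwd 1924, .bwd 1833],
   .define,
   .define,
   .define,
   .loop (some (14, 5)) [.bwd 1880, .fwd 1779, .bwd 1773, .bwd 1743, .bwd 1738, .fwd 1930, .fwd 1931, .fwd 1932],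
   .loop (some (9, 2)) [.bwd 1312, .bwd 1316, .bwd 1112],
   .loop (some (2, 2)) [.bwd 1312, .fwd 939, .bwd 1933],
   .loop (some (1, 2)) [.bwd 1312, .fwd 1896, .fwd 1667],
   .loop (some (6, 1)) [.fwd 1670, .bwd 1896, .bwd 1316],
   .define,
   .define,
   .define,
   .loop (some (14, 4)) [.bwd 1409, .fwd 1405, .fwd 1252, .fwd 1302, .fwd 1312, .fwd 1938, .fwd 1939, .fwd 1940],
   .define,
   .define,
   .loop (some (11, 4)) [.fwd 1933, .fwd 940, .fwd 1703, .fwd 1942, .fwd 1943],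
   .loop (some (13, 1)) [.fwd 1023, .fwd 1024, .fwd 1025, .bwd 1016, .bwd 977, .bwd 1250, .fwd 1251, .fwd 939, .fwd 1915],
   .loop none [.fwd 1945],
   .loop none [.fwd 1915, .bwd 1946],
   .loop none [.bwd 1916, .bwd 1946],
   .loop (some (9, 2)) [.fwd 1933, .bwd 1872, .fwd 1648],
   .loop (some (0, 1)) [.fwd 1872, .fwd 1862],
   .loop (some (8, 2)) [.bwd 940, .bwd 1872, .bwd 1362],
   .define,
   .loop (some (1, 2)) [.fwd 1933, .bwd 1947, .fwd 1952],
   .define,
   .loop (some (6, 2)) [.fwd 1947, .bwd 1872, .fwd 1954],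
   .loop (some (3, 3)) [.fwd 1947, .fwd 1861, .bwd 1539, .fwd 1549],
   .loop none [.fwd 1956],
   .loop none [.fwd 1549, .bwd 1957],
   .loop none [.bwd 1550, .bwd 1957],
   .define,
   .define,
   .define,
   .loop (some (14, 4)) [.bwd 1703, .fwd 1704, .fwd 1300, .bwd 1861, .bwd 1933, .fwd 1960, .fwd 1961, .fwd 1962],
   .loop (some (9, 2)) [.bwd 1703, .bwd 1951, .fwd 1468],
   .define,
   .loop (some (0, 1)) [.fwd 1951, .fwd 1965],
   .loop (some (2, 2)) [.bwd 1703, .fwd 941, .fwd 1409],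
   .loop (some (1, 2)) [.bwd 1703, .fwd 1873, .fwd 1798],
   .loop (some (6, 2)) [.bwd 1873, .bwd 1951, .bwd 1626],
   .loop (some (3, 2)) [.bwd 1873, .bwd 1889, .fwd 1924],
   .define,
   .loop (some (14, 3)) [.fwd 1469, .fwd 1922, .fwd 1779, .bwd 1773, .fwd 1889, .fwd 1703, .fwd 1447, .fwd 1971],
   .loop (some (9, 2)) [.bwd 1409, .bwd 1425, .fwd 1369],
   .loop (some (1, 2)) [.bwd 1409, .fwd 1705, .fwd 1110],
   .define,
   .loop (some (14, 3)) [.fwd 1370, .fwd 1902, .fwd 1524, .fwd 1407, .fwd 1420, .fwd 1409, .fwd 1431, .fwd 1975],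
   .loop (some (10, 2)) [.fwd 1955, .fwd 1958, .bwd 1560, .bwd 1546, .fwd 1615],
   .loop none [.bwd 1977],
   .loop none [.fwd 1954, .bwd 1978],
   .loop none [.bwd 1955, .bwd 1978],
   .loop (some (14, 4)) [.bwd 1580, .bwd 1842, .fwd 1970, .fwd 1799, .fwd 1466, .bwd 1502, .fwd 1508, .fwd 1586],
   .loop (some (10, 2)) [.fwd 1914, .bwd 1948, .fwd 1958, .bwd 1547, .bwd 1624],
   .loop none [.bwd 1982],
   .loop none [.fwd 1913, .bwd 1983],
   .loop none [.bwd 1914, .bwd 1983],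
   .define,
   .define,
   .loop (some (14, 4)) [.fwd 1833, .fwd 1970, .fwd 1799, .fwd 1560, .bwd 1545, .bwd 1599, .fwd 1986, .fwd 1987],
   .loop (some (9, 2)) [.fwd 1792, .fwd 1665, .fwd 1132],
   .loop (some (2, 2)) [.fwd 1792, .fwd 1013, .fwd 1911],
   .loop (some (14, 1)) [.fwd 1081, .fwd 1082, .bwd 1085, .bwd 1056, .fwd 880, .fwd 1076, .bwd 1656, .bwd 1664, .bwd 1792],
   .loop none [.fwd 1991],
   .loop none [.fwd 1899, .bwd 1992],
   .loop none [.fwd 1990, .bwd 1992],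
   .loop none [.fwd 1901, .bwd 1992],
   .loop none [.bwd 1792, .bwd 1992],
   .loop none [.bwd 1807, .bwd 1992],
   .loop none [.fwd 1989, .bwd 1992],
   .define]

theorem just7_len : just7.length = 250 := by decide +kernel

theorem just7_ok : cert.okFacts 1750 just7 = true := by decide +kernel

/-- justifications -/
noncomputable def just8 : List Cert.Just :=
  [.loop (some (11, 4)) [.bwd 1911, .fwd 1014, .bwd 1833, .fwd 1709, .fwd 1999],
   .define,
   .loop (some (9, 2)) [.bwd 1911, .bwd 1985, .fwd 2001],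
   .loop (some (0, 1)) [.fwd 1985, .fwd 1806],
   .loop (some (14, 1)) [.fwd 1563, .fwd 1564, .fwd 1551, .bwd 1548, .bwd 1466, .fwd 1560, .bwd 1958, .fwd 1948, .fwd 1911],
   .loop none [.fwd 2004],
   .loop none [.fwd 1919, .bwd 2005],
   .loop none [.fwd 1994, .bwd 2005],
   .loop none [.fwd 2000, .bwd 2005],
   .loop none [.fwd 1911, .bwd 2005],
   .loop none [.fwd 2002, .bwd 2005],
   .loop (some (9, 2)) [.fwd 1830, .fwd 1833, .bwd 1844, .fwd 1986],
   .loop none [.fwd 2011],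
   .loop none [.fwd 1986, .bwd 2012],
   .loop none [.bwd 1987, .bwd 2012],
   .define,
   .define,
   .loop (some (14, 4)) [.bwd 1952, .fwd 1948, .fwd 1848, .bwd 1842, .bwd 1833, .bwd 1828, .fwd 2015, .fwd 2016],
   .loop (some (9, 2)) [.bwd 1667, .bwd 1670, .bwd 1066],
   .loop (some (2, 2)) [.bwd 1667, .fwd 1022, .fwd 1952],
   .define,
   .define,
   .define,
   .loop (some (14, 4)) [.bwd 1110, .fwd 1086, .fwd 1076, .bwd 1656, .fwd 1667, .fwd 2020, .fwd 2021, .fwd 2022],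
   .define,
   .define,
   .loop (some (11, 4)) [.bwd 1952, .fwd 1023, .fwd 1798, .fwd 2024, .fwd 2025],
   .loop (some (9, 2)) [.bwd 1952, .bwd 1980, .bwd 1629],
   .loop (some (0, 1)) [.fwd 1980, .fwd 1959],
   .define,
   .define,
   .define,
   .loop (some (14, 4)) [.bwd 1798, .fwd 1799, .fwd 1560, .bwd 1958, .fwd 1952, .fwd 2029, .fwd 2030, .fwd 2031],
   .loop (some (9, 2)) [.bwd 1798, .bwd 1969, .fwd 1561],
   .define,
   .loop (some (0, 1)) [.fwd 1969, .fwd 2034],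
   .loop (some (2, 2)) [.bwd 1798, .fwd 1024, .fwd 1110],
   .define,
   .loop (some (14, 3)) [.fwd 1562, .fwd 2009, .fwd 1848, .bwd 1842, .fwd 1970, .fwd 1798, .fwd 1554, .fwd 2037],
   .loop (some (9, 2)) [.bwd 1110, .bwd 1203, .fwd 1079],
   .define,
   .loop (some (14, 3)) [.fwd 1080, .fwd 1996, .fwd 1591, .fwd 1178, .fwd 1116, .fwd 1110, .fwd 1543, .fwd 2040],
   .loop (some (7, 2)) [.fwd 2035, .bwd 1048, .bwd 1793, .fwd 1336],
   .loop none [.bwd 2042],
   .loop none [.bwd 2035, .bwd 2043],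
   .loop none [.fwd 2034, .bwd 2043],
   .loop (some (9, 2)) [.bwd 1079, .bwd 1793, .fwd 1338],
   .loop (some (2, 2)) [.bwd 1079, .fwd 1048, .fwd 1561],
   .loop (some (1, 2)) [.bwd 1079, .fwd 1061, .fwd 1369],
   .define,
   .define,
   .loop (some (11, 4)) [.bwd 1561, .bwd 1351, .bwd 1629, .fwd 2049, .fwd 2050],
   .loop (some (9, 2)) [.bwd 1561, .bwd 2044, .fwd 1803],
   .loop (some (8, 2)) [.fwd 2028, .fwd 1351, .bwd 2044, .bwd 1276],
   .loop none [.bwd 2053],
   .loop none [.fwd 1564, .bwd 2054],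
   .loop none [.fwd 1805, .bwd 2054],
   .loop none [.bwd 1551, .bwd 2054],
   .loop none [.bwd 2028, .bwd 2054],
   .loop none [.fwd 1959, .bwd 2054],
   .loop (some (1, 2)) [.bwd 1561, .fwd 1626, .fwd 1468],
   .loop (some (6, 1)) [.fwd 1966, .bwd 1626, .bwd 2044],
   .loop (some (3, 1)) [.fwd 1782, .bwd 1626, .bwd 1851],
   .loop (some (9, 2)) [.bwd 1132, .bwd 1201, .fwd 1063],
   .loop (some (2, 2)) [.bwd 1132, .fwd 1158, .fwd 2001],
   .loop (some (1, 2)) [.bwd 1132, .bwd 1895, .bwd 1134],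
   .loop (some (14, 1)) [.bwd 1575, .fwd 1800, .bwd 1824, .bwd 1611, .fwd 1068, .fwd 1032, .fwd 1053, .fwd 1132],
   .loop (some (13, 0)) [.bwd 1219, .bwd 715, .bwd 755, .bwd 1187, .fwd 883, .fwd 1071, .bwd 1282, .bwd 1401],
   .loop (some (9, 3)) [.bwd 1596, .bwd 1573, .bwd 892, .fwd 1831],
   .loop none [.fwd 2068],
   .loop none [.fwd 1811, .fwd 2069, .fwd 1839],
   .loop none [.fwd 2070],
   .loop none [.fwd 1835, .bwd 2069],
   .loop none [.bwd 1832, .bwd 2069],
   .loop none [.fwd 1831, .bwd 2069],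
   .loop none [.fwd 1836, .bwd 2071],
   .loop none [.fwd 1810, .fwd 2071, .fwd 1837],
   .loop none [.fwd 2076],
   .loop none [.bwd 1838, .bwd 2077],
   .define,
   .loop (some (2, 2)) [.bwd 1596, .fwd 1401, .fwd 2079],
   .loop (some (1, 2)) [.bwd 1596, .fwd 2067, .fwd 1534],
   .define,
   .loop (some (14, 3)) [.fwd 2041, .bwd 1079, .fwd 1032, .fwd 1053, .bwd 1058, .fwd 1393, .fwd 1660, .fwd 2082],
   .loop (some (7, 2)) [.fwd 1966, .bwd 1361, .bwd 1795, .fwd 1321],
   .loop none [.bwd 2084],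
   .loop none [.fwd 2061, .bwd 2085],
   .loop none [.bwd 1966, .bwd 2085],
   .loop none [.fwd 1965, .bwd 2085],
   .loop (some (9, 2)) [.bwd 1369, .bwd 1795, .bwd 1681],
   .loop (some (2, 2)) [.bwd 1369, .fwd 1361, .fwd 1468],
   .define,
   .define,
   .loop (some (13, 5)) [.bwd 2092, .bwd 2091, .fwd 1808, .fwd 1695, .bwd 1329, .bwd 1808, .fwd 2091, .fwd 2092],
   .loop (some (4, 1)) [.bwd 1627, .fwd 1808, .fwd 1064],
   .loop (some (7, 2)) [.fwd 1808, .bwd 1997, .bwd 2007],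
   .loop (some (5, 1)) [.bwd 1383, .bwd 1329, .bwd 1544],
   .loop (some (3, 1)) [.bwd 1383, .bwd 1695, .fwd 1064],
   .define,
   .define,
   .define,
   .loop (some (14, 6)) [.bwd 1065, .bwd 1064, .bwd 1063, .bwd 1084, .fwd 1338, .fwd 2098, .fwd 2099, .fwd 2100],
   .loop (some (12, 4)) [.fwd 2101, .bwd 1065, .bwd 1064, .bwd 1544, .bwd 1543, .bwd 2023, .bwd 2022],
   .loop none [.bwd 2102],
   .loop none [.fwd 2021, .fwd 2103, .bwd 2100],
   .loop none [.fwd 2104],
   .loop none [.bwd 2101, .bwd 2103],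
   .loop none [.fwd 2020, .fwd 2105, .bwd 2099],
   .loop none [.fwd 2107],
   .loop none [.fwd 1847, .fwd 2108, .bwd 2098],
   .loop none [.bwd 2109],
   .loop none [.fwd 1577, .fwd 2110, .bwd 1846],
   .loop none [.fwd 2111],
   .loop none [.bwd 1847, .bwd 2110],
   .loop none [.fwd 1845, .bwd 2112],
   .define,
   .define,
   .define,
   .define,
   .loop (some (11, 4)) [.bwd 1809, .fwd 2115, .fwd 2116, .fwd 2117, .fwd 2118],
   .define,
   .define,
   .define,
   .define,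
   .define,
   .loop (some (13, 7)) [.bwd 2094, .fwd 2097, .bwd 2096, .fwd 2120, .fwd 2121, .fwd 2122, .fwd 2123, .fwd 2124],
   .loop (some (4, 1)) [.bwd 1628, .bwd 2094, .fwd 1065],
   .define,
   .define,
   .loop (some (7, 2)) [.bwd 2094, .fwd 2127, .fwd 2128],
   .define,
   .loop (some (9, 2)) [.bwd 1809, .fwd 2127, .fwd 2130],
   .define,
   .loop (some (0, 1)) [.bwd 2127, .fwd 2132],
   .define,
   .loop (some (2, 2)) [.bwd 1809, .fwd 2094, .fwd 2134],
   .loop (some (5, 3)) [.bwd 2115, .bwd 1064, .fwd 1329, .bwd 1432],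
   .loop none [.bwd 2136],
   .loop none [.fwd 2115, .bwd 2137],
   .loop none [.bwd 1975, .fwd 2137, .fwd 2116],
   .loop none [.fwd 2139],
   .loop none [.bwd 2117, .bwd 2140],
   .define,
   .loop (some (8, 2)) [.fwd 2138, .fwd 2127, .fwd 2142],
   .loop (some (1, 2)) [.bwd 1809, .fwd 2097, .fwd 1698],
   .define,
   .loop (some (10, 2)) [.fwd 1544, .fwd 1064, .fwd 2127, .fwd 2145],
   .define,
   .loop (some (6, 2)) [.bwd 2097, .fwd 2127, .fwd 2147],
   .loop (some (3, 1)) [.bwd 1384, .bwd 2097, .fwd 1065],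
   .loop (some (14, 5)) [.bwd 2022, .fwd 2106, .bwd 1065, .fwd 1809, .fwd 1810, .fwd 2075, .bwd 1825, .fwd 1823],
   .define,
   .define,
   .loop (some (13, 6)) [.bwd 2049, .bwd 2126, .fwd 2149, .bwd 1111, .fwd 2036, .fwd 2024, .fwd 2151, .fwd 2152],
   .define,
   .loop (some (4, 2)) [.bwd 2126, .bwd 2106, .fwd 2154],
   .define,
   .define,
   .loop (some (7, 2)) [.bwd 2126, .fwd 2156, .fwd 2157],
   .loop (some (9, 1)) [.fwd 1082, .fwd 1666, .bwd 1066, .fwd 2156],
   .loop none [.fwd 2159],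
   .loop none [.bwd 2157, .bwd 2160],
   .loop none [.fwd 2156, .bwd 2160],
   .loop (some (0, 1)) [.fwd 2162, .fwd 2018],
   .define,
   .loop (some (6, 2)) [.bwd 2149, .bwd 2162, .fwd 2164],
   .define,
   .loop (some (3, 2)) [.bwd 2149, .bwd 2106, .fwd 2166],
   .loop (some (6, 1)) [.fwd 1357, .fwd 1937, .bwd 1666],
   .define,
   .loop (some (14, 4)) [.bwd 1132, .bwd 1058, .bwd 1398, .fwd 1397, .bwd 1066, .bwd 2106, .bwd 2021, .fwd 2169],
   .define,
   .loop (some (2, 2)) [.bwd 1611, .fwd 1609, .fwd 2171],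
   .loop (some (1, 2)) [.bwd 1611, .bwd 1790, .bwd 1536],
   .define,
   .loop (some (11, 3)) [.bwd 2091, .fwd 1556, .bwd 1282, .fwd 2079, .fwd 2174],
   .loop (some (1, 2)) [.fwd 1556, .bwd 1467, .fwd 1460],
   .define,
   .loop (some (14, 4)) [.bwd 2079, .bwd 2057, .fwd 2056, .fwd 1804, .bwd 1556, .fwd 1627, .fwd 2134, .fwd 2177],
   .define,
   .define,
   .define,
   .loop (some (13, 6)) [.fwd 2051, .fwd 2047, .bwd 2048, .fwd 1794, .fwd 2161, .fwd 2179, .fwd 2180, .fwd 2181],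
   .loop (some (7, 1)) [.fwd 2052, .fwd 2047, .bwd 2046],
   .loop (some (0, 1)) [.fwd 2046, .fwd 2039],
   .define,
   .loop (some (5, 2)) [.fwd 1707, .bwd 2041, .fwd 2185],
   .loop (some (8, 2)) [.fwd 1707, .bwd 2046, .bwd 1313],
   .loop (some (10, 2)) [.fwd 2083, .fwd 2041, .bwd 2046, .bwd 1577],
   .loop (some (6, 1)) [.fwd 2089, .fwd 2048, .bwd 2046],
   .define,
   .loop (some (14, 6)) [.bwd 1081, .bwd 1080, .bwd 1079, .bwd 1068, .fwd 1611, .bwd 1826, .bwd 1825, .fwd 2190],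
   .define,
   .loop (some (12, 3)) [.fwd 2191, .bwd 1081, .bwd 1080, .bwd 2041, .bwd 2083, .fwd 2192],
   .define,
   .loop (some (13, 5)) [.bwd 2194, .bwd 2008, .fwd 2007, .fwd 1993, .bwd 1995, .bwd 2007, .fwd 2008, .fwd 2194],
   .loop (some (4, 2)) [.bwd 1563, .fwd 2007, .fwd 1081, .fwd 2161],
   .loop none [.fwd 2196],
   .loop none [.fwd 2161, .bwd 2197],
   .loop none [.bwd 2179, .bwd 2197],
   .loop none [.bwd 2158, .bwd 2197],
   .loop (some (10, 2)) [.fwd 2041, .fwd 1080, .fwd 1998, .bwd 2170],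
   .loop (some (3, 2)) [.bwd 1371, .bwd 1993, .fwd 1081, .fwd 2164],
   .loop none [.fwd 2202],
   .loop none [.fwd 2164, .bwd 2203],
   .loop none [.bwd 2165, .bwd 2203],
   .loop (some (14, 5)) [.fwd 2193, .fwd 2191, .bwd 1081, .fwd 1996, .fwd 1664, .fwd 1667, .fwd 2020, .fwd 2169],
   .define,
   .loop (some (4, 2)) [.fwd 2198, .bwd 2191, .fwd 2207],
   .loop (some (7, 2)) [.fwd 2198, .bwd 2163, .bwd 2019],
   .loop (some (3, 1)) [.fwd 2186, .fwd 2204, .bwd 2191],
   .loop (some (4, 2)) [.bwd 1554, .bwd 2036, .fwd 1543, .fwd 2120],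
   .loop none [.fwd 2211],
   .loop none [.fwd 2120, .bwd 2212],
   .loop none [.bwd 2121, .bwd 2212],
   .loop (some (5, 1)) [.fwd 2167, .bwd 1111, .bwd 2023],
   .loop (some (10, 2)) [.fwd 2022, .fwd 2023, .bwd 2039, .bwd 2041],
   .loop (some (3, 1)) [.bwd 1431, .bwd 1974, .fwd 1543],
   .define,
   .define,
   .define,
   .define,
   .loop (some (13, 8)) [.bwd 2149, .fwd 1606, .fwd 1967, .fwd 1942, .fwd 2218, .fwd 2219, .fwd 2220, .fwd 2221],
   .define,
   .loop (some (4, 2)) [.fwd 2222, .bwd 2167, .fwd 2223],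
   .define,
   .loop (some (7, 2)) [.fwd 2222, .bwd 2205, .fwd 2225],
   .loop (some (2, 1)) [.bwd 1648, .fwd 1363, .bwd 1112, .bwd 2222],
   .loop none [.fwd 2227],
   .loop none [.bwd 2222, .bwd 2228],
   .loop none [.fwd 2221, .bwd 2228],
   .loop none [.fwd 2224, .bwd 2228],
   .loop none [.fwd 2226, .bwd 2228],
   .loop (some (14, 8)) [.fwd 2167, .fwd 1112, .bwd 1293, .fwd 557, .bwd 1252, .bwd 1405, .fwd 1409, .bwd 1941, .bwd 1940],
   .loop none [.bwd 2233],
   .loop none [.fwd 2166, .bwd 2234],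
   .loop none [.bwd 2223, .bwd 2234],
   .loop none [.fwd 2215, .bwd 2234],
   .loop none [.bwd 2167, .bwd 2234],
   .loop (some (7, 2)) [.fwd 1950, .fwd 1363, .bwd 1357, .bwd 1323],
   .loop none [.bwd 2239],
   .loop none [.fwd 1471, .bwd 2240],
   .loop none [.fwd 1690, .bwd 2240],
   .loop none [.bwd 1440, .bwd 2240],
   .loop none [.bwd 1950, .bwd 2240],
   .loop none [.fwd 1862, .bwd 2240],
   .define,
   .loop (some (14, 4)) [.fwd 1134, .fwd 1218, .fwd 1225, .fwd 1293, .bwd 1112, .bwd 2238, .bwd 1939, .fwd 2246],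
   .define,
   .define]

theorem just8_len : just8.length = 250 := by decide +kernel

theorem just8_ok : cert.okFacts 2000 just8 = true := by decide +kernel

/-- justifications -/
noncomputable def just9 : List Cert.Just :=
  [.loop (some (13, 5)) [.bwd 2249, .bwd 2248, .fwd 2064, .bwd 2065, .bwd 1133, .bwd 2064, .fwd 2248, .fwd 2249],
   .define,
   .loop (some (4, 2)) [.fwd 2064, .fwd 2066, .fwd 2251],
   .loop (some (7, 2)) [.fwd 2064, .bwd 2063, .bwd 1808],
   .define,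
   .loop (some (5, 2)) [.bwd 1133, .bwd 2170, .fwd 2254],
   .loop (some (8, 2)) [.bwd 1133, .bwd 2063, .fwd 1329],
   .loop (some (10, 2)) [.fwd 2169, .fwd 2170, .bwd 2063, .bwd 1544],
   .loop (some (3, 1)) [.fwd 2255, .fwd 2065, .fwd 2066],
   .define,
   .define,
   .define,
   .loop (some (13, 5)) [.bwd 2261, .bwd 2260, .bwd 2259, .fwd 2065, .fwd 1133, .fwd 2259, .fwd 2260, .fwd 2261],
   .define,
   .loop (some (4, 2)) [.bwd 2259, .bwd 2255, .fwd 2263],
   .loop (some (7, 2)) [.bwd 2259, .bwd 2256, .bwd 1694],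
   .loop (some (2, 1)) [.bwd 1908, .bwd 1136, .bwd 1134, .fwd 2259],
   .loop none [.fwd 2266],
   .loop none [.fwd 2259, .bwd 2267],
   .loop none [.bwd 2260, .bwd 2267],
   .loop none [.fwd 2264, .bwd 2267],
   .loop none [.fwd 2265, .bwd 2267],
   .loop (some (5, 1)) [.bwd 2066, .fwd 1133, .bwd 2247],
   .loop (some (10, 2)) [.fwd 2246, .fwd 2247, .bwd 2256, .bwd 1432],
   .loop (some (14, 8)) [.fwd 2255, .fwd 1134, .bwd 1164, .bwd 631, .bwd 829, .bwd 1677, .bwd 1681, .bwd 1495, .bwd 1494],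
   .loop none [.bwd 2274],
   .loop none [.fwd 2258, .bwd 2275],
   .loop none [.bwd 2263, .bwd 2275],
   .loop none [.fwd 2254, .bwd 2275],
   .loop none [.bwd 2255, .bwd 2275],
   .loop (some (12, 5)) [.bwd 1494, .fwd 2279, .bwd 2247, .bwd 2246, .bwd 1938, .bwd 1778, .bwd 1777],
   .loop none [.fwd 2280],
   .loop none [.fwd 1776, .bwd 2281],
   .loop none [.bwd 1495, .fwd 2281, .fwd 1777],
   .loop none [.fwd 2283],
   .loop none [.bwd 1778, .bwd 2284],
   .define,
   .loop (some (11, 3)) [.bwd 2269, .bwd 1908, .fwd 1137, .bwd 1927, .fwd 2286],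
   .loop (some (1, 2)) [.bwd 1908, .bwd 1984, .fwd 2001],
   .define,
   .define,
   .define,
   .loop (some (14, 5)) [.fwd 1782, .fwd 1377, .fwd 1630, .fwd 1908, .fwd 2270, .fwd 2289, .fwd 2290, .fwd 2291],
   .define,
   .loop (some (9, 2)) [.fwd 1927, .fwd 1652, .fwd 2293],
   .loop (some (1, 2)) [.fwd 1927, .bwd 1617, .bwd 2013],
   .loop (some (6, 1)) [.fwd 1625, .fwd 1617, .fwd 1652],
   .define,
   .loop (some (14, 3)) [.fwd 1972, .bwd 1468, .fwd 1377, .fwd 1630, .bwd 1651, .bwd 1927, .fwd 1928, .fwd 2297],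
   .loop (some (9, 2)) [.fwd 1742, .bwd 1205, .bwd 1220, .fwd 1534],
   .loop none [.bwd 2299],
   .loop none [.fwd 1700, .fwd 2300, .fwd 1755],
   .loop none [.fwd 2301],
   .loop none [.fwd 1747, .bwd 2300],
   .loop none [.bwd 1742, .bwd 2300],
   .loop none [.fwd 1741, .bwd 2300],
   .loop none [.fwd 1752, .bwd 2302],
   .loop none [.fwd 1699, .fwd 2302, .fwd 1753],
   .loop none [.fwd 2307],
   .loop none [.bwd 1754, .bwd 2308],
   .define,
   .loop (some (14, 3)) [.fwd 1976, .bwd 1369, .fwd 1062, .fwd 1164, .fwd 1218, .fwd 1205, .fwd 1305, .fwd 2310],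
   .define,
   .loop (some (11, 3)) [.bwd 2248, .bwd 2001, .fwd 1159, .bwd 2013, .fwd 2312],
   .define,
   .define,
   .loop (some (14, 4)) [.bwd 2171, .fwd 1851, .fwd 1049, .bwd 1624, .fwd 2001, .bwd 2252, .fwd 2314, .fwd 2315],
   .loop (some (9, 2)) [.fwd 2013, .bwd 1625, .fwd 2079],
   .define,
   .loop (some (14, 3)) [.fwd 2038, .bwd 1561, .fwd 1049, .bwd 1624, .fwd 1623, .bwd 2013, .fwd 2014, .fwd 2318],
   .define,
   .define,
   .define,
   .loop (some (13, 6)) [.bwd 2286, .bwd 1739, .bwd 1820, .fwd 1386, .fwd 1813, .fwd 2320, .fwd 2321, .fwd 2322],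
   .loop (some (4, 1)) [.bwd 1928, .bwd 1739, .fwd 1305],
   .loop (some (7, 1)) [.fwd 2294, .bwd 1739, .bwd 2304],
   .loop (some (10, 2)) [.fwd 1700, .fwd 2303, .bwd 2304, .bwd 1700],
   .loop (some (3, 1)) [.bwd 1660, .fwd 1820, .fwd 1305],
   .define,
   .define,
   .define,
   .loop (some (13, 7)) [.bwd 1714, .fwd 1723, .bwd 1386, .fwd 1829, .fwd 2312, .fwd 2328, .fwd 2329, .fwd 2330],
   .define,
   .loop (some (4, 2)) [.bwd 1714, .bwd 1725, .fwd 2332],
   .loop (some (7, 2)) [.bwd 1714, .bwd 1788, .fwd 2332],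
   .loop (some (14, 5)) [.fwd 1726, .fwd 1727, .fwd 1725, .fwd 1207, .bwd 1524, .bwd 1902, .fwd 1371, .bwd 2186],
   .define,
   .loop (some (11, 3)) [.bwd 2199, .bwd 2055, .fwd 1276, .fwd 1803, .fwd 2336],
   .loop (some (13, 0)) [.bwd 1322, .bwd 1321, .bwd 1320, .fwd 1479, .fwd 935, .bwd 1474, .bwd 1342, .fwd 1477],
   .loop (some (1, 2)) [.bwd 2055, .fwd 2338, .fwd 2241],
   .define,
   .define,
   .loop (some (14, 4)) [.bwd 1508, .fwd 1502, .fwd 1548, .bwd 2057, .fwd 2055, .bwd 2208, .fwd 2340, .fwd 2341],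
   .loop (some (9, 2)) [.bwd 1803, .fwd 2045, .fwd 1798],
   .loop (some (1, 2)) [.bwd 1803, .bwd 2086, .fwd 1688],
   .loop (some (14, 1)) [.fwd 2017, .bwd 1952, .fwd 1958, .bwd 1560, .fwd 1466, .fwd 1548, .bwd 2057, .fwd 2056, .fwd 1803],
   .loop none [.bwd 2345],
   .loop none [.fwd 1589, .fwd 2346, .bwd 2016],
   .loop none [.fwd 2347],
   .loop none [.bwd 2017, .bwd 2346],
   .loop none [.fwd 2015, .bwd 2348],
   .loop (some (9, 2)) [.bwd 2079, .bwd 1843, .bwd 1833],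
   .loop (some (1, 2)) [.bwd 2079, .bwd 2296, .fwd 2293],
   .loop (some (14, 1)) [.fwd 2013, .bwd 1623, .fwd 1624, .fwd 1052, .fwd 1514, .fwd 1502, .fwd 1548, .fwd 2079],
   .loop (some (2, 2)) [.bwd 2332, .fwd 1536, .fwd 1529, .bwd 2292],
   .loop none [.bwd 2354],
   .loop none [.fwd 2332, .bwd 2355],
   .loop none [.fwd 2291, .fwd 2355, .fwd 2333],
   .loop none [.bwd 2357],
   .loop none [.bwd 2334, .bwd 2355],
   .loop none [.bwd 1886, .fwd 2358, .bwd 2290],
   .loop none [.fwd 2360],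
   .loop none [.bwd 2291, .bwd 2358],
   .loop none [.bwd 1516, .fwd 2361, .bwd 2289],
   .loop none [.fwd 2363],
   .loop none [.fwd 2277, .bwd 2364],
   .loop none [.fwd 2270, .bwd 2364],
   .loop (some (11, 4)) [.bwd 2310, .fwd 1744, .fwd 1493, .fwd 2278, .fwd 2206],
   .define,
   .define,
   .define,
   .define,
   .loop (some (13, 7)) [.bwd 2324, .fwd 2327, .fwd 1834, .fwd 1812, .fwd 2368, .fwd 2369, .fwd 2370, .fwd 2371],
   .define,
   .define,
   .loop (some (7, 2)) [.bwd 2324, .fwd 2373, .fwd 2374],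
   .define,
   .loop (some (9, 2)) [.bwd 2310, .fwd 2373, .fwd 2376],
   .define,
   .loop (some (0, 1)) [.bwd 2373, .fwd 2378],
   .loop (some (2, 2)) [.bwd 2310, .fwd 2324, .fwd 2297],
   .define,
   .loop (some (8, 2)) [.bwd 1744, .fwd 2373, .fwd 2381],
   .loop (some (1, 2)) [.bwd 2310, .fwd 2327, .fwd 2082],
   .loop (some (10, 1)) [.fwd 1719, .bwd 2305, .fwd 2303, .fwd 1305, .fwd 2373],
   .loop none [.fwd 2384],
   .loop none [.bwd 1737, .fwd 2385, .fwd 2374],
   .loop none [.fwd 2386],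
   .loop none [.fwd 1718, .fwd 2385, .fwd 2381],
   .loop none [.fwd 2388],
   .loop none [.fwd 2282, .fwd 2385, .fwd 2376],
   .loop none [.fwd 2390],
   .loop none [.fwd 2373, .bwd 2385],
   .loop none [.fwd 2379, .bwd 2385],
   .loop none [.bwd 2375, .bwd 2387],
   .loop none [.bwd 2382, .bwd 2389],
   .loop none [.bwd 2377, .bwd 2391],
   .loop (some (6, 2)) [.bwd 2327, .bwd 2392, .fwd 1750],
   .define,
   .define,
   .define,
   .define,
   .loop (some (13, 6)) [.fwd 1944, .fwd 1935, .bwd 1936, .bwd 1680, .fwd 2398, .fwd 2399, .fwd 2400, .fwd 2401],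
   .loop (some (4, 1)) [.bwd 1960, .fwd 1935, .fwd 1938],
   .loop (some (10, 2)) [.fwd 1495, .fwd 2285, .bwd 1934, .bwd 1384],
   .loop (some (3, 1)) [.bwd 2020, .fwd 1936, .fwd 1938],
   .define,
   .define,
   .loop (some (13, 6)) [.bwd 2336, .bwd 2183, .fwd 2189, .fwd 1680, .bwd 2019, .bwd 2026, .fwd 2406, .fwd 2407],
   .loop (some (5, 1)) [.bwd 1938, .fwd 1313, .bwd 1577],
   .loop (some (10, 2)) [.fwd 1576, .fwd 1577, .bwd 2184, .bwd 2023],
   .loop (some (6, 2)) [.bwd 2189, .bwd 2184, .fwd 1974],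
   .loop (some (2, 2)) [.bwd 2398, .fwd 1681, .fwd 1321, .fwd 1688],
   .loop none [.bwd 2412],
   .loop none [.fwd 2398, .bwd 2413],
   .loop none [.bwd 2399, .bwd 2413],
   .define,
   .loop (some (11, 3)) [.bwd 2415, .bwd 1688, .fwd 1322, .fwd 2241, .fwd 2416],
   .loop (some (9, 2)) [.bwd 1688, .fwd 2088, .fwd 1703],
   .loop (some (14, 1)) [.fwd 1932, .fwd 1933, .fwd 1861, .bwd 1300, .bwd 1428, .fwd 1435, .bwd 2243, .fwd 2242, .fwd 1688],
   .loop none [.bwd 2419],
   .loop none [.fwd 1518, .fwd 2420, .bwd 1931],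
   .loop none [.fwd 2421],
   .loop none [.bwd 1932, .bwd 2420],
   .loop none [.fwd 1930, .bwd 2422],
   .loop (some (9, 2)) [.bwd 2241, .fwd 2245, .bwd 1933],
   .loop (some (2, 3)) [.bwd 2241, .fwd 1323, .fwd 1682, .fwd 2225],
   .loop none [.fwd 2426],
   .loop none [.fwd 2225, .bwd 2427],
   .loop none [.fwd 2232, .bwd 2427],
   .define,
   .define,
   .define,
   .loop (some (14, 4)) [.bwd 1487, .fwd 1426, .fwd 1435, .bwd 2243, .fwd 2241, .fwd 2430, .fwd 2431, .fwd 2432],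
   .define,
   .define,
   .loop (some (13, 5)) [.bwd 2435, .bwd 2434, .fwd 1694, .bwd 1695, .fwd 1329, .bwd 1694, .fwd 2434, .fwd 2435],
   .loop (some (4, 1)) [.bwd 1633, .fwd 1694, .fwd 1383],
   .loop (some (7, 2)) [.fwd 1694, .bwd 1903, .bwd 1920],
   .define,
   .loop (some (11, 3)) [.bwd 2434, .bwd 1460, .fwd 1332, .fwd 2293, .fwd 2439],
   .define,
   .define,
   .loop (some (14, 4)) [.bwd 2293, .bwd 2243, .fwd 2242, .fwd 1689, .fwd 1460, .fwd 1633, .fwd 2441, .fwd 2442],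
   .loop (some (9, 2)) [.bwd 2293, .bwd 1774, .bwd 1743],
   .loop (some (14, 1)) [.fwd 1927, .fwd 1651, .bwd 1630, .bwd 1368, .fwd 1457, .fwd 1426, .fwd 1435, .fwd 2293],
   .loop (some (1, 2)) [.fwd 1629, .fwd 1979, .fwd 1648],
   .define,
   .define,
   .loop (some (14, 4)) [.bwd 2001, .fwd 1623, .fwd 1599, .fwd 1615, .bwd 1629, .bwd 2155, .fwd 2447, .fwd 2448],
   .define,
   .loop (some (11, 4)) [.bwd 1468, .fwd 1362, .fwd 1648, .fwd 2230, .fwd 2450],
   .loop (some (9, 2)) [.bwd 1468, .bwd 2087, .fwd 1688],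
   .define,
   .define,
   .loop (some (14, 4)) [.bwd 1908, .bwd 1651, .fwd 1289, .fwd 1640, .fwd 1648, .fwd 2231, .fwd 2453, .fwd 2454],
   .define,
   .define,
   .loop (some (13, 6)) [.fwd 2451, .fwd 2090, .fwd 2048, .bwd 1707, .bwd 2428, .fwd 2416, .fwd 2456, .fwd 2457],
   .loop (some (5, 2)) [.fwd 2191, .bwd 1794, .bwd 1976, .fwd 2141],
   .loop none [.bwd 2459],
   .loop none [.bwd 2210, .bwd 2460],
   .loop none [.bwd 2207, .bwd 2460],
   .loop none [.bwd 2118, .fwd 2460, .bwd 2190],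
   .loop none [.bwd 2463],
   .loop none [.bwd 2191, .bwd 2460],
   .loop none [.fwd 2193, .bwd 2460],
   .loop none [.bwd 2119, .bwd 2464],
   .loop none [.fwd 2118, .bwd 2464],
   .define,
   .loop (some (12, 3)) [.fwd 2186, .bwd 1371, .bwd 1370, .bwd 1976, .bwd 2311, .fwd 2469],
   .define,
   .loop (some (13, 5)) [.bwd 2471, .bwd 1921, .fwd 1920, .bwd 1993, .fwd 1995, .bwd 1920, .fwd 1921, .fwd 2471],
   .loop (some (10, 2)) [.fwd 1976, .fwd 1370, .fwd 1904, .bwd 2247],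
   .loop (some (14, 5)) [.fwd 2470, .fwd 2186, .bwd 1371, .fwd 1902, .fwd 1525, .fwd 1312, .fwd 1938, .fwd 2246],
   .loop (some (4, 1)) [.bwd 2430, .fwd 2428, .bwd 2186],
   .loop (some (11, 4)) [.bwd 1698, .bwd 2096, .fwd 2040, .fwd 2185, .fwd 2335],
   .define,
   .define,
   .define,
   .define,
   .define,
   .loop (some (13, 7)) [.bwd 2437, .bwd 2097, .bwd 2138, .fwd 2477, .fwd 2478, .fwd 2479, .fwd 2480, .fwd 2481],
   .define,
   .loop (some (7, 2)) [.bwd 2437, .bwd 2148, .fwd 2483],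
   .define,
   .loop (some (9, 2)) [.bwd 1698, .bwd 2148, .fwd 2485],
   .loop (some (0, 2)) [.fwd 2148, .fwd 2404, .fwd 2396],
   .loop none [.fwd 2487],
   .loop none [.fwd 2147, .fwd 2488, .bwd 2383],
   .loop none [.bwd 2489],
   .loop none [.bwd 2483, .fwd 2488, .bwd 2380],
   .loop none [.bwd 2491],
   .loop none [.fwd 2367, .bwd 2488],
   .loop none [.bwd 2485, .fwd 2488, .bwd 2310],
   .loop none [.bwd 2494],
   .loop none [.bwd 2469, .bwd 2488],
   .loop none [.bwd 2311, .bwd 2488],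
   .loop none [.fwd 2396, .bwd 2488],
   .loop none [.bwd 2147, .bwd 2490]]

theorem just9_len : just9.length = 250 := by decide +kernel

theorem just9_ok : cert.okFacts 2250 just9 = true := by decide +kernel

/-- justifications -/
noncomputable def just10 : List Cert.Just :=
  [.loop none [.bwd 2128, .bwd 2490],
   .loop none [.bwd 2142, .bwd 2490],
   .loop none [.fwd 2082, .fwd 2490, .fwd 2130],
   .loop none [.fwd 2502],
   .loop none [.bwd 2192, .fwd 2490, .fwd 2145],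
   .loop none [.bwd 2504],
   .loop none [.fwd 2127, .bwd 2490],
   .loop none [.fwd 2188, .fwd 2490, .bwd 2133],
   .loop none [.fwd 2507],
   .loop none [.fwd 2483, .bwd 2492],
   .loop none [.bwd 2484, .bwd 2492],
   .loop none [.fwd 2485, .bwd 2495],
   .loop none [.bwd 2378, .fwd 2495, .fwd 2486],
   .loop none [.bwd 2512],
   .loop none [.bwd 2131, .bwd 2503],
   .loop none [.fwd 2493, .bwd 2505],
   .loop none [.fwd 2206, .bwd 2505],
   .loop none [.fwd 2466, .bwd 2505],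
   .loop none [.fwd 2192, .bwd 2505],
   .loop none [.fwd 2132, .bwd 2508],
   .loop none [.fwd 2393, .bwd 2513],
   .loop none [.fwd 2378, .bwd 2513],
   .loop (some (2, 2)) [.bwd 1698, .fwd 2437, .fwd 2441],
   .loop (some (10, 2)) [.fwd 2143, .fwd 1432, .fwd 1383, .bwd 2148, .fwd 2496],
   .loop none [.fwd 2523],
   .loop none [.fwd 2474, .bwd 2524],
   .loop none [.bwd 2470, .bwd 2524],
   .loop none [.fwd 2496, .bwd 2524],
   .loop (some (14, 5)) [.bwd 1940, .fwd 2238, .bwd 1384, .fwd 1698, .fwd 1699, .fwd 2306, .bwd 1726, .fwd 1722],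
   .loop (some (4, 1)) [.bwd 2014, .bwd 1829, .fwd 1660],
   .loop (some (10, 2)) [.fwd 1811, .fwd 2072, .bwd 2073, .bwd 1811],
   .loop (some (4, 3)) [.bwd 1813, .bwd 1824, .bwd 2172, .bwd 2316],
   .loop none [.fwd 2531],
   .loop none [.fwd 1981, .fwd 2532, .bwd 2315],
   .loop none [.fwd 2533],
   .loop none [.bwd 2316, .bwd 2532],
   .loop none [.bwd 1587, .fwd 2534, .bwd 2314],
   .loop none [.fwd 2536],
   .loop none [.fwd 2251, .bwd 2537],
   .loop none [.bwd 2252, .bwd 2537],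
   .loop (some (7, 2)) [.bwd 1813, .bwd 1857, .bwd 2172],
   .loop (some (4, 2)) [.bwd 1447, .bwd 1967, .fwd 1431, .fwd 2477],
   .loop none [.fwd 2541],
   .loop none [.fwd 2477, .bwd 2542],
   .loop none [.bwd 2478, .bwd 2542],
   .loop (some (5, 1)) [.fwd 2106, .fwd 1606, .bwd 1941],
   .loop (some (10, 2)) [.fwd 1940, .fwd 1941, .bwd 1973, .bwd 1976],
   .define,
   .loop (some (7, 2)) [.fwd 2543, .bwd 2143, .fwd 2547],
   .loop (some (0, 1)) [.fwd 2143, .fwd 2273],
   .loop (some (2, 2)) [.bwd 1975, .bwd 2543, .fwd 1971],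
   .loop (some (1, 2)) [.bwd 1975, .bwd 2217, .fwd 2040],
   .loop (some (10, 2)) [.fwd 1941, .fwd 1431, .bwd 2143, .fwd 2526],
   .loop (some (6, 1)) [.fwd 2146, .fwd 2217, .bwd 2143],
   .define,
   .loop (some (5, 2)) [.bwd 1942, .bwd 1963, .fwd 2554],
   .loop (some (8, 2)) [.bwd 1942, .bwd 1964, .bwd 2451],
   .loop (some (10, 2)) [.fwd 1962, .fwd 1963, .bwd 1964, .bwd 1972],
   .loop (some (3, 1)) [.bwd 1554, .fwd 1968, .fwd 1447],
   .loop (some (14, 4)) [.bwd 2441, .bwd 1633, .bwd 1448, .bwd 1447, .bwd 1703, .bwd 1889, .bwd 1743, .bwd 1738],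
   .loop (some (12, 2)) [.bwd 2231, .bwd 1634, .bwd 1633, .bwd 1448, .bwd 1447, .bwd 1963, .bwd 1962],
   .loop none [.bwd 2560],
   .loop none [.fwd 2236, .bwd 2561],
   .loop none [.fwd 1961, .fwd 2561, .fwd 2453],
   .loop none [.fwd 2563],
   .loop none [.fwd 2231, .bwd 2561],
   .loop none [.bwd 2454, .bwd 2564],
   .define,
   .define,
   .define,
   .loop (some (11, 4)) [.bwd 1971, .fwd 2544, .fwd 2567, .fwd 2568, .fwd 2569],
   .define,
   .loop (some (9, 2)) [.bwd 1971, .bwd 2548, .fwd 2571],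
   .define,
   .loop (some (0, 1)) [.fwd 2548, .fwd 2573],
   .loop (some (5, 2)) [.bwd 2544, .bwd 1447, .fwd 1942],
   .define,
   .loop (some (8, 2)) [.bwd 2544, .bwd 2548, .fwd 2576],
   .loop (some (1, 2)) [.bwd 1971, .fwd 2558, .fwd 2037],
   .define,
   .loop (some (10, 2)) [.fwd 1963, .fwd 1447, .bwd 2548, .fwd 2579],
   .define,
   .loop (some (6, 2)) [.bwd 2558, .bwd 2548, .fwd 2581],
   .loop (some (5, 2)) [.bwd 2434, .bwd 1448, .fwd 2544],
   .loop (some (8, 2)) [.bwd 2434, .bwd 2438, .fwd 1921],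
   .loop (some (3, 1)) [.bwd 1627, .bwd 2176, .fwd 1633],
   .loop (some (5, 2)) [.fwd 2451, .bwd 1972, .bwd 2570],
   .loop (some (8, 2)) [.fwd 2451, .bwd 2452, .fwd 2415],
   .loop (some (10, 2)) [.fwd 2298, .fwd 1972, .bwd 2452, .bwd 1518],
   .define,
   .loop (some (14, 4)) [.bwd 2431, .bwd 2430, .bwd 1470, .bwd 1469, .bwd 1468, .bwd 1782, .bwd 2292, .fwd 2589],
   .define,
   .loop (some (12, 3)) [.bwd 2430, .bwd 1470, .bwd 1469, .bwd 1972, .bwd 2298, .fwd 2591],
   .loop (some (5, 2)) [.bwd 1921, .bwd 1469, .bwd 2451],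
   .loop (some (8, 2)) [.bwd 1921, .fwd 1923, .fwd 2269],
   .loop (some (10, 2)) [.fwd 2572, .fwd 1972, .fwd 1469, .fwd 1923, .bwd 2455],
   .loop none [.bwd 2595],
   .loop none [.fwd 2571, .bwd 2596],
   .loop none [.bwd 2572, .bwd 2596],
   .loop (some (14, 7)) [.bwd 2430, .bwd 1470, .fwd 1922, .fwd 1880, .bwd 1933, .fwd 1960, .fwd 2566, .fwd 2597, .fwd 2579],
   .loop none [.fwd 2599],
   .loop none [.fwd 2592, .fwd 2600, .bwd 2579],
   .loop none [.bwd 2601],
   .loop none [.bwd 2580, .bwd 2600],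
   .loop none [.bwd 2592, .bwd 2602],
   .loop none [.fwd 2591, .bwd 2602],
   .loop (some (5, 2)) [.bwd 2416, .bwd 1470, .fwd 1921],
   .loop (some (8, 2)) [.bwd 2416, .bwd 2425, .bwd 1944],
   .loop (some (3, 1)) [.fwd 2208, .bwd 2339, .fwd 2430],
   .define,
   .loop (some (11, 3)) [.bwd 2609, .fwd 2292, .bwd 1482, .bwd 2292, .fwd 2609],
   .loop (some (9, 2)) [.fwd 2292, .fwd 1785, .fwd 1487],
   .loop (some (1, 2)) [.fwd 2292, .bwd 2062, .fwd 2171],
   .loop (some (14, 2)) [.fwd 2443, .fwd 2445, .fwd 1927, .fwd 1289, .fwd 1640, .bwd 1783, .bwd 2292, .fwd 2589],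
   .loop (some (11, 3)) [.fwd 2331, .bwd 1503, .bwd 1507, .fwd 1503, .bwd 2331],
   .loop (some (1, 2)) [.bwd 1503, .fwd 1512, .fwd 1580],
   .define,
   .loop (some (5, 2)) [.bwd 1497, .bwd 2433, .fwd 2616],
   .loop (some (8, 2)) [.bwd 1497, .bwd 1504, .bwd 2331],
   .loop (some (10, 2)) [.fwd 2432, .fwd 2433, .bwd 1504, .fwd 1886],
   .loop (some (3, 1)) [.bwd 1586, .fwd 1509, .fwd 1515],
   .define,
   .define,
   .define,
   .define,
   .loop (some (13, 7)) [.bwd 1713, .fwd 1724, .bwd 1834, .fwd 2529, .fwd 2621, .fwd 2622, .fwd 2623, .fwd 2624],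
   .define,
   .loop (some (7, 2)) [.bwd 1713, .bwd 2395, .fwd 2626],
   .loop (some (9, 2)) [.bwd 1493, .bwd 2395, .fwd 2528],
   .loop (some (0, 1)) [.fwd 2395, .fwd 1721],
   .define,
   .loop (some (6, 2)) [.bwd 1724, .bwd 2395, .fwd 2630],
   .define,
   .define,
   .define,
   .define,
   .define,
   .loop (some (13, 7)) [.fwd 2365, .fwd 2276, .bwd 2272, .fwd 2632, .fwd 2633, .fwd 2634, .fwd 2635, .fwd 2636],
   .loop (some (4, 1)) [.bwd 1517, .fwd 2365, .fwd 1494],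
   .define,
   .loop (some (7, 2)) [.fwd 2365, .bwd 2628, .fwd 2639],
   .loop (some (0, 0)) [.fwd 2552, .fwd 2628],
   .loop (some (8, 2)) [.bwd 2278, .bwd 2628, .fwd 2545],
   .loop (some (10, 2)) [.fwd 2247, .bwd 2279, .bwd 2628, .bwd 1940],
   .loop (some (6, 1)) [.fwd 2410, .bwd 2276, .bwd 2628],
   .loop (some (3, 1)) [.bwd 1576, .bwd 2276, .fwd 1494],
   .loop (some (11, 0)) [.fwd 2021, .bwd 2545, .bwd 2528, .fwd 1718, .bwd 2282],
   .define,
   .define,
   .define,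
   .define,
   .loop (some (13, 7)) [.bwd 2638, .fwd 2645, .fwd 2409, .fwd 2403, .fwd 2647, .fwd 2648, .fwd 2649, .fwd 2650],
   .loop (some (7, 2)) [.bwd 2638, .bwd 2404, .fwd 2437],
   .loop (some (13, 0)) [.bwd 1578, .fwd 1572, .fwd 891, .fwd 1708, .fwd 1709, .fwd 1710, .fwd 1711, .fwd 1712],
   .define,
   .loop (some (4, 2)) [.fwd 1712, .bwd 2617, .fwd 2654],
   .loop (some (7, 2)) [.fwd 1712, .bwd 2618, .bwd 2330],
   .define,
   .loop (some (0, 1)) [.fwd 2618, .fwd 2657],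
   .loop (some (2, 1)) [.fwd 1712, .fwd 1498, .bwd 1712],
   .loop (some (5, 0)) [.fwd 2625, .bwd 1515, .fwd 1497],
   .define,
   .define,
   .loop (some (10, 3)) [.bwd 2660, .bwd 2618, .fwd 2661, .fwd 2662],
   .define,
   .loop (some (6, 2)) [.bwd 2653, .bwd 2618, .fwd 2664],
   .define,
   .loop (some (3, 2)) [.bwd 2653, .bwd 2617, .fwd 2666],
   .define,
   .define,
   .define,
   .define,
   .define,
   .loop (some (14, 7)) [.fwd 2617, .bwd 1498, .bwd 2617, .fwd 2668, .fwd 2669, .fwd 2670, .fwd 2671, .fwd 2672],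
   .define,
   .loop (some (12, 3)) [.fwd 2672, .fwd 2673, .fwd 2617, .fwd 2660, .bwd 2663, .fwd 2674],
   .loop (some (5, 3)) [.fwd 2331, .fwd 1886, .bwd 2625, .bwd 2663],
   .loop none [.fwd 2676],
   .loop none [.bwd 2661, .fwd 2677, .fwd 2674],
   .loop none [.fwd 2678],
   .loop none [.bwd 2663, .bwd 2677],
   .loop none [.fwd 2658, .fwd 2677, .bwd 2662],
   .loop none [.fwd 2681],
   .loop none [.fwd 2682, .fwd 2679],
   .loop none [.bwd 2675, .fwd 2683],
   .loop none [.fwd 2661, .bwd 2682],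
   .loop (some (8, 2)) [.fwd 2658, .fwd 2331, .bwd 2359, .fwd 2609],
   .loop none [.bwd 2686],
   .loop none [.bwd 2684, .bwd 2687],
   .loop none [.bwd 2685, .bwd 2687],
   .loop none [.bwd 2658, .bwd 2687],
   .loop none [.fwd 2657, .bwd 2687],
   .loop (some (0, 0)) [.fwd 2540, .fwd 1581],
   .loop (some (5, 1)) [.fwd 2667, .bwd 1578, .bwd 2342],
   .loop (some (8, 2)) [.fwd 2665, .bwd 1578, .bwd 1581, .fwd 2320],
   .loop none [.bwd 2694],
   .loop none [.fwd 2664, .bwd 2695],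
   .loop none [.bwd 2665, .bwd 2695],
   .loop (some (10, 2)) [.fwd 2341, .fwd 2342, .bwd 1581, .bwd 1981],
   .define,
   .loop (some (12, 3)) [.bwd 2535, .bwd 1981, .bwd 1586, .bwd 2342, .bwd 2341, .fwd 2699],
   .loop (some (11, 3)) [.bwd 2320, .bwd 1580, .bwd 1568, .fwd 1580, .fwd 2320],
   .define,
   .define,
   .loop (some (11, 3)) [.fwd 2637, .bwd 1516, .bwd 2625, .fwd 2702, .fwd 2703],
   .loop (some (9, 1)) [.fwd 2640, .bwd 1516, .bwd 2627],
   .define,
   .loop (some (8, 2)) [.fwd 2625, .bwd 2627, .fwd 2706],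
   .loop (some (1, 2)) [.bwd 1516, .fwd 2620, .fwd 1587],
   .define,
   .loop (some (10, 2)) [.fwd 2433, .fwd 1515, .bwd 2627, .fwd 2709],
   .define,
   .loop (some (6, 2)) [.bwd 2620, .bwd 2627, .fwd 2711],
   .define,
   .define,
   .define,
   .define,
   .define,
   .loop (some (13, 6)) [.bwd 2278, .bwd 2365, .bwd 2708, .fwd 2713, .fwd 2714, .fwd 2715, .fwd 2716, .fwd 2717],
   .define,
   .loop (some (0, 1)) [.fwd 2640, .fwd 2719],
   .loop (some (5, 2)) [.fwd 2637, .fwd 2366, .fwd 2269],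
   .define,
   .loop (some (8, 2)) [.fwd 2637, .bwd 2640, .fwd 2722],
   .define,
   .loop (some (10, 2)) [.fwd 2455, .bwd 2366, .bwd 2640, .fwd 2724],
   .define,
   .loop (some (6, 2)) [.fwd 2708, .bwd 2640, .fwd 2726],
   .loop (some (3, 1)) [.bwd 1588, .fwd 2708, .fwd 1517],
   .define,
   .define,
   .define,
   .loop (some (11, 4)) [.bwd 2424, .bwd 2651, .fwd 2729, .fwd 2730, .fwd 2731],
   .define,
   .define,
   .define,
   .define,
   .define,
   .loop (some (13, 6)) [.bwd 2646, .fwd 2638, .fwd 2728, .fwd 2733, .fwd 2734, .fwd 2735, .fwd 2736, .fwd 2737],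
   .loop (some (9, 2)) [.bwd 2424, .bwd 2652, .fwd 2441],
   .loop (some (5, 2)) [.fwd 2651, .bwd 1517, .bwd 2637],
   .loop (some (8, 2)) [.fwd 2651, .bwd 2652, .bwd 2482],
   .loop (some (1, 2)) [.bwd 2424, .fwd 2728, .fwd 2350],
   .loop (some (6, 2)) [.bwd 2728, .bwd 2652, .fwd 2585],
   .loop (some (5, 2)) [.bwd 2415, .bwd 1518, .bwd 2651],
   .loop (some (8, 2)) [.bwd 2415, .bwd 2418, .fwd 1942],
   .loop (some (10, 2)) [.fwd 2640, .fwd 1517, .fwd 1518, .bwd 2418, .bwd 1963],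
   .loop none [.bwd 2746],
   .loop none [.bwd 2726, .bwd 2747],
   .loop none [.fwd 2639, .bwd 2747]]

theorem just10_len : just10.length = 250 := by decide +kernel

theorem just10_ok : cert.okFacts 2500 just10 = true := by decide +kernel

/-- justifications -/
noncomputable def just11 : List Cert.Just :=
  [.loop none [.bwd 2554, .fwd 2747, .fwd 2722],
   .loop none [.fwd 2750],
   .loop none [.fwd 2705, .bwd 2747],
   .loop none [.fwd 1962, .fwd 2747, .fwd 2724],
   .loop none [.fwd 2753],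
   .loop none [.bwd 2640, .bwd 2747],
   .loop none [.fwd 2603, .fwd 2747, .bwd 2720],
   .loop none [.fwd 2756],
   .loop none [.bwd 2723, .bwd 2751],
   .loop none [.bwd 2725, .bwd 2754],
   .loop none [.fwd 2719, .bwd 2757],
   .define,
   .loop (some (11, 3)) [.bwd 2761, .bwd 2171, .bwd 1533, .fwd 2171, .fwd 2761],
   .loop (some (14, 2)) [.fwd 2178, .fwd 2353, .fwd 2013, .fwd 1599, .fwd 1615, .bwd 1852, .fwd 2171, .bwd 2700],
   .define,
   .define,
   .loop (some (13, 6)) [.bwd 2439, .bwd 2325, .fwd 2081, .fwd 1597, .bwd 2172, .fwd 2761, .fwd 2764, .fwd 2765],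
   .loop (some (5, 1)) [.fwd 1727, .bwd 1535, .bwd 1700],
   .define,
   .define,
   .loop (some (13, 6)) [.bwd 2609, .fwd 2356, .fwd 2173, .bwd 1597, .bwd 2080, .fwd 2174, .fwd 2768, .fwd 2769],
   .loop (some (4, 1)) [.bwd 2589, .fwd 2356, .bwd 1727],
   .loop (some (3, 1)) [.fwd 1826, .bwd 2173, .bwd 1727],
   .loop (some (7, 1)) [.fwd 2582, .fwd 2213, .bwd 2146],
   .loop (some (0, 1)) [.fwd 2146, .fwd 2257],
   .loop (some (2, 2)) [.bwd 2040, .bwd 2213, .fwd 2037],
   .loop (some (10, 2)) [.fwd 2023, .fwd 1543, .bwd 2146, .fwd 2517],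
   .define,
   .loop (some (5, 2)) [.bwd 2024, .bwd 2032, .fwd 2777],
   .loop (some (8, 2)) [.bwd 2024, .bwd 2033, .bwd 2051],
   .loop (some (10, 2)) [.fwd 2031, .fwd 2032, .bwd 2033, .bwd 2038],
   .loop (some (14, 4)) [.bwd 2134, .bwd 1627, .bwd 1555, .bwd 1554, .bwd 1798, .bwd 1970, .bwd 1833, .bwd 1828],
   .loop (some (12, 2)) [.fwd 2155, .bwd 1628, .bwd 1627, .bwd 1555, .bwd 1554, .bwd 2032, .bwd 2031],
   .loop none [.bwd 2782],
   .loop none [.fwd 2154, .bwd 2783],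
   .loop none [.fwd 2030, .fwd 2783, .fwd 2447],
   .loop none [.fwd 2785],
   .loop none [.bwd 2155, .bwd 2783],
   .loop none [.bwd 2448, .bwd 2786],
   .define,
   .define,
   .define,
   .loop (some (11, 4)) [.bwd 2037, .fwd 2214, .fwd 2789, .fwd 2790, .fwd 2791],
   .define,
   .loop (some (9, 2)) [.bwd 2037, .bwd 2582, .fwd 2793],
   .define,
   .loop (some (0, 1)) [.fwd 2582, .fwd 2795],
   .loop (some (5, 2)) [.bwd 2214, .bwd 1554, .fwd 2024],
   .define,
   .loop (some (8, 2)) [.bwd 2214, .bwd 2582, .fwd 2798],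
   .define,
   .loop (some (10, 2)) [.fwd 2032, .fwd 1554, .bwd 2582, .fwd 2800],
   .loop (some (5, 2)) [.bwd 2091, .bwd 1555, .fwd 2214],
   .loop (some (8, 2)) [.bwd 2091, .bwd 2095, .fwd 2008],
   .loop (some (5, 2)) [.fwd 2051, .bwd 2038, .bwd 2792],
   .loop (some (8, 2)) [.fwd 2051, .bwd 2052, .fwd 2336],
   .loop (some (10, 2)) [.fwd 2319, .fwd 2038, .bwd 2052, .bwd 1589],
   .define,
   .loop (some (12, 3)) [.fwd 2208, .bwd 1563, .bwd 1562, .bwd 2038, .bwd 2319, .fwd 2807],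
   .loop (some (5, 2)) [.bwd 2008, .bwd 1562, .bwd 2051],
   .loop (some (8, 2)) [.bwd 2008, .fwd 2010, .fwd 2248],
   .loop (some (10, 2)) [.fwd 2794, .fwd 2038, .fwd 1562, .fwd 2010, .bwd 2449],
   .loop none [.bwd 2811],
   .loop none [.fwd 2793, .bwd 2812],
   .loop none [.bwd 2794, .bwd 2812],
   .loop (some (14, 7)) [.fwd 2208, .bwd 1563, .fwd 2009, .bwd 1948, .fwd 1952, .fwd 2029, .fwd 2788, .fwd 2813, .fwd 2800],
   .loop none [.fwd 2815],
   .loop none [.fwd 2808, .fwd 2816, .bwd 2800],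
   .loop none [.bwd 2817],
   .loop none [.bwd 2801, .bwd 2816],
   .loop none [.bwd 2808, .bwd 2818],
   .loop none [.fwd 2807, .bwd 2818],
   .loop (some (5, 2)) [.bwd 2199, .bwd 1563, .fwd 2008],
   .loop (some (8, 2)) [.bwd 2199, .bwd 2209, .bwd 2026],
   .loop (some (7, 1)) [.fwd 2712, .bwd 1812, .bwd 2631],
   .loop (some (9, 1)) [.fwd 2150, .fwd 2410, .bwd 1575, .bwd 2631],
   .loop none [.fwd 2825],
   .loop none [.fwd 2630, .bwd 2826],
   .loop none [.bwd 2824, .bwd 2826],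
   .loop none [.bwd 2631, .bwd 2826],
   .loop (some (0, 1)) [.fwd 2829, .fwd 1822],
   .loop (some (4, 1)) [.bwd 1588, .fwd 2538, .fwd 1576],
   .loop (some (7, 1)) [.fwd 2727, .fwd 2538, .bwd 2410],
   .loop (some (0, 0)) [.fwd 2776, .fwd 2410],
   .loop (some (9, 2)) [.bwd 2114, .fwd 2519, .fwd 1809],
   .define,
   .loop (some (4, 2)) [.bwd 1770, .bwd 2667, .fwd 2835],
   .loop (some (7, 2)) [.bwd 1770, .bwd 2697, .fwd 2321],
   .define,
   .loop (some (0, 1)) [.fwd 2697, .fwd 2838],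
   .loop (some (2, 1)) [.bwd 1770, .fwd 1579, .fwd 1770],
   .loop (some (5, 0)) [.bwd 2368, .bwd 1586, .fwd 1578],
   .define,
   .define,
   .loop (some (10, 3)) [.bwd 2841, .bwd 2697, .fwd 2842, .fwd 2843],
   .define,
   .define,
   .define,
   .define,
   .define,
   .loop (some (14, 7)) [.fwd 2667, .bwd 1579, .bwd 2667, .fwd 2845, .fwd 2846, .fwd 2847, .fwd 2848, .fwd 2849],
   .define,
   .loop (some (12, 3)) [.fwd 2849, .fwd 2850, .fwd 2667, .fwd 2841, .bwd 2844, .fwd 2851],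
   .loop (some (5, 3)) [.bwd 2320, .bwd 1981, .fwd 2368, .bwd 2844],
   .loop none [.fwd 2853],
   .loop none [.bwd 2842, .fwd 2854, .fwd 2851],
   .loop none [.fwd 2855],
   .loop none [.bwd 2844, .bwd 2854],
   .loop none [.fwd 2839, .fwd 2854, .bwd 2843],
   .loop none [.fwd 2858],
   .loop none [.fwd 2859, .fwd 2856],
   .loop none [.bwd 2852, .fwd 2860],
   .loop none [.fwd 2842, .bwd 2859],
   .loop (some (8, 2)) [.fwd 2839, .bwd 2320, .bwd 2540, .fwd 2761],
   .loop none [.bwd 2863],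
   .loop none [.bwd 2861, .bwd 2864],
   .loop none [.bwd 2862, .bwd 2864],
   .loop none [.bwd 2839, .bwd 2864],
   .loop none [.fwd 2838, .bwd 2864],
   .define,
   .define,
   .loop (some (11, 3)) [.bwd 2713, .bwd 1587, .fwd 2368, .fwd 2869, .fwd 2870],
   .loop (some (9, 1)) [.fwd 2727, .bwd 1587, .bwd 2712],
   .define,
   .loop (some (8, 2)) [.bwd 2368, .bwd 2712, .fwd 2873],
   .define,
   .loop (some (10, 2)) [.fwd 2342, .fwd 1586, .bwd 2712, .fwd 2875],
   .define,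
   .loop (some (0, 1)) [.fwd 2727, .fwd 2877],
   .loop (some (5, 2)) [.bwd 2713, .fwd 2539, .fwd 2248],
   .define,
   .loop (some (8, 2)) [.bwd 2713, .bwd 2727, .fwd 2880],
   .define,
   .loop (some (10, 2)) [.fwd 2449, .bwd 2539, .bwd 2727, .fwd 2882],
   .define,
   .define,
   .define,
   .loop (some (11, 4)) [.bwd 2350, .fwd 2733, .fwd 2884, .fwd 2885, .fwd 2886],
   .loop (some (9, 2)) [.bwd 2350, .bwd 2743, .fwd 2134],
   .loop (some (0, 1)) [.fwd 2129, .fwd 2743, .fwd 2806],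
   .loop none [.fwd 2889],
   .loop none [.fwd 2318, .bwd 2890],
   .loop none [.fwd 2821, .bwd 2890],
   .loop none [.bwd 2319, .bwd 2890],
   .loop none [.fwd 2806, .bwd 2890],
   .loop (some (5, 2)) [.bwd 2733, .bwd 1588, .fwd 2713],
   .loop (some (8, 2)) [.bwd 2733, .bwd 2743, .bwd 2125],
   .loop (some (5, 2)) [.bwd 2336, .bwd 1589, .fwd 2733],
   .loop (some (8, 2)) [.bwd 2336, .bwd 2343, .fwd 2024],
   .loop (some (10, 2)) [.fwd 2727, .fwd 1588, .fwd 1589, .bwd 2343, .bwd 2032],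
   .loop none [.bwd 2899],
   .loop none [.fwd 2748, .bwd 2900],
   .loop none [.fwd 2832, .bwd 2900],
   .loop none [.bwd 2777, .fwd 2900, .fwd 2880],
   .loop none [.fwd 2903],
   .loop none [.fwd 2872, .bwd 2900],
   .loop none [.fwd 2031, .fwd 2900, .fwd 2882],
   .loop none [.fwd 2906],
   .loop none [.bwd 2727, .bwd 2900],
   .loop none [.fwd 2819, .fwd 2900, .bwd 2878],
   .loop none [.fwd 2909],
   .loop none [.bwd 2881, .bwd 2904],
   .loop none [.bwd 2883, .bwd 2907],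
   .loop none [.fwd 2877, .bwd 2910],
   .loop (some (5, 1)) [.fwd 1826, .bwd 1597, .bwd 1811],
   .loop (some (4, 1)) [.fwd 2700, .fwd 2172, .bwd 1826],
   .define,
   .define,
   .define,
   .loop (some (11, 4)) [.bwd 2134, .bwd 2125, .fwd 2916, .fwd 2917, .fwd 2918],
   .loop (some (9, 2)) [.bwd 2134, .bwd 2129, .fwd 2891],
   .loop (some (5, 2)) [.fwd 2125, .bwd 1627, .fwd 2091],
   .define,
   .loop (some (8, 2)) [.fwd 2125, .bwd 2129, .fwd 2922],
   .loop (some (1, 2)) [.bwd 2134, .bwd 2585, .fwd 2441],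
   .loop (some (6, 1)) [.fwd 2510, .fwd 2585, .bwd 2129],
   .loop (some (14, 5)) [.bwd 2905, .bwd 2031, .fwd 2787, .bwd 1628, .fwd 2134, .fwd 2177, .bwd 2763, .bwd 2699, .fwd 2341],
   .loop none [.bwd 2926],
   .loop none [.fwd 2711, .bwd 2927],
   .loop none [.fwd 2828, .bwd 2927],
   .loop none [.bwd 2693, .fwd 2927, .fwd 2873],
   .loop none [.fwd 2930],
   .loop none [.fwd 2905, .bwd 2927],
   .loop none [.fwd 2341, .fwd 2927, .fwd 2875],
   .loop none [.fwd 2933],
   .loop none [.bwd 2712, .bwd 2927],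
   .loop none [.bwd 2874, .bwd 2931],
   .loop none [.bwd 2876, .bwd 2934],
   .loop (some (5, 2)) [.bwd 2049, .bwd 1628, .bwd 2125],
   .loop (some (8, 2)) [.bwd 2049, .bwd 2200, .fwd 2199],
   .loop (some (3, 1)) [.fwd 2565, .fwd 2446, .bwd 2787],
   .define,
   .define,
   .define,
   .loop (some (11, 4)) [.bwd 2441, .bwd 2482, .fwd 2941, .fwd 2942, .fwd 2943],
   .loop (some (9, 2)) [.bwd 2441, .bwd 2510, .bwd 2297],
   .loop (some (5, 2)) [.fwd 2482, .bwd 1633, .fwd 2434],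
   .define,
   .loop (some (8, 2)) [.fwd 2482, .bwd 2510, .fwd 2947],
   .loop (some (14, 5)) [.bwd 2752, .bwd 1962, .fwd 2565, .bwd 1634, .fwd 2441, .fwd 2442, .bwd 2613, .fwd 2590, .fwd 2432],
   .loop none [.bwd 2949],
   .loop none [.fwd 2928, .bwd 2950],
   .loop none [.fwd 2626, .bwd 2950],
   .loop none [.bwd 2616, .fwd 2950, .fwd 2706],
   .loop none [.fwd 2953],
   .loop none [.fwd 2752, .bwd 2950],
   .loop none [.fwd 2432, .fwd 2950, .fwd 2709],
   .loop none [.fwd 2956],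
   .loop none [.bwd 2627, .bwd 2950],
   .loop none [.bwd 2707, .bwd 2954],
   .loop none [.bwd 2710, .bwd 2957],
   .loop (some (5, 2)) [.bwd 2230, .bwd 1634, .bwd 2482],
   .loop (some (8, 2)) [.bwd 2230, .bwd 2429, .fwd 2416],
   .loop (some (7, 2)) [.bwd 2529, .bwd 2397, .fwd 1827],
   .loop (some (4, 2)) [.bwd 2029, .fwd 2019, .fwd 2020, .bwd 2738],
   .loop none [.fwd 2964],
   .loop none [.bwd 2738, .bwd 2965],
   .loop none [.fwd 2737, .bwd 2965],
   .define,
   .define,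
   .define,
   .define,
   .loop (some (13, 6)) [.fwd 2944, .fwd 2522, .fwd 2144, .bwd 2467, .fwd 2968, .fwd 2969, .fwd 2970, .fwd 2971],
   .loop (some (4, 1)) [.bwd 2442, .fwd 2522, .fwd 1699],
   .loop (some (3, 1)) [.bwd 1810, .bwd 2144, .fwd 1699],
   .define,
   .define,
   .define,
   .define,
   .loop (some (13, 7)) [.bwd 2973, .fwd 2974, .fwd 2914, .fwd 2915, .fwd 2975, .fwd 2976, .fwd 2977, .fwd 2978],
   .loop (some (7, 2)) [.bwd 2973, .bwd 2326, .fwd 2973],
   .loop (some (9, 2)) [.bwd 2306, .bwd 2326, .fwd 2306],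
   .loop (some (5, 2)) [.bwd 1709, .bwd 1988, .fwd 2621],
   .loop (some (8, 2)) [.bwd 1709, .bwd 1830, .fwd 2312],
   .loop (some (13, 0)) [.fwd 1735, .fwd 1736, .bwd 840, .bwd 1488, .fwd 1497, .bwd 1712, .bwd 1711, .bwd 1710],
   .loop (some (4, 2)) [.bwd 1710, .bwd 2982, .fwd 2622],
   .loop (some (7, 2)) [.bwd 1710, .bwd 2983, .fwd 2328],
   .define,
   .loop (some (0, 1)) [.fwd 2983, .fwd 2987],
   .loop (some (2, 1)) [.bwd 2194, .bwd 1999, .fwd 1710],
   .loop (some (5, 0)) [.fwd 2887, .fwd 1828, .fwd 1709],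
   .loop (some (1, 2)) [.bwd 1999, .fwd 2984, .fwd 1905],
   .define,
   .define,
   .loop (some (10, 3)) [.bwd 2990, .bwd 2983, .fwd 2992, .fwd 2993],
   .define,
   .loop (some (6, 2)) [.bwd 2984, .bwd 2983, .fwd 2995],
   .define,
   .loop (some (3, 2)) [.bwd 2984, .bwd 2982, .fwd 2997],
   .define]

theorem just11_len : just11.length = 250 := by decide +kernel

theorem just11_ok : cert.okFacts 2750 just11 = true := by decide +kernel


end CfsgLib.ThCent.KL
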