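import Cfsg.Agent.Lib.ThCent.KLData

/-!
Justifications of the side facts (generated data).
-/

namespace CfsgLib.ThCent.KL

open CfsgLib.PresCert

set_option maxRecDepth 100000

/-- justifications -/
noncomputable def just12 : List Cert.Just :=
  [.loop (some (14, 7)) [.fwd 2982, .fwd 1999, .bwd 2809, .bwd 2050, .bwd 2938, .bwd 2921, .bwd 2175, .fwd 2999],
   .define,
   .loop (some (12, 3)) [.fwd 2999, .fwd 3000, .fwd 2982, .fwd 2990, .bwd 2994, .fwd 3001],
   .loop (some (13, 0)) [.bwd 1733, .bwd 1770, .bwd 1578, .fwd 1572, .fwd 891, .fwd 1708, .fwd 1709, .fwd 1710],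
   .define,
   .loop (some (9, 2)) [.bwd 2989, .bwd 2986, .fwd 3004],
   .define,
   .loop (some (0, 1)) [.fwd 2986, .fwd 3006],
   .define,
   .loop (some (5, 1)) [.fwd 2655, .bwd 1711, .fwd 3008],
   .define,
   .loop (some (1, 2)) [.bwd 2989, .fwd 3003, .fwd 3010],
   .define,
   .define,
   .loop (some (10, 3)) [.bwd 3008, .bwd 2986, .fwd 3012, .fwd 3013],
   .define,
   .loop (some (6, 2)) [.bwd 3003, .bwd 2986, .fwd 3015],
   .define,
   .loop (some (3, 2)) [.bwd 3003, .bwd 2985, .fwd 3017],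
   .define,
   .define,
   .define,
   .define,
   .define,
   .define,
   .loop (some (14, 7)) [.fwd 2985, .fwd 2989, .fwd 3019, .fwd 3020, .fwd 3021, .fwd 3022, .fwd 3023, .fwd 3024],
   .define,
   .loop (some (12, 3)) [.fwd 3024, .fwd 3025, .fwd 2985, .fwd 3008, .bwd 3014, .fwd 3026],
   .loop (some (13, 0)) [.fwd 1733, .fwd 1734, .fwd 1735, .fwd 1736, .bwd 840, .bwd 1488, .fwd 1497, .bwd 1712],
   .loop (some (9, 1)) [.fwd 2656, .fwd 2659, .bwd 2656],
   .define,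
   .loop (some (0, 1)) [.fwd 2656, .fwd 3030],
   .loop (some (5, 0)) [.bwd 2623, .fwd 2985, .fwd 1711],
   .define,
   .define,
   .loop (some (10, 3)) [.bwd 3032, .bwd 2656, .fwd 3033, .fwd 3034],
   .loop (some (6, 1)) [.fwd 2837, .bwd 3028, .bwd 2656],
   .loop (some (3, 1)) [.fwd 2836, .bwd 3028, .bwd 2655],
   .define,
   .define,
   .define,
   .define,
   .define,
   .loop (some (14, 7)) [.fwd 2655, .bwd 2659, .bwd 2655, .fwd 3038, .fwd 3039, .fwd 3040, .fwd 3041, .fwd 3042],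
   .define,
   .loop (some (12, 3)) [.fwd 3042, .fwd 3043, .fwd 2655, .fwd 3032, .bwd 3035, .fwd 3044],
   .loop (some (13, 4)) [.fwd 3009, .bwd 2654, .bwd 2616, .fwd 2952, .bwd 2827, .fwd 1817, .fwd 1827, .bwd 2887],
   .loop (some (7, 1)) [.fwd 2960, .fwd 2952, .bwd 2629],
   .loop (some (6, 1)) [.fwd 2830, .fwd 2827, .bwd 2629],
   .define,
   .loop (some (13, 6)) [.fwd 2732, .bwd 1737, .fwd 1750, .bwd 1817, .bwd 2929, .fwd 2693, .fwd 2835, .fwd 3049],
   .define,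
   .define,
   .define,
   .loop (some (13, 7)) [.bwd 3047, .fwd 3048, .fwd 2467, .bwd 2135, .bwd 2919, .fwd 3051, .fwd 3052, .fwd 3053],
   .define,
   .define,
   .define,
   .define,
   .define,
   .loop (some (13, 7)) [.bwd 2771, .fwd 2772, .bwd 2914, .fwd 3055, .fwd 3056, .fwd 3057, .fwd 3058, .fwd 3059],
   .loop (some (7, 2)) [.bwd 2771, .bwd 2981, .fwd 2771],
   .loop (some (6, 2)) [.bwd 2772, .bwd 2981, .fwd 2772],
   .loop (some (9, 1)) [.fwd 2837, .fwd 2840, .bwd 2837],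
   .define,
   .loop (some (0, 1)) [.fwd 2837, .fwd 3064],
   .define,
   .loop (some (5, 1)) [.fwd 3018, .bwd 1733, .fwd 3066],
   .loop (some (8, 2)) [.fwd 3016, .bwd 1733, .bwd 2837, .fwd 2322],
   .loop none [.bwd 3068],
   .loop none [.fwd 3015, .bwd 3069],
   .loop none [.bwd 3016, .bwd 3069],
   .define,
   .define,
   .loop (some (10, 3)) [.bwd 3066, .bwd 2837, .fwd 3072, .fwd 3073],
   .define,
   .define,
   .define,
   .define,
   .define,
   .loop (some (14, 7)) [.fwd 2836, .bwd 2840, .bwd 2836, .fwd 3075, .fwd 3076, .fwd 3077, .fwd 3078, .fwd 3079],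
   .define,
   .loop (some (12, 3)) [.fwd 3079, .fwd 3080, .fwd 2836, .fwd 3066, .bwd 3074, .fwd 3081],
   .loop (some (4, 1)) [.fwd 2998, .bwd 1734, .bwd 3018],
   .loop (some (7, 2)) [.fwd 2996, .bwd 1734, .bwd 3071, .fwd 2323],
   .loop none [.bwd 3084],
   .loop none [.fwd 2995, .bwd 3085],
   .loop none [.bwd 2996, .bwd 3085],
   .define,
   .loop (some (9, 2)) [.bwd 3010, .bwd 3071, .fwd 3088],
   .define,
   .loop (some (0, 1)) [.fwd 3071, .fwd 3090],
   .loop (some (2, 3)) [.bwd 3010, .fwd 1734, .fwd 1905, .fwd 2471],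
   .loop none [.bwd 3092],
   .loop none [.bwd 3011, .bwd 3093],
   .loop none [.fwd 3010, .bwd 3093],
   .loop none [.fwd 3089, .bwd 3093],
   .loop (some (5, 0)) [.bwd 3049, .fwd 2836, .fwd 1733],
   .define,
   .define,
   .loop (some (10, 3)) [.bwd 3097, .bwd 3071, .fwd 3098, .fwd 3099],
   .define,
   .define,
   .define,
   .define,
   .define,
   .define,
   .loop (some (14, 7)) [.fwd 3018, .bwd 3095, .fwd 3101, .fwd 3102, .fwd 3103, .fwd 3104, .fwd 3105, .fwd 3106],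
   .define,
   .loop (some (12, 3)) [.fwd 3106, .fwd 3107, .fwd 3018, .fwd 3097, .bwd 3100, .fwd 3108],
   .define,
   .loop (some (0, 1)) [.fwd 3087, .fwd 3110],
   .loop (some (5, 0)) [.fwd 2732, .fwd 1738, .bwd 1735],
   .define,
   .define,
   .loop (some (10, 3)) [.bwd 3112, .bwd 3087, .fwd 3113, .fwd 3114],
   .define,
   .loop (some (14, 7)) [.fwd 2998, .fwd 1905, .bwd 2593, .bwd 2450, .bwd 2961, .bwd 2946, .bwd 2440, .fwd 3116],
   .define,
   .loop (some (12, 3)) [.fwd 3116, .fwd 3117, .fwd 2998, .fwd 3112, .bwd 3115, .fwd 3118],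
   .loop (some (5, 2)) [.fwd 2998, .fwd 1735, .fwd 1890, .bwd 2372],
   .loop none [.bwd 3120],
   .loop none [.fwd 2997, .bwd 3121],
   .loop none [.fwd 2371, .fwd 3121, .bwd 3083],
   .loop none [.fwd 3123],
   .loop none [.bwd 2998, .bwd 3121],
   .loop none [.fwd 3117, .bwd 3121],
   .loop none [.fwd 3017, .bwd 3124],
   .loop none [.fwd 2370, .fwd 3124, .bwd 3067],
   .loop none [.fwd 3128],
   .loop none [.bwd 3018, .bwd 3124],
   .loop none [.fwd 3107, .bwd 3124],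
   .loop none [.fwd 3074, .bwd 3129],
   .loop none [.fwd 3066, .bwd 3129],
   .loop (some (8, 2)) [.fwd 2732, .bwd 2739, .bwd 2944],
   .loop (some (5, 3)) [.bwd 2286, .bwd 2445, .fwd 2439, .fwd 3116],
   .loop none [.fwd 3135],
   .loop none [.bwd 3113, .fwd 3136, .bwd 3126],
   .loop none [.bwd 3137],
   .loop none [.fwd 3116, .bwd 3136],
   .loop none [.fwd 3113, .bwd 3138],
   .loop none [.bwd 3114, .bwd 3138],
   .loop (some (8, 2)) [.fwd 3111, .bwd 2286, .bwd 2294, .fwd 2439],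
   .loop none [.bwd 3142],
   .loop none [.bwd 3111, .bwd 3143],
   .loop none [.fwd 3110, .bwd 3143],
   .loop (some (3, 1)) [.bwd 2014, .fwd 2295, .fwd 1928],
   .loop (some (4, 2)) [.bwd 2177, .fwd 2135, .fwd 1810, .fwd 3055],
   .loop none [.fwd 3147],
   .loop none [.fwd 3055, .bwd 3148],
   .loop none [.bwd 3056, .bwd 3148],
   .loop (some (7, 2)) [.fwd 3149, .bwd 2530, .bwd 3149],
   .loop (some (7, 2)) [.fwd 2937, .fwd 2929, .bwd 2830, .fwd 2968],
   .loop none [.fwd 3152],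
   .loop none [.fwd 2968, .bwd 3153],
   .loop none [.bwd 2969, .bwd 3153],
   .loop (some (7, 2)) [.bwd 2915, .bwd 3062, .fwd 2915],
   .loop (some (8, 2)) [.fwd 2887, .bwd 2888, .bwd 2919],
   .loop (some (5, 3)) [.bwd 2312, .bwd 2353, .fwd 2174, .fwd 2999],
   .loop none [.fwd 3158],
   .loop none [.bwd 2992, .fwd 3159, .fwd 3000],
   .loop none [.bwd 3160],
   .loop none [.fwd 2999, .bwd 3159],
   .loop none [.fwd 2992, .bwd 3161],
   .loop none [.bwd 2993, .bwd 3161],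
   .loop (some (8, 2)) [.fwd 2988, .bwd 2312, .bwd 2317, .fwd 2174],
   .loop none [.bwd 3165],
   .loop none [.bwd 2988, .bwd 3166],
   .loop none [.fwd 2987, .bwd 3166],
   .define,
   .define,
   .loop (some (11, 3)) [.bwd 2947, .bwd 2297, .bwd 2372, .fwd 3169, .fwd 3170],
   .loop (some (8, 2)) [.fwd 2372, .bwd 2394, .bwd 2732],
   .loop (some (4, 2)) [.bwd 3101, .bwd 2471, .bwd 2593, .bwd 2458],
   .loop none [.bwd 3173],
   .loop none [.bwd 3102, .bwd 3174],
   .loop none [.fwd 3101, .bwd 3174],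
   .loop (some (7, 2)) [.bwd 3096, .bwd 2471, .bwd 2594, .fwd 2261],
   .loop none [.bwd 3177],
   .loop none [.fwd 3088, .bwd 3178],
   .loop none [.fwd 3096, .bwd 3178],
   .loop (some (0, 1)) [.fwd 2594, .fwd 2584],
   .define,
   .loop (some (10, 3)) [.bwd 2606, .bwd 2594, .fwd 2721, .fwd 3182],
   .loop (some (6, 1)) [.fwd 2810, .bwd 2991, .bwd 2594],
   .loop (some (3, 1)) [.fwd 2809, .bwd 2991, .bwd 2593],
   .define,
   .define,
   .define,
   .loop (some (14, 6)) [.fwd 2586, .fwd 2593, .bwd 1905, .bwd 3125, .fwd 3169, .fwd 3186, .fwd 3187, .fwd 3188],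
   .define,
   .loop (some (12, 3)) [.fwd 3189, .fwd 2586, .fwd 2593, .fwd 2606, .bwd 3183, .fwd 3190],
   .define,
   .loop (some (5, 2)) [.bwd 2269, .bwd 2455, .fwd 3192],
   .loop (some (10, 3)) [.fwd 2566, .fwd 2455, .fwd 2271, .bwd 1448, .fwd 2573],
   .loop none [.fwd 3194],
   .loop none [.bwd 2574, .bwd 3195],
   .loop none [.fwd 2573, .bwd 3195],
   .loop (some (5, 2)) [.fwd 1944, .bwd 2423, .fwd 2415],
   .loop (some (8, 2)) [.fwd 1944, .bwd 1949, .fwd 2230],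
   .loop (some (3, 1)) [.bwd 2029, .fwd 1953, .fwd 1960],
   .loop (some (4, 2)) [.bwd 2566, .bwd 2403, .fwd 2246, .fwd 2632],
   .loop none [.fwd 3201],
   .loop none [.fwd 2632, .bwd 3202],
   .loop none [.bwd 3192, .fwd 3202, .fwd 2633],
   .loop none [.bwd 3204],
   .loop none [.fwd 3192, .bwd 3205],
   .loop none [.bwd 3193, .bwd 3205],
   .loop (some (3, 1)) [.bwd 2169, .bwd 2405, .fwd 2246],
   .define,
   .define,
   .define,
   .loop (some (13, 7)) [.fwd 2562, .fwd 2235, .bwd 2545, .bwd 2749, .fwd 2554, .fwd 3209, .fwd 3210, .fwd 3211],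
   .loop (some (13, 0)) [.bwd 2024, .bwd 2036, .fwd 1111, .bwd 2229, .fwd 2230, .bwd 2220, .bwd 2219, .bwd 2218],
   .loop (some (4, 2)) [.bwd 2218, .bwd 2555, .fwd 3209],
   .loop (some (7, 2)) [.bwd 2218, .bwd 2556, .bwd 2458],
   .loop (some (2, 1)) [.fwd 2402, .bwd 1943, .fwd 2218],
   .loop (some (1, 2)) [.bwd 1943, .fwd 3213, .fwd 2025],
   .loop (some (3, 1)) [.fwd 2778, .bwd 3213, .bwd 2555],
   .define,
   .loop (some (14, 7)) [.fwd 2555, .fwd 1943, .bwd 3198, .bwd 2417, .bwd 2606, .bwd 2593, .bwd 2450, .fwd 3219],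
   .loop (some (4, 2)) [.fwd 2402, .bwd 3198, .fwd 2400],
   .loop (some (7, 2)) [.fwd 2402, .bwd 3199, .bwd 2220],
   .loop (some (5, 0)) [.bwd 2647, .bwd 1960, .bwd 1944],
   .define,
   .loop (some (10, 3)) [.bwd 3223, .bwd 3199, .fwd 3219, .fwd 3224],
   .define,
   .loop (some (6, 2)) [.fwd 3217, .bwd 3199, .fwd 3226],
   .define,
   .loop (some (3, 2)) [.fwd 3217, .bwd 3198, .fwd 3228],
   .define,
   .define,
   .loop (some (14, 4)) [.fwd 2704, .fwd 2740, .fwd 2744, .fwd 3198, .bwd 1943, .bwd 2555, .fwd 3230, .fwd 3231],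
   .loop (some (12, 2)) [.fwd 3207, .fwd 2721, .fwd 2740, .fwd 2744, .fwd 3198, .fwd 3223, .bwd 3225],
   .loop none [.fwd 3233],
   .loop none [.bwd 3225, .bwd 3234],
   .loop none [.fwd 3224, .bwd 3234],
   .loop (some (5, 2)) [.fwd 3229, .fwd 2026, .bwd 2349, .fwd 2336],
   .loop none [.bwd 3237],
   .loop none [.fwd 3228, .bwd 3238],
   .loop none [.bwd 3229, .bwd 3238],
   .loop (some (8, 2)) [.fwd 3227, .fwd 2026, .bwd 2027, .fwd 2049],
   .loop none [.bwd 3241],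
   .loop none [.fwd 3226, .bwd 3242],
   .loop none [.bwd 3227, .bwd 3242],
   .define,
   .define,
   .loop (some (11, 3)) [.fwd 3212, .bwd 1961, .fwd 2647, .fwd 3245, .fwd 3246],
   .loop (some (8, 2)) [.bwd 2647, .fwd 3197, .fwd 2544],
   .loop (some (6, 3)) [.bwd 3200, .fwd 3197, .fwd 2558, .fwd 2795]]

theorem just12_len : just12.length = 250 := by decide +kernel

theorem just12_ok : cert.okFacts 3000 just12 = true := by decide +kernel

/-- justifications -/
noncomputable def just13 : List Cert.Just :=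
  [.loop none [.fwd 3249],
   .loop none [.bwd 2796, .bwd 3250],
   .loop none [.fwd 2795, .bwd 3250],
   .loop (some (3, 1)) [.bwd 2788, .bwd 3200, .fwd 2566],
   .define,
   .define,
   .define,
   .loop (some (13, 4)) [.bwd 2777, .fwd 2902, .bwd 2237, .bwd 2562, .bwd 2940, .fwd 3254, .fwd 3255, .fwd 3256],
   .loop (some (5, 3)) [.fwd 3212, .fwd 2565, .fwd 2230, .fwd 3219],
   .loop none [.fwd 3258],
   .loop none [.bwd 3220, .bwd 3259],
   .loop none [.fwd 3219, .bwd 3259],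
   .loop none [.fwd 3236, .bwd 3259],
   .loop (some (8, 2)) [.fwd 3212, .bwd 2557, .bwd 2570],
   .loop (some (11, 2)) [.bwd 2668, .bwd 2616, .fwd 2955, .fwd 2554, .fwd 3230],
   .define,
   .loop (some (8, 2)) [.bwd 2554, .bwd 2603, .fwd 3265],
   .define,
   .define,
   .define,
   .loop (some (13, 5)) [.bwd 2462, .bwd 2141, .bwd 2550, .bwd 2578, .bwd 2792, .fwd 3267, .fwd 3268, .fwd 3269],
   .loop (some (5, 2)) [.fwd 3189, .fwd 2570, .bwd 2298, .fwd 2947],
   .loop none [.bwd 3271],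
   .loop none [.fwd 3171, .fwd 3272, .bwd 3188],
   .loop none [.fwd 3273],
   .loop none [.bwd 3189, .bwd 3272],
   .loop none [.fwd 3191, .bwd 3272],
   .loop none [.fwd 3187, .bwd 3274],
   .loop (some (8, 2)) [.fwd 2570, .bwd 2598, .bwd 3206],
   .define,
   .define,
   .loop (some (13, 6)) [.fwd 2570, .fwd 2550, .bwd 2551, .fwd 2185, .fwd 2475, .fwd 3265, .fwd 3279, .fwd 3280],
   .define,
   .define,
   .loop (some (11, 3)) [.bwd 2922, .fwd 2891, .fwd 2621, .fwd 3282, .fwd 3283],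
   .loop (some (8, 2)) [.bwd 2621, .bwd 2963, .bwd 2887],
   .loop (some (4, 2)) [.bwd 3019, .bwd 2194, .bwd 2809, .bwd 2182],
   .loop none [.bwd 3286],
   .loop none [.bwd 3020, .bwd 3287],
   .loop none [.fwd 3019, .bwd 3287],
   .loop (some (7, 2)) [.fwd 3005, .bwd 2194, .bwd 2810, .fwd 2249],
   .loop none [.bwd 3290],
   .loop none [.fwd 3004, .bwd 3291],
   .loop none [.bwd 3005, .bwd 3291],
   .loop (some (0, 1)) [.fwd 2810, .fwd 2803],
   .define,
   .loop (some (10, 3)) [.bwd 2822, .bwd 2810, .fwd 2879, .fwd 3295],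
   .define,
   .define,
   .define,
   .loop (some (14, 6)) [.fwd 2804, .fwd 2809, .bwd 1999, .bwd 2982, .fwd 3282, .fwd 3297, .fwd 3298, .fwd 3299],
   .define,
   .loop (some (12, 3)) [.fwd 3300, .fwd 2804, .fwd 2809, .fwd 2822, .bwd 3296, .fwd 3301],
   .define,
   .loop (some (5, 2)) [.bwd 2248, .bwd 2449, .fwd 3303],
   .loop (some (4, 2)) [.bwd 2788, .fwd 2966, .fwd 2169, .bwd 2718],
   .loop none [.fwd 3305],
   .loop none [.bwd 2718, .bwd 3306],
   .loop none [.bwd 3303, .fwd 3306, .bwd 2717],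
   .loop none [.bwd 3308],
   .loop none [.fwd 3303, .bwd 3309],
   .loop none [.bwd 3304, .bwd 3309],
   .loop (some (4, 2)) [.bwd 2151, .bwd 2778, .bwd 3257],
   .loop (some (7, 2)) [.bwd 2151, .bwd 2779, .bwd 2182],
   .loop (some (2, 1)) [.bwd 2406, .bwd 2025, .fwd 2151],
   .define,
   .loop (some (14, 7)) [.fwd 2778, .fwd 2025, .bwd 3240, .fwd 2337, .bwd 2822, .bwd 2809, .bwd 2050, .fwd 3315],
   .loop (some (4, 2)) [.bwd 2406, .bwd 3240, .bwd 2408],
   .loop (some (7, 2)) [.bwd 2406, .bwd 3244, .bwd 2153],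
   .loop (some (5, 0)) [.bwd 2967, .bwd 2029, .bwd 2026],
   .define,
   .loop (some (10, 3)) [.bwd 3319, .bwd 3244, .fwd 3315, .fwd 3320],
   .define,
   .define,
   .loop (some (14, 4)) [.fwd 2871, .fwd 2895, .fwd 2897, .fwd 3240, .bwd 2025, .bwd 2778, .fwd 3322, .fwd 3323],
   .loop (some (12, 2)) [.fwd 3311, .fwd 2879, .fwd 2895, .fwd 2897, .fwd 3240, .fwd 3319, .bwd 3321],
   .loop none [.fwd 3325],
   .loop none [.bwd 3321, .bwd 3326],
   .loop none [.fwd 3320, .bwd 3326],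
   .define,
   .define,
   .loop (some (11, 3)) [.bwd 3254, .bwd 2030, .fwd 2967, .fwd 3329, .fwd 3330],
   .loop (some (8, 2)) [.bwd 2967, .fwd 3252, .fwd 2214],
   .loop (some (5, 3)) [.bwd 3254, .fwd 2787, .fwd 2049, .fwd 3315],
   .loop none [.fwd 3333],
   .loop none [.bwd 3316, .bwd 3334],
   .loop none [.fwd 3315, .bwd 3334],
   .loop none [.fwd 3328, .bwd 3334],
   .loop (some (8, 2)) [.bwd 3254, .bwd 2780, .bwd 2792],
   .loop (some (11, 2)) [.bwd 2845, .bwd 2693, .fwd 2932, .fwd 2777, .fwd 3322],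
   .loop (some (8, 2)) [.bwd 2777, .bwd 2819, .bwd 3270],
   .loop (some (5, 2)) [.fwd 3300, .fwd 2792, .bwd 2893, .fwd 2922],
   .loop none [.bwd 3341],
   .loop none [.fwd 3284, .fwd 3342, .bwd 3299],
   .loop none [.fwd 3343],
   .loop none [.bwd 3300, .bwd 3342],
   .loop none [.fwd 3302, .bwd 3342],
   .loop none [.fwd 3298, .bwd 3344],
   .loop (some (8, 2)) [.fwd 2792, .bwd 2814, .bwd 3310],
   .loop (some (4, 2)) [.fwd 2153, .bwd 2938, .bwd 2124],
   .loop (some (7, 2)) [.fwd 2153, .bwd 2939, .fwd 2180],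
   .loop (some (2, 1)) [.bwd 3288, .fwd 2182, .bwd 2050, .bwd 2153],
   .loop none [.bwd 3351],
   .loop none [.fwd 3288, .bwd 3352],
   .loop none [.fwd 3349, .fwd 3352, .fwd 3021],
   .loop none [.fwd 3354],
   .loop none [.bwd 3022, .bwd 3355],
   .loop (some (10, 2)) [.fwd 3340, .bwd 3335, .fwd 3336, .bwd 2939, .bwd 3296],
   .loop none [.fwd 3357],
   .loop none [.bwd 3301, .bwd 3358],
   .loop none [.bwd 3296, .bwd 3358],
   .loop none [.fwd 3295, .bwd 3358],
   .loop (some (6, 1)) [.fwd 2962, .bwd 3243, .bwd 2939],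
   .loop (some (3, 1)) [.fwd 2961, .bwd 3243, .bwd 2938],
   .define,
   .loop (some (14, 4)) [.bwd 2789, .fwd 2802, .fwd 2921, .fwd 2938, .fwd 2050, .bwd 2804, .bwd 2791, .fwd 3364],
   .loop (some (4, 2)) [.fwd 2182, .bwd 2804, .fwd 3267],
   .loop (some (7, 2)) [.fwd 2182, .bwd 2805, .bwd 2408],
   .loop (some (3, 1)) [.fwd 2586, .fwd 3185, .bwd 2804],
   .define,
   .define,
   .loop (some (14, 5)) [.bwd 3346, .fwd 3345, .fwd 2804, .bwd 2050, .bwd 2938, .fwd 2916, .fwd 3369, .fwd 3370],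
   .loop (some (5, 2)) [.fwd 3002, .bwd 2174, .bwd 2178, .fwd 3150],
   .loop none [.fwd 3372],
   .loop none [.bwd 3057, .bwd 3373],
   .loop none [.fwd 3150, .bwd 3373],
   .define,
   .define,
   .loop (some (13, 6)) [.bwd 2922, .bwd 2500, .fwd 2499, .bwd 2515, .fwd 2773, .fwd 2798, .fwd 3376, .fwd 3377],
   .loop (some (13, 0)) [.bwd 2434, .fwd 1694, .bwd 1329, .bwd 1808, .fwd 2091, .fwd 2092, .fwd 2093, .bwd 2092],
   .loop (some (4, 2)) [.bwd 2092, .bwd 2802, .fwd 2122],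
   .loop (some (7, 2)) [.bwd 2092, .bwd 2803, .fwd 2194],
   .loop (some (2, 1)) [.bwd 2768, .fwd 2175, .fwd 2092],
   .loop (some (1, 2)) [.fwd 2175, .fwd 3379, .bwd 2440],
   .loop (some (3, 1)) [.fwd 2583, .bwd 3379, .bwd 2802],
   .define,
   .define,
   .loop (some (14, 4)) [.bwd 3322, .fwd 2778, .fwd 2797, .fwd 2802, .bwd 2175, .bwd 3002, .fwd 3385, .fwd 3386],
   .loop (some (11, 3)) [.bwd 2769, .bwd 3382, .bwd 2093, .fwd 3382, .fwd 2769],
   .loop (some (13, 0)) [.fwd 2436, .bwd 2435, .bwd 2434, .fwd 1694, .bwd 1329, .bwd 1808, .fwd 2091, .fwd 2092],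
   .loop (some (9, 3)) [.bwd 3382, .bwd 3381, .bwd 2989, .fwd 3006],
   .loop none [.fwd 3390],
   .loop none [.bwd 3007, .bwd 3391],
   .loop none [.fwd 3006, .bwd 3391],
   .loop (some (0, 0)) [.fwd 3293, .fwd 3381],
   .loop (some (5, 0)) [.bwd 3356, .bwd 2123, .fwd 3380, .fwd 2093],
   .loop none [.bwd 3395],
   .loop none [.bwd 3382, .fwd 3396, .fwd 3023],
   .loop none [.fwd 3397],
   .loop none [.fwd 3356, .bwd 3396],
   .loop none [.bwd 3024, .bwd 3398],
   .loop none [.fwd 3027, .bwd 3398],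
   .define,
   .loop (some (1, 2)) [.bwd 3382, .fwd 3389, .fwd 3402],
   .loop (some (10, 1)) [.fwd 3350, .bwd 3349, .bwd 3399, .bwd 3381],
   .loop (some (6, 2)) [.bwd 3389, .bwd 3381, .bwd 3094],
   .define,
   .loop (some (3, 2)) [.bwd 3389, .bwd 3380, .fwd 3406],
   .define,
   .define,
   .define,
   .define,
   .define,
   .loop (some (14, 7)) [.fwd 3380, .fwd 3382, .fwd 3401, .fwd 3408, .fwd 3409, .fwd 3410, .fwd 3411, .fwd 3412],
   .define,
   .loop (some (12, 3)) [.fwd 3412, .fwd 3413, .fwd 3380, .fwd 3399, .fwd 3349, .fwd 3414],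
   .loop (some (4, 2)) [.fwd 3413, .bwd 2122, .bwd 2797, .fwd 2151],
   .loop none [.bwd 3416],
   .loop none [.bwd 3413, .bwd 3417],
   .loop none [.fwd 3312, .fwd 3417, .bwd 3412],
   .loop none [.fwd 3419],
   .loop none [.fwd 3411, .bwd 3420],
   .loop none [.fwd 3415, .bwd 3420],
   .loop (some (7, 2)) [.bwd 2122, .bwd 2799, .fwd 3376],
   .define,
   .loop (some (9, 2)) [.bwd 2789, .bwd 2799, .fwd 3424],
   .loop (some (0, 1)) [.fwd 2799, .fwd 3332],
   .define,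
   .loop (some (2, 2)) [.bwd 2789, .fwd 2122, .fwd 3427],
   .loop (some (1, 2)) [.bwd 2789, .fwd 3384, .fwd 2567],
   .loop (some (10, 1)) [.bwd 3346, .fwd 2923, .bwd 2921, .bwd 2802, .bwd 2799],
   .loop none [.bwd 3430],
   .loop none [.bwd 3424, .fwd 3431, .bwd 3371],
   .loop none [.bwd 3432],
   .loop none [.fwd 3346, .bwd 3431],
   .loop none [.fwd 3359, .bwd 3431],
   .loop none [.fwd 3424, .bwd 3433],
   .loop none [.bwd 3425, .bwd 3433],
   .loop (some (6, 1)) [.fwd 2577, .bwd 3384, .bwd 2799],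
   .define,
   .define,
   .define,
   .loop (some (14, 4)) [.fwd 3331, .fwd 3335, .fwd 2778, .fwd 2797, .fwd 2789, .fwd 3439, .fwd 3440, .fwd 3441],
   .define,
   .define,
   .define,
   .loop (some (11, 4)) [.bwd 3427, .fwd 2123, .fwd 3443, .fwd 3444, .fwd 3445],
   .loop (some (13, 1)) [.fwd 2480, .fwd 2481, .fwd 2482, .bwd 2437, .bwd 2096, .bwd 2213, .fwd 2214, .fwd 2122, .fwd 3406],
   .loop none [.fwd 3447],
   .loop none [.fwd 3406, .bwd 3448],
   .loop none [.bwd 3407, .bwd 3448],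
   .define,
   .loop (some (9, 2)) [.bwd 3427, .bwd 3423, .fwd 3451],
   .define,
   .loop (some (0, 1)) [.fwd 3423, .fwd 3453],
   .loop (some (8, 2)) [.bwd 2123, .bwd 3423, .fwd 3377],
   .define,
   .loop (some (1, 2)) [.bwd 3427, .bwd 3449, .fwd 3456],
   .loop (some (10, 1)) [.fwd 3455, .bwd 3399, .bwd 3380, .bwd 3423],
   .define,
   .loop (some (6, 2)) [.fwd 3449, .bwd 3423, .fwd 3459],
   .define,
   .loop (some (3, 2)) [.fwd 3449, .bwd 3418, .fwd 3461],
   .define,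
   .define,
   .define,
   .define,
   .loop (some (14, 5)) [.bwd 3422, .fwd 3312, .fwd 3418, .fwd 3427, .fwd 3463, .fwd 3464, .fwd 3465, .fwd 3466],
   .loop (some (13, 0)) [.bwd 2480, .bwd 2479, .bwd 2544, .fwd 2543, .fwd 2138, .fwd 2094, .bwd 2125, .bwd 2124],
   .define,
   .loop (some (9, 2)) [.bwd 3443, .bwd 3455, .fwd 3469],
   .define,
   .loop (some (0, 1)) [.fwd 3455, .fwd 3471],
   .loop (some (2, 2)) [.bwd 3443, .fwd 2124, .fwd 2916],
   .define,
   .loop (some (1, 2)) [.bwd 3443, .fwd 3468, .fwd 3474],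
   .define,
   .loop (some (10, 2)) [.bwd 3414, .bwd 3349, .bwd 3455, .fwd 3476],
   .define,
   .loop (some (6, 2)) [.bwd 3468, .bwd 3455, .fwd 3478],
   .loop (some (3, 2)) [.bwd 3468, .bwd 3399, .fwd 3389],
   .define,
   .define,
   .define,
   .loop (some (14, 4)) [.bwd 3314, .fwd 3418, .fwd 3380, .fwd 3399, .fwd 3443, .fwd 3481, .fwd 3482, .fwd 3483],
   .loop (some (9, 2)) [.bwd 2916, .bwd 2923, .bwd 3284],
   .loop (some (0, 1)) [.fwd 2923, .fwd 2896],
   .loop (some (1, 2)) [.bwd 2916, .fwd 3363, .fwd 2941],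
   .loop (some (6, 1)) [.fwd 2948, .bwd 3363, .bwd 2923],
   .loop (some (14, 2)) [.fwd 3327, .bwd 3319, .bwd 2025, .fwd 2797, .fwd 2802, .fwd 2921, .fwd 2916, .fwd 3369],
   .define,
   .define,
   .loop (some (13, 4)) [.bwd 2576, .bwd 2547, .bwd 2501, .fwd 2500, .fwd 2925, .fwd 2947, .fwd 3490, .fwd 3491],
   .loop (some (5, 3)) [.fwd 2919, .bwd 2781, .bwd 2887, .bwd 2994],
   .loop none [.fwd 3493],
   .loop none [.bwd 3001, .bwd 3494],
   .loop none [.bwd 2994, .bwd 3494],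
   .loop none [.fwd 3164, .bwd 3494],
   .loop (some (3, 1)) [.bwd 2442, .fwd 2924, .fwd 2177],
   .loop (some (11, 3)) [.bwd 2407, .bwd 3314, .fwd 2152, .fwd 3353, .bwd 2181]]

theorem just13_len : just13.length = 250 := by decide +kernel

theorem just13_ok : cert.okFacts 3250 just13 = true := by decide +kernel

/-- justifications -/
noncomputable def just14 : List Cert.Just :=
  [.loop (some (13, 1)) [.fwd 2219, .fwd 2220, .bwd 2230, .fwd 2229, .bwd 1111, .fwd 2036, .fwd 2024, .fwd 2151, .fwd 3461],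
   .loop none [.fwd 3500],
   .loop none [.fwd 3461, .bwd 3501],
   .loop none [.bwd 3462, .bwd 3501],
   .loop (some (0, 0)) [.fwd 3367, .fwd 3313],
   .loop (some (1, 2)) [.bwd 3314, .bwd 3502, .fwd 3216],
   .loop (some (6, 1)) [.fwd 3215, .fwd 3502, .bwd 3313],
   .loop (some (3, 1)) [.fwd 3214, .fwd 3502, .bwd 3312],
   .loop (some (13, 0)) [.bwd 2219, .bwd 2218, .bwd 1942, .bwd 1967, .bwd 1606, .fwd 2126, .fwd 2049, .bwd 2153],
   .loop (some (0, 1)) [.fwd 3350, .fwd 3318],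
   .loop (some (5, 1)) [.fwd 3256, .fwd 3312, .fwd 2152, .fwd 3414],
   .loop none [.fwd 3510],
   .loop none [.fwd 3467, .bwd 3511],
   .loop none [.fwd 3422, .bwd 3511],
   .loop none [.fwd 3414, .bwd 3511],
   .loop none [.fwd 3477, .bwd 3511],
   .loop (some (1, 1)) [.bwd 3175, .bwd 3506, .bwd 3353, .fwd 3508],
   .loop none [.bwd 3516],
   .loop none [.fwd 3175, .bwd 3517],
   .loop none [.bwd 3103, .bwd 3517],
   .define,
   .loop (some (10, 2)) [.bwd 3513, .fwd 3514, .bwd 3350, .fwd 3520],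
   .define,
   .loop (some (6, 2)) [.bwd 3508, .bwd 3350, .fwd 3522],
   .loop (some (3, 2)) [.bwd 3519, .bwd 3508, .bwd 3349, .fwd 3468],
   .loop none [.bwd 3524],
   .loop none [.fwd 3519, .bwd 3525],
   .loop none [.fwd 3480, .fwd 3525, .fwd 3104],
   .loop none [.fwd 3527],
   .loop none [.bwd 3402, .fwd 3528, .fwd 3105],
   .loop none [.bwd 3529],
   .loop none [.bwd 3403, .bwd 3530],
   .loop none [.fwd 3402, .bwd 3530],
   .define,
   .define,
   .loop (some (14, 4)) [.bwd 3427, .fwd 3380, .fwd 3399, .fwd 3349, .fwd 3353, .bwd 3366, .fwd 3533, .fwd 3534],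
   .loop (some (3, 1)) [.bwd 2589, .bwd 2612, .bwd 2700],
   .loop (some (4, 2)) [.bwd 3401, .bwd 2768, .bwd 3002, .fwd 3374],
   .loop none [.fwd 3537],
   .loop none [.fwd 3374, .bwd 3538],
   .loop none [.bwd 3058, .bwd 3538],
   .loop (some (3, 1)) [.fwd 3119, .fwd 3383, .bwd 3002],
   .loop (some (14, 4)) [.fwd 2886, .bwd 3496, .fwd 3495, .fwd 3002, .fwd 2175, .bwd 2802, .fwd 2789, .fwd 3439],
   .define,
   .loop (some (11, 3)) [.bwd 2975, .fwd 2763, .bwd 3375, .fwd 3385, .fwd 3543],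
   .loop (some (8, 2)) [.fwd 3375, .bwd 3151, .bwd 3375],
   .define,
   .loop (some (14, 4)) [.fwd 2791, .fwd 2804, .fwd 2809, .fwd 2822, .bwd 2337, .bwd 2897, .fwd 2884, .fwd 3546],
   .loop (some (13, 1)) [.fwd 2457, .fwd 2458, .fwd 2451, .fwd 2090, .fwd 1794, .bwd 2198, .fwd 2199, .fwd 2180, .fwd 3522],
   .loop none [.fwd 3548],
   .loop none [.fwd 3522, .bwd 3549],
   .loop none [.bwd 3523, .bwd 3549],
   .loop (some (5, 1)) [.bwd 3268, .fwd 3366, .bwd 2181, .fwd 3520],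
   .loop none [.fwd 3552],
   .loop none [.fwd 3520, .bwd 3553],
   .loop none [.bwd 3521, .bwd 3553],
   .define,
   .loop (some (1, 2)) [.bwd 3499, .bwd 3550, .fwd 3556],
   .define,
   .loop (some (10, 3)) [.fwd 3554, .bwd 3509, .bwd 3484, .fwd 3558],
   .loop (some (6, 2)) [.fwd 3550, .bwd 3509, .bwd 3505],
   .loop (some (3, 2)) [.fwd 3550, .bwd 3404, .bwd 3094],
   .define,
   .define,
   .define,
   .loop (some (14, 4)) [.bwd 3533, .fwd 3366, .fwd 3289, .fwd 3404, .fwd 3499, .fwd 3562, .fwd 3563, .fwd 3564],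
   .define,
   .loop (some (12, 3)) [.fwd 3366, .fwd 3289, .fwd 3404, .bwd 3554, .bwd 3559, .fwd 3566],
   .loop (some (6, 2)) [.bwd 3506, .bwd 3367, .bwd 3557],
   .define,
   .loop (some (3, 2)) [.bwd 3506, .bwd 3366, .fwd 3569],
   .define,
   .loop (some (14, 5)) [.fwd 3566, .fwd 3567, .fwd 3366, .bwd 3353, .bwd 3349, .fwd 3443, .fwd 3481, .fwd 3571],
   .define,
   .loop (some (10, 2)) [.fwd 3554, .bwd 3404, .bwd 3293, .fwd 3573],
   .loop (some (6, 1)) [.fwd 3180, .fwd 3094, .bwd 3293],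
   .define,
   .define,
   .define,
   .loop (some (14, 5)) [.fwd 3567, .fwd 3366, .fwd 3289, .bwd 2989, .bwd 2985, .fwd 3576, .fwd 3577, .fwd 3578],
   .define,
   .define,
   .loop (some (11, 3)) [.bwd 3155, .bwd 2340, .bwd 3270, .fwd 3580, .fwd 3581],
   .loop (some (1, 2)) [.bwd 2340, .bwd 2608, .fwd 2431],
   .loop (some (11, 4)) [.fwd 2401, .bwd 3216, .fwd 2219, .fwd 3518, .bwd 2457, .fwd 3556],
   .loop none [.fwd 3584],
   .loop none [.bwd 3557, .bwd 3585],
   .loop none [.fwd 3556, .bwd 3585],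
   .loop none [.bwd 3568, .bwd 3585],
   .loop (some (0, 0)) [.fwd 3588, .fwd 3215],
   .define,
   .loop (some (14, 7)) [.fwd 3214, .fwd 3216, .bwd 3221, .fwd 3587, .bwd 3561, .bwd 3176, .bwd 3518, .fwd 3590],
   .loop (some (5, 1)) [.bwd 3210, .fwd 3214, .fwd 2219, .fwd 3590],
   .loop none [.fwd 3592],
   .loop none [.bwd 3591, .bwd 3593],
   .loop none [.fwd 3590, .bwd 3593],
   .define,
   .loop (some (10, 2)) [.bwd 3594, .fwd 3595, .bwd 3551, .fwd 3596],
   .define,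
   .define,
   .loop (some (14, 4)) [.bwd 3456, .fwd 3450, .fwd 3480, .fwd 3526, .fwd 3518, .bwd 3570, .fwd 3598, .fwd 3599],
   .loop (some (10, 2)) [.fwd 3266, .bwd 3260, .fwd 3261, .bwd 2962, .bwd 3183],
   .loop none [.bwd 3601],
   .loop none [.bwd 3279, .bwd 3602],
   .loop none [.fwd 3265, .bwd 3602],
   .loop none [.bwd 3266, .bwd 3602],
   .define,
   .loop (some (14, 4)) [.bwd 2567, .fwd 2583, .fwd 2946, .fwd 2961, .fwd 2450, .bwd 2586, .bwd 2569, .fwd 3606],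
   .loop (some (4, 2)) [.bwd 2249, .bwd 3311, .bwd 2716],
   .loop (some (3, 1)) [.fwd 3207, .fwd 3184, .bwd 3311],
   .loop (some (5, 1)) [.fwd 2715, .fwd 3608, .fwd 2250, .fwd 3573],
   .loop none [.fwd 3610],
   .loop none [.fwd 3573, .bwd 3611],
   .loop none [.bwd 3574, .bwd 3611],
   .loop (some (10, 3)) [.fwd 3612, .bwd 3394, .fwd 3399, .fwd 3471],
   .loop (some (6, 2)) [.bwd 3575, .bwd 3394, .fwd 3389],
   .define,
   .loop (some (3, 2)) [.bwd 3575, .bwd 3608, .fwd 3616],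
   .define,
   .define,
   .define,
   .define,
   .define,
   .define,
   .loop (some (14, 7)) [.fwd 3608, .fwd 3292, .fwd 3618, .fwd 3619, .fwd 3620, .fwd 3621, .fwd 3622, .fwd 3623],
   .define,
   .loop (some (12, 3)) [.fwd 3623, .fwd 3624, .fwd 3608, .bwd 3612, .bwd 3614, .fwd 3625],
   .loop (some (4, 2)) [.fwd 3617, .bwd 2261, .bwd 3207, .fwd 2634],
   .loop none [.bwd 3627],
   .loop none [.fwd 3616, .bwd 3628],
   .loop none [.bwd 3617, .bwd 3628],
   .loop (some (9, 2)) [.fwd 3091, .bwd 3179, .bwd 3615, .bwd 3532],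
   .loop none [.fwd 3631],
   .loop none [.bwd 3531, .bwd 3632],
   .loop none [.bwd 3532, .bwd 3632],
   .loop none [.bwd 3106, .bwd 3632],
   .loop none [.fwd 3109, .bwd 3632],
   .loop (some (5, 0)) [.bwd 2635, .fwd 3630, .fwd 2262],
   .define,
   .loop (some (10, 3)) [.bwd 3637, .bwd 3615, .fwd 3480, .fwd 3638],
   .define,
   .define,
   .define,
   .define,
   .define,
   .define,
   .loop (some (14, 7)) [.fwd 3630, .fwd 3179, .fwd 3640, .fwd 3641, .fwd 3642, .fwd 3643, .fwd 3644, .fwd 3645],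
   .define,
   .loop (some (12, 3)) [.fwd 3645, .fwd 3646, .fwd 3630, .fwd 3637, .bwd 3639, .fwd 3647],
   .loop (some (4, 2)) [.bwd 3640, .fwd 2323, .fwd 3139, .bwd 2766],
   .loop none [.bwd 3649],
   .loop none [.bwd 3641, .bwd 3650],
   .loop none [.fwd 3640, .bwd 3650],
   .loop (some (7, 2)) [.fwd 3091, .fwd 2323, .bwd 3144, .bwd 2766],
   .loop none [.bwd 3653],
   .loop none [.bwd 3633, .bwd 3654],
   .loop none [.bwd 3651, .fwd 3654, .fwd 3634],
   .loop none [.bwd 3656],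
   .loop none [.bwd 3652, .fwd 3654, .fwd 3635],
   .loop none [.fwd 3658],
   .loop none [.bwd 3636, .bwd 3654],
   .loop none [.bwd 3091, .bwd 3654],
   .loop none [.fwd 3090, .bwd 3654],
   .loop none [.fwd 3651, .bwd 3657],
   .loop none [.fwd 3450, .fwd 3657, .fwd 3642],
   .loop none [.fwd 3664],
   .loop none [.bwd 3098, .fwd 3659, .bwd 3131],
   .loop none [.bwd 3666],
   .loop none [.fwd 3503, .fwd 3665, .fwd 3643],
   .loop none [.fwd 3668],
   .loop none [.fwd 3098, .bwd 3667],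
   .loop none [.bwd 3099, .bwd 3667],
   .loop none [.bwd 3216, .fwd 3669, .fwd 3644],
   .loop none [.fwd 3672],
   .loop none [.bwd 3645, .bwd 3673],
   .loop none [.fwd 3221, .fwd 3673, .bwd 3648],
   .loop none [.fwd 3675],
   .loop none [.fwd 3647, .bwd 3676],
   .define,
   .define,
   .define,
   .loop (some (14, 5)) [.fwd 3118, .fwd 3119, .bwd 3139, .fwd 2287, .bwd 3207, .fwd 3678, .fwd 3679, .fwd 3680],
   .loop (some (5, 2)) [.fwd 3119, .bwd 2439, .bwd 2443, .bwd 2979],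
   .loop none [.bwd 3682],
   .loop none [.fwd 3541, .bwd 3683],
   .loop none [.bwd 3119, .bwd 3683],
   .loop none [.fwd 3118, .bwd 3683],
   .loop (some (5, 2)) [.bwd 3276, .bwd 2947, .bwd 2605, .fwd 2576],
   .loop none [.bwd 3687],
   .loop none [.fwd 3276, .bwd 3688],
   .loop none [.fwd 3190, .bwd 3688],
   .loop (some (8, 2)) [.bwd 2947, .bwd 2588, .bwd 2651],
   .loop (some (4, 3)) [.bwd 2328, .fwd 3162, .fwd 2768, .fwd 3400],
   .loop none [.fwd 3692],
   .loop none [.bwd 3012, .fwd 3693, .fwd 3025],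
   .loop none [.bwd 3694],
   .loop none [.bwd 3618, .fwd 3693, .bwd 3400],
   .loop none [.bwd 3696],
   .loop none [.fwd 3012, .bwd 3695],
   .loop none [.bwd 3013, .bwd 3695],
   .loop none [.fwd 3382, .fwd 3697, .fwd 3619],
   .loop none [.fwd 3700],
   .loop none [.fwd 3618, .bwd 3697],
   .loop none [.fwd 3380, .fwd 3701, .fwd 3620],
   .loop none [.fwd 3703],
   .loop none [.fwd 3418, .fwd 3704, .fwd 3621],
   .loop none [.fwd 3705],
   .loop none [.bwd 3314, .fwd 3706, .fwd 3622],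
   .loop none [.fwd 3707],
   .loop none [.fwd 3484, .fwd 3708, .fwd 3623],
   .loop none [.fwd 3709],
   .loop none [.fwd 3317, .fwd 3708, .bwd 3626],
   .loop none [.fwd 3711],
   .loop none [.fwd 3483, .fwd 3710, .fwd 3624],
   .loop none [.bwd 3713],
   .loop none [.bwd 3562, .fwd 3712, .bwd 3625],
   .loop none [.bwd 3715],
   .loop none [.fwd 3482, .bwd 3714],
   .loop none [.bwd 3483, .bwd 3714],
   .loop none [.bwd 3563, .bwd 3716],
   .loop none [.fwd 3562, .bwd 3716],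
   .loop (some (14, 4)) [.fwd 2918, .fwd 3495, .fwd 3002, .bwd 3162, .fwd 2313, .bwd 3311, .bwd 3489, .fwd 3370],
   .loop (some (4, 3)) [.bwd 2321, .fwd 2857, .fwd 2369, .fwd 3132],
   .loop none [.fwd 3722],
   .loop none [.bwd 3072, .fwd 3723, .fwd 3081],
   .loop none [.fwd 3724],
   .loop none [.fwd 3132, .bwd 3723],
   .loop none [.fwd 3065, .fwd 3723, .bwd 3073],
   .loop none [.fwd 3727],
   .loop none [.fwd 3728, .fwd 3725],
   .loop none [.bwd 3082, .fwd 3729],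
   .loop none [.fwd 3072, .bwd 3728],
   .loop (some (7, 2)) [.fwd 3065, .bwd 2321, .bwd 2867, .fwd 2764],
   .loop none [.bwd 3732],
   .loop none [.bwd 3730, .bwd 3733],
   .loop none [.bwd 3731, .bwd 3733],
   .loop none [.bwd 3065, .bwd 3733],
   .loop none [.fwd 3064, .bwd 3733],
   .loop (some (10, 2)) [.bwd 2865, .fwd 2866, .bwd 2867, .fwd 2865],
   .loop (some (6, 1)) [.fwd 2690, .bwd 2696, .bwd 2867],
   .loop (some (3, 1)) [.bwd 2680, .bwd 2696, .fwd 2857],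
   .define,
   .loop (some (14, 4)) [.bwd 2845, .fwd 2667, .fwd 2841, .bwd 2857, .bwd 2701, .fwd 2857, .fwd 2869, .fwd 3741],
   .loop (some (9, 1)) [.fwd 3736, .fwd 3063, .bwd 3736],
   .loop (some (10, 2)) [.bwd 3734, .fwd 3735, .bwd 3736, .fwd 3734],
   .loop (some (6, 1)) [.fwd 3031, .fwd 3036, .bwd 3736],
   .define,
   .loop (some (3, 2)) [.fwd 3036, .fwd 3726, .fwd 3746],
   .define,
   .define]

theorem just14_len : just14.length = 250 := by decide +kernel

theorem just14_ok : cert.okFacts 3500 just14 = true := by decide +kernel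

/-- justifications -/
noncomputable def just15 : List Cert.Just :=
  [.loop (some (14, 4)) [.bwd 3075, .fwd 2836, .bwd 3133, .bwd 3726, .bwd 3063, .fwd 3726, .fwd 3748, .fwd 3749],
   .define,
   .define,
   .define,
   .loop (some (14, 5)) [.fwd 3108, .bwd 3660, .fwd 3652, .bwd 3179, .bwd 3630, .fwd 3751, .fwd 3752, .fwd 3753],
   .loop (some (5, 3)) [.bwd 2329, .bwd 3698, .fwd 2623, .bwd 3035],
   .loop none [.fwd 3755],
   .loop none [.bwd 3033, .fwd 3756, .fwd 3044],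
   .loop none [.fwd 3757],
   .loop none [.fwd 3747, .fwd 3756, .fwd 3035],
   .loop none [.bwd 3759],
   .loop none [.fwd 3031, .fwd 3756, .bwd 3034],
   .loop none [.fwd 3761],
   .loop none [.fwd 3762, .fwd 3758],
   .loop none [.bwd 3045, .fwd 3763],
   .loop none [.fwd 3746, .bwd 3760],
   .loop none [.bwd 3747, .bwd 3760],
   .loop none [.fwd 3033, .bwd 3762],
   .loop (some (8, 2)) [.fwd 3031, .bwd 2329, .bwd 3392, .fwd 2769],
   .loop none [.bwd 3768],
   .loop none [.fwd 3745, .bwd 3769],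
   .loop none [.bwd 3764, .bwd 3769],
   .loop none [.bwd 3767, .bwd 3769],
   .loop none [.bwd 3031, .bwd 3769],
   .loop none [.fwd 3030, .bwd 3769],
   .define,
   .loop (some (14, 5)) [.fwd 3026, .bwd 3401, .fwd 3702, .bwd 3292, .bwd 3608, .fwd 3717, .fwd 3571, .fwd 3775],
   .loop (some (10, 2)) [.bwd 3771, .fwd 3772, .bwd 3773, .fwd 3771],
   .define,
   .define,
   .loop (some (14, 4)) [.bwd 3038, .fwd 2655, .fwd 3032, .fwd 3766, .bwd 3029, .bwd 3766, .fwd 3778, .fwd 3779],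
   .loop (some (10, 2)) [.bwd 2688, .fwd 2689, .bwd 2690, .fwd 2688],
   .define,
   .loop (some (14, 4)) [.bwd 2668, .fwd 2617, .fwd 2660, .bwd 2680, .bwd 2614, .fwd 2680, .fwd 2702, .fwd 3782],
   .loop (some (4, 2)) [.fwd 3720, .fwd 2408, .bwd 2897, .fwd 2734],
   .loop none [.bwd 3784],
   .loop none [.bwd 3719, .bwd 3785],
   .loop none [.bwd 3720, .bwd 3785],
   .loop none [.bwd 3614, .bwd 3785],
   .loop none [.bwd 3472, .bwd 3785],
   .loop none [.fwd 3471, .bwd 3785],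
   .loop (some (3, 1)) [.fwd 2744, .bwd 3239, .bwd 2897],
   .loop (some (5, 2)) [.bwd 3155, .fwd 2699, .fwd 2975],
   .loop (some (8, 2)) [.bwd 3155, .bwd 2698, .fwd 2368],
   .loop (some (5, 2)) [.fwd 2850, .bwd 2693, .bwd 2341, .fwd 3155],
   .loop none [.fwd 3794],
   .loop none [.bwd 2970, .bwd 3795],
   .loop none [.fwd 3155, .bwd 3795],
   .loop none [.fwd 3582, .bwd 3795],
   .loop none [.fwd 2849, .fwd 3795, .bwd 3792],
   .loop none [.fwd 3799],
   .loop none [.fwd 3793, .bwd 3795],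
   .loop none [.bwd 2976, .bwd 3800],
   .loop none [.fwd 2975, .bwd 3800],
   .loop none [.fwd 2848, .fwd 3800, .bwd 3544],
   .loop none [.fwd 3804],
   .loop none [.fwd 3543, .bwd 3805],
   .loop (some (8, 2)) [.bwd 2693, .bwd 2937, .bwd 3797],
   .loop (some (7, 2)) [.bwd 2369, .bwd 2936, .fwd 2835],
   .loop (some (9, 2)) [.bwd 2869, .bwd 2936, .fwd 2845],
   .loop (some (2, 2)) [.bwd 2869, .fwd 2369, .fwd 3748],
   .loop (some (1, 2)) [.bwd 2869, .fwd 3740, .fwd 2702],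
   .define,
   .define,
   .loop (some (14, 4)) [.bwd 3798, .fwd 2850, .fwd 2667, .fwd 2841, .fwd 2869, .fwd 3741, .fwd 3812, .fwd 3813],
   .define,
   .define,
   .define,
   .loop (some (11, 4)) [.bwd 3748, .fwd 2370, .fwd 3815, .fwd 3816, .fwd 3817],
   .loop (some (9, 2)) [.bwd 3748, .bwd 3808, .fwd 3075],
   .define,
   .loop (some (0, 1)) [.fwd 3808, .fwd 3820],
   .loop (some (8, 2)) [.bwd 2370, .bwd 3808, .fwd 3049],
   .loop (some (1, 2)) [.bwd 3748, .bwd 3765, .fwd 3778],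
   .loop (some (6, 2)) [.fwd 3765, .bwd 3808, .bwd 3037],
   .define,
   .define,
   .define,
   .loop (some (14, 5)) [.fwd 3080, .fwd 2836, .bwd 3133, .fwd 3748, .fwd 3749, .fwd 3825, .fwd 3826, .fwd 3827],
   .define,
   .loop (some (9, 2)) [.bwd 3815, .bwd 3822, .fwd 3829],
   .loop (some (0, 1)) [.fwd 3822, .fwd 3671],
   .loop (some (2, 2)) [.bwd 3815, .fwd 2371, .fwd 3169],
   .loop (some (1, 2)) [.bwd 3815, .fwd 3127, .fwd 3576],
   .define,
   .loop (some (6, 2)) [.bwd 3127, .bwd 3822, .fwd 3834],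
   .define,
   .define,
   .define,
   .define,
   .loop (some (14, 5)) [.bwd 3660, .fwd 3652, .bwd 3670, .fwd 3815, .fwd 3836, .fwd 3837, .fwd 3838, .fwd 3839],
   .loop (some (9, 2)) [.bwd 3169, .bwd 3172, .bwd 2731],
   .loop (some (0, 1)) [.fwd 3134, .fwd 3172, .fwd 3141],
   .loop none [.fwd 3842],
   .loop none [.fwd 2943, .fwd 3843, .bwd 3681],
   .loop none [.fwd 3844],
   .loop none [.fwd 3686, .bwd 3843],
   .loop none [.bwd 3115, .bwd 3843],
   .loop none [.fwd 3141, .bwd 3843],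
   .loop none [.fwd 3680, .bwd 3845],
   .loop (some (1, 2)) [.bwd 3169, .fwd 3122, .fwd 3282],
   .loop (some (6, 1)) [.fwd 3285, .bwd 3122, .bwd 3172],
   .define,
   .define,
   .define,
   .loop (some (14, 5)) [.fwd 3685, .bwd 3139, .bwd 3140, .fwd 3169, .fwd 3186, .fwd 3852, .fwd 3853, .fwd 3854],
   .loop (some (4, 2)) [.bwd 3677, .bwd 2400, .bwd 2744, .bwd 2650],
   .loop none [.bwd 3856],
   .loop none [.fwd 3677, .bwd 3857],
   .loop none [.bwd 3639, .bwd 3857],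
   .loop none [.fwd 3638, .bwd 3857],
   .loop (some (10, 2)) [.bwd 3674, .bwd 3221, .bwd 3589, .fwd 3503],
   .loop (some (3, 1)) [.fwd 3787, .bwd 3586, .bwd 3858],
   .loop (some (5, 1)) [.fwd 2649, .fwd 3858, .fwd 2401, .fwd 3674],
   .loop none [.fwd 3863],
   .loop none [.bwd 3646, .bwd 3864],
   .loop none [.fwd 3674, .bwd 3864],
   .loop none [.fwd 3861, .bwd 3864],
   .loop (some (10, 2)) [.bwd 3865, .fwd 3866, .bwd 3222, .bwd 3595],
   .define,
   .define,
   .define,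
   .loop (some (14, 5)) [.bwd 3859, .fwd 3858, .fwd 3221, .bwd 3216, .bwd 3214, .fwd 3869, .fwd 3870, .fwd 3871],
   .loop (some (5, 1)) [.bwd 2735, .fwd 3787, .bwd 2407, .bwd 3484],
   .loop none [.fwd 3873],
   .loop none [.fwd 3718, .bwd 3874],
   .loop none [.bwd 3484, .bwd 3874],
   .loop none [.bwd 3558, .bwd 3874],
   .loop (some (10, 2)) [.bwd 3875, .fwd 3876, .bwd 3318, .bwd 3514],
   .define,
   .define,
   .loop (some (14, 5)) [.bwd 3788, .fwd 3787, .fwd 3317, .bwd 3314, .bwd 3312, .fwd 3421, .fwd 3879, .fwd 3880],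
   .loop (some (10, 3)) [.fwd 3876, .bwd 3317, .bwd 3504, .fwd 3418, .fwd 3453],
   .loop none [.fwd 3882],
   .loop none [.bwd 3877, .fwd 3883, .fwd 3454],
   .loop none [.bwd 3884],
   .loop none [.fwd 3453, .bwd 3883],
   .loop none [.bwd 3451, .fwd 3885, .bwd 3572],
   .loop none [.fwd 3887],
   .loop none [.bwd 3458, .fwd 3885, .fwd 3566],
   .loop none [.fwd 3889],
   .loop none [.bwd 3559, .bwd 3885],
   .loop none [.fwd 3877, .bwd 3885],
   .loop none [.fwd 3571, .bwd 3888],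
   .loop none [.bwd 3775, .bwd 3888],
   .loop none [.bwd 3469, .fwd 3890, .bwd 3579],
   .loop none [.fwd 3895],
   .loop none [.bwd 3476, .fwd 3890, .fwd 3567],
   .loop none [.bwd 3897],
   .loop none [.fwd 3578, .bwd 3896],
   .loop none [.fwd 3476, .bwd 3898],
   .loop none [.fwd 3515, .bwd 3898],
   .loop (some (10, 2)) [.fwd 3690, .fwd 3183, .bwd 2607, .fwd 3223],
   .define,
   .loop (some (14, 4)) [.fwd 2569, .fwd 2586, .fwd 2593, .fwd 2606, .fwd 2417, .bwd 2744, .fwd 2729, .fwd 3903],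
   .define,
   .define,
   .loop (some (11, 3)) [.fwd 3054, .bwd 2431, .bwd 3604, .fwd 3905, .fwd 3906],
   .loop (some (5, 2)) [.fwd 3054, .bwd 2590, .bwd 3060],
   .loop (some (8, 2)) [.fwd 3054, .bwd 2619, .bwd 2625],
   .loop (some (5, 2)) [.fwd 2673, .bwd 2616, .bwd 2432, .bwd 3054],
   .loop none [.fwd 3910],
   .loop none [.fwd 3053, .bwd 3911],
   .loop none [.bwd 3054, .bwd 3911],
   .loop none [.fwd 3907, .bwd 3911],
   .loop none [.fwd 2672, .fwd 3911, .bwd 3908],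
   .loop none [.fwd 3915],
   .loop none [.fwd 3909, .bwd 3911],
   .loop none [.fwd 3059, .bwd 3916],
   .loop none [.bwd 3060, .bwd 3916],
   .loop (some (8, 2)) [.bwd 2616, .bwd 2960, .bwd 3913],
   .define,
   .loop (some (14, 4)) [.bwd 3230, .fwd 2555, .fwd 2575, .fwd 2583, .bwd 2440, .bwd 3685, .bwd 3855, .fwd 3921],
   .define,
   .loop (some (14, 4)) [.bwd 3869, .fwd 3214, .fwd 3503, .fwd 3450, .fwd 3663, .fwd 3660, .bwd 3840, .fwd 3923],
   .loop (some (4, 2)) [.bwd 3660, .fwd 2766, .bwd 3685, .bwd 2978],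
   .loop none [.bwd 3925],
   .loop none [.fwd 3840, .bwd 3926],
   .loop none [.fwd 3660, .bwd 3926],
   .loop none [.fwd 3108, .bwd 3926],
   .define,
   .loop (some (14, 4)) [.fwd 2731, .bwd 3847, .fwd 3846, .fwd 3685, .fwd 2440, .bwd 2583, .fwd 2567, .fwd 3930],
   .loop (some (11, 2)) [.fwd 2671, .fwd 3919, .fwd 2613, .bwd 2979, .bwd 3855],
   .loop (some (8, 2)) [.fwd 2979, .bwd 2980, .bwd 2979],
   .loop (some (11, 2)) [.fwd 3436, .bwd 2798, .bwd 2813, .bwd 3310, .bwd 3489],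
   .loop (some (4, 2)) [.fwd 3570, .fwd 2458, .bwd 2586, .bwd 3281],
   .loop none [.bwd 3935],
   .loop none [.fwd 3569, .bwd 3936],
   .loop none [.bwd 3598, .bwd 3936],
   .loop none [.bwd 3570, .bwd 3936],
   .define,
   .define,
   .loop (some (14, 5)) [.fwd 3689, .fwd 3275, .fwd 2586, .bwd 2450, .bwd 2961, .fwd 2941, .fwd 3940, .fwd 3941],
   .loop (some (11, 2)) [.fwd 3942, .bwd 2576, .bwd 2597, .bwd 3206, .fwd 3678],
   .loop (some (5, 1)) [.fwd 3280, .fwd 3939, .bwd 2457, .fwd 3596],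
   .loop none [.fwd 3944],
   .loop none [.fwd 3596, .bwd 3945],
   .loop none [.bwd 3597, .bwd 3945],
   .define,
   .loop (some (10, 3)) [.fwd 3946, .bwd 3560, .bwd 3866, .fwd 3948],
   .define,
   .define,
   .loop (some (14, 4)) [.bwd 3938, .fwd 3939, .fwd 3176, .fwd 3561, .bwd 3587, .bwd 3858, .fwd 3950, .fwd 3951],
   .define,
   .loop (some (12, 3)) [.fwd 3939, .fwd 3176, .fwd 3561, .bwd 3946, .bwd 3949, .fwd 3953],
   .define,
   .define,
   .loop (some (14, 5)) [.fwd 3953, .fwd 3954, .fwd 3939, .bwd 3518, .bwd 3526, .fwd 3474, .fwd 3955, .fwd 3956],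
   .loop (some (10, 2)) [.fwd 3946, .bwd 3561, .bwd 3180, .fwd 3637],
   .define,
   .loop (some (14, 5)) [.fwd 3954, .fwd 3939, .fwd 3176, .fwd 3095, .bwd 3130, .fwd 3815, .fwd 3836, .fwd 3959],
   .loop (some (7, 2)) [.fwd 3460, .bwd 2479, .bwd 2577, .bwd 3492],
   .loop none [.fwd 3961],
   .loop none [.bwd 3492, .bwd 3962],
   .loop none [.fwd 3491, .bwd 3962],
   .loop (some (9, 2)) [.bwd 2567, .bwd 2577, .bwd 3942],
   .loop (some (2, 2)) [.bwd 2567, .fwd 2479, .fwd 3456],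
   .define,
   .define,
   .loop (some (14, 4)) [.fwd 3247, .fwd 3260, .fwd 2555, .fwd 2575, .fwd 2567, .fwd 3930, .fwd 3967, .fwd 3968],
   .define,
   .define,
   .loop (some (11, 4)) [.bwd 3456, .fwd 2480, .fwd 3474, .fwd 3970, .fwd 3971],
   .define,
   .loop (some (9, 2)) [.bwd 3456, .bwd 3460, .fwd 3973],
   .loop (some (0, 2)) [.fwd 3460, .bwd 3867, .fwd 3948],
   .loop none [.fwd 3975],
   .loop none [.bwd 3973, .fwd 3976, .bwd 3957],
   .loop none [.bwd 3977],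
   .loop none [.bwd 3953, .bwd 3976],
   .loop none [.bwd 3949, .bwd 3976],
   .loop none [.fwd 3948, .bwd 3976],
   .loop none [.fwd 3973, .bwd 3978],
   .loop none [.bwd 3974, .bwd 3978],
   .loop (some (8, 2)) [.fwd 3479, .bwd 2480, .bwd 3460, .fwd 3964],
   .loop none [.fwd 3984],
   .loop none [.fwd 3490, .bwd 3985],
   .loop none [.fwd 3964, .bwd 3985],
   .loop (some (10, 2)) [.fwd 3479, .bwd 3480, .bwd 3450, .bwd 3460, .fwd 3979],
   .loop none [.fwd 3988],
   .loop none [.fwd 3960, .bwd 3989],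
   .loop none [.bwd 3954, .bwd 3989],
   .loop none [.fwd 3979, .bwd 3989],
   .define,
   .define,
   .define,
   .define,
   .loop (some (14, 5)) [.fwd 3594, .fwd 3214, .fwd 3503, .fwd 3456, .fwd 3993, .fwd 3994, .fwd 3995, .fwd 3996],
   .loop (some (9, 2)) [.bwd 3474, .bwd 3479, .fwd 3990],
   .loop (some (0, 1)) [.fwd 3479, .bwd 3860]]

theorem just15_len : just15.length = 250 := by decide +kernel

theorem just15_ok : cert.okFacts 3750 just15 = true := by decide +kernel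

/-- justifications -/
noncomputable def just16 : List Cert.Just :=
  [.loop (some (2, 2)) [.bwd 3474, .fwd 2481, .fwd 2941],
   .loop (some (10, 2)) [.fwd 3595, .bwd 3526, .bwd 3479, .fwd 3991],
   .loop (some (14, 2)) [.bwd 3751, .bwd 3865, .fwd 3866, .bwd 3216, .fwd 3503, .fwd 3450, .fwd 3480, .fwd 3474, .fwd 3955],
   .loop none [.fwd 4002],
   .loop none [.fwd 3955, .bwd 4003],
   .loop none [.bwd 3752, .fwd 4003, .fwd 3956],
   .loop none [.fwd 4005],
   .loop none [.bwd 3982, .bwd 4006],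
   .loop none [.bwd 3983, .bwd 4006],
   .loop (some (9, 2)) [.bwd 2941, .bwd 2948, .bwd 3171],
   .loop (some (14, 2)) [.bwd 3678, .fwd 3235, .bwd 3223, .bwd 1943, .fwd 2575, .fwd 2583, .fwd 2946, .fwd 2941, .fwd 3940],
   .loop none [.fwd 4010],
   .loop none [.fwd 3940, .bwd 4011],
   .loop none [.bwd 3679, .fwd 4011, .fwd 3941],
   .loop none [.fwd 4013],
   .loop none [.fwd 3943, .bwd 4014],
   .loop none [.bwd 3942, .bwd 4014],
   .loop none [.bwd 3965, .bwd 4014],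
   .loop (some (9, 2)) [.bwd 3230, .bwd 3605, .fwd 3905],
   .loop (some (2, 2)) [.bwd 3230, .fwd 3209, .fwd 3869],
   .loop (some (1, 2)) [.bwd 3230, .fwd 3218, .fwd 3322],
   .loop (some (6, 1)) [.fwd 3340, .bwd 3218, .bwd 3605],
   .loop (some (3, 1)) [.fwd 3335, .bwd 3218, .bwd 3260],
   .define,
   .define,
   .loop (some (14, 4)) [.bwd 2941, .fwd 2961, .bwd 3261, .fwd 3260, .fwd 3230, .fwd 3231, .fwd 4023, .fwd 4024],
   .define,
   .define,
   .define,
   .define,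
   .loop (some (13, 6)) [.fwd 3972, .fwd 3966, .fwd 3429, .fwd 2790, .fwd 4026, .fwd 4027, .fwd 4028, .fwd 4029],
   .loop (some (4, 1)) [.bwd 3993, .fwd 3966, .fwd 3930],
   .loop (some (7, 1)) [.fwd 4008, .fwd 3966, .bwd 4017],
   .define,
   .loop (some (0, 1)) [.fwd 4017, .fwd 4033],
   .loop (some (5, 1)) [.bwd 3606, .bwd 2568, .bwd 3607],
   .loop (some (8, 2)) [.bwd 2568, .bwd 4017, .fwd 4015],
   .loop (some (6, 1)) [.fwd 3437, .bwd 3429, .bwd 4017],
   .loop (some (3, 1)) [.bwd 3439, .bwd 3429, .fwd 3930],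
   .loop (some (14, 6)) [.bwd 3931, .bwd 3930, .bwd 2567, .bwd 2575, .fwd 1943, .bwd 3198, .bwd 2744, .fwd 2729],
   .define,
   .define,
   .define,
   .define,
   .define,
   .define,
   .define,
   .define,
   .loop (some (13, 8)) [.fwd 4040, .fwd 4041, .fwd 4042, .fwd 4043, .fwd 4044, .fwd 4045, .fwd 4046, .fwd 4047],
   .define,
   .loop (some (4, 2)) [.fwd 4048, .fwd 3606, .fwd 4049],
   .define,
   .loop (some (7, 2)) [.fwd 4048, .bwd 4036, .fwd 4051],
   .define,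
   .loop (some (0, 1)) [.fwd 4036, .fwd 4053],
   .loop (some (2, 1)) [.bwd 3938, .fwd 3281, .bwd 2569, .bwd 4048],
   .loop none [.fwd 4055],
   .loop none [.bwd 4048, .bwd 4056],
   .loop none [.fwd 4047, .bwd 4056],
   .loop none [.bwd 3599, .fwd 4056, .bwd 4050],
   .loop none [.fwd 4059],
   .loop none [.fwd 4052, .bwd 4056],
   .loop none [.fwd 4049, .bwd 4060],
   .loop (some (5, 1)) [.bwd 3930, .fwd 2568, .bwd 3904],
   .loop (some (1, 1)) [.fwd 2791, .fwd 3368, .bwd 2569, .fwd 4040],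
   .loop none [.fwd 4064],
   .loop none [.fwd 4040, .bwd 4065],
   .loop none [.fwd 2790, .fwd 4065, .fwd 4041],
   .loop none [.fwd 4067],
   .loop none [.fwd 3428, .fwd 4068, .fwd 4042],
   .loop none [.fwd 4069],
   .loop none [.fwd 3446, .fwd 4070, .fwd 4043],
   .loop none [.fwd 4071],
   .loop none [.bwd 4044, .bwd 4072],
   .loop (some (10, 2)) [.fwd 3903, .fwd 3904, .bwd 4036, .fwd 4012],
   .define,
   .loop (some (6, 2)) [.fwd 4066, .bwd 4036, .fwd 4075],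
   .loop (some (3, 1)) [.bwd 3364, .fwd 4066, .fwd 3606],
   .define,
   .loop (some (14, 4)) [.bwd 3967, .bwd 3930, .bwd 3607, .bwd 3606, .fwd 2569, .bwd 3275, .bwd 3171, .fwd 4078],
   .loop (some (7, 2)) [.fwd 3281, .bwd 3278, .fwd 2634],
   .define,
   .define,
   .loop (some (14, 4)) [.bwd 3905, .bwd 3690, .fwd 3689, .fwd 3275, .bwd 2569, .fwd 3606, .fwd 4081, .fwd 4082],
   .loop (some (9, 2)) [.fwd 4034, .fwd 4016, .bwd 3902, .fwd 3245],
   .loop none [.bwd 4084],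
   .loop none [.bwd 4034, .bwd 4085],
   .loop none [.fwd 4033, .bwd 4085],
   .loop (some (6, 1)) [.fwd 3426, .fwd 3438, .bwd 3902],
   .loop (some (4, 2)) [.fwd 3043, .bwd 2654, .bwd 2673, .fwd 3912],
   .loop none [.fwd 4089],
   .loop none [.fwd 3912, .bwd 4090],
   .loop none [.fwd 3052, .bwd 4090],
   .loop (some (7, 2)) [.bwd 2654, .bwd 3920, .bwd 4091],
   .loop (some (9, 2)) [.bwd 2668, .bwd 3920, .fwd 3914],
   .loop (some (2, 2)) [.bwd 2668, .fwd 2654, .fwd 3038],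
   .loop (some (1, 2)) [.bwd 2668, .fwd 2666, .fwd 2845],
   .loop (some (6, 1)) [.fwd 3807, .bwd 2666, .bwd 3920],
   .loop (some (14, 2)) [.bwd 3914, .bwd 2672, .bwd 2688, .fwd 2610, .fwd 2688, .fwd 2672, .fwd 2673, .fwd 2668, .fwd 2669],
   .loop none [.bwd 4098],
   .loop none [.fwd 3906, .bwd 4099],
   .loop none [.fwd 3914, .bwd 4099],
   .loop none [.bwd 4094, .bwd 4099],
   .loop (some (7, 2)) [.fwd 3835, .bwd 2622, .bwd 3285, .fwd 3046],
   .loop none [.bwd 4103],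
   .loop none [.fwd 3834, .bwd 4104],
   .loop none [.bwd 3835, .bwd 4104],
   .loop (some (9, 2)) [.bwd 3282, .bwd 3285, .bwd 2886],
   .loop (some (2, 2)) [.bwd 3282, .fwd 2622, .fwd 3576],
   .define,
   .define,
   .loop (some (14, 4)) [.bwd 3385, .fwd 3002, .bwd 3162, .bwd 3163, .fwd 3282, .fwd 3297, .fwd 4109, .fwd 4110],
   .define,
   .define,
   .loop (some (11, 4)) [.bwd 3576, .fwd 2623, .fwd 3778, .fwd 4112, .fwd 4113],
   .define,
   .loop (some (9, 2)) [.bwd 3576, .bwd 4106, .fwd 4115],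
   .loop (some (0, 1)) [.fwd 4106, .fwd 3699],
   .define,
   .define,
   .loop (some (14, 4)) [.bwd 3408, .bwd 3401, .fwd 3702, .bwd 3698, .fwd 3576, .fwd 3577, .fwd 4118, .fwd 4119],
   .loop (some (9, 2)) [.bwd 3778, .bwd 3824, .fwd 3038],
   .loop (some (0, 0)) [.fwd 4093, .fwd 3824],
   .loop (some (2, 2)) [.bwd 3778, .fwd 2624, .fwd 2702],
   .define,
   .define,
   .define,
   .loop (some (14, 5)) [.fwd 3043, .fwd 2655, .fwd 3032, .fwd 3778, .fwd 3779, .fwd 4124, .fwd 4125, .fwd 4126],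
   .loop (some (9, 2)) [.bwd 2702, .bwd 2959, .fwd 2668],
   .loop (some (14, 2)) [.fwd 3783, .fwd 2669, .fwd 4101, .fwd 2673, .fwd 2617, .fwd 2660, .fwd 2702, .fwd 3782],
   .loop (some (9, 2)) [.fwd 4054, .bwd 3678, .bwd 3262, .bwd 3247],
   .loop none [.bwd 4130],
   .loop none [.bwd 4054, .bwd 4131],
   .loop none [.fwd 4053, .bwd 4131],
   .loop (some (2, 2)) [.bwd 4051, .bwd 3678, .fwd 2634, .fwd 3751],
   .loop none [.bwd 4134],
   .loop none [.fwd 4051, .bwd 4135],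
   .loop none [.fwd 4061, .bwd 4135],
   .loop (some (1, 2)) [.bwd 4075, .bwd 3678, .bwd 3609, .bwd 3489],
   .loop none [.bwd 4138],
   .loop none [.fwd 4075, .bwd 4139],
   .loop none [.bwd 4076, .bwd 4139],
   .define,
   .define,
   .loop (some (11, 4)) [.bwd 3751, .fwd 2635, .bwd 3872, .fwd 4142, .fwd 4143],
   .loop (some (9, 2)) [.bwd 3751, .bwd 3868, .bwd 3997],
   .loop (some (8, 2)) [.bwd 2635, .bwd 3868, .bwd 3210],
   .loop (some (1, 2)) [.bwd 3751, .fwd 3629, .fwd 3717],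
   .loop (some (6, 1)) [.fwd 3878, .bwd 3629, .bwd 3868],
   .loop (some (3, 1)) [.fwd 3875, .bwd 3629, .bwd 3865],
   .loop (some (13, 0)) [.fwd 2715, .fwd 2716, .fwd 3310, .fwd 3307, .bwd 2278, .bwd 2365, .bwd 2637, .bwd 2636],
   .loop (some (9, 2)) [.fwd 3872, .bwd 4146, .fwd 3869],
   .loop (some (2, 2)) [.fwd 3872, .fwd 2636, .bwd 2704],
   .loop (some (1, 2)) [.fwd 3872, .fwd 4150, .bwd 3881],
   .loop (some (6, 2)) [.bwd 4150, .bwd 4146, .bwd 3507],
   .define,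
   .define,
   .define,
   .define,
   .loop (some (14, 5)) [.fwd 3865, .fwd 3630, .fwd 3637, .bwd 3872, .fwd 4155, .fwd 4156, .fwd 4157, .fwd 4158],
   .loop (some (13, 0)) [.bwd 2713, .fwd 2538, .bwd 2272, .bwd 3203, .bwd 3206, .fwd 2634, .fwd 2635, .fwd 2636],
   .loop (some (9, 2)) [.fwd 2704, .bwd 2758, .fwd 3230],
   .loop (some (1, 2)) [.fwd 2704, .fwd 4160, .bwd 2871],
   .define,
   .define,
   .define,
   .loop (some (14, 4)) [.bwd 3245, .bwd 3235, .fwd 3207, .fwd 2721, .bwd 2704, .fwd 4163, .fwd 4164, .fwd 4165],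
   .loop (some (2, 2)) [.bwd 3245, .fwd 2648, .bwd 4159],
   .loop (some (1, 2)) [.bwd 3245, .fwd 4088, .fwd 3329],
   .loop (some (14, 1)) [.fwd 4079, .bwd 3967, .fwd 3931, .bwd 4039, .bwd 2729, .fwd 2744, .fwd 3198, .fwd 3223, .fwd 3245],
   .loop none [.bwd 4169],
   .loop none [.fwd 4166, .fwd 4170, .bwd 4078],
   .loop none [.bwd 4171],
   .loop none [.bwd 4079, .bwd 4170],
   .loop none [.bwd 3277, .fwd 4172, .bwd 4165],
   .loop none [.fwd 4174],
   .loop none [.bwd 4166, .bwd 4172],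
   .loop none [.bwd 3852, .fwd 4175, .bwd 4164],
   .loop none [.fwd 4177],
   .loop none [.fwd 4163, .bwd 4178],
   .define,
   .define,
   .loop (some (11, 4)) [.fwd 4159, .fwd 2649, .fwd 3950, .fwd 4180, .fwd 4181],
   .loop (some (9, 2)) [.fwd 4159, .fwd 3867, .fwd 3456],
   .define,
   .loop (some (1, 2)) [.fwd 4159, .fwd 4149, .fwd 4184],
   .define,
   .define,
   .define,
   .loop (some (14, 4)) [.bwd 3950, .fwd 3858, .fwd 3221, .bwd 3866, .bwd 4159, .fwd 4186, .fwd 4187, .fwd 4188],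
   .loop (some (9, 2)) [.bwd 3950, .fwd 3860, .fwd 3474],
   .loop (some (2, 2)) [.bwd 3950, .fwd 2650, .fwd 2729],
   .loop (some (1, 2)) [.bwd 3950, .fwd 3862, .fwd 3786],
   .define,
   .loop (some (14, 3)) [.bwd 4004, .bwd 3751, .fwd 3630, .fwd 3637, .bwd 3859, .fwd 3950, .fwd 3951, .fwd 4193],
   .loop (some (1, 2)) [.bwd 2729, .bwd 3791, .fwd 2884],
   .loop (some (14, 2)) [.fwd 4025, .bwd 4012, .bwd 3678, .fwd 3207, .fwd 2721, .fwd 2740, .fwd 2729, .fwd 3903],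
   .define,
   .define,
   .loop (some (11, 4)) [.bwd 3038, .bwd 3009, .fwd 4115, .fwd 4197, .fwd 4198],
   .loop (some (9, 2)) [.bwd 3038, .bwd 4093, .bwd 4127],
   .loop (some (8, 2)) [.fwd 4117, .fwd 3009, .bwd 4093, .fwd 4092],
   .loop none [.fwd 4201],
   .loop none [.fwd 3051, .bwd 4202],
   .loop none [.fwd 4092, .bwd 4202],
   .loop (some (1, 2)) [.bwd 3038, .fwd 3037, .fwd 3075],
   .loop (some (6, 1)) [.fwd 3821, .bwd 3037, .bwd 4093],
   .loop (some (3, 2)) [.fwd 3080, .bwd 3037, .bwd 3043, .fwd 4206],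
   .loop none [.fwd 4207],
   .loop none [.fwd 4206, .bwd 4208],
   .loop none [.bwd 3821, .bwd 4208],
   .loop none [.fwd 3820, .bwd 4208],
   .loop (some (14, 2)) [.fwd 4127, .bwd 3042, .bwd 3771, .fwd 3388, .fwd 3771, .fwd 3042, .fwd 3043, .fwd 3038, .fwd 3039],
   .loop none [.bwd 4212],
   .loop none [.bwd 4127, .bwd 4213],
   .loop none [.fwd 3039, .fwd 4213, .bwd 4126],
   .loop none [.fwd 4215],
   .loop none [.bwd 4200, .bwd 4213],
   .loop none [.fwd 3780, .fwd 4216, .bwd 4125],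
   .loop none [.fwd 4218],
   .loop none [.fwd 4124, .bwd 4219],
   .loop (some (4, 2)) [.fwd 3080, .bwd 2835, .bwd 2850, .fwd 3796],
   .loop none [.bwd 4221],
   .loop none [.bwd 4209, .bwd 4222],
   .loop none [.fwd 3828, .bwd 4222],
   .loop none [.bwd 3080, .bwd 4222],
   .loop none [.fwd 3079, .bwd 4222],
   .loop none [.bwd 4210, .bwd 4222],
   .loop none [.bwd 4211, .bwd 4222],
   .loop (some (9, 2)) [.bwd 2845, .bwd 3807, .fwd 3798],
   .loop (some (2, 2)) [.bwd 2845, .fwd 2835, .fwd 3075],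
   .loop (some (14, 2)) [.bwd 3798, .bwd 2849, .bwd 2865, .fwd 2762, .fwd 2865, .fwd 2849, .fwd 2850, .fwd 2845, .fwd 2846],
   .loop none [.bwd 4231],
   .loop none [.fwd 3581, .bwd 4232],
   .loop none [.fwd 3798, .bwd 4232],
   .loop none [.fwd 2846, .fwd 4232, .bwd 3814],
   .loop none [.fwd 4235],
   .loop none [.bwd 4229, .bwd 4232],
   .loop none [.fwd 3742, .fwd 4236, .bwd 3813],
   .loop none [.fwd 4238],
   .loop none [.fwd 3812, .bwd 4239],
   .define,
   .define,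
   .define,
   .define,
   .loop (some (13, 6)) [.fwd 4199, .fwd 4095, .bwd 4096, .bwd 3339, .fwd 4241, .fwd 4242, .fwd 4243, .fwd 4244],
   .loop (some (4, 1)) [.bwd 3039, .fwd 4095, .fwd 2669],
   .loop (some (0, 1)) [.fwd 4102, .fwd 4128],
   .loop (some (5, 1)) [.bwd 3231, .fwd 3264, .bwd 3783],
   .loop (some (6, 1)) [.fwd 4237, .fwd 4096, .bwd 4102]]

theorem just16_len : just16.length = 250 := by decide +kernel

theorem just16_ok : cert.okFacts 4000 just16 = true := by decide +kernel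

/-- justifications -/
noncomputable def just17 : List Cert.Just :=
  [.define,
   .loop (some (14, 5)) [.bwd 4250, .bwd 2670, .bwd 2669, .bwd 2668, .bwd 2673, .bwd 4101, .fwd 2670, .fwd 4250],
   .define,
   .loop (some (12, 3)) [.bwd 4250, .bwd 2670, .bwd 2669, .bwd 3783, .bwd 3782, .fwd 4252],
   .define,
   .define,
   .define,
   .define,
   .define,
   .loop (some (13, 7)) [.bwd 4246, .fwd 4249, .fwd 4233, .fwd 4254, .fwd 4255, .fwd 4256, .fwd 4257, .fwd 4258],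
   .loop (some (4, 1)) [.bwd 3040, .bwd 4246, .fwd 2670],
   .loop (some (7, 2)) [.bwd 4246, .bwd 4247, .fwd 4123],
   .loop (some (5, 3)) [.bwd 4100, .bwd 2669, .bwd 3264, .bwd 3922],
   .loop none [.fwd 4262],
   .loop none [.fwd 4083, .fwd 4263, .bwd 3921],
   .loop none [.bwd 4264],
   .loop none [.bwd 3922, .bwd 4263],
   .loop none [.fwd 3854, .fwd 4265, .bwd 4082],
   .loop none [.fwd 4267],
   .loop none [.bwd 4083, .bwd 4265],
   .loop none [.fwd 4081, .bwd 4268],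
   .loop (some (8, 2)) [.bwd 4100, .bwd 4247, .fwd 2703],
   .loop (some (10, 2)) [.fwd 3783, .fwd 2669, .bwd 4247, .fwd 4252],
   .loop (some (6, 2)) [.bwd 4249, .bwd 4247, .fwd 3811],
   .loop (some (3, 1)) [.bwd 2847, .bwd 4249, .fwd 2670],
   .loop (some (14, 5)) [.fwd 4253, .bwd 4250, .bwd 2670, .fwd 4101, .bwd 2672, .bwd 2671, .fwd 4250, .bwd 4253],
   .define,
   .define,
   .define,
   .define,
   .define,
   .loop (some (13, 7)) [.bwd 4260, .fwd 4274, .fwd 3806, .fwd 4276, .fwd 4277, .fwd 4278, .fwd 4279, .fwd 4280],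
   .define,
   .loop (some (4, 2)) [.bwd 4260, .fwd 4250, .fwd 4282],
   .define,
   .define,
   .loop (some (7, 2)) [.bwd 4260, .fwd 4284, .fwd 4285],
   .loop (some (9, 1)) [.fwd 2671, .fwd 3781, .bwd 2671, .fwd 4284],
   .loop none [.fwd 4287],
   .loop none [.bwd 4260, .fwd 4288, .fwd 4285],
   .loop none [.fwd 4289],
   .loop none [.fwd 4284, .bwd 4288],
   .loop none [.bwd 4286, .bwd 4290],
   .loop (some (2, 2)) [.bwd 3918, .bwd 2671, .fwd 4260, .fwd 3041],
   .loop none [.bwd 4293],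
   .loop none [.fwd 3918, .bwd 4294],
   .loop none [.fwd 3540, .bwd 4294],
   .loop (some (8, 2)) [.fwd 3932, .bwd 4291, .bwd 3932],
   .loop (some (1, 2)) [.bwd 2671, .fwd 4274, .fwd 2848],
   .loop (some (6, 2)) [.bwd 4274, .bwd 4291, .fwd 4274],
   .define,
   .loop (some (3, 2)) [.bwd 4274, .fwd 4250, .fwd 4300],
   .define,
   .define,
   .define,
   .define,
   .loop (some (13, 6)) [.bwd 4112, .bwd 4123, .fwd 3811, .fwd 2870, .fwd 4302, .fwd 4303, .fwd 4304, .fwd 4305],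
   .loop (some (4, 1)) [.bwd 3779, .bwd 4123, .fwd 3782],
   .loop (some (5, 1)) [.fwd 4179, .bwd 2703, .fwd 4252],
   .loop (some (10, 2)) [.bwd 4253, .bwd 4252, .bwd 4128, .bwd 3783],
   .loop (some (3, 1)) [.bwd 3741, .bwd 3811, .fwd 3782],
   .define,
   .define,
   .loop (some (13, 6)) [.bwd 4142, .bwd 4152, .bwd 4162, .bwd 2870, .bwd 3810, .bwd 3818, .fwd 4311, .fwd 4312],
   .loop (some (4, 1)) [.bwd 4155, .bwd 4152, .bwd 4179],
   .loop (some (6, 2)) [.fwd 4162, .bwd 4161, .bwd 4020],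
   .define,
   .loop (some (3, 2)) [.fwd 4162, .bwd 4179, .fwd 4316],
   .loop (some (2, 2)) [.bwd 4302, .fwd 2871, .fwd 2714, .bwd 3881],
   .loop none [.bwd 4318],
   .loop none [.fwd 4302, .bwd 4319],
   .loop none [.bwd 4303, .bwd 4319],
   .define,
   .define,
   .loop (some (14, 4)) [.bwd 3329, .bwd 3327, .fwd 3311, .fwd 2879, .bwd 2871, .bwd 4317, .fwd 4322, .fwd 4323],
   .define,
   .loop (some (11, 3)) [.bwd 4321, .fwd 3881, .fwd 2715, .fwd 3717, .fwd 4325],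
   .loop (some (9, 2)) [.fwd 3881, .bwd 4154, .fwd 3421],
   .define,
   .define,
   .define,
   .loop (some (14, 4)) [.bwd 4184, .fwd 3875, .fwd 3608, .bwd 3612, .bwd 3881, .fwd 4328, .fwd 4329, .fwd 4330],
   .loop (some (9, 2)) [.bwd 3717, .bwd 3878, .fwd 3512],
   .loop (some (0, 0)) [.fwd 3901, .fwd 3878],
   .loop (some (2, 2)) [.bwd 3717, .fwd 2716, .bwd 3489],
   .loop (some (9, 2)) [.fwd 3489, .bwd 3337, .bwd 3331],
   .define,
   .define,
   .define,
   .define,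
   .loop (some (13, 6)) [.bwd 4180, .bwd 4191, .bwd 4195, .fwd 2885, .fwd 4336, .fwd 4337, .fwd 4338, .fwd 4339],
   .loop (some (4, 1)) [.bwd 3951, .bwd 4191, .fwd 3903],
   .loop (some (0, 0)) [.fwd 4009, .fwd 4074],
   .loop (some (8, 2)) [.bwd 2730, .bwd 4074, .fwd 2942],
   .loop (some (10, 2)) [.fwd 3931, .bwd 4039, .bwd 4074, .bwd 4025],
   .loop (some (6, 2)) [.fwd 4195, .bwd 4074, .fwd 3487],
   .loop (some (3, 1)) [.bwd 3546, .fwd 4195, .fwd 3903],
   .define,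
   .define,
   .define,
   .define,
   .define,
   .define,
   .define,
   .define,
   .loop (some (13, 8)) [.fwd 4347, .fwd 4348, .fwd 4349, .fwd 4350, .fwd 4351, .fwd 4352, .fwd 4353, .fwd 4354],
   .loop (some (4, 3)) [.fwd 4355, .bwd 4039, .fwd 4191, .bwd 4189],
   .loop none [.bwd 4356],
   .loop none [.bwd 4355, .bwd 4357],
   .loop none [.fwd 4354, .bwd 4357],
   .define,
   .loop (some (7, 2)) [.fwd 4358, .bwd 4343, .fwd 4360],
   .loop (some (0, 1)) [.fwd 4343, .fwd 3841],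
   .loop (some (2, 1)) [.bwd 3829, .fwd 3050, .bwd 2731, .bwd 4358],
   .loop none [.fwd 4363],
   .loop none [.bwd 4358, .bwd 4364],
   .loop none [.bwd 4359, .bwd 4364],
   .loop none [.fwd 4188, .bwd 4364],
   .loop none [.bwd 4189, .bwd 4364],
   .loop none [.fwd 4361, .bwd 4364],
   .loop (some (1, 1)) [.fwd 2886, .bwd 3851, .bwd 2731, .fwd 4347],
   .loop none [.fwd 4370],
   .loop none [.fwd 4347, .bwd 4371],
   .loop none [.fwd 2885, .fwd 4371, .fwd 4348],
   .loop none [.fwd 4373],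
   .loop none [.bwd 4349, .bwd 4374],
   .define,
   .loop (some (6, 2)) [.fwd 4372, .bwd 4343, .fwd 4376],
   .loop (some (3, 2)) [.fwd 4372, .bwd 4039, .bwd 4195],
   .loop (some (7, 2)) [.fwd 3831, .fwd 3050, .bwd 3134, .bwd 2972],
   .loop none [.bwd 4379],
   .loop none [.fwd 3754, .bwd 4380],
   .loop none [.fwd 3929, .bwd 4380],
   .loop none [.bwd 3100, .bwd 4380],
   .loop none [.bwd 3831, .bwd 4380],
   .loop none [.fwd 3671, .bwd 4380],
   .loop (some (6, 1)) [.fwd 3157, .bwd 3851, .bwd 3134],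
   .loop (some (2, 2)) [.bwd 4375, .bwd 2884, .fwd 2734, .fwd 3786],
   .loop none [.bwd 4387],
   .loop none [.fwd 4375, .bwd 4388],
   .loop none [.bwd 4350, .bwd 4388],
   .define,
   .loop (some (14, 3)) [.fwd 3369, .fwd 3489, .fwd 3311, .fwd 2879, .fwd 2895, .fwd 2884, .fwd 3546, .fwd 4391],
   .define,
   .loop (some (11, 3)) [.bwd 4390, .bwd 3786, .fwd 2735, .fwd 4184, .fwd 4393],
   .loop (some (9, 2)) [.bwd 3786, .fwd 3790, .fwd 3443],
   .define,
   .loop (some (14, 3)) [.fwd 3481, .bwd 3717, .fwd 3608, .bwd 3612, .bwd 3788, .fwd 3786, .fwd 3564, .fwd 4396],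
   .loop (some (9, 2)) [.bwd 4184, .fwd 3886, .fwd 3427],
   .loop (some (2, 2)) [.bwd 4184, .fwd 2736, .fwd 3329],
   .define,
   .define,
   .define,
   .loop (some (14, 4)) [.bwd 3786, .fwd 3787, .fwd 3317, .bwd 3876, .fwd 4184, .fwd 4400, .fwd 4401, .fwd 4402],
   .loop (some (9, 2)) [.bwd 3329, .bwd 3332, .fwd 2789],
   .loop (some (14, 1)) [.bwd 3440, .fwd 3542, .bwd 4378, .bwd 2884, .fwd 2897, .fwd 3240, .fwd 3319, .fwd 3329],
   .loop (some (5, 1)) [.fwd 2977, .fwd 3928, .bwd 2765, .fwd 3734],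
   .loop none [.fwd 4406],
   .loop none [.fwd 3078, .bwd 4407],
   .loop none [.fwd 4226, .bwd 4407],
   .loop none [.fwd 3734, .bwd 4407],
   .loop none [.fwd 4407, .bwd 3744, .bwd 4407],
   .loop (some (3, 1)) [.bwd 3401, .bwd 3655, .bwd 3928],
   .loop (some (14, 4)) [.bwd 4367, .bwd 3829, .bwd 4383, .fwd 4382, .fwd 3928, .bwd 3663, .bwd 3450, .fwd 3456, .fwd 3993],
   .loop none [.bwd 4413],
   .loop none [.bwd 3994, .fwd 4414, .bwd 4187],
   .loop none [.fwd 4415],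
   .loop none [.fwd 4367, .bwd 4414],
   .loop none [.fwd 4186, .bwd 4416],
   .loop (some (14, 4)) [.bwd 4115, .bwd 3014, .fwd 3026, .bwd 3401, .bwd 3382, .bwd 3380, .fwd 3427, .fwd 3463],
   .loop (some (9, 2)) [.bwd 3322, .bwd 3340, .fwd 3580],
   .loop (some (2, 2)) [.bwd 4241, .bwd 3322, .bwd 3257, .fwd 3421],
   .loop none [.bwd 4421],
   .loop none [.fwd 4241, .bwd 4422],
   .loop none [.bwd 4242, .bwd 4422],
   .define,
   .loop (some (14, 3)) [.fwd 4392, .bwd 2916, .fwd 2938, .bwd 3336, .fwd 3335, .fwd 3322, .fwd 3323, .fwd 4425],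
   .loop (some (4, 1)) [.bwd 3463, .fwd 3428, .fwd 3439],
   .loop (some (7, 1)) [.fwd 3452, .fwd 3428, .bwd 3437],
   .loop (some (0, 1)) [.fwd 3437, .fwd 4404],
   .loop (some (5, 1)) [.bwd 3364, .bwd 2790, .bwd 3365],
   .define,
   .loop (some (4, 2)) [.bwd 4026, .fwd 3364, .fwd 4431],
   .loop (some (7, 2)) [.bwd 4026, .bwd 4141, .fwd 4334],
   .loop (some (0, 0)) [.fwd 4335, .fwd 4141],
   .loop (some (2, 1)) [.bwd 3533, .bwd 3267, .bwd 2791, .fwd 4026],
   .loop none [.fwd 4435],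
   .loop none [.fwd 4026, .bwd 4436],
   .loop none [.bwd 4027, .bwd 4436],
   .loop none [.bwd 3534, .fwd 4436, .bwd 4432],
   .loop none [.fwd 4439],
   .loop none [.fwd 4433, .bwd 4436],
   .loop none [.fwd 4431, .bwd 4440],
   .loop (some (5, 1)) [.bwd 3439, .fwd 2790, .bwd 3547],
   .loop (some (14, 3)) [.fwd 4324, .fwd 4405, .bwd 3440, .bwd 3439, .bwd 3365, .bwd 3364, .fwd 2791, .bwd 3345, .bwd 3284],
   .loop none [.bwd 4444],
   .loop none [.bwd 3347, .fwd 4445, .bwd 4323],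
   .loop none [.fwd 4446],
   .loop none [.bwd 4324, .bwd 4445],
   .loop none [.bwd 4109, .fwd 4447, .bwd 4322],
   .loop none [.fwd 4449],
   .loop none [.fwd 4316, .bwd 4450],
   .loop none [.bwd 4317, .bwd 4450],
   .define,
   .define,
   .loop (some (14, 4)) [.bwd 3580, .bwd 3435, .fwd 3434, .fwd 3345, .bwd 2791, .fwd 3364, .fwd 4453, .fwd 4454],
   .define,
   .loop (some (11, 4)) [.bwd 3075, .fwd 3049, .fwd 3829, .fwd 4366, .fwd 4456],
   .loop (some (9, 2)) [.bwd 3075, .bwd 4227, .fwd 4224],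
   .loop (some (14, 2)) [.bwd 4224, .bwd 4409, .fwd 4410, .fwd 3743, .bwd 4410, .fwd 4409, .fwd 4225, .fwd 3075, .fwd 3076],
   .loop none [.bwd 4459],
   .loop none [.fwd 4224, .bwd 4460],
   .loop none [.fwd 3076, .fwd 4460, .bwd 3827],
   .loop none [.fwd 4462],
   .loop none [.bwd 4458, .bwd 4460],
   .loop none [.fwd 3750, .fwd 4463, .bwd 3826],
   .loop none [.fwd 4465],
   .loop none [.fwd 3825, .bwd 4466],
   .define,
   .define,
   .define,
   .loop (some (13, 6)) [.fwd 4457, .fwd 4230, .fwd 4096, .bwd 3264, .bwd 4019, .fwd 4468, .fwd 4469, .fwd 4470],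
   .loop (some (4, 1)) [.bwd 3076, .fwd 4230, .fwd 2846],
   .loop (some (5, 1)) [.bwd 3323, .fwd 3339, .bwd 3742],
   .loop (some (14, 5)) [.fwd 4301, .bwd 2847, .bwd 2846, .bwd 2845, .bwd 2850, .bwd 4234, .fwd 2847, .bwd 4301],
   .define,
   .loop (some (12, 3)) [.fwd 4301, .bwd 2847, .bwd 2846, .bwd 3742, .bwd 3741, .fwd 4475],
   .define,
   .define,
   .define,
   .define,
   .define,
   .loop (some (13, 7)) [.bwd 4472, .bwd 4249, .fwd 4100, .fwd 4477, .fwd 4478, .fwd 4479, .fwd 4480, .fwd 4481],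
   .loop (some (4, 1)) [.bwd 3077, .bwd 4472, .fwd 2847],
   .loop (some (7, 2)) [.bwd 4472, .bwd 4273, .bwd 3810],
   .loop (some (5, 3)) [.bwd 4233, .bwd 2846, .bwd 3339, .bwd 3387],
   .loop none [.bwd 4485],
   .loop none [.bwd 4254, .bwd 4486],
   .loop none [.fwd 4233, .bwd 4486],
   .loop none [.fwd 3580, .bwd 4486],
   .loop none [.fwd 3386, .fwd 4486, .bwd 4455],
   .loop none [.fwd 4490],
   .loop none [.bwd 4420, .bwd 4486],
   .loop none [.fwd 4111, .fwd 4491, .bwd 4454],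
   .loop none [.fwd 4493],
   .loop none [.fwd 4453, .bwd 4494],
   .loop (some (8, 2)) [.fwd 4488, .bwd 4273, .fwd 2870],
   .loop (some (10, 2)) [.fwd 3742, .fwd 2846, .bwd 4273, .fwd 4475],
   .loop (some (14, 5)) [.fwd 4476, .fwd 4301, .bwd 2847, .fwd 4234, .bwd 2849, .bwd 2848, .bwd 4301, .bwd 4476],
   .define]

theorem just17_len : just17.length = 250 := by decide +kernel

theorem just17_ok : cert.okFacts 4250 just17 = true := by decide +kernel

/-- justifications -/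
noncomputable def just18 : List Cert.Just :=
  [.define,
   .define,
   .define,
   .define,
   .loop (some (13, 7)) [.bwd 4483, .bwd 4274, .bwd 3932, .fwd 4499, .fwd 4500, .fwd 4501, .fwd 4502, .fwd 4503],
   .define,
   .loop (some (4, 2)) [.bwd 4483, .bwd 4301, .fwd 4505],
   .loop (some (7, 2)) [.bwd 4483, .bwd 4299, .fwd 4483],
   .loop (some (8, 2)) [.bwd 3806, .bwd 4299, .fwd 3806],
   .loop (some (4, 1)) [.bwd 3749, .fwd 3810, .fwd 3741],
   .loop (some (5, 1)) [.fwd 4452, .bwd 2870, .fwd 4475],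
   .loop (some (10, 2)) [.bwd 4476, .bwd 4475, .bwd 3809, .bwd 3742],
   .loop (some (4, 1)) [.bwd 4328, .fwd 4320, .bwd 4452],
   .loop (some (4, 1)) [.bwd 3564, .fwd 4389, .fwd 3546],
   .loop (some (0, 0)) [.fwd 3485, .fwd 4345],
   .loop (some (8, 2)) [.fwd 4377, .bwd 2885, .bwd 4345, .fwd 2917],
   .loop none [.bwd 4515],
   .loop none [.fwd 4376, .bwd 4516],
   .loop none [.bwd 4377, .bwd 4516],
   .loop (some (10, 2)) [.fwd 3542, .bwd 4378, .bwd 4345, .bwd 4392],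
   .loop (some (4, 3)) [.bwd 4336, .bwd 4378, .bwd 4389, .bwd 4403],
   .loop none [.fwd 4520],
   .loop none [.fwd 4402, .bwd 4521],
   .loop none [.bwd 4403, .bwd 4521],
   .define,
   .loop (some (7, 2)) [.bwd 4336, .bwd 4518, .fwd 4524],
   .loop (some (0, 1)) [.fwd 4518, .fwd 4107],
   .loop (some (2, 1)) [.bwd 4115, .bwd 3046, .bwd 2886, .fwd 4336],
   .loop none [.fwd 4527],
   .loop none [.fwd 4336, .bwd 4528],
   .loop none [.bwd 4197, .fwd 4528, .fwd 4337],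
   .loop none [.fwd 4530],
   .loop none [.fwd 4419, .fwd 4528, .fwd 4522],
   .loop none [.fwd 4532],
   .loop none [.bwd 4523, .bwd 4528],
   .loop none [.fwd 4525, .bwd 4528],
   .loop none [.bwd 4338, .bwd 4531],
   .loop none [.bwd 3464, .fwd 4533, .bwd 4401],
   .loop none [.fwd 4537],
   .loop none [.fwd 4400, .bwd 4538],
   .define,
   .define,
   .define,
   .loop (some (13, 6)) [.bwd 3444, .bwd 3473, .bwd 3487, .fwd 2942, .fwd 4360, .fwd 4540, .fwd 4541, .fwd 4542],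
   .loop (some (7, 1)) [.fwd 3470, .bwd 3473, .bwd 3485],
   .define,
   .loop (some (5, 2)) [.bwd 2917, .bwd 4392, .fwd 4545],
   .loop (some (10, 2)) [.fwd 4426, .fwd 4392, .bwd 3485, .fwd 3347],
   .loop (some (6, 1)) [.fwd 4009, .fwd 3487, .bwd 3485],
   .loop (some (12, 2)) [.fwd 4546, .bwd 3721, .bwd 3370, .bwd 3369, .bwd 4392, .bwd 4426],
   .define,
   .define,
   .define,
   .loop (some (13, 7)) [.bwd 4524, .fwd 4517, .bwd 2942, .fwd 4000, .fwd 3970, .fwd 4550, .fwd 4551, .fwd 4552],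
   .define,
   .loop (some (4, 2)) [.bwd 4524, .bwd 4546, .fwd 4554],
   .loop (some (7, 2)) [.bwd 4524, .bwd 4526, .bwd 4108],
   .loop (some (2, 1)) [.fwd 3776, .fwd 4203, .bwd 2918, .fwd 4524],
   .loop none [.fwd 4557],
   .loop none [.fwd 4524, .bwd 4558],
   .loop none [.fwd 4553, .bwd 4558],
   .loop none [.fwd 4555, .bwd 4558],
   .loop none [.fwd 4535, .bwd 4558],
   .loop none [.fwd 4556, .bwd 4558],
   .loop (some (10, 1)) [.fwd 4335, .fwd 3370, .fwd 3721, .bwd 4526],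
   .define,
   .loop (some (3, 2)) [.bwd 4517, .bwd 4546, .fwd 4565],
   .loop (some (14, 2)) [.fwd 3442, .bwd 4564, .bwd 3282, .fwd 2982, .fwd 2990, .bwd 3496, .bwd 2918, .bwd 4546],
   .loop (some (7, 1)) [.fwd 3998, .bwd 4000, .bwd 4009],
   .loop (some (5, 1)) [.fwd 4566, .bwd 2942, .bwd 4025],
   .loop (some (10, 2)) [.fwd 4024, .fwd 4025, .bwd 4009, .fwd 3277],
   .loop (some (12, 2)) [.fwd 4566, .fwd 3849, .bwd 3679, .fwd 4012, .bwd 4025, .bwd 4024],
   .define,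
   .loop (some (4, 2)) [.bwd 4360, .bwd 4566, .fwd 4572],
   .loop (some (7, 2)) [.bwd 4360, .bwd 4362, .fwd 3832],
   .loop (some (2, 1)) [.bwd 4381, .fwd 2972, .bwd 2943, .fwd 4360],
   .loop none [.fwd 4575],
   .loop none [.fwd 4360, .bwd 4576],
   .loop none [.bwd 4540, .bwd 4576],
   .loop none [.fwd 4573, .bwd 4576],
   .loop none [.fwd 4369, .bwd 4576],
   .loop none [.fwd 4574, .bwd 4576],
   .loop (some (10, 1)) [.fwd 4132, .fwd 3679, .bwd 3849, .bwd 4362],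
   .loop (some (14, 2)) [.fwd 3969, .bwd 4582, .bwd 3169, .fwd 3125, .fwd 3112, .bwd 3847, .bwd 2943, .bwd 4566],
   .loop (some (11, 3)) [.fwd 4482, .fwd 4461, .fwd 2971, .fwd 4381, .fwd 4578],
   .loop (some (1, 2)) [.fwd 4461, .fwd 4223, .bwd 4214],
   .loop (some (3, 1)) [.fwd 3042, .bwd 4223, .bwd 4409],
   .loop (some (13, 0)) [.fwd 4204, .fwd 4091, .fwd 3913, .bwd 3047, .fwd 2476, .bwd 2522, .bwd 2944, .bwd 2972],
   .loop (some (1, 2)) [.bwd 4381, .fwd 4587, .bwd 3776],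
   .define,
   .define,
   .loop (some (14, 4)) [.bwd 3815, .fwd 3130, .fwd 3097, .bwd 4383, .fwd 4381, .fwd 4579, .fwd 4589, .fwd 4590],
   .define,
   .loop (some (11, 3)) [.fwd 4504, .bwd 4408, .fwd 2977, .fwd 3927, .fwd 4592],
   .loop (some (8, 2)) [.bwd 2977, .bwd 4411, .fwd 2977],
   .loop (some (1, 2)) [.bwd 4408, .fwd 4586, .bwd 3041],
   .define,
   .define,
   .loop (some (14, 4)) [.bwd 3748, .bwd 3726, .bwd 3735, .bwd 4410, .fwd 4408, .bwd 4506, .fwd 4596, .fwd 4597],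
   .loop (some (9, 2)) [.bwd 3927, .bwd 4594, .fwd 3927],
   .loop (some (2, 3)) [.bwd 3927, .fwd 2978, .bwd 3855, .fwd 4499],
   .loop none [.fwd 4600],
   .loop none [.fwd 4499, .bwd 4601],
   .loop none [.bwd 4592, .fwd 4601, .fwd 4500],
   .loop none [.bwd 4603],
   .loop none [.fwd 4592, .bwd 4604],
   .loop none [.bwd 4593, .bwd 4604],
   .loop (some (1, 2)) [.bwd 3927, .fwd 4412, .fwd 3408],
   .loop (some (6, 2)) [.bwd 4412, .bwd 4594, .fwd 4412],
   .loop (some (14, 2)) [.fwd 3946, .bwd 3561, .fwd 3095, .fwd 3097, .bwd 4383, .fwd 4382, .fwd 3927, .fwd 3923],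
   .loop (some (1, 2)) [.fwd 3855, .fwd 3684, .fwd 3385],
   .loop (some (2, 2)) [.bwd 4276, .bwd 3385, .bwd 3539, .fwd 3408],
   .loop none [.bwd 4611],
   .loop none [.fwd 4276, .bwd 4612],
   .loop none [.bwd 4277, .bwd 4612],
   .loop (some (1, 2)) [.bwd 4115, .fwd 4105, .fwd 3829],
   .loop (some (11, 3)) [.bwd 4560, .fwd 3776, .fwd 4204, .bwd 4214, .bwd 4259],
   .define,
   .define,
   .loop (some (14, 4)) [.bwd 3576, .fwd 2985, .fwd 3008, .bwd 3014, .bwd 3776, .fwd 4561, .fwd 4617, .fwd 4618],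
   .loop (some (11, 3)) [.bwd 4614, .bwd 3408, .bwd 4296, .bwd 3041, .bwd 4281],
   .loop (some (9, 2)) [.bwd 3408, .bwd 4608, .fwd 3408],
   .loop (some (14, 2)) [.fwd 3554, .bwd 3404, .bwd 2989, .fwd 3008, .bwd 3014, .fwd 3026, .fwd 3408, .fwd 3409],
   .define,
   .loop (some (5, 2)) [.fwd 4199, .bwd 3780, .fwd 4623],
   .loop (some (8, 2)) [.fwd 4199, .bwd 4217, .bwd 4259],
   .loop (some (14, 5)) [.fwd 4283, .bwd 3040, .bwd 3039, .bwd 3038, .bwd 3043, .bwd 4214, .fwd 3040, .bwd 4283],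
   .define,
   .loop (some (12, 3)) [.fwd 4283, .bwd 3040, .bwd 3039, .bwd 3780, .bwd 3779, .fwd 4627],
   .loop (some (5, 2)) [.fwd 4259, .bwd 3039, .bwd 4199],
   .loop (some (8, 2)) [.fwd 4259, .bwd 4261, .fwd 4112],
   .loop (some (10, 2)) [.fwd 3780, .fwd 3039, .bwd 4261, .fwd 4627],
   .loop (some (14, 5)) [.fwd 4628, .fwd 4283, .bwd 3040, .fwd 4214, .bwd 3042, .bwd 3041, .bwd 4283, .bwd 4628],
   .loop (some (5, 2)) [.fwd 4281, .bwd 3040, .bwd 4259],
   .loop (some (8, 2)) [.fwd 4281, .bwd 4292, .bwd 4281],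
   .loop (some (3, 1)) [.fwd 4506, .bwd 4595, .bwd 4283],
   .define,
   .loop (some (5, 2)) [.fwd 4457, .bwd 3750, .fwd 4636],
   .loop (some (8, 2)) [.fwd 4457, .bwd 4464, .bwd 4482],
   .loop (some (14, 6)) [.fwd 4506, .bwd 3077, .bwd 3076, .bwd 3075, .bwd 4225, .bwd 4461, .fwd 3077, .bwd 4506, .fwd 4596],
   .loop none [.fwd 4639],
   .loop none [.fwd 4596, .bwd 4640],
   .loop none [.bwd 4597, .bwd 4640],
   .loop (some (5, 2)) [.fwd 4482, .bwd 3076, .bwd 4457],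
   .loop (some (8, 2)) [.fwd 4482, .bwd 4484, .bwd 3818],
   .loop (some (10, 2)) [.fwd 3750, .fwd 3076, .bwd 4484, .bwd 4598],
   .loop (some (14, 5)) [.bwd 4642, .fwd 4506, .bwd 3077, .fwd 4461, .bwd 4409, .fwd 4408, .bwd 4506, .fwd 4642],
   .loop (some (5, 2)) [.fwd 4504, .bwd 3077, .bwd 4482],
   .loop (some (8, 2)) [.fwd 4504, .bwd 4507, .bwd 4504],
   .define,
   .define,
   .define,
   .loop (some (13, 6)) [.bwd 3816, .bwd 3832, .bwd 3850, .fwd 3283, .fwd 4544, .fwd 4649, .fwd 4650, .fwd 4651],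
   .loop (some (4, 1)) [.bwd 3836, .bwd 3832, .fwd 3186],
   .loop (some (10, 2)) [.fwd 3969, .bwd 4582, .bwd 3841, .bwd 3931],
   .loop (some (3, 1)) [.bwd 3297, .fwd 3850, .fwd 3186],
   .define,
   .define,
   .define,
   .loop (some (13, 7)) [.bwd 4568, .bwd 4548, .bwd 3283, .bwd 4108, .bwd 4114, .fwd 4656, .fwd 4657, .fwd 4658],
   .loop (some (4, 3)) [.bwd 4568, .fwd 4176, .bwd 4167, .bwd 4158],
   .loop none [.fwd 4660],
   .loop none [.fwd 3959, .fwd 4661, .bwd 4157],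
   .loop none [.fwd 4662],
   .loop none [.bwd 4158, .bwd 4661],
   .loop none [.bwd 3837, .fwd 4663, .bwd 4156],
   .loop none [.fwd 4665],
   .loop none [.fwd 4314, .bwd 4666],
   .loop none [.fwd 4155, .bwd 4666],
   .loop (some (7, 2)) [.bwd 4568, .bwd 4342, .fwd 4191],
   .loop (some (5, 1)) [.bwd 3186, .fwd 3170, .fwd 3277],
   .loop (some (2, 2)) [.bwd 4477, .bwd 3905, .fwd 3603, .bwd 4609],
   .loop none [.bwd 4671],
   .loop none [.fwd 4477, .bwd 4672],
   .loop none [.bwd 4478, .bwd 4672],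
   .loop (some (1, 2)) [.bwd 3905, .fwd 4021, .bwd 4489],
   .define,
   .define,
   .define,
   .define,
   .define,
   .define,
   .loop (some (13, 7)) [.bwd 4653, .fwd 4655, .fwd 4676, .fwd 4677, .fwd 4678, .fwd 4679, .fwd 4680, .fwd 4681],
   .define,
   .define,
   .loop (some (7, 2)) [.bwd 4653, .fwd 4683, .fwd 4684],
   .define,
   .loop (some (9, 2)) [.bwd 3852, .fwd 4683, .fwd 4686],
   .loop (some (0, 1)) [.bwd 4683, .fwd 4570],
   .loop (some (10, 1)) [.bwd 3606, .bwd 4133, .bwd 4582, .fwd 3186, .fwd 4683],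
   .loop none [.fwd 4689],
   .loop none [.fwd 4062, .fwd 4690, .fwd 4684],
   .loop none [.fwd 4691],
   .loop none [.fwd 4270, .fwd 4690, .fwd 4686],
   .loop none [.fwd 4693],
   .loop none [.fwd 4683, .bwd 4690],
   .loop none [.fwd 4688, .bwd 4690],
   .loop none [.bwd 4685, .bwd 4692],
   .loop none [.bwd 4687, .bwd 4694],
   .loop (some (6, 2)) [.bwd 4655, .bwd 4695, .fwd 4077],
   .define,
   .loop (some (11, 3)) [.bwd 4468, .bwd 3869, .fwd 3210, .bwd 3997, .fwd 4700],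
   .loop (some (9, 2)) [.bwd 3869, .bwd 3947, .bwd 4609],
   .loop (some (1, 2)) [.bwd 3869, .bwd 3507, .fwd 3421],
   .loop (some (6, 1)) [.fwd 3555, .fwd 3507, .bwd 3947],
   .define,
   .loop (some (14, 3)) [.fwd 4194, .bwd 3474, .fwd 3526, .bwd 3595, .fwd 3594, .fwd 3869, .fwd 3870, .fwd 4705],
   .loop (some (9, 2)) [.fwd 3997, .bwd 4001, .fwd 3938],
   .loop (some (2, 2)) [.fwd 3997, .fwd 3211, .bwd 3247],
   .loop (some (1, 2)) [.fwd 3997, .fwd 4148, .fwd 3512],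
   .loop (some (14, 1)) [.fwd 4591, .bwd 3815, .fwd 3670, .bwd 3652, .bwd 3663, .fwd 3480, .fwd 3526, .bwd 3595, .bwd 3997],
   .loop none [.bwd 4710],
   .loop none [.fwd 3996, .fwd 4711, .bwd 4590],
   .loop none [.fwd 4712],
   .loop none [.bwd 4591, .bwd 4711],
   .loop none [.fwd 4589, .bwd 4713],
   .loop (some (1, 2)) [.fwd 3247, .fwd 4022, .bwd 3331],
   .loop (some (4, 1)) [.bwd 3870, .fwd 4019, .fwd 3231],
   .loop (some (3, 1)) [.bwd 3323, .fwd 4020, .fwd 3231],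
   .loop (some (11, 4)) [.bwd 4023, .bwd 4248, .bwd 4129, .fwd 4248, .fwd 4023],
   .define,
   .define,
   .define,
   .loop (some (13, 7)) [.bwd 4717, .fwd 4718, .bwd 4473, .fwd 4509, .fwd 4636, .fwd 4720, .fwd 4721, .fwd 4722],
   .define,
   .define,
   .loop (some (7, 2)) [.bwd 4717, .fwd 4724, .fwd 4725],
   .loop (some (9, 1)) [.bwd 3852, .fwd 4570, .bwd 4023, .fwd 4724],
   .loop none [.fwd 4727],
   .loop none [.fwd 4667, .fwd 4728, .fwd 4725],
   .loop none [.fwd 4729],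
   .loop none [.fwd 4724, .bwd 4728],
   .loop none [.bwd 4726, .bwd 4730],
   .loop (some (0, 0)) [.fwd 4698, .fwd 4731],
   .loop (some (2, 2)) [.bwd 4023, .fwd 4717, .fwd 4705],
   .loop (some (1, 2)) [.bwd 4023, .fwd 4718, .fwd 4425],
   .loop (some (6, 2)) [.bwd 4718, .bwd 4731, .bwd 4451],
   .define,
   .define,
   .define,
   .define,
   .loop (some (13, 6)) [.fwd 4182, .fwd 4167, .bwd 4168, .fwd 3330, .fwd 4737, .fwd 4738, .fwd 4739, .fwd 4740],
   .loop (some (4, 1)) [.fwd 4418, .fwd 4167, .fwd 4173],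
   .loop (some (3, 1)) [.bwd 4405, .fwd 4168, .fwd 4173],
   .define,
   .define,
   .loop (some (13, 6)) [.bwd 4700, .bwd 4708, .bwd 4716, .bwd 3330, .fwd 4399, .fwd 4393, .fwd 4744, .fwd 4745],
   .loop (some (5, 1)) [.bwd 4173, .fwd 3246, .bwd 3969],
   .loop (some (10, 2)) [.fwd 3968, .fwd 3969, .fwd 4133, .bwd 3904],
   .loop (some (2, 2)) [.bwd 4737, .fwd 3331, .fwd 3255, .fwd 3512]]

theorem just18_len : just18.length = 250 := by decide +kernel

theorem just18_ok : cert.okFacts 4500 just18 = true := by decide +kernel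

/-- justifications -/
noncomputable def just19 : List Cert.Just :=
  [.loop none [.bwd 4749],
   .loop none [.fwd 4737, .bwd 4750],
   .loop none [.bwd 4738, .bwd 4750],
   .loop (some (11, 3)) [.bwd 4752, .bwd 3512, .fwd 3256, .fwd 3421, .fwd 4424],
   .loop (some (9, 2)) [.bwd 3512, .bwd 3901, .fwd 3533],
   .loop (some (14, 1)) [.fwd 4619, .bwd 3576, .fwd 3698, .bwd 3702, .bwd 3382, .fwd 3399, .fwd 3349, .bwd 3514, .fwd 3512],
   .loop none [.bwd 4755],
   .loop none [.fwd 3466, .fwd 4756, .bwd 4618],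
   .loop none [.fwd 4757],
   .loop none [.bwd 4619, .bwd 4756],
   .loop none [.fwd 4617, .bwd 4758],
   .loop (some (9, 2)) [.bwd 3421, .bwd 3555, .bwd 4622],
   .define,
   .loop (some (14, 3)) [.fwd 4397, .bwd 3443, .fwd 3349, .bwd 3514, .fwd 3513, .fwd 3421, .fwd 3879, .fwd 4762],
   .define,
   .loop (some (11, 3)) [.bwd 4438, .bwd 3533, .fwd 3268, .bwd 4622, .fwd 4764],
   .loop (some (1, 2)) [.bwd 3533, .bwd 3937, .fwd 3938],
   .loop (some (14, 2)) [.fwd 4120, .fwd 3409, .fwd 4622, .bwd 3891, .fwd 3458, .bwd 3900, .fwd 3533, .fwd 3534],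
   .loop (some (9, 2)) [.fwd 4622, .bwd 3613, .bwd 3881],
   .loop (some (2, 3)) [.fwd 4622, .fwd 3269, .bwd 4489, .fwd 4487],
   .loop none [.fwd 4769],
   .loop none [.fwd 4487, .bwd 4770],
   .loop none [.bwd 4764, .fwd 4770, .fwd 4255],
   .loop none [.bwd 4772],
   .loop none [.fwd 4764, .bwd 4773],
   .loop none [.bwd 4765, .bwd 4773],
   .loop (some (1, 2)) [.fwd 4622, .bwd 4704, .bwd 4609],
   .loop (some (11, 3)) [.bwd 4674, .fwd 4609, .fwd 3280, .fwd 3938, .fwd 4058],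
   .loop (some (9, 2)) [.fwd 4609, .bwd 3958, .bwd 3872],
   .loop (some (14, 2)) [.fwd 3839, .fwd 3923, .fwd 4609, .bwd 3980, .bwd 3992, .fwd 3991, .fwd 3938, .fwd 3599],
   .loop (some (4, 1)) [.bwd 3577, .fwd 4108, .fwd 3297],
   .loop (some (10, 2)) [.fwd 3442, .bwd 4564, .bwd 4107, .bwd 3542],
   .loop (some (4, 3)) [.bwd 4544, .fwd 4448, .fwd 4399, .bwd 4331],
   .loop none [.fwd 4782],
   .loop none [.bwd 3899, .fwd 4783, .bwd 4330],
   .loop none [.fwd 4784],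
   .loop none [.bwd 4331, .bwd 4783],
   .loop none [.bwd 4118, .fwd 4785, .bwd 4329],
   .loop none [.fwd 4787],
   .loop none [.fwd 4512, .bwd 4788],
   .loop none [.fwd 4328, .bwd 4788],
   .loop (some (7, 2)) [.bwd 4544, .bwd 4514, .bwd 4389],
   .loop (some (5, 2)) [.bwd 3297, .fwd 3283, .fwd 3347, .fwd 4676],
   .loop none [.fwd 4792],
   .loop none [.bwd 4780, .fwd 4793, .fwd 4677],
   .loop none [.fwd 4794],
   .loop none [.fwd 4676, .bwd 4793],
   .loop none [.bwd 4678, .bwd 4795],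
   .loop (some (7, 2)) [.bwd 4780, .bwd 4699, .bwd 4442],
   .loop (some (9, 2)) [.bwd 4109, .bwd 4699, .bwd 4495],
   .loop (some (0, 1)) [.fwd 4699, .fwd 4547],
   .loop (some (4, 1)) [.bwd 3879, .fwd 4423, .fwd 3323],
   .loop (some (11, 4)) [.bwd 4425, .bwd 4473, .bwd 4240, .fwd 4473, .fwd 4425],
   .define,
   .define,
   .define,
   .loop (some (13, 7)) [.bwd 4801, .bwd 4718, .bwd 4248, .fwd 4307, .fwd 4623, .fwd 4803, .fwd 4804, .fwd 4805],
   .loop (some (7, 2)) [.bwd 4801, .bwd 4736, .bwd 4789],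
   .loop (some (0, 0)) [.fwd 4799, .fwd 4736],
   .loop (some (2, 2)) [.bwd 4425, .fwd 4801, .fwd 4762],
   .loop (some (4, 1)) [.fwd 4539, .bwd 4399, .fwd 4405],
   .loop (some (5, 1)) [.bwd 4405, .fwd 3330, .bwd 3442],
   .loop (some (10, 2)) [.fwd 3441, .fwd 3442, .bwd 4434, .bwd 3547],
   .define,
   .define,
   .define,
   .define,
   .define,
   .loop (some (13, 7)) [.fwd 4442, .bwd 4077, .bwd 4035, .bwd 4062, .fwd 4814, .fwd 4815, .fwd 4816, .fwd 4817],
   .loop (some (7, 2)) [.fwd 4442, .bwd 4800, .bwd 4809],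
   .loop (some (2, 2)) [.fwd 4495, .bwd 4442, .fwd 4767],
   .loop (some (1, 2)) [.fwd 4495, .bwd 4077, .bwd 4270],
   .loop (some (10, 2)) [.fwd 3547, .fwd 3364, .bwd 4800, .fwd 4549],
   .define,
   .define,
   .define,
   .loop (some (13, 6)) [.bwd 4325, .bwd 4334, .fwd 4140, .bwd 4015, .fwd 4032, .fwd 4823, .fwd 4824, .fwd 4825],
   .loop (some (10, 2)) [.fwd 4392, .fwd 3369, .bwd 4335, .bwd 3442],
   .define,
   .define,
   .define,
   .loop (some (13, 7)) [.bwd 4428, .bwd 4037, .fwd 4015, .bwd 4136, .bwd 4144, .fwd 4828, .fwd 4829, .fwd 4830],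
   .loop (some (7, 2)) [.bwd 4428, .bwd 4429, .fwd 4399],
   .loop (some (11, 3)) [.fwd 4831, .bwd 3451, .fwd 3377, .fwd 3469, .fwd 4649],
   .loop (some (1, 2)) [.bwd 3451, .fwd 3459, .bwd 4007],
   .loop (some (1, 2)) [.bwd 3469, .fwd 3478, .fwd 3990],
   .loop (some (5, 2)) [.fwd 4301, .fwd 3806, .bwd 4111, .fwd 4813],
   .loop none [.fwd 4836],
   .loop none [.fwd 4813, .bwd 4837],
   .define,
   .loop (some (5, 2)) [.bwd 4614, .bwd 4120, .fwd 4839],
   .loop (some (8, 2)) [.bwd 4614, .bwd 4621, .fwd 4614],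
   .loop (some (10, 2)) [.fwd 4119, .fwd 4120, .bwd 4621, .bwd 4120],
   .loop (some (14, 4)) [.bwd 4762, .bwd 3879, .bwd 3410, .bwd 3409, .bwd 3408, .bwd 3026, .bwd 3776, .fwd 4561],
   .loop (some (5, 2)) [.fwd 4774, .bwd 3409, .fwd 4614],
   .loop (some (8, 2)) [.fwd 4774, .bwd 4768, .fwd 4321],
   .loop (some (10, 2)) [.fwd 4120, .fwd 3409, .bwd 4768, .bwd 3880],
   .loop (some (5, 2)) [.bwd 4424, .bwd 3410, .bwd 4774],
   .loop (some (8, 2)) [.bwd 4424, .bwd 4761, .bwd 4774],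
   .loop (some (3, 1)) [.bwd 3870, .bwd 4703, .fwd 3879],
   .loop (some (5, 2)) [.fwd 3446, .bwd 3535, .bwd 4818],
   .loop (some (8, 2)) [.fwd 3446, .bwd 3452, .bwd 4831],
   .loop (some (3, 1)) [.bwd 3993, .fwd 3457, .fwd 3463],
   .define,
   .define,
   .define,
   .define,
   .loop (some (13, 7)) [.bwd 4427, .bwd 4038, .bwd 4063, .fwd 4341, .fwd 4853, .fwd 4854, .fwd 4855, .fwd 4856],
   .define,
   .loop (some (7, 2)) [.bwd 4427, .bwd 4519, .fwd 4858],
   .loop (some (6, 1)) [.fwd 4344, .fwd 4038, .bwd 4519],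
   .define,
   .define,
   .define,
   .define,
   .define,
   .loop (some (13, 7)) [.bwd 4810, .bwd 4743, .bwd 4747, .fwd 4861, .fwd 4862, .fwd 4863, .fwd 4864, .fwd 4865],
   .loop (some (4, 1)) [.bwd 3465, .bwd 4810, .fwd 3441],
   .loop (some (7, 2)) [.bwd 4810, .bwd 4812, .fwd 4513],
   .loop (some (0, 0)) [.fwd 4822, .fwd 4812],
   .loop (some (3, 1)) [.bwd 3968, .fwd 4743, .fwd 3441],
   .define,
   .define,
   .define,
   .define,
   .loop (some (13, 7)) [.bwd 4867, .fwd 4870, .fwd 4747, .fwd 4742, .fwd 4871, .fwd 4872, .fwd 4873, .fwd 4874],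
   .loop (some (7, 2)) [.bwd 4867, .bwd 4781, .fwd 4427],
   .define,
   .loop (some (5, 2)) [.bwd 3444, .bwd 4397, .fwd 4877],
   .loop (some (8, 2)) [.bwd 3444, .bwd 3470, .fwd 4649],
   .loop (some (10, 2)) [.fwd 4763, .fwd 4397, .bwd 3470, .fwd 3899],
   .loop (some (13, 0)) [.bwd 3970, .bwd 4000, .fwd 2942, .bwd 4577, .fwd 4578, .fwd 4541, .fwd 4542, .fwd 4543],
   .define,
   .loop (some (4, 2)) [.fwd 4543, .bwd 4878, .fwd 4882],
   .loop (some (7, 2)) [.fwd 4543, .bwd 4879, .fwd 4650],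
   .define,
   .loop (some (0, 1)) [.fwd 4879, .fwd 4885],
   .loop (some (2, 1)) [.bwd 4073, .bwd 3445, .bwd 4543],
   .loop (some (5, 0)) [.bwd 4325, .bwd 3481, .fwd 3444],
   .loop (some (1, 2)) [.bwd 3445, .fwd 4881, .fwd 3971],
   .define,
   .define,
   .loop (some (10, 3)) [.bwd 4888, .bwd 4879, .fwd 4890, .fwd 4891],
   .define,
   .loop (some (6, 2)) [.bwd 4881, .bwd 4879, .fwd 4893],
   .define,
   .loop (some (3, 2)) [.bwd 4881, .bwd 4878, .fwd 4895],
   .define,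
   .define,
   .define,
   .define,
   .define,
   .loop (some (14, 7)) [.fwd 4878, .fwd 3445, .bwd 4850, .fwd 4897, .fwd 4898, .fwd 4899, .fwd 4900, .fwd 4901],
   .define,
   .loop (some (12, 3)) [.fwd 4901, .fwd 4902, .fwd 4878, .fwd 4888, .bwd 4892, .fwd 4903],
   .loop (some (4, 2)) [.bwd 4073, .bwd 4850, .bwd 4817],
   .loop (some (7, 2)) [.bwd 4073, .bwd 4851, .bwd 4830],
   .define,
   .loop (some (0, 1)) [.fwd 4851, .fwd 4907],
   .loop (some (5, 0)) [.fwd 4857, .bwd 3463, .bwd 3446],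
   .define,
   .define,
   .loop (some (10, 3)) [.bwd 4909, .bwd 4851, .fwd 4910, .fwd 4911],
   .define,
   .loop (some (6, 2)) [.fwd 4889, .bwd 4851, .fwd 4913],
   .define,
   .loop (some (3, 2)) [.fwd 4889, .bwd 4850, .fwd 4915],
   .define,
   .define,
   .define,
   .define,
   .define,
   .loop (some (14, 7)) [.fwd 4850, .bwd 3445, .bwd 4878, .fwd 4917, .fwd 4918, .fwd 4919, .fwd 4920, .fwd 4921],
   .define,
   .loop (some (12, 3)) [.fwd 4921, .fwd 4922, .fwd 4850, .fwd 4909, .bwd 4912, .fwd 4923],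
   .loop (some (5, 3)) [.fwd 4831, .fwd 3893, .fwd 4325, .bwd 4892],
   .loop none [.fwd 4925],
   .loop none [.bwd 4910, .fwd 4926, .fwd 4903],
   .loop none [.bwd 4927],
   .loop none [.bwd 4892, .bwd 4926],
   .loop none [.fwd 4908, .fwd 4926, .bwd 4891],
   .loop none [.bwd 4930],
   .loop none [.fwd 4910, .bwd 4928],
   .loop none [.bwd 4911, .bwd 4928],
   .loop none [.bwd 4908, .bwd 4931],
   .loop none [.fwd 4907, .bwd 4931],
   .loop (some (8, 2)) [.fwd 4934, .fwd 4831, .bwd 4832, .fwd 4393],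
   .loop none [.bwd 4936],
   .loop none [.fwd 4890, .bwd 4937],
   .loop none [.bwd 4934, .bwd 4937],
   .loop none [.bwd 4935, .bwd 4937],
   .loop (some (6, 2)) [.fwd 4834, .bwd 4832, .fwd 4185],
   .loop (some (5, 2)) [.fwd 4916, .fwd 3972, .bwd 3600, .fwd 4814],
   .loop none [.bwd 4942],
   .loop none [.fwd 4915, .bwd 4943],
   .loop none [.bwd 4916, .bwd 4943],
   .loop (some (8, 2)) [.fwd 4914, .fwd 3972, .bwd 4008, .fwd 4823],
   .loop none [.bwd 4946],
   .loop none [.fwd 4913, .bwd 4947],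
   .loop none [.bwd 4914, .bwd 4947],
   .loop (some (11, 3)) [.bwd 4823, .fwd 4007, .bwd 3987, .fwd 3990, .bwd 4659],
   .define,
   .define,
   .loop (some (11, 3)) [.fwd 4866, .bwd 3464, .bwd 4857, .fwd 4951, .fwd 4952],
   .define,
   .define,
   .define,
   .define,
   .loop (some (13, 5)) [.bwd 4513, .fwd 4443, .fwd 4427, .fwd 4852, .fwd 4954, .fwd 4955, .fwd 4956, .fwd 4957],
   .loop (some (9, 1)) [.bwd 4396, .fwd 4868, .bwd 3464, .bwd 4859],
   .loop none [.fwd 4959],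
   .loop none [.fwd 4858, .bwd 4960],
   .loop none [.bwd 4859, .bwd 4960],
   .loop (some (0, 1)) [.fwd 4962, .fwd 4876],
   .loop (some (8, 2)) [.fwd 4857, .bwd 4962, .fwd 4877],
   .loop (some (1, 2)) [.bwd 3464, .fwd 4852, .fwd 3994],
   .define,
   .loop (some (6, 2)) [.bwd 4852, .bwd 4962, .fwd 4966],
   .define,
   .loop (some (0, 1)) [.fwd 4868, .fwd 4968],
   .loop (some (5, 2)) [.fwd 4866, .fwd 4539, .fwd 4393],
   .loop (some (8, 2)) [.fwd 4866, .bwd 4868, .bwd 4958],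
   .define,
   .loop (some (6, 2)) [.fwd 4965, .bwd 4868, .fwd 4972],
   .loop (some (3, 1)) [.bwd 3995, .fwd 4965, .fwd 3465],
   .define,
   .define,
   .define,
   .loop (some (11, 4)) [.bwd 4760, .bwd 4875, .fwd 4975, .fwd 4976, .fwd 4977],
   .loop (some (13, 1)) [.fwd 4862, .fwd 4863, .fwd 4864, .fwd 4865, .fwd 4866, .bwd 4810, .bwd 4811, .fwd 4867, .fwd 4974],
   .loop none [.bwd 4979],
   .loop none [.fwd 4861, .bwd 4980],
   .loop none [.bwd 4862, .bwd 4980],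
   .loop (some (9, 3)) [.bwd 4760, .bwd 4876, .fwd 3464, .fwd 4968],
   .loop none [.fwd 4983],
   .loop none [.bwd 4969, .bwd 4984],
   .loop none [.fwd 4968, .bwd 4984],
   .loop (some (5, 2)) [.fwd 4875, .bwd 3465, .bwd 4866],
   .loop (some (8, 2)) [.fwd 4875, .bwd 4876, .bwd 4857],
   .loop (some (1, 2)) [.bwd 4760, .fwd 4974, .fwd 4715],
   .loop (some (6, 2)) [.bwd 4974, .bwd 4876, .fwd 4852],
   .loop (some (5, 2)) [.bwd 4752, .bwd 3466, .bwd 4875],
   .loop (some (8, 2)) [.bwd 4752, .bwd 4754, .fwd 4438],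
   .loop (some (5, 2)) [.bwd 4649, .fwd 3899, .fwd 4797],
   .loop (some (8, 2)) [.fwd 4886, .bwd 4649, .bwd 4791, .fwd 4390],
   .loop none [.bwd 4994],
   .loop none [.bwd 4886, .bwd 4995],
   .loop none [.fwd 4885, .bwd 4995],
   .loop (some (5, 1)) [.fwd 4896, .bwd 3970, .bwd 4194],
   .loop (some (8, 2)) [.fwd 4894, .bwd 3970, .bwd 3998, .bwd 4659]]

theorem just19_len : just19.length = 250 := by decide +kernel

theorem just19_ok : cert.okFacts 4750 just19 = true := by decide +kernel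

/-- justifications -/
noncomputable def just20 : List Cert.Just :=
  [.loop none [.bwd 4999],
   .loop none [.fwd 4893, .bwd 5000],
   .loop none [.bwd 4894, .bwd 5000],
   .loop (some (10, 2)) [.fwd 4706, .fwd 4194, .bwd 3998, .bwd 3959],
   .loop (some (12, 2)) [.bwd 4579, .bwd 3753, .bwd 3752, .fwd 4004, .bwd 4194, .bwd 4706],
   .loop (some (8, 2)) [.bwd 4325, .bwd 4332, .fwd 4752],
   .loop (some (5, 2)) [.bwd 4438, .bwd 3565, .bwd 4958],
   .loop (some (8, 2)) [.bwd 4438, .fwd 4441, .fwd 4325],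
   .loop (some (3, 1)) [.bwd 3599, .fwd 4766, .fwd 3534],
   .define,
   .loop (some (11, 3)) [.bwd 4839, .bwd 4767, .bwd 4818, .fwd 4897, .fwd 5009],
   .loop (some (5, 2)) [.fwd 4922, .fwd 4818, .bwd 3534, .fwd 4438],
   .loop none [.bwd 5011],
   .loop none [.bwd 4922, .bwd 5012],
   .loop none [.fwd 5006, .fwd 5012, .bwd 4921],
   .loop none [.bwd 5014],
   .loop none [.fwd 4957, .bwd 5015],
   .loop none [.bwd 4958, .bwd 5015],
   .loop none [.bwd 5006, .bwd 5015],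
   .loop none [.bwd 4971, .bwd 5015],
   .define,
   .loop (some (8, 2)) [.fwd 4818, .bwd 4819, .fwd 5020],
   .loop (some (1, 2)) [.bwd 4767, .fwd 5008, .fwd 4779],
   .define,
   .loop (some (6, 2)) [.bwd 5008, .bwd 4819, .fwd 5023],
   .loop (some (6, 2)) [.fwd 4346, .bwd 4822, .fwd 4565],
   .loop (some (5, 2)) [.bwd 4390, .bwd 4534, .fwd 4197],
   .loop (some (3, 2)) [.bwd 3951, .bwd 4192, .fwd 3564, .fwd 4972],
   .loop none [.fwd 5027],
   .loop none [.fwd 4972, .bwd 5028],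
   .loop none [.bwd 4973, .bwd 5028],
   .loop (some (11, 2)) [.bwd 4917, .bwd 4877, .bwd 4396, .bwd 5017, .bwd 4920],
   .loop (some (5, 2)) [.fwd 4924, .fwd 5017, .bwd 3564, .fwd 4390],
   .loop none [.bwd 5032],
   .loop none [.bwd 4924, .bwd 5033],
   .loop none [.fwd 5026, .fwd 5033, .bwd 4923],
   .loop none [.fwd 5035],
   .loop none [.bwd 4912, .bwd 5036],
   .loop none [.fwd 4933, .bwd 5036],
   .loop (some (8, 2)) [.fwd 5017, .bwd 4985, .bwd 4978],
   .loop (some (1, 2)) [.bwd 4966, .bwd 4396, .bwd 5029, .fwd 4193],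
   .loop none [.bwd 5040],
   .loop none [.fwd 4966, .bwd 5041],
   .loop none [.bwd 4967, .bwd 5041],
   .loop (some (6, 2)) [.fwd 5029, .bwd 4985, .bwd 4989],
   .loop (some (5, 2)) [.fwd 4114, .bwd 4759, .fwd 4752],
   .loop (some (8, 2)) [.fwd 4114, .bwd 4116, .fwd 4197],
   .loop (some (3, 1)) [.bwd 3836, .bwd 3833, .fwd 3577],
   .define,
   .define,
   .define,
   .loop (some (11, 4)) [.bwd 4118, .fwd 4797, .fwd 5048, .fwd 5049, .fwd 5050],
   .loop (some (5, 2)) [.bwd 4797, .bwd 3577, .bwd 4114],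
   .loop (some (8, 2)) [.bwd 4797, .bwd 4798, .bwd 4818],
   .loop (some (1, 2)) [.bwd 4118, .fwd 5047, .fwd 3837],
   .loop (some (5, 2)) [.bwd 4058, .bwd 3952, .fwd 4853],
   .loop (some (8, 2)) [.bwd 4058, .bwd 4137, .bwd 4144],
   .define,
   .define,
   .define,
   .loop (some (11, 4)) [.bwd 4779, .fwd 4814, .fwd 5057, .fwd 5058, .fwd 5059],
   .loop (some (7, 1)) [.fwd 4734, .bwd 4696, .bwd 4062, .bwd 5024],
   .loop none [.fwd 5061],
   .loop none [.fwd 5023, .bwd 5062],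
   .loop none [.bwd 5024, .bwd 5062],
   .loop (some (9, 2)) [.bwd 4779, .bwd 5064, .bwd 4705],
   .loop (some (2, 2)) [.bwd 4779, .fwd 4062, .bwd 4270],
   .loop (some (5, 2)) [.bwd 4814, .bwd 3599, .fwd 4058],
   .define,
   .loop (some (8, 2)) [.bwd 4814, .bwd 5064, .fwd 5068],
   .define,
   .loop (some (10, 2)) [.fwd 4025, .bwd 4012, .bwd 4132, .bwd 3969],
   .loop (some (7, 1)) [.fwd 4645, .bwd 4509, .bwd 4497],
   .loop (some (0, 1)) [.fwd 4497, .fwd 4511],
   .loop (some (6, 1)) [.fwd 4272, .fwd 4310, .bwd 4497],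
   .define,
   .loop (some (5, 2)) [.fwd 3818, .bwd 4598, .fwd 5075],
   .loop (some (8, 2)) [.fwd 3818, .bwd 3819, .bwd 4457],
   .loop (some (10, 2)) [.fwd 4642, .fwd 4598, .bwd 3819, .bwd 3750],
   .loop (some (3, 1)) [.bwd 3779, .fwd 3823, .fwd 3749],
   .define,
   .loop (some (11, 2)) [.bwd 5080, .bwd 4636, .fwd 4467, .fwd 4636, .fwd 5080],
   .loop (some (0, 1)) [.fwd 4645, .fwd 5078],
   .loop (some (5, 2)) [.bwd 4636, .bwd 3749, .bwd 3818],
   .loop (some (8, 2)) [.bwd 4636, .bwd 4645, .fwd 5075],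
   .loop (some (6, 1)) [.fwd 4631, .bwd 5079, .bwd 4645],
   .loop (some (5, 2)) [.fwd 4144, .fwd 4004, .fwd 3970],
   .loop (some (8, 2)) [.fwd 4144, .bwd 4145, .fwd 4700],
   .loop (some (10, 2)) [.fwd 4194, .bwd 4004, .bwd 4145, .bwd 3996],
   .loop (some (5, 2)) [.bwd 4823, .bwd 3752, .bwd 4144],
   .loop (some (8, 2)) [.bwd 4823, .bwd 4941, .bwd 4182],
   .loop (some (5, 2)) [.bwd 4578, .bwd 3753, .fwd 4823],
   .loop (some (8, 2)) [.bwd 4578, .fwd 4581, .fwd 3816],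
   .loop (some (5, 3)) [.bwd 4560, .bwd 3894, .bwd 4831, .bwd 4932],
   .loop none [.fwd 5093],
   .loop none [.bwd 4904, .bwd 5094],
   .loop none [.bwd 4932, .bwd 5094],
   .loop none [.fwd 5038, .bwd 5094],
   .loop (some (8, 2)) [.bwd 4560, .fwd 4563, .bwd 4114],
   .define,
   .loop (some (5, 2)) [.bwd 4112, .fwd 4627, .fwd 5099],
   .loop (some (8, 2)) [.bwd 4112, .bwd 4121, .bwd 4199],
   .loop (some (10, 2)) [.bwd 4628, .bwd 4627, .bwd 4121, .bwd 3780],
   .define,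
   .loop (some (11, 2)) [.bwd 5103, .bwd 4623, .fwd 4220, .fwd 4623, .fwd 5103],
   .loop (some (7, 1)) [.fwd 4272, .fwd 4307, .bwd 4631],
   .loop (some (0, 1)) [.fwd 4631, .fwd 5102],
   .loop (some (5, 2)) [.bwd 4623, .bwd 3779, .fwd 4112],
   .loop (some (8, 2)) [.bwd 4623, .bwd 4631, .fwd 5099],
   .loop (some (0, 1)) [.fwd 4272, .fwd 4309],
   .loop (some (5, 2)) [.bwd 3816, .bwd 4714, .fwd 4700],
   .loop (some (8, 2)) [.bwd 3816, .bwd 3830, .fwd 4366],
   .loop (some (13, 0)) [.fwd 4114, .fwd 4108, .fwd 3283, .fwd 4544, .fwd 4649, .fwd 4650, .fwd 4651, .fwd 4652],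
   .loop (some (4, 2)) [.fwd 4652, .bwd 5110, .bwd 4746],
   .loop (some (7, 2)) [.fwd 4652, .bwd 5111, .bwd 4353],
   .loop (some (0, 1)) [.fwd 5111, .fwd 5092],
   .loop (some (2, 1)) [.bwd 4311, .bwd 3817, .bwd 4652],
   .loop (some (5, 0)) [.fwd 4682, .bwd 3836, .fwd 3816],
   .loop (some (1, 2)) [.bwd 3817, .fwd 5112, .bwd 4113],
   .define,
   .define,
   .loop (some (10, 3)) [.bwd 5117, .bwd 5111, .fwd 5119, .fwd 5120],
   .loop (some (6, 1)) [.fwd 5046, .bwd 5112, .bwd 5111],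
   .loop (some (3, 1)) [.fwd 5045, .bwd 5112, .bwd 5110],
   .define,
   .define,
   .define,
   .define,
   .define,
   .loop (some (14, 7)) [.fwd 5110, .fwd 3817, .bwd 5076, .fwd 5124, .fwd 5125, .fwd 5126, .fwd 5127, .fwd 5128],
   .define,
   .loop (some (12, 3)) [.fwd 5128, .fwd 5129, .fwd 5110, .fwd 5117, .bwd 5121, .fwd 5130],
   .define,
   .loop (some (4, 2)) [.bwd 4311, .bwd 5076, .fwd 5132],
   .loop (some (7, 2)) [.bwd 4311, .bwd 5077, .bwd 4471],
   .loop (some (6, 1)) [.fwd 5101, .fwd 5118, .bwd 5077],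
   .loop (some (3, 1)) [.fwd 5100, .fwd 5118, .bwd 5076],
   .define,
   .define,
   .define,
   .define,
   .loop (some (14, 7)) [.fwd 5076, .bwd 3817, .bwd 5110, .fwd 4701, .fwd 5137, .fwd 5138, .fwd 5139, .fwd 5140],
   .loop (some (12, 4)) [.fwd 5140, .fwd 5141, .fwd 5076, .fwd 5083, .fwd 4637, .fwd 4643, .fwd 4647],
   .loop none [.bwd 5142],
   .loop none [.fwd 4606, .fwd 5143, .bwd 5139],
   .loop none [.fwd 5144],
   .loop none [.bwd 5140, .bwd 5143],
   .loop none [.fwd 5138, .bwd 5145],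
   .loop (some (5, 2)) [.bwd 4366, .bwd 4417, .fwd 4954],
   .define,
   .define,
   .define,
   .loop (some (11, 4)) [.bwd 3837, .bwd 4682, .fwd 5149, .fwd 5150, .fwd 5151],
   .loop (some (9, 2)) [.bwd 3837, .bwd 4697, .fwd 4779],
   .loop (some (8, 2)) [.fwd 4682, .bwd 4697, .fwd 4814],
   .define,
   .define,
   .loop (some (13, 4)) [.bwd 5099, .fwd 5105, .fwd 4308, .bwd 4667, .fwd 5054, .bwd 5051, .fwd 5155, .fwd 5156],
   .loop (some (5, 2)) [.fwd 5152, .fwd 4668, .fwd 4142],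
   .loop (some (8, 2)) [.fwd 5152, .bwd 5153, .bwd 5060],
   .define,
   .define,
   .define,
   .define,
   .loop (some (13, 6)) [.bwd 5070, .fwd 5066, .fwd 5022, .fwd 4839, .fwd 5160, .fwd 5161, .fwd 5162, .fwd 5163],
   .loop (some (5, 2)) [.fwd 5060, .bwd 3838, .bwd 5152],
   .loop (some (8, 2)) [.fwd 5060, .bwd 5065, .bwd 4723],
   .loop (some (5, 2)) [.fwd 4605, .bwd 3839, .bwd 5060],
   .loop (some (8, 2)) [.fwd 4605, .bwd 4599, .bwd 4605],
   .define,
   .loop (some (13, 6)) [.fwd 5152, .fwd 4667, .bwd 4451, .bwd 4510, .fwd 5072, .fwd 5075, .fwd 5132, .fwd 5169],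
   .loop (some (8, 2)) [.fwd 5109, .fwd 4308, .bwd 4698, .fwd 5070],
   .loop none [.fwd 5171],
   .loop none [.bwd 4282, .fwd 5172, .bwd 5164],
   .loop none [.fwd 5173],
   .loop none [.fwd 5070, .bwd 5172],
   .loop none [.fwd 5163, .bwd 5174],
   .define,
   .define,
   .define,
   .loop (some (13, 6)) [.fwd 5060, .bwd 5066, .fwd 4821, .bwd 4838, .fwd 4505, .fwd 5177, .fwd 5178, .fwd 5179],
   .loop (some (5, 2)) [.bwd 5137, .bwd 4468, .bwd 3924, .fwd 4674],
   .loop none [.bwd 5181],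
   .loop none [.fwd 5137, .bwd 5182],
   .loop none [.fwd 5147, .bwd 5182],
   .loop (some (8, 2)) [.bwd 4468, .bwd 4702, .fwd 4674],
   .define,
   .define,
   .loop (some (11, 3)) [.bwd 5068, .bwd 4705, .bwd 4723, .fwd 5186, .fwd 5187],
   .loop (some (5, 2)) [.fwd 4723, .bwd 3870, .fwd 4468],
   .loop (some (8, 2)) [.fwd 4723, .bwd 4732, .bwd 5152],
   .loop (some (5, 2)) [.bwd 4142, .bwd 3871, .bwd 4723],
   .loop (some (8, 2)) [.bwd 4142, .bwd 4151, .fwd 4468],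
   .define,
   .define,
   .loop (some (11, 3)) [.bwd 5020, .bwd 4762, .bwd 4806, .fwd 5193, .fwd 5194],
   .loop (some (5, 2)) [.fwd 4806, .bwd 3879, .fwd 4424],
   .loop (some (8, 2)) [.fwd 4806, .bwd 4807, .bwd 5051],
   .loop (some (5, 2)) [.bwd 4321, .bwd 3880, .bwd 4806],
   .loop (some (8, 2)) [.bwd 4321, .bwd 4327, .fwd 4424],
   .loop (some (0, 1)) [.fwd 5025, .fwd 4748],
   .loop (some (2, 2)) [.bwd 4196, .fwd 4341, .fwd 4193],
   .loop (some (8, 2)) [.bwd 4674, .bwd 4778, .fwd 4142],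
   .loop (some (5, 3)) [.bwd 4180, .bwd 4368, .fwd 4366, .fwd 5119],
   .loop none [.fwd 5203],
   .loop none [.fwd 5119, .bwd 5204],
   .loop none [.bwd 5120, .bwd 5204],
   .loop (some (8, 2)) [.bwd 4180, .bwd 4190, .fwd 3970],
   .define,
   .define,
   .loop (some (11, 3)) [.bwd 4998, .bwd 4193, .fwd 4853, .fwd 5208, .fwd 5209],
   .loop (some (0, 1)) [.fwd 5044, .fwd 5030],
   .loop (some (5, 2)) [.bwd 4853, .bwd 3951, .fwd 4180],
   .define,
   .loop (some (8, 2)) [.bwd 4853, .bwd 5044, .fwd 5213],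
   .loop (some (5, 3)) [.fwd 4659, .bwd 3959, .bwd 4682, .bwd 5121],
   .loop none [.fwd 5215],
   .loop none [.bwd 5130, .bwd 5216],
   .loop none [.bwd 5121, .bwd 5216],
   .loop none [.fwd 5206, .bwd 5216],
   .define,
   .loop (some (4, 2)) [.bwd 4550, .bwd 4896, .fwd 5220],
   .loop (some (7, 2)) [.bwd 4550, .bwd 5002, .bwd 4658],
   .loop (some (2, 1)) [.fwd 4030, .bwd 3971, .fwd 4550],
   .loop (some (10, 2)) [.fwd 5090, .bwd 5089, .bwd 5086, .bwd 5002, .fwd 5217],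
   .loop none [.fwd 5224],
   .loop none [.bwd 5131, .bwd 5225],
   .loop none [.fwd 5217, .bwd 5225],
   .define,
   .define,
   .define,
   .define,
   .loop (some (14, 7)) [.fwd 4896, .fwd 3971, .bwd 4945, .fwd 5057, .fwd 5228, .fwd 5229, .fwd 5230, .fwd 5231],
   .loop (some (12, 3)) [.fwd 5231, .fwd 5232, .fwd 4896, .fwd 5086, .fwd 5089, .fwd 5091],
   .loop (some (4, 2)) [.fwd 4030, .bwd 4945, .fwd 4815],
   .loop (some (7, 2)) [.fwd 4030, .bwd 4949, .fwd 4824],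
   .loop (some (0, 0)) [.fwd 5090, .fwd 4949],
   .loop (some (5, 0)) [.bwd 4954, .bwd 3993, .bwd 3972],
   .define,
   .loop (some (14, 4)) [.bwd 5208, .fwd 5055, .fwd 5067, .fwd 4945, .bwd 3971, .bwd 4896, .bwd 5210, .fwd 5238],
   .define,
   .define,
   .loop (some (11, 3)) [.bwd 4871, .bwd 3994, .fwd 4954, .fwd 5240, .fwd 5241],
   .loop (some (8, 2)) [.bwd 4954, .bwd 5043, .fwd 4998],
   .loop (some (5, 3)) [.bwd 4871, .fwd 4418, .bwd 4182, .fwd 5226],
   .loop none [.fwd 5244],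
   .loop none [.fwd 5242, .fwd 5245, .bwd 5127],
   .loop none [.bwd 5246],
   .loop none [.bwd 5128, .bwd 5245],
   .loop none [.fwd 5226, .bwd 5245]]

theorem just20_len : just20.length = 250 := by decide +kernel

theorem just20_ok : cert.okFacts 5000 just20 = true := by decide +kernel

/-- justifications -/
noncomputable def just21 : List Cert.Just :=
  [.loop none [.fwd 5241, .bwd 5247],
   .loop none [.bwd 5242, .bwd 5247],
   .loop (some (8, 2)) [.bwd 4871, .bwd 5030, .fwd 4853],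
   .define,
   .define,
   .loop (some (11, 3)) [.bwd 5213, .bwd 4715, .fwd 4982, .fwd 5253, .fwd 5254],
   .loop (some (5, 3)) [.bwd 4982, .bwd 3995, .fwd 4871, .fwd 5248],
   .loop none [.fwd 5256],
   .loop none [.bwd 5129, .bwd 5257],
   .loop none [.fwd 5248, .bwd 5257],
   .loop (some (8, 2)) [.bwd 4982, .bwd 4990, .fwd 4954],
   .loop (some (8, 2)) [.bwd 4700, .bwd 4707, .fwd 4058],
   .define,
   .define,
   .loop (some (13, 6)) [.bwd 5068, .fwd 4734, .bwd 4735, .bwd 4802, .bwd 4809, .fwd 5020, .fwd 5262, .fwd 5263],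
   .define,
   .loop (some (13, 5)) [.bwd 5220, .bwd 4998, .fwd 5201, .bwd 4860, .fwd 4545, .fwd 4554, .bwd 4978, .fwd 5265],
   .loop (some (13, 0)) [.bwd 4058, .fwd 4057, .bwd 2568, .bwd 3966, .bwd 3972, .bwd 4030, .bwd 4029, .bwd 4028],
   .loop (some (4, 2)) [.bwd 4028, .bwd 5018, .fwd 5016],
   .loop (some (7, 2)) [.bwd 4028, .bwd 5007, .bwd 4826],
   .loop (some (2, 1)) [.bwd 4256, .fwd 4775, .fwd 4028],
   .loop (some (1, 2)) [.fwd 4775, .fwd 5267, .fwd 4777],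
   .loop (some (6, 1)) [.fwd 5056, .bwd 5267, .bwd 5007],
   .loop (some (3, 1)) [.fwd 5055, .bwd 5267, .bwd 5018],
   .loop (some (11, 3)) [.bwd 4257, .bwd 5270, .fwd 4029, .bwd 5223, .fwd 4551],
   .loop (some (13, 0)) [.bwd 4045, .bwd 4073, .fwd 3446, .fwd 3428, .fwd 2790, .bwd 4437, .fwd 4438, .fwd 4028],
   .define,
   .loop (some (9, 2)) [.bwd 5270, .bwd 5269, .fwd 5276],
   .define,
   .loop (some (0, 1)) [.fwd 5269, .fwd 5278],
   .loop (some (5, 0)) [.bwd 4816, .fwd 5234, .bwd 4029],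
   .define,
   .loop (some (1, 2)) [.bwd 5270, .fwd 5275, .fwd 5281],
   .loop (some (10, 1)) [.fwd 4906, .bwd 4905, .bwd 5280, .bwd 5269],
   .define,
   .loop (some (6, 2)) [.bwd 5275, .bwd 5269, .fwd 5284],
   .define,
   .loop (some (3, 2)) [.bwd 5275, .bwd 5268, .fwd 5286],
   .define,
   .define,
   .define,
   .define,
   .define,
   .define,
   .loop (some (14, 7)) [.fwd 5268, .fwd 5270, .fwd 5288, .fwd 5289, .fwd 5290, .fwd 5291, .fwd 5292, .fwd 5293],
   .define,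
   .loop (some (12, 3)) [.fwd 5293, .fwd 5294, .fwd 5268, .fwd 5280, .fwd 4905, .fwd 5295],
   .loop (some (13, 0)) [.fwd 4045, .fwd 4046, .bwd 4058, .fwd 4057, .bwd 2568, .bwd 3966, .bwd 3972, .bwd 4030],
   .loop (some (9, 1)) [.fwd 5222, .fwd 5223, .bwd 5235],
   .define,
   .loop (some (0, 1)) [.fwd 5235, .fwd 5299],
   .loop (some (5, 0)) [.fwd 4956, .fwd 5268, .fwd 4029],
   .loop (some (1, 2)) [.fwd 5223, .fwd 5297, .bwd 4887],
   .define,
   .define,
   .loop (some (10, 3)) [.bwd 5301, .bwd 5235, .fwd 5303, .fwd 5304],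
   .loop (some (6, 1)) [.fwd 4906, .bwd 5297, .bwd 5235],
   .loop (some (3, 1)) [.fwd 4905, .bwd 5297, .bwd 5234],
   .define,
   .define,
   .define,
   .define,
   .define,
   .loop (some (14, 7)) [.fwd 5234, .bwd 5223, .bwd 5221, .fwd 5308, .fwd 5309, .fwd 5310, .fwd 5311, .fwd 5312],
   .define,
   .loop (some (12, 3)) [.fwd 5312, .fwd 5313, .fwd 5234, .fwd 5301, .bwd 5305, .fwd 5314],
   .define,
   .loop (some (11, 3)) [.fwd 4542, .fwd 4887, .fwd 4045, .fwd 5281, .fwd 5316],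
   .loop (some (9, 1)) [.fwd 4884, .fwd 4887, .bwd 4906],
   .define,
   .loop (some (0, 1)) [.fwd 4906, .fwd 5319],
   .loop (some (5, 1)) [.fwd 5287, .bwd 4045, .fwd 5295],
   .loop (some (8, 2)) [.fwd 5285, .bwd 4045, .bwd 4906, .bwd 4829],
   .loop none [.bwd 5322],
   .loop none [.fwd 5284, .bwd 5323],
   .loop none [.bwd 5285, .bwd 5323],
   .define,
   .loop (some (10, 2)) [.bwd 5296, .bwd 5295, .bwd 4906, .fwd 5326],
   .define,
   .define,
   .define,
   .loop (some (14, 5)) [.fwd 5268, .fwd 5280, .fwd 4905, .bwd 4887, .bwd 4883, .fwd 5328, .fwd 5329, .fwd 5330],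
   .loop (some (4, 1)) [.bwd 4854, .fwd 5055, .bwd 4046, .bwd 5287],
   .loop none [.fwd 5332],
   .loop none [.fwd 5286, .bwd 5333],
   .loop none [.bwd 4855, .fwd 5333, .bwd 5321],
   .loop none [.fwd 5335],
   .loop none [.bwd 5287, .bwd 5333],
   .loop none [.bwd 5296, .bwd 5336],
   .loop none [.fwd 5295, .bwd 5336],
   .define,
   .loop (some (9, 2)) [.bwd 5281, .bwd 5325, .fwd 5340],
   .define,
   .loop (some (0, 1)) [.fwd 5325, .fwd 5342],
   .loop (some (2, 3)) [.bwd 5281, .fwd 4046, .fwd 4777, .fwd 4479],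
   .loop none [.bwd 5344],
   .loop none [.bwd 5282, .bwd 5345],
   .loop none [.bwd 4480, .fwd 5345, .fwd 5316],
   .loop none [.fwd 5347],
   .loop none [.fwd 5281, .bwd 5345],
   .loop none [.fwd 5341, .bwd 5345],
   .loop none [.bwd 5317, .bwd 5348],
   .loop (some (5, 0)) [.fwd 5313, .fwd 4816, .fwd 4905, .fwd 4045],
   .loop none [.bwd 5352],
   .loop none [.bwd 5313, .bwd 5353],
   .loop none [.fwd 5337, .fwd 5353, .bwd 5312],
   .loop none [.fwd 5355],
   .loop none [.fwd 5311, .bwd 5356],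
   .loop none [.fwd 5315, .bwd 5356],
   .loop (some (10, 1)) [.fwd 5235, .bwd 5234, .bwd 5354, .bwd 5325],
   .define,
   .define,
   .define,
   .define,
   .loop (some (14, 5)) [.fwd 5314, .bwd 5358, .fwd 5337, .bwd 5349, .fwd 5360, .fwd 5361, .fwd 5362, .fwd 5363],
   .loop (some (4, 2)) [.fwd 4306, .bwd 5100, .bwd 5157],
   .loop (some (7, 2)) [.fwd 4306, .bwd 5101, .bwd 4245],
   .loop (some (2, 1)) [.bwd 4656, .bwd 4113, .bwd 4306],
   .define,
   .loop (some (14, 7)) [.fwd 5100, .fwd 4113, .bwd 5045, .bwd 4753, .bwd 4847, .bwd 4844, .bwd 4620, .fwd 5368],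
   .loop (some (4, 2)) [.bwd 4656, .bwd 5045, .fwd 4739],
   .loop (some (7, 2)) [.bwd 4656, .bwd 5046, .fwd 4536],
   .define,
   .define,
   .loop (some (14, 4)) [.fwd 4953, .fwd 4987, .fwd 4991, .fwd 5045, .bwd 4113, .bwd 5100, .fwd 5372, .fwd 5373],
   .loop (some (5, 2)) [.fwd 5051, .fwd 4790, .fwd 4321],
   .loop (some (8, 2)) [.fwd 5051, .bwd 4842, .fwd 4839],
   .loop (some (5, 2)) [.bwd 4839, .bwd 4119, .bwd 5051],
   .loop (some (8, 2)) [.bwd 4839, .bwd 4846, .bwd 4806],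
   .loop (some (13, 0)) [.bwd 4321, .fwd 4320, .bwd 2870, .bwd 3810, .bwd 3818, .fwd 4311, .fwd 4312, .fwd 4313],
   .loop (some (4, 2)) [.fwd 4313, .bwd 5191, .bwd 4722],
   .loop (some (7, 2)) [.fwd 4313, .bwd 5192, .fwd 4469],
   .loop (some (2, 1)) [.bwd 5340, .bwd 4828, .bwd 4143, .bwd 4313],
   .loop none [.bwd 5382],
   .loop none [.fwd 5340, .bwd 5383],
   .loop none [.fwd 5350, .bwd 5383],
   .loop (some (6, 1)) [.fwd 5199, .bwd 5379, .bwd 5192],
   .loop (some (3, 1)) [.fwd 5198, .bwd 5379, .bwd 5191],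
   .loop (some (4, 2)) [.bwd 4828, .bwd 5086, .fwd 4550],
   .loop (some (7, 2)) [.fwd 5343, .bwd 4828, .bwd 5087, .bwd 4746],
   .loop none [.bwd 5389],
   .loop none [.bwd 5343, .bwd 5390],
   .loop none [.fwd 5342, .bwd 5390],
   .define,
   .define,
   .loop (some (14, 5)) [.fwd 5232, .fwd 4896, .fwd 5086, .bwd 4143, .bwd 5191, .fwd 5186, .fwd 5393, .fwd 5394],
   .loop (some (13, 0)) [.bwd 4390, .fwd 4389, .fwd 2885, .bwd 4529, .fwd 4197, .fwd 4536, .fwd 4339, .fwd 4340],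
   .loop (some (4, 2)) [.fwd 4340, .fwd 5205, .bwd 4353],
   .loop (some (7, 2)) [.fwd 4340, .bwd 5207, .fwd 4550],
   .loop (some (2, 1)) [.fwd 4741, .bwd 4181, .bwd 4340],
   .loop (some (1, 2)) [.bwd 4181, .fwd 5396, .bwd 4394],
   .loop (some (4, 2)) [.fwd 4741, .fwd 5227, .bwd 4658],
   .loop (some (7, 3)) [.fwd 4741, .bwd 5236, .bwd 4030, .fwd 5299],
   .loop none [.fwd 5402],
   .loop none [.bwd 5300, .bwd 5403],
   .loop none [.fwd 5299, .bwd 5403],
   .define,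
   .loop (some (13, 4)) [.bwd 5213, .bwd 4572, .bwd 4569, .bwd 5201, .fwd 5042, .fwd 4877, .fwd 4882, .fwd 5406],
   .loop (some (5, 2)) [.fwd 5232, .bwd 4998, .bwd 4706, .fwd 5068],
   .loop none [.bwd 5408],
   .loop none [.fwd 5188, .fwd 5409, .bwd 5395],
   .loop none [.fwd 5410],
   .loop none [.bwd 5232, .bwd 5409],
   .loop none [.fwd 5231, .bwd 5409],
   .loop none [.fwd 5394, .bwd 5411],
   .loop (some (8, 2)) [.bwd 4998, .bwd 5088, .fwd 4982],
   .loop (some (4, 3)) [.bwd 4536, .fwd 5037, .bwd 4856, .fwd 5338],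
   .loop none [.fwd 5416],
   .loop none [.fwd 5292, .bwd 5417],
   .loop none [.bwd 5293, .bwd 5417],
   .loop none [.fwd 5338, .bwd 5417],
   .loop none [.fwd 5327, .bwd 5417],
   .loop (some (7, 2)) [.bwd 5421, .bwd 4536, .bwd 5097, .bwd 4552],
   .loop none [.bwd 5422],
   .loop none [.fwd 5326, .bwd 5423],
   .loop none [.fwd 5421, .bwd 5423],
   .loop (some (2, 2)) [.fwd 4245, .bwd 4198, .fwd 4536, .fwd 5418],
   .loop none [.fwd 5426],
   .loop none [.fwd 5418, .bwd 5427],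
   .loop none [.fwd 5291, .bwd 5427],
   .loop (some (10, 2)) [.fwd 5039, .bwd 5034, .bwd 5026, .bwd 5097, .fwd 5095],
   .loop none [.bwd 5430],
   .loop none [.bwd 5265, .bwd 5431],
   .loop none [.bwd 4978, .bwd 5431],
   .loop none [.fwd 4900, .fwd 5431, .bwd 4977],
   .loop none [.fwd 5434],
   .loop none [.bwd 5039, .bwd 5431],
   .loop none [.fwd 4976, .bwd 5435],
   .loop (some (6, 1)) [.fwd 5115, .fwd 5122, .bwd 5097],
   .loop (some (3, 1)) [.fwd 5148, .fwd 5122, .fwd 5037],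
   .define,
   .loop (some (14, 4)) [.bwd 4897, .fwd 4850, .fwd 4909, .bwd 5037, .fwd 4198, .bwd 4624, .fwd 5103, .fwd 5440],
   .loop (some (4, 2)) [.fwd 4245, .bwd 4624, .fwd 4803],
   .loop (some (7, 2)) [.fwd 4245, .bwd 4625, .bwd 4258],
   .loop (some (6, 1)) [.fwd 4638, .fwd 5135, .bwd 4625],
   .loop (some (3, 1)) [.fwd 4637, .fwd 5135, .bwd 4624],
   .define,
   .loop (some (14, 4)) [.bwd 5372, .fwd 5100, .fwd 5107, .fwd 4624, .bwd 4198, .fwd 5037, .fwd 4951, .fwd 5446],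
   .loop (some (4, 2)) [.bwd 4243, .bwd 4847, .fwd 4256],
   .loop (some (7, 2)) [.bwd 4243, .bwd 4848, .fwd 4256],
   .loop (some (2, 1)) [.bwd 4739, .bwd 4753, .fwd 4243],
   .define,
   .loop (some (14, 4)) [.fwd 5010, .fwd 4840, .fwd 4844, .fwd 4847, .fwd 4753, .bwd 4991, .fwd 4975, .fwd 5451],
   .loop (some (13, 0)) [.fwd 4470, .fwd 4471, .fwd 4457, .fwd 4230, .bwd 3339, .bwd 4423, .fwd 4424, .fwd 4243],
   .loop (some (9, 3)) [.bwd 5450, .bwd 5449, .bwd 5270, .fwd 5278],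
   .loop none [.fwd 5454],
   .loop none [.bwd 5279, .bwd 5455],
   .loop none [.fwd 5278, .bwd 5455],
   .loop (some (0, 0)) [.fwd 5277, .fwd 5449],
   .loop (some (5, 0)) [.bwd 4804, .fwd 5442, .bwd 4244],
   .define,
   .loop (some (1, 2)) [.bwd 5450, .fwd 5453, .fwd 5460],
   .loop (some (10, 3)) [.bwd 5459, .bwd 5449, .fwd 5448, .fwd 5458],
   .loop (some (6, 2)) [.bwd 5453, .bwd 5449, .bwd 5346],
   .loop (some (3, 2)) [.bwd 5453, .bwd 5448, .bwd 5346],
   .define,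
   .define,
   .define,
   .define,
   .define,
   .loop (some (14, 6)) [.bwd 5288, .fwd 5448, .fwd 5450, .fwd 5465, .fwd 5466, .fwd 5467, .fwd 5468, .fwd 5469],
   .define,
   .loop (some (12, 3)) [.fwd 5470, .bwd 5288, .fwd 5448, .fwd 5459, .bwd 5462, .fwd 5471],
   .loop (some (13, 0)) [.bwd 4470, .bwd 4469, .bwd 4468, .fwd 4019, .fwd 3264, .bwd 4095, .bwd 4199, .bwd 4245],
   .loop (some (0, 1)) [.fwd 5443, .fwd 5366],
   .loop (some (5, 1)) [.bwd 4257, .fwd 5448, .fwd 4244, .fwd 5429],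
   .loop none [.fwd 5475],
   .loop none [.fwd 5290, .bwd 5476],
   .loop none [.fwd 5429, .bwd 5476],
   .define,
   .loop (some (1, 2)) [.bwd 5428, .fwd 5473, .fwd 5479],
   .loop (some (10, 2)) [.bwd 5477, .fwd 5478, .bwd 5443, .fwd 5477],
   .define,
   .loop (some (6, 2)) [.bwd 5473, .bwd 5443, .fwd 5482],
   .define,
   .loop (some (3, 2)) [.bwd 5473, .bwd 5442, .fwd 5484],
   .define,
   .define,
   .define,
   .define,
   .define,
   .loop (some (14, 7)) [.fwd 5442, .fwd 5428, .fwd 5420, .fwd 5486, .fwd 5487, .fwd 5488, .fwd 5489, .fwd 5490],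
   .define,
   .loop (some (12, 3)) [.fwd 5490, .fwd 5491, .fwd 5442, .bwd 5478, .fwd 5477, .fwd 5492],
   .loop (some (4, 2)) [.bwd 5288, .bwd 4256, .bwd 4844, .fwd 4278],
   .loop none [.bwd 5494],
   .loop none [.bwd 5289, .bwd 5495],
   .loop none [.fwd 5288, .bwd 5495],
   .loop none [.fwd 5470, .bwd 5495],
   .loop (some (7, 2)) [.fwd 5277, .bwd 4256, .bwd 4845, .fwd 4304]]

theorem just21_len : just21.length = 250 := by decide +kernel

theorem just21_ok : cert.okFacts 5250 just21 = true := by decide +kernel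

/-- justifications -/
noncomputable def just22 : List Cert.Just :=
  [.loop none [.bwd 5499],
   .loop none [.fwd 5276, .bwd 5500],
   .loop none [.bwd 5471, .bwd 5500],
   .loop none [.bwd 5462, .bwd 5500],
   .loop none [.bwd 5277, .bwd 5500],
   .loop none [.fwd 5458, .bwd 5500],
   .loop (some (3, 1)) [.bwd 5184, .fwd 5271, .bwd 4844],
   .define,
   .loop (some (14, 4)) [.fwd 5050, .fwd 5377, .fwd 4840, .fwd 4844, .fwd 4775, .bwd 5018, .bwd 4920, .fwd 5507],
   .loop (some (10, 2)) [.bwd 5459, .bwd 5448, .bwd 5504, .fwd 5502],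
   .loop (some (6, 1)) [.fwd 5385, .fwd 5346, .bwd 5504],
   .loop (some (3, 1)) [.bwd 5360, .fwd 5346, .bwd 5497],
   .define,
   .define,
   .loop (some (14, 5)) [.fwd 5472, .bwd 5498, .fwd 5497, .bwd 5270, .bwd 5268, .bwd 5331, .fwd 5512, .fwd 5513],
   .loop (some (13, 1)) [.bwd 4480, .bwd 4479, .bwd 4674, .fwd 4673, .bwd 4100, .fwd 4246, .bwd 4259, .bwd 4258, .fwd 5482],
   .loop none [.fwd 5515],
   .loop none [.fwd 5482, .bwd 5516],
   .loop none [.bwd 5483, .bwd 5516],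
   .loop (some (9, 2)) [.fwd 5274, .bwd 5474, .fwd 5367],
   .loop (some (5, 1)) [.bwd 4279, .fwd 5497, .fwd 4257, .fwd 5477],
   .loop none [.fwd 5520],
   .loop none [.fwd 5496, .bwd 5521],
   .loop none [.bwd 5492, .bwd 5521],
   .loop none [.fwd 5477, .bwd 5521],
   .loop none [.fwd 5521, .bwd 5481, .bwd 5521],
   .loop (some (1, 2)) [.fwd 5274, .bwd 5517, .fwd 5351],
   .define,
   .loop (some (10, 2)) [.bwd 5523, .fwd 5524, .bwd 5474, .fwd 5527],
   .define,
   .loop (some (6, 2)) [.fwd 5517, .bwd 5474, .fwd 5529],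
   .loop (some (3, 2)) [.fwd 5517, .fwd 5478, .fwd 5473],
   .define,
   .define,
   .loop (some (14, 5)) [.fwd 5491, .fwd 5442, .bwd 5478, .bwd 5274, .fwd 5424, .fwd 5318, .fwd 5532, .fwd 5533],
   .loop (some (10, 2)) [.bwd 5368, .bwd 4633, .bwd 4630, .fwd 5107],
   .loop (some (4, 2)) [.bwd 5498, .bwd 4278, .bwd 4840, .fwd 5160],
   .loop none [.bwd 5536],
   .loop none [.fwd 5469, .bwd 5537],
   .loop none [.fwd 5498, .bwd 5537],
   .loop none [.fwd 5472, .bwd 5537],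
   .loop (some (7, 2)) [.bwd 4278, .bwd 4841, .fwd 4278],
   .loop (some (1, 2)) [.fwd 4620, .fwd 5506, .fwd 4606],
   .loop (some (3, 1)) [.fwd 5167, .bwd 5506, .bwd 4840],
   .loop (some (13, 1)) [.fwd 4502, .fwd 4503, .fwd 4504, .bwd 4483, .fwd 3806, .bwd 4613, .fwd 4614, .fwd 4278, .fwd 5511],
   .loop none [.fwd 5544],
   .loop none [.fwd 5511, .bwd 5545],
   .loop none [.bwd 5361, .bwd 5545],
   .loop none [.fwd 5360, .bwd 5545],
   .loop (some (1, 2)) [.fwd 5522, .bwd 5546, .fwd 5547],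
   .loop (some (6, 2)) [.fwd 5546, .bwd 5541, .bwd 5546],
   .define,
   .loop (some (3, 2)) [.fwd 5546, .bwd 5539, .fwd 5551],
   .loop (some (13, 1)) [.bwd 4502, .bwd 4501, .fwd 4605, .fwd 4602, .fwd 3932, .fwd 4260, .bwd 4281, .bwd 4280, .bwd 5549],
   .loop none [.fwd 5553],
   .loop none [.bwd 5549, .bwd 5554],
   .loop none [.fwd 5547, .bwd 5554],
   .loop none [.bwd 5362, .bwd 5554],
   .loop (some (5, 1)) [.bwd 5161, .fwd 5539, .fwd 4279, .fwd 5523],
   .loop none [.fwd 5558],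
   .loop none [.bwd 5493, .bwd 5559],
   .loop none [.fwd 5523, .bwd 5559],
   .loop none [.fwd 5528, .bwd 5559],
   .loop (some (10, 2)) [.bwd 5560, .fwd 5561, .bwd 5525, .bwd 5561],
   .loop (some (6, 2)) [.fwd 5555, .bwd 5525, .bwd 5555],
   .loop (some (3, 2)) [.bwd 5557, .fwd 5555, .fwd 5524, .bwd 5517],
   .loop none [.bwd 5565],
   .loop none [.fwd 5557, .bwd 5566],
   .loop none [.fwd 5531, .fwd 5566, .fwd 5363],
   .loop none [.fwd 5568],
   .loop none [.bwd 5479, .fwd 5569, .fwd 5364],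
   .loop none [.bwd 5570],
   .loop none [.bwd 5480, .bwd 5571],
   .loop none [.fwd 5479, .bwd 5571],
   .define,
   .define,
   .loop (some (14, 5)) [.fwd 5442, .bwd 5478, .bwd 5524, .fwd 5522, .bwd 5539, .fwd 5538, .fwd 5574, .fwd 5575],
   .loop (some (5, 1)) [.bwd 5176, .fwd 4283, .bwd 4281, .fwd 5368],
   .loop none [.fwd 5577],
   .loop none [.bwd 5369, .bwd 5578],
   .loop none [.fwd 5368, .bwd 5578],
   .loop none [.fwd 5535, .bwd 5578],
   .loop (some (10, 2)) [.bwd 5579, .fwd 5580, .bwd 4634, .bwd 5580],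
   .define,
   .loop (some (14, 4)) [.bwd 5103, .fwd 4624, .fwd 4629, .fwd 4633, .fwd 4620, .bwd 4840, .bwd 5010, .fwd 5583],
   .define,
   .loop (some (11, 2)) [.bwd 5585, .bwd 5176, .fwd 4626, .fwd 5176, .fwd 5585],
   .loop (some (5, 1)) [.fwd 5156, .fwd 5365, .bwd 4305, .fwd 5502],
   .loop none [.fwd 5587],
   .loop none [.fwd 5514, .bwd 5588],
   .loop none [.fwd 5540, .bwd 5588],
   .loop none [.fwd 5502, .bwd 5588],
   .loop none [.bwd 5509, .bwd 5588],
   .loop (some (10, 2)) [.bwd 5590, .fwd 5591, .fwd 5505, .fwd 5459],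
   .loop (some (3, 1)) [.fwd 5380, .bwd 5510, .fwd 5503],
   .loop (some (14, 1)) [.fwd 4887, .bwd 4905, .bwd 5280, .fwd 5270, .fwd 5448, .fwd 5459, .bwd 5503, .fwd 5501],
   .loop (some (13, 1)) [.fwd 4312, .fwd 4313, .bwd 4142, .bwd 4152, .bwd 2703, .fwd 4123, .fwd 4112, .bwd 4306, .fwd 5529],
   .loop none [.fwd 5596],
   .loop none [.fwd 5529, .bwd 5597],
   .loop none [.bwd 5530, .bwd 5597],
   .loop (some (5, 1)) [.fwd 4804, .bwd 5503, .fwd 4305, .fwd 5527],
   .loop none [.fwd 5600],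
   .loop none [.fwd 5491, .fwd 5601, .bwd 5527],
   .loop none [.bwd 5602],
   .loop none [.fwd 5562, .bwd 5601],
   .loop none [.bwd 5367, .fwd 5603, .bwd 5534],
   .loop none [.fwd 5605],
   .loop none [.bwd 5491, .bwd 5603],
   .loop none [.fwd 5365, .fwd 5603, .bwd 5490],
   .loop none [.fwd 5608],
   .loop none [.fwd 5533, .bwd 5606],
   .loop none [.fwd 5489, .bwd 5609],
   .loop none [.fwd 5560, .bwd 5609],
   .loop none [.fwd 5563, .bwd 5609],
   .loop (some (1, 2)) [.bwd 5367, .bwd 5598, .bwd 5116],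
   .loop (some (3, 1)) [.fwd 5133, .fwd 5598, .bwd 5365],
   .loop (some (9, 2)) [.fwd 5114, .fwd 5116, .bwd 5134, .bwd 5573],
   .loop none [.fwd 5616],
   .loop none [.bwd 5572, .bwd 5617],
   .loop none [.bwd 5573, .bwd 5617],
   .loop none [.bwd 5397, .fwd 5617, .fwd 5314],
   .loop none [.fwd 5620],
   .loop none [.bwd 5305, .bwd 5617],
   .loop none [.fwd 5304, .bwd 5617],
   .loop none [.fwd 5358, .bwd 5621],
   .loop (some (5, 0)) [.fwd 4721, .fwd 5380, .bwd 4312],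
   .loop (some (10, 4)) [.bwd 5625, .bwd 5134, .fwd 5531, .fwd 5518, .bwd 5485],
   .loop none [.fwd 5626],
   .loop none [.fwd 5484, .bwd 5627],
   .loop none [.bwd 5485, .bwd 5627],
   .define,
   .define,
   .define,
   .define,
   .define,
   .loop (some (14, 7)) [.fwd 5133, .bwd 5116, .bwd 5113, .fwd 5630, .fwd 5631, .fwd 5632, .fwd 5633, .fwd 5634],
   .loop (some (12, 4)) [.fwd 5634, .fwd 5635, .fwd 5133, .fwd 5625, .fwd 5629, .fwd 5531, .fwd 5567],
   .loop none [.bwd 5636],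
   .loop none [.bwd 5556, .fwd 5637, .bwd 5633],
   .loop none [.fwd 5638],
   .loop none [.bwd 5634, .bwd 5637],
   .loop none [.bwd 5548, .fwd 5639, .bwd 5632],
   .loop none [.fwd 5641],
   .loop none [.bwd 5464, .fwd 5642, .bwd 5631],
   .loop none [.fwd 5643],
   .loop none [.bwd 5460, .fwd 5644, .bwd 5630],
   .loop none [.bwd 5645],
   .loop none [.bwd 5461, .bwd 5646],
   .loop none [.fwd 5460, .bwd 5646],
   .loop (some (5, 0)) [.bwd 5169, .fwd 5133, .fwd 4312],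
   .define,
   .define,
   .loop (some (10, 3)) [.bwd 5649, .bwd 5381, .fwd 5650, .fwd 5651],
   .loop (some (14, 8)) [.fwd 5380, .fwd 5384, .bwd 5388, .fwd 5223, .bwd 5234, .bwd 5354, .bwd 5349, .fwd 5464, .fwd 5650],
   .loop none [.fwd 5653],
   .loop none [.fwd 5650, .bwd 5654],
   .loop none [.bwd 5651, .bwd 5654],
   .loop (some (12, 2)) [.fwd 5552, .fwd 5548, .fwd 5464, .bwd 5655, .fwd 5380, .fwd 5649, .bwd 5652],
   .loop none [.fwd 5657],
   .loop none [.bwd 5652, .bwd 5658],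
   .loop none [.fwd 5656, .bwd 5658],
   .define,
   .define,
   .loop (some (14, 5)) [.fwd 4902, .fwd 4878, .fwd 4888, .fwd 4326, .bwd 5198, .fwd 5193, .fwd 5661, .fwd 5662],
   .loop (some (5, 1)) [.fwd 4352, .fwd 5397, .bwd 4339, .fwd 5419],
   .loop none [.fwd 5664],
   .loop none [.bwd 5294, .bwd 5665],
   .loop none [.fwd 5419, .bwd 5665],
   .define,
   .loop (some (10, 2)) [.bwd 5666, .fwd 5667, .bwd 5425, .fwd 5668],
   .loop (some (6, 2)) [.bwd 5623, .fwd 5618, .bwd 5425, .bwd 5526],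
   .loop none [.bwd 5670],
   .loop none [.fwd 5303, .bwd 5671],
   .loop none [.fwd 5623, .bwd 5671],
   .loop (some (3, 1)) [.bwd 5622, .fwd 5618, .fwd 5420],
   .define,
   .define,
   .loop (some (14, 5)) [.fwd 4905, .bwd 5339, .bwd 5420, .bwd 5428, .bwd 5442, .bwd 5576, .fwd 5675, .fwd 5676],
   .loop (some (13, 0)) [.fwd 4352, .fwd 4353, .bwd 4366, .fwd 4365, .bwd 2730, .fwd 4191, .fwd 4180, .bwd 4340],
   .loop (some (0, 0)) [.fwd 5222, .fwd 5398],
   .define,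
   .loop (some (1, 2)) [.bwd 5399, .fwd 5678, .fwd 5680],
   .loop (some (6, 2)) [.bwd 5678, .bwd 5398, .bwd 5302],
   .loop (some (2, 2)) [.bwd 4744, .fwd 4394, .fwd 4351, .fwd 5680],
   .loop none [.fwd 5683],
   .loop none [.bwd 5681, .bwd 5684],
   .loop none [.fwd 5680, .bwd 5684],
   .loop (some (9, 3)) [.fwd 5686, .bwd 5682, .fwd 4887, .fwd 5319],
   .loop none [.fwd 5687],
   .loop none [.bwd 5320, .bwd 5688],
   .loop none [.fwd 5319, .bwd 5688],
   .loop (some (0, 0)) [.fwd 4884, .fwd 5682],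
   .loop (some (14, 1)) [.bwd 5318, .bwd 5283, .fwd 5595, .fwd 4887, .bwd 5339, .bwd 5420, .bwd 5667, .bwd 5686],
   .loop (some (0, 1)) [.fwd 5673, .fwd 5114],
   .define,
   .loop (some (10, 2)) [.bwd 5624, .bwd 5397, .bwd 5673, .fwd 5694],
   .define,
   .define,
   .define,
   .loop (some (14, 5)) [.fwd 5234, .fwd 5301, .bwd 5622, .fwd 5619, .bwd 5629, .fwd 5696, .fwd 5697, .fwd 5698],
   .loop (some (10, 2)) [.fwd 5214, .bwd 5212, .fwd 5205, .bwd 5115, .fwd 5233],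
   .loop none [.fwd 5700],
   .loop none [.fwd 5255, .fwd 5701, .bwd 5230],
   .loop none [.bwd 5702],
   .loop none [.fwd 5413, .bwd 5701],
   .loop none [.fwd 5233, .bwd 5701],
   .loop none [.fwd 5254, .bwd 5703],
   .loop none [.bwd 5255, .bwd 5703],
   .define,
   .loop (some (14, 4)) [.bwd 5057, .fwd 4945, .fwd 5237, .fwd 5148, .fwd 4456, .bwd 4637, .fwd 5080, .fwd 5708],
   .loop (some (5, 2)) [.fwd 4902, .bwd 4877, .bwd 4763, .fwd 5020],
   .loop none [.fwd 5710],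
   .loop none [.bwd 5262, .bwd 5711],
   .loop none [.fwd 5020, .bwd 5711],
   .loop none [.fwd 5663, .fwd 5711, .bwd 5195],
   .loop none [.bwd 5714],
   .loop none [.bwd 5021, .bwd 5711],
   .loop none [.bwd 5663, .bwd 5715],
   .loop none [.fwd 5662, .bwd 5715],
   .loop (some (8, 2)) [.bwd 4877, .bwd 4963, .bwd 4875],
   .define,
   .loop (some (14, 4)) [.bwd 5124, .fwd 5076, .fwd 5083, .fwd 4637, .bwd 4456, .bwd 5148, .fwd 5240, .fwd 5720],
   .define,
   .loop (some (14, 4)) [.fwd 5059, .fwd 5167, .bwd 5184, .fwd 5183, .bwd 4701, .bwd 5258, .fwd 5253, .fwd 5722],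
   .define,
   .define,
   .define,
   .define,
   .loop (some (14, 5)) [.fwd 5552, .fwd 5548, .fwd 5464, .bwd 5648, .fwd 5724, .fwd 5725, .fwd 5726, .fwd 5727],
   .define,
   .define,
   .define,
   .loop (some (14, 5)) [.fwd 5133, .fwd 5625, .fwd 5629, .bwd 5619, .fwd 5622, .fwd 5729, .fwd 5730, .fwd 5731],
   .define,
   .loop (some (14, 4)) [.fwd 5151, .fwd 5165, .fwd 5167, .bwd 5184, .bwd 4777, .bwd 5055, .fwd 5208, .fwd 5733],
   .loop (some (10, 2)) [.fwd 5655, .bwd 5464, .bwd 5385, .fwd 5649],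
   .define,
   .define,
   .loop (some (14, 5)) [.bwd 5659, .fwd 5552, .fwd 5548, .fwd 5349, .bwd 5337, .fwd 5357, .fwd 5736, .fwd 5737],
   .loop (some (10, 2)) [.bwd 5640, .bwd 5567, .bwd 5599, .fwd 5625],
   .define,
   .loop (some (14, 4)) [.fwd 5116, .fwd 5625, .fwd 5629, .fwd 5531, .fwd 5351, .fwd 5672, .fwd 5298, .fwd 5740],
   .loop (some (10, 2)) [.bwd 5146, .bwd 4647, .bwd 4644, .fwd 5083],
   .loop (some (4, 2)) [.fwd 5552, .bwd 4501, .bwd 5167, .bwd 5180],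
   .loop none [.bwd 5743],
   .loop none [.fwd 5551, .bwd 5744],
   .loop none [.fwd 5728, .bwd 5744],
   .loop none [.bwd 5552, .bwd 5744],
   .loop none [.bwd 5659, .bwd 5744],
   .loop none [.bwd 5660, .bwd 5744]]

theorem just22_len : just22.length = 250 := by decide +kernel

theorem just22_ok : cert.okFacts 5500 just22 = true := by decide +kernel

/-- justifications -/
noncomputable def just23 : List Cert.Just :=
  [.loop (some (5, 1)) [.fwd 5179, .fwd 5747, .fwd 4502, .fwd 5640],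
   .loop none [.fwd 5750],
   .loop none [.bwd 5635, .bwd 5751],
   .loop none [.fwd 5640, .bwd 5751],
   .loop none [.fwd 5739, .bwd 5751],
   .loop (some (10, 2)) [.bwd 5752, .fwd 5753, .bwd 5564, .bwd 5753],
   .define,
   .loop (some (14, 4)) [.bwd 5696, .fwd 5629, .fwd 5531, .fwd 5567, .fwd 5556, .bwd 5747, .fwd 5746, .fwd 5756],
   .loop (some (5, 1)) [.bwd 5177, .fwd 4506, .bwd 4504, .fwd 5146],
   .loop none [.bwd 5758],
   .loop none [.bwd 5178, .bwd 5759],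
   .loop none [.fwd 5177, .bwd 5759],
   .loop (some (10, 2)) [.bwd 5141, .bwd 5146, .bwd 4648, .fwd 5146],
   .define,
   .loop (some (14, 4)) [.bwd 5080, .fwd 4637, .fwd 4643, .fwd 4647, .bwd 4606, .bwd 5167, .bwd 5059, .fwd 5763],
   .define,
   .loop (some (11, 2)) [.bwd 5765, .fwd 5761, .fwd 4641, .bwd 5761, .fwd 5765],
   .loop (some (10, 2)) [.bwd 5704, .fwd 5705, .bwd 5092, .fwd 5117],
   .loop (some (5, 1)) [.bwd 5406, .fwd 4883, .bwd 4542, .fwd 5694],
   .loop none [.fwd 5768],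
   .loop none [.fwd 5694, .bwd 5769],
   .loop none [.bwd 5695, .bwd 5769],
   .define,
   .loop (some (10, 3)) [.fwd 5770, .bwd 5693, .bwd 5741, .fwd 5772],
   .loop (some (12, 2)) [.fwd 5221, .fwd 5388, .fwd 5359, .bwd 5672, .bwd 5770, .bwd 5773],
   .loop (some (6, 1)) [.fwd 5222, .bwd 5302, .bwd 4884],
   .loop (some (3, 1)) [.fwd 5221, .bwd 5302, .bwd 4883],
   .define,
   .define,
   .define,
   .define,
   .loop (some (14, 7)) [.fwd 4883, .fwd 4887, .bwd 4905, .bwd 5677, .fwd 5777, .fwd 5778, .fwd 5779, .fwd 5780],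
   .loop (some (12, 4)) [.fwd 5780, .fwd 5781, .fwd 4883, .bwd 5595, .fwd 5283, .bwd 5424, .fwd 5668],
   .loop none [.bwd 5782],
   .loop none [.fwd 5779, .bwd 5783],
   .loop none [.bwd 5780, .bwd 5783],
   .define,
   .define,
   .loop (some (14, 5)) [.bwd 5773, .fwd 5774, .fwd 5221, .fwd 5223, .bwd 5234, .bwd 5699, .fwd 5786, .fwd 5787],
   .loop (some (5, 1)) [.fwd 5266, .fwd 5221, .fwd 4551, .fwd 5668],
   .loop none [.fwd 5789],
   .loop none [.bwd 5784, .bwd 5790],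
   .loop none [.bwd 5785, .bwd 5790],
   .loop none [.fwd 5668, .bwd 5790],
   .loop none [.bwd 5669, .bwd 5790],
   .loop (some (10, 2)) [.bwd 5792, .fwd 5793, .bwd 5519, .fwd 5610],
   .loop (some (10, 2)) [.bwd 4901, .bwd 5095, .bwd 5098, .fwd 5052],
   .loop (some (8, 2)) [.fwd 5433, .fwd 4986, .bwd 4866],
   .loop (some (8, 2)) [.bwd 5213, .bwd 5211, .fwd 4871],
   .loop (some (11, 2)) [.bwd 5124, .bwd 5075, .fwd 4646, .fwd 5075, .fwd 5124],
   .loop (some (7, 2)) [.bwd 4803, .bwd 5108, .bwd 5157],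
   .loop (some (9, 2)) [.bwd 5103, .bwd 5108, .fwd 5372],
   .loop (some (2, 2)) [.bwd 5103, .fwd 4803, .bwd 5576],
   .loop (some (1, 2)) [.bwd 5103, .fwd 5445, .fwd 5080],
   .define,
   .define,
   .loop (some (14, 4)) [.bwd 5585, .fwd 5579, .fwd 5100, .fwd 5107, .fwd 5103, .fwd 5440, .fwd 5804, .fwd 5805],
   .loop (some (11, 2)) [.bwd 5372, .bwd 5099, .fwd 4632, .fwd 5099, .fwd 5372],
   .loop (some (7, 2)) [.bwd 4720, .bwd 5084, .fwd 5132],
   .loop (some (9, 2)) [.bwd 5080, .bwd 5084, .fwd 5124],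
   .loop (some (2, 2)) [.bwd 5080, .fwd 4720, .fwd 5696],
   .define,
   .define,
   .loop (some (14, 4)) [.bwd 5765, .fwd 5141, .fwd 5076, .fwd 5083, .fwd 5080, .fwd 5708, .fwd 5811, .fwd 5812],
   .loop (some (4, 2)) [.bwd 5532, .bwd 4650, .bwd 4993, .fwd 4679],
   .loop none [.bwd 5814],
   .loop none [.fwd 5532, .bwd 5815],
   .loop none [.fwd 5610, .bwd 5815],
   .loop none [.bwd 5795, .bwd 5815],
   .loop (some (3, 1)) [.bwd 5218, .fwd 5001, .bwd 4993],
   .define,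
   .loop (some (10, 3)) [.fwd 5692, .bwd 5691, .fwd 5666, .fwd 5820],
   .loop (some (3, 1)) [.bwd 5740, .bwd 5775, .bwd 5816],
   .loop (some (12, 2)) [.bwd 5465, .fwd 5370, .bwd 5817, .fwd 5816, .bwd 5692, .bwd 5821],
   .loop (some (5, 1)) [.bwd 4680, .fwd 5816, .fwd 4651, .bwd 5741],
   .loop none [.fwd 5824],
   .loop none [.fwd 5822, .bwd 5825],
   .loop none [.fwd 5740, .bwd 5825],
   .loop none [.bwd 5741, .bwd 5825],
   .loop none [.bwd 5772, .bwd 5825],
   .define,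
   .define,
   .define,
   .loop (some (14, 6)) [.bwd 5724, .fwd 5113, .fwd 5116, .bwd 5133, .bwd 5732, .fwd 5830, .fwd 5831, .fwd 5832],
   .loop (some (12, 3)) [.fwd 5833, .bwd 5724, .fwd 5113, .bwd 5828, .fwd 5827, .fwd 5401],
   .define,
   .define,
   .loop (some (14, 5)) [.fwd 5823, .bwd 5465, .fwd 5370, .bwd 5367, .bwd 5365, .fwd 5611, .fwd 5835, .fwd 5836],
   .loop (some (10, 2)) [.bwd 5834, .bwd 5401, .bwd 5679, .fwd 5624],
   .loop (some (7, 2)) [.bwd 4679, .bwd 5053, .bwd 4817],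
   .loop (some (9, 2)) [.bwd 5048, .bwd 5053, .fwd 4897],
   .define,
   .loop (some (2, 2)) [.bwd 5048, .fwd 4679, .fwd 5841],
   .loop (some (1, 2)) [.bwd 5048, .fwd 5819, .fwd 5149],
   .define,
   .define,
   .define,
   .loop (some (14, 4)) [.bwd 4975, .fwd 4991, .fwd 5045, .fwd 5052, .fwd 5048, .fwd 5844, .fwd 5845, .fwd 5846],
   .define,
   .define,
   .define,
   .loop (some (11, 4)) [.bwd 5841, .fwd 4680, .fwd 5848, .fwd 5849, .fwd 5850],
   .loop (some (9, 2)) [.bwd 5841, .bwd 5839, .bwd 5677],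
   .loop (some (0, 1)) [.fwd 5839, .fwd 5818],
   .loop (some (8, 2)) [.bwd 4680, .bwd 5839, .bwd 4816],
   .loop (some (1, 2)) [.bwd 5841, .bwd 5826, .fwd 5848],
   .define,
   .define,
   .define,
   .loop (some (14, 4)) [.bwd 5466, .bwd 5465, .fwd 5370, .bwd 5817, .fwd 5841, .fwd 5856, .fwd 5857, .fwd 5858],
   .loop (some (9, 2)) [.bwd 5848, .bwd 5854, .bwd 5699],
   .loop (some (0, 1)) [.fwd 5854, .fwd 5829],
   .loop (some (2, 2)) [.bwd 5848, .fwd 4681, .fwd 5149],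
   .define,
   .define,
   .define,
   .loop (some (14, 4)) [.bwd 5725, .bwd 5724, .fwd 5113, .bwd 5828, .fwd 5848, .fwd 5863, .fwd 5864, .fwd 5865],
   .loop (some (9, 2)) [.bwd 5149, .bwd 5154, .fwd 5057],
   .define,
   .define,
   .define,
   .loop (some (14, 4)) [.bwd 5253, .fwd 5258, .fwd 5110, .fwd 5117, .fwd 5149, .fwd 5868, .fwd 5869, .fwd 5870],
   .loop (some (4, 2)) [.bwd 5724, .fwd 4746, .bwd 5258, .fwd 4863],
   .loop none [.bwd 5872],
   .loop none [.bwd 5725, .bwd 5873],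
   .loop none [.fwd 5724, .bwd 5873],
   .loop none [.fwd 5833, .bwd 5873],
   .loop (some (3, 1)) [.fwd 4991, .bwd 5123, .bwd 5258],
   .define,
   .define,
   .define,
   .loop (some (11, 4)) [.bwd 5696, .fwd 4721, .fwd 5878, .fwd 5879, .fwd 5880],
   .loop (some (9, 2)) [.bwd 5696, .bwd 5808, .bwd 5732],
   .loop (some (1, 2)) [.bwd 5696, .fwd 5628, .bwd 5576],
   .define,
   .define,
   .define,
   .loop (some (14, 5)) [.fwd 5752, .fwd 5133, .fwd 5625, .fwd 5696, .fwd 5697, .fwd 5884, .fwd 5885, .fwd 5886],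
   .loop (some (9, 2)) [.bwd 5878, .bwd 5735, .bwd 5738],
   .loop (some (0, 1)) [.fwd 5735, .bwd 5749],
   .loop (some (2, 2)) [.bwd 5878, .fwd 4722, .fwd 5186],
   .define,
   .loop (some (1, 2)) [.bwd 5878, .bwd 5594, .fwd 5891],
   .loop (some (6, 1)) [.fwd 5592, .fwd 5594, .bwd 5735],
   .loop (some (14, 1)) [.fwd 5731, .fwd 5732, .bwd 5752, .fwd 5753, .fwd 5556, .fwd 5548, .fwd 5464, .bwd 5655, .fwd 5878],
   .loop none [.fwd 5894],
   .loop none [.fwd 5892, .bwd 5895],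
   .loop none [.fwd 5890, .bwd 5895],
   .loop none [.bwd 5879, .bwd 5895],
   .loop none [.fwd 5878, .bwd 5895],
   .loop none [.fwd 5888, .bwd 5895],
   .loop (some (9, 2)) [.bwd 5186, .bwd 5190, .bwd 5151],
   .loop (some (1, 2)) [.bwd 5186, .fwd 5387, .fwd 5193],
   .loop (some (6, 1)) [.fwd 5197, .bwd 5387, .bwd 5190],
   .loop (some (14, 2)) [.bwd 5124, .bwd 5141, .bwd 5146, .bwd 4606, .bwd 5184, .fwd 5183, .fwd 5189, .fwd 5186, .fwd 5393],
   .loop none [.fwd 5904],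
   .loop none [.fwd 5721, .fwd 5905, .bwd 5393],
   .loop none [.bwd 5906],
   .loop none [.bwd 5125, .fwd 5905, .bwd 5414],
   .loop none [.fwd 5908],
   .loop none [.fwd 5720, .bwd 5907],
   .loop none [.bwd 5721, .bwd 5907],
   .loop none [.fwd 5187, .bwd 5909],
   .loop none [.bwd 5188, .bwd 5909],
   .loop (some (4, 2)) [.bwd 5465, .bwd 4739, .bwd 4991, .bwd 4874],
   .loop none [.bwd 5914],
   .loop none [.bwd 5466, .bwd 5915],
   .loop none [.fwd 5465, .bwd 5915],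
   .loop none [.fwd 5823, .bwd 5915],
   .loop (some (3, 1)) [.fwd 5875, .fwd 5647, .bwd 5917],
   .loop (some (5, 1)) [.fwd 4873, .fwd 5917, .fwd 4740, .fwd 5834],
   .loop none [.fwd 5920],
   .loop none [.fwd 5832, .bwd 5921],
   .loop none [.fwd 5876, .bwd 5921],
   .loop none [.fwd 5834, .bwd 5921],
   .loop none [.fwd 5838, .bwd 5921],
   .loop (some (10, 2)) [.bwd 5923, .fwd 5924, .fwd 5405, .fwd 5301],
   .loop (some (5, 1)) [.bwd 4864, .fwd 5875, .bwd 4745, .bwd 5821],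
   .loop none [.fwd 5927],
   .loop none [.fwd 5837, .bwd 5928],
   .loop none [.fwd 5918, .bwd 5928],
   .loop none [.bwd 5821, .bwd 5928],
   .loop none [.fwd 5820, .bwd 5928],
   .loop (some (10, 2)) [.bwd 5930, .fwd 5931, .fwd 5690, .bwd 5339],
   .define,
   .define,
   .loop (some (11, 4)) [.fwd 5576, .fwd 4804, .fwd 5891, .fwd 5934, .fwd 5935],
   .loop (some (9, 2)) [.fwd 5576, .bwd 5800, .fwd 5611],
   .define,
   .define,
   .define,
   .loop (some (14, 5)) [.bwd 5612, .fwd 5365, .fwd 5607, .bwd 5576, .fwd 5675, .fwd 5938, .fwd 5939, .fwd 5940],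
   .loop (some (9, 2)) [.bwd 5891, .bwd 5592, .fwd 5589],
   .loop (some (0, 1)) [.fwd 5592, .fwd 5593],
   .loop (some (2, 2)) [.bwd 5891, .fwd 4805, .fwd 5193],
   .loop (some (14, 1)) [.fwd 5488, .bwd 5611, .fwd 5612, .fwd 5561, .fwd 5522, .fwd 5497, .fwd 5448, .fwd 5459, .fwd 5891],
   .loop none [.fwd 5945],
   .loop none [.fwd 5896, .bwd 5946],
   .loop none [.fwd 5944, .bwd 5946],
   .loop none [.bwd 5934, .bwd 5946],
   .loop none [.fwd 5891, .bwd 5946],
   .loop none [.fwd 5942, .bwd 5946],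
   .loop (some (9, 2)) [.bwd 5193, .bwd 5197, .bwd 5050],
   .loop (some (14, 2)) [.bwd 5372, .bwd 5579, .fwd 5580, .fwd 4620, .fwd 4844, .fwd 4847, .fwd 5196, .fwd 5193, .fwd 5661],
   .loop none [.fwd 5953],
   .loop none [.fwd 5447, .fwd 5954, .bwd 5661],
   .loop none [.bwd 5955],
   .loop none [.bwd 5373, .fwd 5954, .bwd 5718],
   .loop none [.bwd 5957],
   .loop none [.fwd 5446, .bwd 5956],
   .loop none [.bwd 5447, .bwd 5956],
   .loop none [.fwd 5373, .bwd 5958],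
   .loop none [.bwd 5374, .bwd 5958],
   .loop (some (7, 2)) [.fwd 5861, .bwd 4815, .bwd 5069, .bwd 5264],
   .loop none [.bwd 5963],
   .loop none [.bwd 5774, .bwd 5964],
   .loop none [.bwd 5773, .bwd 5964],
   .loop none [.bwd 5861, .bwd 5964],
   .loop none [.fwd 5829, .bwd 5964],
   .loop (some (9, 2)) [.bwd 5057, .bwd 5069, .bwd 5913],
   .loop (some (2, 2)) [.bwd 5057, .fwd 4815, .bwd 5699],
   .loop (some (1, 2)) [.bwd 5057, .fwd 4944, .fwd 4897],
   .loop (some (6, 1)) [.fwd 5716, .bwd 4944, .bwd 5069],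
   .loop (some (14, 2)) [.bwd 5253, .fwd 5259, .fwd 5249, .bwd 4181, .fwd 5212, .fwd 5055, .fwd 5067, .fwd 5057, .fwd 5228],
   .loop none [.bwd 5973],
   .loop none [.fwd 5706, .bwd 5974],
   .loop none [.fwd 5253, .bwd 5974],
   .loop none [.fwd 5228, .fwd 5974, .bwd 5871],
   .loop none [.fwd 5977],
   .loop none [.bwd 5229, .fwd 5974, .fwd 5722],
   .loop none [.fwd 5979],
   .loop none [.fwd 5709, .fwd 5978, .bwd 5870],
   .loop none [.fwd 5981],
   .loop none [.bwd 5723, .bwd 5980],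
   .loop none [.bwd 5811, .fwd 5982, .bwd 5869],
   .loop none [.fwd 5984],
   .loop none [.fwd 5868, .bwd 5985],
   .define,
   .define,
   .loop (some (11, 4)) [.fwd 5699, .fwd 4816, .bwd 5677, .fwd 5987, .fwd 5988],
   .define,
   .loop (some (9, 2)) [.fwd 5699, .bwd 5967, .fwd 5990],
   .loop (some (8, 2)) [.fwd 5853, .bwd 4816, .bwd 5967, .bwd 5263],
   .loop none [.bwd 5992],
   .loop none [.bwd 5781, .bwd 5993],
   .loop none [.fwd 5792, .bwd 5993],
   .loop none [.bwd 5853, .bwd 5993],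
   .loop none [.fwd 5818, .bwd 5993],
   .loop (some (1, 2)) [.fwd 5699, .fwd 5307, .bwd 5677],
   .loop (some (10, 2)) [.bwd 5301, .bwd 5234, .bwd 5967, .fwd 5965]]

theorem just23_len : just23.length = 250 := by decide +kernel

theorem just23_ok : cert.okFacts 5750 just23 = true := by decide +kernel


end CfsgLib.ThCent.KL
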