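import Cfsg.Agent.Lib.ThCent.KLData

/-!
Justifications of the side facts (generated data).
-/

namespace CfsgLib.ThCent.KL

open CfsgLib.PresCert

set_option maxRecDepth 100000

/-- justifications -/
noncomputable def just24 : List Cert.Just :=
  [.loop (some (6, 1)) [.fwd 5996, .bwd 5307, .bwd 5967],
   .loop (some (14, 2)) [.bwd 5874, .bwd 5923, .fwd 5924, .bwd 5399, .fwd 5624, .fwd 5337, .fwd 5354, .bwd 5699, .fwd 5786],
   .loop none [.fwd 6001],
   .loop none [.fwd 5866, .fwd 6002, .bwd 5786],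
   .loop none [.bwd 6003],
   .loop none [.bwd 5726, .fwd 6002, .fwd 5787],
   .loop none [.fwd 6005],
   .loop none [.fwd 5698, .fwd 6004, .bwd 5865],
   .loop none [.fwd 6007],
   .loop none [.bwd 5866, .bwd 6004],
   .loop none [.bwd 5788, .bwd 6006],
   .loop none [.bwd 5884, .fwd 6008, .bwd 5864],
   .loop none [.bwd 6011],
   .loop none [.fwd 5884, .bwd 6012],
   .loop none [.bwd 5885, .bwd 6012],
   .define,
   .loop (some (9, 2)) [.fwd 5677, .bwd 5996, .fwd 6015],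
   .loop (some (2, 2)) [.fwd 5677, .fwd 4817, .fwd 4897],
   .loop (some (10, 2)) [.fwd 5339, .bwd 4905, .bwd 5996, .fwd 5994],
   .loop (some (14, 2)) [.bwd 5916, .bwd 5930, .fwd 5931, .fwd 5686, .fwd 5666, .fwd 5268, .fwd 5280, .bwd 5677, .fwd 5777],
   .loop none [.fwd 6019],
   .loop none [.fwd 5859, .fwd 6020, .bwd 5777],
   .loop none [.bwd 6021],
   .loop none [.bwd 5467, .fwd 6020, .fwd 5778],
   .loop none [.fwd 6023],
   .loop none [.fwd 5676, .fwd 6022, .bwd 5858],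
   .loop none [.fwd 6025],
   .loop none [.bwd 5859, .bwd 6022],
   .loop none [.fwd 5791, .bwd 6024],
   .loop none [.bwd 5938, .fwd 6026, .bwd 5857],
   .loop none [.bwd 6029],
   .loop none [.fwd 5938, .bwd 6030],
   .loop none [.bwd 5939, .bwd 6030],
   .loop (some (9, 2)) [.bwd 4897, .bwd 5716, .bwd 5717],
   .loop (some (14, 2)) [.bwd 4975, .bwd 4987, .bwd 4970, .fwd 4394, .fwd 5034, .fwd 5018, .fwd 5013, .fwd 4897, .fwd 4898],
   .loop none [.bwd 6034],
   .loop none [.fwd 5437, .bwd 6035],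
   .loop none [.fwd 4975, .bwd 6035],
   .loop none [.fwd 4898, .fwd 6035, .bwd 5847],
   .loop none [.fwd 6038],
   .loop none [.bwd 4899, .fwd 6035, .fwd 5451],
   .loop none [.fwd 6040],
   .loop none [.fwd 5441, .fwd 6039, .bwd 5846],
   .loop none [.fwd 6042],
   .loop none [.bwd 5452, .bwd 6041],
   .loop none [.bwd 5804, .fwd 6043, .bwd 5845],
   .loop none [.fwd 6045],
   .loop none [.fwd 5844, .bwd 6046],
   .loop (some (14, 5)) [.fwd 5210, .fwd 4896, .fwd 5086, .fwd 5089, .bwd 4950, .fwd 5218, .fwd 5149, .bwd 5986, .fwd 5812],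
   .loop none [.fwd 6048],
   .loop none [.fwd 5812, .bwd 6049],
   .loop none [.bwd 5238, .fwd 6049, .fwd 5813],
   .loop none [.fwd 6051],
   .loop none [.fwd 6052, .fwd 5766, .bwd 6052],
   .loop none [.fwd 5765, .bwd 6052],
   .loop (some (10, 2)) [.fwd 5770, .fwd 5672, .bwd 5404, .bwd 5924],
   .loop (some (14, 5)) [.bwd 5308, .fwd 5221, .fwd 5388, .fwd 5359, .fwd 5298, .bwd 5827, .fwd 5848, .fwd 5863, .fwd 6014],
   .loop none [.fwd 6056],
   .loop none [.fwd 6014, .bwd 6057],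
   .loop none [.bwd 5309, .fwd 6057, .fwd 5886],
   .loop none [.fwd 6059],
   .loop none [.bwd 5887, .bwd 6060],
   .loop (some (14, 5)) [.bwd 6015, .fwd 5994, .fwd 4883, .bwd 5595, .bwd 5501, .fwd 5503, .bwd 5950, .fwd 5488, .fwd 5835],
   .loop none [.bwd 6062],
   .loop none [.fwd 6015, .bwd 6063],
   .loop none [.bwd 6016, .bwd 6063],
   .loop (some (14, 5)) [.bwd 5990, .fwd 5965, .fwd 5221, .fwd 5388, .bwd 5384, .bwd 5380, .bwd 5899, .fwd 5731, .fwd 5830],
   .loop none [.bwd 6066],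
   .loop none [.fwd 5990, .bwd 6067],
   .loop none [.bwd 5991, .bwd 6067],
   .loop (some (10, 2)) [.fwd 5793, .fwd 5424, .bwd 5689, .bwd 5931],
   .loop (some (14, 5)) [.bwd 5328, .fwd 4883, .bwd 5595, .fwd 5283, .fwd 5318, .bwd 5816, .fwd 5841, .fwd 5856, .fwd 6032],
   .loop none [.fwd 6071],
   .loop none [.fwd 6032, .bwd 6072],
   .loop none [.bwd 5329, .fwd 6072, .fwd 5940],
   .loop none [.fwd 6074],
   .loop none [.bwd 5941, .bwd 6075],
   .loop (some (14, 5)) [.bwd 4917, .fwd 4878, .fwd 4888, .bwd 4929, .bwd 4833, .bwd 4993, .fwd 5048, .bwd 6047, .fwd 5805],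
   .loop none [.fwd 6077],
   .loop none [.fwd 5805, .bwd 6078],
   .loop none [.bwd 4918, .fwd 6078, .fwd 5806],
   .loop none [.fwd 6080],
   .loop none [.fwd 6081, .fwd 5586, .bwd 6081],
   .loop none [.fwd 5585, .bwd 6081],
   .loop (some (9, 2)) [.fwd 5010, .bwd 5378, .fwd 5193],
   .loop (some (2, 2)) [.fwd 5010, .fwd 5160, .fwd 5538],
   .loop (some (1, 2)) [.fwd 5010, .fwd 5543, .bwd 5059],
   .define,
   .loop (some (14, 3)) [.bwd 5959, .bwd 5193, .fwd 5198, .fwd 5375, .fwd 5377, .bwd 5010, .fwd 5583, .fwd 6087],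
   .loop (some (9, 2)) [.bwd 5208, .bwd 5214, .bwd 5707],
   .loop (some (2, 2)) [.bwd 5208, .fwd 4854, .fwd 5357],
   .loop (some (1, 2)) [.bwd 5208, .bwd 5273, .bwd 4920],
   .loop (some (6, 1)) [.fwd 5436, .fwd 5273, .bwd 5214],
   .define,
   .define,
   .loop (some (14, 4)) [.bwd 5240, .fwd 5148, .bwd 5205, .fwd 5212, .fwd 5208, .fwd 5733, .fwd 6093, .fwd 6094],
   .define,
   .define,
   .loop (some (11, 4)) [.bwd 5357, .fwd 4855, .fwd 5486, .fwd 6096, .fwd 6097],
   .loop (some (9, 2)) [.bwd 5357, .bwd 5771, .bwd 6010],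
   .loop (some (1, 2)) [.bwd 5357, .fwd 5334, .bwd 5331],
   .loop (some (6, 1)) [.fwd 5794, .bwd 5334, .bwd 5771],
   .define,
   .define,
   .loop (some (14, 4)) [.bwd 5729, .bwd 5622, .fwd 5397, .fwd 5624, .fwd 5357, .fwd 5736, .fwd 6102, .fwd 6103],
   .loop (some (9, 2)) [.bwd 5486, .bwd 6018, .fwd 5328],
   .loop (some (0, 1)) [.fwd 6018, .fwd 5933],
   .loop (some (2, 2)) [.bwd 5486, .fwd 4856, .fwd 4951],
   .loop (some (1, 2)) [.bwd 5486, .fwd 5674, .fwd 5729],
   .loop (some (9, 2)) [.bwd 4951, .bwd 4964, .fwd 4917],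
   .loop (some (1, 2)) [.bwd 4951, .fwd 5439, .fwd 5240],
   .loop (some (9, 2)) [.fwd 5976, .bwd 5260, .fwd 5240],
   .loop (some (2, 2)) [.fwd 5976, .fwd 4863, .fwd 5874],
   .loop (some (1, 2)) [.fwd 5976, .fwd 5877, .bwd 6037],
   .loop (some (3, 1)) [.fwd 4987, .bwd 5877, .fwd 5259],
   .define,
   .define,
   .loop (some (11, 4)) [.bwd 5874, .fwd 4864, .fwd 5929, .fwd 6115, .fwd 6116],
   .loop (some (9, 2)) [.bwd 5874, .bwd 5926, .fwd 5729],
   .loop (some (0, 0)) [.fwd 5999, .fwd 5926],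
   .loop (some (1, 2)) [.bwd 5874, .bwd 5919, .fwd 5916],
   .loop (some (3, 1)) [.fwd 5930, .fwd 5919, .bwd 5923],
   .loop (some (9, 2)) [.bwd 5929, .fwd 5932, .bwd 5331],
   .loop (some (2, 2)) [.bwd 5929, .fwd 4865, .bwd 4953],
   .loop (some (1, 2)) [.bwd 5929, .bwd 6121, .fwd 5922],
   .define,
   .define,
   .define,
   .loop (some (14, 4)) [.bwd 5841, .fwd 5816, .bwd 5692, .bwd 5931, .fwd 5929, .fwd 6125, .fwd 6126, .fwd 6127],
   .loop (some (9, 2)) [.fwd 4953, .bwd 5019, .bwd 4920],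
   .loop (some (1, 2)) [.fwd 4953, .bwd 6114, .bwd 5251],
   .define,
   .define,
   .define,
   .loop (some (14, 4)) [.bwd 5048, .fwd 4993, .bwd 4938, .fwd 4970, .bwd 4953, .fwd 6131, .fwd 6132, .fwd 6133],
   .loop (some (9, 2)) [.fwd 5251, .bwd 5252, .fwd 5208],
   .loop (some (2, 2)) [.fwd 5251, .fwd 4872, .fwd 5922],
   .define,
   .define,
   .define,
   .loop (some (14, 4)) [.bwd 5149, .bwd 5218, .bwd 5227, .bwd 5249, .bwd 5251, .fwd 6137, .fwd 6138, .fwd 6139],
   .define,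
   .define,
   .loop (some (11, 4)) [.bwd 5922, .fwd 4873, .fwd 5916, .fwd 6141, .fwd 6142],
   .loop (some (9, 2)) [.bwd 5922, .fwd 5925, .fwd 5357],
   .define,
   .define,
   .define,
   .loop (some (14, 4)) [.bwd 5848, .fwd 5827, .fwd 5401, .bwd 5924, .fwd 5922, .fwd 6145, .fwd 6146, .fwd 6147],
   .loop (some (9, 2)) [.bwd 5916, .bwd 5933, .fwd 5486],
   .loop (some (2, 2)) [.bwd 5916, .fwd 4874, .bwd 6037],
   .loop (some (9, 2)) [.fwd 6037, .bwd 4988, .fwd 4951],
   .loop (some (9, 2)) [.bwd 4917, .bwd 5719, .bwd 6037],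
   .loop (some (2, 2)) [.bwd 4917, .fwd 4882, .fwd 5328],
   .loop (some (1, 2)) [.bwd 4917, .fwd 4895, .bwd 5210],
   .define,
   .define,
   .loop (some (11, 4)) [.bwd 5328, .fwd 5406, .bwd 6010, .fwd 6155, .fwd 6156],
   .loop (some (9, 2)) [.bwd 5328, .bwd 6106, .fwd 5916],
   .loop (some (1, 2)) [.bwd 5328, .fwd 5776, .fwd 5308],
   .loop (some (9, 2)) [.fwd 5210, .bwd 5415, .bwd 5976],
   .loop (some (2, 2)) [.fwd 5210, .fwd 5220, .fwd 5308],
   .define,
   .define,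
   .define,
   .define,
   .loop (some (13, 6)) [.bwd 5987, .bwd 6017, .fwd 5971, .fwd 5058, .fwd 6162, .fwd 6163, .fwd 6164, .fwd 6165],
   .loop (some (7, 1)) [.fwd 6065, .bwd 6017, .bwd 6033],
   .loop (some (0, 1)) [.fwd 6033, .fwd 5840],
   .loop (some (5, 1)) [.bwd 5583, .bwd 5009, .bwd 5441],
   .loop (some (6, 1)) [.fwd 5969, .bwd 5971, .bwd 6033],
   .define,
   .define,
   .define,
   .define,
   .loop (some (13, 6)) [.bwd 6141, .bwd 6150, .fwd 6113, .fwd 5975, .fwd 6171, .fwd 6172, .fwd 6173, .fwd 6174],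
   .loop (some (4, 1)) [.bwd 5467, .bwd 6150, .fwd 4899],
   .loop (some (8, 2)) [.bwd 6036, .bwd 6151, .fwd 4952],
   .loop (some (10, 2)) [.fwd 5441, .fwd 4898, .bwd 6151, .bwd 6088],
   .loop (some (3, 1)) [.bwd 5229, .bwd 6113, .fwd 4899],
   .loop (some (14, 4)) [.bwd 6087, .bwd 5583, .bwd 6044, .bwd 4899, .fwd 6037, .bwd 4987, .bwd 4953, .fwd 6131],
   .define,
   .define,
   .define,
   .loop (some (13, 7)) [.bwd 6176, .fwd 6179, .bwd 5975, .bwd 6112, .bwd 6117, .fwd 6181, .fwd 6182, .fwd 6183],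
   .loop (some (7, 2)) [.bwd 6176, .bwd 6177, .fwd 6123],
   .loop (some (0, 0)) [.fwd 6129, .fwd 6177],
   .loop (some (6, 2)) [.bwd 6179, .bwd 6177, .bwd 6130],
   .define,
   .define,
   .loop (some (13, 6)) [.fwd 6157, .fwd 6153, .bwd 6154, .bwd 5209, .bwd 6090, .bwd 6098, .fwd 6188, .fwd 6189],
   .loop (some (4, 1)) [.bwd 5329, .fwd 6153, .fwd 4918],
   .loop (some (5, 1)) [.bwd 5507, .fwd 5031, .fwd 6079],
   .loop (some (3, 1)) [.bwd 5238, .fwd 6154, .fwd 4918],
   .loop (some (14, 6)) [.bwd 5507, .bwd 4919, .bwd 4918, .bwd 4917, .bwd 4902, .bwd 5717, .fwd 5962, .fwd 6131, .fwd 6132],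
   .loop none [.fwd 6194],
   .loop none [.fwd 6132, .bwd 6195],
   .loop none [.bwd 5508, .fwd 6195, .fwd 6133],
   .loop none [.fwd 6197],
   .loop none [.bwd 6134, .bwd 6198],
   .define,
   .define,
   .define,
   .define,
   .define,
   .loop (some (13, 7)) [.bwd 6191, .fwd 6193, .bwd 6053, .fwd 6200, .fwd 6201, .fwd 6202, .fwd 6203, .fwd 6204],
   .loop (some (4, 1)) [.bwd 5330, .bwd 6191, .fwd 4919],
   .define,
   .define,
   .loop (some (7, 2)) [.bwd 6191, .fwd 6207, .fwd 6208],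
   .loop (some (9, 1)) [.bwd 5103, .bwd 5581, .bwd 6083, .fwd 6207],
   .loop none [.fwd 6210],
   .loop none [.fwd 5802, .fwd 6211, .fwd 6208],
   .loop none [.fwd 6212],
   .loop none [.fwd 6207, .bwd 6211],
   .loop none [.bwd 6209, .bwd 6213],
   .loop (some (0, 0)) [.fwd 5801, .fwd 6214],
   .loop (some (1, 2)) [.bwd 6083, .fwd 6193, .fwd 6054],
   .loop (some (10, 2)) [.bwd 6079, .fwd 4918, .bwd 6214, .bwd 5584],
   .loop (some (6, 2)) [.bwd 6193, .bwd 6214, .bwd 5803],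
   .define,
   .define,
   .define,
   .define,
   .loop (some (13, 7)) [.bwd 6206, .fwd 6091, .fwd 5209, .bwd 6161, .fwd 6220, .fwd 6221, .fwd 6222, .fwd 6223],
   .loop (some (4, 1)) [.bwd 5512, .bwd 6206, .fwd 5507],
   .loop (some (7, 2)) [.bwd 6206, .bwd 6186, .fwd 6176],
   .loop (some (3, 1)) [.bwd 5733, .bwd 6091, .fwd 5507],
   .define,
   .define,
   .loop (some (13, 6)) [.bwd 6096, .bwd 6107, .bwd 6110, .bwd 5250, .bwd 6136, .bwd 6143, .fwd 6228, .fwd 6229],
   .loop (some (5, 1)) [.bwd 6131, .bwd 4952, .bwd 6088],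
   .loop (some (10, 2)) [.fwd 6180, .fwd 6088, .bwd 6109, .fwd 6079],
   .loop (some (6, 2)) [.fwd 6110, .bwd 6109, .bwd 6154],
   .define,
   .define,
   .define,
   .define,
   .loop (some (13, 6)) [.bwd 6115, .bwd 6123, .bwd 6130, .fwd 5250, .fwd 6234, .fwd 6235, .fwd 6236, .fwd 6237],
   .loop (some (4, 1)) [.bwd 6125, .bwd 6123, .fwd 6131],
   .loop (some (3, 1)) [.bwd 6137, .fwd 6130, .fwd 6131],
   .loop (some (2, 2)) [.bwd 6234, .bwd 5240, .fwd 4955, .fwd 5729],
   .loop none [.bwd 6241],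
   .loop none [.fwd 6234, .bwd 6242],
   .loop none [.bwd 6235, .bwd 6242],
   .loop (some (11, 3)) [.bwd 6244, .bwd 5729, .fwd 4956, .bwd 5331, .bwd 6224],
   .loop (some (9, 2)) [.bwd 5729, .bwd 5999, .fwd 5308],
   .define,
   .define,
   .loop (some (14, 4)) [.bwd 5486, .bwd 5420, .bwd 5667, .fwd 5666, .bwd 5331, .fwd 5512, .fwd 6247, .fwd 6248]]

theorem just24_len : just24.length = 250 := by decide +kernel

theorem just24_ok : cert.okFacts 6000 just24 = true := by decide +kernel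

/-- justifications -/
noncomputable def just25 : List Cert.Just :=
  [.define,
   .define,
   .define,
   .loop (some (13, 7)) [.fwd 6085, .bwd 6086, .bwd 5058, .bwd 5970, .bwd 5989, .fwd 6250, .fwd 6251, .fwd 6252],
   .loop (some (4, 1)) [.bwd 5574, .fwd 6085, .fwd 5583],
   .loop (some (7, 2)) [.fwd 6085, .bwd 6084, .bwd 5948],
   .loop (some (0, 0)) [.fwd 5952, .fwd 6084],
   .loop (some (6, 2)) [.fwd 6086, .bwd 6084, .fwd 5902],
   .loop (some (3, 1)) [.bwd 5763, .fwd 6086, .fwd 5583],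
   .define,
   .define,
   .define,
   .define,
   .loop (some (13, 6)) [.fwd 5851, .fwd 5842, .bwd 5843, .fwd 5150, .fwd 6259, .fwd 6260, .fwd 6261, .fwd 6262],
   .loop (some (4, 1)) [.bwd 5856, .fwd 5842, .bwd 6047],
   .loop (some (10, 2)) [.fwd 5508, .fwd 6199, .bwd 5840, .bwd 5441],
   .loop (some (3, 1)) [.fwd 5986, .fwd 5843, .bwd 6047],
   .define,
   .define,
   .define,
   .define,
   .define,
   .define,
   .define,
   .define,
   .loop (some (13, 8)) [.fwd 6267, .fwd 6268, .fwd 6269, .fwd 6270, .fwd 6271, .fwd 6272, .fwd 6273, .fwd 6274],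
   .loop (some (4, 3)) [.fwd 6275, .fwd 6199, .bwd 5842, .bwd 6128],
   .loop none [.bwd 6276],
   .loop none [.bwd 6275, .bwd 6277],
   .loop none [.fwd 6274, .bwd 6277],
   .loop (some (7, 2)) [.fwd 6278, .bwd 6256, .bwd 6085],
   .loop (some (2, 1)) [.bwd 5589, .bwd 5155, .bwd 5050, .bwd 6278],
   .loop none [.fwd 6281],
   .loop none [.bwd 6278, .bwd 6282],
   .loop none [.bwd 6279, .bwd 6282],
   .loop none [.fwd 5513, .fwd 6282, .bwd 6127],
   .loop none [.fwd 6285],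
   .loop none [.bwd 6128, .bwd 6282],
   .loop none [.fwd 6280, .bwd 6282],
   .loop none [.bwd 6247, .fwd 6286, .bwd 6126],
   .loop none [.bwd 6289],
   .loop none [.fwd 6247, .bwd 6290],
   .loop none [.bwd 6248, .bwd 6290],
   .loop (some (1, 1)) [.fwd 5151, .fwd 5903, .bwd 5050, .fwd 6267],
   .loop none [.fwd 6293],
   .loop none [.fwd 6267, .bwd 6294],
   .loop none [.fwd 5150, .fwd 6294, .fwd 6268],
   .loop none [.fwd 6296],
   .loop none [.bwd 5862, .fwd 6297, .fwd 6269],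
   .loop none [.fwd 6298],
   .loop none [.bwd 5849, .fwd 6299, .fwd 6270],
   .loop none [.fwd 6300],
   .loop none [.bwd 6271, .bwd 6301],
   .loop (some (6, 2)) [.fwd 6295, .bwd 6256, .bwd 6086],
   .loop (some (3, 3)) [.fwd 6295, .fwd 6199, .bwd 5843, .bwd 6140],
   .loop none [.fwd 6304],
   .loop none [.fwd 5734, .fwd 6305, .bwd 6139],
   .loop none [.fwd 6306],
   .loop none [.bwd 6140, .bwd 6305],
   .loop none [.bwd 6093, .fwd 6307, .bwd 6138],
   .loop none [.fwd 6309],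
   .loop none [.fwd 6240, .bwd 6310],
   .loop none [.fwd 6137, .bwd 6310],
   .loop (some (7, 1)) [.fwd 6069, .fwd 5970, .bwd 5969],
   .loop (some (0, 1)) [.fwd 5969, .fwd 5867],
   .loop (some (5, 1)) [.bwd 5763, .bwd 5058, .bwd 5709],
   .define,
   .loop (some (4, 2)) [.bwd 6162, .fwd 5763, .fwd 6316],
   .loop (some (7, 2)) [.bwd 6162, .bwd 6257, .bwd 5897],
   .loop (some (2, 1)) [.bwd 5746, .fwd 5180, .bwd 5059, .fwd 6162],
   .loop none [.fwd 6319],
   .loop none [.fwd 6162, .bwd 6320],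
   .loop none [.bwd 6163, .bwd 6320],
   .loop none [.bwd 5756, .fwd 6320, .bwd 6317],
   .loop none [.fwd 6323],
   .loop none [.fwd 6318, .bwd 6320],
   .loop none [.fwd 6316, .bwd 6324],
   .loop (some (14, 2)) [.fwd 6095, .bwd 5910, .bwd 5186, .fwd 5191, .fwd 5158, .fwd 5165, .bwd 5059, .fwd 5763],
   .loop (some (9, 2)) [.bwd 5124, .bwd 5762, .bwd 6054],
   .loop (some (2, 2)) [.bwd 5124, .fwd 5132, .bwd 5732],
   .loop (some (1, 2)) [.bwd 5124, .fwd 5136, .fwd 5372],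
   .define,
   .define,
   .loop (some (13, 6)) [.fwd 5881, .fwd 5810, .fwd 5803, .bwd 5104, .bwd 5802, .bwd 5936, .fwd 6331, .fwd 6332],
   .loop (some (4, 1)) [.bwd 5697, .fwd 5810, .fwd 5708],
   .loop (some (3, 1)) [.bwd 5440, .bwd 5803, .fwd 5708],
   .loop (some (2, 2)) [.bwd 5372, .bwd 5157, .fwd 5611],
   .loop (some (4, 1)) [.bwd 5675, .fwd 5802, .fwd 5440],
   .define,
   .define,
   .define,
   .define,
   .loop (some (13, 7)) [.fwd 6329, .bwd 6330, .bwd 5807, .bwd 6336, .fwd 6338, .fwd 6339, .fwd 6340, .fwd 6341],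
   .loop (some (7, 2)) [.fwd 6329, .bwd 6328, .fwd 6200],
   .define,
   .define,
   .define,
   .loop (some (13, 7)) [.bwd 6313, .bwd 6170, .bwd 5194, .bwd 5948, .fwd 5949, .fwd 6344, .fwd 6345, .fwd 6346],
   .loop (some (7, 2)) [.bwd 6313, .bwd 6314, .fwd 5862],
   .loop (some (4, 1)) [.bwd 6145, .fwd 6136, .bwd 6312],
   .define,
   .loop (some (11, 3)) [.fwd 6342, .fwd 5732, .fwd 5169, .bwd 5738, .fwd 6350],
   .loop (some (9, 2)) [.fwd 6343, .fwd 5732, .bwd 5755, .bwd 6061],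
   .loop none [.bwd 6352],
   .loop none [.fwd 6200, .bwd 6353],
   .loop none [.bwd 6201, .bwd 6353],
   .loop none [.bwd 6343, .bwd 6353],
   .loop (some (1, 2)) [.fwd 5732, .bwd 5615, .fwd 5611],
   .loop (some (6, 1)) [.bwd 5613, .fwd 5615, .bwd 5755],
   .loop (some (4, 1)) [.bwd 5863, .bwd 5862, .bwd 5986],
   .loop (some (10, 2)) [.fwd 5734, .fwd 6308, .bwd 5867, .bwd 5709],
   .loop (some (4, 3)) [.bwd 6259, .fwd 6308, .fwd 5862, .bwd 6148],
   .loop none [.bwd 6361],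
   .loop none [.fwd 6259, .bwd 6362],
   .loop none [.bwd 6260, .bwd 6362],
   .loop (some (7, 2)) [.fwd 6363, .bwd 6303, .bwd 6321],
   .loop (some (2, 1)) [.fwd 5738, .fwd 5170, .bwd 5151, .bwd 6363],
   .loop none [.fwd 6366],
   .loop none [.bwd 6363, .bwd 6367],
   .loop none [.bwd 6350, .fwd 6367, .fwd 6364],
   .loop none [.bwd 6369],
   .loop none [.fwd 5737, .fwd 6367, .bwd 6147],
   .loop none [.fwd 6371],
   .loop none [.bwd 6148, .bwd 6367],
   .loop none [.fwd 6365, .bwd 6367],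
   .loop none [.fwd 6350, .bwd 6370],
   .loop none [.bwd 6351, .bwd 6370],
   .loop none [.bwd 6102, .fwd 6372, .bwd 6146],
   .loop none [.fwd 6377],
   .loop none [.fwd 6349, .bwd 6378],
   .loop none [.fwd 6145, .bwd 6378],
   .loop (some (5, 1)) [.fwd 5986, .fwd 5150, .bwd 5734],
   .loop (some (11, 3)) [.bwd 6284, .bwd 5589, .fwd 5156, .fwd 5611, .fwd 6338],
   .loop (some (1, 2)) [.bwd 5589, .bwd 5893, .bwd 5738],
   .loop (some (9, 2)) [.bwd 5611, .fwd 5613, .bwd 6076],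
   .loop (some (11, 3)) [.fwd 6253, .bwd 5538, .fwd 5161, .bwd 6076, .bwd 6205],
   .loop (some (1, 2)) [.bwd 5538, .bwd 5745, .fwd 5746],
   .loop (some (14, 2)) [.fwd 6249, .fwd 5487, .fwd 5950, .bwd 5503, .bwd 5591, .fwd 5590, .fwd 5538, .fwd 5574],
   .loop (some (1, 2)) [.fwd 6076, .bwd 6358, .bwd 6061],
   .loop (some (11, 3)) [.bwd 6355, .fwd 6061, .fwd 5179, .fwd 5746, .fwd 6322],
   .loop (some (9, 2)) [.fwd 6061, .fwd 5754, .fwd 5696],
   .loop (some (14, 2)) [.fwd 6104, .fwd 5730, .fwd 5899, .fwd 5380, .fwd 5649, .bwd 5748, .fwd 5746, .fwd 5756],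
   .define,
   .define,
   .define,
   .loop (some (13, 6)) [.bwd 5898, .fwd 5897, .bwd 5902, .fwd 5194, .fwd 6167, .fwd 6392, .fwd 6393, .fwd 6394],
   .loop (some (10, 2)) [.fwd 6095, .bwd 5910, .bwd 5901, .bwd 5734],
   .loop (some (10, 2)) [.fwd 6088, .bwd 5959, .bwd 5952, .bwd 5508],
   .loop (some (7, 2)) [.bwd 6167, .bwd 6168, .bwd 5842],
   .loop (some (4, 1)) [.bwd 5736, .fwd 6090, .fwd 5733],
   .loop (some (7, 2)) [.fwd 6099, .fwd 6090, .bwd 6089, .fwd 6171],
   .loop none [.fwd 6400],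
   .loop none [.fwd 6171, .bwd 6401],
   .loop none [.bwd 6155, .fwd 6401, .fwd 6172],
   .loop none [.fwd 6403],
   .loop none [.bwd 6173, .bwd 6404],
   .loop (some (7, 2)) [.fwd 6161, .bwd 6160, .bwd 6112],
   .loop (some (11, 3)) [.bwd 6220, .bwd 5308, .bwd 5266, .bwd 6028, .bwd 6184],
   .loop (some (10, 2)) [.fwd 5709, .fwd 5228, .bwd 6111, .bwd 6095],
   .loop (some (7, 2)) [.fwd 6402, .bwd 6187, .bwd 6136],
   .loop (some (10, 2)) [.bwd 6050, .fwd 5238, .bwd 6219, .bwd 5764],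
   .loop (some (5, 1)) [.fwd 6312, .fwd 5250, .bwd 6095],
   .loop (some (10, 2)) [.fwd 6094, .fwd 6095, .bwd 6233, .fwd 6050],
   .loop (some (11, 3)) [.bwd 6392, .fwd 6064, .fwd 5263, .bwd 6068, .bwd 6347],
   .loop (some (1, 2)) [.fwd 6064, .bwd 6000, .bwd 6068],
   .loop (some (1, 2)) [.fwd 6028, .bwd 6101, .bwd 6010],
   .define,
   .loop (some (5, 2)) [.bwd 6220, .fwd 6058, .fwd 6416],
   .loop (some (8, 2)) [.bwd 6220, .bwd 6406, .bwd 6117],
   .loop (some (5, 2)) [.bwd 6355, .bwd 5309, .fwd 6220],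
   .loop (some (8, 2)) [.bwd 6355, .bwd 6390, .bwd 5881],
   .loop (some (10, 2)) [.bwd 6058, .fwd 5309, .bwd 6390, .bwd 5757],
   .loop (some (5, 2)) [.fwd 6098, .bwd 5310, .fwd 6355],
   .loop (some (8, 2)) [.fwd 6098, .bwd 6099, .fwd 6155],
   .loop (some (3, 1)) [.bwd 5512, .fwd 6100, .fwd 5736],
   .define,
   .loop (some (5, 2)) [.fwd 6157, .fwd 6073, .fwd 6425],
   .loop (some (8, 2)) [.fwd 6157, .bwd 6158, .fwd 6141],
   .loop (some (5, 2)) [.fwd 6205, .bwd 5329, .bwd 6157],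
   .loop (some (8, 2)) [.fwd 6205, .bwd 6215, .bwd 5936],
   .loop (some (10, 2)) [.bwd 6073, .fwd 5329, .bwd 6215, .bwd 5575],
   .loop (some (5, 2)) [.fwd 6224, .bwd 5330, .bwd 6205],
   .loop (some (8, 2)) [.fwd 6224, .bwd 6226, .bwd 6184],
   .define,
   .define,
   .define,
   .define,
   .loop (some (13, 7)) [.bwd 6337, .bwd 6335, .fwd 6315, .bwd 6326, .fwd 6433, .fwd 6434, .fwd 6435, .fwd 6436],
   .define,
   .loop (some (7, 2)) [.bwd 6337, .bwd 6178, .fwd 6438],
   .loop (some (8, 2)) [.bwd 6169, .bwd 6178, .fwd 6231],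
   .loop (some (6, 1)) [.fwd 6408, .fwd 6335, .bwd 6178],
   .loop (some (5, 2)) [.bwd 6141, .bwd 6027, .fwd 5987],
   .loop (some (8, 2)) [.bwd 6141, .bwd 6149, .fwd 6096],
   .loop (some (10, 2)) [.fwd 6439, .fwd 5676, .fwd 6027, .bwd 6149, .bwd 6249],
   .loop none [.bwd 6444],
   .loop none [.fwd 6438, .bwd 6445],
   .loop none [.bwd 6439, .bwd 6445],
   .loop (some (5, 2)) [.fwd 6184, .bwd 5467, .fwd 6141],
   .loop (some (8, 2)) [.fwd 6184, .bwd 6185, .fwd 6115],
   .loop (some (5, 2)) [.fwd 6253, .bwd 5468, .bwd 6184],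
   .loop (some (8, 2)) [.fwd 6253, .bwd 6255, .fwd 5949],
   .loop (some (3, 1)) [.bwd 5756, .fwd 6386, .fwd 5574],
   .define,
   .loop (some (5, 2)) [.bwd 6096, .bwd 6249, .fwd 6453],
   .loop (some (8, 2)) [.bwd 6096, .bwd 6105, .bwd 6157],
   .loop (some (10, 2)) [.fwd 6292, .fwd 6249, .bwd 6105, .fwd 6073],
   .loop (some (5, 2)) [.bwd 5949, .bwd 5487, .fwd 6096],
   .loop (some (8, 2)) [.bwd 5949, .fwd 5951, .fwd 6284],
   .loop (some (10, 2)) [.fwd 6249, .fwd 5487, .fwd 5951, .bwd 5513],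
   .loop (some (5, 2)) [.bwd 6338, .bwd 5488, .fwd 5949],
   .loop (some (8, 2)) [.bwd 6338, .bwd 6384, .bwd 6205],
   .define,
   .define,
   .define,
   .loop (some (13, 7)) [.bwd 6225, .fwd 6227, .fwd 6381, .fwd 6359, .fwd 6416, .fwd 6462, .fwd 6463, .fwd 6464],
   .loop (some (7, 2)) [.bwd 6225, .bwd 6265, .fwd 6337],
   .define,
   .define,
   .define,
   .loop (some (11, 4)) [.fwd 6291, .bwd 6465, .fwd 6467, .fwd 6468, .fwd 6469],
   .define,
   .define,
   .define,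
   .loop (some (13, 4)) [.bwd 6425, .bwd 6264, .fwd 6192, .fwd 6225, .bwd 6424, .fwd 6471, .fwd 6472, .fwd 6473],
   .loop (some (5, 2)) [.fwd 6465, .bwd 5512, .bwd 6224],
   .loop (some (8, 2)) [.fwd 6465, .bwd 6466, .bwd 6437],
   .loop (some (1, 2)) [.fwd 6291, .bwd 6424, .fwd 6102],
   .define,
   .loop (some (6, 2)) [.fwd 6424, .bwd 6466, .fwd 6478],
   .loop (some (5, 2)) [.bwd 6284, .bwd 5513, .bwd 6465],
   .loop (some (8, 2)) [.bwd 6284, .fwd 6288, .bwd 6253],
   .define,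
   .define,
   .define,
   .loop (some (11, 3)) [.bwd 6453, .bwd 6387, .fwd 6482, .fwd 6483, .fwd 6484],
   .loop (some (7, 0)) [.bwd 6239, .fwd 6440, .fwd 6254],
   .loop (some (5, 2)) [.bwd 6482, .bwd 5574, .bwd 6253],
   .loop (some (8, 2)) [.bwd 6482, .fwd 6486, .bwd 6470],
   .loop (some (1, 2)) [.bwd 6387, .fwd 6452, .fwd 6391],
   .loop (some (6, 2)) [.bwd 6452, .fwd 6486, .bwd 6477],
   .loop (some (5, 2)) [.fwd 5936, .bwd 5575, .fwd 6482],
   .loop (some (8, 2)) [.fwd 5936, .bwd 5937, .fwd 6338],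
   .loop (some (3, 2)) [.bwd 5697, .bwd 5883, .fwd 5675, .fwd 6478],
   .loop none [.fwd 6493],
   .loop none [.fwd 6478, .bwd 6494],
   .loop none [.bwd 6479, .bwd 6494],
   .define,
   .define,
   .define]

theorem just25_len : just25.length = 250 := by decide +kernel

theorem just25_ok : cert.okFacts 6250 just25 = true := by decide +kernel

/-- justifications -/
noncomputable def just26 : List Cert.Just :=
  [.loop (some (13, 6)) [.bwd 6482, .bwd 6254, .fwd 6258, .bwd 6315, .fwd 6334, .fwd 6497, .fwd 6498, .fwd 6499],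
   .loop (some (6, 2)) [.bwd 6258, .bwd 6440, .bwd 6311],
   .define,
   .define,
   .loop (some (11, 3)) [.bwd 6425, .fwd 6031, .bwd 6437, .fwd 6502, .fwd 6503],
   .loop (some (5, 2)) [.fwd 6437, .bwd 5675, .bwd 5936],
   .loop (some (8, 2)) [.fwd 6437, .bwd 6447, .fwd 6453],
   .loop (some (1, 2)) [.fwd 6031, .bwd 6495, .bwd 6013],
   .loop (some (6, 2)) [.fwd 6495, .bwd 6447, .bwd 6489],
   .loop (some (5, 2)) [.bwd 5987, .bwd 5676, .bwd 6437],
   .loop (some (8, 2)) [.bwd 5987, .bwd 6065, .fwd 6392],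
   .loop (some (5, 2)) [.fwd 5881, .bwd 5757, .fwd 6433],
   .loop (some (8, 2)) [.fwd 5881, .bwd 5882, .bwd 6342],
   .define,
   .define,
   .loop (some (11, 3)) [.bwd 6416, .fwd 6013, .fwd 6497, .fwd 6513, .fwd 6514],
   .loop (some (7, 1)) [.fwd 6408, .fwd 6334, .bwd 6508],
   .loop (some (0, 1)) [.fwd 6508, .fwd 6496],
   .loop (some (5, 2)) [.bwd 6497, .bwd 5697, .bwd 5881],
   .define,
   .loop (some (8, 2)) [.bwd 6497, .bwd 6508, .fwd 6519],
   .loop (some (5, 2)) [.fwd 5989, .bwd 5698, .fwd 6497],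
   .loop (some (8, 2)) [.fwd 5989, .bwd 6069, .bwd 6347],
   .loop (some (5, 2)) [.fwd 6117, .bwd 6009, .bwd 5989],
   .loop (some (8, 2)) [.fwd 6117, .bwd 6118, .fwd 6244],
   .loop (some (5, 2)) [.bwd 6155, .bwd 5726, .bwd 6117],
   .loop (some (8, 2)) [.bwd 6155, .bwd 6409, .bwd 6143],
   .loop (some (5, 2)) [.bwd 6322, .bwd 5727, .fwd 6155],
   .loop (some (8, 2)) [.bwd 6322, .fwd 6325, .fwd 5898],
   .loop (some (5, 2)) [.bwd 6244, .bwd 6104, .fwd 6519],
   .loop (some (8, 2)) [.bwd 6244, .bwd 6246, .fwd 6220],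
   .loop (some (10, 2)) [.fwd 6103, .fwd 6104, .bwd 6246, .fwd 6058],
   .loop (some (5, 2)) [.bwd 5898, .bwd 5730, .fwd 6244],
   .loop (some (8, 2)) [.bwd 5898, .fwd 5900, .bwd 6375],
   .loop (some (5, 2)) [.fwd 6342, .bwd 5731, .fwd 5898],
   .loop (some (8, 2)) [.fwd 6342, .bwd 6356, .fwd 6355],
   .define,
   .define,
   .define,
   .loop (some (11, 4)) [.bwd 6102, .fwd 6471, .fwd 6536, .fwd 6537, .fwd 6538],
   .loop (some (5, 2)) [.bwd 6471, .bwd 5736, .bwd 6098],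
   .loop (some (8, 2)) [.bwd 6471, .bwd 6496, .fwd 6497],
   .loop (some (5, 2)) [.fwd 6375, .bwd 5737, .fwd 6471],
   .loop (some (8, 2)) [.fwd 6375, .fwd 6374, .fwd 6322],
   .define,
   .define,
   .loop (some (11, 3)) [.bwd 6519, .bwd 6391, .fwd 6433, .fwd 6544, .fwd 6545],
   .loop (some (5, 2)) [.bwd 6433, .bwd 5756, .fwd 6322],
   .loop (some (8, 2)) [.bwd 6433, .bwd 6490, .bwd 6539],
   .loop (some (5, 2)) [.fwd 6347, .bwd 5830, .bwd 6342],
   .loop (some (8, 2)) [.fwd 6347, .bwd 6348, .fwd 5849],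
   .loop (some (5, 2)) [.fwd 6143, .bwd 5831, .bwd 6347],
   .loop (some (8, 2)) [.fwd 6143, .bwd 6144, .bwd 6098],
   .loop (some (5, 2)) [.bwd 6392, .bwd 5835, .fwd 6338],
   .loop (some (8, 2)) [.bwd 6392, .bwd 6398, .bwd 5851],
   .loop (some (5, 2)) [.bwd 6115, .bwd 5836, .fwd 6392],
   .loop (some (8, 2)) [.bwd 6115, .bwd 6122, .bwd 6224],
   .loop (some (5, 2)) [.fwd 5851, .bwd 6287, .fwd 6284],
   .loop (some (8, 2)) [.fwd 5851, .bwd 5852, .fwd 5987],
   .loop (some (5, 2)) [.bwd 5849, .bwd 6373, .bwd 6375],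
   .loop (some (8, 2)) [.bwd 5849, .bwd 5860, .bwd 5989],
   .loop (some (13, 0)) [.fwd 5851, .fwd 5842, .fwd 5049, .bwd 6283, .fwd 6284, .bwd 6273, .bwd 6272, .bwd 6302],
   .loop (some (4, 2)) [.bwd 6302, .bwd 6559, .fwd 6261],
   .loop (some (7, 2)) [.bwd 6302, .bwd 6560, .fwd 6250],
   .loop (some (2, 1)) [.fwd 6263, .bwd 5850, .fwd 6302],
   .loop (some (5, 0)) [.bwd 6416, .bwd 5863, .fwd 5849],
   .loop (some (6, 1)) [.fwd 6558, .bwd 6561, .bwd 6560],
   .loop (some (3, 1)) [.fwd 6557, .bwd 6561, .bwd 6559],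
   .loop (some (4, 2)) [.fwd 6263, .bwd 6557, .bwd 6273],
   .loop (some (7, 2)) [.fwd 6263, .bwd 6558, .bwd 6166],
   .loop (some (5, 0)) [.bwd 6425, .bwd 5856, .bwd 5851],
   .loop (some (8, 2)) [.bwd 6425, .bwd 6430, .fwd 6482],
   .loop (some (8, 2)) [.bwd 6416, .bwd 6421, .fwd 6433],
   .loop (some (13, 0)) [.bwd 5949, .fwd 5948, .fwd 5194, .fwd 6167, .fwd 6392, .fwd 6393, .fwd 6394, .fwd 6395],
   .loop (some (4, 2)) [.fwd 6395, .bwd 6532, .fwd 6236],
   .loop (some (7, 2)) [.fwd 6395, .bwd 6533, .fwd 6261],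
   .loop (some (2, 1)) [.fwd 6333, .bwd 5880, .bwd 6395],
   .loop (some (1, 2)) [.bwd 5880, .fwd 6573, .fwd 5935],
   .loop (some (3, 1)) [.fwd 6457, .bwd 6573, .bwd 6532],
   .define,
   .define,
   .define,
   .loop (some (14, 6)) [.fwd 6529, .fwd 6532, .fwd 5880, .bwd 6511, .fwd 6544, .fwd 6579, .fwd 6580, .fwd 6581],
   .loop (some (12, 3)) [.fwd 6582, .fwd 6529, .fwd 6532, .fwd 6534, .fwd 6549, .fwd 6551],
   .loop (some (4, 2)) [.fwd 6333, .bwd 6511, .fwd 6434],
   .loop (some (7, 2)) [.fwd 6333, .bwd 6512, .bwd 6341],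
   .loop (some (6, 1)) [.fwd 6492, .fwd 6577, .bwd 6512],
   .loop (some (3, 1)) [.fwd 6491, .fwd 6577, .bwd 6511],
   .loop (some (4, 2)) [.bwd 6344, .bwd 6457, .bwd 6230],
   .loop (some (7, 2)) [.bwd 6344, .bwd 6458, .bwd 6273],
   .loop (some (2, 1)) [.bwd 6331, .bwd 5935, .fwd 6344],
   .define,
   .define,
   .define,
   .loop (some (14, 6)) [.fwd 6454, .fwd 6457, .fwd 5935, .bwd 6491, .fwd 6483, .fwd 6591, .fwd 6592, .fwd 6593],
   .loop (some (12, 3)) [.fwd 6594, .fwd 6454, .fwd 6457, .fwd 6460, .fwd 6553, .fwd 6555],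
   .loop (some (4, 2)) [.bwd 6331, .bwd 6491, .bwd 6500],
   .loop (some (7, 2)) [.bwd 6331, .bwd 6492, .fwd 6339],
   .loop (some (4, 2)) [.fwd 6166, .bwd 6509, .bwd 6436],
   .loop (some (7, 2)) [.fwd 6166, .bwd 6510, .fwd 6393],
   .loop (some (2, 1)) [.bwd 6250, .bwd 5988, .bwd 6166],
   .loop (some (6, 1)) [.fwd 6522, .fwd 6566, .bwd 6510],
   .loop (some (3, 1)) [.fwd 6521, .fwd 6566, .bwd 6509],
   .define,
   .loop (some (14, 4)) [.bwd 6483, .fwd 6491, .fwd 6505, .fwd 6509, .fwd 5988, .bwd 6521, .fwd 6513, .fwd 6603],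
   .loop (some (4, 2)) [.bwd 6250, .bwd 6521, .fwd 6498],
   .loop (some (7, 2)) [.bwd 6250, .bwd 6522, .bwd 6346],
   .define,
   .loop (some (14, 4)) [.bwd 6544, .fwd 6511, .fwd 6518, .fwd 6521, .bwd 5988, .bwd 6509, .fwd 6502, .fwd 6607],
   .define,
   .define,
   .loop (some (13, 6)) [.bwd 6453, .fwd 6446, .fwd 6441, .fwd 6411, .bwd 6379, .bwd 6539, .fwd 6609, .fwd 6610],
   .define,
   .define,
   .loop (some (13, 6)) [.bwd 6519, .fwd 6516, .bwd 6441, .fwd 6231, .fwd 6239, .bwd 6470, .fwd 6612, .fwd 6613],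
   .loop (some (4, 2)) [.fwd 6230, .bwd 6454, .bwd 6611],
   .loop (some (7, 2)) [.fwd 6230, .bwd 6455, .bwd 6190],
   .loop (some (2, 1)) [.bwd 6188, .bwd 6097, .bwd 6230],
   .loop (some (1, 2)) [.bwd 6097, .bwd 6578, .bwd 6245],
   .loop (some (6, 1)) [.fwd 6530, .fwd 6578, .bwd 6455],
   .loop (some (3, 1)) [.fwd 6529, .fwd 6578, .bwd 6454],
   .loop (some (4, 2)) [.bwd 6188, .bwd 6422, .fwd 6202],
   .loop (some (7, 2)) [.bwd 6188, .bwd 6423, .fwd 6405],
   .loop (some (6, 1)) [.fwd 6432, .fwd 6618, .bwd 6423],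
   .loop (some (3, 1)) [.fwd 6431, .fwd 6618, .bwd 6422],
   .define,
   .loop (some (14, 4)) [.fwd 6515, .fwd 6417, .fwd 6419, .fwd 6422, .bwd 6097, .bwd 6454, .bwd 6485, .fwd 6625],
   .loop (some (5, 3)) [.fwd 6539, .fwd 6380, .bwd 6143, .fwd 6583],
   .loop none [.fwd 6627],
   .loop none [.fwd 6538, .fwd 6628, .bwd 6581],
   .loop none [.fwd 6629],
   .loop none [.bwd 6582, .bwd 6628],
   .loop none [.fwd 6583, .bwd 6628],
   .loop none [.fwd 6580, .bwd 6630],
   .loop (some (8, 2)) [.fwd 6539, .bwd 6531, .fwd 6416],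
   .loop (some (8, 2)) [.bwd 6519, .bwd 6517, .fwd 6471],
   .loop (some (13, 0)) [.fwd 6143, .fwd 6136, .fwd 5250, .bwd 6243, .fwd 6244, .fwd 6236, .fwd 6237, .fwd 6238],
   .loop (some (4, 2)) [.fwd 6238, .bwd 6555, .fwd 6393],
   .loop (some (7, 2)) [.fwd 6238, .bwd 6556, .bwd 6223],
   .loop (some (2, 1)) [.bwd 6181, .bwd 6116, .bwd 6238],
   .loop (some (5, 1)) [.fwd 6470, .bwd 6125, .fwd 6115, .fwd 6595],
   .loop none [.fwd 6640],
   .loop none [.fwd 6469, .fwd 6641, .bwd 6593],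
   .loop none [.fwd 6642],
   .loop none [.bwd 6594, .bwd 6641],
   .loop none [.fwd 6595, .bwd 6641],
   .loop none [.fwd 6592, .bwd 6643],
   .loop (some (1, 2)) [.bwd 6116, .fwd 6636, .bwd 6142],
   .loop (some (10, 2)) [.bwd 6644, .fwd 6645, .bwd 6556, .fwd 6475],
   .loop (some (4, 2)) [.bwd 6181, .bwd 6523, .fwd 6250],
   .loop (some (7, 2)) [.bwd 6181, .bwd 6524, .fwd 6236],
   .loop (some (8, 2)) [.fwd 6470, .bwd 6456, .fwd 6425],
   .loop (some (4, 2)) [.fwd 6175, .bwd 6442, .bwd 6166],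
   .loop (some (7, 2)) [.fwd 6175, .bwd 6443, .bwd 6230],
   .loop (some (2, 1)) [.bwd 6228, .bwd 6142, .bwd 6175],
   .loop (some (4, 2)) [.bwd 6228, .bwd 6551, .bwd 6346],
   .loop (some (7, 2)) [.bwd 6228, .bwd 6552, .fwd 6188],
   .loop (some (4, 2)) [.bwd 6405, .bwd 6525, .fwd 6181],
   .loop (some (7, 2)) [.bwd 6405, .bwd 6526, .fwd 6228],
   .loop (some (2, 1)) [.fwd 6190, .bwd 6156, .fwd 6405],
   .define,
   .loop (some (14, 4)) [.bwd 6513, .fwd 6521, .fwd 6523, .fwd 6525, .fwd 6156, .bwd 6426, .bwd 6504, .fwd 6660],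
   .loop (some (4, 2)) [.fwd 6190, .bwd 6426, .bwd 6474],
   .loop (some (7, 2)) [.fwd 6190, .bwd 6427, .bwd 6175],
   .loop (some (3, 1)) [.fwd 6417, .bwd 6619, .bwd 6426],
   .loop (some (13, 0)) [.fwd 6253, .fwd 6085, .bwd 5009, .fwd 6017, .fwd 5987, .bwd 6166, .bwd 6165, .bwd 6164],
   .loop (some (4, 2)) [.bwd 6164, .bwd 6527, .fwd 6405],
   .loop (some (7, 2)) [.bwd 6164, .bwd 6528, .bwd 6395],
   .loop (some (2, 1)) [.bwd 6202, .bwd 6389, .fwd 6164],
   .loop (some (11, 3)) [.bwd 6203, .bwd 6668, .fwd 6165, .fwd 6600, .fwd 6251],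
   .loop (some (13, 0)) [.bwd 6251, .bwd 6250, .fwd 5989, .fwd 5970, .fwd 5058, .bwd 6321, .fwd 6322, .fwd 6164],
   .loop (some (9, 2)) [.bwd 6668, .bwd 6667, .fwd 6576],
   .loop (some (0, 0)) [.fwd 6575, .fwd 6667],
   .loop (some (5, 0)) [.fwd 6435, .fwd 6598, .bwd 6165],
   .loop (some (1, 2)) [.bwd 6668, .fwd 6670, .fwd 6669],
   .loop (some (10, 1)) [.fwd 6585, .bwd 6584, .bwd 6673, .bwd 6667],
   .define,
   .loop (some (6, 2)) [.bwd 6670, .bwd 6667, .fwd 6676],
   .define,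
   .loop (some (3, 2)) [.bwd 6670, .bwd 6666, .fwd 6678],
   .define,
   .define,
   .loop (some (14, 3)) [.bwd 6652, .fwd 6600, .fwd 6649, .fwd 6657, .fwd 6666, .fwd 6668, .fwd 6680, .fwd 6681],
   .loop (some (12, 2)) [.fwd 6605, .fwd 6649, .fwd 6657, .fwd 6666, .fwd 6673, .fwd 6584],
   .loop (some (13, 0)) [.fwd 6251, .fwd 6252, .fwd 6253, .fwd 6085, .bwd 5009, .fwd 6017, .fwd 5987, .bwd 6166],
   .loop (some (9, 1)) [.fwd 6606, .bwd 6600, .bwd 6599],
   .loop (some (0, 1)) [.fwd 6599, .fwd 6569],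
   .loop (some (10, 2)) [.fwd 6682, .bwd 6652, .bwd 6599, .fwd 6637],
   .loop (some (6, 1)) [.fwd 6606, .bwd 6684, .bwd 6599],
   .loop (some (3, 1)) [.fwd 6605, .bwd 6684, .bwd 6598],
   .define,
   .define,
   .define,
   .define,
   .define,
   .loop (some (14, 7)) [.fwd 6598, .fwd 6600, .bwd 6605, .fwd 6690, .fwd 6691, .fwd 6692, .fwd 6693, .fwd 6694],
   .define,
   .loop (some (12, 3)) [.fwd 6694, .fwd 6695, .fwd 6598, .fwd 6652, .bwd 6682, .fwd 6696],
   .loop (some (13, 1)) [.bwd 6182, .bwd 6181, .fwd 6117, .fwd 6112, .fwd 5975, .bwd 6402, .fwd 6155, .fwd 6405, .fwd 6678],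
   .loop none [.fwd 6698],
   .loop none [.fwd 6678, .bwd 6699],
   .loop none [.bwd 6679, .bwd 6699],
   .define,
   .loop (some (1, 2)) [.bwd 6659, .bwd 6700, .fwd 6702],
   .define,
   .loop (some (10, 2)) [.bwd 6673, .bwd 6666, .bwd 6658, .fwd 6704],
   .define,
   .loop (some (6, 2)) [.fwd 6700, .bwd 6658, .fwd 6706],
   .define,
   .loop (some (3, 2)) [.fwd 6700, .bwd 6657, .fwd 6708],
   .define,
   .define,
   .loop (some (14, 4)) [.bwd 6690, .fwd 6605, .fwd 6649, .fwd 6657, .fwd 6659, .bwd 6662, .fwd 6710, .fwd 6711],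
   .loop (some (13, 0)) [.bwd 6708, .fwd 6182, .fwd 6183, .fwd 6184, .bwd 6176, .bwd 6036, .fwd 6150, .fwd 6141, .bwd 6175],
   .loop none [.bwd 6713],
   .loop none [.fwd 6708, .bwd 6714],
   .loop none [.fwd 6682, .fwd 6714, .fwd 6709],
   .loop none [.bwd 6716],
   .loop none [.bwd 6702, .fwd 6717, .bwd 6681],
   .loop none [.bwd 6718],
   .loop none [.bwd 6701, .fwd 6717, .fwd 6696],
   .loop none [.fwd 6720],
   .loop none [.bwd 6682, .bwd 6717],
   .loop none [.fwd 6707, .fwd 6717, .bwd 6687],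
   .loop none [.bwd 6723],
   .loop none [.bwd 6703, .bwd 6719],
   .loop none [.fwd 6702, .bwd 6719],
   .loop none [.bwd 6697, .bwd 6721],
   .loop none [.fwd 6706, .bwd 6724],
   .loop none [.bwd 6707, .bwd 6724],
   .loop (some (10, 2)) [.fwd 6677, .bwd 6701, .fwd 6722, .bwd 6653, .fwd 6588],
   .loop none [.bwd 6730],
   .loop none [.fwd 6676, .bwd 6731],
   .loop none [.bwd 6677, .bwd 6731],
   .loop (some (6, 1)) [.fwd 6650, .bwd 6715, .bwd 6653],
   .define,
   .define,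
   .loop (some (14, 5)) [.fwd 6695, .fwd 6598, .fwd 6652, .fwd 6654, .bwd 6655, .bwd 6685, .fwd 6735, .fwd 6736],
   .define,
   .loop (some (11, 3)) [.fwd 6237, .fwd 6639, .fwd 6182, .bwd 6726, .fwd 6738],
   .loop (some (9, 2)) [.fwd 6638, .fwd 6639, .bwd 6650, .bwd 6739],
   .loop none [.fwd 6740],
   .loop none [.fwd 6222, .fwd 6741, .bwd 6738],
   .loop none [.fwd 6742],
   .loop none [.bwd 6739, .bwd 6741],
   .loop none [.bwd 6725, .bwd 6743],
   .loop none [.bwd 6726, .bwd 6743],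
   .loop none [.fwd 6680, .bwd 6743],
   .define,
   .loop (some (0, 1)) [.fwd 6650, .fwd 6748]]

theorem just26_len : just26.length = 250 := by decide +kernel

theorem just26_ok : cert.okFacts 6500 just26 = true := by decide +kernel

/-- justifications -/
noncomputable def just27 : List Cert.Just :=
  [.loop (some (14, 3)) [.bwd 6675, .fwd 6576, .fwd 6683, .fwd 6605, .fwd 6649, .bwd 6639, .bwd 6637, .fwd 6685],
   .loop (some (9, 3)) [.fwd 6746, .bwd 6729, .fwd 6639, .fwd 6748],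
   .loop none [.fwd 6751],
   .loop none [.bwd 6749, .bwd 6752],
   .loop none [.fwd 6748, .bwd 6752],
   .loop (some (0, 0)) [.fwd 6638, .fwd 6729],
   .define,
   .loop (some (10, 2)) [.bwd 6727, .bwd 6701, .bwd 6729, .fwd 6756],
   .define,
   .define,
   .define,
   .define,
   .loop (some (14, 5)) [.fwd 6598, .fwd 6652, .bwd 6722, .bwd 6746, .fwd 6758, .fwd 6759, .fwd 6760, .fwd 6761],
   .define,
   .loop (some (14, 4)) [.bwd 6502, .fwd 6509, .fwd 6442, .fwd 6448, .fwd 6407, .bwd 6417, .bwd 6515, .fwd 6763],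
   .loop (some (13, 0)) [.bwd 6222, .bwd 6221, .bwd 6220, .fwd 6161, .bwd 5209, .bwd 6090, .bwd 6098, .fwd 6188],
   .loop (some (5, 0)) [.fwd 6473, .fwd 6662, .bwd 6189],
   .loop (some (10, 3)) [.bwd 6766, .bwd 6622, .fwd 6666, .fwd 6672],
   .loop (some (3, 2)) [.bwd 6765, .bwd 6621, .bwd 6674],
   .define,
   .define,
   .loop (some (14, 4)) [.bwd 6759, .bwd 6758, .fwd 6747, .fwd 6621, .bwd 6617, .bwd 6615, .fwd 6769, .fwd 6770],
   .loop (some (12, 3)) [.bwd 6758, .fwd 6747, .fwd 6621, .fwd 6766, .bwd 6767, .fwd 6562],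
   .loop (some (5, 0)) [.bwd 6203, .fwd 6621, .fwd 6189],
   .loop (some (3, 1)) [.bwd 6758, .fwd 6745, .bwd 6662],
   .define,
   .define,
   .loop (some (14, 7)) [.fwd 6662, .bwd 6659, .bwd 6657, .bwd 6639, .bwd 6637, .fwd 6735, .fwd 6775, .fwd 6776],
   .define,
   .loop (some (12, 3)) [.fwd 6776, .fwd 6777, .fwd 6662, .fwd 6773, .fwd 6768, .fwd 6778],
   .loop (some (0, 0)) [.fwd 6585, .fwd 6671],
   .loop (some (8, 2)) [.bwd 6203, .bwd 6671, .bwd 6332],
   .loop (some (10, 2)) [.bwd 6766, .bwd 6621, .bwd 6671, .fwd 6683],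
   .loop (some (6, 1)) [.fwd 6781, .fwd 6674, .bwd 6671],
   .loop (some (14, 5)) [.bwd 6564, .fwd 6772, .bwd 6758, .fwd 6747, .bwd 6668, .bwd 6666, .fwd 6659, .bwd 6662, .bwd 6777],
   .loop none [.fwd 6784],
   .loop none [.bwd 6777, .bwd 6785],
   .loop none [.fwd 6568, .fwd 6785, .bwd 6776],
   .loop none [.fwd 6787],
   .loop none [.fwd 6775, .bwd 6788],
   .loop none [.fwd 6779, .bwd 6788],
   .loop (some (0, 0)) [.fwd 6597, .fwd 6781],
   .define,
   .loop (some (10, 2)) [.bwd 6778, .bwd 6768, .bwd 6781, .fwd 6792],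
   .loop (some (4, 2)) [.bwd 6758, .bwd 6221, .bwd 6417, .fwd 6462],
   .loop none [.bwd 6794],
   .loop none [.fwd 6774, .bwd 6795],
   .loop none [.bwd 6759, .bwd 6795],
   .loop none [.fwd 6758, .bwd 6795],
   .loop none [.fwd 6772, .bwd 6795],
   .loop (some (14, 5)) [.fwd 6562, .bwd 6799, .fwd 6798, .fwd 6746, .fwd 6722, .fwd 6654, .bwd 6655, .fwd 6750],
   .loop (some (5, 1)) [.bwd 6463, .fwd 6798, .fwd 6222, .fwd 6778],
   .loop none [.fwd 6801],
   .loop none [.fwd 6790, .bwd 6802],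
   .loop none [.fwd 6778, .bwd 6802],
   .loop none [.fwd 6793, .bwd 6802],
   .loop (some (10, 2)) [.bwd 6803, .fwd 6804, .bwd 6755, .fwd 6701],
   .define,
   .define,
   .define,
   .loop (some (14, 4)) [.bwd 6710, .fwd 6662, .fwd 6773, .fwd 6768, .fwd 6744, .fwd 6807, .fwd 6808, .fwd 6809],
   .define,
   .loop (some (14, 4)) [.fwd 6504, .fwd 6426, .fwd 6428, .fwd 6431, .fwd 6245, .bwd 6529, .bwd 6546, .fwd 6811],
   .loop (some (5, 1)) [.fwd 6610, .fwd 6615, .bwd 6229, .fwd 6704],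
   .loop none [.fwd 6813],
   .loop none [.fwd 6704, .bwd 6814],
   .loop none [.bwd 6705, .bwd 6814],
   .define,
   .loop (some (10, 3)) [.fwd 6815, .bwd 6656, .fwd 6766, .fwd 6817],
   .loop (some (12, 2)) [.bwd 6807, .fwd 6574, .fwd 6675, .bwd 6750, .fwd 6655, .bwd 6815, .bwd 6818],
   .loop none [.fwd 6819],
   .loop none [.bwd 6818, .bwd 6820],
   .loop none [.fwd 6817, .bwd 6820],
   .loop (some (10, 3)) [.bwd 6588, .bwd 6616, .fwd 6773, .fwd 6791],
   .loop (some (3, 1)) [.bwd 6807, .bwd 6734, .bwd 6615],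
   .loop (some (14, 7)) [.fwd 6615, .fwd 6617, .bwd 6621, .bwd 6668, .bwd 6666, .bwd 6657, .bwd 6639, .fwd 6756],
   .loop (some (12, 2)) [.bwd 6735, .fwd 6637, .fwd 6756, .fwd 6825, .fwd 6615, .fwd 6588, .bwd 6823],
   .loop none [.bwd 6826],
   .loop none [.fwd 6789, .bwd 6827],
   .loop none [.fwd 6735, .bwd 6827],
   .loop none [.bwd 6823, .fwd 6827, .fwd 6736],
   .loop none [.fwd 6830],
   .loop none [.bwd 6590, .fwd 6831, .fwd 6737],
   .loop none [.fwd 6832],
   .loop none [.bwd 6792, .fwd 6833, .fwd 6695],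
   .loop none [.bwd 6834],
   .loop none [.fwd 6596, .fwd 6833, .bwd 6694],
   .loop none [.fwd 6836],
   .loop none [.fwd 6792, .bwd 6835],
   .loop none [.fwd 6805, .bwd 6835],
   .loop none [.fwd 6693, .bwd 6837],
   .loop none [.fwd 6727, .bwd 6837],
   .loop none [.fwd 6757, .bwd 6837],
   .loop (some (4, 2)) [.bwd 6807, .bwd 6236, .bwd 6529, .bwd 6614],
   .loop none [.bwd 6843],
   .loop none [.fwd 6824, .bwd 6844],
   .loop none [.bwd 6808, .bwd 6844],
   .loop none [.fwd 6807, .bwd 6844],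
   .loop none [.bwd 6821, .bwd 6844],
   .loop none [.bwd 6822, .bwd 6844],
   .loop (some (5, 1)) [.fwd 6613, .fwd 6847, .fwd 6237, .fwd 6756],
   .loop none [.fwd 6850],
   .loop none [.bwd 6825, .bwd 6851],
   .loop none [.fwd 6756, .bwd 6851],
   .loop none [.fwd 6842, .bwd 6851],
   .loop (some (10, 2)) [.bwd 6852, .fwd 6853, .bwd 6638, .bwd 6804],
   .loop (some (0, 1)) [.fwd 6606, .fwd 6563],
   .define,
   .define,
   .loop (some (14, 5)) [.fwd 6584, .fwd 6683, .fwd 6605, .bwd 6600, .bwd 6598, .bwd 6762, .fwd 6857, .fwd 6858],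
   .loop (some (3, 1)) [.fwd 6480, .bwd 6567, .bwd 6542],
   .loop (some (13, 0)) [.bwd 6272, .bwd 6302, .bwd 5849, .bwd 5862, .fwd 5150, .bwd 6368, .bwd 6375, .fwd 6261],
   .loop (some (1, 2)) [.fwd 6800, .fwd 6861, .bwd 6828],
   .loop (some (10, 2)) [.fwd 6799, .bwd 6562, .bwd 6672, .fwd 6673],
   .loop (some (3, 1)) [.fwd 6803, .bwd 6861, .fwd 6767],
   .loop (some (13, 0)) [.fwd 6272, .fwd 6273, .bwd 6284, .fwd 6283, .bwd 5049, .bwd 5842, .bwd 5851, .bwd 6263],
   .loop (some (10, 2)) [.bwd 6786, .bwd 6568, .bwd 6806, .bwd 6841],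
   .loop (some (3, 1)) [.fwd 6584, .fwd 6783, .bwd 6596],
   .define,
   .loop (some (14, 4)) [.fwd 6485, .fwd 6454, .fwd 6457, .fwd 6460, .fwd 6382, .bwd 6480, .fwd 6467, .fwd 6868],
   .define,
   .define,
   .loop (some (14, 4)) [.bwd 6769, .fwd 6615, .fwd 6588, .bwd 6823, .fwd 6828, .bwd 6803, .fwd 6870, .fwd 6871],
   .define,
   .define,
   .loop (some (14, 4)) [.bwd 6846, .fwd 6847, .fwd 6574, .fwd 6675, .fwd 6800, .fwd 6767, .fwd 6873, .fwd 6874],
   .define,
   .loop (some (14, 4)) [.fwd 6546, .fwd 6529, .fwd 6532, .fwd 6534, .bwd 6376, .bwd 6542, .fwd 6536, .fwd 6876],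
   .define,
   .define,
   .loop (some (14, 5)) [.fwd 6852, .fwd 6615, .fwd 6588, .fwd 6590, .bwd 6596, .fwd 6840, .fwd 6878, .fwd 6879],
   .loop (some (10, 2)) [.fwd 6815, .bwd 6655, .bwd 6856, .bwd 6799],
   .loop (some (10, 2)) [.fwd 6853, .bwd 6637, .bwd 6686, .fwd 6786],
   .define,
   .define,
   .loop (some (14, 5)) [.bwd 6848, .fwd 6847, .fwd 6574, .fwd 6576, .bwd 6584, .bwd 6859, .fwd 6883, .fwd 6884],
   .loop (some (9, 2)) [.fwd 6515, .bwd 6572, .fwd 6544],
   .loop (some (2, 2)) [.fwd 6515, .fwd 6462, .fwd 6797],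
   .loop (some (1, 2)) [.fwd 6515, .bwd 6664, .bwd 6504],
   .define,
   .define,
   .loop (some (14, 4)) [.bwd 6536, .fwd 6542, .fwd 6559, .fwd 6565, .bwd 6515, .fwd 6763, .fwd 6889, .fwd 6890],
   .loop (some (9, 2)) [.fwd 6504, .bwd 6571, .fwd 6483],
   .loop (some (2, 2)) [.fwd 6504, .bwd 6474, .fwd 6710],
   .define,
   .define,
   .loop (some (14, 4)) [.bwd 6467, .fwd 6480, .fwd 6557, .fwd 6570, .bwd 6504, .fwd 6660, .fwd 6894, .fwd 6895],
   .loop (some (9, 2)) [.bwd 6544, .bwd 6548, .bwd 6538],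
   .loop (some (2, 2)) [.bwd 6544, .fwd 6434, .bwd 6859],
   .loop (some (1, 2)) [.bwd 6544, .fwd 6587, .fwd 6483],
   .loop (some (6, 1)) [.fwd 6488, .bwd 6587, .bwd 6548],
   .loop (some (14, 2)) [.fwd 6485, .bwd 6644, .fwd 6645, .fwd 6116, .fwd 6525, .fwd 6527, .fwd 6547, .fwd 6544, .fwd 6579],
   .loop none [.fwd 6901],
   .loop none [.fwd 6869, .fwd 6902, .bwd 6579],
   .loop none [.bwd 6903],
   .loop none [.bwd 6625, .fwd 6902, .bwd 6633],
   .loop none [.bwd 6905],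
   .loop none [.fwd 6608, .fwd 6904, .bwd 6868],
   .loop none [.bwd 6907],
   .loop none [.bwd 6869, .bwd 6904],
   .loop none [.fwd 6625, .bwd 6906],
   .loop none [.bwd 6626, .bwd 6906],
   .loop none [.fwd 6896, .fwd 6908, .bwd 6607],
   .loop none [.bwd 6912],
   .loop none [.bwd 6608, .bwd 6908],
   .loop none [.fwd 6764, .fwd 6913, .bwd 6895],
   .loop none [.fwd 6915],
   .loop none [.bwd 6896, .bwd 6913],
   .loop none [.bwd 6889, .fwd 6916, .bwd 6894],
   .loop none [.bwd 6918],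
   .loop none [.fwd 6889, .bwd 6919],
   .loop none [.bwd 6661, .fwd 6919, .fwd 6890],
   .loop none [.fwd 6921],
   .loop none [.bwd 6603, .fwd 6922, .fwd 6891],
   .loop none [.bwd 6923],
   .loop none [.fwd 6603, .bwd 6924],
   .loop none [.bwd 6876, .fwd 6924, .fwd 6604],
   .loop none [.bwd 6926],
   .loop none [.fwd 6876, .bwd 6927],
   .loop none [.bwd 6591, .fwd 6927, .fwd 6877],
   .loop none [.bwd 6929],
   .loop none [.fwd 6591, .bwd 6930],
   .loop none [.bwd 6811, .fwd 6930, .bwd 6646],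
   .loop none [.bwd 6932],
   .loop none [.fwd 6811, .bwd 6933],
   .loop none [.bwd 6812, .bwd 6933],
   .define,
   .define,
   .loop (some (11, 4)) [.fwd 6859, .fwd 6435, .bwd 6762, .fwd 6936, .fwd 6937],
   .loop (some (9, 2)) [.fwd 6859, .bwd 6816, .bwd 6885],
   .loop (some (8, 2)) [.bwd 6435, .bwd 6816, .fwd 6610],
   .loop (some (1, 2)) [.fwd 6859, .bwd 6867, .fwd 6840],
   .loop (some (10, 2)) [.bwd 6683, .bwd 6584, .bwd 6816, .bwd 6848],
   .loop (some (6, 1)) [.fwd 6854, .fwd 6867, .bwd 6816],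
   .loop (some (14, 2)) [.bwd 6769, .bwd 6852, .fwd 6853, .fwd 6639, .fwd 6657, .fwd 6666, .fwd 6673, .bwd 6859, .fwd 6883],
   .loop none [.fwd 6944],
   .loop none [.fwd 6872, .fwd 6945, .bwd 6883],
   .loop none [.bwd 6946],
   .loop none [.bwd 6770, .fwd 6945, .fwd 6884],
   .loop none [.fwd 6948],
   .loop none [.fwd 6858, .fwd 6947, .bwd 6871],
   .loop none [.fwd 6950],
   .loop none [.bwd 6872, .bwd 6947],
   .loop none [.bwd 6885, .bwd 6949],
   .loop none [.bwd 6939, .bwd 6949],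
   .loop none [.fwd 6870, .bwd 6951],
   .loop (some (9, 2)) [.fwd 6762, .bwd 6940, .fwd 6769],
   .loop (some (2, 2)) [.fwd 6762, .fwd 6436, .fwd 6502],
   .loop (some (1, 2)) [.fwd 6762, .fwd 6689, .fwd 6690],
   .loop (some (9, 2)) [.bwd 6502, .bwd 6506, .bwd 6485],
   .loop (some (1, 2)) [.bwd 6502, .fwd 6602, .fwd 6513],
   .loop (some (9, 2)) [.fwd 6485, .bwd 6648, .fwd 6467],
   .loop (some (2, 2)) [.fwd 6485, .bwd 6611, .fwd 6769],
   .loop (some (1, 2)) [.fwd 6485, .fwd 6620, .bwd 6546],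
   .define,
   .define,
   .loop (some (11, 4)) [.bwd 6797, .fwd 6463, .bwd 6955, .fwd 6964, .fwd 6965],
   .loop (some (9, 2)) [.bwd 6797, .bwd 6863, .bwd 6859],
   .loop (some (1, 2)) [.bwd 6797, .fwd 6796, .fwd 6710],
   .define,
   .define,
   .loop (some (14, 4)) [.bwd 6873, .bwd 6767, .fwd 6562, .bwd 6799, .fwd 6797, .fwd 6760, .fwd 6969, .fwd 6970],
   .loop (some (9, 2)) [.fwd 6955, .bwd 6839, .bwd 6762],
   .loop (some (2, 2)) [.fwd 6955, .fwd 6464, .fwd 6467],
   .loop (some (1, 2)) [.fwd 6955, .bwd 6864, .fwd 6873],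
   .loop (some (9, 2)) [.bwd 6467, .bwd 6476, .fwd 6502],
   .loop (some (1, 2)) [.bwd 6467, .bwd 6860, .fwd 6536],
   .define,
   .define,
   .define,
   .define,
   .loop (some (13, 6)) [.bwd 6964, .bwd 6973, .bwd 6976, .fwd 6537, .fwd 6977, .fwd 6978, .fwd 6979, .fwd 6980],
   .loop (some (8, 2)) [.bwd 6468, .bwd 6975, .fwd 6503],
   .loop (some (10, 2)) [.fwd 6764, .fwd 6917, .bwd 6975, .bwd 6764],
   .loop (some (6, 2)) [.fwd 6976, .bwd 6975, .bwd 6960],
   .define,
   .define,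
   .define,
   .define,
   .define,
   .define,
   .define,
   .define,
   .loop (some (13, 8)) [.fwd 6985, .fwd 6986, .fwd 6987, .fwd 6988, .fwd 6989, .fwd 6990, .fwd 6991, .fwd 6992],
   .loop (some (4, 3)) [.fwd 6993, .fwd 6935, .bwd 6893, .bwd 6810],
   .loop none [.bwd 6994],
   .loop none [.bwd 6993, .bwd 6995],
   .loop none [.fwd 6992, .bwd 6995],
   .loop (some (7, 2)) [.fwd 6996, .bwd 6982, .bwd 6893],
   .loop (some (0, 0)) [.fwd 6892, .fwd 6982]]

theorem just27_len : just27.length = 250 := by decide +kernel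

theorem just27_ok : cert.okFacts 6750 just27 = true := by decide +kernel

/-- justifications -/
noncomputable def just28 : List Cert.Just :=
  [.loop (some (2, 1)) [.fwd 6880, .bwd 6612, .bwd 6469, .bwd 6996],
   .loop none [.bwd 7000],
   .loop none [.bwd 6880, .bwd 7001],
   .loop none [.fwd 6809, .fwd 7001, .bwd 6879],
   .loop none [.fwd 7003],
   .loop none [.fwd 6875, .fwd 7004, .bwd 6878],
   .loop none [.bwd 7005],
   .loop none [.fwd 6692, .fwd 7006, .bwd 6874],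
   .loop none [.fwd 7007],
   .loop none [.bwd 6875, .bwd 7006],
   .loop none [.bwd 6974, .bwd 7008],
   .loop none [.fwd 6873, .bwd 7008],
   .loop none [.fwd 6691, .fwd 7008, .bwd 6971],
   .loop none [.fwd 7012],
   .loop none [.fwd 6712, .fwd 7013, .bwd 6970],
   .loop none [.fwd 7014],
   .loop none [.fwd 6969, .bwd 7015],
   .loop (some (1, 1)) [.fwd 6538, .fwd 6900, .bwd 6469, .fwd 6985],
   .loop none [.fwd 7017],
   .loop none [.fwd 6985, .bwd 7018],
   .loop none [.fwd 6537, .fwd 7018, .fwd 6986],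
   .loop none [.fwd 7020],
   .loop none [.bwd 6987, .bwd 7021],
   .loop (some (6, 2)) [.fwd 7019, .bwd 6982, .fwd 6888],
   .loop (some (2, 2)) [.bwd 7022, .bwd 6536, .fwd 6472, .bwd 7011],
   .loop none [.bwd 7024],
   .loop none [.fwd 7022, .bwd 7025],
   .loop none [.bwd 6988, .bwd 7025],
   .define,
   .loop (some (11, 3)) [.bwd 7027, .fwd 7011, .fwd 6473, .fwd 6710, .fwd 7028],
   .loop (some (9, 2)) [.fwd 7011, .bwd 6782, .fwd 6690],
   .loop (some (9, 2)) [.bwd 6710, .bwd 6866, .fwd 6840],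
   .loop (some (2, 2)) [.bwd 6483, .bwd 6500, .fwd 6840],
   .define,
   .define,
   .define,
   .define,
   .define,
   .loop (some (13, 7)) [.fwd 7032, .fwd 6899, .fwd 6545, .fwd 7033, .fwd 7034, .fwd 7035, .fwd 7036, .fwd 7037],
   .loop (some (4, 2)) [.bwd 7009, .fwd 7032, .bwd 6931, .fwd 7033],
   .loop none [.fwd 7039],
   .loop none [.fwd 7033, .bwd 7040],
   .loop none [.bwd 7034, .bwd 7040],
   .loop (some (7, 2)) [.fwd 7032, .bwd 6999, .bwd 6996],
   .loop (some (10, 2)) [.bwd 6925, .bwd 6928, .bwd 6999, .fwd 6934],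
   .define,
   .define,
   .define,
   .loop (some (13, 7)) [.fwd 6962, .bwd 6963, .bwd 6545, .bwd 6898, .bwd 6938, .fwd 7045, .fwd 7046, .fwd 7047],
   .loop (some (4, 2)) [.bwd 6770, .fwd 6962, .bwd 6910, .fwd 6977],
   .loop none [.fwd 7049],
   .loop none [.fwd 6977, .bwd 7050],
   .loop none [.bwd 6978, .bwd 7050],
   .loop (some (7, 2)) [.fwd 6962, .bwd 6961, .fwd 6973],
   .loop (some (6, 2)) [.fwd 6963, .bwd 6961, .bwd 6976],
   .loop (some (2, 2)) [.bwd 6513, .fwd 6498, .fwd 6690],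
   .define,
   .loop (some (11, 4)) [.bwd 6690, .fwd 6499, .fwd 6840, .bwd 7038, .fwd 7056],
   .loop (some (9, 2)) [.bwd 6690, .bwd 6942, .fwd 6846],
   .define,
   .define,
   .loop (some (13, 6)) [.bwd 6936, .bwd 6957, .bwd 6960, .fwd 6514, .bwd 6887, .bwd 6966, .fwd 7059, .fwd 7060],
   .loop (some (5, 1)) [.bwd 6660, .bwd 6503, .bwd 6764],
   .define,
   .define,
   .loop (some (13, 6)) [.bwd 7028, .fwd 6893, .fwd 6888, .bwd 6514, .bwd 7055, .bwd 7057, .fwd 7063, .fwd 7064],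
   .loop (some (4, 1)) [.bwd 6711, .fwd 6893, .fwd 6660],
   .loop (some (3, 1)) [.bwd 6763, .bwd 6888, .fwd 6660],
   .loop (some (4, 1)) [.bwd 6760, .fwd 6887, .fwd 6763],
   .loop (some (10, 2)) [.fwd 6661, .bwd 6925, .bwd 6984, .bwd 6661],
   .loop (some (7, 2)) [.fwd 7051, .bwd 7023, .bwd 6887],
   .loop (some (7, 2)) [.fwd 7041, .bwd 7054, .bwd 7026],
   .loop (some (11, 3)) [.bwd 7052, .fwd 6953, .fwd 6610, .fwd 6769, .bwd 7048],
   .loop (some (1, 2)) [.fwd 6953, .fwd 6943, .bwd 7002],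
   .loop (some (1, 2)) [.bwd 6769, .bwd 6845, .fwd 6846],
   .loop (some (11, 3)) [.bwd 6997, .fwd 7002, .fwd 6613, .fwd 6846, .fwd 7042],
   .define,
   .define,
   .loop (some (13, 5)) [.bwd 7077, .bwd 7076, .bwd 7066, .fwd 7067, .fwd 7062, .fwd 7066, .fwd 7076, .fwd 7077],
   .loop (some (7, 2)) [.bwd 7066, .bwd 7069, .fwd 7066],
   .loop (some (5, 2)) [.fwd 7057, .bwd 6712, .fwd 7076],
   .loop (some (8, 2)) [.fwd 7057, .bwd 7058, .fwd 7042],
   .loop (some (5, 2)) [.bwd 7027, .bwd 6691, .bwd 7057],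
   .loop (some (8, 2)) [.bwd 7027, .bwd 7030, .bwd 7057],
   .loop (some (5, 2)) [.fwd 7038, .bwd 6692, .fwd 7027],
   .loop (some (8, 2)) [.fwd 7038, .bwd 7043, .fwd 6997],
   .loop (some (5, 2)) [.bwd 7028, .bwd 6810, .fwd 6997],
   .loop (some (8, 2)) [.bwd 7028, .bwd 7031, .bwd 7038],
   .loop (some (3, 1)) [.bwd 6760, .bwd 6968, .fwd 6711],
   .define,
   .define,
   .define,
   .loop (some (11, 4)) [.bwd 7016, .fwd 7076, .fwd 7089, .fwd 7090, .fwd 7091],
   .define,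
   .loop (some (13, 3)) [.bwd 7093, .fwd 7092, .bwd 7068, .fwd 7062, .fwd 7066, .fwd 7088, .bwd 7092, .fwd 7093],
   .loop (some (9, 2)) [.bwd 7016, .bwd 7079, .fwd 7016],
   .loop (some (5, 2)) [.bwd 7076, .bwd 6711, .fwd 7028],
   .loop (some (8, 2)) [.bwd 7076, .bwd 7079, .fwd 7076],
   .loop (some (5, 2)) [.fwd 6966, .bwd 6771, .fwd 7052],
   .loop (some (8, 2)) [.fwd 6966, .bwd 6967, .bwd 6938],
   .loop (some (5, 2)) [.fwd 7092, .bwd 6760, .bwd 6966],
   .loop (some (8, 2)) [.fwd 7092, .bwd 7095, .bwd 7092],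
   .loop (some (5, 2)) [.bwd 6936, .bwd 6761, .bwd 7092],
   .loop (some (8, 2)) [.bwd 6936, .bwd 6956, .bwd 7048],
   .loop (some (5, 2)) [.fwd 7048, .bwd 6952, .bwd 6938],
   .loop (some (8, 2)) [.fwd 7048, .bwd 7053, .fwd 6964],
   .loop (some (5, 2)) [.bwd 7052, .bwd 6770, .bwd 7048],
   .loop (some (8, 2)) [.bwd 7052, .bwd 7070, .bwd 6966],
   .loop (some (5, 2)) [.bwd 7042, .bwd 7009, .bwd 7038],
   .loop (some (8, 2)) [.bwd 7042, .bwd 7071, .fwd 7027],
   .loop (some (5, 2)) [.bwd 6997, .bwd 6809, .fwd 7042],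
   .loop (some (8, 2)) [.bwd 6997, .bwd 6998, .fwd 7028],
   .loop (some (5, 2)) [.bwd 6964, .bwd 6857, .fwd 6936],
   .loop (some (8, 2)) [.bwd 6964, .bwd 6972, .fwd 6936],
   .loop (some (5, 2)) [.fwd 6938, .bwd 6858, .fwd 6964],
   .loop (some (8, 2)) [.fwd 6938, .bwd 6954, .fwd 7052],
   .loop (some (13, 0)) [.fwd 7057, .fwd 7055, .fwd 6514, .bwd 6887, .bwd 6966, .fwd 7059, .fwd 7060, .fwd 7061],
   .loop (some (4, 2)) [.fwd 7061, .bwd 7102, .fwd 7093],
   .loop (some (7, 2)) [.fwd 7061, .bwd 7103, .bwd 7047],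
   .loop (some (2, 1)) [.bwd 7045, .bwd 6937, .bwd 7061],
   .loop (some (1, 2)) [.bwd 6937, .fwd 7116, .bwd 7056],
   .loop (some (6, 1)) [.fwd 7081, .bwd 7116, .bwd 7103],
   .loop (some (3, 1)) [.fwd 7080, .bwd 7116, .bwd 7102],
   .loop (some (4, 2)) [.bwd 7045, .bwd 7114, .bwd 6981],
   .loop (some (7, 2)) [.bwd 7045, .bwd 7115, .fwd 6979],
   .loop (some (6, 1)) [.fwd 7085, .fwd 7120, .bwd 7115],
   .loop (some (3, 1)) [.fwd 7084, .fwd 7120, .bwd 7114],
   .define,
   .loop (some (14, 4)) [.fwd 7091, .fwd 7102, .fwd 7112, .fwd 7114, .bwd 6937, .bwd 7102, .bwd 7091, .fwd 7127],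
   .loop (some (4, 2)) [.fwd 6981, .bwd 7112, .bwd 7061],
   .loop (some (7, 2)) [.fwd 6981, .bwd 7113, .bwd 7061],
   .loop (some (2, 1)) [.bwd 7059, .bwd 6965, .bwd 6981],
   .loop (some (1, 2)) [.bwd 6965, .fwd 7126, .bwd 7029],
   .loop (some (4, 2)) [.bwd 7059, .bwd 7098, .fwd 6979],
   .loop (some (7, 2)) [.bwd 7059, .bwd 7099, .fwd 7045],
   .loop (some (4, 2)) [.bwd 6979, .bwd 7106, .bwd 7047],
   .loop (some (7, 2)) [.bwd 6979, .bwd 7107, .fwd 7059],
   .loop (some (2, 1)) [.fwd 7047, .fwd 7072, .fwd 6979],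
   .loop (some (13, 0)) [.bwd 6990, .bwd 6989, .bwd 7027, .fwd 7026, .fwd 6537, .bwd 7051, .fwd 7052, .fwd 6979],
   .loop (some (9, 2)) [.bwd 7137, .bwd 7136, .bwd 7131],
   .define,
   .loop (some (1, 2)) [.bwd 7137, .fwd 7138, .fwd 7140],
   .define,
   .loop (some (10, 2)) [.bwd 7142, .bwd 7133, .bwd 7136, .fwd 7142],
   .define,
   .loop (some (6, 2)) [.bwd 7138, .bwd 7136, .fwd 7144],
   .loop (some (3, 2)) [.bwd 7138, .bwd 7135, .bwd 7141],
   .define,
   .define,
   .define,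
   .define,
   .define,
   .loop (some (14, 6)) [.bwd 7147, .fwd 7135, .fwd 7137, .fwd 7147, .fwd 7148, .fwd 7149, .fwd 7150, .fwd 7151],
   .define,
   .loop (some (12, 3)) [.fwd 7152, .bwd 7147, .fwd 7135, .fwd 7133, .fwd 7142, .fwd 7153],
   .loop (some (13, 0)) [.fwd 6990, .fwd 6991, .bwd 6997, .fwd 6996, .bwd 6468, .fwd 6973, .fwd 6964, .bwd 6981],
   .loop (some (1, 1)) [.bwd 7144, .bwd 7131, .fwd 7155],
   .loop (some (10, 5)) [.bwd 7130, .fwd 7129, .fwd 7139, .fwd 7147, .bwd 7152],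
   .loop none [.fwd 7157],
   .loop none [.bwd 7123, .fwd 7158, .fwd 7152],
   .loop none [.fwd 7159],
   .loop none [.fwd 7129, .fwd 7158, .bwd 7154],
   .loop none [.fwd 7161],
   .loop none [.fwd 7147, .bwd 7160],
   .loop none [.fwd 7117, .fwd 7162, .bwd 7153],
   .loop none [.fwd 7164],
   .loop none [.fwd 7142, .bwd 7165],
   .loop none [.fwd 7165, .bwd 7143, .bwd 7165],
   .define,
   .loop (some (6, 2)) [.bwd 7155, .bwd 7130, .fwd 7168],
   .loop (some (3, 2)) [.bwd 7155, .bwd 7129, .fwd 7168],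
   .loop (some (4, 2)) [.fwd 7170, .bwd 6989, .bwd 7082, .fwd 7063],
   .loop none [.bwd 7171],
   .loop none [.fwd 7168, .bwd 7172],
   .loop none [.bwd 7170, .bwd 7172],
   .loop none [.bwd 7169, .bwd 7172],
   .loop (some (2, 2)) [.fwd 7065, .fwd 7029, .fwd 6989, .fwd 7156],
   .loop none [.fwd 7176],
   .loop none [.fwd 7144, .bwd 7177],
   .loop none [.fwd 7156, .bwd 7177],
   .loop none [.bwd 7145, .bwd 7177],
   .define,
   .loop (some (11, 3)) [.fwd 7064, .fwd 7179, .fwd 6990, .fwd 7140, .fwd 7181],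
   .loop (some (9, 2)) [.fwd 7179, .bwd 7175, .bwd 7182],
   .define,
   .loop (some (0, 1)) [.fwd 7175, .fwd 7184],
   .loop (some (5, 0)) [.bwd 7181, .fwd 7146, .bwd 6990],
   .loop (some (10, 3)) [.bwd 7186, .bwd 7175, .fwd 7174, .fwd 7184],
   .define,
   .define,
   .define,
   .define,
   .define,
   .define,
   .loop (some (14, 7)) [.fwd 7174, .bwd 7179, .fwd 7188, .fwd 7189, .fwd 7190, .fwd 7191, .fwd 7192, .fwd 7193],
   .define,
   .loop (some (12, 3)) [.fwd 7193, .fwd 7194, .fwd 7174, .fwd 7186, .bwd 7187, .fwd 7195],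
   .loop (some (4, 1)) [.bwd 7035, .fwd 7110, .bwd 6991, .bwd 7146],
   .loop none [.fwd 7197],
   .loop none [.bwd 7141, .bwd 7198],
   .loop none [.bwd 7036, .fwd 7198, .fwd 7181],
   .loop none [.fwd 7200],
   .loop none [.fwd 7140, .bwd 7198],
   .loop none [.bwd 7146, .bwd 7198],
   .loop none [.bwd 7182, .bwd 7201],
   .loop none [.fwd 7187, .bwd 7201],
   .loop none [.fwd 7186, .bwd 7201],
   .loop none [.bwd 7183, .bwd 7201],
   .loop (some (9, 3)) [.fwd 7202, .bwd 7180, .fwd 7179, .fwd 7184],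
   .loop none [.fwd 7208],
   .loop none [.bwd 7203, .fwd 7209, .fwd 7195],
   .loop none [.fwd 7210],
   .loop none [.fwd 7205, .bwd 7209],
   .loop none [.bwd 7185, .bwd 7209],
   .loop none [.fwd 7184, .bwd 7209],
   .loop none [.bwd 7196, .bwd 7211],
   .loop (some (0, 0)) [.fwd 7207, .fwd 7180],
   .loop (some (5, 1)) [.bwd 7064, .fwd 7174, .fwd 6990, .fwd 7215],
   .loop none [.fwd 7217],
   .loop none [.bwd 7193, .bwd 7218],
   .loop none [.bwd 7188, .fwd 7218, .bwd 7215],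
   .loop none [.bwd 7220],
   .loop none [.fwd 7188, .bwd 7221],
   .loop (some (10, 2)) [.bwd 7219, .bwd 7222, .bwd 7180, .fwd 7219],
   .loop (some (3, 1)) [.fwd 7163, .bwd 7199, .fwd 7212],
   .define,
   .define,
   .loop (some (14, 4)) [.bwd 7225, .fwd 7194, .fwd 7174, .bwd 7206, .fwd 7204, .bwd 7194, .fwd 7225, .fwd 7226],
   .define,
   .loop (some (14, 4)) [.bwd 7089, .fwd 7080, .fwd 7082, .fwd 7084, .fwd 7056, .bwd 7080, .fwd 7089, .fwd 7228],
   .define,
   .define,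
   .loop (some (14, 4)) [.bwd 7230, .fwd 7117, .fwd 7129, .fwd 7123, .bwd 7119, .bwd 7117, .fwd 7230, .fwd 7231],
   .loop (some (4, 2)) [.fwd 7194, .bwd 7063, .bwd 7080, .fwd 7077],
   .loop none [.bwd 7233],
   .loop none [.bwd 7225, .bwd 7234],
   .loop none [.bwd 7194, .bwd 7234],
   .loop none [.fwd 7219, .bwd 7234],
   .loop none [.fwd 7234, .bwd 7223, .bwd 7234],
   .loop (some (3, 1)) [.fwd 7236, .fwd 7173, .bwd 7117],
   .loop (some (9, 2)) [.bwd 7089, .bwd 7097, .fwd 7089],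
   .loop (some (2, 2)) [.bwd 7089, .fwd 7077, .fwd 7235],
   .loop (some (1, 2)) [.bwd 7089, .bwd 7122, .bwd 7091],
   .loop (some (14, 2)) [.bwd 7089, .bwd 7096, .bwd 7086, .bwd 7075, .fwd 7110, .fwd 7086, .fwd 7096, .fwd 7089, .fwd 7228],
   .loop none [.fwd 7243],
   .loop none [.bwd 7229, .bwd 7244],
   .define,
   .loop (some (11, 3)) [.bwd 7246, .bwd 7235, .bwd 7078, .fwd 7235, .fwd 7246],
   .loop (some (9, 2)) [.bwd 7235, .bwd 7238, .fwd 7235],
   .loop (some (1, 2)) [.bwd 7235, .bwd 7239, .fwd 7230]]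

theorem just28_len : just28.length = 250 := by decide +kernel

theorem just28_ok : cert.okFacts 7000 just28 = true := by decide +kernel

/-- justifications -/
noncomputable def just29 : List Cert.Just :=
  [.loop (some (14, 2)) [.bwd 7235, .fwd 7237, .bwd 7222, .bwd 7202, .fwd 7203, .fwd 7222, .bwd 7237, .fwd 7235, .fwd 7226],
   .loop none [.fwd 7250],
   .loop none [.bwd 7227, .bwd 7251],
   .define,
   .loop (some (13, 5)) [.bwd 7253, .bwd 7246, .fwd 7241, .bwd 7242, .bwd 7090, .bwd 7241, .fwd 7246, .fwd 7253],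
   .loop (some (5, 3)) [.bwd 7090, .bwd 7245, .fwd 7090, .bwd 7128],
   .loop none [.fwd 7255],
   .loop none [.bwd 7128, .bwd 7256],
   .loop (some (8, 2)) [.bwd 7090, .bwd 7240, .fwd 7090],
   .define,
   .define,
   .define,
   .loop (some (13, 5)) [.bwd 7261, .bwd 7260, .bwd 7259, .fwd 7242, .fwd 7090, .fwd 7259, .fwd 7260, .fwd 7261],
   .loop (some (4, 2)) [.bwd 7259, .fwd 7257, .fwd 7259],
   .loop (some (7, 2)) [.bwd 7259, .bwd 7258, .fwd 7259],
   .loop (some (2, 1)) [.bwd 7230, .bwd 7093, .bwd 7091, .fwd 7259],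
   .loop none [.fwd 7265],
   .loop none [.fwd 7259, .bwd 7266],
   .loop none [.bwd 7260, .bwd 7266],
   .loop none [.fwd 7232, .fwd 7266, .fwd 7263, .bwd 7266],
   .loop none [.bwd 7269],
   .loop none [.fwd 7266, .bwd 7264, .bwd 7266],
   .loop none [.bwd 7232, .bwd 7270],
   .loop (some (11, 3)) [.bwd 7268, .bwd 7230, .bwd 7094, .fwd 7230, .fwd 7268],
   .loop (some (5, 2)) [.bwd 7246, .bwd 7252, .fwd 7246],
   .loop (some (8, 2)) [.bwd 7246, .bwd 7248, .fwd 7246],
   .loop (some (5, 2)) [.bwd 7268, .bwd 7272, .fwd 7268],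
   .loop (some (8, 2)) [.bwd 7268, .bwd 7271, .fwd 7268],
   .loop (some (13, 0)) [.bwd 7268, .fwd 7267, .bwd 7090, .bwd 7241, .fwd 7246, .fwd 7253, .fwd 7254, .bwd 7253],
   .loop (some (4, 2)) [.bwd 7253, .bwd 7274, .fwd 7253],
   .loop (some (7, 2)) [.bwd 7253, .bwd 7275, .fwd 7253],
   .loop (some (2, 1)) [.bwd 7253, .fwd 7247, .fwd 7253],
   .loop (some (13, 0)) [.fwd 7262, .bwd 7261, .bwd 7268, .fwd 7267, .bwd 7090, .bwd 7241, .fwd 7246, .fwd 7253],
   .loop (some (1, 1)) [.bwd 7282, .fwd 7281, .fwd 7282],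
   .loop (some (6, 2)) [.bwd 7282, .bwd 7280, .fwd 7282],
   .loop (some (3, 2)) [.bwd 7282, .bwd 7279, .fwd 7282],
   .loop none [.edge 0, .fwd 0],
   .loop none [.edge 1, .bwd 8],
   .loop none [.edge 1, .bwd 7286, .fwd 17],
   .loop none [.edge 2, .bwd 7287, .bwd 7],
   .loop none [.edge 2, .bwd 7288, .fwd 3],
   .loop none [.edge 1, .bwd 7289, .bwd 6],
   .loop none [.edge 3, .bwd 7289, .fwd 33],
   .loop none [.edge 1, .bwd 7290, .fwd 4],
   .loop none [.edge 3, .bwd 7290, .fwd 22],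
   .loop none [.edge 3, .bwd 7291, .fwd 41],
   .loop none [.edge 5, .bwd 7292, .bwd 65],
   .loop none [.edge 4, .bwd 7292, .fwd 62],
   .loop none [.edge 3, .bwd 7293, .fwd 31],
   .loop none [.edge 5, .bwd 7294, .bwd 40],
   .loop none [.edge 4, .bwd 7294, .fwd 37],
   .loop none [.edge 2, .bwd 7295, .fwd 42],
   .loop none [.edge 5, .bwd 7295, .bwd 59],
   .loop none [.edge 4, .bwd 7295, .fwd 56],
   .loop none [.edge 3, .bwd 7296, .fwd 386],
   .loop none [.edge 5, .bwd 7296, .bwd 64],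
   .loop none [.edge 6, .bwd 7296, .bwd 393],
   .loop none [.edge 4, .bwd 7297, .fwd 91],
   .loop none [.edge 2, .bwd 7298, .bwd 44],
   .loop none [.edge 5, .bwd 7298, .bwd 53],
   .loop none [.edge 4, .bwd 7298, .fwd 50],
   .loop none [.edge 3, .bwd 7299, .fwd 155],
   .loop none [.edge 5, .bwd 7299, .bwd 39],
   .loop none [.edge 6, .bwd 7299, .bwd 160],
   .loop none [.edge 4, .bwd 7300, .fwd 73],
   .loop none [.edge 1, .bwd 7301, .fwd 66],
   .loop none [.edge 5, .bwd 7301, .fwd 190],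
   .loop none [.edge 4, .bwd 7301, .bwd 271],
   .loop none [.edge 3, .bwd 7302, .fwd 327],
   .loop none [.edge 5, .bwd 7302, .bwd 58],
   .loop none [.edge 6, .bwd 7302, .bwd 331],
   .loop none [.edge 4, .bwd 7303, .bwd 403],
   .loop none [.edge 1, .bwd 7308, .bwd 68],
   .loop none [.edge 5, .bwd 7308, .fwd 204],
   .loop none [.edge 4, .bwd 7308, .bwd 79],
   .loop none [.edge 3, .bwd 7309, .fwd 253],
   .loop none [.edge 5, .bwd 7309, .bwd 52],
   .loop none [.edge 6, .bwd 7309, .bwd 257],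
   .loop none [.edge 4, .bwd 7310, .fwd 83],
   .loop none [.edge 5, .bwd 7315, .fwd 408],
   .loop none [.edge 4, .bwd 7315, .bwd 266],
   .loop none [.edge 3, .bwd 7316, .fwd 295],
   .loop none [.edge 5, .bwd 7316, .bwd 539],
   .loop none [.edge 6, .bwd 7316, .bwd 351],
   .loop none [.edge 3, .bwd 7317, .fwd 270],
   .loop none [.edge 4, .bwd 7317, .fwd 272],
   .loop none [.edge 6, .bwd 7317, .bwd 482],
   .loop none [.edge 5, .bwd 7322, .fwd 420],
   .loop none [.edge 4, .bwd 7322, .bwd 202],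
   .loop none [.edge 3, .bwd 7323, .fwd 215],
   .loop none [.edge 5, .bwd 7323, .bwd 206],
   .loop none [.edge 6, .bwd 7323, .bwd 288],
   .loop none [.edge 3, .bwd 7324, .fwd 194],
   .loop none [.edge 4, .bwd 7324, .bwd 281],
   .loop none [.edge 6, .bwd 7324, .bwd 452],
   .loop none [.edge 3, .bwd 7329, .fwd 516],
   .loop none [.edge 5, .bwd 7329, .bwd 545],
   .loop none [.edge 6, .bwd 7329, .bwd 588],
   .loop none [.edge 3, .bwd 7330, .fwd 423],
   .loop none [.edge 4, .bwd 7330, .bwd 469],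
   .loop none [.edge 6, .bwd 7330, .bwd 576],
   .loop none [.edge 2, .bwd 7331, .fwd 296],
   .loop none [.edge 5, .bwd 7331, .bwd 732],
   .loop none [.edge 4, .bwd 7331, .bwd 798],
   .loop none [.edge 7, .bwd 7331, .fwd 547],
   .loop none [.edge 6, .bwd 7331, .bwd 624],
   .loop none [.edge 5, .bwd 7334, .bwd 555],
   .loop none [.edge 4, .bwd 7334, .fwd 208],
   .loop none [.edge 6, .bwd 7334, .bwd 473],
   .loop none [.edge 3, .bwd 7337, .fwd 487],
   .loop none [.edge 5, .bwd 7337, .bwd 513],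
   .loop none [.edge 6, .bwd 7337, .bwd 584],
   .loop none [.edge 3, .bwd 7338, .fwd 412],
   .loop none [.edge 4, .bwd 7338, .bwd 439],
   .loop none [.edge 6, .bwd 7338, .bwd 602],
   .loop none [.edge 2, .bwd 7339, .fwd 216],
   .loop none [.edge 5, .bwd 7339, .bwd 780],
   .loop none [.edge 4, .bwd 7339, .fwd 530],
   .loop none [.edge 7, .bwd 7339, .fwd 747],
   .loop none [.edge 6, .bwd 7339, .bwd 527],
   .loop none [.edge 5, .bwd 7342, .fwd 651],
   .loop none [.edge 4, .bwd 7342, .fwd 195],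
   .loop none [.edge 6, .bwd 7342, .bwd 443],
   .loop none [.edge 2, .bwd 7345, .bwd 632],
   .loop none [.edge 5, .bwd 7345, .bwd 879],
   .loop none [.edge 4, .bwd 7345, .bwd 1046],
   .loop none [.edge 7, .bwd 7345, .fwd 560],
   .loop none [.edge 6, .bwd 7345, .bwd 633],
   .loop none [.edge 2, .bwd 7348, .bwd 490],
   .loop none [.edge 5, .bwd 7348, .bwd 595],
   .loop none [.edge 4, .bwd 7348, .fwd 424],
   .loop none [.edge 7, .bwd 7348, .fwd 808],
   .loop none [.edge 6, .bwd 7348, .bwd 492],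
   .loop none [.edge 5, .bwd 7351, .bwd 629],
   .loop none [.edge 4, .bwd 7351, .fwd 735],
   .loop none [.edge 3, .bwd 7352, .fwd 776],
   .loop none [.edge 5, .bwd 7352, .bwd 731],
   .loop none [.edge 7, .bwd 7352, .fwd 1007],
   .loop none [.edge 6, .bwd 7352, .fwd 1008],
   .loop none [.edge 4, .bwd 7353, .fwd 532],
   .loop none [.edge 7, .bwd 7353, .bwd 956],
   .loop none [.edge 4, .bwd 7354, .fwd 552],
   .loop none [.edge 4, .bwd 7355, .bwd 661],
   .loop none [.edge 5, .bwd 7356, .bwd 554],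
   .loop none [.edge 6, .bwd 7356, .bwd 996],
   .loop none [.edge 3, .bwd 7357, .fwd 484],
   .loop none [.edge 7, .bwd 7357, .bwd 790],
   .loop none [.edge 6, .bwd 7357, .bwd 705],
   .loop none [.edge 5, .bwd 7358, .bwd 486],
   .loop none [.edge 2, .bwd 7359, .fwd 488],
   .loop none [.edge 5, .bwd 7359, .bwd 906],
   .loop none [.edge 4, .bwd 7359, .fwd 521],
   .loop none [.edge 7, .bwd 7359, .fwd 813],
   .loop none [.edge 6, .bwd 7359, .bwd 590],
   .loop none [.edge 2, .bwd 7362, .fwd 630],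
   .loop none [.edge 5, .bwd 7362, .bwd 817],
   .loop none [.edge 4, .bwd 7362, .fwd 413],
   .loop none [.edge 7, .bwd 7362, .fwd 596],
   .loop none [.edge 6, .bwd 7362, .bwd 639],
   .loop none [.edge 4, .bwd 7365, .fwd 616],
   .loop none [.edge 3, .bwd 7366, .fwd 714],
   .loop none [.edge 4, .bwd 7368, .fwd 742],
   .loop none [.edge 4, .bwd 7369, .bwd 653],
   .loop none [.edge 3, .bwd 7371, .fwd 456],
   .loop none [.edge 6, .bwd 7371, .fwd 680],
   .loop none [.edge 1, .bwd 7373, .fwd 799],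
   .loop none [.edge 5, .bwd 7373, .fwd 1164],
   .loop none [.edge 4, .bwd 7373, .bwd 1062],
   .loop none [.edge 7, .bwd 7373, .fwd 1253],
   .loop none [.edge 6, .bwd 7373, .bwd 1127],
   .loop none [.edge 3, .bwd 7374, .fwd 903],
   .loop none [.edge 5, .bwd 7374, .bwd 878],
   .loop none [.edge 7, .bwd 7374, .fwd 1258],
   .loop none [.edge 6, .bwd 7374, .bwd 1240],
   .loop none [.edge 4, .bwd 7375, .fwd 523],
   .loop none [.edge 7, .bwd 7375, .bwd 1241],
   .loop none [.edge 4, .bwd 7376, .fwd 592],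
   .loop none [.edge 4, .bwd 7377, .bwd 716],
   .loop none [.edge 1, .bwd 7378, .bwd 753],
   .loop none [.edge 5, .bwd 7378, .fwd 898],
   .loop none [.edge 4, .bwd 7378, .bwd 884],
   .loop none [.edge 7, .bwd 7378, .bwd 1090],
   .loop none [.edge 6, .bwd 7378, .bwd 885],
   .loop none [.edge 5, .bwd 7379, .bwd 594],
   .loop none [.edge 6, .bwd 7379, .bwd 902],
   .loop none [.edge 3, .bwd 7380, .fwd 501],
   .loop none [.edge 7, .bwd 7380, .bwd 1037],
   .loop none [.edge 6, .bwd 7380, .bwd 768],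
   .loop none [.edge 5, .bwd 7381, .bwd 637],
   .loop none [.edge 4, .bwd 7381, .fwd 809],
   .loop none [.edge 5, .bwd 7382, .fwd 587],
   .loop none [.edge 1, .bwd 7399, .bwd 784],
   .loop none [.edge 5, .bwd 7399, .fwd 1053],
   .loop none [.edge 4, .bwd 7399, .bwd 1032],
   .loop none [.edge 7, .bwd 7399, .fwd 1051],
   .loop none [.edge 6, .bwd 7399, .bwd 1033],
   .loop none [.edge 3, .bwd 7400, .fwd 858],
   .loop none [.edge 4, .bwd 7402, .fwd 814],
   .loop none [.edge 4, .bwd 7403, .bwd 778],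
   .loop none [.edge 1, .bwd 7404, .bwd 647],
   .loop none [.edge 5, .bwd 7404, .fwd 847],
   .loop none [.edge 4, .bwd 7404, .bwd 829],
   .loop none [.edge 7, .bwd 7404, .fwd 1226],
   .loop none [.edge 6, .bwd 7404, .bwd 831],
   .loop none [.edge 3, .bwd 7406, .fwd 640],
   .loop none [.edge 6, .bwd 7406, .bwd 682],
   .loop none [.edge 4, .bwd 7407, .fwd 610],
   .loop none [.edge 2, .bwd 7415, .fwd 800],
   .loop none [.edge 5, .bwd 7415, .fwd 1630],
   .loop none [.edge 4, .bwd 7415, .bwd 1377],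
   .loop none [.edge 7, .bwd 7415, .fwd 1301],
   .loop none [.edge 6, .bwd 7415, .bwd 1378],
   .loop none [.edge 3, .bwd 7416, .bwd 1134],
   .loop none [.edge 5, .bwd 7416, .fwd 1218],
   .loop none [.edge 7, .bwd 7416, .bwd 1526],
   .loop none [.edge 3, .bwd 7417, .fwd 1369],
   .loop none [.edge 4, .bwd 7417, .bwd 1299],
   .loop none [.edge 7, .bwd 7417, .fwd 1425],
   .loop none [.edge 6, .bwd 7417, .bwd 1795],
   .loop none [.edge 5, .bwd 7418, .fwd 1302],
   .loop none [.edge 5, .bwd 7419, .bwd 1382],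
   .loop none [.edge 2, .bwd 7420, .bwd 1342],
   .loop none [.edge 2, .bwd 7428, .bwd 752],
   .loop none [.edge 5, .bwd 7428, .fwd 1514],
   .loop none [.edge 4, .bwd 7428, .bwd 1072],
   .loop none [.edge 7, .bwd 7428, .fwd 1559],
   .loop none [.edge 6, .bwd 7428, .bwd 1073],
   .loop none [.edge 3, .bwd 7429, .fwd 890],
   .loop none [.edge 7, .bwd 7429, .bwd 1613],
   .loop none [.edge 6, .bwd 7429, .bwd 900],
   .loop none [.edge 3, .bwd 7430, .fwd 1063],
   .loop none [.edge 4, .bwd 7430, .bwd 1084],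
   .loop none [.edge 6, .bwd 7430, .bwd 1343],
   .loop none [.edge 5, .bwd 7431, .fwd 1397],
   .loop none [.edge 4, .bwd 7431, .fwd 1398],
   .loop none [.edge 4, .bwd 7432, .bwd 1086],
   .loop none [.edge 2, .bwd 7435, .bwd 893],
   .loop none [.edge 5, .bwd 7441, .bwd 1624],
   .loop none [.edge 4, .bwd 7441, .bwd 1049],
   .loop none [.edge 7, .bwd 7441, .fwd 1547],
   .loop none [.edge 3, .bwd 7442, .fwd 1132],
   .loop none [.edge 3, .bwd 7443, .fwd 1079],
   .loop none [.edge 5, .bwd 7444, .bwd 1656],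
   .loop none [.edge 5, .bwd 7445, .fwd 1056],
   .loop none [.edge 2, .bwd 7446, .fwd 1356],
   .loop none [.edge 5, .bwd 7449, .fwd 1457],
   .loop none [.edge 4, .bwd 7449, .bwd 1366],
   .loop none [.edge 6, .bwd 7449, .bwd 1367],
   .loop none [.edge 3, .bwd 7450, .fwd 839],
   .loop none [.edge 6, .bwd 7450, .bwd 849]]

theorem just29_len : just29.length = 250 := by decide +kernel

theorem just29_ok : cert.okFacts 7250 just29 = true := by decide +kernel

/-- justifications -/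
noncomputable def just30 : List Cert.Just :=
  [.loop none [.edge 3, .bwd 7451, .bwd 1330],
   .loop none [.edge 5, .bwd 7452, .fwd 1293],
   .loop none [.edge 2, .bwd 7454, .bwd 842],
   .loop none [.edge 5, .bwd 7457, .fwd 1640],
   .loop none [.edge 4, .bwd 7457, .bwd 1289],
   .loop none [.edge 3, .bwd 7458, .fwd 1908],
   .loop none [.edge 7, .bwd 7458, .bwd 1881],
   .loop none [.edge 3, .bwd 7459, .fwd 1468],
   .loop none [.edge 4, .bwd 7459, .bwd 1782],
   .loop none [.edge 7, .bwd 7459, .fwd 1951],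
   .loop none [.edge 6, .bwd 7459, .bwd 2087],
   .loop none [.edge 5, .bwd 7460, .bwd 1861],
   .loop none [.edge 5, .bwd 7461, .fwd 1435],
   .loop none [.edge 5, .bwd 7462, .bwd 2247],
   .loop none [.edge 4, .bwd 7462, .bwd 2279],
   .loop none [.edge 7, .bwd 7462, .bwd 1904],
   .loop none [.edge 3, .bwd 7463, .fwd 1205],
   .loop none [.edge 2, .bwd 7465, .fwd 1794],
   .loop none [.edge 5, .bwd 7465, .bwd 1976],
   .loop none [.edge 7, .bwd 7465, .fwd 1973],
   .loop none [.edge 6, .bwd 7465, .bwd 2089],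
   .loop none [.edge 3, .bwd 7466, .bwd 1536],
   .loop none [.edge 3, .bwd 7469, .fwd 1312],
   .loop none [.edge 3, .bwd 7470, .fwd 1534],
   .loop none [.edge 1, .bwd 7471, .fwd 1477],
   .loop none [.edge 5, .bwd 7472, .fwd 1548],
   .loop none [.edge 3, .bwd 7473, .fwd 1508],
   .loop none [.edge 7, .bwd 7473, .bwd 1854],
   .loop none [.edge 6, .bwd 7473, .bwd 1513],
   .loop none [.edge 3, .bwd 7474, .bwd 1556],
   .loop none [.edge 4, .bwd 7474, .bwd 1804],
   .loop none [.edge 6, .bwd 7474, .bwd 1806],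
   .loop none [.edge 5, .bwd 7475, .fwd 1615],
   .loop none [.edge 4, .bwd 7475, .bwd 1599],
   .loop none [.edge 4, .bwd 7476, .bwd 1799],
   .loop none [.edge 2, .bwd 7477, .fwd 891],
   .loop none [.edge 5, .bwd 7477, .fwd 1816],
   .loop none [.edge 4, .bwd 7477, .fwd 1574],
   .loop none [.edge 7, .bwd 7477, .bwd 1858],
   .loop none [.edge 6, .bwd 7477, .bwd 1569],
   .loop none [.edge 5, .bwd 7480, .bwd 1544],
   .loop none [.edge 4, .bwd 7480, .fwd 1064],
   .loop none [.edge 6, .bwd 7480, .bwd 1997],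
   .loop none [.edge 3, .bwd 7481, .fwd 1338],
   .loop none [.edge 3, .bwd 7483, .bwd 1066],
   .loop none [.edge 3, .bwd 7484, .fwd 1393],
   .loop none [.edge 3, .bwd 7485, .fwd 1110],
   .loop none [.edge 1, .bwd 7486, .bwd 1015],
   .loop none [.edge 3, .bwd 7487, .fwd 2001],
   .loop none [.edge 3, .bwd 7488, .fwd 1561],
   .loop none [.edge 5, .bwd 7489, .bwd 1958],
   .loop none [.edge 5, .bwd 7490, .bwd 2170],
   .loop none [.edge 4, .bwd 7490, .fwd 2066],
   .loop none [.edge 2, .bwd 7491, .bwd 1707],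
   .loop none [.edge 5, .bwd 7491, .bwd 2041],
   .loop none [.edge 3, .bwd 7492, .fwd 1667],
   .loop none [.edge 3, .bwd 7493, .fwd 1596],
   .loop none [.edge 1, .bwd 7494, .bwd 1323],
   .loop none [.edge 3, .bwd 7495, .fwd 1487],
   .loop none [.edge 6, .bwd 7495, .bwd 1484],
   .loop none [.edge 3, .bwd 7496, .fwd 1460],
   .loop none [.edge 2, .bwd 7498, .fwd 840],
   .loop none [.edge 5, .bwd 7498, .fwd 1717],
   .loop none [.edge 4, .bwd 7498, .fwd 1492],
   .loop none [.edge 6, .bwd 7498, .bwd 1485],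
   .loop none [.edge 5, .bwd 7500, .bwd 1432],
   .loop none [.edge 4, .bwd 7500, .fwd 1383],
   .loop none [.edge 3, .bwd 7501, .bwd 1112],
   .loop none [.edge 1, .bwd 7502, .bwd 924],
   .loop none [.edge 3, .bwd 7503, .fwd 1648],
   .loop none [.edge 3, .bwd 7504, .bwd 1927],
   .loop none [.edge 2, .bwd 7505, .fwd 2269],
   .loop none [.edge 5, .bwd 7505, .bwd 2455],
   .loop none [.edge 4, .bwd 7505, .bwd 2366],
   .loop none [.edge 7, .bwd 7505, .bwd 1923],
   .loop none [.edge 2, .bwd 7507, .bwd 2451],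
   .loop none [.edge 5, .bwd 7507, .bwd 1972],
   .loop none [.edge 7, .bwd 7507, .fwd 1964],
   .loop none [.edge 6, .bwd 7507, .bwd 2452],
   .loop none [.edge 3, .bwd 7508, .bwd 2292],
   .loop none [.edge 3, .bwd 7511, .bwd 1933],
   .loop none [.edge 3, .bwd 7512, .fwd 2293],
   .loop none [.edge 3, .bwd 7513, .bwd 2525],
   .loop none [.edge 5, .bwd 7513, .bwd 2246],
   .loop none [.edge 6, .bwd 7513, .bwd 2643],
   .loop none [.edge 4, .bwd 7514, .fwd 1494],
   .loop none [.edge 7, .bwd 7514, .fwd 2641],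
   .loop none [.edge 6, .bwd 7514, .bwd 2628],
   .loop none [.edge 4, .bwd 7516, .fwd 1305],
   .loop none [.edge 1, .bwd 7517, .bwd 2198],
   .loop none [.edge 4, .bwd 7517, .bwd 2465],
   .loop none [.edge 5, .bwd 7518, .bwd 2497],
   .loop none [.edge 4, .bwd 7521, .bwd 1727],
   .loop none [.edge 5, .bwd 7523, .bwd 1700],
   .loop none [.edge 3, .bwd 7525, .fwd 2079],
   .loop none [.edge 2, .bwd 7526, .fwd 1578],
   .loop none [.edge 5, .bwd 7526, .bwd 2342],
   .loop none [.edge 4, .bwd 7526, .fwd 1586],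
   .loop none [.edge 7, .bwd 7526, .fwd 2692],
   .loop none [.edge 6, .bwd 7526, .bwd 1581],
   .loop none [.edge 2, .bwd 7529, .fwd 2091],
   .loop none [.edge 5, .bwd 7529, .bwd 1555],
   .loop none [.edge 4, .bwd 7529, .fwd 1627],
   .loop none [.edge 6, .bwd 7529, .bwd 2095],
   .loop none [.edge 3, .bwd 7530, .fwd 1803],
   .loop none [.edge 3, .bwd 7532, .bwd 1629],
   .loop none [.edge 3, .bwd 7533, .bwd 2013],
   .loop none [.edge 3, .bwd 7534, .fwd 1798],
   .loop none [.edge 1, .bwd 7535, .fwd 1708],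
   .loop none [.edge 5, .bwd 7535, .bwd 1661],
   .loop none [.edge 4, .bwd 7535, .fwd 1764],
   .loop none [.edge 3, .bwd 7536, .fwd 2150],
   .loop none [.edge 5, .bwd 7536, .bwd 1823],
   .loop none [.edge 4, .bwd 7538, .bwd 1826],
   .loop none [.edge 7, .bwd 7540, .fwd 2257],
   .loop none [.edge 6, .bwd 7540, .bwd 2146],
   .loop none [.edge 3, .bwd 7541, .fwd 1809],
   .loop none [.edge 7, .bwd 7541, .bwd 2519],
   .loop none [.edge 6, .bwd 7541, .bwd 2506],
   .loop none [.edge 4, .bwd 7544, .bwd 2106],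
   .loop none [.edge 2, .bwd 7548, .fwd 2248],
   .loop none [.edge 5, .bwd 7548, .bwd 2449],
   .loop none [.edge 4, .bwd 7548, .bwd 2539],
   .loop none [.edge 2, .bwd 7549, .bwd 2051],
   .loop none [.edge 5, .bwd 7549, .bwd 2038],
   .loop none [.edge 3, .bwd 7550, .fwd 1952],
   .loop none [.edge 1, .bwd 7553, .bwd 2428],
   .loop none [.edge 5, .bwd 7556, .bwd 1811],
   .loop none [.edge 2, .bwd 7558, .fwd 1497],
   .loop none [.edge 5, .bwd 7558, .bwd 2433],
   .loop none [.edge 4, .bwd 7558, .fwd 1515],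
   .loop none [.edge 6, .bwd 7558, .bwd 1504],
   .loop none [.edge 2, .bwd 7560, .fwd 2434],
   .loop none [.edge 5, .bwd 7560, .bwd 1448],
   .loop none [.edge 4, .bwd 7560, .fwd 1633],
   .loop none [.edge 1, .bwd 7561, .bwd 1736],
   .loop none [.edge 4, .bwd 7561, .bwd 1719],
   .loop none [.edge 5, .bwd 7562, .bwd 1722],
   .loop none [.edge 3, .bwd 7566, .fwd 1698],
   .loop none [.edge 2, .bwd 7569, .fwd 2230],
   .loop none [.edge 4, .bwd 7569, .bwd 2565],
   .loop none [.edge 2, .bwd 7570, .fwd 2286],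
   .loop none [.edge 4, .bwd 7570, .fwd 1928],
   .loop none [.edge 1, .bwd 7571, .fwd 2261],
   .loop none [.edge 5, .bwd 7571, .fwd 2721],
   .loop none [.edge 4, .bwd 7571, .bwd 3207],
   .loop none [.edge 7, .bwd 7571, .fwd 2594],
   .loop none [.edge 3, .bwd 7572, .fwd 2597],
   .loop none [.edge 5, .bwd 7572, .bwd 2566],
   .loop none [.edge 4, .bwd 7573, .fwd 1517],
   .loop none [.edge 7, .bwd 7573, .bwd 2760],
   .loop none [.edge 6, .bwd 7573, .bwd 2755],
   .loop none [.edge 1, .bwd 7575, .bwd 2458],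
   .loop none [.edge 4, .bwd 7575, .bwd 2586],
   .loop none [.edge 7, .bwd 7575, .fwd 2556],
   .loop none [.edge 6, .bwd 7575, .bwd 2587],
   .loop none [.edge 5, .bwd 7576, .bwd 2298],
   .loop none [.edge 2, .bwd 7579, .fwd 2609],
   .loop none [.edge 4, .bwd 7579, .fwd 2589],
   .loop none [.edge 2, .bwd 7580, .bwd 1944],
   .loop none [.edge 2, .bwd 7581, .fwd 2439],
   .loop none [.edge 5, .bwd 7581, .bwd 2443],
   .loop none [.edge 2, .bwd 7589, .fwd 2199],
   .loop none [.edge 4, .bwd 7589, .bwd 2208],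
   .loop none [.edge 2, .bwd 7594, .fwd 2174],
   .loop none [.edge 5, .bwd 7594, .bwd 2178],
   .loop none [.edge 1, .bwd 7595, .fwd 1770],
   .loop none [.edge 5, .bwd 7595, .fwd 2841],
   .loop none [.edge 4, .bwd 7595, .bwd 2667],
   .loop none [.edge 7, .bwd 7595, .bwd 2868],
   .loop none [.edge 6, .bwd 7595, .bwd 2697],
   .loop none [.edge 3, .bwd 7596, .fwd 2932],
   .loop none [.edge 5, .bwd 7596, .bwd 2341],
   .loop none [.edge 4, .bwd 7598, .bwd 2700],
   .loop none [.edge 1, .bwd 7600, .fwd 2092],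
   .loop none [.edge 5, .bwd 7600, .fwd 2921],
   .loop none [.edge 4, .bwd 7600, .bwd 2802],
   .loop none [.edge 6, .bwd 7600, .bwd 2803],
   .loop none [.edge 7, .bwd 7601, .bwd 3252],
   .loop none [.edge 6, .bwd 7601, .bwd 2582],
   .loop none [.edge 3, .bwd 7602, .fwd 2134],
   .loop none [.edge 7, .bwd 7602, .fwd 2743],
   .loop none [.edge 6, .bwd 7602, .bwd 2129],
   .loop none [.edge 2, .bwd 7604, .fwd 2336],
   .loop none [.edge 2, .bwd 7605, .fwd 2049],
   .loop none [.edge 4, .bwd 7605, .bwd 2787],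
   .loop none [.edge 2, .bwd 7606, .fwd 2312],
   .loop none [.edge 4, .bwd 7606, .fwd 2014],
   .loop none [.edge 2, .bwd 7607, .fwd 2024],
   .loop none [.edge 2, .bwd 7608, .fwd 1709],
   .loop none [.edge 4, .bwd 7608, .bwd 1828],
   .loop none [.edge 1, .bwd 7620, .fwd 2249],
   .loop none [.edge 5, .bwd 7620, .fwd 2879],
   .loop none [.edge 4, .bwd 7620, .bwd 3311],
   .loop none [.edge 1, .bwd 7623, .bwd 2182],
   .loop none [.edge 4, .bwd 7623, .bwd 2804],
   .loop none [.edge 2, .bwd 7625, .bwd 2026],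
   .loop none [.edge 2, .bwd 7626, .fwd 2416],
   .loop none [.edge 1, .bwd 7628, .bwd 1712],
   .loop none [.edge 5, .bwd 7628, .fwd 2660],
   .loop none [.edge 4, .bwd 7628, .bwd 2617],
   .loop none [.edge 6, .bwd 7628, .bwd 2618],
   .loop none [.edge 5, .bwd 7629, .bwd 2432],
   .loop none [.edge 1, .bwd 7632, .fwd 2435],
   .loop none [.edge 5, .bwd 7632, .fwd 2946],
   .loop none [.edge 4, .bwd 7632, .bwd 2583],
   .loop none [.edge 3, .bwd 7634, .fwd 2441],
   .loop none [.edge 2, .bwd 7635, .bwd 1735],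
   .loop none [.edge 4, .bwd 7635, .bwd 1738],
   .loop none [.edge 1, .bwd 7639, .bwd 2220],
   .loop none [.edge 5, .bwd 7639, .bwd 3261],
   .loop none [.edge 1, .bwd 7641, .bwd 2323],
   .loop none [.edge 5, .bwd 7641, .bwd 3140],
   .loop none [.edge 5, .bwd 7643, .fwd 3637],
   .loop none [.edge 4, .bwd 7643, .bwd 3630],
   .loop none [.edge 7, .bwd 7643, .fwd 3180],
   .loop none [.edge 3, .bwd 7644, .bwd 2704],
   .loop none [.edge 5, .bwd 7644, .fwd 2740],
   .loop none [.edge 7, .bwd 7644, .fwd 3182],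
   .loop none [.edge 6, .bwd 7644, .bwd 2758],
   .loop none [.edge 3, .bwd 7645, .fwd 3678],
   .loop none [.edge 4, .bwd 7645, .fwd 3235],
   .loop none [.edge 2, .bwd 7647, .fwd 2576],
   .loop none [.edge 2, .bwd 7652, .bwd 2457],
   .loop none [.edge 4, .bwd 7652, .bwd 3939],
   .loop none [.edge 7, .bwd 7652, .fwd 3215],
   .loop none [.edge 6, .bwd 7652, .bwd 3588],
   .loop none [.edge 3, .bwd 7653, .bwd 2569],
   .loop none [.edge 4, .bwd 7653, .bwd 3275],
   .loop none [.edge 1, .bwd 7657, .bwd 2770],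
   .loop none [.edge 5, .bwd 7657, .fwd 2688],
   .loop none [.edge 1, .bwd 7659, .bwd 2402],
   .loop none [.edge 1, .bwd 7660, .bwd 2766],
   .loop none [.edge 4, .bwd 7660, .bwd 3685],
   .loop none [.edge 1, .bwd 7662, .fwd 2180],
   .loop none [.edge 5, .bwd 7662, .bwd 3360],
   .loop none [.edge 1, .bwd 7664, .fwd 2768],
   .loop none [.edge 4, .bwd 7664, .bwd 3002],
   .loop none [.edge 2, .bwd 7666, .fwd 1733],
   .loop none [.edge 5, .bwd 7666, .bwd 3133],
   .loop none [.edge 4, .bwd 7666, .bwd 2836],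
   .loop none [.edge 7, .bwd 7666, .bwd 3737],
   .loop none [.edge 6, .bwd 7666, .bwd 2837],
   .loop none [.edge 3, .bwd 7667, .fwd 2869],
   .loop none [.edge 7, .bwd 7667, .bwd 3801],
   .loop none [.edge 3, .bwd 7668, .fwd 2845],
   .loop none [.edge 5, .bwd 7669, .fwd 2865],
   .loop none [.edge 2, .bwd 7671, .fwd 2777],
   .loop none [.edge 5, .bwd 7674, .fwd 3399],
   .loop none [.edge 4, .bwd 7674, .bwd 3380]]

theorem just30_len : just30.length = 250 := by decide +kernel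

theorem just30_ok : cert.okFacts 7500 just30 = true := by decide +kernel

/-- justifications -/
noncomputable def just31 : List Cert.Just :=
  [.loop none [.edge 6, .bwd 7674, .bwd 3381],
   .loop none [.edge 3, .bwd 7675, .fwd 2916],
   .loop none [.edge 7, .bwd 7675, .fwd 2896],
   .loop none [.edge 6, .bwd 7675, .bwd 2923],
   .loop none [.edge 3, .bwd 7676, .fwd 2789],
   .loop none [.edge 7, .bwd 7676, .fwd 3332],
   .loop none [.edge 6, .bwd 7676, .bwd 2799],
   .loop none [.edge 2, .bwd 7680, .bwd 2919],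
   .loop none [.edge 1, .bwd 7683, .bwd 2408],
   .loop none [.edge 1, .bwd 7684, .bwd 2153],
   .loop none [.edge 5, .bwd 7684, .bwd 3336],
   .loop none [.edge 1, .bwd 7686, .fwd 2328],
   .loop none [.edge 5, .bwd 7686, .bwd 3163],
   .loop none [.edge 1, .bwd 7688, .fwd 2151],
   .loop none [.edge 1, .bwd 7689, .fwd 1710],
   .loop none [.edge 5, .bwd 7689, .fwd 2990],
   .loop none [.edge 5, .bwd 7691, .bwd 3612],
   .loop none [.edge 4, .bwd 7691, .bwd 3608],
   .loop none [.edge 3, .bwd 7692, .bwd 2871],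
   .loop none [.edge 3, .bwd 7693, .bwd 3489],
   .loop none [.edge 4, .bwd 7694, .bwd 3366],
   .loop none [.edge 3, .bwd 7695, .bwd 2791],
   .loop none [.edge 1, .bwd 7696, .fwd 2406],
   .loop none [.edge 5, .bwd 7698, .fwd 3032],
   .loop none [.edge 4, .bwd 7698, .bwd 2655],
   .loop none [.edge 6, .bwd 7698, .bwd 2656],
   .loop none [.edge 3, .bwd 7699, .fwd 2702],
   .loop none [.edge 7, .bwd 7699, .bwd 3917],
   .loop none [.edge 3, .bwd 7700, .fwd 2668],
   .loop none [.edge 5, .bwd 7703, .fwd 3480],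
   .loop none [.edge 4, .bwd 7703, .bwd 3450],
   .loop none [.edge 3, .bwd 7704, .fwd 2941],
   .loop none [.edge 3, .bwd 7705, .fwd 2567],
   .loop none [.edge 2, .bwd 7706, .bwd 2944],
   .loop none [.edge 5, .bwd 7707, .fwd 3112],
   .loop none [.edge 5, .bwd 7709, .bwd 3595],
   .loop none [.edge 3, .bwd 7710, .bwd 3247],
   .loop none [.edge 5, .bwd 7711, .bwd 3670],
   .loop none [.edge 3, .bwd 7712, .fwd 3169],
   .loop none [.edge 3, .bwd 7713, .bwd 3872],
   .loop none [.edge 5, .bwd 7713, .bwd 3859],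
   .loop none [.edge 7, .bwd 7713, .fwd 3958],
   .loop none [.edge 6, .bwd 7713, .bwd 4146],
   .loop none [.edge 3, .bwd 7714, .fwd 3751],
   .loop none [.edge 4, .bwd 7714, .bwd 3865],
   .loop none [.edge 5, .bwd 7716, .bwd 3232],
   .loop none [.edge 4, .bwd 7716, .bwd 4179],
   .loop none [.edge 7, .bwd 7716, .fwd 4271],
   .loop none [.edge 6, .bwd 7716, .bwd 4161],
   .loop none [.edge 3, .bwd 7717, .fwd 2729],
   .loop none [.edge 2, .bwd 7720, .bwd 4015],
   .loop none [.edge 3, .bwd 7721, .fwd 3245],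
   .loop none [.edge 1, .bwd 7722, .bwd 3963],
   .loop none [.edge 3, .bwd 7724, .fwd 3938],
   .loop none [.edge 4, .bwd 7724, .bwd 3991],
   .loop none [.edge 5, .bwd 7727, .bwd 3904],
   .loop none [.edge 4, .bwd 7727, .fwd 3606],
   .loop none [.edge 3, .bwd 7728, .bwd 3171],
   .loop none [.edge 5, .bwd 7729, .fwd 3771],
   .loop none [.edge 3, .bwd 7730, .bwd 2671],
   .loop none [.edge 4, .bwd 7732, .bwd 3928],
   .loop none [.edge 3, .bwd 7733, .bwd 3855],
   .loop none [.edge 5, .bwd 7734, .bwd 3554],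
   .loop none [.edge 3, .bwd 7735, .bwd 4489],
   .loop none [.edge 4, .bwd 7736, .fwd 3401],
   .loop none [.edge 3, .bwd 7737, .fwd 3385],
   .loop none [.edge 5, .bwd 7738, .fwd 3097],
   .loop none [.edge 3, .bwd 7739, .fwd 3748],
   .loop none [.edge 7, .bwd 7739, .bwd 4228],
   .loop none [.edge 3, .bwd 7740, .fwd 3075],
   .loop none [.edge 5, .bwd 7741, .bwd 4410],
   .loop none [.edge 5, .bwd 7743, .fwd 4475],
   .loop none [.edge 4, .bwd 7743, .fwd 3741],
   .loop none [.edge 7, .bwd 7743, .fwd 4273],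
   .loop none [.edge 2, .bwd 7745, .bwd 3339],
   .loop none [.edge 3, .bwd 7746, .bwd 2848],
   .loop none [.edge 1, .bwd 7747, .bwd 3257],
   .loop none [.edge 3, .bwd 7748, .fwd 3443],
   .loop none [.edge 7, .bwd 7748, .bwd 3790],
   .loop none [.edge 6, .bwd 7748, .bwd 3455],
   .loop none [.edge 3, .bwd 7749, .fwd 3427],
   .loop none [.edge 7, .bwd 7749, .bwd 3886],
   .loop none [.edge 6, .bwd 7749, .bwd 3423],
   .loop none [.edge 2, .bwd 7751, .fwd 2917],
   .loop none [.edge 5, .bwd 7751, .bwd 4392],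
   .loop none [.edge 7, .bwd 7751, .fwd 4345],
   .loop none [.edge 6, .bwd 7751, .bwd 3485],
   .loop none [.edge 5, .bwd 7754, .bwd 3365],
   .loop none [.edge 4, .bwd 7754, .fwd 3439],
   .loop none [.edge 7, .bwd 7754, .fwd 4404],
   .loop none [.edge 6, .bwd 7754, .bwd 3437],
   .loop none [.edge 1, .bwd 7757, .bwd 4203],
   .loop none [.edge 5, .bwd 7759, .bwd 3514],
   .loop none [.edge 3, .bwd 7760, .bwd 3331],
   .loop none [.edge 5, .bwd 7761, .bwd 3698],
   .loop none [.edge 3, .bwd 7762, .fwd 3282],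
   .loop none [.edge 5, .bwd 7764, .fwd 3008],
   .loop none [.edge 3, .bwd 7765, .bwd 2886],
   .loop none [.edge 3, .bwd 7766, .bwd 3881],
   .loop none [.edge 3, .bwd 7767, .fwd 3717],
   .loop none [.edge 5, .bwd 7768, .bwd 3324],
   .loop none [.edge 4, .bwd 7768, .bwd 4452],
   .loop none [.edge 3, .bwd 7770, .fwd 3533],
   .loop none [.edge 5, .bwd 7771, .bwd 3547],
   .loop none [.edge 3, .bwd 7773, .fwd 3778],
   .loop none [.edge 7, .bwd 7773, .fwd 4122],
   .loop none [.edge 3, .bwd 7774, .fwd 3038],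
   .loop none [.edge 5, .bwd 7776, .fwd 4252],
   .loop none [.edge 4, .bwd 7776, .fwd 3782],
   .loop none [.edge 7, .bwd 7776, .fwd 4247],
   .loop none [.edge 3, .bwd 7779, .fwd 3474],
   .loop none [.edge 3, .bwd 7780, .fwd 3456],
   .loop none [.edge 2, .bwd 7781, .fwd 2942],
   .loop none [.edge 5, .bwd 7781, .bwd 4025],
   .loop none [.edge 4, .bwd 7782, .fwd 3930],
   .loop none [.edge 1, .bwd 7783, .bwd 2972],
   .loop none [.edge 3, .bwd 7784, .bwd 2731],
   .loop none [.edge 3, .bwd 7785, .bwd 3997],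
   .loop none [.edge 5, .bwd 7786, .bwd 3969],
   .loop none [.edge 3, .bwd 7787, .fwd 3815],
   .loop none [.edge 4, .bwd 7788, .fwd 3186],
   .loop none [.edge 2, .bwd 7789, .fwd 4142],
   .loop none [.edge 5, .bwd 7789, .bwd 3871],
   .loop none [.edge 4, .bwd 7789, .bwd 4668],
   .loop none [.edge 7, .bwd 7789, .fwd 4778],
   .loop none [.edge 6, .bwd 7789, .bwd 4151],
   .loop none [.edge 3, .bwd 7790, .fwd 3950],
   .loop none [.edge 2, .bwd 7793, .bwd 4144],
   .loop none [.edge 4, .bwd 7793, .fwd 3752],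
   .loop none [.edge 3, .bwd 7794, .bwd 4159],
   .loop none [.edge 3, .bwd 7795, .fwd 4023],
   .loop none [.edge 7, .bwd 7795, .fwd 4733],
   .loop none [.edge 4, .bwd 7801, .fwd 4173],
   .loop none [.edge 2, .bwd 7803, .fwd 4058],
   .loop none [.edge 5, .bwd 7803, .bwd 3952],
   .loop none [.edge 4, .bwd 7803, .fwd 3599],
   .loop none [.edge 3, .bwd 7804, .fwd 3990],
   .loop none [.edge 6, .bwd 7805, .bwd 5025],
   .loop none [.edge 3, .bwd 7808, .bwd 3041],
   .loop none [.edge 4, .bwd 7809, .fwd 4250],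
   .loop none [.edge 3, .bwd 7810, .fwd 3927],
   .loop none [.edge 3, .bwd 7812, .bwd 4622],
   .loop none [.edge 3, .bwd 7814, .fwd 3408],
   .loop none [.edge 5, .bwd 7815, .bwd 4111],
   .loop none [.edge 3, .bwd 7816, .fwd 3829],
   .loop none [.edge 2, .bwd 7817, .bwd 3818],
   .loop none [.edge 5, .bwd 7817, .bwd 4598],
   .loop none [.edge 4, .bwd 7817, .fwd 3749],
   .loop none [.edge 7, .bwd 7817, .fwd 4484],
   .loop none [.edge 2, .bwd 7819, .bwd 4457],
   .loop none [.edge 3, .bwd 7820, .fwd 4408],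
   .loop none [.edge 5, .bwd 7821, .fwd 4476],
   .loop none [.edge 1, .bwd 7824, .bwd 4423],
   .loop none [.edge 2, .bwd 7827, .fwd 3444],
   .loop none [.edge 5, .bwd 7827, .bwd 4397],
   .loop none [.edge 7, .bwd 7827, .fwd 4395],
   .loop none [.edge 6, .bwd 7827, .bwd 3470],
   .loop none [.edge 2, .bwd 7830, .bwd 3446],
   .loop none [.edge 5, .bwd 7830, .bwd 3535],
   .loop none [.edge 4, .bwd 7830, .fwd 3463],
   .loop none [.edge 7, .bwd 7830, .fwd 4398],
   .loop none [.edge 6, .bwd 7830, .bwd 3452],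
   .loop none [.edge 1, .bwd 7833, .bwd 4559],
   .loop none [.edge 4, .bwd 7833, .bwd 4546],
   .loop none [.edge 5, .bwd 7834, .bwd 4426],
   .loop none [.edge 6, .bwd 7834, .bwd 4827],
   .loop none [.edge 5, .bwd 7836, .fwd 3347],
   .loop none [.edge 3, .bwd 7838, .fwd 3440],
   .loop none [.edge 3, .bwd 7842, .fwd 3512],
   .loop none [.edge 3, .bwd 7844, .fwd 3576],
   .loop none [.edge 3, .bwd 7846, .fwd 4115],
   .loop none [.edge 2, .bwd 7848, .fwd 4321],
   .loop none [.edge 5, .bwd 7848, .bwd 3880],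
   .loop none [.edge 4, .bwd 7848, .bwd 4790],
   .loop none [.edge 2, .bwd 7849, .fwd 4325],
   .loop none [.edge 2, .bwd 7852, .fwd 4438],
   .loop none [.edge 5, .bwd 7852, .bwd 3565],
   .loop none [.edge 2, .bwd 7854, .fwd 4112],
   .loop none [.edge 5, .bwd 7854, .fwd 4627],
   .loop none [.edge 4, .bwd 7854, .fwd 3779],
   .loop none [.edge 7, .bwd 7854, .fwd 4261],
   .loop none [.edge 2, .bwd 7856, .bwd 4199],
   .loop none [.edge 2, .bwd 7860, .fwd 3970],
   .loop none [.edge 5, .bwd 7860, .bwd 4194],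
   .loop none [.edge 2, .bwd 7861, .bwd 3972],
   .loop none [.edge 4, .bwd 7861, .fwd 3993],
   .loop none [.edge 1, .bwd 7862, .bwd 4577],
   .loop none [.edge 2, .bwd 7867, .fwd 4700],
   .loop none [.edge 5, .bwd 7867, .bwd 3996],
   .loop none [.edge 2, .bwd 7869, .fwd 3816],
   .loop none [.edge 4, .bwd 7869, .fwd 3836],
   .loop none [.edge 1, .bwd 7871, .bwd 4313],
   .loop none [.edge 5, .bwd 7871, .fwd 5158],
   .loop none [.edge 4, .bwd 7871, .bwd 5191],
   .loop none [.edge 7, .bwd 7871, .fwd 5202],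
   .loop none [.edge 6, .bwd 7871, .bwd 5192],
   .loop none [.edge 3, .bwd 7872, .fwd 4705],
   .loop none [.edge 7, .bwd 7872, .fwd 5065],
   .loop none [.edge 2, .bwd 7876, .fwd 4180],
   .loop none [.edge 1, .bwd 7877, .fwd 4828],
   .loop none [.edge 5, .bwd 7877, .fwd 5089],
   .loop none [.edge 2, .bwd 7879, .bwd 4182],
   .loop none [.edge 4, .bwd 7879, .bwd 4418],
   .loop none [.edge 1, .bwd 7883, .bwd 4046],
   .loop none [.edge 5, .bwd 7883, .fwd 5067],
   .loop none [.edge 4, .bwd 7883, .bwd 5055],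
   .loop none [.edge 6, .bwd 7884, .bwd 5044],
   .loop none [.edge 2, .bwd 7886, .bwd 4659],
   .loop none [.edge 2, .bwd 7888, .bwd 4281],
   .loop none [.edge 4, .bwd 7888, .bwd 4283],
   .loop none [.edge 2, .bwd 7890, .bwd 4605],
   .loop none [.edge 2, .bwd 7891, .bwd 4774],
   .loop none [.edge 2, .bwd 7892, .fwd 4614],
   .loop none [.edge 5, .bwd 7892, .bwd 4120],
   .loop none [.edge 2, .bwd 7894, .fwd 4366],
   .loop none [.edge 1, .bwd 7895, .fwd 4311],
   .loop none [.edge 5, .bwd 7895, .fwd 5083],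
   .loop none [.edge 4, .bwd 7895, .bwd 5076],
   .loop none [.edge 7, .bwd 7895, .fwd 4644],
   .loop none [.edge 5, .bwd 7896, .bwd 4642],
   .loop none [.edge 1, .bwd 7899, .bwd 4471],
   .loop none [.edge 2, .bwd 7900, .bwd 4504],
   .loop none [.edge 2, .bwd 7902, .fwd 4424],
   .loop none [.edge 1, .bwd 7903, .bwd 4543],
   .loop none [.edge 4, .bwd 7903, .bwd 4878],
   .loop none [.edge 7, .bwd 7903, .bwd 4997],
   .loop none [.edge 6, .bwd 7903, .bwd 4879],
   .loop none [.edge 5, .bwd 7904, .bwd 4763],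
   .loop none [.edge 6, .bwd 7904, .bwd 4963],
   .loop none [.edge 5, .bwd 7906, .fwd 3899],
   .loop none [.edge 1, .bwd 7907, .fwd 4073],
   .loop none [.edge 5, .bwd 7907, .fwd 4909],
   .loop none [.edge 4, .bwd 7907, .bwd 4850],
   .loop none [.edge 7, .bwd 7907, .bwd 4940],
   .loop none [.edge 6, .bwd 7907, .bwd 4851],
   .loop none [.edge 3, .bwd 7909, .fwd 3464],
   .loop none [.edge 2, .bwd 7912, .fwd 4560],
   .loop none [.edge 4, .bwd 7912, .fwd 4561],
   .loop none [.edge 2, .bwd 7918, .fwd 4752],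
   .loop none [.edge 2, .bwd 7919, .bwd 4114],
   .loop none [.edge 2, .bwd 7920, .fwd 4197],
   .loop none [.edge 1, .bwd 7921, .fwd 4304],
   .loop none [.edge 5, .bwd 7921, .fwd 5375],
   .loop none [.edge 4, .bwd 7921, .bwd 5198],
   .loop none [.edge 1, .bwd 7924, .bwd 4826],
   .loop none [.edge 1, .bwd 7925, .fwd 4028],
   .loop none [.edge 4, .bwd 7925, .bwd 5018],
   .loop none [.edge 1, .bwd 7927, .bwd 4306],
   .loop none [.edge 5, .bwd 7927, .fwd 5107],
   .loop none [.edge 4, .bwd 7927, .bwd 5100]]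

theorem just31_len : just31.length = 250 := by decide +kernel

theorem just31_ok : cert.okFacts 7750 just31 = true := by decide +kernel

/-- justifications -/
noncomputable def just32 : List Cert.Just :=
  [.loop none [.edge 7, .bwd 7927, .fwd 4630],
   .loop none [.edge 1, .bwd 7931, .bwd 4245],
   .loop none [.edge 1, .bwd 7932, .fwd 4550],
   .loop none [.edge 4, .bwd 7932, .bwd 4896],
   .loop none [.edge 1, .bwd 7934, .bwd 4030],
   .loop none [.edge 5, .bwd 7934, .fwd 5237],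
   .loop none [.edge 2, .bwd 7936, .fwd 4578],
   .loop none [.edge 1, .bwd 7937, .bwd 4746],
   .loop none [.edge 4, .bwd 7937, .bwd 5258],
   .loop none [.edge 1, .bwd 7939, .bwd 4652],
   .loop none [.edge 5, .bwd 7939, .fwd 5117],
   .loop none [.edge 5, .bwd 7941, .fwd 5649],
   .loop none [.edge 4, .bwd 7941, .bwd 5380],
   .loop none [.edge 7, .bwd 7941, .fwd 5385],
   .loop none [.edge 6, .bwd 7941, .bwd 5381],
   .loop none [.edge 3, .bwd 7942, .bwd 5151],
   .loop none [.edge 5, .bwd 7942, .fwd 5165],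
   .loop none [.edge 3, .bwd 7943, .fwd 5186],
   .loop none [.edge 2, .bwd 7946, .fwd 5068],
   .loop none [.edge 1, .bwd 7948, .bwd 4340],
   .loop none [.edge 2, .bwd 7949, .fwd 4829],
   .loop none [.edge 5, .bwd 7949, .fwd 5359],
   .loop none [.edge 1, .bwd 7951, .bwd 4741],
   .loop none [.edge 5, .bwd 7951, .bwd 5249],
   .loop none [.edge 5, .bwd 7953, .fwd 5354],
   .loop none [.edge 4, .bwd 7953, .bwd 5337],
   .loop none [.edge 3, .bwd 7954, .fwd 5057],
   .loop none [.edge 3, .bwd 7955, .fwd 5208],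
   .loop none [.edge 6, .bwd 7955, .bwd 5214],
   .loop none [.edge 1, .bwd 7957, .bwd 4658],
   .loop none [.edge 1, .bwd 7958, .bwd 4280],
   .loop none [.edge 5, .bwd 7958, .bwd 5580],
   .loop none [.edge 1, .bwd 7960, .fwd 4501],
   .loop none [.edge 1, .bwd 7961, .fwd 4256],
   .loop none [.edge 1, .bwd 7962, .fwd 4278],
   .loop none [.edge 4, .bwd 7962, .bwd 4840],
   .loop none [.edge 1, .bwd 7964, .bwd 4353],
   .loop none [.edge 5, .bwd 7965, .fwd 5625],
   .loop none [.edge 4, .bwd 7965, .bwd 5133],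
   .loop none [.edge 7, .bwd 7965, .fwd 5599],
   .loop none [.edge 3, .bwd 7966, .fwd 5080],
   .loop none [.edge 7, .bwd 7966, .fwd 5742],
   .loop none [.edge 3, .bwd 7967, .fwd 5124],
   .loop none [.edge 1, .bwd 7971, .bwd 4503],
   .loop none [.edge 1, .bwd 7972, .fwd 4243],
   .loop none [.edge 2, .bwd 7973, .bwd 4542],
   .loop none [.edge 4, .bwd 7973, .bwd 4883],
   .loop none [.edge 7, .bwd 7973, .fwd 5682],
   .loop none [.edge 6, .bwd 7973, .bwd 4884],
   .loop none [.edge 3, .bwd 7974, .fwd 4917],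
   .loop none [.edge 4, .bwd 7974, .bwd 4902],
   .loop none [.edge 6, .bwd 7974, .bwd 5719],
   .loop none [.edge 4, .bwd 7976, .bwd 4993],
   .loop none [.edge 5, .bwd 7980, .bwd 5339],
   .loop none [.edge 4, .bwd 7980, .bwd 4905],
   .loop none [.edge 7, .bwd 7980, .bwd 5690],
   .loop none [.edge 3, .bwd 7981, .fwd 4951],
   .loop none [.edge 3, .bwd 7982, .fwd 4897],
   .loop none [.edge 5, .bwd 7983, .fwd 4970],
   .loop none [.edge 1, .bwd 7986, .bwd 4552],
   .loop none [.edge 5, .bwd 7986, .fwd 5095],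
   .loop none [.edge 1, .bwd 7988, .fwd 4739],
   .loop none [.edge 1, .bwd 7989, .fwd 4656],
   .loop none [.edge 1, .bwd 7990, .fwd 4536],
   .loop none [.edge 5, .bwd 7991, .bwd 5591],
   .loop none [.edge 4, .bwd 7991, .fwd 5503],
   .loop none [.edge 3, .bwd 7992, .bwd 5050],
   .loop none [.edge 3, .bwd 7993, .fwd 5193],
   .loop none [.edge 4, .bwd 7995, .bwd 5268],
   .loop none [.edge 3, .bwd 7996, .bwd 4920],
   .loop none [.edge 5, .bwd 7997, .fwd 5607],
   .loop none [.edge 4, .bwd 7997, .bwd 5365],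
   .loop none [.edge 7, .bwd 7997, .fwd 5474],
   .loop none [.edge 3, .bwd 7998, .fwd 5103],
   .loop none [.edge 3, .bwd 7999, .fwd 5372],
   .loop none [.edge 4, .bwd 8002, .bwd 5221],
   .loop none [.edge 3, .bwd 8003, .bwd 5210],
   .loop none [.edge 5, .bwd 8004, .fwd 5301],
   .loop none [.edge 3, .bwd 8005, .fwd 5240],
   .loop none [.edge 4, .bwd 8007, .bwd 5875],
   .loop none [.edge 3, .bwd 8008, .bwd 5976],
   .loop none [.edge 5, .bwd 8009, .bwd 5828],
   .loop none [.edge 3, .bwd 8010, .fwd 5149],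
   .loop none [.edge 3, .bwd 8011, .bwd 5738],
   .loop none [.edge 5, .bwd 8011, .bwd 5748],
   .loop none [.edge 3, .bwd 8012, .bwd 5899],
   .loop none [.edge 5, .bwd 8015, .bwd 5734],
   .loop none [.edge 6, .bwd 8015, .bwd 6303],
   .loop none [.edge 2, .bwd 8017, .bwd 5912],
   .loop none [.edge 1, .bwd 8018, .bwd 5264],
   .loop none [.edge 5, .bwd 8022, .bwd 5924],
   .loop none [.edge 3, .bwd 8023, .bwd 5251],
   .loop none [.edge 3, .bwd 8024, .bwd 5699],
   .loop none [.edge 3, .bwd 8025, .fwd 5357],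
   .loop none [.edge 6, .bwd 8025, .bwd 5771],
   .loop none [.edge 5, .bwd 8026, .bwd 5709],
   .loop none [.edge 5, .bwd 8027, .bwd 5239],
   .loop none [.edge 6, .bwd 8027, .bwd 6089],
   .loop none [.edge 5, .bwd 8030, .bwd 5561],
   .loop none [.edge 3, .bwd 8031, .bwd 6083],
   .loop none [.edge 4, .bwd 8034, .bwd 5539],
   .loop none [.edge 3, .bwd 8035, .bwd 5010],
   .loop none [.edge 3, .bwd 8037, .fwd 5696],
   .loop none [.edge 7, .bwd 8037, .bwd 5754],
   .loop none [.edge 3, .bwd 8038, .bwd 5732],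
   .loop none [.edge 5, .bwd 8040, .bwd 5764],
   .loop none [.edge 3, .bwd 8046, .fwd 5328],
   .loop none [.edge 4, .bwd 8046, .bwd 5994],
   .loop none [.edge 6, .bwd 8046, .bwd 6106],
   .loop none [.edge 4, .bwd 8048, .bwd 5816],
   .loop none [.edge 5, .bwd 8049, .fwd 6079],
   .loop none [.edge 6, .bwd 8049, .bwd 6152],
   .loop none [.edge 3, .bwd 8050, .bwd 5717],
   .loop none [.edge 3, .bwd 8052, .fwd 5048],
   .loop none [.edge 3, .bwd 8053, .fwd 5486],
   .loop none [.edge 3, .bwd 8054, .bwd 5677],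
   .loop none [.edge 5, .bwd 8055, .bwd 5931],
   .loop none [.edge 2, .bwd 8056, .fwd 4952],
   .loop none [.edge 5, .bwd 8056, .bwd 6088],
   .loop none [.edge 5, .bwd 8057, .bwd 5441],
   .loop none [.edge 5, .bwd 8059, .bwd 5793],
   .loop none [.edge 3, .bwd 8060, .bwd 4900],
   .loop none [.edge 3, .bwd 8064, .fwd 5589],
   .loop none [.edge 3, .bwd 8065, .bwd 5950],
   .loop none [.edge 5, .bwd 8066, .bwd 5508],
   .loop none [.edge 3, .bwd 8068, .bwd 5331],
   .loop none [.edge 3, .bwd 8070, .bwd 5576],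
   .loop none [.edge 3, .bwd 8071, .fwd 5611],
   .loop none [.edge 5, .bwd 8073, .bwd 5584],
   .loop none [.edge 3, .bwd 8075, .fwd 5308],
   .loop none [.edge 5, .bwd 8076, .fwd 6050],
   .loop none [.edge 3, .bwd 8077, .fwd 5729],
   .loop none [.edge 5, .bwd 8078, .bwd 6095],
   .loop none [.edge 3, .bwd 8079, .fwd 5874],
   .loop none [.edge 3, .bwd 8081, .fwd 5848],
   .loop none [.edge 2, .bwd 8083, .bwd 6375],
   .loop none [.edge 5, .bwd 8083, .bwd 5737],
   .loop none [.edge 6, .bwd 8083, .fwd 6374],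
   .loop none [.edge 2, .bwd 8085, .fwd 5898],
   .loop none [.edge 3, .bwd 8086, .fwd 6093],
   .loop none [.edge 1, .bwd 8088, .fwd 6313],
   .loop none [.edge 3, .bwd 8090, .fwd 5922],
   .loop none [.edge 2, .bwd 8092, .bwd 5989],
   .loop none [.edge 5, .bwd 8092, .bwd 5698],
   .loop none [.edge 2, .bwd 8093, .bwd 6098],
   .loop none [.edge 5, .bwd 8093, .bwd 5310],
   .loop none [.edge 6, .bwd 8093, .bwd 6099],
   .loop none [.edge 3, .bwd 8098, .bwd 6076],
   .loop none [.edge 3, .bwd 8100, .fwd 5538],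
   .loop none [.edge 2, .bwd 8102, .bwd 5881],
   .loop none [.edge 5, .bwd 8102, .bwd 5757],
   .loop none [.edge 2, .bwd 8104, .bwd 6342],
   .loop none [.edge 2, .bwd 8106, .bwd 6157],
   .loop none [.edge 5, .bwd 8106, .fwd 6073],
   .loop none [.edge 6, .bwd 8106, .bwd 6158],
   .loop none [.edge 3, .bwd 8107, .bwd 6064],
   .loop none [.edge 3, .bwd 8109, .fwd 5841],
   .loop none [.edge 7, .bwd 8110, .fwd 6232],
   .loop none [.edge 2, .bwd 8114, .fwd 6096],
   .loop none [.edge 5, .bwd 8114, .bwd 6249],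
   .loop none [.edge 2, .bwd 8115, .fwd 5987],
   .loop none [.edge 5, .bwd 8115, .bwd 5676],
   .loop none [.edge 3, .bwd 8116, .fwd 5929],
   .loop none [.edge 3, .bwd 8120, .bwd 6028],
   .loop none [.edge 2, .bwd 8122, .fwd 6284],
   .loop none [.edge 5, .bwd 8122, .bwd 5513],
   .loop none [.edge 2, .bwd 8123, .fwd 5949],
   .loop none [.edge 2, .bwd 8125, .bwd 6224],
   .loop none [.edge 2, .bwd 8126, .bwd 5936],
   .loop none [.edge 5, .bwd 8126, .bwd 5575],
   .loop none [.edge 2, .bwd 8127, .fwd 6338],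
   .loop none [.edge 2, .bwd 8129, .fwd 6220],
   .loop none [.edge 5, .bwd 8129, .fwd 6058],
   .loop none [.edge 2, .bwd 8131, .fwd 6244],
   .loop none [.edge 5, .bwd 8131, .bwd 6104],
   .loop none [.edge 2, .bwd 8133, .bwd 6117],
   .loop none [.edge 2, .bwd 8134, .fwd 5849],
   .loop none [.edge 1, .bwd 8135, .fwd 6261],
   .loop none [.edge 4, .bwd 8135, .bwd 6542],
   .loop none [.edge 6, .bwd 8135, .bwd 6543],
   .loop none [.edge 3, .bwd 8136, .fwd 6102],
   .loop none [.edge 1, .bwd 8138, .bwd 6395],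
   .loop none [.edge 2, .bwd 8140, .bwd 6347],
   .loop none [.edge 2, .bwd 8141, .bwd 6143],
   .loop none [.edge 1, .bwd 8142, .fwd 6250],
   .loop none [.edge 4, .bwd 8142, .bwd 6521],
   .loop none [.edge 1, .bwd 8144, .fwd 6188],
   .loop none [.edge 4, .bwd 8144, .bwd 6422],
   .loop none [.edge 6, .bwd 8144, .bwd 6423],
   .loop none [.edge 2, .bwd 8147, .bwd 6205],
   .loop none [.edge 2, .bwd 8148, .bwd 6253],
   .loop none [.edge 1, .bwd 8149, .bwd 6333],
   .loop none [.edge 4, .bwd 8149, .bwd 6511],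
   .loop none [.edge 1, .bwd 8151, .bwd 6341],
   .loop none [.edge 1, .bwd 8152, .bwd 6190],
   .loop none [.edge 4, .bwd 8152, .bwd 6426],
   .loop none [.edge 6, .bwd 8152, .bwd 6427],
   .loop none [.edge 7, .bwd 8153, .fwd 6456],
   .loop none [.edge 2, .bwd 8155, .fwd 6392],
   .loop none [.edge 2, .bwd 8156, .bwd 5851],
   .loop none [.edge 1, .bwd 8158, .bwd 6230],
   .loop none [.edge 4, .bwd 8158, .bwd 6454],
   .loop none [.edge 1, .bwd 8160, .bwd 6166],
   .loop none [.edge 4, .bwd 8160, .bwd 6509],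
   .loop none [.edge 2, .bwd 8162, .fwd 6115],
   .loop none [.edge 2, .bwd 8163, .bwd 6184],
   .loop none [.edge 1, .bwd 8164, .bwd 6273],
   .loop none [.edge 4, .bwd 8164, .bwd 6480],
   .loop none [.edge 1, .bwd 8166, .fwd 6344],
   .loop none [.edge 1, .bwd 8167, .bwd 6223],
   .loop none [.edge 1, .bwd 8168, .fwd 6331],
   .loop none [.edge 4, .bwd 8168, .bwd 6491],
   .loop none [.edge 1, .bwd 8170, .fwd 6339],
   .loop none [.edge 1, .bwd 8171, .fwd 6221],
   .loop none [.edge 4, .bwd 8171, .bwd 6417],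
   .loop none [.edge 1, .bwd 8173, .fwd 6236],
   .loop none [.edge 4, .bwd 8173, .bwd 6529],
   .loop none [.edge 1, .bwd 8175, .fwd 6181],
   .loop none [.edge 1, .bwd 8176, .fwd 6302],
   .loop none [.edge 2, .bwd 8177, .fwd 6262],
   .loop none [.edge 4, .bwd 8177, .fwd 6767],
   .loop none [.edge 6, .bwd 8177, .bwd 6672],
   .loop none [.edge 3, .bwd 8178, .fwd 6536],
   .loop none [.edge 2, .bwd 8180, .bwd 6539],
   .loop none [.edge 2, .bwd 8181, .bwd 6394],
   .loop none [.edge 1, .bwd 8182, .bwd 6346],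
   .loop none [.edge 1, .bwd 8183, .fwd 6228],
   .loop none [.edge 2, .bwd 8184, .fwd 6251],
   .loop none [.edge 4, .bwd 8184, .bwd 6605],
   .loop none [.edge 3, .bwd 8185, .fwd 6513],
   .loop none [.edge 4, .bwd 8186, .bwd 6621],
   .loop none [.edge 6, .bwd 8186, .bwd 6622],
   .loop none [.edge 1, .bwd 8189, .bwd 6204],
   .loop none [.edge 4, .bwd 8191, .bwd 6584],
   .loop none [.edge 3, .bwd 8192, .fwd 6544],
   .loop none [.edge 4, .bwd 8194, .bwd 6662],
   .loop none [.edge 6, .bwd 8194, .bwd 6663],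
   .loop none [.edge 3, .bwd 8195, .bwd 6504],
   .loop none [.edge 7, .bwd 8195, .fwd 6651],
   .loop none [.edge 4, .bwd 8200, .bwd 6615],
   .loop none [.edge 3, .bwd 8201, .bwd 6485],
   .loop none [.edge 4, .bwd 8202, .bwd 6598],
   .loop none [.edge 3, .bwd 8203, .fwd 6502],
   .loop none [.edge 1, .bwd 8204, .bwd 6238],
   .loop none [.edge 1, .bwd 8205, .bwd 6183],
   .loop none [.edge 4, .bwd 8206, .bwd 6803],
   .loop none [.edge 3, .bwd 8207, .fwd 6467],
   .loop none [.edge 4, .bwd 8210, .bwd 6596],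
   .loop none [.edge 3, .bwd 8211, .fwd 6483],
   .loop none [.edge 4, .bwd 8213, .bwd 6798]]

theorem just32_len : just32.length = 250 := by decide +kernel

theorem just32_ok : cert.okFacts 8000 just32 = true := by decide +kernel

/-- justifications -/
noncomputable def just33 : List Cert.Just :=
  [.loop none [.edge 3, .bwd 8214, .bwd 6515],
   .loop none [.edge 4, .bwd 8215, .bwd 6847],
   .loop none [.edge 3, .bwd 8216, .bwd 6546],
   .loop none [.edge 3, .bwd 8220, .bwd 7011],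
   .loop none [.edge 2, .bwd 8222, .fwd 6537],
   .loop none [.edge 1, .bwd 8223, .fwd 6609],
   .loop none [.edge 3, .bwd 8228, .fwd 6690],
   .loop none [.edge 5, .bwd 8229, .bwd 6661],
   .loop none [.edge 3, .bwd 8233, .bwd 6859],
   .loop none [.edge 3, .bwd 8235, .fwd 6710],
   .loop none [.edge 7, .bwd 8235, .fwd 6882],
   .loop none [.edge 5, .bwd 8237, .bwd 6935],
   .loop none [.edge 3, .bwd 8239, .fwd 6769],
   .loop none [.edge 3, .bwd 8241, .bwd 6762],
   .loop none [.edge 5, .bwd 8242, .bwd 6764],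
   .loop none [.edge 3, .bwd 8245, .bwd 6955],
   .loop none [.edge 3, .bwd 8247, .fwd 6840],
   .loop none [.edge 3, .bwd 8249, .fwd 6797],
   .loop none [.edge 3, .bwd 8251, .fwd 6846],
   .loop none [.edge 2, .bwd 8253, .fwd 7027],
   .loop none [.edge 1, .bwd 8254, .bwd 7051],
   .loop none [.edge 2, .bwd 8256, .bwd 7057],
   .loop none [.edge 5, .bwd 8256, .bwd 6712],
   .loop none [.edge 2, .bwd 8258, .bwd 6938],
   .loop none [.edge 2, .bwd 8259, .fwd 7028],
   .loop none [.edge 5, .bwd 8259, .bwd 6810],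
   .loop none [.edge 2, .bwd 8262, .bwd 7048],
   .loop none [.edge 2, .bwd 8263, .fwd 6936],
   .loop none [.edge 5, .bwd 8263, .bwd 6761],
   .loop none [.edge 2, .bwd 8265, .fwd 6964],
   .loop none [.edge 2, .bwd 8266, .bwd 7038],
   .loop none [.edge 2, .bwd 8267, .bwd 6966],
   .loop none [.edge 2, .bwd 8268, .fwd 7042],
   .loop none [.edge 1, .bwd 8269, .fwd 6989],
   .loop none [.edge 2, .bwd 8270, .fwd 7052],
   .loop none [.edge 1, .bwd 8271, .fwd 7063],
   .loop none [.edge 4, .bwd 8271, .bwd 7080],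
   .loop none [.edge 1, .bwd 8273, .fwd 7045],
   .loop none [.edge 1, .bwd 8274, .bwd 7065],
   .loop none [.edge 4, .bwd 8274, .bwd 7086],
   .loop none [.edge 1, .bwd 8276, .bwd 7047],
   .loop none [.edge 1, .bwd 8277, .bwd 7061],
   .loop none [.edge 4, .bwd 8277, .bwd 7102],
   .loop none [.edge 1, .bwd 8279, .bwd 6981],
   .loop none [.edge 1, .bwd 8280, .bwd 7037],
   .loop none [.edge 1, .bwd 8281, .fwd 7059],
   .loop none [.edge 1, .bwd 8282, .fwd 7035],
   .loop none [.edge 2, .bwd 8283, .fwd 6990],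
   .loop none [.edge 1, .bwd 8284, .fwd 6979],
   .loop none [.edge 4, .bwd 8285, .bwd 7236],
   .loop none [.edge 3, .bwd 8286, .fwd 7089],
   .loop none [.edge 4, .bwd 8291, .bwd 7117],
   .loop none [.edge 3, .bwd 8292, .bwd 7091],
   .loop none [.edge 3, .bwd 8299, .fwd 7235],
   .loop none [.edge 3, .bwd 8301, .fwd 7230],
   .loop none [.edge 2, .bwd 8303, .fwd 7246],
   .loop none [.edge 2, .bwd 8304, .fwd 7268],
   .loop none [.edge 1, .bwd 8305, .fwd 7253],
   .loop none [.edge 1, .bwd 8306, .fwd 7261],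
   .loop none [.bwd 7286, .fwd 18, .fwd 7286],
   .loop none [.bwd 7286, .fwd 12, .fwd 7286],
   .loop none [.bwd 7286, .bwd 14, .fwd 7286],
   .loop none [.bwd 7286, .bwd 13, .fwd 7286],
   .loop none [.bwd 7288, .fwd 24, .fwd 7287],
   .loop none [.bwd 7287, .fwd 11, .fwd 7287],
   .loop none [.bwd 7287, .bwd 9, .fwd 7287],
   .loop none [.bwd 7287, .bwd 10, .fwd 7287],
   .loop none [.bwd 7288, .fwd 21, .fwd 7288],
   .loop none [.bwd 7288, .bwd 19, .fwd 7288],
   .loop none [.bwd 7288, .bwd 20, .fwd 7288],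
   .loop none [.bwd 7290, .fwd 27, .fwd 7289],
   .loop none [.bwd 7289, .bwd 36, .fwd 7289],
   .loop none [.bwd 7289, .bwd 35, .fwd 7289],
   .loop none [.bwd 7290, .bwd 25, .fwd 7290],
   .loop none [.bwd 7290, .bwd 26, .fwd 7290],
   .loop none [.bwd 7293, .fwd 45, .fwd 7291],
   .loop none [.bwd 7293, .fwd 5, .fwd 7291],
   .loop none [.bwd 7291, .bwd 47, .fwd 7291],
   .loop none [.bwd 7291, .bwd 48, .fwd 7291],
   .loop none [.bwd 7294, .bwd 34, .fwd 7292],
   .loop none [.bwd 7295, .bwd 55, .fwd 7292],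
   .loop none [.bwd 7292, .fwd 60, .fwd 7292],
   .loop none [.bwd 7292, .bwd 61, .fwd 7292],
   .loop none [.bwd 7293, .bwd 28, .fwd 7293],
   .loop none [.bwd 7293, .bwd 29, .fwd 7293],
   .loop none [.bwd 7298, .fwd 32, .fwd 7294],
   .loop none [.bwd 7294, .fwd 23, .fwd 7294],
   .loop none [.bwd 7294, .bwd 30, .fwd 7294],
   .loop none [.bwd 7298, .bwd 49, .fwd 7295],
   .loop none [.bwd 7295, .bwd 54, .fwd 7295],
   .loop none [.bwd 7299, .fwd 165, .fwd 7296],
   .loop none [.bwd 7302, .fwd 273, .fwd 7296],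
   .loop none [.bwd 7297, .bwd 89, .fwd 7296],
   .loop none [.bwd 7305, .bwd 90, .fwd 7296],
   .loop none [.bwd 7300, .fwd 72, .fwd 7297],
   .loop none [.bwd 7303, .bwd 88, .fwd 7297],
   .loop none [.bwd 7305, .bwd 63, .fwd 7297],
   .loop none [.bwd 7307, .fwd 399, .fwd 7297],
   .loop none [.bwd 7304, .fwd 384, .fwd 7297],
   .loop none [.bwd 7298, .bwd 46, .fwd 7298],
   .loop none [.bwd 7309, .bwd 133, .fwd 7299],
   .loop none [.bwd 7300, .bwd 70, .fwd 7299],
   .loop none [.bwd 7312, .bwd 71, .fwd 7299],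
   .loop none [.bwd 7310, .bwd 69, .fwd 7300],
   .loop none [.bwd 7312, .bwd 38, .fwd 7300],
   .loop none [.bwd 7314, .fwd 164, .fwd 7300],
   .loop none [.bwd 7311, .fwd 153, .fwd 7300],
   .loop none [.bwd 7308, .bwd 185, .fwd 7301],
   .loop none [.bwd 7308, .bwd 43, .fwd 7301],
   .loop none [.bwd 7301, .bwd 178, .fwd 7301],
   .loop none [.bwd 7309, .fwd 259, .fwd 7302],
   .loop none [.bwd 7317, .bwd 274, .fwd 7302],
   .loop none [.bwd 7319, .bwd 179, .fwd 7302],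
   .loop none [.bwd 7310, .fwd 82, .fwd 7303],
   .loop none [.bwd 7316, .bwd 166, .fwd 7303],
   .loop none [.bwd 7319, .bwd 57, .fwd 7303],
   .loop none [.bwd 7321, .fwd 406, .fwd 7303],
   .loop none [.bwd 7318, .fwd 325, .fwd 7303],
   .loop none [.bwd 7311, .bwd 378, .fwd 7304],
   .loop none [.bwd 7318, .bwd 379, .fwd 7304],
   .loop none [.bwd 7306, .fwd 388, .fwd 7304],
   .loop none [.bwd 7306, .bwd 95, .fwd 7304],
   .loop none [.bwd 7305, .fwd 94, .fwd 7304],
   .loop none [.bwd 7307, .fwd 398, .fwd 7304],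
   .loop none [.bwd 7312, .bwd 118, .fwd 7305],
   .loop none [.bwd 7319, .bwd 302, .fwd 7305],
   .loop none [.bwd 7307, .fwd 397, .fwd 7305],
   .loop none [.bwd 7306, .fwd 394, .fwd 7305],
   .loop none [.bwd 7313, .bwd 391, .fwd 7306],
   .loop none [.bwd 7320, .bwd 392, .fwd 7306],
   .loop none [.bwd 7307, .fwd 92, .fwd 7306],
   .loop none [.bwd 7307, .bwd 93, .fwd 7306],
   .loop none [.bwd 7314, .fwd 122, .fwd 7307],
   .loop none [.bwd 7321, .fwd 401, .fwd 7307],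
   .loop none [.bwd 7308, .bwd 80, .fwd 7308],
   .loop none [.bwd 7324, .bwd 78, .fwd 7309],
   .loop none [.bwd 7326, .bwd 81, .fwd 7309],
   .loop none [.bwd 7323, .fwd 105, .fwd 7310],
   .loop none [.bwd 7326, .bwd 51, .fwd 7310],
   .loop none [.bwd 7328, .fwd 278, .fwd 7310],
   .loop none [.bwd 7325, .fwd 251, .fwd 7310],
   .loop none [.bwd 7325, .fwd 246, .fwd 7311],
   .loop none [.bwd 7313, .fwd 157, .fwd 7311],
   .loop none [.bwd 7313, .bwd 77, .fwd 7311],
   .loop none [.bwd 7312, .fwd 76, .fwd 7311],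
   .loop none [.bwd 7314, .fwd 163, .fwd 7311],
   .loop none [.bwd 7326, .fwd 116, .fwd 7312],
   .loop none [.bwd 7314, .fwd 162, .fwd 7312],
   .loop none [.bwd 7313, .fwd 161, .fwd 7312],
   .loop none [.bwd 7327, .fwd 256, .fwd 7313],
   .loop none [.bwd 7314, .fwd 74, .fwd 7313],
   .loop none [.bwd 7314, .bwd 75, .fwd 7313],
   .loop none [.bwd 7328, .bwd 106, .fwd 7314],
   .loop none [.bwd 7322, .bwd 407, .fwd 7315],
   .loop none [.bwd 7322, .bwd 67, .fwd 7315],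
   .loop none [.bwd 7322, .bwd 189, .fwd 7315],
   .loop none [.bwd 7315, .bwd 188, .fwd 7315],
   .loop none [.bwd 7323, .fwd 526, .fwd 7316],
   .loop none [.bwd 7329, .bwd 167, .fwd 7316],
   .loop none [.bwd 7332, .fwd 540, .fwd 7316],
   .loop none [.bwd 7324, .bwd 267, .fwd 7317],
   .loop none [.bwd 7330, .bwd 102, .fwd 7317],
   .loop none [.bwd 7335, .fwd 347, .fwd 7317],
   .loop none [.bwd 7325, .bwd 319, .fwd 7318],
   .loop none [.bwd 7333, .fwd 348, .fwd 7318],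
   .loop none [.bwd 7320, .bwd 184, .fwd 7318],
   .loop none [.bwd 7319, .fwd 183, .fwd 7318],
   .loop none [.bwd 7321, .fwd 405, .fwd 7318],
   .loop none [.bwd 7326, .bwd 222, .fwd 7319],
   .loop none [.bwd 7335, .fwd 343, .fwd 7319],
   .loop none [.bwd 7320, .fwd 332, .fwd 7319],
   .loop none [.bwd 7327, .bwd 330, .fwd 7320],
   .loop none [.bwd 7336, .fwd 480, .fwd 7320],
   .loop none [.bwd 7321, .fwd 402, .fwd 7320],
   .loop none [.bwd 7321, .fwd 404, .fwd 7320],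
   .loop none [.bwd 7328, .bwd 400, .fwd 7321],
   .loop none [.bwd 7332, .bwd 128, .fwd 7321],
   .loop none [.bwd 7322, .bwd 203, .fwd 7322],
   .loop none [.bwd 7337, .fwd 104, .fwd 7323],
   .loop none [.bwd 7340, .bwd 205, .fwd 7323],
   .loop none [.bwd 7338, .fwd 169, .fwd 7324],
   .loop none [.bwd 7343, .bwd 238, .fwd 7324],
   .loop none [.bwd 7341, .fwd 284, .fwd 7325],
   .loop none [.bwd 7327, .bwd 87, .fwd 7325],
   .loop none [.bwd 7326, .fwd 86, .fwd 7325],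
   .loop none [.bwd 7328, .fwd 277, .fwd 7325],
   .loop none [.bwd 7343, .fwd 132, .fwd 7326],
   .loop none [.bwd 7327, .fwd 258, .fwd 7326],
   .loop none [.bwd 7344, .fwd 450, .fwd 7327],
   .loop none [.bwd 7328, .fwd 84, .fwd 7327],
   .loop none [.bwd 7328, .bwd 85, .fwd 7327],
   .loop none [.bwd 7340, .fwd 464, .fwd 7328],
   .loop none [.bwd 7337, .fwd 505, .fwd 7329],
   .loop none [.bwd 7338, .bwd 168, .fwd 7329],
   .loop none [.bwd 7346, .fwd 546, .fwd 7329],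
   .loop none [.bwd 7338, .bwd 411, .fwd 7330],
   .loop none [.bwd 7337, .bwd 103, .fwd 7330],
   .loop none [.bwd 7349, .fwd 609, .fwd 7330],
   .loop none [.bwd 7339, .bwd 528, .fwd 7331],
   .loop none [.bwd 7345, .fwd 625, .fwd 7331],
   .loop none [.bwd 7340, .bwd 541, .fwd 7332],
   .loop none [.bwd 7346, .bwd 129, .fwd 7332],
   .loop none [.bwd 7354, .bwd 534, .fwd 7332],
   .loop none [.bwd 7336, .bwd 538, .fwd 7332],
   .loop none [.bwd 7333, .bwd 548, .fwd 7332],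
   .loop none [.bwd 7341, .fwd 529, .fwd 7333],
   .loop none [.bwd 7347, .fwd 622, .fwd 7333],
   .loop none [.bwd 7355, .fwd 197, .fwd 7333],
   .loop none [.bwd 7335, .bwd 198, .fwd 7333],
   .loop none [.bwd 7336, .fwd 201, .fwd 7333],
   .loop none [.bwd 7342, .bwd 446, .fwd 7334],
   .loop none [.bwd 7348, .fwd 475, .fwd 7334],
   .loop none [.bwd 7355, .fwd 352, .fwd 7334],
   .loop none [.bwd 7351, .bwd 733, .fwd 7334],
   .loop none [.bwd 7343, .fwd 455, .fwd 7335],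
   .loop none [.bwd 7349, .bwd 342, .fwd 7335],
   .loop none [.bwd 7351, .bwd 344, .fwd 7335],
   .loop none [.bwd 7336, .fwd 483, .fwd 7335],
   .loop none [.bwd 7344, .bwd 478, .fwd 7336],
   .loop none [.bwd 7350, .fwd 569, .fwd 7336],
   .loop none [.bwd 7358, .bwd 481, .fwd 7336],
   .loop none [.bwd 7360, .fwd 515, .fwd 7337],
   .loop none [.bwd 7363, .bwd 563, .fwd 7338],
   .loop none [.bwd 7359, .bwd 509, .fwd 7339],
   .loop none [.bwd 7360, .bwd 463, .fwd 7340],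
   .loop none [.bwd 7368, .bwd 465, .fwd 7340],
   .loop none [.bwd 7344, .bwd 213, .fwd 7340],
   .loop none [.bwd 7341, .bwd 466, .fwd 7340],
   .loop none [.bwd 7361, .fwd 579, .fwd 7341],
   .loop none [.bwd 7369, .fwd 210, .fwd 7341],
   .loop none [.bwd 7343, .bwd 287, .fwd 7341],
   .loop none [.bwd 7344, .fwd 214, .fwd 7341],
   .loop none [.bwd 7362, .fwd 445, .fwd 7342],
   .loop none [.bwd 7369, .fwd 289, .fwd 7342],
   .loop none [.bwd 7365, .bwd 614, .fwd 7342],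
   .loop none [.bwd 7363, .fwd 131, .fwd 7343],
   .loop none [.bwd 7365, .fwd 217, .fwd 7343],
   .loop none [.bwd 7344, .fwd 453, .fwd 7343],
   .loop none [.bwd 7364, .fwd 600, .fwd 7344],
   .loop none [.bwd 7372, .bwd 451, .fwd 7344],
   .loop none [.bwd 7359, .bwd 517, .fwd 7345],
   .loop none [.bwd 7360, .bwd 559, .fwd 7346],
   .loop none [.bwd 7363, .bwd 130, .fwd 7346],
   .loop none [.bwd 7376, .bwd 549, .fwd 7346],
   .loop none [.bwd 7350, .bwd 544, .fwd 7346],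
   .loop none [.bwd 7347, .fwd 589, .fwd 7346],
   .loop none [.bwd 7361, .fwd 578, .fwd 7347],
   .loop none [.bwd 7364, .bwd 623, .fwd 7347],
   .loop none [.bwd 7377, .fwd 415, .fwd 7347],
   .loop none [.bwd 7349, .fwd 470, .fwd 7347]]

theorem just33_len : just33.length = 250 := by decide +kernel

theorem just33_ok : cert.okFacts 8250 just33 = true := by decide +kernel

/-- justifications -/
noncomputable def just34 : List Cert.Just :=
  [.loop none [.bwd 7350, .fwd 419, .fwd 7347],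
   .loop none [.bwd 7362, .fwd 496, .fwd 7348],
   .loop none [.bwd 7363, .bwd 500, .fwd 7349],
   .loop none [.bwd 7360, .bwd 232, .fwd 7349],
   .loop none [.bwd 7381, .bwd 604, .fwd 7349],
   .loop none [.bwd 7350, .bwd 608, .fwd 7349],
   .loop none [.bwd 7364, .fwd 599, .fwd 7350],
   .loop none [.bwd 7361, .bwd 562, .fwd 7350],
   .loop none [.bwd 7382, .fwd 586, .fwd 7350],
   .loop none [.bwd 7365, .bwd 615, .fwd 7351],
   .loop none [.bwd 7381, .fwd 734, .fwd 7351],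
   .loop none [.bwd 7358, .bwd 736, .fwd 7351],
   .loop none [.bwd 7366, .bwd 1001, .fwd 7352],
   .loop none [.bwd 7374, .fwd 1257, .fwd 7352],
   .loop none [.bwd 7384, .bwd 819, .fwd 7352],
   .loop none [.bwd 7367, .bwd 797, .fwd 7353],
   .loop none [.bwd 7375, .fwd 1045, .fwd 7353],
   .loop none [.bwd 7383, .fwd 825, .fwd 7353],
   .loop none [.bwd 7367, .fwd 531, .fwd 7353],
   .loop none [.bwd 7370, .fwd 804, .fwd 7353],
   .loop none [.bwd 7368, .fwd 551, .fwd 7354],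
   .loop none [.bwd 7376, .fwd 550, .fwd 7354],
   .loop none [.bwd 7358, .bwd 535, .fwd 7354],
   .loop none [.bwd 7372, .bwd 726, .fwd 7354],
   .loop none [.bwd 7355, .bwd 724, .fwd 7354],
   .loop none [.bwd 7369, .bwd 710, .fwd 7355],
   .loop none [.bwd 7377, .fwd 678, .fwd 7355],
   .loop none [.bwd 7371, .fwd 196, .fwd 7355],
   .loop none [.bwd 7370, .bwd 1243, .fwd 7356],
   .loop none [.bwd 7379, .fwd 1187, .fwd 7356],
   .loop none [.bwd 7392, .bwd 755, .fwd 7356],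
   .loop none [.bwd 7370, .bwd 1242, .fwd 7356],
   .loop none [.bwd 7367, .bwd 826, .fwd 7356],
   .loop none [.bwd 7371, .fwd 658, .fwd 7357],
   .loop none [.bwd 7380, .bwd 754, .fwd 7357],
   .loop none [.bwd 7371, .bwd 696, .fwd 7357],
   .loop none [.bwd 7369, .bwd 209, .fwd 7357],
   .loop none [.bwd 7372, .fwd 657, .fwd 7358],
   .loop none [.bwd 7382, .fwd 737, .fwd 7358],
   .loop none [.bwd 7368, .bwd 745, .fwd 7358],
   .loop none [.bwd 7402, .bwd 564, .fwd 7360],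
   .loop none [.bwd 7364, .bwd 512, .fwd 7360],
   .loop none [.bwd 7361, .fwd 585, .fwd 7360],
   .loop none [.bwd 7403, .fwd 426, .fwd 7361],
   .loop none [.bwd 7363, .fwd 440, .fwd 7361],
   .loop none [.bwd 7364, .fwd 430, .fwd 7361],
   .loop none [.bwd 7407, .fwd 525, .fwd 7363],
   .loop none [.bwd 7364, .bwd 591, .fwd 7363],
   .loop none [.bwd 7408, .bwd 638, .fwd 7364],
   .loop none [.bwd 7407, .bwd 603, .fwd 7365],
   .loop none [.bwd 7389, .fwd 533, .fwd 7365],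
   .loop none [.bwd 7372, .bwd 650, .fwd 7365],
   .loop none [.bwd 7400, .fwd 1195, .fwd 7366],
   .loop none [.bwd 7409, .bwd 786, .fwd 7366],
   .loop none [.bwd 7396, .fwd 713, .fwd 7366],
   .loop none [.bwd 7398, .bwd 970, .fwd 7366],
   .loop none [.bwd 7393, .fwd 1029, .fwd 7366],
   .loop none [.bwd 7401, .bwd 785, .fwd 7367],
   .loop none [.bwd 7389, .fwd 803, .fwd 7367],
   .loop none [.bwd 7383, .bwd 796, .fwd 7367],
   .loop none [.bwd 7394, .bwd 931, .fwd 7367],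
   .loop none [.bwd 7402, .fwd 748, .fwd 7368],
   .loop none [.bwd 7372, .bwd 460, .fwd 7368],
   .loop none [.bwd 7369, .bwd 654, .fwd 7368],
   .loop none [.bwd 7403, .fwd 765, .fwd 7369],
   .loop none [.bwd 7405, .fwd 1230, .fwd 7370],
   .loop none [.bwd 7412, .bwd 652, .fwd 7370],
   .loop none [.bwd 7388, .fwd 656, .fwd 7370],
   .loop none [.bwd 7390, .fwd 998, .fwd 7370],
   .loop none [.bwd 7406, .bwd 648, .fwd 7371],
   .loop none [.bwd 7386, .fwd 823, .fwd 7371],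
   .loop none [.bwd 7408, .bwd 649, .fwd 7372],
   .loop none [.bwd 7387, .fwd 458, .fwd 7372],
   .loop none [.bwd 7399, .fwd 1047, .fwd 7373],
   .loop none [.bwd 7404, .fwd 631, .fwd 7373],
   .loop none [.bwd 7400, .bwd 1256, .fwd 7374],
   .loop none [.bwd 7417, .bwd 1123, .fwd 7374],
   .loop none [.bwd 7401, .bwd 1044, .fwd 7375],
   .loop none [.bwd 7416, .fwd 1135, .fwd 7375],
   .loop none [.bwd 7401, .fwd 522, .fwd 7375],
   .loop none [.bwd 7405, .fwd 1236, .fwd 7375],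
   .loop none [.bwd 7402, .fwd 565, .fwd 7376],
   .loop none [.bwd 7418, .fwd 558, .fwd 7376],
   .loop none [.bwd 7408, .fwd 866, .fwd 7376],
   .loop none [.bwd 7377, .bwd 725, .fwd 7376],
   .loop none [.bwd 7403, .bwd 854, .fwd 7377],
   .loop none [.bwd 7419, .bwd 679, .fwd 7377],
   .loop none [.bwd 7406, .fwd 414, .fwd 7377],
   .loop none [.bwd 7404, .fwd 1055, .fwd 7378],
   .loop none [.bwd 7399, .fwd 489, .fwd 7378],
   .loop none [.bwd 7405, .fwd 1229, .fwd 7379],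
   .loop none [.bwd 7430, .bwd 883, .fwd 7379],
   .loop none [.bwd 7405, .fwd 1233, .fwd 7379],
   .loop none [.bwd 7401, .bwd 1193, .fwd 7379],
   .loop none [.bwd 7406, .fwd 834, .fwd 7380],
   .loop none [.bwd 7429, .bwd 760, .fwd 7380],
   .loop none [.bwd 7403, .bwd 425, .fwd 7380],
   .loop none [.bwd 7407, .bwd 605, .fwd 7381],
   .loop none [.bwd 7431, .bwd 781, .fwd 7381],
   .loop none [.bwd 7382, .bwd 882, .fwd 7381],
   .loop none [.bwd 7408, .fwd 833, .fwd 7382],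
   .loop none [.bwd 7432, .fwd 881, .fwd 7382],
   .loop none [.bwd 7402, .bwd 876, .fwd 7382],
   .loop none [.bwd 7389, .bwd 980, .fwd 7383],
   .loop none [.bwd 7438, .fwd 1093, .fwd 7383],
   .loop none [.bwd 7397, .fwd 986, .fwd 7383],
   .loop none [.bwd 7395, .bwd 983, .fwd 7383],
   .loop none [.bwd 7412, .fwd 1246, .fwd 7383],
   .loop none [.bwd 7409, .fwd 805, .fwd 7384],
   .loop none [.bwd 7439, .bwd 824, .fwd 7384],
   .loop none [.bwd 7387, .fwd 711, .fwd 7384],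
   .loop none [.bwd 7396, .bwd 712, .fwd 7384],
   .loop none [.bwd 7411, .bwd 1009, .fwd 7384],
   .loop none [.bwd 7385, .fwd 1010, .fwd 7384],
   .loop none [.bwd 7410, .fwd 1364, .fwd 7385],
   .loop none [.bwd 7420, .fwd 1474, .fwd 7385],
   .loop none [.bwd 7388, .fwd 935, .fwd 7385],
   .loop none [.bwd 7412, .bwd 759, .fwd 7385],
   .loop none [.bwd 7393, .fwd 758, .fwd 7385],
   .loop none [.bwd 7411, .fwd 1287, .fwd 7385],
   .loop none [.bwd 7396, .bwd 1365, .fwd 7386],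
   .loop none [.bwd 7421, .fwd 1352, .fwd 7386],
   .loop none [.bwd 7396, .bwd 1279, .fwd 7386],
   .loop none [.bwd 7392, .bwd 660, .fwd 7386],
   .loop none [.bwd 7409, .fwd 659, .fwd 7386],
   .loop none [.bwd 7414, .bwd 822, .fwd 7386],
   .loop none [.bwd 7398, .bwd 934, .fwd 7387],
   .loop none [.bwd 7422, .bwd 925, .fwd 7387],
   .loop none [.bwd 7411, .bwd 910, .fwd 7387],
   .loop none [.bwd 7413, .fwd 457, .fwd 7387],
   .loop none [.bwd 7388, .bwd 655, .fwd 7387],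
   .loop none [.bwd 7393, .bwd 1271, .fwd 7388],
   .loop none [.bwd 7423, .fwd 1479, .fwd 7388],
   .loop none [.bwd 7411, .fwd 730, .fwd 7388],
   .loop none [.bwd 7410, .bwd 662, .fwd 7388],
   .loop none [.bwd 7424, .fwd 1153, .fwd 7389],
   .loop none [.bwd 7414, .bwd 913, .fwd 7389],
   .loop none [.bwd 7413, .bwd 914, .fwd 7389],
   .loop none [.bwd 7392, .fwd 1215, .fwd 7389],
   .loop none [.bwd 7394, .bwd 1272, .fwd 7390],
   .loop none [.bwd 7425, .fwd 1266, .fwd 7390],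
   .loop none [.bwd 7395, .fwd 702, .fwd 7390],
   .loop none [.bwd 7394, .bwd 667, .fwd 7390],
   .loop none [.bwd 7391, .bwd 954, .fwd 7390],
   .loop none [.bwd 7414, .bwd 997, .fwd 7390],
   .loop none [.bwd 7411, .fwd 971, .fwd 7391],
   .loop none [.bwd 7426, .fwd 1250, .fwd 7391],
   .loop none [.bwd 7398, .bwd 977, .fwd 7391],
   .loop none [.bwd 7393, .bwd 553, .fwd 7391],
   .loop none [.bwd 7410, .bwd 1269, .fwd 7391],
   .loop none [.bwd 7409, .fwd 1030, .fwd 7391],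
   .loop none [.bwd 7412, .bwd 727, .fwd 7392],
   .loop none [.bwd 7427, .bwd 715, .fwd 7392],
   .loop none [.bwd 7410, .fwd 663, .fwd 7392],
   .loop none [.bwd 7413, .bwd 1216, .fwd 7392],
   .loop none [.bwd 7433, .fwd 1270, .fwd 7393],
   .loop none [.bwd 7410, .bwd 1020, .fwd 7393],
   .loop none [.bwd 7398, .fwd 756, .fwd 7393],
   .loop none [.bwd 7434, .fwd 1285, .fwd 7394],
   .loop none [.bwd 7413, .bwd 668, .fwd 7394],
   .loop none [.bwd 7411, .bwd 953, .fwd 7394],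
   .loop none [.bwd 7397, .bwd 995, .fwd 7394],
   .loop none [.bwd 7413, .bwd 706, .fwd 7395],
   .loop none [.bwd 7435, .fwd 773, .fwd 7395],
   .loop none [.bwd 7397, .fwd 989, .fwd 7395],
   .loop none [.bwd 7398, .bwd 485, .fwd 7395],
   .loop none [.bwd 7412, .fwd 1247, .fwd 7395],
   .loop none [.bwd 7436, .fwd 1478, .fwd 7396],
   .loop none [.bwd 7412, .bwd 757, .fwd 7396],
   .loop none [.bwd 7397, .bwd 789, .fwd 7396],
   .loop none [.bwd 7414, .fwd 709, .fwd 7397],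
   .loop none [.bwd 7437, .bwd 767, .fwd 7397],
   .loop none [.bwd 7414, .fwd 704, .fwd 7397],
   .loop none [.bwd 7440, .bwd 1016, .fwd 7398],
   .loop none [.bwd 7409, .bwd 746, .fwd 7398],
   .loop none [.bwd 7443, .bwd 1031, .fwd 7400],
   .loop none [.bwd 7436, .fwd 857, .fwd 7400],
   .loop none [.bwd 7440, .bwd 1200, .fwd 7400],
   .loop none [.bwd 7433, .fwd 1202, .fwd 7400],
   .loop none [.bwd 7442, .fwd 1054, .fwd 7401],
   .loop none [.bwd 7438, .bwd 1043, .fwd 7401],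
   .loop none [.bwd 7434, .fwd 1183, .fwd 7401],
   .loop none [.bwd 7444, .bwd 806, .fwd 7402],
   .loop none [.bwd 7403, .bwd 779, .fwd 7402],
   .loop none [.bwd 7445, .bwd 766, .fwd 7403],
   .loop none [.bwd 7451, .bwd 828, .fwd 7405],
   .loop none [.bwd 7423, .fwd 816, .fwd 7405],
   .loop none [.bwd 7425, .fwd 852, .fwd 7405],
   .loop none [.bwd 7450, .fwd 701, .fwd 7406],
   .loop none [.bwd 7421, .fwd 1131, .fwd 7406],
   .loop none [.bwd 7452, .bwd 556, .fwd 7407],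
   .loop none [.bwd 7424, .fwd 524, .fwd 7407],
   .loop none [.bwd 7408, .bwd 827, .fwd 7407],
   .loop none [.bwd 7453, .bwd 830, .fwd 7408],
   .loop none [.bwd 7422, .fwd 642, .fwd 7408],
   .loop none [.bwd 7456, .bwd 802, .fwd 7409],
   .loop none [.bwd 7410, .fwd 1028, .fwd 7409],
   .loop none [.bwd 7446, .fwd 1355, .fwd 7410],
   .loop none [.bwd 7447, .bwd 966, .fwd 7411],
   .loop none [.bwd 7448, .bwd 777, .fwd 7412],
   .loop none [.bwd 7454, .fwd 687, .fwd 7413],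
   .loop none [.bwd 7414, .fwd 992, .fwd 7413],
   .loop none [.bwd 7455, .bwd 681, .fwd 7414],
   .loop none [.bwd 7441, .fwd 1462, .fwd 7415],
   .loop none [.bwd 7449, .fwd 1368, .fwd 7415],
   .loop none [.bwd 7442, .bwd 1895, .fwd 7416],
   .loop none [.bwd 7458, .bwd 1136, .fwd 7416],
   .loop none [.bwd 7451, .fwd 1239, .fwd 7416],
   .loop none [.bwd 7443, .fwd 1061, .fwd 7417],
   .loop none [.bwd 7459, .bwd 1361, .fwd 7417],
   .loop none [.bwd 7444, .fwd 1294, .fwd 7418],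
   .loop none [.bwd 7460, .bwd 907, .fwd 7418],
   .loop none [.bwd 7452, .fwd 557, .fwd 7418],
   .loop none [.bwd 7453, .fwd 1252, .fwd 7418],
   .loop none [.bwd 7419, .bwd 861, .fwd 7418],
   .loop none [.bwd 7445, .bwd 1126, .fwd 7419],
   .loop none [.bwd 7461, .bwd 645, .fwd 7419],
   .loop none [.bwd 7453, .bwd 859, .fwd 7419],
   .loop none [.bwd 7450, .fwd 860, .fwd 7419],
   .loop none [.bwd 7446, .bwd 1414, .fwd 7420],
   .loop none [.bwd 7448, .bwd 889, .fwd 7420],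
   .loop none [.bwd 7433, .fwd 888, .fwd 7420],
   .loop none [.bwd 7439, .bwd 1415, .fwd 7420],
   .loop none [.bwd 7447, .fwd 1344, .fwd 7420],
   .loop none [.bwd 7436, .bwd 1360, .fwd 7421],
   .loop none [.bwd 7466, .fwd 1530, .fwd 7421],
   .loop none [.bwd 7427, .bwd 836, .fwd 7421],
   .loop none [.bwd 7456, .fwd 835, .fwd 7421],
   .loop none [.bwd 7455, .bwd 1130, .fwd 7421],
   .loop none [.bwd 7440, .fwd 1109, .fwd 7422],
   .loop none [.bwd 7467, .fwd 942, .fwd 7422],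
   .loop none [.bwd 7439, .fwd 869, .fwd 7422],
   .loop none [.bwd 7454, .fwd 641, .fwd 7422],
   .loop none [.bwd 7423, .bwd 832, .fwd 7422],
   .loop none [.bwd 7433, .bwd 1317, .fwd 7423],
   .loop none [.bwd 7468, .bwd 1320, .fwd 7423],
   .loop none [.bwd 7447, .fwd 815, .fwd 7423],
   .loop none [.bwd 7446, .bwd 837, .fwd 7423],
   .loop none [.bwd 7438, .bwd 1152, .fwd 7424],
   .loop none [.bwd 7463, .bwd 1154, .fwd 7424],
   .loop none [.bwd 7455, .bwd 1155, .fwd 7424],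
   .loop none [.bwd 7454, .bwd 1156, .fwd 7424],
   .loop none [.bwd 7427, .fwd 1214, .fwd 7424],
   .loop none [.bwd 7434, .bwd 1319, .fwd 7425],
   .loop none [.bwd 7464, .bwd 1267, .fwd 7425],
   .loop none [.bwd 7434, .bwd 1262, .fwd 7425],
   .loop none [.bwd 7426, .bwd 1263, .fwd 7425],
   .loop none [.bwd 7455, .fwd 851, .fwd 7425],
   .loop none [.bwd 7447, .bwd 1259, .fwd 7426],
   .loop none [.bwd 7469, .bwd 1251, .fwd 7426]]

theorem just34_len : just34.length = 250 := by decide +kernel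

theorem just34_ok : cert.okFacts 8500 just34 = true := by decide +kernel

/-- justifications -/
noncomputable def just35 : List Cert.Just :=
  [.loop none [.bwd 7433, .bwd 593, .fwd 7426],
   .loop none [.bwd 7446, .bwd 1315, .fwd 7426],
   .loop none [.bwd 7456, .fwd 1268, .fwd 7426],
   .loop none [.bwd 7448, .bwd 871, .fwd 7427],
   .loop none [.bwd 7470, .bwd 1219, .fwd 7427],
   .loop none [.bwd 7446, .fwd 838, .fwd 7427],
   .loop none [.bwd 7454, .fwd 1217, .fwd 7427],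
   .loop none [.bwd 7449, .fwd 1454, .fwd 7428],
   .loop none [.bwd 7441, .fwd 1052, .fwd 7428],
   .loop none [.bwd 7450, .fwd 1430, .fwd 7429],
   .loop none [.bwd 7473, .bwd 761, .fwd 7429],
   .loop none [.bwd 7445, .bwd 904, .fwd 7429],
   .loop none [.bwd 7451, .bwd 1078, .fwd 7430],
   .loop none [.bwd 7474, .bwd 1071, .fwd 7430],
   .loop none [.bwd 7442, .bwd 1201, .fwd 7430],
   .loop none [.bwd 7452, .fwd 1288, .fwd 7431],
   .loop none [.bwd 7475, .bwd 782, .fwd 7431],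
   .loop none [.bwd 7444, .fwd 807, .fwd 7431],
   .loop none [.bwd 7432, .bwd 1089, .fwd 7431],
   .loop none [.bwd 7453, .bwd 1077, .fwd 7432],
   .loop none [.bwd 7476, .bwd 963, .fwd 7432],
   .loop none [.bwd 7445, .fwd 880, .fwd 7432],
   .loop none [.bwd 7444, .bwd 1076, .fwd 7432],
   .loop none [.bwd 7481, .fwd 1337, .fwd 7433],
   .loop none [.bwd 7440, .fwd 886, .fwd 7433],
   .loop none [.bwd 7482, .bwd 1286, .fwd 7434],
   .loop none [.bwd 7447, .bwd 1180, .fwd 7434],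
   .loop none [.bwd 7437, .fwd 901, .fwd 7434],
   .loop none [.bwd 7454, .bwd 850, .fwd 7435],
   .loop none [.bwd 7437, .fwd 1175, .fwd 7435],
   .loop none [.bwd 7440, .bwd 502, .fwd 7435],
   .loop none [.bwd 7448, .fwd 1224, .fwd 7435],
   .loop none [.bwd 7438, .fwd 1095, .fwd 7435],
   .loop none [.bwd 7478, .fwd 1610, .fwd 7436],
   .loop none [.bwd 7448, .bwd 887, .fwd 7436],
   .loop none [.bwd 7439, .fwd 870, .fwd 7436],
   .loop none [.bwd 7437, .bwd 1036, .fwd 7436],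
   .loop none [.bwd 7455, .fwd 853, .fwd 7437],
   .loop none [.bwd 7479, .bwd 899, .fwd 7437],
   .loop none [.bwd 7438, .fwd 1094, .fwd 7437],
   .loop none [.bwd 7484, .fwd 1392, .fwd 7438],
   .loop none [.bwd 7448, .fwd 1223, .fwd 7438],
   .loop none [.bwd 7456, .bwd 1119, .fwd 7439],
   .loop none [.bwd 7483, .fwd 1603, .fwd 7439],
   .loop none [.bwd 7447, .bwd 1318, .fwd 7439],
   .loop none [.bwd 7485, .fwd 1025, .fwd 7440],
   .loop none [.bwd 7456, .bwd 877, .fwd 7440],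
   .loop none [.bwd 7475, .fwd 783, .fwd 7441],
   .loop none [.bwd 7472, .fwd 1050, .fwd 7441],
   .loop none [.bwd 7487, .bwd 1158, .fwd 7442],
   .loop none [.bwd 7484, .fwd 1058, .fwd 7442],
   .loop none [.bwd 7482, .fwd 1665, .fwd 7442],
   .loop none [.bwd 7488, .bwd 1048, .fwd 7443],
   .loop none [.bwd 7478, .fwd 1068, .fwd 7443],
   .loop none [.bwd 7485, .bwd 1203, .fwd 7443],
   .loop none [.bwd 7481, .fwd 1793, .fwd 7443],
   .loop none [.bwd 7489, .fwd 965, .fwd 7444],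
   .loop none [.bwd 7445, .bwd 905, .fwd 7444],
   .loop none [.bwd 7472, .bwd 751, .fwd 7445],
   .loop none [.bwd 7456, .bwd 1204, .fwd 7446],
   .loop none [.bwd 7492, .bwd 1021, .fwd 7447],
   .loop none [.bwd 7493, .fwd 1402, .fwd 7448],
   .loop none [.bwd 7461, .fwd 646, .fwd 7449],
   .loop none [.bwd 7457, .bwd 1290, .fwd 7449],
   .loop none [.bwd 7495, .bwd 672, .fwd 7450],
   .loop none [.bwd 7466, .bwd 1295, .fwd 7450],
   .loop none [.bwd 7496, .bwd 1331, .fwd 7451],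
   .loop none [.bwd 7468, .fwd 1677, .fwd 7451],
   .loop none [.bwd 7464, .fwd 1685, .fwd 7451],
   .loop none [.bwd 7457, .fwd 801, .fwd 7452],
   .loop none [.bwd 7463, .fwd 1225, .fwd 7452],
   .loop none [.bwd 7453, .bwd 1291, .fwd 7452],
   .loop none [.bwd 7497, .fwd 909, .fwd 7453],
   .loop none [.bwd 7467, .fwd 1405, .fwd 7453],
   .loop none [.bwd 7455, .fwd 1157, .fwd 7454],
   .loop none [.bwd 7499, .bwd 848, .fwd 7455],
   .loop none [.bwd 7501, .fwd 1113, .fwd 7456],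
   .loop none [.bwd 7475, .fwd 1614, .fwd 7457],
   .loop none [.bwd 7460, .bwd 1292, .fwd 7457],
   .loop none [.bwd 7497, .bwd 1434, .fwd 7457],
   .loop none [.bwd 7487, .fwd 1984, .fwd 7458],
   .loop none [.bwd 7504, .bwd 1137, .fwd 7458],
   .loop none [.bwd 7504, .fwd 1651, .fwd 7458],
   .loop none [.bwd 7496, .fwd 1910, .fwd 7458],
   .loop none [.bwd 7488, .fwd 1626, .fwd 7459],
   .loop none [.bwd 7503, .bwd 1362, .fwd 7459],
   .loop none [.bwd 7489, .fwd 1539, .fwd 7460],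
   .loop none [.bwd 7497, .bwd 908, .fwd 7460],
   .loop none [.bwd 7497, .fwd 1300, .fwd 7460],
   .loop none [.bwd 7461, .bwd 1427, .fwd 7460],
   .loop none [.bwd 7472, .bwd 1433, .fwd 7461],
   .loop none [.bwd 7497, .bwd 1428, .fwd 7461],
   .loop none [.bwd 7495, .fwd 1426, .fwd 7461],
   .loop none [.bwd 7490, .bwd 2065, .fwd 7462],
   .loop none [.bwd 7505, .fwd 2268, .fwd 7462],
   .loop none [.bwd 7490, .fwd 1133, .fwd 7462],
   .loop none [.bwd 7500, .fwd 2256, .fwd 7462],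
   .loop none [.bwd 7484, .fwd 1390, .fwd 7463],
   .loop none [.bwd 7504, .fwd 1138, .fwd 7463],
   .loop none [.bwd 7502, .bwd 1408, .fwd 7463],
   .loop none [.bwd 7470, .fwd 1220, .fwd 7463],
   .loop none [.bwd 7482, .bwd 1696, .fwd 7464],
   .loop none [.bwd 7506, .bwd 922, .fwd 7464],
   .loop none [.bwd 7515, .fwd 1902, .fwd 7464],
   .loop none [.bwd 7499, .bwd 1524, .fwd 7464],
   .loop none [.bwd 7469, .bwd 1525, .fwd 7464],
   .loop none [.bwd 7491, .bwd 2048, .fwd 7465],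
   .loop none [.bwd 7507, .fwd 2090, .fwd 7465],
   .loop none [.bwd 7515, .bwd 1370, .fwd 7465],
   .loop none [.bwd 7478, .bwd 1790, .fwd 7466],
   .loop none [.bwd 7508, .bwd 1529, .fwd 7466],
   .loop none [.bwd 7501, .bwd 1296, .fwd 7466],
   .loop none [.bwd 7499, .bwd 1486, .fwd 7466],
   .loop none [.bwd 7485, .bwd 1705, .fwd 7467],
   .loop none [.bwd 7509, .fwd 941, .fwd 7467],
   .loop none [.bwd 7519, .bwd 1409, .fwd 7467],
   .loop none [.bwd 7502, .fwd 1420, .fwd 7467],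
   .loop none [.bwd 7468, .bwd 1672, .fwd 7467],
   .loop none [.bwd 7481, .bwd 1697, .fwd 7468],
   .loop none [.bwd 7510, .bwd 1321, .fwd 7468],
   .loop none [.bwd 7520, .fwd 1681, .fwd 7468],
   .loop none [.bwd 7494, .fwd 1671, .fwd 7468],
   .loop none [.bwd 7492, .bwd 1896, .fwd 7469],
   .loop none [.bwd 7511, .bwd 939, .fwd 7469],
   .loop none [.bwd 7494, .fwd 1684, .fwd 7469],
   .loop none [.bwd 7501, .fwd 1316, .fwd 7469],
   .loop none [.bwd 7493, .fwd 2067, .fwd 7470],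
   .loop none [.bwd 7512, .fwd 1333, .fwd 7470],
   .loop none [.bwd 7494, .fwd 1683, .fwd 7470],
   .loop none [.bwd 7502, .fwd 1490, .fwd 7470],
   .loop none [.bwd 7494, .bwd 2168, .fwd 7471],
   .loop none [.bwd 7517, .fwd 1082, .fwd 7471],
   .loop none [.bwd 7481, .bwd 1083, .fwd 7471],
   .loop none [.bwd 7493, .fwd 1085, .fwd 7471],
   .loop none [.bwd 7483, .bwd 1666, .fwd 7471],
   .loop none [.bwd 7492, .fwd 1657, .fwd 7471],
   .loop none [.bwd 7476, .fwd 1466, .fwd 7472],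
   .loop none [.bwd 7473, .fwd 1502, .fwd 7472],
   .loop none [.bwd 7489, .fwd 1540, .fwd 7472],
   .loop none [.bwd 7495, .bwd 1501, .fwd 7473],
   .loop none [.bwd 7473, .fwd 762, .fwd 7473],
   .loop none [.bwd 7496, .fwd 1467, .fwd 7474],
   .loop none [.bwd 7525, .fwd 1282, .fwd 7474],
   .loop none [.bwd 7487, .bwd 2003, .fwd 7474],
   .loop none [.bwd 7489, .bwd 1545, .fwd 7475],
   .loop none [.bwd 7476, .bwd 1546, .fwd 7475],
   .loop none [.bwd 7497, .bwd 1465, .fwd 7476],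
   .loop none [.bwd 7489, .bwd 964, .fwd 7476],
   .loop none [.bwd 7489, .bwd 1560, .fwd 7476],
   .loop none [.bwd 7498, .bwd 1489, .fwd 7477],
   .loop none [.bwd 7526, .fwd 1572, .fwd 7477],
   .loop none [.bwd 7527, .bwd 1609, .fwd 7478],
   .loop none [.bwd 7538, .bwd 1611, .fwd 7478],
   .loop none [.bwd 7483, .fwd 1067, .fwd 7478],
   .loop none [.bwd 7479, .bwd 1612, .fwd 7478],
   .loop none [.bwd 7499, .fwd 1491, .fwd 7479],
   .loop none [.bwd 7528, .fwd 1567, .fwd 7479],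
   .loop none [.bwd 7539, .fwd 1387, .fwd 7479],
   .loop none [.bwd 7486, .bwd 1178, .fwd 7479],
   .loop none [.bwd 7482, .fwd 1591, .fwd 7479],
   .loop none [.bwd 7500, .bwd 1695, .fwd 7480],
   .loop none [.bwd 7529, .fwd 1808, .fwd 7480],
   .loop none [.bwd 7500, .bwd 1329, .fwd 7480],
   .loop none [.bwd 7490, .bwd 2063, .fwd 7480],
   .loop none [.bwd 7530, .bwd 1336, .fwd 7481],
   .loop none [.bwd 7485, .bwd 1341, .fwd 7481],
   .loop none [.bwd 7531, .bwd 1013, .fwd 7482],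
   .loop none [.bwd 7542, .fwd 1996, .fwd 7482],
   .loop none [.bwd 7492, .bwd 1664, .fwd 7482],
   .loop none [.bwd 7501, .fwd 1937, .fwd 7483],
   .loop none [.bwd 7532, .bwd 1602, .fwd 7483],
   .loop none [.bwd 7492, .bwd 1670, .fwd 7483],
   .loop none [.bwd 7533, .bwd 1391, .fwd 7484],
   .loop none [.bwd 7486, .bwd 1396, .fwd 7484],
   .loop none [.bwd 7493, .fwd 1057, .fwd 7484],
   .loop none [.bwd 7534, .fwd 1024, .fwd 7485],
   .loop none [.bwd 7486, .fwd 1116, .fwd 7485],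
   .loop none [.bwd 7502, .bwd 1758, .fwd 7486],
   .loop none [.bwd 7535, .fwd 892, .fwd 7486],
   .loop none [.bwd 7493, .bwd 1573, .fwd 7486],
   .loop none [.bwd 7533, .bwd 1159, .fwd 7487],
   .loop none [.bwd 7533, .bwd 1623, .fwd 7487],
   .loop none [.bwd 7531, .bwd 1985, .fwd 7487],
   .loop none [.bwd 7532, .fwd 1351, .fwd 7488],
   .loop none [.bwd 7527, .fwd 1851, .fwd 7488],
   .loop none [.bwd 7534, .bwd 1969, .fwd 7488],
   .loop none [.bwd 7530, .fwd 2044, .fwd 7488],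
   .loop none [.bwd 7548, .fwd 2064, .fwd 7490],
   .loop none [.bwd 7542, .fwd 1998, .fwd 7490],
   .loop none [.bwd 7549, .fwd 2047, .fwd 7491],
   .loop none [.bwd 7542, .bwd 1080, .fwd 7491],
   .loop none [.bwd 7546, .bwd 2039, .fwd 7491],
   .loop none [.bwd 7543, .fwd 2046, .fwd 7491],
   .loop none [.bwd 7550, .bwd 1022, .fwd 7492],
   .loop none [.bwd 7525, .bwd 1401, .fwd 7493],
   .loop none [.bwd 7553, .bwd 1682, .fwd 7494],
   .loop none [.bwd 7501, .bwd 1357, .fwd 7494],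
   .loop none [.bwd 7495, .fwd 703, .fwd 7495],
   .loop none [.bwd 7508, .fwd 1785, .fwd 7495],
   .loop none [.bwd 7512, .bwd 1332, .fwd 7496],
   .loop none [.bwd 7510, .fwd 1689, .fwd 7496],
   .loop none [.bwd 7506, .fwd 1691, .fwd 7496],
   .loop none [.bwd 7509, .fwd 1704, .fwd 7497],
   .loop none [.bwd 7558, .fwd 1488, .fwd 7498],
   .loop none [.bwd 7521, .fwd 1789, .fwd 7498],
   .loop none [.bwd 7559, .bwd 1483, .fwd 7499],
   .loop none [.bwd 7564, .fwd 1207, .fwd 7499],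
   .loop none [.bwd 7502, .bwd 1407, .fwd 7499],
   .loop none [.bwd 7560, .fwd 1694, .fwd 7500],
   .loop none [.bwd 7515, .fwd 1903, .fwd 7500],
   .loop none [.bwd 7503, .fwd 1363, .fwd 7501],
   .loop none [.bwd 7561, .fwd 841, .fwd 7502],
   .loop none [.bwd 7532, .fwd 1979, .fwd 7503],
   .loop none [.bwd 7508, .fwd 1783, .fwd 7503],
   .loop none [.bwd 7511, .bwd 1872, .fwd 7503],
   .loop none [.bwd 7557, .fwd 2244, .fwd 7503],
   .loop none [.bwd 7533, .fwd 1617, .fwd 7504],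
   .loop none [.bwd 7568, .bwd 1775, .fwd 7504],
   .loop none [.bwd 7512, .bwd 1652, .fwd 7504],
   .loop none [.bwd 7548, .fwd 2288, .fwd 7505],
   .loop none [.bwd 7560, .bwd 2271, .fwd 7505],
   .loop none [.bwd 7531, .bwd 1907, .fwd 7506],
   .loop none [.bwd 7568, .bwd 923, .fwd 7506],
   .loop none [.bwd 7574, .fwd 1922, .fwd 7506],
   .loop none [.bwd 7559, .bwd 1779, .fwd 7506],
   .loop none [.bwd 7511, .bwd 1880, .fwd 7506],
   .loop none [.bwd 7549, .bwd 2060, .fwd 7507],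
   .loop none [.bwd 7574, .bwd 1469, .fwd 7507],
   .loop none [.bwd 7527, .fwd 2062, .fwd 7508],
   .loop none [.bwd 7508, .fwd 1482, .fwd 7508],
   .loop none [.bwd 7559, .bwd 1784, .fwd 7508],
   .loop none [.bwd 7534, .bwd 1873, .fwd 7509],
   .loop none [.bwd 7511, .fwd 940, .fwd 7509],
   .loop none [.bwd 7577, .bwd 1703, .fwd 7509],
   .loop none [.bwd 7568, .fwd 1889, .fwd 7509],
   .loop none [.bwd 7510, .fwd 2088, .fwd 7509],
   .loop none [.bwd 7530, .bwd 2086, .fwd 7510],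
   .loop none [.bwd 7557, .bwd 1322, .fwd 7510],
   .loop none [.bwd 7578, .bwd 1688, .fwd 7510],
   .loop none [.bwd 7557, .fwd 2242, .fwd 7510],
   .loop none [.bwd 7550, .fwd 1947, .fwd 7511],
   .loop none [.bwd 7557, .fwd 2245, .fwd 7511],
   .loop none [.bwd 7525, .bwd 2296, .fwd 7512],
   .loop none [.bwd 7557, .fwd 2243, .fwd 7512],
   .loop none [.bwd 7568, .fwd 1774, .fwd 7512],
   .loop none [.bwd 7551, .bwd 3208, .fwd 7513],
   .loop none [.bwd 7572, .fwd 3203, .fwd 7513],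
   .loop none [.bwd 7552, .bwd 2272, .fwd 7513],
   .loop none [.bwd 7518, .bwd 2473, .fwd 7513],
   .loop none [.bwd 7552, .bwd 2276, .fwd 7514]]

theorem just35_len : just35.length = 250 := by decide +kernel

theorem just35_ok : cert.okFacts 8750 just35 = true := by decide +kernel


end CfsgLib.ThCent.KL
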