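import Cfsg.Agent.Lib.ThCent.KLData

/-!
Justifications of the side facts (generated data).
-/

namespace CfsgLib.ThCent.KL

open CfsgLib.PresCert

set_option maxRecDepth 100000

/-- justifications -/
noncomputable def just36 : List Cert.Just :=
  [.loop none [.bwd 7573, .fwd 2365, .fwd 7514],
   .loop none [.bwd 7551, .bwd 2278, .fwd 7514],
   .loop none [.bwd 7563, .fwd 1493, .fwd 7514],
   .loop none [.bwd 7542, .fwd 1993, .fwd 7515],
   .loop none [.bwd 7574, .fwd 1920, .fwd 7515],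
   .loop none [.bwd 7542, .fwd 1995, .fwd 7515],
   .loop none [.bwd 7553, .bwd 1371, .fwd 7515],
   .loop none [.bwd 7545, .fwd 1820, .fwd 7516],
   .loop none [.bwd 7570, .bwd 1739, .fwd 7516],
   .loop none [.bwd 7564, .bwd 1206, .fwd 7516],
   .loop none [.bwd 7523, .fwd 2303, .fwd 7516],
   .loop none [.bwd 7561, .bwd 1720, .fwd 7516],
   .loop none [.bwd 7523, .fwd 2304, .fwd 7516],
   .loop none [.bwd 7553, .fwd 2204, .fwd 7517],
   .loop none [.bwd 7542, .fwd 1081, .fwd 7517],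
   .loop none [.bwd 7544, .bwd 2162, .fwd 7517],
   .loop none [.bwd 7555, .fwd 2163, .fwd 7517],
   .loop none [.bwd 7554, .fwd 2551, .fwd 7518],
   .loop none [.bwd 7576, .fwd 2550, .fwd 7518],
   .loop none [.bwd 7590, .bwd 2141, .fwd 7518],
   .loop none [.bwd 7565, .fwd 1975, .fwd 7518],
   .loop none [.bwd 7584, .bwd 2546, .fwd 7518],
   .loop none [.bwd 7546, .fwd 1974, .fwd 7519],
   .loop none [.bwd 7577, .bwd 1967, .fwd 7519],
   .loop none [.bwd 7544, .fwd 1606, .fwd 7519],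
   .loop none [.bwd 7587, .fwd 1941, .fwd 7519],
   .loop none [.bwd 7565, .bwd 1431, .fwd 7519],
   .loop none [.bwd 7520, .bwd 2411, .fwd 7519],
   .loop none [.bwd 7543, .fwd 2189, .fwd 7520],
   .loop none [.bwd 7578, .fwd 2414, .fwd 7520],
   .loop none [.bwd 7555, .bwd 1680, .fwd 7520],
   .loop none [.bwd 7585, .fwd 1495, .fwd 7520],
   .loop none [.bwd 7522, .bwd 2285, .fwd 7520],
   .loop none [.bwd 7538, .bwd 2173, .fwd 7521],
   .loop none [.bwd 7579, .fwd 2356, .fwd 7521],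
   .loop none [.bwd 7523, .fwd 1535, .fwd 7521],
   .loop none [.bwd 7564, .bwd 1725, .fwd 7521],
   .loop none [.bwd 7564, .bwd 1788, .fwd 7521],
   .loop none [.bwd 7555, .fwd 1936, .fwd 7522],
   .loop none [.bwd 7580, .fwd 1935, .fwd 7522],
   .loop none [.bwd 7543, .bwd 1313, .fwd 7522],
   .loop none [.bwd 7583, .bwd 1938, .fwd 7522],
   .loop none [.bwd 7553, .bwd 2187, .fwd 7522],
   .loop none [.bwd 7567, .fwd 1934, .fwd 7522],
   .loop none [.bwd 7556, .bwd 2081, .fwd 7523],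
   .loop none [.bwd 7581, .bwd 2325, .fwd 7523],
   .loop none [.bwd 7561, .bwd 2305, .fwd 7523],
   .loop none [.bwd 7557, .bwd 2338, .fwd 7524],
   .loop none [.bwd 7530, .bwd 1276, .fwd 7524],
   .loop none [.bwd 7589, .bwd 2055, .fwd 7524],
   .loop none [.bwd 7530, .bwd 2056, .fwd 7524],
   .loop none [.bwd 7525, .bwd 2057, .fwd 7524],
   .loop none [.bwd 7532, .bwd 2058, .fwd 7524],
   .loop none [.bwd 7550, .bwd 2059, .fwd 7524],
   .loop none [.bwd 7533, .bwd 1625, .fwd 7525],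
   .loop none [.bwd 7547, .fwd 1843, .fwd 7525],
   .loop none [.bwd 7558, .bwd 1509, .fwd 7526],
   .loop none [.bwd 7527, .fwd 1533, .fwd 7527],
   .loop none [.bwd 7598, .bwd 2171, .fwd 7527],
   .loop none [.bwd 7532, .bwd 1852, .fwd 7527],
   .loop none [.bwd 7528, .bwd 1853, .fwd 7527],
   .loop none [.bwd 7559, .fwd 1512, .fwd 7528],
   .loop none [.bwd 7528, .fwd 1568, .fwd 7528],
   .loop none [.bwd 7599, .bwd 1580, .fwd 7528],
   .loop none [.bwd 7547, .fwd 1842, .fwd 7528],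
   .loop none [.bwd 7531, .fwd 1848, .fwd 7528],
   .loop none [.bwd 7560, .fwd 2176, .fwd 7529],
   .loop none [.bwd 7548, .bwd 2253, .fwd 7529],
   .loop none [.bwd 7534, .bwd 2045, .fwd 7530],
   .loop none [.bwd 7547, .bwd 1014, .fwd 7531],
   .loop none [.bwd 7603, .fwd 2009, .fwd 7531],
   .loop none [.bwd 7550, .fwd 1948, .fwd 7531],
   .loop none [.bwd 7550, .bwd 1980, .fwd 7532],
   .loop none [.bwd 7547, .bwd 1844, .fwd 7533],
   .loop none [.bwd 7550, .fwd 1023, .fwd 7534],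
   .loop none [.bwd 7547, .fwd 1970, .fwd 7534],
   .loop none [.bwd 7561, .bwd 1761, .fwd 7535],
   .loop none [.bwd 7556, .fwd 2074, .fwd 7535],
   .loop none [.bwd 7545, .fwd 1821, .fwd 7535],
   .loop none [.bwd 7562, .bwd 2827, .fwd 7536],
   .loop none [.bwd 7596, .fwd 2929, .fwd 7536],
   .loop none [.bwd 7610, .bwd 1817, .fwd 7536],
   .loop none [.bwd 7537, .bwd 2829, .fwd 7536],
   .loop none [.bwd 7612, .fwd 2830, .fwd 7536],
   .loop none [.bwd 7563, .fwd 1724, .fwd 7537],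
   .loop none [.bwd 7597, .bwd 1812, .fwd 7537],
   .loop none [.bwd 7609, .fwd 1834, .fwd 7537],
   .loop none [.bwd 7552, .bwd 1575, .fwd 7537],
   .loop none [.bwd 7539, .bwd 1800, .fwd 7537],
   .loop none [.bwd 7612, .bwd 1822, .fwd 7537],
   .loop none [.bwd 7598, .fwd 2172, .fwd 7538],
   .loop none [.bwd 7556, .fwd 1597, .fwd 7538],
   .loop none [.bwd 7539, .bwd 1824, .fwd 7538],
   .loop none [.bwd 7539, .bwd 1857, .fwd 7538],
   .loop none [.bwd 7564, .fwd 1723, .fwd 7539],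
   .loop none [.bwd 7599, .bwd 1813, .fwd 7539],
   .loop none [.bwd 7545, .fwd 1386, .fwd 7539],
   .loop none [.bwd 7565, .bwd 2217, .fwd 7540],
   .loop none [.bwd 7601, .fwd 2213, .fwd 7540],
   .loop none [.bwd 7566, .bwd 2096, .fwd 7540],
   .loop none [.bwd 7554, .bwd 2040, .fwd 7540],
   .loop none [.bwd 7546, .fwd 1543, .fwd 7540],
   .loop none [.bwd 7566, .bwd 2097, .fwd 7541],
   .loop none [.bwd 7602, .bwd 2094, .fwd 7541],
   .loop none [.bwd 7565, .fwd 2138, .fwd 7541],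
   .loop none [.bwd 7544, .bwd 1065, .fwd 7541],
   .loop none [.bwd 7603, .fwd 2007, .fwd 7542],
   .loop none [.bwd 7604, .bwd 2183, .fwd 7543],
   .loop none [.bwd 7617, .fwd 1577, .fwd 7543],
   .loop none [.bwd 7555, .bwd 2113, .fwd 7543],
   .loop none [.bwd 7546, .fwd 2184, .fwd 7543],
   .loop none [.bwd 7567, .bwd 2149, .fwd 7544],
   .loop none [.bwd 7605, .bwd 2126, .fwd 7544],
   .loop none [.bwd 7555, .bwd 2018, .fwd 7544],
   .loop none [.bwd 7606, .bwd 1829, .fwd 7545],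
   .loop none [.bwd 7556, .fwd 2072, .fwd 7545],
   .loop none [.bwd 7609, .bwd 1660, .fwd 7545],
   .loop none [.bwd 7556, .fwd 2073, .fwd 7545],
   .loop none [.bwd 7607, .bwd 2036, .fwd 7546],
   .loop none [.bwd 7567, .bwd 1111, .fwd 7546],
   .loop none [.bwd 7611, .fwd 2023, .fwd 7546],
   .loop none [.bwd 7568, .fwd 1924, .fwd 7547],
   .loop none [.bwd 7608, .fwd 1833, .fwd 7547],
   .loop none [.bwd 7603, .fwd 2010, .fwd 7548],
   .loop none [.bwd 7603, .bwd 1562, .fwd 7549],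
   .loop none [.bwd 7607, .bwd 2033, .fwd 7549],
   .loop none [.bwd 7604, .fwd 2052, .fwd 7549],
   .loop none [.bwd 7621, .fwd 3307, .fwd 7551],
   .loop none [.bwd 7615, .fwd 2516, .fwd 7551],
   .loop none [.bwd 7614, .fwd 2169, .fwd 7551],
   .loop none [.bwd 7554, .bwd 2201, .fwd 7551],
   .loop none [.bwd 7619, .fwd 2642, .fwd 7551],
   .loop none [.bwd 7622, .fwd 2538, .fwd 7552],
   .loop none [.bwd 7617, .bwd 1576, .fwd 7552],
   .loop none [.bwd 7590, .bwd 2833, .fwd 7552],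
   .loop none [.bwd 7611, .fwd 2410, .fwd 7552],
   .loop none [.bwd 7586, .fwd 2186, .fwd 7553],
   .loop none [.bwd 7567, .bwd 2205, .fwd 7553],
   .loop none [.bwd 7624, .fwd 2775, .fwd 7554],
   .loop none [.bwd 7586, .bwd 2185, .fwd 7554],
   .loop none [.bwd 7618, .fwd 2083, .fwd 7554],
   .loop none [.bwd 7619, .bwd 2216, .fwd 7554],
   .loop none [.bwd 7625, .fwd 2019, .fwd 7555],
   .loop none [.bwd 7614, .bwd 2020, .fwd 7555],
   .loop none [.bwd 7594, .fwd 2080, .fwd 7556],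
   .loop none [.bwd 7626, .bwd 2241, .fwd 7557],
   .loop none [.bwd 7579, .bwd 2611, .fwd 7558],
   .loop none [.bwd 7559, .fwd 1507, .fwd 7559],
   .loop none [.bwd 7631, .bwd 1503, .fwd 7559],
   .loop none [.bwd 7568, .fwd 1773, .fwd 7559],
   .loop none [.bwd 7574, .fwd 2438, .fwd 7560],
   .loop none [.bwd 7588, .bwd 1423, .fwd 7561],
   .loop none [.bwd 7629, .fwd 2952, .fwd 7562],
   .loop none [.bwd 7636, .bwd 1718, .fwd 7562],
   .loop none [.bwd 7587, .bwd 2528, .fwd 7562],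
   .loop none [.bwd 7563, .bwd 2395, .fwd 7562],
   .loop none [.bwd 7637, .fwd 2629, .fwd 7562],
   .loop none [.bwd 7630, .bwd 1713, .fwd 7563],
   .loop none [.bwd 7588, .fwd 1744, .fwd 7563],
   .loop none [.bwd 7564, .bwd 1706, .fwd 7563],
   .loop none [.bwd 7637, .bwd 1721, .fwd 7563],
   .loop none [.bwd 7631, .bwd 1714, .fwd 7564],
   .loop none [.bwd 7633, .fwd 2543, .fwd 7565],
   .loop none [.bwd 7583, .bwd 2273, .fwd 7565],
   .loop none [.bwd 7582, .fwd 2143, .fwd 7565],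
   .loop none [.bwd 7634, .bwd 2437, .fwd 7566],
   .loop none [.bwd 7567, .bwd 1384, .fwd 7566],
   .loop none [.bwd 7585, .bwd 2404, .fwd 7566],
   .loop none [.bwd 7591, .fwd 2148, .fwd 7566],
   .loop none [.bwd 7569, .fwd 2229, .fwd 7567],
   .loop none [.bwd 7584, .fwd 2238, .fwd 7567],
   .loop none [.bwd 7635, .fwd 1743, .fwd 7568],
   .loop none [.bwd 7605, .bwd 2446, .fwd 7569],
   .loop none [.bwd 7634, .fwd 1634, .fwd 7569],
   .loop none [.bwd 7580, .bwd 1949, .fwd 7569],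
   .loop none [.bwd 7626, .fwd 2429, .fwd 7569],
   .loop none [.bwd 7606, .fwd 2295, .fwd 7570],
   .loop none [.bwd 7581, .fwd 2445, .fwd 7570],
   .loop none [.bwd 7635, .bwd 1740, .fwd 7570],
   .loop none [.bwd 7581, .fwd 2294, .fwd 7570],
   .loop none [.bwd 7620, .bwd 3184, .fwd 7571],
   .loop none [.bwd 7641, .fwd 2287, .fwd 7571],
   .loop none [.bwd 7632, .fwd 3181, .fwd 7571],
   .loop none [.bwd 7621, .bwd 3253, .fwd 7572],
   .loop none [.bwd 7645, .fwd 3206, .fwd 7572],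
   .loop none [.bwd 7576, .bwd 2598, .fwd 7572],
   .loop none [.bwd 7640, .fwd 2759, .fwd 7572],
   .loop none [.bwd 7622, .fwd 2708, .fwd 7573],
   .loop none [.bwd 7644, .fwd 2637, .fwd 7573],
   .loop none [.bwd 7630, .fwd 1516, .fwd 7573],
   .loop none [.bwd 7603, .fwd 2006, .fwd 7574],
   .loop none [.bwd 7646, .bwd 1921, .fwd 7574],
   .loop none [.bwd 7626, .bwd 1470, .fwd 7574],
   .loop none [.bwd 7623, .bwd 3185, .fwd 7575],
   .loop none [.bwd 7639, .fwd 2450, .fwd 7575],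
   .loop none [.bwd 7646, .bwd 2593, .fwd 7575],
   .loop none [.bwd 7624, .fwd 2578, .fwd 7576],
   .loop none [.bwd 7653, .fwd 2570, .fwd 7576],
   .loop none [.bwd 7633, .fwd 1971, .fwd 7576],
   .loop none [.bwd 7640, .bwd 2557, .fwd 7576],
   .loop none [.bwd 7607, .fwd 1968, .fwd 7577],
   .loop none [.bwd 7654, .bwd 1942, .fwd 7577],
   .loop none [.bwd 7651, .fwd 1963, .fwd 7577],
   .loop none [.bwd 7633, .bwd 1447, .fwd 7577],
   .loop none [.bwd 7578, .bwd 2418, .fwd 7577],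
   .loop none [.bwd 7604, .bwd 2344, .fwd 7578],
   .loop none [.bwd 7655, .bwd 2415, .fwd 7578],
   .loop none [.bwd 7649, .fwd 1518, .fwd 7578],
   .loop none [.bwd 7580, .bwd 2423, .fwd 7578],
   .loop none [.bwd 7598, .fwd 2612, .fwd 7579],
   .loop none [.bwd 7631, .fwd 2362, .fwd 7579],
   .loop none [.bwd 7631, .bwd 2359, .fwd 7579],
   .loop none [.bwd 7625, .fwd 1953, .fwd 7580],
   .loop none [.bwd 7648, .bwd 1960, .fwd 7580],
   .loop none [.bwd 7626, .bwd 2425, .fwd 7580],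
   .loop none [.bwd 7594, .bwd 2352, .fwd 7581],
   .loop none [.bwd 7635, .fwd 2444, .fwd 7581],
   .loop none [.bwd 7615, .bwd 2553, .fwd 7582],
   .loop none [.bwd 7647, .bwd 2547, .fwd 7582],
   .loop none [.bwd 7618, .fwd 2501, .fwd 7582],
   .loop none [.bwd 7586, .bwd 2526, .fwd 7582],
   .loop none [.bwd 7591, .bwd 2527, .fwd 7582],
   .loop none [.bwd 7583, .fwd 2549, .fwd 7582],
   .loop none [.bwd 7614, .bwd 2405, .fwd 7583],
   .loop none [.bwd 7648, .bwd 2403, .fwd 7583],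
   .loop none [.bwd 7617, .fwd 2409, .fwd 7583],
   .loop none [.bwd 7584, .bwd 1939, .fwd 7583],
   .loop none [.bwd 7619, .bwd 2235, .fwd 7584],
   .loop none [.bwd 7640, .fwd 2562, .fwd 7584],
   .loop none [.bwd 7611, .bwd 2237, .fwd 7584],
   .loop none [.bwd 7587, .bwd 1940, .fwd 7584],
   .loop none [.bwd 7617, .bwd 2645, .fwd 7585],
   .loop none [.bwd 7649, .bwd 2638, .fwd 7585],
   .loop none [.bwd 7614, .bwd 2646, .fwd 7585],
   .loop none [.bwd 7636, .bwd 2282, .fwd 7585],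
   .loop none [.bwd 7591, .fwd 2498, .fwd 7585],
   .loop none [.bwd 7590, .fwd 2461, .fwd 7586],
   .loop none [.bwd 7650, .bwd 2475, .fwd 7586],
   .loop none [.bwd 7637, .bwd 2335, .fwd 7586],
   .loop none [.bwd 7587, .bwd 2552, .fwd 7586],
   .loop none [.bwd 7611, .bwd 2644, .fwd 7587],
   .loop none [.bwd 7651, .fwd 2749, .fwd 7587],
   .loop none [.bwd 7619, .bwd 2545, .fwd 7587],
   .loop none [.bwd 7609, .bwd 2327, .fwd 7588],
   .loop none [.bwd 7642, .bwd 2324, .fwd 7588],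
   .loop none [.bwd 7591, .bwd 2511, .fwd 7588],
   .loop none [.bwd 7638, .fwd 2521, .fwd 7588],
   .loop none [.bwd 7636, .fwd 2392, .fwd 7588],
   .loop none [.bwd 7626, .fwd 2339, .fwd 7589],
   .loop none [.bwd 7603, .fwd 1563, .fwd 7589]]

theorem just36_len : just36.length = 250 := by decide +kernel

theorem just36_ok : cert.okFacts 9000 just36 = true := by decide +kernel

/-- justifications -/
noncomputable def just37 : List Cert.Just :=
  [.loop none [.bwd 7605, .bwd 2200, .fwd 7589],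
   .loop none [.bwd 7625, .fwd 2209, .fwd 7589],
   .loop none [.bwd 7663, .bwd 2462, .fwd 7590],
   .loop none [.bwd 7612, .fwd 2468, .fwd 7590],
   .loop none [.bwd 7615, .fwd 2517, .fwd 7590],
   .loop none [.bwd 7611, .bwd 2776, .fwd 7590],
   .loop none [.bwd 7618, .fwd 2499, .fwd 7591],
   .loop none [.bwd 7656, .fwd 2509, .fwd 7591],
   .loop none [.bwd 7615, .fwd 2515, .fwd 7591],
   .loop none [.bwd 7613, .bwd 2772, .fwd 7592],
   .loop none [.bwd 7658, .bwd 2771, .fwd 7592],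
   .loop none [.bwd 7593, .fwd 2767, .fwd 7592],
   .loop none [.bwd 7593, .fwd 2306, .fwd 7592],
   .loop none [.bwd 7637, .fwd 1726, .fwd 7592],
   .loop none [.bwd 7592, .bwd 2981, .fwd 7592],
   .loop none [.bwd 7627, .bwd 2974, .fwd 7593],
   .loop none [.bwd 7661, .bwd 2973, .fwd 7593],
   .loop none [.bwd 7638, .fwd 1699, .fwd 7593],
   .loop none [.bwd 7593, .bwd 2326, .fwd 7593],
   .loop none [.bwd 7606, .bwd 2353, .fwd 7594],
   .loop none [.bwd 7606, .bwd 2317, .fwd 7594],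
   .loop none [.bwd 7608, .fwd 2351, .fwd 7594],
   .loop none [.bwd 7628, .fwd 2653, .fwd 7595],
   .loop none [.bwd 7595, .fwd 1579, .fwd 7595],
   .loop none [.bwd 7629, .fwd 2951, .fwd 7596],
   .loop none [.bwd 7668, .bwd 2693, .fwd 7596],
   .loop none [.bwd 7597, .bwd 2935, .fwd 7596],
   .loop none [.bwd 7672, .fwd 2937, .fwd 7596],
   .loop none [.bwd 7630, .fwd 2620, .fwd 7597],
   .loop none [.bwd 7667, .bwd 2368, .fwd 7597],
   .loop none [.bwd 7622, .bwd 1587, .fwd 7597],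
   .loop none [.bwd 7599, .bwd 1981, .fwd 7597],
   .loop none [.bwd 7672, .bwd 2698, .fwd 7597],
   .loop none [.bwd 7669, .bwd 2761, .fwd 7598],
   .loop none [.bwd 7599, .fwd 2535, .fwd 7598],
   .loop none [.bwd 7599, .bwd 2540, .fwd 7598],
   .loop none [.bwd 7631, .bwd 2615, .fwd 7599],
   .loop none [.bwd 7670, .bwd 2320, .fwd 7599],
   .loop none [.bwd 7632, .bwd 3379, .fwd 7600],
   .loop none [.bwd 7664, .fwd 2175, .fwd 7600],
   .loop none [.bwd 7620, .bwd 3294, .fwd 7600],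
   .loop none [.bwd 7633, .fwd 2558, .fwd 7601],
   .loop none [.bwd 7676, .bwd 2214, .fwd 7601],
   .loop none [.bwd 7624, .bwd 2037, .fwd 7601],
   .loop none [.bwd 7607, .fwd 1554, .fwd 7601],
   .loop none [.bwd 7634, .fwd 2585, .fwd 7602],
   .loop none [.bwd 7675, .fwd 2125, .fwd 7602],
   .loop none [.bwd 7605, .bwd 1628, .fwd 7602],
   .loop none [.bwd 7677, .bwd 2008, .fwd 7603],
   .loop none [.bwd 7681, .fwd 1589, .fwd 7604],
   .loop none [.bwd 7625, .bwd 2349, .fwd 7604],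
   .loop none [.bwd 7607, .fwd 2343, .fwd 7604],
   .loop none [.bwd 7625, .bwd 2027, .fwd 7605],
   .loop none [.bwd 7608, .bwd 1830, .fwd 7606],
   .loop none [.bwd 7671, .fwd 2032, .fwd 7607],
   .loop none [.bwd 7635, .bwd 1929, .fwd 7608],
   .loop none [.bwd 7687, .fwd 1988, .fwd 7608],
   .loop none [.bwd 7687, .bwd 2529, .fwd 7609],
   .loop none [.bwd 7618, .bwd 2082, .fwd 7609],
   .loop none [.bwd 7616, .bwd 2514, .fwd 7609],
   .loop none [.bwd 7610, .fwd 2397, .fwd 7609],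
   .loop none [.bwd 7636, .fwd 1750, .fwd 7610],
   .loop none [.bwd 7690, .bwd 1827, .fwd 7610],
   .loop none [.bwd 7617, .fwd 2114, .fwd 7610],
   .loop none [.bwd 7616, .fwd 2078, .fwd 7610],
   .loop none [.bwd 7616, .fwd 2834, .fwd 7610],
   .loop none [.bwd 7671, .fwd 2902, .fwd 7611],
   .loop none [.bwd 7619, .fwd 2022, .fwd 7611],
   .loop none [.bwd 7637, .fwd 3048, .fwd 7612],
   .loop none [.bwd 7672, .fwd 3154, .fwd 7612],
   .loop none [.bwd 7616, .bwd 2467, .fwd 7612],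
   .loop none [.bwd 7613, .bwd 1825, .fwd 7612],
   .loop none [.bwd 7673, .bwd 2915, .fwd 7613],
   .loop none [.bwd 7627, .fwd 2914, .fwd 7613],
   .loop none [.bwd 7627, .fwd 2075, .fwd 7613],
   .loop none [.bwd 7613, .bwd 3062, .fwd 7613],
   .loop none [.bwd 7678, .fwd 2966, .fwd 7614],
   .loop none [.bwd 7619, .bwd 2021, .fwd 7614],
   .loop none [.bwd 7615, .bwd 2774, .fwd 7614],
   .loop none [.bwd 7679, .bwd 2773, .fwd 7615],
   .loop none [.bwd 7618, .bwd 2518, .fwd 7615],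
   .loop none [.bwd 7638, .fwd 2144, .fwd 7616],
   .loop none [.bwd 7680, .fwd 2135, .fwd 7616],
   .loop none [.bwd 7627, .bwd 1810, .fwd 7616],
   .loop none [.bwd 7681, .bwd 2831, .fwd 7617],
   .loop none [.bwd 7618, .bwd 2188, .fwd 7617],
   .loop none [.bwd 7682, .bwd 2500, .fwd 7618],
   .loop none [.bwd 7685, .fwd 2784, .fwd 7619],
   .loop none [.bwd 7686, .fwd 2313, .fwd 7620],
   .loop none [.bwd 7677, .bwd 2810, .fwd 7620],
   .loop none [.bwd 7693, .fwd 3310, .fwd 7621],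
   .loop none [.bwd 7679, .bwd 2813, .fwd 7621],
   .loop none [.bwd 7678, .fwd 2788, .fwd 7621],
   .loop none [.bwd 7624, .bwd 2814, .fwd 7621],
   .loop none [.bwd 7685, .fwd 2912, .fwd 7621],
   .loop none [.bwd 7692, .bwd 2713, .fwd 7622],
   .loop none [.bwd 7681, .bwd 1588, .fwd 7622],
   .loop none [.bwd 7663, .fwd 2913, .fwd 7622],
   .loop none [.bwd 7671, .fwd 2908, .fwd 7622],
   .loop none [.bwd 7684, .fwd 2050, .fwd 7623],
   .loop none [.bwd 7677, .bwd 2809, .fwd 7623],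
   .loop none [.bwd 7688, .bwd 2779, .fwd 7623],
   .loop none [.bwd 7683, .fwd 2805, .fwd 7623],
   .loop none [.bwd 7695, .fwd 2792, .fwd 7624],
   .loop none [.bwd 7682, .fwd 2893, .fwd 7624],
   .loop none [.bwd 7685, .bwd 2780, .fwd 7624],
   .loop none [.bwd 7678, .bwd 2029, .fwd 7625],
   .loop none [.bwd 7650, .bwd 2430, .fwd 7626],
   .loop none [.bwd 7665, .fwd 3149, .fwd 7627],
   .loop none [.bwd 7627, .bwd 2530, .fwd 7627],
   .loop none [.bwd 7628, .fwd 1498, .fwd 7628],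
   .loop none [.bwd 7657, .fwd 2691, .fwd 7628],
   .loop none [.bwd 7700, .bwd 2616, .fwd 7629],
   .loop none [.bwd 7651, .bwd 2955, .fwd 7629],
   .loop none [.bwd 7630, .bwd 2958, .fwd 7629],
   .loop none [.bwd 7702, .fwd 2960, .fwd 7629],
   .loop none [.bwd 7699, .fwd 2625, .fwd 7630],
   .loop none [.bwd 7631, .fwd 1886, .fwd 7630],
   .loop none [.bwd 7702, .bwd 2619, .fwd 7630],
   .loop none [.bwd 7701, .fwd 2331, .fwd 7631],
   .loop none [.bwd 7660, .fwd 2440, .fwd 7632],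
   .loop none [.bwd 7646, .fwd 2584, .fwd 7632],
   .loop none [.bwd 7705, .bwd 2544, .fwd 7633],
   .loop none [.bwd 7648, .fwd 3197, .fwd 7633],
   .loop none [.bwd 7647, .fwd 2548, .fwd 7633],
   .loop none [.bwd 7704, .fwd 2482, .fwd 7634],
   .loop none [.bwd 7649, .bwd 2652, .fwd 7634],
   .loop none [.bwd 7656, .fwd 2510, .fwd 7634],
   .loop none [.bwd 7642, .bwd 1890, .fwd 7635],
   .loop none [.bwd 7708, .bwd 1737, .fwd 7636],
   .loop none [.bwd 7638, .fwd 2309, .fwd 7636],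
   .loop none [.bwd 7638, .fwd 2520, .fwd 7636],
   .loop none [.bwd 7702, .bwd 3047, .fwd 7637],
   .loop none [.bwd 7638, .bwd 2476, .fwd 7637],
   .loop none [.bwd 7706, .fwd 2522, .fwd 7638],
   .loop none [.bwd 7684, .fwd 3243, .fwd 7639],
   .loop none [.bwd 7704, .fwd 2961, .fwd 7639],
   .loop none [.bwd 7659, .bwd 3199, .fwd 7639],
   .loop none [.bwd 7697, .fwd 2962, .fwd 7639],
   .loop none [.bwd 7685, .fwd 2940, .fwd 7640],
   .loop none [.bwd 7710, .fwd 3212, .fwd 7640],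
   .loop none [.bwd 7648, .fwd 1961, .fwd 7640],
   .loop none [.bwd 7651, .bwd 1962, .fwd 7640],
   .loop none [.bwd 7686, .bwd 3086, .fwd 7641],
   .loop none [.bwd 7660, .bwd 3139, .fwd 7641],
   .loop none [.bwd 7707, .bwd 3087, .fwd 7641],
   .loop none [.bwd 7660, .fwd 3144, .fwd 7641],
   .loop none [.bwd 7687, .bwd 3146, .fwd 7642],
   .loop none [.bwd 7712, .fwd 2372, .fwd 7642],
   .loop none [.bwd 7656, .bwd 2297, .fwd 7642],
   .loop none [.bwd 7706, .bwd 2945, .fwd 7642],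
   .loop none [.bwd 7708, .fwd 2394, .fwd 7642],
   .loop none [.bwd 7691, .fwd 3575, .fwd 7643],
   .loop none [.bwd 7643, .fwd 2262, .fwd 7643],
   .loop none [.bwd 7711, .bwd 3179, .fwd 7643],
   .loop none [.bwd 7703, .fwd 3615, .fwd 7643],
   .loop none [.bwd 7692, .bwd 4160, .fwd 7644],
   .loop none [.bwd 7713, .fwd 2636, .fwd 7644],
   .loop none [.bwd 7693, .fwd 3609, .fwd 7645],
   .loop none [.bwd 7714, .bwd 2634, .fwd 7645],
   .loop none [.bwd 7653, .bwd 3278, .fwd 7645],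
   .loop none [.bwd 7710, .fwd 3262, .fwd 7645],
   .loop none [.bwd 7677, .bwd 2991, .fwd 7646],
   .loop none [.bwd 7715, .bwd 2471, .fwd 7646],
   .loop none [.bwd 7707, .fwd 1905, .fwd 7646],
   .loop none [.bwd 7697, .bwd 2606, .fwd 7646],
   .loop none [.bwd 7679, .bwd 2581, .fwd 7647],
   .loop none [.bwd 7650, .bwd 2604, .fwd 7647],
   .loop none [.bwd 7656, .bwd 2605, .fwd 7647],
   .loop none [.bwd 7648, .fwd 3196, .fwd 7647],
   .loop none [.bwd 7678, .bwd 3200, .fwd 7648],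
   .loop none [.bwd 7721, .bwd 2647, .fwd 7648],
   .loop none [.bwd 7681, .bwd 2728, .fwd 7649],
   .loop none [.bwd 7717, .fwd 2651, .fwd 7649],
   .loop none [.bwd 7708, .bwd 2424, .fwd 7649],
   .loop none [.bwd 7656, .bwd 2588, .fwd 7649],
   .loop none [.bwd 7663, .bwd 2608, .fwd 7650],
   .loop none [.bwd 7718, .fwd 3604, .fwd 7650],
   .loop none [.bwd 7702, .bwd 2431, .fwd 7650],
   .loop none [.bwd 7651, .bwd 2603, .fwd 7650],
   .loop none [.bwd 7671, .fwd 2901, .fwd 7651],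
   .loop none [.bwd 7719, .bwd 2554, .fwd 7651],
   .loop none [.bwd 7694, .fwd 3506, .fwd 7652],
   .loop none [.bwd 7709, .fwd 3518, .fwd 7652],
   .loop none [.bwd 7715, .bwd 3176, .fwd 7652],
   .loop none [.bwd 7695, .fwd 3368, .fwd 7653],
   .loop none [.bwd 7724, .fwd 3281, .fwd 7653],
   .loop none [.bwd 7710, .bwd 3263, .fwd 7653],
   .loop none [.bwd 7688, .bwd 3213, .fwd 7654],
   .loop none [.bwd 7725, .bwd 2218, .fwd 7654],
   .loop none [.bwd 7659, .bwd 1943, .fwd 7654],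
   .loop none [.bwd 7705, .bwd 2575, .fwd 7654],
   .loop none [.bwd 7719, .fwd 2555, .fwd 7654],
   .loop none [.bwd 7655, .bwd 2745, .fwd 7654],
   .loop none [.bwd 7683, .fwd 3239, .fwd 7655],
   .loop none [.bwd 7726, .bwd 2400, .fwd 7655],
   .loop none [.bwd 7697, .fwd 2417, .fwd 7655],
   .loop none [.bwd 7659, .bwd 3198, .fwd 7655],
   .loop none [.bwd 7717, .fwd 2744, .fwd 7655],
   .loop none [.bwd 7682, .fwd 2925, .fwd 7656],
   .loop none [.bwd 7728, .bwd 2947, .fwd 7656],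
   .loop none [.bwd 7669, .fwd 3739, .fwd 7657],
   .loop none [.bwd 7657, .fwd 2610, .fwd 7657],
   .loop none [.bwd 7701, .bwd 2689, .fwd 7657],
   .loop none [.bwd 7701, .bwd 2690, .fwd 7657],
   .loop none [.bwd 7673, .fwd 3536, .fwd 7658],
   .loop none [.bwd 7730, .fwd 3919, .fwd 7658],
   .loop none [.bwd 7661, .bwd 2613, .fwd 7658],
   .loop none [.bwd 7702, .bwd 2590, .fwd 7658],
   .loop none [.bwd 7658, .bwd 3061, .fwd 7658],
   .loop none [.bwd 7696, .fwd 3217, .fwd 7659],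
   .loop none [.bwd 7721, .bwd 3223, .fwd 7659],
   .loop none [.bwd 7697, .bwd 2607, .fwd 7659],
   .loop none [.bwd 7664, .bwd 3383, .fwd 7660],
   .loop none [.bwd 7707, .bwd 3145, .fwd 7660],
   .loop none [.bwd 7665, .fwd 3498, .fwd 7661],
   .loop none [.bwd 7733, .fwd 2979, .fwd 7661],
   .loop none [.bwd 7706, .fwd 2442, .fwd 7661],
   .loop none [.bwd 7661, .bwd 2980, .fwd 7661],
   .loop none [.bwd 7697, .bwd 3362, .fwd 7662],
   .loop none [.bwd 7683, .fwd 2337, .fwd 7662],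
   .loop none [.bwd 7677, .fwd 2822, .fwd 7662],
   .loop none [.bwd 7684, .bwd 2939, .fwd 7662],
   .loop none [.bwd 7696, .fwd 2823, .fwd 7662],
   .loop none [.bwd 7735, .fwd 3270, .fwd 7663],
   .loop none [.bwd 7672, .bwd 2340, .fwd 7663],
   .loop none [.bwd 7679, .fwd 2820, .fwd 7663],
   .loop none [.bwd 7671, .bwd 2819, .fwd 7663],
   .loop none [.bwd 7686, .fwd 3162, .fwd 7664],
   .loop none [.bwd 7686, .bwd 3167, .fwd 7664],
   .loop none [.bwd 7689, .bwd 3168, .fwd 7664],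
   .loop none [.bwd 7737, .fwd 3375, .fwd 7665],
   .loop none [.bwd 7673, .fwd 2763, .fwd 7665],
   .loop none [.bwd 7680, .fwd 2177, .fwd 7665],
   .loop none [.bwd 7665, .bwd 3151, .fwd 7665],
   .loop none [.bwd 7698, .fwd 3028, .fwd 7666],
   .loop none [.bwd 7666, .fwd 2840, .fwd 7666],
   .loop none [.bwd 7699, .bwd 3740, .fwd 7667],
   .loop none [.bwd 7739, .bwd 2369, .fwd 7667],
   .loop none [.bwd 7670, .fwd 2857, .fwd 7667],
   .loop none [.bwd 7668, .fwd 2936, .fwd 7667],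
   .loop none [.bwd 7700, .fwd 2666, .fwd 7668],
   .loop none [.bwd 7740, .bwd 2835, .fwd 7668],
   .loop none [.bwd 7744, .fwd 2850, .fwd 7668],
   .loop none [.bwd 7744, .fwd 3807, .fwd 7668],
   .loop none [.bwd 7741, .bwd 2764, .fwd 7669],
   .loop none [.bwd 7669, .fwd 2762, .fwd 7669],
   .loop none [.bwd 7670, .bwd 2866, .fwd 7669],
   .loop none [.bwd 7670, .bwd 2867, .fwd 7669],
   .loop none [.bwd 7701, .bwd 2696, .fwd 7670]]

theorem just37_len : just37.length = 250 := by decide +kernel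

theorem just37_ok : cert.okFacts 9250 just37 = true := by decide +kernel

/-- justifications -/
noncomputable def just38 : List Cert.Just :=
  [.loop none [.bwd 7742, .bwd 2321, .fwd 7670],
   .loop none [.bwd 7670, .fwd 2701, .fwd 7670],
   .loop none [.bwd 7685, .fwd 2031, .fwd 7671],
   .loop none [.bwd 7702, .fwd 3583, .fwd 7672],
   .loop none [.bwd 7744, .fwd 3797, .fwd 7672],
   .loop none [.bwd 7673, .bwd 2699, .fwd 7672],
   .loop none [.bwd 7746, .fwd 3803, .fwd 7673],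
   .loop none [.bwd 7673, .bwd 3156, .fwd 7673],
   .loop none [.bwd 7703, .bwd 3389, .fwd 7674],
   .loop none [.bwd 7674, .fwd 2093, .fwd 7674],
   .loop none [.bwd 7736, .bwd 3382, .fwd 7674],
   .loop none [.bwd 7691, .bwd 3394, .fwd 7674],
   .loop none [.bwd 7704, .bwd 3363, .fwd 7675],
   .loop none [.bwd 7748, .fwd 2124, .fwd 7675],
   .loop none [.bwd 7684, .bwd 2938, .fwd 7675],
   .loop none [.bwd 7705, .bwd 3384, .fwd 7676],
   .loop none [.bwd 7749, .bwd 2122, .fwd 7676],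
   .loop none [.bwd 7688, .fwd 2797, .fwd 7676],
   .loop none [.bwd 7750, .bwd 2194, .fwd 7677],
   .loop none [.bwd 7689, .fwd 1999, .fwd 7677],
   .loop none [.bwd 7755, .bwd 2967, .fwd 7678],
   .loop none [.bwd 7685, .bwd 2030, .fwd 7678],
   .loop none [.bwd 7679, .bwd 3251, .fwd 7678],
   .loop none [.bwd 7756, .bwd 2798, .fwd 7679],
   .loop none [.bwd 7682, .fwd 2892, .fwd 7679],
   .loop none [.bwd 7706, .fwd 2924, .fwd 7680],
   .loop none [.bwd 7690, .fwd 2781, .fwd 7680],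
   .loop none [.bwd 7690, .bwd 2888, .fwd 7680],
   .loop none [.bwd 7687, .fwd 2920, .fwd 7680],
   .loop none [.bwd 7752, .bwd 2733, .fwd 7681],
   .loop none [.bwd 7690, .bwd 2350, .fwd 7681],
   .loop none [.bwd 7682, .fwd 2894, .fwd 7681],
   .loop none [.bwd 7753, .bwd 2922, .fwd 7682],
   .loop none [.bwd 7687, .bwd 2891, .fwd 7682],
   .loop none [.bwd 7696, .bwd 3240, .fwd 7683],
   .loop none [.bwd 7752, .fwd 2897, .fwd 7683],
   .loop none [.bwd 7688, .fwd 2898, .fwd 7683],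
   .loop none [.bwd 7696, .bwd 3244, .fwd 7684],
   .loop none [.bwd 7760, .bwd 3254, .fwd 7685],
   .loop none [.bwd 7689, .bwd 2983, .fwd 7686],
   .loop none [.bwd 7762, .bwd 2621, .fwd 7687],
   .loop none [.bwd 7690, .fwd 2963, .fwd 7687],
   .loop none [.bwd 7696, .bwd 2025, .fwd 7688],
   .loop none [.bwd 7747, .fwd 2778, .fwd 7688],
   .loop none [.bwd 7707, .bwd 2984, .fwd 7689],
   .loop none [.bwd 7762, .fwd 2982, .fwd 7689],
   .loop none [.bwd 7708, .bwd 2742, .fwd 7690],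
   .loop none [.bwd 7765, .fwd 2887, .fwd 7690],
   .loop none [.bwd 7691, .fwd 2250, .fwd 7691],
   .loop none [.bwd 7761, .bwd 3292, .fwd 7691],
   .loop none [.bwd 7750, .bwd 3293, .fwd 7691],
   .loop none [.bwd 7766, .bwd 2714, .fwd 7692],
   .loop none [.bwd 7752, .bwd 2895, .fwd 7692],
   .loop none [.bwd 7735, .fwd 3361, .fwd 7692],
   .loop none [.bwd 7747, .fwd 2911, .fwd 7692],
   .loop none [.bwd 7767, .fwd 2716, .fwd 7693],
   .loop none [.bwd 7755, .bwd 3327, .fwd 7693],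
   .loop none [.bwd 7695, .bwd 3348, .fwd 7693],
   .loop none [.bwd 7760, .fwd 3337, .fwd 7693],
   .loop none [.bwd 7734, .fwd 2181, .fwd 7694],
   .loop none [.bwd 7759, .fwd 3353, .fwd 7694],
   .loop none [.bwd 7750, .bwd 3289, .fwd 7694],
   .loop none [.bwd 7763, .bwd 3313, .fwd 7694],
   .loop none [.bwd 7758, .fwd 3367, .fwd 7694],
   .loop none [.bwd 7770, .bwd 3267, .fwd 7695],
   .loop none [.bwd 7753, .fwd 3345, .fwd 7695],
   .loop none [.bwd 7760, .bwd 3338, .fwd 7695],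
   .loop none [.bwd 7755, .bwd 3319, .fwd 7696],
   .loop none [.bwd 7723, .bwd 2456, .fwd 7697],
   .loop none [.bwd 7718, .fwd 3183, .fwd 7697],
   .loop none [.bwd 7764, .fwd 1711, .fwd 7698],
   .loop none [.bwd 7698, .fwd 2659, .fwd 7698],
   .loop none [.bwd 7729, .fwd 3774, .fwd 7698],
   .loop none [.bwd 7773, .fwd 2624, .fwd 7699],
   .loop none [.bwd 7701, .fwd 2680, .fwd 7699],
   .loop none [.bwd 7700, .fwd 2959, .fwd 7699],
   .loop none [.bwd 7774, .bwd 2654, .fwd 7700],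
   .loop none [.bwd 7777, .fwd 2673, .fwd 7700],
   .loop none [.bwd 7777, .fwd 3920, .fwd 7700],
   .loop none [.bwd 7775, .fwd 2330, .fwd 7701],
   .loop none [.bwd 7701, .fwd 2614, .fwd 7701],
   .loop none [.bwd 7777, .fwd 3913, .fwd 7702],
   .loop none [.bwd 7703, .fwd 2436, .fwd 7703],
   .loop none [.bwd 7732, .bwd 3663, .fwd 7703],
   .loop none [.bwd 7715, .fwd 3405, .fwd 7703],
   .loop none [.bwd 7779, .fwd 2481, .fwd 7704],
   .loop none [.bwd 7717, .bwd 2741, .fwd 7704],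
   .loop none [.bwd 7728, .fwd 2948, .fwd 7704],
   .loop none [.bwd 7780, .bwd 2479, .fwd 7705],
   .loop none [.bwd 7721, .bwd 3248, .fwd 7705],
   .loop none [.bwd 7722, .fwd 2577, .fwd 7705],
   .loop none [.bwd 7708, .fwd 2559, .fwd 7706],
   .loop none [.bwd 7708, .bwd 2739, .fwd 7706],
   .loop none [.bwd 7738, .fwd 1734, .fwd 7707],
   .loop none [.bwd 7712, .fwd 3125, .fwd 7707],
   .loop none [.bwd 7784, .fwd 2732, .fwd 7708],
   .loop none [.bwd 7759, .fwd 3508, .fwd 7709],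
   .loop none [.bwd 7725, .fwd 2219, .fwd 7709],
   .loop none [.bwd 7779, .fwd 3526, .fwd 7709],
   .loop none [.bwd 7731, .bwd 3222, .fwd 7709],
   .loop none [.bwd 7723, .fwd 3551, .fwd 7709],
   .loop none [.bwd 7760, .bwd 4022, .fwd 7710],
   .loop none [.bwd 7785, .fwd 3211, .fwd 7710],
   .loop none [.bwd 7719, .bwd 3260, .fwd 7710],
   .loop none [.bwd 7761, .bwd 3070, .fwd 7711],
   .loop none [.bwd 7742, .fwd 2322, .fwd 7711],
   .loop none [.bwd 7732, .fwd 3652, .fwd 7711],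
   .loop none [.bwd 7738, .bwd 3071, .fwd 7711],
   .loop none [.bwd 7732, .fwd 3661, .fwd 7711],
   .loop none [.bwd 7762, .bwd 3122, .fwd 7712],
   .loop none [.bwd 7787, .fwd 2371, .fwd 7712],
   .loop none [.bwd 7783, .fwd 3848, .fwd 7712],
   .loop none [.bwd 7784, .fwd 3172, .fwd 7712],
   .loop none [.bwd 7766, .bwd 4150, .fwd 7713],
   .loop none [.bwd 7714, .fwd 2635, .fwd 7713],
   .loop none [.bwd 7767, .bwd 3629, .fwd 7714],
   .loop none [.bwd 7724, .bwd 4080, .fwd 7714],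
   .loop none [.bwd 7785, .fwd 3868, .fwd 7714],
   .loop none [.bwd 7750, .bwd 3094, .fwd 7715],
   .loop none [.bwd 7715, .fwd 2472, .fwd 7715],
   .loop none [.bwd 7738, .bwd 3095, .fwd 7715],
   .loop none [.bwd 7723, .bwd 3561, .fwd 7715],
   .loop none [.bwd 7768, .fwd 4162, .fwd 7716],
   .loop none [.bwd 7789, .bwd 4152, .fwd 7716],
   .loop none [.bwd 7776, .fwd 2703, .fwd 7716],
   .loop none [.bwd 7752, .fwd 3791, .fwd 7717],
   .loop none [.bwd 7790, .fwd 2650, .fwd 7717],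
   .loop none [.bwd 7728, .bwd 3691, .fwd 7717],
   .loop none [.bwd 7735, .bwd 4021, .fwd 7718],
   .loop none [.bwd 7791, .bwd 3603, .fwd 7718],
   .loop none [.bwd 7797, .bwd 3905, .fwd 7718],
   .loop none [.bwd 7722, .fwd 3690, .fwd 7718],
   .loop none [.bwd 7719, .bwd 3605, .fwd 7718],
   .loop none [.bwd 7747, .bwd 3218, .fwd 7719],
   .loop none [.bwd 7792, .bwd 3209, .fwd 7719],
   .loop none [.bwd 7798, .bwd 3230, .fwd 7719],
   .loop none [.bwd 7769, .fwd 4140, .fwd 7720],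
   .loop none [.bwd 7793, .fwd 4136, .fwd 7720],
   .loop none [.bwd 7781, .bwd 4012, .fwd 7720],
   .loop none [.bwd 7800, .bwd 3679, .fwd 7720],
   .loop none [.bwd 7727, .bwd 4036, .fwd 7720],
   .loop none [.bwd 7786, .fwd 4132, .fwd 7720],
   .loop none [.bwd 7755, .bwd 4088, .fwd 7721],
   .loop none [.bwd 7794, .bwd 2648, .fwd 7721],
   .loop none [.bwd 7722, .bwd 3902, .fwd 7721],
   .loop none [.bwd 7756, .fwd 3438, .fwd 7722],
   .loop none [.bwd 7800, .fwd 4016, .fwd 7722],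
   .loop none [.bwd 7728, .bwd 3689, .fwd 7722],
   .loop none [.bwd 7734, .bwd 3550, .fwd 7723],
   .loop none [.bwd 7726, .fwd 3587, .fwd 7723],
   .loop none [.bwd 7791, .fwd 3946, .fwd 7723],
   .loop none [.bwd 7731, .fwd 3560, .fwd 7723],
   .loop none [.bwd 7770, .bwd 3937, .fwd 7724],
   .loop none [.bwd 7791, .fwd 3280, .fwd 7724],
   .loop none [.bwd 7785, .bwd 4001, .fwd 7724],
   .loop none [.bwd 7763, .bwd 3502, .fwd 7725],
   .loop none [.bwd 7731, .bwd 3216, .fwd 7725],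
   .loop none [.bwd 7780, .bwd 3503, .fwd 7725],
   .loop none [.bwd 7792, .fwd 3214, .fwd 7725],
   .loop none [.bwd 7726, .bwd 3589, .fwd 7725],
   .loop none [.bwd 7758, .bwd 3586, .fwd 7726],
   .loop none [.bwd 7731, .bwd 2401, .fwd 7726],
   .loop none [.bwd 7731, .bwd 3221, .fwd 7726],
   .loop none [.bwd 7790, .fwd 3858, .fwd 7726],
   .loop none [.bwd 7771, .fwd 4066, .fwd 7727],
   .loop none [.bwd 7803, .fwd 4057, .fwd 7727],
   .loop none [.bwd 7782, .fwd 2568, .fwd 7727],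
   .loop none [.bwd 7786, .fwd 4133, .fwd 7727],
   .loop none [.bwd 7753, .fwd 3488, .fwd 7728],
   .loop none [.bwd 7804, .fwd 3986, .fwd 7728],
   .loop none [.bwd 7741, .bwd 3770, .fwd 7729],
   .loop none [.bwd 7736, .fwd 2769, .fwd 7729],
   .loop none [.bwd 7729, .fwd 3388, .fwd 7729],
   .loop none [.bwd 7775, .bwd 3772, .fwd 7729],
   .loop none [.bwd 7775, .bwd 3773, .fwd 7729],
   .loop none [.bwd 7746, .fwd 4298, .fwd 7730],
   .loop none [.bwd 7808, .fwd 4295, .fwd 7730],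
   .loop none [.bwd 7777, .bwd 2672, .fwd 7730],
   .loop none [.bwd 7730, .bwd 3781, .fwd 7730],
   .loop none [.bwd 7772, .bwd 3505, .fwd 7731],
   .loop none [.bwd 7794, .fwd 3866, .fwd 7731],
   .loop none [.bwd 7736, .bwd 3655, .fwd 7732],
   .loop none [.bwd 7741, .fwd 2765, .fwd 7732],
   .loop none [.bwd 7738, .bwd 3662, .fwd 7732],
   .loop none [.bwd 7737, .bwd 3684, .fwd 7733],
   .loop none [.bwd 7810, .fwd 2978, .fwd 7733],
   .loop none [.bwd 7783, .fwd 3846, .fwd 7733],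
   .loop none [.bwd 7733, .bwd 3933, .fwd 7733],
   .loop none [.bwd 7758, .bwd 3499, .fwd 7734],
   .loop none [.bwd 7750, .fwd 3404, .fwd 7734],
   .loop none [.bwd 7759, .bwd 3350, .fwd 7734],
   .loop none [.bwd 7772, .fwd 3509, .fwd 7734],
   .loop none [.bwd 7812, .fwd 3269, .fwd 7735],
   .loop none [.bwd 7756, .fwd 3435, .fwd 7735],
   .loop none [.bwd 7747, .bwd 3340, .fwd 7735],
   .loop none [.bwd 7761, .bwd 3702, .fwd 7736],
   .loop none [.bwd 7761, .bwd 3392, .fwd 7736],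
   .loop none [.bwd 7764, .bwd 3393, .fwd 7736],
   .loop none [.bwd 7814, .fwd 3539, .fwd 7737],
   .loop none [.bwd 7757, .fwd 3495, .fwd 7737],
   .loop none [.bwd 7737, .bwd 3545, .fwd 7737],
   .loop none [.bwd 7764, .fwd 3003, .fwd 7738],
   .loop none [.bwd 7787, .fwd 3130, .fwd 7738],
   .loop none [.bwd 7773, .fwd 3765, .fwd 7739],
   .loop none [.bwd 7787, .bwd 2370, .fwd 7739],
   .loop none [.bwd 7742, .fwd 3726, .fwd 7739],
   .loop none [.bwd 7740, .fwd 3808, .fwd 7739],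
   .loop none [.bwd 7774, .fwd 3037, .fwd 7740],
   .loop none [.bwd 7816, .bwd 3049, .fwd 7740],
   .loop none [.bwd 7818, .fwd 4225, .fwd 7740],
   .loop none [.bwd 7818, .fwd 4227, .fwd 7740],
   .loop none [.bwd 7741, .fwd 3743, .fwd 7741],
   .loop none [.bwd 7742, .bwd 3735, .fwd 7741],
   .loop none [.bwd 7742, .bwd 3736, .fwd 7741],
   .loop none [.bwd 7775, .fwd 3036, .fwd 7742],
   .loop none [.bwd 7742, .fwd 3063, .fwd 7742],
   .loop none [.bwd 7776, .fwd 3811, .fwd 7743],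
   .loop none [.bwd 7817, .fwd 3810, .fwd 7743],
   .loop none [.bwd 7768, .bwd 2870, .fwd 7743],
   .loop none [.bwd 7745, .fwd 3809, .fwd 7743],
   .loop none [.bwd 7777, .fwd 4097, .fwd 7744],
   .loop none [.bwd 7818, .bwd 3796, .fwd 7744],
   .loop none [.bwd 7823, .fwd 4234, .fwd 7744],
   .loop none [.bwd 7746, .fwd 2849, .fwd 7744],
   .loop none [.bwd 7778, .bwd 4096, .fwd 7745],
   .loop none [.bwd 7819, .fwd 4230, .fwd 7745],
   .loop none [.bwd 7822, .fwd 3742, .fwd 7745],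
   .loop none [.bwd 7823, .bwd 2846, .fwd 7745],
   .loop none [.bwd 7823, .fwd 4237, .fwd 7745],
   .loop none [.bwd 7820, .bwd 3802, .fwd 7746],
   .loop none [.bwd 7746, .bwd 3738, .fwd 7746],
   .loop none [.bwd 7824, .bwd 3322, .fwd 7747],
   .loop none [.bwd 7760, .fwd 3335, .fwd 7747],
   .loop none [.bwd 7779, .bwd 3468, .fwd 7748],
   .loop none [.bwd 7749, .fwd 2123, .fwd 7748],
   .loop none [.bwd 7759, .bwd 3349, .fwd 7748],
   .loop none [.bwd 7780, .fwd 3449, .fwd 7749],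
   .loop none [.bwd 7763, .fwd 3418, .fwd 7749],
   .loop none [.bwd 7750, .fwd 2195, .fwd 7750],
   .loop none [.bwd 7764, .fwd 2989, .fwd 7750],
   .loop none [.bwd 7781, .fwd 3487, .fwd 7751],
   .loop none [.bwd 7827, .bwd 3473, .fwd 7751],
   .loop none [.bwd 7769, .bwd 3369, .fwd 7751],
   .loop none [.bwd 7828, .bwd 2734, .fwd 7752],
   .loop none [.bwd 7835, .bwd 2884, .fwd 7752],
   .loop none [.bwd 7753, .bwd 3486, .fwd 7752],
   .loop none [.bwd 7829, .fwd 3378, .fwd 7753],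
   .loop none [.bwd 7836, .fwd 3284, .fwd 7753],
   .loop none [.bwd 7756, .fwd 3434, .fwd 7753],
   .loop none [.bwd 7782, .fwd 3429, .fwd 7754]]

theorem just38_len : just38.length = 250 := by decide +kernel

theorem just38_ok : cert.okFacts 9500 just38 = true := by decide +kernel

/-- justifications -/
noncomputable def just39 : List Cert.Just :=
  [.loop none [.bwd 7830, .fwd 3428, .fwd 7754],
   .loop none [.bwd 7771, .bwd 2790, .fwd 7754],
   .loop none [.bwd 7831, .fwd 2736, .fwd 7755],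
   .loop none [.bwd 7839, .bwd 3329, .fwd 7755],
   .loop none [.bwd 7756, .bwd 3426, .fwd 7755],
   .loop none [.bwd 7832, .bwd 3376, .fwd 7756],
   .loop none [.bwd 7840, .fwd 3436, .fwd 7756],
   .loop none [.bwd 7783, .fwd 4386, .fwd 7757],
   .loop none [.bwd 7833, .fwd 2918, .fwd 7757],
   .loop none [.bwd 7765, .bwd 3496, .fwd 7757],
   .loop none [.bwd 7765, .bwd 3157, .fwd 7757],
   .loop none [.bwd 7762, .bwd 3497, .fwd 7757],
   .loop none [.bwd 7772, .fwd 2407, .fwd 7758],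
   .loop none [.bwd 7772, .bwd 3317, .fwd 7758],
   .loop none [.bwd 7828, .fwd 3787, .fwd 7758],
   .loop none [.bwd 7763, .fwd 3504, .fwd 7758],
   .loop none [.bwd 7763, .fwd 2152, .fwd 7759],
   .loop none [.bwd 7772, .bwd 3318, .fwd 7759],
   .loop none [.bwd 7842, .bwd 3255, .fwd 7760],
   .loop none [.bwd 7775, .bwd 2329, .fwd 7761],
   .loop none [.bwd 7764, .bwd 2986, .fwd 7761],
   .loop none [.bwd 7844, .bwd 2622, .fwd 7762],
   .loop none [.bwd 7765, .fwd 3285, .fwd 7762],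
   .loop none [.bwd 7772, .bwd 3314, .fwd 7763],
   .loop none [.bwd 7826, .fwd 3312, .fwd 7763],
   .loop none [.bwd 7844, .fwd 2985, .fwd 7764],
   .loop none [.bwd 7784, .fwd 3851, .fwd 7765],
   .loop none [.bwd 7846, .bwd 3046, .fwd 7765],
   .loop none [.bwd 7767, .bwd 2715, .fwd 7766],
   .loop none [.bwd 7828, .fwd 3788, .fwd 7766],
   .loop none [.bwd 7812, .bwd 3613, .fwd 7766],
   .loop none [.bwd 7826, .fwd 4154, .fwd 7766],
   .loop none [.bwd 7831, .fwd 3875, .fwd 7767],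
   .loop none [.bwd 7770, .bwd 4333, .fwd 7767],
   .loop none [.bwd 7842, .fwd 3878, .fwd 7767],
   .loop none [.bwd 7848, .fwd 4320, .fwd 7768],
   .loop none [.bwd 7813, .bwd 4496, .fwd 7768],
   .loop none [.bwd 7824, .fwd 4315, .fwd 7768],
   .loop none [.bwd 7849, .bwd 4334, .fwd 7769],
   .loop none [.bwd 7840, .bwd 3934, .fwd 7769],
   .loop none [.bwd 7840, .bwd 3370, .fwd 7769],
   .loop none [.bwd 7771, .bwd 4141, .fwd 7769],
   .loop none [.bwd 7843, .fwd 4335, .fwd 7769],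
   .loop none [.bwd 7812, .bwd 3268, .fwd 7770],
   .loop none [.bwd 7829, .bwd 3900, .fwd 7770],
   .loop none [.bwd 7842, .bwd 3901, .fwd 7770],
   .loop none [.bwd 7852, .fwd 4437, .fwd 7771],
   .loop none [.bwd 7837, .bwd 3364, .fwd 7771],
   .loop none [.bwd 7843, .bwd 4434, .fwd 7771],
   .loop none [.bwd 7831, .fwd 3876, .fwd 7772],
   .loop none [.bwd 7844, .fwd 2623, .fwd 7773],
   .loop none [.bwd 7775, .bwd 3766, .fwd 7773],
   .loop none [.bwd 7774, .fwd 3824, .fwd 7773],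
   .loop none [.bwd 7846, .fwd 3009, .fwd 7774],
   .loop none [.bwd 7855, .fwd 3043, .fwd 7774],
   .loop none [.bwd 7855, .fwd 4093, .fwd 7774],
   .loop none [.bwd 7775, .fwd 3029, .fwd 7775],
   .loop none [.bwd 7854, .bwd 4123, .fwd 7776],
   .loop none [.bwd 7778, .fwd 4128, .fwd 7776],
   .loop none [.bwd 7855, .fwd 4091, .fwd 7777],
   .loop none [.bwd 7859, .fwd 4101, .fwd 7777],
   .loop none [.bwd 7856, .fwd 4095, .fwd 7778],
   .loop none [.bwd 7798, .fwd 3264, .fwd 7778],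
   .loop none [.bwd 7858, .fwd 3783, .fwd 7778],
   .loop none [.bwd 7859, .bwd 2669, .fwd 7778],
   .loop none [.bwd 7859, .fwd 4102, .fwd 7778],
   .loop none [.bwd 7780, .fwd 2480, .fwd 7779],
   .loop none [.bwd 7790, .fwd 3860, .fwd 7779],
   .loop none [.bwd 7804, .fwd 3479, .fwd 7779],
   .loop none [.bwd 7794, .fwd 3867, .fwd 7780],
   .loop none [.bwd 7802, .fwd 3460, .fwd 7780],
   .loop none [.bwd 7860, .bwd 4000, .fwd 7781],
   .loop none [.bwd 7799, .bwd 4074, .fwd 7781],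
   .loop none [.bwd 7807, .fwd 4009, .fwd 7781],
   .loop none [.bwd 7861, .fwd 3966, .fwd 7782],
   .loop none [.bwd 7806, .fwd 3607, .fwd 7782],
   .loop none [.bwd 7801, .fwd 4087, .fwd 7782],
   .loop none [.bwd 7800, .fwd 4017, .fwd 7782],
   .loop none [.bwd 7862, .fwd 2943, .fwd 7783],
   .loop none [.bwd 7784, .bwd 3847, .fwd 7783],
   .loop none [.bwd 7784, .bwd 3134, .fwd 7783],
   .loop none [.bwd 7816, .fwd 3050, .fwd 7784],
   .loop none [.bwd 7842, .bwd 4148, .fwd 7785],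
   .loop none [.bwd 7792, .fwd 3210, .fwd 7785],
   .loop none [.bwd 7792, .bwd 3594, .fwd 7785],
   .loop none [.bwd 7843, .fwd 4716, .fwd 7786],
   .loop none [.bwd 7867, .bwd 4708, .fwd 7786],
   .loop none [.bwd 7801, .fwd 3246, .fwd 7786],
   .loop none [.bwd 7788, .fwd 4582, .fwd 7786],
   .loop none [.bwd 7844, .bwd 3127, .fwd 7787],
   .loop none [.bwd 7865, .fwd 4385, .fwd 7787],
   .loop none [.bwd 7816, .fwd 3822, .fwd 7787],
   .loop none [.bwd 7845, .fwd 3850, .fwd 7788],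
   .loop none [.bwd 7869, .bwd 3832, .fwd 7788],
   .loop none [.bwd 7807, .bwd 3170, .fwd 7788],
   .loop none [.bwd 7862, .bwd 4362, .fwd 7788],
   .loop none [.bwd 7866, .fwd 3841, .fwd 7788],
   .loop none [.bwd 7848, .fwd 4153, .fwd 7789],
   .loop none [.bwd 7828, .bwd 3862, .fwd 7790],
   .loop none [.bwd 7794, .fwd 2649, .fwd 7790],
   .loop none [.bwd 7804, .bwd 3999, .fwd 7790],
   .loop none [.bwd 7812, .bwd 4704, .fwd 7791],
   .loop none [.bwd 7874, .fwd 4609, .fwd 7791],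
   .loop none [.bwd 7802, .fwd 3980, .fwd 7791],
   .loop none [.bwd 7792, .bwd 3947, .fwd 7791],
   .loop none [.bwd 7826, .fwd 3507, .fwd 7792],
   .loop none [.bwd 7875, .bwd 3869, .fwd 7792],
   .loop none [.bwd 7849, .fwd 4147, .fwd 7793],
   .loop none [.bwd 7860, .bwd 4004, .fwd 7793],
   .loop none [.bwd 7803, .bwd 4137, .fwd 7793],
   .loop none [.bwd 7867, .fwd 4145, .fwd 7793],
   .loop none [.bwd 7831, .bwd 4149, .fwd 7794],
   .loop none [.bwd 7802, .fwd 3981, .fwd 7794],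
   .loop none [.bwd 7850, .bwd 4718, .fwd 7795],
   .loop none [.bwd 7872, .bwd 4717, .fwd 7795],
   .loop none [.bwd 7858, .fwd 4248, .fwd 7795],
   .loop none [.bwd 7798, .fwd 3231, .fwd 7795],
   .loop none [.bwd 7796, .fwd 4731, .fwd 7795],
   .loop none [.bwd 7851, .fwd 4451, .fwd 7796],
   .loop none [.bwd 7873, .fwd 4667, .fwd 7796],
   .loop none [.bwd 7857, .fwd 4308, .fwd 7796],
   .loop none [.bwd 7870, .fwd 3852, .fwd 7796],
   .loop none [.bwd 7881, .bwd 3853, .fwd 7796],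
   .loop none [.bwd 7881, .fwd 4698, .fwd 7796],
   .loop none [.bwd 7813, .fwd 4675, .fwd 7797],
   .loop none [.bwd 7874, .fwd 4673, .fwd 7797],
   .loop none [.bwd 7859, .fwd 4100, .fwd 7797],
   .loop none [.bwd 7811, .fwd 4269, .fwd 7797],
   .loop none [.bwd 7798, .bwd 4266, .fwd 7797],
   .loop none [.bwd 7798, .bwd 4018, .fwd 7797],
   .loop none [.bwd 7824, .fwd 4020, .fwd 7798],
   .loop none [.bwd 7875, .fwd 4019, .fwd 7798],
   .loop none [.bwd 7835, .fwd 4195, .fwd 7799],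
   .loop none [.bwd 7876, .bwd 4191, .fwd 7799],
   .loop none [.bwd 7866, .bwd 2730, .fwd 7799],
   .loop none [.bwd 7866, .bwd 4039, .fwd 7799],
   .loop none [.bwd 7805, .bwd 3903, .fwd 7799],
   .loop none [.bwd 7807, .bwd 4342, .fwd 7799],
   .loop none [.bwd 7840, .bwd 4037, .fwd 7800],
   .loop none [.bwd 7878, .bwd 4032, .fwd 7800],
   .loop none [.bwd 7862, .fwd 3849, .fwd 7800],
   .loop none [.bwd 7801, .fwd 4086, .fwd 7800],
   .loop none [.bwd 7839, .fwd 4168, .fwd 7801],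
   .loop none [.bwd 7879, .fwd 4167, .fwd 7801],
   .loop none [.bwd 7807, .fwd 4176, .fwd 7801],
   .loop none [.bwd 7832, .fwd 3459, .fwd 7802],
   .loop none [.bwd 7804, .fwd 3987, .fwd 7802],
   .loop none [.bwd 7878, .fwd 4007, .fwd 7802],
   .loop none [.bwd 7804, .fwd 3992, .fwd 7802],
   .loop none [.bwd 7852, .bwd 4766, .fwd 7803],
   .loop none [.bwd 7867, .bwd 4707, .fwd 7803],
   .loop none [.bwd 7829, .fwd 3478, .fwd 7804],
   .loop none [.bwd 7853, .bwd 4346, .fwd 7805],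
   .loop none [.bwd 7884, .bwd 4341, .fwd 7805],
   .loop none [.bwd 7864, .bwd 4063, .fwd 7805],
   .loop none [.bwd 7863, .bwd 4196, .fwd 7805],
   .loop none [.bwd 7882, .bwd 4748, .fwd 7805],
   .loop none [.bwd 7837, .bwd 4077, .fwd 7806],
   .loop none [.bwd 7885, .fwd 4062, .fwd 7806],
   .loop none [.bwd 7806, .fwd 4035, .fwd 7806],
   .loop none [.bwd 7881, .fwd 4270, .fwd 7806],
   .loop none [.bwd 7870, .bwd 4695, .fwd 7806],
   .loop none [.bwd 7880, .bwd 4696, .fwd 7806],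
   .loop none [.bwd 7836, .fwd 4548, .fwd 7807],
   .loop none [.bwd 7886, .bwd 4568, .fwd 7807],
   .loop none [.bwd 7870, .bwd 3277, .fwd 7807],
   .loop none [.bwd 7820, .fwd 4586, .fwd 7808],
   .loop none [.bwd 7814, .bwd 4296, .fwd 7808],
   .loop none [.bwd 7855, .bwd 3042, .fwd 7808],
   .loop none [.bwd 7808, .bwd 3777, .fwd 7808],
   .loop none [.bwd 7825, .bwd 4274, .fwd 7809],
   .loop none [.bwd 7888, .bwd 4260, .fwd 7809],
   .loop none [.bwd 7811, .fwd 3932, .fwd 7809],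
   .loop none [.bwd 7859, .fwd 2670, .fwd 7809],
   .loop none [.bwd 7809, .bwd 4291, .fwd 7809],
   .loop none [.bwd 7814, .bwd 4412, .fwd 7810],
   .loop none [.bwd 7820, .fwd 2977, .fwd 7810],
   .loop none [.bwd 7865, .fwd 4382, .fwd 7810],
   .loop none [.bwd 7810, .bwd 4594, .fwd 7810],
   .loop none [.bwd 7815, .fwd 4610, .fwd 7811],
   .loop none [.bwd 7890, .fwd 4602, .fwd 7811],
   .loop none [.bwd 7881, .fwd 3854, .fwd 7811],
   .loop none [.bwd 7811, .bwd 4297, .fwd 7811],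
   .loop none [.bwd 7832, .fwd 3891, .fwd 7812],
   .loop none [.bwd 7826, .bwd 3555, .fwd 7812],
   .loop none [.bwd 7891, .fwd 4771, .fwd 7813],
   .loop none [.bwd 7823, .bwd 4488, .fwd 7813],
   .loop none [.bwd 7815, .fwd 3386, .fwd 7813],
   .loop none [.bwd 7824, .bwd 3387, .fwd 7813],
   .loop none [.bwd 7824, .bwd 4492, .fwd 7813],
   .loop none [.bwd 7841, .fwd 3026, .fwd 7814],
   .loop none [.bwd 7814, .bwd 4608, .fwd 7814],
   .loop none [.bwd 7892, .fwd 4613, .fwd 7815],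
   .loop none [.bwd 7825, .fwd 3806, .fwd 7815],
   .loop none [.bwd 7815, .bwd 4508, .fwd 7815],
   .loop none [.bwd 7846, .fwd 4105, .fwd 7816],
   .loop none [.bwd 7865, .fwd 4383, .fwd 7816],
   .loop none [.bwd 7865, .fwd 4384, .fwd 7816],
   .loop none [.bwd 7854, .fwd 3823, .fwd 7817],
   .loop none [.bwd 7819, .fwd 3819, .fwd 7817],
   .loop none [.bwd 7855, .bwd 4223, .fwd 7818],
   .loop none [.bwd 7865, .bwd 2971, .fwd 7818],
   .loop none [.bwd 7898, .fwd 4461, .fwd 7818],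
   .loop none [.bwd 7820, .fwd 4409, .fwd 7818],
   .loop none [.bwd 7856, .bwd 4205, .fwd 7819],
   .loop none [.bwd 7897, .fwd 3750, .fwd 7819],
   .loop none [.bwd 7898, .bwd 3076, .fwd 7819],
   .loop none [.bwd 7898, .fwd 4464, .fwd 7819],
   .loop none [.bwd 7820, .bwd 4411, .fwd 7820],
   .loop none [.bwd 7857, .bwd 5074, .fwd 7821],
   .loop none [.bwd 7896, .bwd 5072, .fwd 7821],
   .loop none [.bwd 7851, .bwd 4510, .fwd 7821],
   .loop none [.bwd 7821, .fwd 4498, .fwd 7821],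
   .loop none [.bwd 7822, .bwd 4497, .fwd 7821],
   .loop none [.bwd 7901, .fwd 5073, .fwd 7821],
   .loop none [.bwd 7858, .fwd 4310, .fwd 7822],
   .loop none [.bwd 7897, .bwd 4509, .fwd 7822],
   .loop none [.bwd 7850, .bwd 4473, .fwd 7822],
   .loop none [.bwd 7822, .fwd 4240, .fwd 7822],
   .loop none [.bwd 7901, .bwd 4511, .fwd 7822],
   .loop none [.bwd 7859, .fwd 4249, .fwd 7823],
   .loop none [.bwd 7898, .bwd 4472, .fwd 7823],
   .loop none [.bwd 7825, .bwd 2847, .fwd 7823],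
   .loop none [.bwd 7850, .bwd 3323, .fwd 7824],
   .loop none [.bwd 7900, .bwd 4483, .fwd 7825],
   .loop none [.bwd 7901, .fwd 4301, .fwd 7825],
   .loop none [.bwd 7825, .bwd 4299, .fwd 7825],
   .loop none [.bwd 7842, .fwd 3256, .fwd 7826],
   .loop none [.bwd 7902, .bwd 3421, .fwd 7826],
   .loop none [.bwd 7842, .fwd 3513, .fwd 7826],
   .loop none [.bwd 7860, .fwd 3475, .fwd 7827],
   .loop none [.bwd 7849, .bwd 3481, .fwd 7827],
   .loop none [.bwd 7831, .bwd 2735, .fwd 7828],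
   .loop none [.bwd 7905, .bwd 3786, .fwd 7828],
   .loop none [.bwd 7829, .bwd 3789, .fwd 7828],
   .loop none [.bwd 7832, .fwd 3377, .fwd 7829],
   .loop none [.bwd 7906, .bwd 3469, .fwd 7829],
   .loop none [.bwd 7832, .fwd 3458, .fwd 7829],
   .loop none [.bwd 7861, .fwd 3457, .fwd 7830],
   .loop none [.bwd 7910, .bwd 4184, .fwd 7831],
   .loop none [.bwd 7832, .fwd 3892, .fwd 7831],
   .loop none [.bwd 7911, .bwd 3451, .fwd 7832],
   .loop none [.bwd 7862, .bwd 4517, .fwd 7833],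
   .loop none [.bwd 7840, .fwd 3721, .fwd 7833],
   .loop none [.bwd 7847, .bwd 4518, .fwd 7833],
   .loop none [.bwd 7845, .fwd 4526, .fwd 7833],
   .loop none [.bwd 7863, .bwd 4860, .fwd 7834],
   .loop none [.bwd 7904, .fwd 4961, .fwd 7834],
   .loop none [.bwd 7913, .bwd 4545, .fwd 7834],
   .loop none [.bwd 7853, .fwd 4391, .fwd 7834]]

theorem just39_len : just39.length = 250 := by decide +kernel

theorem just39_ok : cert.okFacts 9750 just39 = true := by decide +kernel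

/-- justifications -/
noncomputable def just40 : List Cert.Just :=
  [.loop none [.bwd 7838, .bwd 4519, .fwd 7834],
   .loop none [.bwd 7905, .fwd 4389, .fwd 7835],
   .loop none [.bwd 7847, .bwd 2885, .fwd 7835],
   .loop none [.bwd 7847, .bwd 4378, .fwd 7835],
   .loop none [.bwd 7853, .bwd 3546, .fwd 7835],
   .loop none [.bwd 7836, .bwd 4514, .fwd 7835],
   .loop none [.bwd 7906, .bwd 4544, .fwd 7836],
   .loop none [.bwd 7845, .fwd 3283, .fwd 7836],
   .loop none [.bwd 7839, .bwd 4448, .fwd 7836],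
   .loop none [.bwd 7908, .fwd 4442, .fwd 7837],
   .loop none [.bwd 7837, .fwd 4430, .fwd 7837],
   .loop none [.bwd 7893, .fwd 4495, .fwd 7837],
   .loop none [.bwd 7916, .bwd 4699, .fwd 7837],
   .loop none [.bwd 7914, .fwd 4800, .fwd 7837],
   .loop none [.bwd 7864, .fwd 4038, .fwd 7838],
   .loop none [.bwd 7909, .bwd 4427, .fwd 7838],
   .loop none [.bwd 7853, .fwd 4443, .fwd 7838],
   .loop none [.bwd 7847, .bwd 3542, .fwd 7838],
   .loop none [.bwd 7915, .bwd 4781, .fwd 7838],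
   .loop none [.bwd 7910, .bwd 4399, .fwd 7839],
   .loop none [.bwd 7843, .bwd 3330, .fwd 7839],
   .loop none [.bwd 7917, .bwd 4405, .fwd 7839],
   .loop none [.bwd 7840, .bwd 4429, .fwd 7839],
   .loop none [.bwd 7911, .bwd 4428, .fwd 7840],
   .loop none [.bwd 7865, .fwd 4587, .fwd 7841],
   .loop none [.bwd 7855, .bwd 4204, .fwd 7841],
   .loop none [.bwd 7912, .fwd 3776, .fwd 7841],
   .loop none [.bwd 7846, .bwd 3014, .fwd 7841],
   .loop none [.bwd 7846, .bwd 4117, .fwd 7841],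
   .loop none [.bwd 7844, .fwd 3699, .fwd 7841],
   .loop none [.bwd 7918, .fwd 4751, .fwd 7843],
   .loop none [.bwd 7915, .fwd 3442, .fwd 7843],
   .loop none [.bwd 7845, .fwd 4564, .fwd 7843],
   .loop none [.bwd 7846, .fwd 4106, .fwd 7844],
   .loop none [.bwd 7919, .fwd 4108, .fwd 7845],
   .loop none [.bwd 7916, .bwd 3297, .fwd 7845],
   .loop none [.bwd 7847, .fwd 4107, .fwd 7845],
   .loop none [.bwd 7866, .bwd 4372, .fwd 7847],
   .loop none [.bwd 7920, .fwd 4529, .fwd 7847],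
   .loop none [.bwd 7891, .bwd 4768, .fwd 7848],
   .loop none [.bwd 7902, .fwd 4327, .fwd 7848],
   .loop none [.bwd 7911, .fwd 3893, .fwd 7849],
   .loop none [.bwd 7852, .fwd 4441, .fwd 7849],
   .loop none [.bwd 7918, .fwd 4332, .fwd 7849],
   .loop none [.bwd 7922, .bwd 4801, .fwd 7850],
   .loop none [.bwd 7914, .bwd 4425, .fwd 7850],
   .loop none [.bwd 7893, .bwd 4808, .fwd 7850],
   .loop none [.bwd 7851, .fwd 4736, .fwd 7850],
   .loop none [.bwd 7923, .fwd 4789, .fwd 7851],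
   .loop none [.bwd 7916, .fwd 4109, .fwd 7851],
   .loop none [.bwd 7893, .bwd 4110, .fwd 7851],
   .loop none [.bwd 7893, .fwd 4799, .fwd 7851],
   .loop none [.bwd 7908, .bwd 3534, .fwd 7852],
   .loop none [.bwd 7918, .bwd 4754, .fwd 7852],
   .loop none [.bwd 7926, .bwd 4513, .fwd 7853],
   .loop none [.bwd 7917, .bwd 4812, .fwd 7853],
   .loop none [.bwd 7913, .fwd 4822, .fwd 7853],
   .loop none [.bwd 7856, .fwd 4121, .fwd 7854],
   .loop none [.bwd 7930, .fwd 4214, .fwd 7855],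
   .loop none [.bwd 7929, .fwd 3780, .fwd 7856],
   .loop none [.bwd 7930, .bwd 3039, .fwd 7856],
   .loop none [.bwd 7930, .fwd 4217, .fwd 7856],
   .loop none [.bwd 7928, .fwd 5105, .fwd 7857],
   .loop none [.bwd 7857, .fwd 4275, .fwd 7857],
   .loop none [.bwd 7889, .bwd 4253, .fwd 7857],
   .loop none [.bwd 7858, .bwd 4272, .fwd 7857],
   .loop none [.bwd 7889, .fwd 5109, .fwd 7857],
   .loop none [.bwd 7929, .bwd 4307, .fwd 7858],
   .loop none [.bwd 7858, .fwd 4129, .fwd 7858],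
   .loop none [.bwd 7889, .bwd 4309, .fwd 7858],
   .loop none [.bwd 7930, .bwd 4246, .fwd 7859],
   .loop none [.bwd 7876, .bwd 4190, .fwd 7860],
   .loop none [.bwd 7886, .fwd 3998, .fwd 7860],
   .loop none [.bwd 7885, .fwd 3600, .fwd 7861],
   .loop none [.bwd 7879, .bwd 4183, .fwd 7861],
   .loop none [.bwd 7878, .fwd 4008, .fwd 7861],
   .loop none [.bwd 7887, .fwd 4566, .fwd 7862],
   .loop none [.bwd 7866, .bwd 4343, .fwd 7862],
   .loop none [.bwd 7933, .fwd 5201, .fwd 7863],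
   .loop none [.bwd 7887, .bwd 4569, .fwd 7863],
   .loop none [.bwd 7880, .fwd 4024, .fwd 7863],
   .loop none [.bwd 7864, .bwd 4344, .fwd 7863],
   .loop none [.bwd 7868, .fwd 5071, .fwd 7863],
   .loop none [.bwd 7935, .bwd 4031, .fwd 7864],
   .loop none [.bwd 7882, .bwd 3967, .fwd 7864],
   .loop none [.bwd 7866, .bwd 3931, .fwd 7864],
   .loop none [.bwd 7868, .bwd 4654, .fwd 7864],
   .loop none [.bwd 7936, .bwd 4381, .fwd 7865],
   .loop none [.bwd 7894, .fwd 4365, .fwd 7866],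
   .loop none [.bwd 7918, .fwd 4709, .fwd 7867],
   .loop none [.bwd 7869, .bwd 4714, .fwd 7867],
   .loop none [.bwd 7915, .fwd 4870, .fwd 7868],
   .loop none [.bwd 7938, .fwd 4981, .fwd 7868],
   .loop none [.bwd 7882, .bwd 4747, .fwd 7868],
   .loop none [.bwd 7887, .fwd 4583, .fwd 7868],
   .loop none [.bwd 7882, .fwd 3968, .fwd 7868],
   .loop none [.bwd 7919, .fwd 3833, .fwd 7869],
   .loop none [.bwd 7936, .fwd 4581, .fwd 7869],
   .loop none [.bwd 7894, .fwd 3830, .fwd 7869],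
   .loop none [.bwd 7916, .bwd 4655, .fwd 7870],
   .loop none [.bwd 7940, .bwd 4653, .fwd 7870],
   .loop none [.bwd 7870, .fwd 4670, .fwd 7870],
   .loop none [.bwd 7880, .bwd 4570, .fwd 7870],
   .loop none [.bwd 7921, .bwd 5379, .fwd 7871],
   .loop none [.bwd 7877, .bwd 4143, .fwd 7871],
   .loop none [.bwd 7922, .fwd 4849, .fwd 7872],
   .loop none [.bwd 7943, .fwd 4723, .fwd 7872],
   .loop none [.bwd 7875, .fwd 3870, .fwd 7872],
   .loop none [.bwd 7873, .fwd 4732, .fwd 7872],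
   .loop none [.bwd 7923, .bwd 5054, .fwd 7873],
   .loop none [.bwd 7942, .fwd 5152, .fwd 7873],
   .loop none [.bwd 7940, .fwd 3837, .fwd 7873],
   .loop none [.bwd 7947, .bwd 3838, .fwd 7873],
   .loop none [.bwd 7947, .fwd 5153, .fwd 7873],
   .loop none [.bwd 7891, .bwd 4776, .fwd 7874],
   .loop none [.bwd 7944, .bwd 4674, .fwd 7874],
   .loop none [.bwd 7890, .fwd 3923, .fwd 7874],
   .loop none [.bwd 7875, .bwd 3924, .fwd 7874],
   .loop none [.bwd 7875, .bwd 4702, .fwd 7874],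
   .loop none [.bwd 7902, .fwd 4703, .fwd 7875],
   .loop none [.bwd 7945, .bwd 4468, .fwd 7875],
   .loop none [.bwd 7905, .fwd 4192, .fwd 7876],
   .loop none [.bwd 7894, .fwd 4368, .fwd 7876],
   .loop none [.bwd 7884, .bwd 3951, .fwd 7876],
   .loop none [.bwd 7886, .bwd 4669, .fwd 7876],
   .loop none [.bwd 7924, .fwd 5272, .fwd 7877],
   .loop none [.bwd 7932, .fwd 5086, .fwd 7877],
   .loop none [.bwd 7883, .bwd 5056, .fwd 7877],
   .loop none [.bwd 7937, .fwd 5087, .fwd 7877],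
   .loop none [.bwd 7911, .bwd 4834, .fwd 7878],
   .loop none [.bwd 7950, .bwd 4823, .fwd 7878],
   .loop none [.bwd 7936, .bwd 3753, .fwd 7878],
   .loop none [.bwd 7879, .fwd 4941, .fwd 7878],
   .loop none [.bwd 7910, .fwd 4185, .fwd 7879],
   .loop none [.bwd 7886, .fwd 4664, .fwd 7879],
   .loop none [.bwd 7914, .fwd 4735, .fwd 7880],
   .loop none [.bwd 7946, .fwd 4734, .fwd 7880],
   .loop none [.bwd 7880, .fwd 4719, .fwd 7880],
   .loop none [.bwd 7887, .bwd 4571, .fwd 7880],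
   .loop none [.bwd 7893, .bwd 4821, .fwd 7881],
   .loop none [.bwd 7947, .bwd 5066, .fwd 7881],
   .loop none [.bwd 7889, .fwd 5175, .fwd 7881],
   .loop none [.bwd 7917, .bwd 4743, .fwd 7882],
   .loop none [.bwd 7952, .bwd 4742, .fwd 7882],
   .loop none [.bwd 7887, .bwd 5200, .fwd 7882],
   .loop none [.bwd 7925, .fwd 5267, .fwd 7883],
   .loop none [.bwd 7944, .bwd 4777, .fwd 7883],
   .loop none [.bwd 7937, .bwd 5261, .fwd 7883],
   .loop none [.bwd 7926, .bwd 5029, .fwd 7884],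
   .loop none [.bwd 7955, .bwd 4853, .fwd 7884],
   .loop none [.bwd 7933, .bwd 4193, .fwd 7884],
   .loop none [.bwd 7952, .bwd 5030, .fwd 7884],
   .loop none [.bwd 7908, .fwd 5008, .fwd 7885],
   .loop none [.bwd 7954, .bwd 4814, .fwd 7885],
   .loop none [.bwd 7947, .bwd 4779, .fwd 7885],
   .loop none [.bwd 7940, .bwd 4697, .fwd 7885],
   .loop none [.bwd 7946, .fwd 5064, .fwd 7885],
   .loop none [.bwd 7906, .bwd 4835, .fwd 7886],
   .loop none [.bwd 7940, .fwd 3959, .fwd 7886],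
   .loop none [.bwd 7913, .fwd 4565, .fwd 7887],
   .loop none [.bwd 7956, .bwd 4572, .fwd 7887],
   .loop none [.bwd 7900, .bwd 4595, .fwd 7888],
   .loop none [.bwd 7930, .fwd 3040, .fwd 7888],
   .loop none [.bwd 7888, .bwd 4292, .fwd 7888],
   .loop none [.bwd 7901, .bwd 4300, .fwd 7889],
   .loop none [.bwd 7959, .bwd 4282, .fwd 7889],
   .loop none [.bwd 7889, .fwd 4251, .fwd 7889],
   .loop none [.bwd 7892, .fwd 4607, .fwd 7890],
   .loop none [.bwd 7947, .fwd 3839, .fwd 7890],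
   .loop none [.bwd 7890, .bwd 4599, .fwd 7890],
   .loop none [.bwd 7892, .fwd 3409, .fwd 7891],
   .loop none [.bwd 7902, .bwd 3410, .fwd 7891],
   .loop none [.bwd 7902, .bwd 4761, .fwd 7891],
   .loop none [.bwd 7892, .bwd 4621, .fwd 7892],
   .loop none [.bwd 7963, .fwd 4820, .fwd 7893],
   .loop none [.bwd 7901, .fwd 4838, .fwd 7893],
   .loop none [.bwd 7920, .bwd 4615, .fwd 7894],
   .loop none [.bwd 7935, .fwd 4417, .fwd 7894],
   .loop none [.bwd 7936, .fwd 4580, .fwd 7894],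
   .loop none [.bwd 7927, .fwd 5118, .fwd 7895],
   .loop none [.bwd 7939, .fwd 3817, .fwd 7895],
   .loop none [.bwd 7899, .fwd 5077, .fwd 7895],
   .loop none [.bwd 7928, .bwd 5085, .fwd 7896],
   .loop none [.bwd 7967, .bwd 5075, .fwd 7896],
   .loop none [.bwd 7896, .fwd 4646, .fwd 7896],
   .loop none [.bwd 7897, .bwd 4645, .fwd 7896],
   .loop none [.bwd 7969, .fwd 5082, .fwd 7896],
   .loop none [.bwd 7929, .bwd 5079, .fwd 7897],
   .loop none [.bwd 7966, .bwd 4636, .fwd 7897],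
   .loop none [.bwd 7897, .fwd 4467, .fwd 7897],
   .loop none [.bwd 7969, .bwd 5078, .fwd 7897],
   .loop none [.bwd 7930, .fwd 4585, .fwd 7898],
   .loop none [.bwd 7968, .fwd 4482, .fwd 7898],
   .loop none [.bwd 7900, .bwd 3077, .fwd 7898],
   .loop none [.bwd 7931, .bwd 5135, .fwd 7899],
   .loop none [.bwd 7964, .fwd 4456, .fwd 7899],
   .loop none [.bwd 7968, .bwd 4643, .fwd 7899],
   .loop none [.bwd 7966, .fwd 4637, .fwd 7899],
   .loop none [.bwd 7968, .fwd 4638, .fwd 7899],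
   .loop none [.bwd 7969, .fwd 4506, .fwd 7900],
   .loop none [.bwd 7900, .bwd 4507, .fwd 7900],
   .loop none [.bwd 7969, .bwd 4505, .fwd 7901],
   .loop none [.bwd 7901, .fwd 4474, .fwd 7901],
   .loop none [.bwd 7922, .bwd 3879, .fwd 7902],
   .loop none [.bwd 7932, .bwd 4881, .fwd 7903],
   .loop none [.bwd 7907, .bwd 3445, .fwd 7903],
   .loop none [.bwd 7924, .bwd 4888, .fwd 7903],
   .loop none [.bwd 7933, .fwd 5042, .fwd 7904],
   .loop none [.bwd 7974, .bwd 4877, .fwd 7904],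
   .loop none [.bwd 7926, .fwd 4396, .fwd 7904],
   .loop none [.bwd 7909, .bwd 4962, .fwd 7904],
   .loop none [.bwd 7975, .bwd 4390, .fwd 7905],
   .loop none [.bwd 7920, .fwd 4534, .fwd 7905],
   .loop none [.bwd 7926, .bwd 3564, .fwd 7905],
   .loop none [.bwd 7906, .bwd 4791, .fwd 7905],
   .loop none [.bwd 7976, .bwd 4649, .fwd 7906],
   .loop none [.bwd 7910, .bwd 4786, .fwd 7906],
   .loop none [.bwd 7934, .fwd 4889, .fwd 7907],
   .loop none [.bwd 7982, .fwd 4818, .fwd 7908],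
   .loop none [.bwd 7963, .bwd 4767, .fwd 7908],
   .loop none [.bwd 7979, .bwd 4798, .fwd 7908],
   .loop none [.bwd 7977, .fwd 4819, .fwd 7908],
   .loop none [.bwd 7935, .bwd 4852, .fwd 7909],
   .loop none [.bwd 7981, .fwd 4857, .fwd 7909],
   .loop none [.bwd 7920, .bwd 4419, .fwd 7909],
   .loop none [.bwd 7978, .bwd 4876, .fwd 7909],
   .loop none [.bwd 7983, .bwd 4393, .fwd 7910],
   .loop none [.bwd 7985, .fwd 4539, .fwd 7910],
   .loop none [.bwd 7911, .bwd 4832, .fwd 7910],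
   .loop none [.bwd 7984, .fwd 4831, .fwd 7911],
   .loop none [.bwd 7912, .bwd 3894, .fwd 7911],
   .loop none [.bwd 7936, .bwd 4588, .fwd 7912],
   .loop none [.bwd 7920, .bwd 4562, .fwd 7912],
   .loop none [.bwd 7919, .bwd 4563, .fwd 7912],
   .loop none [.bwd 7987, .bwd 4554, .fwd 7913],
   .loop none [.bwd 7915, .bwd 4567, .fwd 7913],
   .loop none [.bwd 7914, .fwd 4549, .fwd 7913],
   .loop none [.bwd 7917, .fwd 4869, .fwd 7913],
   .loop none [.bwd 7977, .fwd 4809, .fwd 7914],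
   .loop none [.bwd 7914, .fwd 4802, .fwd 7914],
   .loop none [.bwd 7916, .fwd 4547, .fwd 7914],
   .loop none [.bwd 7978, .bwd 4867, .fwd 7915],
   .loop none [.bwd 7917, .bwd 4811, .fwd 7915],
   .loop none [.bwd 7917, .fwd 3441, .fwd 7915],
   .loop none [.bwd 7979, .bwd 4780, .fwd 7916],
   .loop none [.bwd 7916, .fwd 4796, .fwd 7916],
   .loop none [.bwd 7985, .bwd 4810, .fwd 7917],
   .loop none [.bwd 7978, .fwd 3466, .fwd 7918],
   .loop none [.bwd 7919, .bwd 4759, .fwd 7918],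
   .loop none [.bwd 7979, .bwd 3577, .fwd 7919]]

theorem just40_len : just40.length = 250 := by decide +kernel

theorem just40_ok : cert.okFacts 10000 just40 = true := by decide +kernel

/-- justifications -/
noncomputable def just41 : List Cert.Just :=
  [.loop none [.bwd 7920, .fwd 4116, .fwd 7919],
   .loop none [.bwd 7924, .fwd 4326, .fwd 7921],
   .loop none [.bwd 7961, .bwd 4845, .fwd 7921],
   .loop none [.bwd 7972, .fwd 5199, .fwd 7921],
   .loop none [.bwd 7993, .fwd 4806, .fwd 7922],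
   .loop none [.bwd 7977, .bwd 4762, .fwd 7922],
   .loop none [.bwd 7963, .bwd 4846, .fwd 7922],
   .loop none [.bwd 7923, .fwd 4807, .fwd 7922],
   .loop none [.bwd 7992, .fwd 5051, .fwd 7923],
   .loop none [.bwd 7979, .fwd 4118, .fwd 7923],
   .loop none [.bwd 7963, .bwd 4119, .fwd 7923],
   .loop none [.bwd 7963, .fwd 4842, .fwd 7923],
   .loop none [.bwd 7984, .fwd 4929, .fwd 7924],
   .loop none [.bwd 7925, .bwd 5007, .fwd 7924],
   .loop none [.bwd 7988, .fwd 5005, .fwd 7924],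
   .loop none [.bwd 7961, .fwd 4775, .fwd 7925],
   .loop none [.bwd 7982, .bwd 5013, .fwd 7925],
   .loop none [.bwd 7988, .bwd 4992, .fwd 7925],
   .loop none [.bwd 7996, .fwd 5017, .fwd 7926],
   .loop none [.bwd 7985, .bwd 4868, .fwd 7926],
   .loop none [.bwd 7987, .fwd 4985, .fwd 7926],
   .loop none [.bwd 7989, .bwd 4113, .fwd 7927],
   .loop none [.bwd 7931, .fwd 5101, .fwd 7927],
   .loop none [.bwd 7999, .bwd 5099, .fwd 7928],
   .loop none [.bwd 7928, .fwd 4632, .fwd 7928],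
   .loop none [.bwd 7959, .bwd 4628, .fwd 7928],
   .loop none [.bwd 7929, .bwd 4631, .fwd 7928],
   .loop none [.bwd 7959, .fwd 5106, .fwd 7928],
   .loop none [.bwd 7998, .bwd 4623, .fwd 7929],
   .loop none [.bwd 7929, .fwd 4220, .fwd 7929],
   .loop none [.bwd 7959, .bwd 5102, .fwd 7929],
   .loop none [.bwd 8000, .fwd 4259, .fwd 7930],
   .loop none [.bwd 7990, .fwd 4198, .fwd 7931],
   .loop none [.bwd 8000, .bwd 4629, .fwd 7931],
   .loop none [.bwd 7998, .fwd 4624, .fwd 7931],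
   .loop none [.bwd 8000, .fwd 4625, .fwd 7931],
   .loop none [.bwd 7934, .bwd 3971, .fwd 7932],
   .loop none [.bwd 7948, .bwd 5207, .fwd 7932],
   .loop none [.bwd 7957, .fwd 5002, .fwd 7932],
   .loop none [.bwd 8003, .bwd 4998, .fwd 7933],
   .loop none [.bwd 7946, .fwd 4706, .fwd 7933],
   .loop none [.bwd 7935, .bwd 5043, .fwd 7933],
   .loop none [.bwd 7938, .fwd 5088, .fwd 7933],
   .loop none [.bwd 7954, .fwd 4945, .fwd 7934],
   .loop none [.bwd 7951, .bwd 5236, .fwd 7934],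
   .loop none [.bwd 7950, .fwd 4949, .fwd 7934],
   .loop none [.bwd 8005, .bwd 4954, .fwd 7935],
   .loop none [.bwd 7952, .bwd 3994, .fwd 7935],
   .loop none [.bwd 7938, .bwd 4990, .fwd 7935],
   .loop none [.bwd 7956, .bwd 4579, .fwd 7936],
   .loop none [.bwd 7988, .bwd 5123, .fwd 7937],
   .loop none [.bwd 7945, .bwd 4701, .fwd 7937],
   .loop none [.bwd 7939, .bwd 5110, .fwd 7937],
   .loop none [.bwd 7978, .fwd 4974, .fwd 7938],
   .loop none [.bwd 8008, .bwd 4982, .fwd 7938],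
   .loop none [.bwd 7956, .bwd 4715, .fwd 7938],
   .loop none [.bwd 7952, .fwd 3995, .fwd 7938],
   .loop none [.bwd 7989, .bwd 5112, .fwd 7939],
   .loop none [.bwd 8006, .bwd 5092, .fwd 7939],
   .loop none [.bwd 7964, .fwd 5111, .fwd 7939],
   .loop none [.bwd 7979, .fwd 5047, .fwd 7940],
   .loop none [.bwd 8010, .fwd 4682, .fwd 7940],
   .loop none [.bwd 7946, .bwd 5003, .fwd 7940],
   .loop none [.bwd 7991, .fwd 5510, .fwd 7941],
   .loop none [.bwd 7965, .fwd 4312, .fwd 7941],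
   .loop none [.bwd 7949, .bwd 5384, .fwd 7941],
   .loop none [.bwd 7992, .bwd 5903, .fwd 7942],
   .loop none [.bwd 8011, .fwd 5170, .fwd 7942],
   .loop none [.bwd 7943, .bwd 5190, .fwd 7942],
   .loop none [.bwd 8016, .fwd 5159, .fwd 7942],
   .loop none [.bwd 7993, .bwd 5387, .fwd 7943],
   .loop none [.bwd 8012, .fwd 4722, .fwd 7943],
   .loop none [.bwd 7945, .fwd 5189, .fwd 7943],
   .loop none [.bwd 8016, .bwd 5166, .fwd 7943],
   .loop none [.bwd 7961, .bwd 5271, .fwd 7944],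
   .loop none [.bwd 8013, .bwd 4479, .fwd 7944],
   .loop none [.bwd 7945, .bwd 5183, .fwd 7944],
   .loop none [.bwd 7960, .bwd 5184, .fwd 7944],
   .loop none [.bwd 7945, .bwd 5185, .fwd 7944],
   .loop none [.bwd 7972, .bwd 5386, .fwd 7945],
   .loop none [.bwd 8014, .bwd 4469, .fwd 7945],
   .loop none [.bwd 7977, .bwd 5063, .fwd 7946],
   .loop none [.bwd 7956, .bwd 5004, .fwd 7946],
   .loop none [.bwd 7963, .bwd 5022, .fwd 7947],
   .loop none [.bwd 8016, .fwd 5060, .fwd 7947],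
   .loop none [.bwd 7975, .bwd 5396, .fwd 7948],
   .loop none [.bwd 7951, .bwd 4181, .fwd 7948],
   .loop none [.bwd 7955, .bwd 5212, .fwd 7948],
   .loop none [.bwd 7964, .bwd 5205, .fwd 7948],
   .loop none [.bwd 7957, .fwd 5219, .fwd 7948],
   .loop none [.bwd 7994, .bwd 5324, .fwd 7949],
   .loop none [.bwd 8002, .fwd 5388, .fwd 7949],
   .loop none [.bwd 7953, .bwd 5325, .fwd 7949],
   .loop none [.bwd 8007, .fwd 5391, .fwd 7949],
   .loop none [.bwd 7984, .bwd 4948, .fwd 7950],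
   .loop none [.bwd 8021, .bwd 4824, .fwd 7950],
   .loop none [.bwd 7957, .fwd 4950, .fwd 7950],
   .loop none [.bwd 8006, .bwd 5091, .fwd 7950],
   .loop none [.bwd 7951, .fwd 5090, .fwd 7950],
   .loop none [.bwd 7983, .fwd 5400, .fwd 7951],
   .loop none [.bwd 7957, .bwd 5227, .fwd 7951],
   .loop none [.bwd 7985, .bwd 4965, .fwd 7952],
   .loop none [.bwd 8023, .bwd 4871, .fwd 7952],
   .loop none [.bwd 7956, .bwd 5211, .fwd 7952],
   .loop none [.bwd 7995, .fwd 5275, .fwd 7953],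
   .loop none [.bwd 7980, .fwd 4045, .fwd 7953],
   .loop none [.bwd 8013, .fwd 5349, .fwd 7953],
   .loop none [.bwd 8007, .fwd 5392, .fwd 7953],
   .loop none [.bwd 7982, .bwd 4944, .fwd 7954],
   .loop none [.bwd 8024, .bwd 4815, .fwd 7954],
   .loop none [.bwd 8010, .bwd 5154, .fwd 7954],
   .loop none [.bwd 8018, .fwd 5069, .fwd 7954],
   .loop none [.bwd 7996, .fwd 5273, .fwd 7955],
   .loop none [.bwd 8025, .bwd 4854, .fwd 7955],
   .loop none [.bwd 8023, .bwd 5252, .fwd 7955],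
   .loop none [.bwd 7987, .bwd 4989, .fwd 7956],
   .loop none [.bwd 8028, .bwd 5213, .fwd 7956],
   .loop none [.bwd 7976, .bwd 5001, .fwd 7957],
   .loop none [.bwd 8010, .bwd 5218, .fwd 7957],
   .loop none [.bwd 7971, .fwd 5542, .fwd 7958],
   .loop none [.bwd 7962, .bwd 4620, .fwd 7958],
   .loop none [.bwd 8000, .fwd 4633, .fwd 7958],
   .loop none [.bwd 7958, .bwd 4634, .fwd 7958],
   .loop none [.bwd 7969, .bwd 4635, .fwd 7959],
   .loop none [.bwd 8031, .bwd 5176, .fwd 7959],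
   .loop none [.bwd 7959, .fwd 4626, .fwd 7959],
   .loop none [.bwd 7962, .fwd 5506, .fwd 7960],
   .loop none [.bwd 7971, .bwd 4606, .fwd 7960],
   .loop none [.bwd 8016, .fwd 5167, .fwd 7960],
   .loop none [.bwd 7960, .bwd 5168, .fwd 7960],
   .loop none [.bwd 7972, .bwd 4847, .fwd 7961],
   .loop none [.bwd 7962, .fwd 4844, .fwd 7961],
   .loop none [.bwd 7972, .bwd 4848, .fwd 7961],
   .loop none [.bwd 7962, .bwd 4841, .fwd 7962],
   .loop none [.bwd 8035, .bwd 4839, .fwd 7963],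
   .loop none [.bwd 7990, .bwd 5122, .fwd 7964],
   .loop none [.bwd 8005, .fwd 5148, .fwd 7964],
   .loop none [.bwd 8006, .fwd 5115, .fwd 7964],
   .loop none [.bwd 7997, .bwd 5598, .fwd 7965],
   .loop none [.bwd 8009, .fwd 5116, .fwd 7965],
   .loop none [.bwd 7970, .fwd 5134, .fwd 7965],
   .loop none [.bwd 7998, .fwd 5445, .fwd 7966],
   .loop none [.bwd 8037, .bwd 4720, .fwd 7966],
   .loop none [.bwd 7967, .fwd 5084, .fwd 7966],
   .loop none [.bwd 7999, .bwd 5136, .fwd 7967],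
   .loop none [.bwd 8038, .bwd 5132, .fwd 7967],
   .loop none [.bwd 8041, .fwd 5141, .fwd 7967],
   .loop none [.bwd 8041, .fwd 5762, .fwd 7967],
   .loop none [.bwd 8000, .fwd 5444, .fwd 7968],
   .loop none [.bwd 8039, .fwd 4481, .fwd 7968],
   .loop none [.bwd 8006, .fwd 4584, .fwd 7968],
   .loop none [.bwd 7971, .bwd 4647, .fwd 7968],
   .loop none [.bwd 8041, .fwd 5761, .fwd 7969],
   .loop none [.bwd 7969, .fwd 4641, .fwd 7969],
   .loop none [.bwd 8001, .fwd 5473, .fwd 7970],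
   .loop none [.bwd 8014, .fwd 4470, .fwd 7970],
   .loop none [.bwd 8036, .fwd 5619, .fwd 7970],
   .loop none [.bwd 8039, .bwd 5531, .fwd 7970],
   .loop none [.bwd 8037, .fwd 5629, .fwd 7970],
   .loop none [.bwd 8039, .fwd 5518, .fwd 7970],
   .loop none [.bwd 8041, .bwd 5146, .fwd 7971],
   .loop none [.bwd 7971, .bwd 4648, .fwd 7971],
   .loop none [.bwd 7988, .bwd 4753, .fwd 7972],
   .loop none [.bwd 7993, .bwd 5196, .fwd 7972],
   .loop none [.bwd 8002, .bwd 5302, .fwd 7973],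
   .loop none [.bwd 7980, .bwd 4887, .fwd 7973],
   .loop none [.bwd 7994, .fwd 5595, .fwd 7973],
   .loop none [.bwd 8003, .bwd 4895, .fwd 7974],
   .loop none [.bwd 8046, .bwd 4882, .fwd 7974],
   .loop none [.bwd 7981, .bwd 4964, .fwd 7974],
   .loop none [.bwd 8047, .bwd 4351, .fwd 7975],
   .loop none [.bwd 7983, .fwd 4394, .fwd 7975],
   .loop none [.bwd 7996, .bwd 5034, .fwd 7975],
   .loop none [.bwd 7990, .fwd 5026, .fwd 7975],
   .loop none [.bwd 7976, .bwd 4996, .fwd 7975],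
   .loop none [.bwd 8048, .bwd 4650, .fwd 7976],
   .loop none [.bwd 7984, .bwd 4833, .fwd 7976],
   .loop none [.bwd 7983, .fwd 4938, .fwd 7976],
   .loop none [.bwd 8050, .fwd 5713, .fwd 7977],
   .loop none [.bwd 7987, .fwd 4843, .fwd 7977],
   .loop none [.bwd 7979, .fwd 4880, .fwd 7977],
   .loop none [.bwd 8051, .fwd 4875, .fwd 7978],
   .loop none [.bwd 7987, .bwd 4760, .fwd 7978],
   .loop none [.bwd 7985, .fwd 3465, .fwd 7978],
   .loop none [.bwd 8052, .bwd 4797, .fwd 7979],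
   .loop none [.bwd 8004, .fwd 5297, .fwd 7980],
   .loop none [.bwd 8020, .fwd 4906, .fwd 7980],
   .loop none [.bwd 8005, .bwd 5439, .fwd 7981],
   .loop none [.bwd 8053, .fwd 4856, .fwd 7981],
   .loop none [.bwd 7990, .fwd 5037, .fwd 7981],
   .loop none [.bwd 8051, .bwd 4988, .fwd 7981],
   .loop none [.bwd 8054, .fwd 4817, .fwd 7982],
   .loop none [.bwd 8052, .bwd 5053, .fwd 7982],
   .loop none [.bwd 8050, .fwd 5716, .fwd 7982],
   .loop none [.bwd 8055, .bwd 4744, .fwd 7983],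
   .loop none [.bwd 7984, .bwd 4939, .fwd 7983],
   .loop none [.bwd 8020, .fwd 4830, .fwd 7984],
   .loop none [.bwd 7986, .fwd 5096, .fwd 7984],
   .loop none [.bwd 8058, .fwd 4866, .fwd 7985],
   .loop none [.bwd 7987, .fwd 4986, .fwd 7985],
   .loop none [.bwd 8006, .bwd 5438, .fwd 7986],
   .loop none [.bwd 8000, .fwd 4616, .fwd 7986],
   .loop none [.bwd 7990, .bwd 5097, .fwd 7986],
   .loop none [.bwd 7989, .fwd 5098, .fwd 7986],
   .loop none [.bwd 8060, .fwd 5433, .fwd 7987],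
   .loop none [.bwd 7989, .bwd 5045, .fwd 7988],
   .loop none [.bwd 8051, .fwd 4991, .fwd 7988],
   .loop none [.bwd 8052, .bwd 5052, .fwd 7989],
   .loop none [.bwd 7990, .fwd 5046, .fwd 7989],
   .loop none [.bwd 7997, .bwd 4305, .fwd 7991],
   .loop none [.bwd 7994, .bwd 5501, .fwd 7991],
   .loop none [.bwd 8033, .bwd 5504, .fwd 7991],
   .loop none [.bwd 8044, .bwd 5505, .fwd 7991],
   .loop none [.bwd 8064, .bwd 5155, .fwd 7992],
   .loop none [.bwd 8035, .bwd 5377, .fwd 7992],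
   .loop none [.bwd 7993, .bwd 5197, .fwd 7992],
   .loop none [.bwd 8035, .fwd 5376, .fwd 7992],
   .loop none [.bwd 8065, .fwd 4805, .fwd 7993],
   .loop none [.bwd 8035, .bwd 5378, .fwd 7993],
   .loop none [.bwd 8021, .fwd 4825, .fwd 7994],
   .loop none [.bwd 8020, .bwd 5283, .fwd 7994],
   .loop none [.bwd 7995, .bwd 5269, .fwd 7994],
   .loop none [.bwd 8061, .fwd 5456, .fwd 7994],
   .loop none [.bwd 8004, .bwd 4029, .fwd 7995],
   .loop none [.bwd 8033, .bwd 5270, .fwd 7995],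
   .loop none [.bwd 8054, .bwd 5280, .fwd 7995],
   .loop none [.bwd 8061, .fwd 5457, .fwd 7995],
   .loop none [.bwd 8068, .bwd 5016, .fwd 7996],
   .loop none [.bwd 8058, .bwd 5019, .fwd 7996],
   .loop none [.bwd 8060, .fwd 5436, .fwd 7996],
   .loop none [.bwd 8062, .bwd 5367, .fwd 7997],
   .loop none [.bwd 8001, .fwd 5366, .fwd 7997],
   .loop none [.bwd 8070, .bwd 4803, .fwd 7998],
   .loop none [.bwd 8031, .fwd 5581, .fwd 7998],
   .loop none [.bwd 7999, .fwd 5108, .fwd 7998],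
   .loop none [.bwd 8071, .fwd 5157, .fwd 7999],
   .loop none [.bwd 8031, .fwd 5579, .fwd 7999],
   .loop none [.bwd 8031, .fwd 5582, .fwd 7999],
   .loop none [.bwd 8072, .fwd 4258, .fwd 8000],
   .loop none [.bwd 8044, .fwd 4244, .fwd 8001],
   .loop none [.bwd 8063, .bwd 5428, .fwd 8001],
   .loop none [.bwd 8072, .fwd 5478, .fwd 8001],
   .loop none [.bwd 8070, .fwd 5442, .fwd 8001],
   .loop none [.bwd 8072, .fwd 5443, .fwd 8001],
   .loop none [.bwd 8059, .bwd 4551, .fwd 8002],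
   .loop none [.bwd 8004, .bwd 5223, .fwd 8002],
   .loop none [.bwd 8019, .bwd 5398, .fwd 8002],
   .loop none [.bwd 8029, .fwd 5222, .fwd 8002],
   .loop none [.bwd 8075, .bwd 5220, .fwd 8003],
   .loop none [.bwd 8018, .fwd 5412, .fwd 8003]]

theorem just41_len : just41.length = 250 := by decide +kernel

theorem just41_ok : cert.okFacts 10250 just41 = true := by decide +kernel

/-- justifications -/
noncomputable def just42 : List Cert.Just :=
  [.loop none [.bwd 8005, .bwd 5243, .fwd 8003],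
   .loop none [.bwd 8008, .fwd 5415, .fwd 8003],
   .loop none [.bwd 8024, .fwd 5234, .fwd 8004],
   .loop none [.bwd 8022, .fwd 5405, .fwd 8004],
   .loop none [.bwd 8021, .fwd 5235, .fwd 8004],
   .loop none [.bwd 8077, .bwd 4955, .fwd 8005],
   .loop none [.bwd 8008, .bwd 5260, .fwd 8005],
   .loop none [.bwd 8045, .bwd 4541, .fwd 8006],
   .loop none [.bwd 8028, .fwd 5705, .fwd 8006],
   .loop none [.bwd 8061, .bwd 5647, .fwd 8007],
   .loop none [.bwd 8055, .fwd 4745, .fwd 8007],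
   .loop none [.bwd 8014, .bwd 5648, .fwd 8007],
   .loop none [.bwd 8009, .bwd 5113, .fwd 8007],
   .loop none [.bwd 8051, .bwd 5877, .fwd 8008],
   .loop none [.bwd 8079, .bwd 4863, .fwd 8008],
   .loop none [.bwd 8023, .bwd 5259, .fwd 8008],
   .loop none [.bwd 8062, .bwd 5614, .fwd 8009],
   .loop none [.bwd 8048, .fwd 4651, .fwd 8009],
   .loop none [.bwd 8045, .bwd 5693, .fwd 8009],
   .loop none [.bwd 8036, .fwd 5114, .fwd 8009],
   .loop none [.bwd 8052, .fwd 5819, .fwd 8010],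
   .loop none [.bwd 8081, .fwd 4681, .fwd 8010],
   .loop none [.bwd 8018, .bwd 5767, .fwd 8010],
   .loop none [.bwd 8064, .bwd 5893, .fwd 8011],
   .loop none [.bwd 8038, .fwd 5169, .fwd 8011],
   .loop none [.bwd 8012, .bwd 5735, .fwd 8011],
   .loop none [.bwd 8084, .fwd 5889, .fwd 8011],
   .loop none [.bwd 8065, .fwd 5594, .fwd 8012],
   .loop none [.bwd 8037, .fwd 4721, .fwd 8012],
   .loop none [.bwd 8014, .bwd 5655, .fwd 8012],
   .loop none [.bwd 8084, .fwd 5749, .fwd 8012],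
   .loop none [.bwd 8033, .bwd 5346, .fwd 8013],
   .loop none [.bwd 8039, .bwd 4480, .fwd 8013],
   .loop none [.bwd 8014, .bwd 5464, .fwd 8013],
   .loop none [.bwd 8032, .fwd 5548, .fwd 8013],
   .loop none [.bwd 8014, .bwd 5463, .fwd 8013],
   .loop none [.bwd 8044, .fwd 5453, .fwd 8014],
   .loop none [.bwd 8066, .bwd 6295, .fwd 8015],
   .loop none [.bwd 8083, .fwd 6368, .fwd 8015],
   .loop none [.bwd 8082, .fwd 5150, .fwd 8015],
   .loop none [.bwd 8082, .bwd 6308, .fwd 8015],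
   .loop none [.bwd 8017, .bwd 5901, .fwd 8015],
   .loop none [.bwd 8035, .fwd 5543, .fwd 8016],
   .loop none [.bwd 8084, .fwd 5180, .fwd 8016],
   .loop none [.bwd 8087, .fwd 5059, .fwd 8016],
   .loop none [.bwd 8067, .fwd 5902, .fwd 8017],
   .loop none [.bwd 8085, .fwd 5897, .fwd 8017],
   .loop none [.bwd 8078, .bwd 5910, .fwd 8017],
   .loop none [.bwd 8042, .bwd 5911, .fwd 8017],
   .loop none [.bwd 8087, .bwd 6257, .fwd 8017],
   .loop none [.bwd 8050, .bwd 5972, .fwd 8018],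
   .loop none [.bwd 8088, .fwd 5913, .fwd 8018],
   .loop none [.bwd 8028, .fwd 5704, .fwd 8018],
   .loop none [.bwd 8047, .bwd 5678, .fwd 8019],
   .loop none [.bwd 8063, .fwd 4339, .fwd 8019],
   .loop none [.bwd 8022, .bwd 5399, .fwd 8019],
   .loop none [.bwd 8025, .bwd 5624, .fwd 8019],
   .loop none [.bwd 8036, .fwd 5397, .fwd 8019],
   .loop none [.bwd 8029, .bwd 5679, .fwd 8019],
   .loop none [.bwd 8021, .fwd 5306, .fwd 8020],
   .loop none [.bwd 8048, .bwd 5318, .fwd 8020],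
   .loop none [.bwd 8059, .fwd 5424, .fwd 8020],
   .loop none [.bwd 8055, .fwd 5689, .fwd 8020],
   .loop none [.bwd 8029, .bwd 5298, .fwd 8021],
   .loop none [.bwd 8045, .fwd 5672, .fwd 8021],
   .loop none [.bwd 8022, .fwd 5404, .fwd 8021],
   .loop none [.bwd 8055, .fwd 5685, .fwd 8022],
   .loop none [.bwd 8061, .fwd 4740, .fwd 8022],
   .loop none [.bwd 8029, .fwd 5401, .fwd 8022],
   .loop none [.bwd 8058, .bwd 6114, .fwd 8023],
   .loop none [.bwd 8090, .bwd 4872, .fwd 8023],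
   .loop none [.bwd 8028, .bwd 5798, .fwd 8023],
   .loop none [.bwd 8054, .bwd 5307, .fwd 8024],
   .loop none [.bwd 8054, .bwd 4816, .fwd 8024],
   .loop none [.bwd 8081, .bwd 5854, .fwd 8024],
   .loop none [.bwd 8089, .fwd 5967, .fwd 8024],
   .loop none [.bwd 8068, .bwd 5334, .fwd 8025],
   .loop none [.bwd 8053, .bwd 4855, .fwd 8025],
   .loop none [.bwd 8090, .fwd 5925, .fwd 8025],
   .loop none [.bwd 8057, .fwd 5971, .fwd 8026],
   .loop none [.bwd 8092, .fwd 5970, .fwd 8026],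
   .loop none [.bwd 8087, .bwd 5058, .fwd 8026],
   .loop none [.bwd 8080, .bwd 5228, .fwd 8026],
   .loop none [.bwd 8082, .bwd 5867, .fwd 8026],
   .loop none [.bwd 8088, .fwd 5969, .fwd 8026],
   .loop none [.bwd 8069, .fwd 6091, .fwd 8027],
   .loop none [.bwd 8093, .fwd 6090, .fwd 8027],
   .loop none [.bwd 8076, .bwd 5209, .fwd 8027],
   .loop none [.bwd 8086, .bwd 5733, .fwd 8027],
   .loop none [.bwd 8091, .bwd 6135, .fwd 8027],
   .loop none [.bwd 8060, .bwd 6092, .fwd 8028],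
   .loop none [.bwd 8094, .fwd 5407, .fwd 8028],
   .loop none [.bwd 8097, .fwd 5707, .fwd 8028],
   .loop none [.bwd 8048, .fwd 5775, .fwd 8029],
   .loop none [.bwd 8062, .fwd 4657, .fwd 8029],
   .loop none [.bwd 8081, .fwd 5827, .fwd 8029],
   .loop none [.bwd 8043, .fwd 5555, .fwd 8030],
   .loop none [.bwd 8034, .fwd 4279, .fwd 8030],
   .loop none [.bwd 8034, .bwd 5522, .fwd 8030],
   .loop none [.bwd 8072, .bwd 5524, .fwd 8030],
   .loop none [.bwd 8030, .bwd 5525, .fwd 8030],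
   .loop none [.bwd 8041, .fwd 6217, .fwd 8031],
   .loop none [.bwd 8098, .fwd 5162, .fwd 8031],
   .loop none [.bwd 8034, .bwd 5546, .fwd 8032],
   .loop none [.bwd 8043, .bwd 4502, .fwd 8032],
   .loop none [.bwd 8043, .fwd 5556, .fwd 8032],
   .loop none [.bwd 8084, .fwd 5747, .fwd 8032],
   .loop none [.bwd 8032, .bwd 5550, .fwd 8032],
   .loop none [.bwd 8072, .bwd 4257, .fwd 8033],
   .loop none [.bwd 8044, .bwd 5448, .fwd 8033],
   .loop none [.bwd 8034, .fwd 5497, .fwd 8033],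
   .loop none [.bwd 8044, .bwd 5449, .fwd 8033],
   .loop none [.bwd 8034, .bwd 5541, .fwd 8034],
   .loop none [.bwd 8100, .bwd 5160, .fwd 8035],
   .loop none [.bwd 8063, .bwd 5618, .fwd 8036],
   .loop none [.bwd 8047, .fwd 4352, .fwd 8036],
   .loop none [.bwd 8077, .bwd 5622, .fwd 8036],
   .loop none [.bwd 8045, .fwd 5673, .fwd 8036],
   .loop none [.bwd 8070, .bwd 5628, .fwd 8037],
   .loop none [.bwd 8038, .fwd 5808, .fwd 8037],
   .loop none [.bwd 8071, .fwd 5615, .fwd 8038],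
   .loop none [.bwd 8103, .fwd 5752, .fwd 8038],
   .loop none [.bwd 8103, .fwd 5755, .fwd 8038],
   .loop none [.bwd 8072, .bwd 5517, .fwd 8039],
   .loop none [.bwd 8045, .bwd 5351, .fwd 8039],
   .loop none [.bwd 8043, .bwd 5567, .fwd 8039],
   .loop none [.bwd 8073, .bwd 5803, .fwd 8040],
   .loop none [.bwd 8102, .fwd 5810, .fwd 8040],
   .loop none [.bwd 8040, .fwd 5081, .fwd 8040],
   .loop none [.bwd 8095, .bwd 5708, .fwd 8040],
   .loop none [.bwd 8096, .bwd 6219, .fwd 8040],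
   .loop none [.bwd 8042, .fwd 5809, .fwd 8040],
   .loop none [.bwd 8103, .bwd 5760, .fwd 8041],
   .loop none [.bwd 8096, .fwd 6054, .fwd 8041],
   .loop none [.bwd 8074, .fwd 6330, .fwd 8042],
   .loop none [.bwd 8104, .fwd 6329, .fwd 8042],
   .loop none [.bwd 8042, .fwd 5799, .fwd 8042],
   .loop none [.bwd 8088, .bwd 5125, .fwd 8042],
   .loop none [.bwd 8096, .fwd 6328, .fwd 8042],
   .loop none [.bwd 8103, .fwd 5753, .fwd 8043],
   .loop none [.bwd 8043, .bwd 5564, .fwd 8043],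
   .loop none [.bwd 8061, .bwd 5450, .fwd 8044],
   .loop none [.bwd 8065, .bwd 5459, .fwd 8044],
   .loop none [.bwd 8059, .bwd 5526, .fwd 8045],
   .loop none [.bwd 8094, .fwd 5770, .fwd 8045],
   .loop none [.bwd 8075, .bwd 5776, .fwd 8046],
   .loop none [.bwd 8094, .bwd 5406, .fwd 8046],
   .loop none [.bwd 8053, .bwd 6018, .fwd 8046],
   .loop none [.bwd 8055, .fwd 5686, .fwd 8047],
   .loop none [.bwd 8068, .bwd 5666, .fwd 8047],
   .loop none [.bwd 8063, .bwd 5667, .fwd 8047],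
   .loop none [.bwd 8048, .bwd 5691, .fwd 8047],
   .loop none [.bwd 8055, .fwd 5692, .fwd 8048],
   .loop none [.bwd 8076, .fwd 6154, .fwd 8049],
   .loop none [.bwd 8106, .fwd 6153, .fwd 8049],
   .loop none [.bwd 8069, .fwd 5031, .fwd 8049],
   .loop none [.bwd 8099, .bwd 4918, .fwd 8049],
   .loop none [.bwd 8056, .bwd 6109, .fwd 8049],
   .loop none [.bwd 8107, .bwd 5712, .fwd 8050],
   .loop none [.bwd 8060, .fwd 4901, .fwd 8050],
   .loop none [.bwd 8052, .fwd 5796, .fwd 8050],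
   .loop none [.bwd 8108, .fwd 4874, .fwd 8051],
   .loop none [.bwd 8111, .fwd 6037, .fwd 8051],
   .loop none [.bwd 8058, .fwd 4987, .fwd 8051],
   .loop none [.bwd 8109, .bwd 4679, .fwd 8052],
   .loop none [.bwd 8077, .bwd 5674, .fwd 8053],
   .loop none [.bwd 8063, .fwd 5420, .fwd 8053],
   .loop none [.bwd 8108, .bwd 5933, .fwd 8053],
   .loop none [.bwd 8109, .bwd 5839, .fwd 8054],
   .loop none [.bwd 8107, .fwd 5996, .fwd 8054],
   .loop none [.bwd 8078, .fwd 6110, .fwd 8056],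
   .loop none [.bwd 8114, .bwd 6107, .fwd 8056],
   .loop none [.bwd 8067, .fwd 5959, .fwd 8056],
   .loop none [.bwd 8111, .bwd 6151, .fwd 8056],
   .loop none [.bwd 8115, .bwd 6017, .fwd 8057],
   .loop none [.bwd 8101, .bwd 5009, .fwd 8057],
   .loop none [.bwd 8111, .bwd 4898, .fwd 8057],
   .loop none [.bwd 8113, .bwd 5840, .fwd 8057],
   .loop none [.bwd 8112, .fwd 6033, .fwd 8057],
   .loop none [.bwd 8116, .fwd 4865, .fwd 8058],
   .loop none [.bwd 8117, .fwd 4953, .fwd 8058],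
   .loop none [.bwd 8060, .bwd 5797, .fwd 8058],
   .loop none [.bwd 8072, .bwd 5274, .fwd 8059],
   .loop none [.bwd 8063, .bwd 5425, .fwd 8059],
   .loop none [.bwd 8062, .fwd 5519, .fwd 8059],
   .loop none [.bwd 8120, .bwd 5432, .fwd 8060],
   .loop none [.bwd 8062, .bwd 5370, .fwd 8061],
   .loop none [.bwd 8108, .fwd 5917, .fwd 8061],
   .loop none [.bwd 8109, .fwd 5817, .fwd 8062],
   .loop none [.bwd 8063, .fwd 5371, .fwd 8062],
   .loop none [.bwd 8071, .bwd 5156, .fwd 8064],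
   .loop none [.bwd 8100, .bwd 5590, .fwd 8064],
   .loop none [.bwd 8065, .bwd 5592, .fwd 8064],
   .loop none [.bwd 8100, .fwd 5943, .fwd 8064],
   .loop none [.bwd 8070, .fwd 4804, .fwd 8065],
   .loop none [.bwd 8100, .bwd 5593, .fwd 8065],
   .loop none [.bwd 8122, .fwd 6283, .fwd 8066],
   .loop none [.bwd 8113, .fwd 5049, .fwd 8066],
   .loop none [.bwd 8113, .bwd 6199, .fwd 8066],
   .loop none [.bwd 8067, .bwd 5952, .fwd 8066],
   .loop none [.bwd 8101, .fwd 6256, .fwd 8066],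
   .loop none [.bwd 8123, .fwd 5948, .fwd 8067],
   .loop none [.bwd 8112, .bwd 5194, .fwd 8067],
   .loop none [.bwd 8074, .bwd 5960, .fwd 8067],
   .loop none [.bwd 8101, .bwd 6084, .fwd 8067],
   .loop none [.bwd 8077, .fwd 4956, .fwd 8068],
   .loop none [.bwd 8116, .fwd 5932, .fwd 8068],
   .loop none [.bwd 8120, .fwd 5794, .fwd 8068],
   .loop none [.bwd 8125, .bwd 6206, .fwd 8069],
   .loop none [.bwd 8099, .fwd 4919, .fwd 8069],
   .loop none [.bwd 8124, .bwd 5507, .fwd 8069],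
   .loop none [.bwd 8117, .bwd 6129, .fwd 8069],
   .loop none [.bwd 8121, .fwd 6186, .fwd 8069],
   .loop none [.bwd 8098, .bwd 5604, .fwd 8070],
   .loop none [.bwd 8071, .fwd 5800, .fwd 8070],
   .loop none [.bwd 8098, .bwd 5612, .fwd 8071],
   .loop none [.bwd 8098, .bwd 5613, .fwd 8071],
   .loop none [.bwd 8126, .fwd 5802, .fwd 8073],
   .loop none [.bwd 8073, .fwd 5104, .fwd 8073],
   .loop none [.bwd 8119, .bwd 5440, .fwd 8073],
   .loop none [.bwd 8099, .bwd 6214, .fwd 8073],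
   .loop none [.bwd 8074, .fwd 5801, .fwd 8073],
   .loop none [.bwd 8127, .fwd 6336, .fwd 8074],
   .loop none [.bwd 8074, .fwd 5807, .fwd 8074],
   .loop none [.bwd 8112, .fwd 5961, .fwd 8074],
   .loop none [.bwd 8099, .fwd 6216, .fwd 8074],
   .loop none [.bwd 8120, .fwd 5266, .fwd 8075],
   .loop none [.bwd 8089, .fwd 5965, .fwd 8075],
   .loop none [.bwd 8077, .bwd 5999, .fwd 8075],
   .loop none [.bwd 8079, .fwd 6119, .fwd 8075],
   .loop none [.bwd 8129, .fwd 6161, .fwd 8076],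
   .loop none [.bwd 8096, .bwd 5238, .fwd 8076],
   .loop none [.bwd 8078, .bwd 6233, .fwd 8076],
   .loop none [.bwd 8080, .fwd 6160, .fwd 8076],
   .loop none [.bwd 8079, .bwd 5926, .fwd 8077],
   .loop none [.bwd 8131, .fwd 6243, .fwd 8078],
   .loop none [.bwd 8091, .fwd 5250, .fwd 8078],
   .loop none [.bwd 8080, .bwd 6111, .fwd 8078],
   .loop none [.bwd 8108, .fwd 5919, .fwd 8079],
   .loop none [.bwd 8116, .bwd 4864, .fwd 8079],
   .loop none [.bwd 8090, .fwd 5923, .fwd 8079],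
   .loop none [.bwd 8111, .fwd 6113, .fwd 8080],
   .loop none [.bwd 8133, .fwd 6112, .fwd 8080],
   .loop none [.bwd 8097, .bwd 5975, .fwd 8080],
   .loop none [.bwd 8097, .bwd 5229, .fwd 8080],
   .loop none [.bwd 8109, .bwd 5826, .fwd 8081],
   .loop none [.bwd 8109, .fwd 4680, .fwd 8081],
   .loop none [.bwd 8089, .fwd 5968, .fwd 8081],
   .loop none [.bwd 8113, .bwd 5843, .fwd 8082],
   .loop none [.bwd 8134, .bwd 5862, .fwd 8082]]

theorem just42_len : just42.length = 250 := by decide +kernel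

theorem just42_ok : cert.okFacts 10500 just42 = true := by decide +kernel

/-- justifications -/
noncomputable def just43 : List Cert.Just :=
  [.loop none [.bwd 8130, .fwd 5986, .fwd 8082],
   .loop none [.bwd 8088, .bwd 6314, .fwd 8082],
   .loop none [.bwd 8122, .bwd 6383, .fwd 8083],
   .loop none [.bwd 8134, .bwd 6373, .fwd 8083],
   .loop none [.bwd 8085, .fwd 5900, .fwd 8083],
   .loop none [.bwd 8100, .bwd 5745, .fwd 8084],
   .loop none [.bwd 8103, .fwd 5179, .fwd 8084],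
   .loop none [.bwd 8137, .bwd 5746, .fwd 8084],
   .loop none [.bwd 8123, .fwd 5947, .fwd 8085],
   .loop none [.bwd 8131, .fwd 5730, .fwd 8085],
   .loop none [.bwd 8104, .bwd 5731, .fwd 8085],
   .loop none [.bwd 8137, .fwd 6325, .fwd 8085],
   .loop none [.bwd 8124, .fwd 6227, .fwd 8086],
   .loop none [.bwd 8136, .bwd 6399, .fwd 8086],
   .loop none [.bwd 8130, .bwd 6381, .fwd 8086],
   .loop none [.bwd 8132, .bwd 6396, .fwd 8086],
   .loop none [.bwd 8095, .fwd 6360, .fwd 8086],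
   .loop none [.bwd 8101, .bwd 6086, .fwd 8087],
   .loop none [.bwd 8137, .fwd 6321, .fwd 8087],
   .loop none [.bwd 8097, .fwd 5983, .fwd 8087],
   .loop none [.bwd 8105, .bwd 5763, .fwd 8087],
   .loop none [.bwd 8112, .fwd 6170, .fwd 8088],
   .loop none [.bwd 8091, .bwd 5126, .fwd 8088],
   .loop none [.bwd 8107, .bwd 6000, .fwd 8089],
   .loop none [.bwd 8107, .fwd 5263, .fwd 8089],
   .loop none [.bwd 8140, .fwd 6068, .fwd 8089],
   .loop none [.bwd 8094, .bwd 5966, .fwd 8089],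
   .loop none [.bwd 8116, .bwd 6121, .fwd 8090],
   .loop none [.bwd 8108, .bwd 4873, .fwd 8090],
   .loop none [.bwd 8094, .bwd 6055, .fwd 8090],
   .loop none [.bwd 8117, .bwd 6130, .fwd 8091],
   .loop none [.bwd 8141, .fwd 6136, .fwd 8091],
   .loop none [.bwd 8139, .fwd 6312, .fwd 8091],
   .loop none [.bwd 8097, .bwd 6187, .fwd 8091],
   .loop none [.bwd 8115, .fwd 5998, .fwd 8092],
   .loop none [.bwd 8133, .bwd 6009, .fwd 8092],
   .loop none [.bwd 8134, .bwd 5860, .fwd 8092],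
   .loop none [.bwd 8140, .fwd 6069, .fwd 8092],
   .loop none [.bwd 8125, .fwd 6100, .fwd 8093],
   .loop none [.bwd 8136, .bwd 5736, .fwd 8093],
   .loop none [.bwd 8141, .bwd 6144, .fwd 8093],
   .loop none [.bwd 8120, .bwd 6101, .fwd 8094],
   .loop none [.bwd 8146, .fwd 6010, .fwd 8094],
   .loop none [.bwd 8119, .bwd 6335, .fwd 8095],
   .loop none [.bwd 8143, .bwd 6334, .fwd 8095],
   .loop none [.bwd 8105, .bwd 6315, .fwd 8095],
   .loop none [.bwd 8130, .bwd 5811, .fwd 8095],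
   .loop none [.bwd 8132, .fwd 6408, .fwd 8095],
   .loop none [.bwd 8099, .fwd 6193, .fwd 8096],
   .loop none [.bwd 8145, .fwd 6354, .fwd 8096],
   .loop none [.bwd 8096, .fwd 6053, .fwd 8096],
   .loop none [.bwd 8121, .fwd 6179, .fwd 8097],
   .loop none [.bwd 8146, .fwd 6402, .fwd 8097],
   .loop none [.bwd 8103, .fwd 6358, .fwd 8098],
   .loop none [.bwd 8100, .fwd 5161, .fwd 8098],
   .loop none [.bwd 8147, .bwd 6191, .fwd 8099],
   .loop none [.bwd 8099, .fwd 6082, .fwd 8099],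
   .loop none [.bwd 8148, .fwd 6085, .fwd 8101],
   .loop none [.bwd 8121, .fwd 6044, .fwd 8101],
   .loop none [.bwd 8128, .bwd 5583, .fwd 8101],
   .loop none [.bwd 8126, .fwd 5883, .fwd 8102],
   .loop none [.bwd 8143, .bwd 5697, .fwd 8102],
   .loop none [.bwd 8145, .bwd 6390, .fwd 8102],
   .loop none [.bwd 8104, .fwd 5882, .fwd 8102],
   .loop none [.bwd 8145, .fwd 6061, .fwd 8103],
   .loop none [.bwd 8127, .fwd 6357, .fwd 8104],
   .loop none [.bwd 8140, .bwd 5830, .fwd 8104],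
   .loop none [.bwd 8145, .fwd 6356, .fwd 8104],
   .loop none [.bwd 8128, .fwd 6258, .fwd 8105],
   .loop none [.bwd 8150, .fwd 6326, .fwd 8105],
   .loop none [.bwd 8132, .bwd 6327, .fwd 8105],
   .loop none [.bwd 8130, .bwd 6410, .fwd 8105],
   .loop none [.bwd 8139, .fwd 6501, .fwd 8105],
   .loop none [.bwd 8129, .fwd 6159, .fwd 8106],
   .loop none [.bwd 8147, .bwd 5329, .fwd 8106],
   .loop none [.bwd 8114, .bwd 6105, .fwd 8106],
   .loop none [.bwd 8120, .bwd 5995, .fwd 8107],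
   .loop none [.bwd 8109, .bwd 5997, .fwd 8107],
   .loop none [.bwd 8154, .bwd 5916, .fwd 8108],
   .loop none [.bwd 8116, .fwd 5930, .fwd 8108],
   .loop none [.bwd 8130, .bwd 6266, .fwd 8110],
   .loop none [.bwd 8153, .bwd 6264, .fwd 8110],
   .loop none [.bwd 8124, .bwd 6192, .fwd 8110],
   .loop none [.bwd 8119, .fwd 5804, .fwd 8110],
   .loop none [.bwd 8113, .bwd 6047, .fwd 8110],
   .loop none [.bwd 8128, .fwd 6218, .fwd 8110],
   .loop none [.bwd 8154, .bwd 6150, .fwd 8111],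
   .loop none [.bwd 8121, .bwd 6036, .fwd 8111],
   .loop none [.bwd 8121, .bwd 4899, .fwd 8111],
   .loop none [.bwd 8155, .bwd 6167, .fwd 8112],
   .loop none [.bwd 8117, .bwd 5962, .fwd 8112],
   .loop none [.bwd 8113, .fwd 6168, .fwd 8112],
   .loop none [.bwd 8156, .fwd 5842, .fwd 8113],
   .loop none [.bwd 8131, .fwd 6108, .fwd 8114],
   .loop none [.bwd 8123, .bwd 5487, .fwd 8114],
   .loop none [.bwd 8154, .bwd 6149, .fwd 8114],
   .loop none [.bwd 8154, .bwd 6027, .fwd 8115],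
   .loop none [.bwd 8156, .bwd 5852, .fwd 8115],
   .loop none [.bwd 8155, .fwd 6065, .fwd 8115],
   .loop none [.bwd 8120, .bwd 6070, .fwd 8116],
   .loop none [.bwd 8162, .bwd 6123, .fwd 8117],
   .loop none [.bwd 8157, .bwd 6131, .fwd 8117],
   .loop none [.bwd 8121, .bwd 6177, .fwd 8117],
   .loop none [.bwd 8132, .bwd 6441, .fwd 8118],
   .loop none [.bwd 8159, .fwd 6446, .fwd 8118],
   .loop none [.bwd 8157, .bwd 6231, .fwd 8118],
   .loop none [.bwd 8128, .fwd 6087, .fwd 8118],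
   .loop none [.bwd 8157, .fwd 6180, .fwd 8118],
   .loop none [.bwd 8119, .bwd 6178, .fwd 8118],
   .loop none [.bwd 8124, .fwd 6397, .fwd 8118],
   .loop none [.bwd 8161, .bwd 6337, .fwd 8119],
   .loop none [.bwd 8128, .bwd 6169, .fwd 8119],
   .loop none [.bwd 8124, .bwd 6265, .fwd 8119],
   .loop none [.bwd 8163, .bwd 6176, .fwd 8121],
   .loop none [.bwd 8156, .bwd 6287, .fwd 8122],
   .loop none [.bwd 8123, .fwd 5951, .fwd 8122],
   .loop none [.bwd 8148, .bwd 6288, .fwd 8122],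
   .loop none [.bwd 8127, .bwd 5488, .fwd 8123],
   .loop none [.bwd 8148, .bwd 6255, .fwd 8123],
   .loop none [.bwd 8165, .bwd 6225, .fwd 8124],
   .loop none [.bwd 8157, .bwd 6196, .fwd 8124],
   .loop none [.bwd 8147, .fwd 5330, .fwd 8125],
   .loop none [.bwd 8165, .bwd 5512, .fwd 8125],
   .loop none [.bwd 8162, .bwd 6122, .fwd 8125],
   .loop none [.bwd 8163, .fwd 6226, .fwd 8125],
   .loop none [.bwd 8161, .bwd 5675, .fwd 8126],
   .loop none [.bwd 8147, .bwd 6215, .fwd 8126],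
   .loop none [.bwd 8127, .fwd 5937, .fwd 8126],
   .loop none [.bwd 8155, .bwd 5835, .fwd 8127],
   .loop none [.bwd 8147, .fwd 6384, .fwd 8127],
   .loop none [.bwd 8169, .bwd 6254, .fwd 8128],
   .loop none [.bwd 8157, .fwd 6440, .fwd 8128],
   .loop none [.bwd 8145, .bwd 5309, .fwd 8129],
   .loop none [.bwd 8131, .bwd 6246, .fwd 8129],
   .loop none [.bwd 8133, .fwd 6406, .fwd 8129],
   .loop none [.bwd 8172, .bwd 6359, .fwd 8130],
   .loop none [.bwd 8139, .bwd 6412, .fwd 8130],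
   .loop none [.bwd 8133, .bwd 6118, .fwd 8131],
   .loop none [.bwd 8174, .fwd 6516, .fwd 8132],
   .loop none [.bwd 8139, .bwd 6411, .fwd 8132],
   .loop none [.bwd 8139, .fwd 6094, .fwd 8132],
   .loop none [.bwd 8154, .fwd 6120, .fwd 8133],
   .loop none [.bwd 8146, .bwd 5726, .fwd 8133],
   .loop none [.bwd 8156, .bwd 5855, .fwd 8134],
   .loop none [.bwd 8172, .bwd 5863, .fwd 8134],
   .loop none [.bwd 8140, .bwd 6348, .fwd 8134],
   .loop none [.bwd 8164, .bwd 6567, .fwd 8135],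
   .loop none [.bwd 8151, .bwd 6376, .fwd 8135],
   .loop none [.bwd 8176, .bwd 6559, .fwd 8135],
   .loop none [.bwd 8138, .bwd 6533, .fwd 8135],
   .loop none [.bwd 8165, .bwd 6424, .fwd 8136],
   .loop none [.bwd 8178, .bwd 6471, .fwd 8136],
   .loop none [.bwd 8174, .bwd 6517, .fwd 8136],
   .loop none [.bwd 8143, .fwd 6496, .fwd 8136],
   .loop none [.bwd 8148, .bwd 6386, .fwd 8137],
   .loop none [.bwd 8179, .bwd 6322, .fwd 8137],
   .loop none [.bwd 8146, .fwd 5727, .fwd 8137],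
   .loop none [.bwd 8150, .bwd 5756, .fwd 8137],
   .loop none [.bwd 8166, .bwd 6573, .fwd 8138],
   .loop none [.bwd 8149, .bwd 5880, .fwd 8138],
   .loop none [.bwd 8151, .bwd 6534, .fwd 8138],
   .loop none [.bwd 8173, .fwd 6532, .fwd 8138],
   .loop none [.bwd 8179, .bwd 6528, .fwd 8138],
   .loop none [.bwd 8157, .bwd 6311, .fwd 8139],
   .loop none [.bwd 8180, .fwd 6379, .fwd 8139],
   .loop none [.bwd 8155, .bwd 6414, .fwd 8140],
   .loop none [.bwd 8141, .bwd 5831, .fwd 8140],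
   .loop none [.bwd 8162, .bwd 6124, .fwd 8141],
   .loop none [.bwd 8180, .fwd 6380, .fwd 8141],
   .loop none [.bwd 8146, .bwd 6409, .fwd 8141],
   .loop none [.bwd 8160, .bwd 6566, .fwd 8142],
   .loop none [.bwd 8160, .fwd 5988, .fwd 8142],
   .loop none [.bwd 8175, .bwd 6523, .fwd 8142],
   .loop none [.bwd 8176, .bwd 6560, .fwd 8142],
   .loop none [.bwd 8182, .fwd 6522, .fwd 8142],
   .loop none [.bwd 8161, .bwd 6495, .fwd 8143],
   .loop none [.bwd 8185, .bwd 6497, .fwd 8143],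
   .loop none [.bwd 8172, .fwd 6013, .fwd 8143],
   .loop none [.bwd 8174, .fwd 6508, .fwd 8143],
   .loop none [.bwd 8167, .fwd 6618, .fwd 8144],
   .loop none [.bwd 8158, .fwd 6097, .fwd 8144],
   .loop none [.bwd 8178, .bwd 6540, .fwd 8144],
   .loop none [.bwd 8183, .bwd 6552, .fwd 8144],
   .loop none [.bwd 8147, .bwd 6388, .fwd 8145],
   .loop none [.bwd 8187, .bwd 6355, .fwd 8145],
   .loop none [.bwd 8163, .bwd 6415, .fwd 8146],
   .loop none [.bwd 8188, .bwd 6155, .fwd 8146],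
   .loop none [.bwd 8163, .fwd 5468, .fwd 8148],
   .loop none [.bwd 8169, .bwd 5574, .fwd 8148],
   .loop none [.bwd 8168, .fwd 6577, .fwd 8149],
   .loop none [.bwd 8185, .bwd 6518, .fwd 8149],
   .loop none [.bwd 8187, .bwd 6420, .fwd 8149],
   .loop none [.bwd 8151, .fwd 6512, .fwd 8149],
   .loop none [.bwd 8169, .fwd 6452, .fwd 8150],
   .loop none [.bwd 8192, .bwd 6433, .fwd 8150],
   .loop none [.bwd 8174, .bwd 6391, .fwd 8150],
   .loop none [.bwd 8172, .bwd 6421, .fwd 8150],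
   .loop none [.bwd 8180, .fwd 6490, .fwd 8150],
   .loop none [.bwd 8170, .bwd 6586, .fwd 8151],
   .loop none [.bwd 8182, .bwd 6549, .fwd 8151],
   .loop none [.bwd 8187, .fwd 6535, .fwd 8151],
   .loop none [.bwd 8171, .bwd 6619, .fwd 8152],
   .loop none [.bwd 8188, .fwd 6156, .fwd 8152],
   .loop none [.bwd 8189, .bwd 6428, .fwd 8152],
   .loop none [.bwd 8158, .bwd 6455, .fwd 8152],
   .loop none [.bwd 8172, .fwd 6507, .fwd 8153],
   .loop none [.bwd 8195, .bwd 6425, .fwd 8153],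
   .loop none [.bwd 8161, .bwd 6031, .fwd 8153],
   .loop none [.bwd 8156, .fwd 5856, .fwd 8153],
   .loop none [.bwd 8169, .fwd 6430, .fwd 8153],
   .loop none [.bwd 8196, .bwd 6141, .fwd 8154],
   .loop none [.bwd 8163, .bwd 5467, .fwd 8154],
   .loop none [.bwd 8162, .bwd 5836, .fwd 8155],
   .loop none [.bwd 8156, .fwd 6398, .fwd 8155],
   .loop none [.bwd 8197, .bwd 6239, .fwd 8157],
   .loop none [.bwd 8173, .fwd 6578, .fwd 8158],
   .loop none [.bwd 8166, .bwd 6457, .fwd 8158],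
   .loop none [.bwd 8196, .bwd 6443, .fwd 8158],
   .loop none [.bwd 8174, .fwd 6489, .fwd 8159],
   .loop none [.bwd 8201, .bwd 6453, .fwd 8159],
   .loop none [.bwd 8169, .fwd 6387, .fwd 8159],
   .loop none [.bwd 8197, .fwd 6292, .fwd 8159],
   .loop none [.bwd 8161, .bwd 6447, .fwd 8159],
   .loop none [.bwd 8165, .fwd 6459, .fwd 8159],
   .loop none [.bwd 8196, .bwd 6442, .fwd 8160],
   .loop none [.bwd 8199, .bwd 6558, .fwd 8160],
   .loop none [.bwd 8198, .fwd 6510, .fwd 8160],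
   .loop none [.bwd 8203, .fwd 6437, .fwd 8161],
   .loop none [.bwd 8165, .bwd 6466, .fwd 8161],
   .loop none [.bwd 8197, .bwd 6125, .fwd 8162],
   .loop none [.bwd 8163, .bwd 6185, .fwd 8162],
   .loop none [.bwd 8170, .fwd 6382, .fwd 8164],
   .loop none [.bwd 8199, .bwd 6557, .fwd 8164],
   .loop none [.bwd 8166, .bwd 6458, .fwd 8164],
   .loop none [.bwd 8190, .fwd 6481, .fwd 8164],
   .loop none [.bwd 8207, .fwd 6465, .fwd 8165],
   .loop none [.bwd 8197, .fwd 6291, .fwd 8165],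
   .loop none [.bwd 8168, .bwd 5935, .fwd 8166],
   .loop none [.bwd 8170, .bwd 6460, .fwd 8166],
   .loop none [.bwd 8190, .bwd 6451, .fwd 8166],
   .loop none [.bwd 8173, .bwd 6245, .fwd 8167],
   .loop none [.bwd 8207, .bwd 6475, .fwd 8167],
   .loop none [.bwd 8189, .fwd 6431, .fwd 8167],
   .loop none [.bwd 8204, .bwd 6556, .fwd 8167],
   .loop none [.bwd 8205, .fwd 6432, .fwd 8167],
   .loop none [.bwd 8203, .bwd 6505, .fwd 8168],
   .loop none [.bwd 8189, .bwd 6429, .fwd 8168],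
   .loop none [.bwd 8170, .fwd 6492, .fwd 8168],
   .loop none [.bwd 8211, .bwd 6482, .fwd 8169],
   .loop none [.bwd 8197, .bwd 6486, .fwd 8169]]

theorem just43_len : just43.length = 250 := by decide +kernel

theorem just43_ok : cert.okFacts 10750 just43 = true := by decide +kernel

/-- justifications -/
noncomputable def just44 : List Cert.Just :=
  [.loop none [.bwd 8198, .bwd 6553, .fwd 8170],
   .loop none [.bwd 8189, .fwd 6461, .fwd 8170],
   .loop none [.bwd 8205, .fwd 6407, .fwd 8171],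
   .loop none [.bwd 8187, .bwd 6419, .fwd 8171],
   .loop none [.bwd 8173, .bwd 6530, .fwd 8171],
   .loop none [.bwd 8175, .fwd 6418, .fwd 8171],
   .loop none [.bwd 8214, .bwd 6416, .fwd 8172],
   .loop none [.bwd 8180, .bwd 6531, .fwd 8172],
   .loop none [.bwd 8175, .bwd 6524, .fwd 8173],
   .loop none [.bwd 8216, .bwd 6519, .fwd 8174],
   .loop none [.bwd 8180, .fwd 6103, .fwd 8174],
   .loop none [.bwd 8196, .fwd 6647, .fwd 8175],
   .loop none [.bwd 8204, .fwd 6116, .fwd 8175],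
   .loop none [.bwd 8188, .bwd 6525, .fwd 8175],
   .loop none [.bwd 8199, .bwd 6561, .fwd 8176],
   .loop none [.bwd 8199, .bwd 5850, .fwd 8176],
   .loop none [.bwd 8214, .bwd 6565, .fwd 8176],
   .loop none [.bwd 8182, .bwd 6550, .fwd 8176],
   .loop none [.bwd 8206, .bwd 6861, .fwd 8177],
   .loop none [.bwd 8193, .fwd 6800, .fwd 8177],
   .loop none [.bwd 8218, .bwd 6562, .fwd 8177],
   .loop none [.bwd 8181, .bwd 6575, .fwd 8177],
   .loop none [.bwd 8207, .bwd 6860, .fwd 8178],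
   .loop none [.bwd 8220, .bwd 6472, .fwd 8178],
   .loop none [.bwd 8216, .bwd 6635, .fwd 8178],
   .loop none [.bwd 8185, .fwd 6541, .fwd 8178],
   .loop none [.bwd 8190, .bwd 6665, .fwd 8179],
   .loop none [.bwd 8221, .bwd 6164, .fwd 8179],
   .loop none [.bwd 8187, .bwd 6389, .fwd 8179],
   .loop none [.bwd 8192, .bwd 6547, .fwd 8179],
   .loop none [.bwd 8188, .fwd 6527, .fwd 8179],
   .loop none [.bwd 8197, .bwd 6477, .fwd 8180],
   .loop none [.bwd 8208, .fwd 6732, .fwd 8181],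
   .loop none [.bwd 8191, .bwd 6576, .fwd 8181],
   .loop none [.bwd 8193, .bwd 6675, .fwd 8181],
   .loop none [.bwd 8215, .fwd 6574, .fwd 8181],
   .loop none [.bwd 8221, .bwd 6667, .fwd 8181],
   .loop none [.bwd 8198, .fwd 6601, .fwd 8182],
   .loop none [.bwd 8198, .bwd 6413, .fwd 8182],
   .loop none [.bwd 8183, .bwd 6551, .fwd 8182],
   .loop none [.bwd 8204, .fwd 6636, .fwd 8183],
   .loop none [.bwd 8196, .fwd 6142, .fwd 8183],
   .loop none [.bwd 8223, .fwd 6632, .fwd 8183],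
   .loop none [.bwd 8188, .bwd 6526, .fwd 8183],
   .loop none [.bwd 8202, .fwd 6684, .fwd 8184],
   .loop none [.bwd 8202, .fwd 6600, .fwd 8184],
   .loop none [.bwd 8217, .bwd 6649, .fwd 8184],
   .loop none [.bwd 8218, .bwd 6563, .fwd 8184],
   .loop none [.bwd 8225, .fwd 6606, .fwd 8184],
   .loop none [.bwd 8203, .fwd 6602, .fwd 8185],
   .loop none [.bwd 8228, .bwd 6498, .fwd 8185],
   .loop none [.bwd 8216, .fwd 6520, .fwd 8185],
   .loop none [.bwd 8209, .bwd 6765, .fwd 8186],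
   .loop none [.bwd 8194, .bwd 6189, .fwd 8186],
   .loop none [.bwd 8200, .fwd 6617, .fwd 8186],
   .loop none [.bwd 8220, .bwd 6766, .fwd 8186],
   .loop none [.bwd 8226, .bwd 6656, .fwd 8186],
   .loop none [.bwd 8189, .bwd 6624, .fwd 8187],
   .loop none [.bwd 8230, .bwd 6202, .fwd 8187],
   .loop none [.bwd 8205, .bwd 6623, .fwd 8188],
   .loop none [.bwd 8231, .bwd 6405, .fwd 8188],
   .loop none [.bwd 8190, .bwd 6385, .fwd 8189],
   .loop none [.bwd 8227, .fwd 6252, .fwd 8190],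
   .loop none [.bwd 8211, .bwd 6487, .fwd 8190],
   .loop none [.bwd 8205, .fwd 6450, .fwd 8190],
   .loop none [.bwd 8210, .bwd 6783, .fwd 8191],
   .loop none [.bwd 8210, .fwd 6332, .fwd 8191],
   .loop none [.bwd 8228, .bwd 6683, .fwd 8191],
   .loop none [.bwd 8230, .bwd 6671, .fwd 8191],
   .loop none [.bwd 8193, .fwd 6585, .fwd 8191],
   .loop none [.bwd 8211, .bwd 6587, .fwd 8192],
   .loop none [.bwd 8233, .bwd 6434, .fwd 8192],
   .loop none [.bwd 8214, .bwd 6572, .fwd 8192],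
   .loop none [.bwd 8223, .fwd 6548, .fwd 8192],
   .loop none [.bwd 8212, .fwd 6862, .fwd 8193],
   .loop none [.bwd 8212, .fwd 6340, .fwd 8193],
   .loop none [.bwd 8225, .fwd 6750, .fwd 8193],
   .loop none [.bwd 8230, .fwd 6780, .fwd 8193],
   .loop none [.bwd 8213, .fwd 6745, .fwd 8194],
   .loop none [.bwd 8231, .fwd 6659, .fwd 8194],
   .loop none [.bwd 8232, .bwd 6773, .fwd 8194],
   .loop none [.bwd 8200, .bwd 6616, .fwd 8194],
   .loop none [.bwd 8214, .bwd 6664, .fwd 8195],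
   .loop none [.bwd 8235, .fwd 6474, .fwd 8195],
   .loop none [.bwd 8199, .fwd 6570, .fwd 8195],
   .loop none [.bwd 8211, .fwd 6571, .fwd 8195],
   .loop none [.bwd 8236, .fwd 6175, .fwd 8196],
   .loop none [.bwd 8205, .bwd 6448, .fwd 8196],
   .loop none [.bwd 8238, .fwd 6470, .fwd 8197],
   .loop none [.bwd 8224, .bwd 6393, .fwd 8198],
   .loop none [.bwd 8204, .bwd 6555, .fwd 8198],
   .loop none [.bwd 8199, .fwd 6554, .fwd 8198],
   .loop none [.bwd 8219, .fwd 6263, .fwd 8199],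
   .loop none [.bwd 8215, .bwd 6734, .fwd 8200],
   .loop none [.bwd 8226, .fwd 6229, .fwd 8200],
   .loop none [.bwd 8208, .bwd 6588, .fwd 8200],
   .loop none [.bwd 8236, .bwd 6653, .fwd 8200],
   .loop none [.bwd 8216, .bwd 6620, .fwd 8201],
   .loop none [.bwd 8239, .fwd 6611, .fwd 8201],
   .loop none [.bwd 8238, .fwd 6644, .fwd 8201],
   .loop none [.bwd 8203, .bwd 6506, .fwd 8201],
   .loop none [.bwd 8207, .fwd 6648, .fwd 8201],
   .loop none [.bwd 8221, .fwd 6165, .fwd 8202],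
   .loop none [.bwd 8236, .bwd 6652, .fwd 8202],
   .loop none [.bwd 8219, .bwd 6569, .fwd 8202],
   .loop none [.bwd 8224, .fwd 6599, .fwd 8202],
   .loop none [.bwd 8241, .fwd 6436, .fwd 8203],
   .loop none [.bwd 8207, .bwd 6476, .fwd 8203],
   .loop none [.bwd 8238, .fwd 6645, .fwd 8204],
   .loop none [.bwd 8205, .bwd 6449, .fwd 8204],
   .loop none [.bwd 8218, .fwd 6272, .fwd 8206],
   .loop none [.bwd 8212, .fwd 6828, .fwd 8206],
   .loop none [.bwd 8219, .bwd 6568, .fwd 8206],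
   .loop none [.bwd 8208, .bwd 6589, .fwd 8206],
   .loop none [.bwd 8227, .fwd 6806, .fwd 8206],
   .loop none [.bwd 8245, .fwd 6464, .fwd 8207],
   .loop none [.bwd 8225, .bwd 6345, .fwd 8208],
   .loop none [.bwd 8210, .bwd 6590, .fwd 8208],
   .loop none [.bwd 8212, .fwd 6823, .fwd 8208],
   .loop none [.bwd 8227, .bwd 6733, .fwd 8208],
   .loop none [.bwd 8213, .fwd 6222, .fwd 8209],
   .loop none [.bwd 8215, .bwd 6744, .fwd 8209],
   .loop none [.bwd 8245, .fwd 6804, .fwd 8209],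
   .loop none [.bwd 8232, .fwd 6768, .fwd 8209],
   .loop none [.bwd 8243, .bwd 6638, .fwd 8209],
   .loop none [.bwd 8244, .fwd 6755, .fwd 8209],
   .loop none [.bwd 8241, .fwd 6838, .fwd 8210],
   .loop none [.bwd 8232, .bwd 6781, .fwd 8210],
   .loop none [.bwd 8212, .fwd 6597, .fwd 8210],
   .loop none [.bwd 8247, .fwd 6500, .fwd 8211],
   .loop none [.bwd 8238, .fwd 6488, .fwd 8211],
   .loop none [.bwd 8224, .bwd 6829, .fwd 8212],
   .loop none [.bwd 8232, .fwd 6791, .fwd 8212],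
   .loop none [.bwd 8244, .bwd 6746, .fwd 8213],
   .loop none [.bwd 8230, .bwd 6747, .fwd 8213],
   .loop none [.bwd 8215, .bwd 6753, .fwd 8213],
   .loop none [.bwd 8217, .bwd 6754, .fwd 8213],
   .loop none [.bwd 8249, .bwd 6462, .fwd 8214],
   .loop none [.bwd 8223, .bwd 6634, .fwd 8214],
   .loop none [.bwd 8243, .bwd 6237, .fwd 8215],
   .loop none [.bwd 8217, .bwd 6650, .fwd 8215],
   .loop none [.bwd 8251, .fwd 6614, .fwd 8216],
   .loop none [.bwd 8223, .fwd 6631, .fwd 8216],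
   .loop none [.bwd 8236, .fwd 6715, .fwd 8217],
   .loop none [.bwd 8244, .bwd 6182, .fwd 8217],
   .loop none [.bwd 8243, .fwd 6639, .fwd 8217],
   .loop none [.bwd 8231, .bwd 6657, .fwd 8217],
   .loop none [.bwd 8219, .fwd 6865, .fwd 8218],
   .loop none [.bwd 8219, .bwd 6564, .fwd 8218],
   .loop none [.bwd 8249, .fwd 6799, .fwd 8218],
   .loop none [.bwd 8225, .bwd 6856, .fwd 8218],
   .loop none [.bwd 8235, .bwd 6786, .fwd 8219],
   .loop none [.bwd 8224, .bwd 6686, .fwd 8219],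
   .loop none [.bwd 8245, .bwd 6864, .fwd 8220],
   .loop none [.bwd 8235, .bwd 6473, .fwd 8220],
   .loop none [.bwd 8251, .fwd 6849, .fwd 8220],
   .loop none [.bwd 8228, .fwd 6782, .fwd 8220],
   .loop none [.bwd 8227, .bwd 6670, .fwd 8221],
   .loop none [.bwd 8230, .bwd 6668, .fwd 8221],
   .loop none [.bwd 8233, .bwd 6673, .fwd 8221],
   .loop none [.bwd 8231, .fwd 6666, .fwd 8221],
   .loop none [.bwd 8246, .bwd 6976, .fwd 8222],
   .loop none [.bwd 8253, .fwd 7026, .fwd 8222],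
   .loop none [.bwd 8229, .bwd 6925, .fwd 8222],
   .loop none [.bwd 8248, .fwd 6928, .fwd 8222],
   .loop none [.bwd 8252, .bwd 7054, .fwd 8222],
   .loop none [.bwd 8229, .fwd 6984, .fwd 8222],
   .loop none [.bwd 8238, .bwd 6900, .fwd 8223],
   .loop none [.bwd 8254, .fwd 6538, .fwd 8223],
   .loop none [.bwd 8225, .bwd 6688, .fwd 8224],
   .loop none [.bwd 8225, .bwd 6685, .fwd 8224],
   .loop none [.bwd 8243, .bwd 6637, .fwd 8224],
   .loop none [.bwd 8226, .bwd 6655, .fwd 8225],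
   .loop none [.bwd 8243, .fwd 6728, .fwd 8226],
   .loop none [.bwd 8236, .fwd 6654, .fwd 8226],
   .loop none [.bwd 8255, .fwd 6815, .fwd 8226],
   .loop none [.bwd 8231, .bwd 6658, .fwd 8226],
   .loop none [.bwd 8232, .bwd 6669, .fwd 8227],
   .loop none [.bwd 8247, .fwd 6841, .fwd 8227],
   .loop none [.bwd 8244, .fwd 6701, .fwd 8227],
   .loop none [.bwd 8241, .fwd 6689, .fwd 8228],
   .loop none [.bwd 8247, .bwd 6499, .fwd 8228],
   .loop none [.bwd 8251, .fwd 6942, .fwd 8228],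
   .loop none [.bwd 8242, .bwd 6960, .fwd 8229],
   .loop none [.bwd 8256, .fwd 7055, .fwd 8229],
   .loop none [.bwd 8250, .bwd 6514, .fwd 8229],
   .loop none [.bwd 8252, .fwd 7044, .fwd 8229],
   .loop none [.bwd 8232, .fwd 6674, .fwd 8230],
   .loop none [.bwd 8232, .bwd 6203, .fwd 8230],
   .loop none [.bwd 8244, .fwd 6700, .fwd 8231],
   .loop none [.bwd 8236, .bwd 6174, .fwd 8231],
   .loop none [.bwd 8247, .fwd 6867, .fwd 8233],
   .loop none [.bwd 8241, .bwd 6435, .fwd 8233],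
   .loop none [.bwd 8249, .bwd 6863, .fwd 8233],
   .loop none [.bwd 8255, .fwd 6816, .fwd 8233],
   .loop none [.bwd 8248, .fwd 6899, .fwd 8234],
   .loop none [.bwd 8258, .fwd 6898, .fwd 8234],
   .loop none [.bwd 8252, .bwd 6545, .fwd 8234],
   .loop none [.bwd 8246, .fwd 6914, .fwd 8234],
   .loop none [.bwd 8240, .bwd 6909, .fwd 8234],
   .loop none [.bwd 8250, .bwd 6886, .fwd 8234],
   .loop none [.bwd 8254, .fwd 6897, .fwd 8234],
   .loop none [.bwd 8249, .fwd 6796, .fwd 8235],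
   .loop none [.bwd 8247, .fwd 6866, .fwd 8235],
   .loop none [.bwd 8244, .fwd 6722, .fwd 8236],
   .loop none [.bwd 8250, .bwd 6888, .fwd 8237],
   .loop none [.bwd 8259, .fwd 6893, .fwd 8237],
   .loop none [.bwd 8242, .fwd 6503, .fwd 8237],
   .loop none [.bwd 8257, .bwd 6660, .fwd 8237],
   .loop none [.bwd 8261, .bwd 6982, .fwd 8237],
   .loop none [.bwd 8248, .fwd 6892, .fwd 8237],
   .loop none [.bwd 8260, .bwd 6612, .fwd 8238],
   .loop none [.bwd 8261, .fwd 6469, .fwd 8238],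
   .loop none [.bwd 8251, .fwd 6845, .fwd 8239],
   .loop none [.bwd 8255, .fwd 6610, .fwd 8239],
   .loop none [.bwd 8260, .fwd 6852, .fwd 8239],
   .loop none [.bwd 8241, .bwd 6940, .fwd 8239],
   .loop none [.bwd 8245, .fwd 6855, .fwd 8239],
   .loop none [.bwd 8252, .fwd 6963, .fwd 8240],
   .loop none [.bwd 8262, .fwd 6962, .fwd 8240],
   .loop none [.bwd 8248, .fwd 6484, .fwd 8240],
   .loop none [.bwd 8254, .fwd 6910, .fwd 8240],
   .loop none [.bwd 8242, .bwd 6959, .fwd 8240],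
   .loop none [.bwd 8246, .fwd 6961, .fwd 8240],
   .loop none [.bwd 8245, .bwd 6839, .fwd 8241],
   .loop none [.bwd 8263, .bwd 6957, .fwd 8242],
   .loop none [.bwd 8246, .bwd 6917, .fwd 8242],
   .loop none [.bwd 8246, .bwd 6975, .fwd 8242],
   .loop none [.bwd 8260, .fwd 6853, .fwd 8243],
   .loop none [.bwd 8244, .bwd 6729, .fwd 8243],
   .loop none [.bwd 8249, .fwd 6463, .fwd 8245],
   .loop none [.bwd 8265, .bwd 6973, .fwd 8246],
   .loop none [.bwd 8261, .bwd 6468, .fwd 8246],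
   .loop none [.bwd 8260, .fwd 6854, .fwd 8247],
   .loop none [.bwd 8266, .fwd 7032, .fwd 8248],
   .loop none [.bwd 8252, .fwd 6931, .fwd 8248],
   .loop none [.bwd 8261, .fwd 6999, .fwd 8248],
   .loop none [.bwd 8255, .bwd 6881, .fwd 8249],
   .loop none [.bwd 8267, .fwd 6887, .fwd 8250],
   .loop none [.bwd 8254, .fwd 6911, .fwd 8250],
   .loop none [.bwd 8264, .bwd 6763, .fwd 8250],
   .loop none [.bwd 8254, .bwd 7023, .fwd 8250],
   .loop none [.bwd 8260, .fwd 6613, .fwd 8251],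
   .loop none [.bwd 8255, .bwd 6848, .fwd 8251],
   .loop none [.bwd 8268, .fwd 7041, .fwd 8252],
   .loop none [.bwd 8261, .fwd 6934, .fwd 8252],
   .loop none [.bwd 8265, .bwd 7010, .fwd 8253],
   .loop none [.bwd 8256, .fwd 6691, .fwd 8253],
   .loop none [.bwd 8266, .bwd 6692, .fwd 8253],
   .loop none [.bwd 8268, .bwd 7071, .fwd 8253]]

theorem just44_len : just44.length = 250 := by decide +kernel

theorem just44_ok : cert.okFacts 11000 just44 = true := by decide +kernel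

/-- justifications -/
noncomputable def just45 : List Cert.Just :=
  [.loop none [.bwd 8256, .fwd 7030, .fwd 8253],
   .loop none [.bwd 8261, .bwd 7019, .fwd 8254],
   .loop none [.bwd 8260, .bwd 6943, .fwd 8255],
   .loop none [.bwd 8270, .fwd 6953, .fwd 8255],
   .loop none [.bwd 8263, .bwd 6958, .fwd 8256],
   .loop none [.bwd 8268, .fwd 7058, .fwd 8256],
   .loop none [.bwd 8264, .bwd 7067, .fwd 8257],
   .loop none [.bwd 8272, .bwd 7066, .fwd 8257],
   .loop none [.bwd 8264, .fwd 7062, .fwd 8257],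
   .loop none [.bwd 8264, .bwd 6920, .fwd 8257],
   .loop none [.bwd 8257, .bwd 7069, .fwd 8257],
   .loop none [.bwd 8266, .fwd 6941, .fwd 8258],
   .loop none [.bwd 8265, .fwd 6858, .fwd 8258],
   .loop none [.bwd 8262, .bwd 6952, .fwd 8258],
   .loop none [.bwd 8267, .bwd 6967, .fwd 8258],
   .loop none [.bwd 8270, .fwd 6954, .fwd 8258],
   .loop none [.bwd 8267, .bwd 6968, .fwd 8259],
   .loop none [.bwd 8272, .bwd 6711, .fwd 8259],
   .loop none [.bwd 8275, .bwd 6998, .fwd 8259],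
   .loop none [.bwd 8266, .fwd 7031, .fwd 8259],
   .loop none [.bwd 8275, .fwd 7002, .fwd 8260],
   .loop none [.bwd 8275, .fwd 6996, .fwd 8261],
   .loop none [.bwd 8268, .fwd 7074, .fwd 8262],
   .loop none [.bwd 8270, .bwd 6770, .fwd 8262],
   .loop none [.bwd 8263, .bwd 6956, .fwd 8262],
   .loop none [.bwd 8265, .fwd 7053, .fwd 8262],
   .loop none [.bwd 8265, .bwd 6857, .fwd 8263],
   .loop none [.bwd 8265, .bwd 6972, .fwd 8263],
   .loop none [.bwd 8278, .bwd 7068, .fwd 8264],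
   .loop none [.bwd 8264, .bwd 6983, .fwd 8264],
   .loop none [.bwd 8268, .bwd 7009, .fwd 8266],
   .loop none [.bwd 8275, .fwd 7043, .fwd 8266],
   .loop none [.bwd 8270, .fwd 6771, .fwd 8267],
   .loop none [.bwd 8278, .bwd 6760, .fwd 8267],
   .loop none [.bwd 8270, .bwd 7070, .fwd 8267],
   .loop none [.bwd 8275, .bwd 6809, .fwd 8268],
   .loop none [.bwd 8279, .fwd 7126, .fwd 8269],
   .loop none [.bwd 8274, .fwd 7029, .fwd 8269],
   .loop none [.bwd 8280, .bwd 7084, .fwd 8269],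
   .loop none [.bwd 8271, .fwd 7082, .fwd 8269],
   .loop none [.bwd 8282, .bwd 7109, .fwd 8269],
   .loop none [.bwd 8271, .fwd 7083, .fwd 8269],
   .loop none [.bwd 8275, .fwd 7073, .fwd 8270],
   .loop none [.bwd 8277, .fwd 7116, .fwd 8271],
   .loop none [.bwd 8280, .fwd 7056, .fwd 8271],
   .loop none [.bwd 8282, .fwd 7081, .fwd 8271],
   .loop none [.bwd 8278, .bwd 7088, .fwd 8272],
   .loop none [.bwd 8286, .bwd 7076, .fwd 8272],
   .loop none [.bwd 8278, .bwd 7016, .fwd 8272],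
   .loop none [.bwd 8272, .bwd 7079, .fwd 8272],
   .loop none [.bwd 8280, .fwd 7120, .fwd 8273],
   .loop none [.bwd 8277, .fwd 6937, .fwd 8273],
   .loop none [.bwd 8276, .bwd 7104, .fwd 8273],
   .loop none [.bwd 8279, .fwd 7114, .fwd 8273],
   .loop none [.bwd 8281, .bwd 7099, .fwd 8273],
   .loop none [.bwd 8284, .fwd 7115, .fwd 8273],
   .loop none [.bwd 8281, .bwd 7132, .fwd 8274],
   .loop none [.bwd 8286, .bwd 7096, .fwd 8274],
   .loop none [.bwd 8289, .bwd 7111, .fwd 8274],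
   .loop none [.bwd 8280, .fwd 7087, .fwd 8274],
   .loop none [.bwd 8289, .bwd 6997, .fwd 8275],
   .loop none [.bwd 8282, .bwd 7121, .fwd 8276],
   .loop none [.bwd 8284, .bwd 7072, .fwd 8276],
   .loop none [.bwd 8284, .bwd 7106, .fwd 8276],
   .loop none [.bwd 8277, .bwd 7103, .fwd 8276],
   .loop none [.bwd 8279, .fwd 7105, .fwd 8276],
   .loop none [.bwd 8279, .bwd 7112, .fwd 8277],
   .loop none [.bwd 8279, .bwd 7113, .fwd 8277],
   .loop none [.bwd 8292, .fwd 7092, .fwd 8278],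
   .loop none [.bwd 8278, .bwd 7095, .fwd 8278],
   .loop none [.bwd 8281, .bwd 6965, .fwd 8279],
   .loop none [.bwd 8282, .bwd 7108, .fwd 8280],
   .loop none [.bwd 8289, .fwd 7085, .fwd 8280],
   .loop none [.bwd 8292, .bwd 7100, .fwd 8281],
   .loop none [.bwd 8284, .fwd 7098, .fwd 8281],
   .loop none [.bwd 8284, .bwd 7107, .fwd 8281],
   .loop none [.bwd 8289, .bwd 7075, .fwd 8282],
   .loop none [.bwd 8289, .bwd 7110, .fwd 8282],
   .loop none [.bwd 8293, .fwd 7155, .fwd 8283],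
   .loop none [.bwd 8288, .fwd 7179, .fwd 8283],
   .loop none [.bwd 8294, .fwd 7206, .fwd 8283],
   .loop none [.bwd 8285, .fwd 7174, .fwd 8283],
   .loop none [.bwd 8296, .fwd 7214, .fwd 8283],
   .loop none [.bwd 8285, .fwd 7175, .fwd 8283],
   .loop none [.bwd 8289, .bwd 7125, .fwd 8284],
   .loop none [.bwd 8291, .bwd 7173, .fwd 8285],
   .loop none [.bwd 8288, .bwd 7064, .fwd 8285],
   .loop none [.bwd 8294, .fwd 7204, .fwd 8285],
   .loop none [.bwd 8296, .fwd 7213, .fwd 8285],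
   .loop none [.bwd 8292, .fwd 7122, .fwd 8286],
   .loop none [.bwd 8299, .bwd 7077, .fwd 8286],
   .loop none [.bwd 8286, .bwd 7097, .fwd 8286],
   .loop none [.bwd 8294, .fwd 7224, .fwd 8287],
   .loop none [.bwd 8290, .bwd 7046, .fwd 8287],
   .loop none [.bwd 8291, .fwd 7119, .fwd 8287],
   .loop none [.bwd 8290, .bwd 7163, .fwd 8287],
   .loop none [.bwd 8293, .fwd 7123, .fwd 8287],
   .loop none [.bwd 8295, .bwd 7134, .fwd 8287],
   .loop none [.bwd 8298, .fwd 7124, .fwd 8287],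
   .loop none [.bwd 8295, .bwd 7178, .fwd 8288],
   .loop none [.bwd 8299, .fwd 7237, .fwd 8288],
   .loop none [.bwd 8297, .fwd 7222, .fwd 8288],
   .loop none [.bwd 8297, .bwd 7180, .fwd 8288],
   .loop none [.bwd 8294, .fwd 7207, .fwd 8288],
   .loop none [.bwd 8297, .fwd 6991, .fwd 8289],
   .loop none [.bwd 8296, .fwd 7199, .fwd 8290],
   .loop none [.bwd 8298, .fwd 7137, .fwd 8290],
   .loop none [.bwd 8298, .bwd 7135, .fwd 8290],
   .loop none [.bwd 8291, .bwd 7118, .fwd 8290],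
   .loop none [.bwd 8293, .fwd 7139, .fwd 8290],
   .loop none [.bwd 8295, .fwd 7060, .fwd 8291],
   .loop none [.bwd 8293, .bwd 7129, .fwd 8291],
   .loop none [.bwd 8293, .bwd 7130, .fwd 8291],
   .loop none [.bwd 8301, .bwd 7093, .fwd 8292],
   .loop none [.bwd 8292, .bwd 7101, .fwd 8292],
   .loop none [.bwd 8298, .fwd 6980, .fwd 8293],
   .loop none [.bwd 8295, .bwd 7131, .fwd 8293],
   .loop none [.bwd 8296, .fwd 7036, .fwd 8294],
   .loop none [.bwd 8296, .fwd 7212, .fwd 8294],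
   .loop none [.bwd 8297, .fwd 7216, .fwd 8294],
   .loop none [.bwd 8301, .fwd 7166, .fwd 8295],
   .loop none [.bwd 8298, .fwd 7133, .fwd 8295],
   .loop none [.bwd 8298, .bwd 7136, .fwd 8295],
   .loop none [.bwd 8297, .bwd 7202, .fwd 8296],
   .loop none [.bwd 8297, .bwd 7203, .fwd 8296],
   .loop none [.bwd 8298, .fwd 7138, .fwd 8297],
   .loop none [.bwd 8301, .fwd 7239, .fwd 8299],
   .loop none [.bwd 8299, .fwd 7078, .fwd 8299],
   .loop none [.bwd 8299, .bwd 7238, .fwd 8299],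
   .loop none [.bwd 8302, .fwd 7242, .fwd 8300],
   .loop none [.bwd 8303, .fwd 7241, .fwd 8300],
   .loop none [.bwd 8302, .bwd 7090, .fwd 8300],
   .loop none [.bwd 8300, .fwd 7245, .fwd 8300],
   .loop none [.bwd 8300, .bwd 7240, .fwd 8300],
   .loop none [.bwd 8301, .fwd 7094, .fwd 8301],
   .loop none [.bwd 8301, .bwd 7167, .fwd 8301],
   .loop none [.bwd 8304, .fwd 7267, .fwd 8302],
   .loop none [.bwd 8302, .fwd 7257, .fwd 8302],
   .loop none [.bwd 8302, .bwd 7258, .fwd 8302],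
   .loop none [.bwd 8304, .fwd 7249, .fwd 8303],
   .loop none [.bwd 8303, .fwd 7252, .fwd 8303],
   .loop none [.bwd 8303, .bwd 7248, .fwd 8303],
   .loop none [.bwd 8304, .fwd 7272, .fwd 8304],
   .loop none [.bwd 8304, .bwd 7271, .fwd 8304],
   .loop none [.bwd 8306, .bwd 7278, .fwd 8305],
   .loop none [.bwd 8305, .fwd 7247, .fwd 8305],
   .loop none [.bwd 8305, .bwd 7274, .fwd 8305],
   .loop none [.bwd 8305, .bwd 7275, .fwd 8305],
   .loop none [.bwd 8306, .fwd 7273, .fwd 8306],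
   .loop none [.bwd 8306, .bwd 7276, .fwd 8306],
   .loop none [.bwd 8306, .bwd 7277, .fwd 8306],
   .loop none [.bwd 8308, .bwd 7282, .fwd 8307],
   .loop none [.bwd 8307, .fwd 7254, .fwd 8307],
   .loop none [.bwd 8307, .fwd 7281, .fwd 8307],
   .loop none [.bwd 8307, .bwd 7279, .fwd 8307],
   .loop none [.bwd 8307, .bwd 7280, .fwd 8307],
   .loop none [.bwd 8308, .fwd 7262, .fwd 8308],
   .loop none [.bwd 8308, .fwd 7283, .fwd 8308],
   .loop none [.bwd 8308, .bwd 7285, .fwd 8308],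
   .loop none [.bwd 8308, .bwd 7284, .fwd 8308]]

theorem just45_len : just45.length = 160 := by decide +kernel

theorem just45_ok : cert.okFacts 11250 just45 = true := by decide +kernel


end CfsgLib.ThCent.KL
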