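import Cfsg.Agent.Lib.ThCent.LSData

/-!
Justifications of the side facts (generated data).
-/

namespace CfsgLib.ThCent.LS

open CfsgLib.PresCert

set_option maxRecDepth 100000

/-- justifications -/
noncomputable def just0 : List Cert.Just :=
  [.define,
   .loop (some (3, 2)) [.bwd 0, .edge 5, .fwd 0],
   .define,
   .loop (some (2, 2)) [.bwd 2, .edge 5, .fwd 2],
   .define,
   .define,
   .define,
   .loop (some (7, 4)) [.bwd 0, .edge 2, .edge 2, .edge 2, .fwd 0, .fwd 4, .fwd 5, .fwd 6],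
   .loop (some (1, 2)) [.bwd 2, .edge 2, .fwd 2],
   .define,
   .define,
   .define,
   .loop (some (5, 4)) [.bwd 0, .fwd 2, .fwd 9, .fwd 10, .fwd 11],
   .loop (some (2, 2)) [.fwd 12, .bwd 1, .bwd 12],
   .loop (some (4, 2)) [.fwd 6, .fwd 7, .bwd 1, .bwd 7],
   .define,
   .define,
   .loop (some (7, 6)) [.bwd 15, .bwd 4, .bwd 0, .edge 3, .fwd 0, .fwd 4, .fwd 15, .fwd 16],
   .define,
   .loop (some (1, 2)) [.fwd 12, .bwd 7, .fwd 18],
   .define,
   .loop (some (6, 3)) [.fwd 17, .bwd 15, .bwd 4, .bwd 7, .bwd 6, .fwd 20],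
   .loop (some (3, 2)) [.bwd 9, .bwd 3, .fwd 9],
   .define,
   .define,
   .define,
   .loop (some (7, 4)) [.bwd 9, .fwd 8, .fwd 8, .fwd 8, .fwd 9, .fwd 23, .fwd 24, .fwd 25],
   .define,
   .loop (some (3, 1)) [.fwd 14, .bwd 5, .fwd 27],
   .define,
   .define,
   .loop (some (2, 3)) [.fwd 27, .fwd 29, .fwd 30],
   .define,
   .loop (some (4, 2)) [.fwd 7, .fwd 4, .fwd 27, .fwd 32],
   .define,
   .define,
   .loop (some (7, 5)) [.fwd 21, .fwd 17, .bwd 15, .fwd 5, .fwd 6, .bwd 28, .fwd 34, .fwd 35],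
   .define,
   .loop (some (0, 1)) [.bwd 27, .fwd 37],
   .loop (some (1, 2)) [.fwd 31, .bwd 4, .bwd 12],
   .define,
   .define,
   .define,
   .loop (some (5, 4)) [.bwd 5, .bwd 31, .fwd 40, .fwd 41, .fwd 42],
   .loop (some (2, 2)) [.fwd 43, .bwd 14, .fwd 18],
   .loop (some (4, 2)) [.bwd 21, .bwd 20, .bwd 14, .bwd 6],
   .loop (some (0, 1)) [.fwd 33, .fwd 14, .fwd 45],
   .loop none [.bwd 46],
   .loop none [.fwd 21, .fwd 47, .bwd 32],
   .loop none [.fwd 48],
   .loop none [.bwd 33, .bwd 47],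
   .loop none [.bwd 29, .bwd 49],
   .loop none [.fwd 36, .fwd 49, .fwd 28],
   .loop none [.bwd 52],
   .loop none [.fwd 27, .bwd 49],
   .loop none [.fwd 38, .bwd 49],
   .loop none [.bwd 36, .bwd 53],
   .loop (some (1, 2)) [.fwd 43, .fwd 20, .fwd 51],
   .loop (some (3, 2)) [.bwd 55, .bwd 56, .bwd 50, .bwd 16],
   .loop none [.bwd 58],
   .loop none [.fwd 55, .bwd 59],
   .loop none [.fwd 37, .bwd 59],
   .define,
   .loop (some (2, 2)) [.bwd 18, .bwd 50, .fwd 62],
   .loop (some (1, 2)) [.bwd 18, .bwd 6, .bwd 43],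
   .define,
   .define,
   .loop (some (5, 3)) [.bwd 51, .bwd 56, .fwd 18, .fwd 65, .fwd 66],
   .loop (some (2, 2)) [.bwd 10, .bwd 22, .fwd 10],
   .loop (some (4, 2)) [.fwd 25, .fwd 26, .bwd 22, .bwd 26],
   .define,
   .define,
   .loop (some (7, 6)) [.bwd 70, .bwd 23, .bwd 9, .bwd 8, .fwd 9, .fwd 23, .fwd 70, .fwd 71],
   .define,
   .loop (some (1, 2)) [.bwd 10, .bwd 26, .fwd 73],
   .define,
   .loop (some (6, 3)) [.fwd 72, .bwd 70, .bwd 23, .bwd 26, .bwd 25, .fwd 75],
   .define,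
   .define,
   .loop (some (4, 3)) [.bwd 77, .bwd 68, .fwd 77, .fwd 78],
   .define,
   .define,
   .define,
   .define,
   .loop (some (7, 7)) [.fwd 74, .fwd 11, .bwd 19, .fwd 65, .fwd 80, .fwd 81, .fwd 82, .fwd 83],
   .loop (some (1, 1)) [.bwd 23, .fwd 10, .fwd 77],
   .define,
   .loop (some (6, 3)) [.fwd 83, .fwd 84, .fwd 74, .fwd 77, .bwd 79, .fwd 86],
   .define,
   .loop (some (4, 3)) [.bwd 39, .bwd 13, .fwd 39, .fwd 88],
   .define,
   .define,
   .loop (some (7, 4)) [.fwd 67, .fwd 57, .fwd 64, .fwd 19, .bwd 11, .bwd 74, .fwd 90, .fwd 91],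
   .define,
   .loop (some (6, 3)) [.fwd 57, .fwd 64, .fwd 19, .fwd 39, .bwd 89, .fwd 93],
   .loop (some (2, 3)) [.fwd 61, .bwd 31, .fwd 88],
   .define,
   .define,
   .loop (some (5, 3)) [.bwd 62, .bwd 16, .bwd 95, .fwd 96, .fwd 97],
   .loop (some (2, 2)) [.bwd 62, .bwd 45, .bwd 43],
   .loop (some (1, 3)) [.bwd 62, .fwd 17, .bwd 95, .fwd 93],
   .loop none [.fwd 100],
   .loop none [.bwd 94, .bwd 101],
   .loop none [.fwd 93, .bwd 101],
   .loop (some (3, 2)) [.bwd 65, .bwd 63, .bwd 98],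
   .define,
   .define,
   .loop (some (7, 4)) [.fwd 98, .fwd 102, .fwd 57, .fwd 64, .fwd 65, .fwd 80, .fwd 105, .fwd 106],
   .loop (some (2, 2)) [.bwd 51, .bwd 60, .bwd 95],
   .define,
   .loop (some (3, 1)) [.fwd 69, .bwd 24, .fwd 109],
   .define,
   .loop (some (2, 2)) [.fwd 85, .fwd 109, .fwd 111],
   .define,
   .loop (some (4, 2)) [.fwd 26, .fwd 23, .fwd 109, .fwd 113],
   .define,
   .define,
   .loop (some (7, 5)) [.fwd 76, .fwd 72, .bwd 70, .fwd 24, .fwd 25, .bwd 110, .fwd 115, .fwd 116],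
   .define,
   .loop (some (0, 1)) [.bwd 109, .fwd 118],
   .define,
   .define,
   .define,
   .loop (some (5, 4)) [.bwd 24, .bwd 85, .fwd 120, .fwd 121, .fwd 122],
   .loop (some (2, 2)) [.fwd 123, .bwd 69, .fwd 73],
   .loop (some (4, 2)) [.bwd 76, .bwd 75, .bwd 69, .bwd 25],
   .loop (some (0, 1)) [.fwd 114, .fwd 69, .fwd 125],
   .loop none [.bwd 126],
   .loop none [.fwd 76, .fwd 127, .bwd 113],
   .loop none [.fwd 128],
   .loop none [.bwd 114, .bwd 127],
   .loop none [.bwd 111, .bwd 129],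
   .loop none [.fwd 117, .fwd 129, .fwd 110],
   .loop none [.bwd 132],
   .loop none [.fwd 109, .bwd 129],
   .loop none [.fwd 119, .bwd 129],
   .loop none [.bwd 117, .bwd 133],
   .loop (some (1, 2)) [.fwd 123, .fwd 75, .fwd 131],
   .loop (some (3, 2)) [.bwd 135, .bwd 136, .bwd 130, .bwd 71],
   .loop none [.bwd 138],
   .loop none [.fwd 135, .bwd 139],
   .loop none [.fwd 118, .bwd 139],
   .define,
   .loop (some (2, 2)) [.bwd 73, .bwd 130, .fwd 142],
   .loop (some (1, 2)) [.fwd 84, .bwd 73, .bwd 25, .bwd 123],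
   .loop none [.fwd 144],
   .loop none [.bwd 123, .bwd 145],
   .loop none [.fwd 122, .bwd 145],
   .loop none [.fwd 83, .fwd 145, .bwd 137],
   .loop none [.fwd 148],
   .loop none [.fwd 124, .bwd 145],
   .loop none [.fwd 131, .bwd 149],
   .loop none [.bwd 112, .bwd 149],
   .loop (some (5, 2)) [.fwd 82, .fwd 151, .bwd 136, .fwd 73, .fwd 90],
   .loop (some (3, 2)) [.fwd 67, .bwd 108, .fwd 96],
   .define,
   .define,
   .define,
   .loop (some (7, 4)) [.bwd 40, .bwd 89, .bwd 103, .fwd 102, .bwd 67, .fwd 155, .fwd 156, .fwd 157],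
   .loop (some (3, 2)) [.bwd 40, .bwd 30, .bwd 67],
   .define,
   .define,
   .define,
   .loop (some (7, 4)) [.fwd 42, .fwd 64, .fwd 19, .fwd 39, .fwd 40, .fwd 160, .fwd 161, .fwd 162],
   .loop (some (2, 2)) [.bwd 41, .bwd 159, .bwd 66],
   .loop (some (4, 2)) [.fwd 157, .fwd 158, .bwd 159, .bwd 92],
   .define,
   .loop (some (7, 7)) [.bwd 160, .bwd 40, .bwd 39, .bwd 11, .bwd 74, .bwd 84, .fwd 147, .fwd 166],
   .loop (some (0, 0)) [.fwd 154, .fwd 159],
   .define,
   .loop (some (1, 2)) [.bwd 41, .bwd 158, .fwd 169],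
   .define,
   .loop (some (6, 3)) [.fwd 166, .fwd 167, .bwd 160, .bwd 158, .bwd 157, .fwd 171],
   .define,
   .loop (some (4, 2)) [.fwd 162, .fwd 163, .bwd 164, .fwd 173],
   .define,
   .define,
   .define,
   .loop (some (7, 7)) [.fwd 170, .fwd 42, .bwd 57, .bwd 67, .fwd 155, .fwd 175, .fwd 176, .fwd 177],
   .loop (some (0, 0)) [.fwd 104, .fwd 164],
   .loop (some (1, 1)) [.bwd 160, .fwd 41, .bwd 163],
   .define,
   .loop (some (6, 3)) [.fwd 177, .fwd 178, .fwd 170, .bwd 163, .bwd 162, .fwd 181],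
   .define,
   .define,
   .loop (some (7, 4)) [.bwd 96, .bwd 103, .fwd 102, .fwd 57, .bwd 42, .bwd 170, .fwd 183, .fwd 184],
   .define,
   .loop (some (7, 2)) [.fwd 79, .bwd 77, .fwd 11, .fwd 39, .bwd 89, .bwd 103, .bwd 98, .fwd 186],
   .define,
   .loop (some (4, 3)) [.bwd 173, .bwd 104, .bwd 107, .fwd 188],
   .define,
   .loop (some (7, 6)) [.bwd 81, .bwd 80, .bwd 65, .bwd 64, .bwd 42, .bwd 170, .bwd 178, .fwd 190],
   .loop (some (1, 1)) [.bwd 155, .bwd 66, .fwd 173],
   .define,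
   .loop (some (6, 3)) [.fwd 191, .bwd 81, .bwd 80, .fwd 173, .bwd 189, .fwd 193],
   .loop (some (4, 2)) [.fwd 91, .fwd 92, .bwd 154, .bwd 185],
   .define,
   .define,
   .loop (some (7, 6)) [.bwd 175, .bwd 155, .fwd 67, .bwd 102, .bwd 98, .fwd 186, .fwd 196, .fwd 197],
   .loop (some (1, 1)) [.bwd 80, .fwd 66, .bwd 92],
   .define,
   .loop (some (6, 3)) [.fwd 198, .bwd 175, .bwd 155, .bwd 92, .bwd 91, .fwd 200],
   .loop (some (2, 3)) [.fwd 141, .bwd 85, .fwd 78],
   .define,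
   .loop (some (5, 3)) [.bwd 142, .bwd 71, .bwd 202, .bwd 187, .fwd 203],
   .loop (some (2, 2)) [.bwd 142, .bwd 125, .bwd 146],
   .loop (some (1, 3)) [.bwd 142, .fwd 72, .bwd 202, .fwd 86],
   .loop none [.bwd 206],
   .loop none [.fwd 142, .bwd 207],
   .loop none [.fwd 204, .bwd 207],
   .loop none [.bwd 143, .bwd 207],
   .loop none [.fwd 205, .bwd 207],
   .loop (some (3, 2)) [.fwd 195, .bwd 90, .bwd 210, .fwd 209],
   .loop none [.fwd 212],
   .loop none [.fwd 203, .bwd 213],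
   .loop none [.fwd 209, .bwd 213],
   .define,
   .loop (some (7, 3)) [.fwd 184, .fwd 215, .fwd 87, .fwd 83, .fwd 84, .fwd 90, .fwd 91, .fwd 216],
   .loop (some (2, 2)) [.fwd 151, .bwd 140, .bwd 202],
   .loop (some (3, 2)) [.bwd 120, .bwd 152, .bwd 82],
   .loop (some (7, 1)) [.bwd 181, .bwd 161, .bwd 167, .bwd 166, .bwd 147, .fwd 84, .fwd 74, .fwd 77, .fwd 120],
   .loop none [.bwd 220],
   .loop none [.bwd 182, .bwd 221],
   .loop none [.fwd 181, .bwd 221],
   .loop (some (3, 2)) [.fwd 187, .bwd 78, .fwd 120],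
   .define,
   .define,
   .loop (some (3, 2)) [.bwd 105, .fwd 225, .fwd 226],
   .define,
   .loop (some (2, 2)) [.fwd 199, .fwd 225, .fwd 228],
   .define,
   .loop (some (4, 2)) [.bwd 173, .fwd 80, .fwd 225, .fwd 230],
   .define,
   .define,
   .define,
   .loop (some (7, 5)) [.fwd 194, .fwd 191, .bwd 81, .fwd 105, .fwd 106, .fwd 232, .fwd 233, .fwd 234],
   .define,
   .loop (some (0, 1)) [.bwd 225, .fwd 236],
   .define,
   .define,
   .loop (some (5, 4)) [.bwd 105, .bwd 199, .fwd 216, .fwd 238, .fwd 239],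
   .loop (some (3, 0)) [.fwd 187, .fwd 218, .bwd 82],
   .define,
   .loop (some (7, 5)) [.fwd 193, .fwd 194, .fwd 191, .fwd 82, .bwd 87, .bwd 215, .fwd 185, .fwd 242],
   .loop (some (3, 2)) [.bwd 147, .fwd 150, .fwd 90],
   .loop (some (7, 2)) [.bwd 232, .fwd 107, .fwd 186, .fwd 187, .fwd 86, .fwd 87, .fwd 83, .fwd 147, .bwd 172],
   .loop none [.bwd 245],
   .loop none [.fwd 232, .bwd 246],
   .loop none [.fwd 171, .fwd 246, .fwd 233],
   .loop none [.fwd 248]]

theorem just0_len : just0.length = 250 := by decide +kernel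

theorem just0_ok : cert.okFacts 0 just0 = true := by decide +kernel

/-- justifications -/
noncomputable def just1 : List Cert.Just :=
  [.loop none [.bwd 157, .fwd 249, .fwd 234],
   .loop none [.fwd 250],
   .loop none [.bwd 235, .bwd 251],
   .loop (some (3, 2)) [.fwd 215, .fwd 211, .fwd 147],
   .loop (some (4, 2)) [.bwd 201, .bwd 200, .bwd 195, .bwd 184],
   .loop (some (1, 1)) [.fwd 191, .bwd 153, .fwd 200],
   .define,
   .loop (some (3, 2)) [.bwd 216, .bwd 229, .fwd 256],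
   .define,
   .loop (some (4, 2)) [.bwd 200, .fwd 91, .bwd 229, .fwd 258],
   .loop (some (0, 1)) [.fwd 229, .fwd 165],
   .loop (some (4, 2)) [.fwd 184, .fwd 185, .bwd 168, .bwd 158],
   .define,
   .define,
   .loop (some (7, 7)) [.bwd 242, .bwd 96, .fwd 89, .fwd 40, .fwd 160, .bwd 167, .fwd 262, .fwd 263],
   .loop (some (6, 3)) [.fwd 263, .fwd 264, .bwd 242, .bwd 185, .bwd 184, .bwd 217],
   .loop (some (4, 2)) [.fwd 227, .fwd 106, .fwd 107, .bwd 179, .bwd 163],
   .loop none [.bwd 266],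
   .loop none [.fwd 226, .bwd 267],
   .loop none [.bwd 227, .bwd 267],
   .define,
   .loop (some (7, 6)) [.bwd 196, .bwd 186, .fwd 98, .fwd 103, .fwd 96, .fwd 242, .bwd 264, .fwd 270],
   .loop (some (1, 1)) [.bwd 242, .fwd 97, .bwd 107],
   .define,
   .loop (some (6, 3)) [.fwd 271, .bwd 196, .bwd 186, .bwd 107, .bwd 106, .fwd 273],
   .loop (some (2, 2)) [.fwd 240, .bwd 269, .fwd 180],
   .loop (some (4, 2)) [.bwd 274, .bwd 273, .bwd 269, .bwd 162],
   .define,
   .loop (some (0, 1)) [.fwd 269, .fwd 277],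
   .define,
   .loop (some (1, 2)) [.fwd 240, .fwd 273, .fwd 279],
   .define,
   .define,
   .loop (some (3, 2)) [.fwd 247, .fwd 281, .fwd 282],
   .define,
   .loop (some (2, 2)) [.bwd 272, .fwd 281, .fwd 284],
   .define,
   .loop (some (4, 2)) [.bwd 273, .fwd 106, .fwd 281, .fwd 286],
   .loop (some (0, 1)) [.bwd 281, .fwd 188],
   .loop (some (1, 2)) [.fwd 264, .bwd 272, .bwd 106, .bwd 240],
   .loop none [.bwd 289],
   .loop none [.fwd 239, .fwd 290, .fwd 270],
   .loop none [.fwd 291],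
   .loop none [.bwd 264, .bwd 290],
   .loop none [.fwd 280, .fwd 290, .bwd 263],
   .loop none [.bwd 294],
   .loop none [.bwd 271, .bwd 292],
   .loop none [.fwd 274, .bwd 292],
   .loop none [.fwd 276, .bwd 292],
   .loop none [.fwd 279, .bwd 295],
   .loop none [.bwd 280, .bwd 295],
   .define,
   .define,
   .loop (some (5, 4)) [.fwd 247, .fwd 272, .fwd 243, .fwd 301, .fwd 302],
   .loop (some (4, 3)) [.bwd 177, .bwd 222, .bwd 219, .bwd 81, .fwd 236],
   .loop none [.fwd 304],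
   .loop none [.bwd 237, .bwd 305],
   .loop none [.fwd 236, .bwd 305],
   .loop (some (1, 1)) [.fwd 303, .fwd 172, .bwd 121, .fwd 222],
   .loop none [.bwd 308],
   .loop none [.bwd 303, .bwd 309],
   .loop none [.fwd 176, .fwd 309, .bwd 302],
   .loop none [.fwd 311],
   .loop none [.fwd 301, .bwd 312],
   .loop (some (4, 2)) [.bwd 167, .bwd 166, .bwd 244, .fwd 200],
   .loop (some (1, 1)) [.bwd 223, .fwd 121, .fwd 166],
   .loop (some (3, 0)) [.bwd 216, .fwd 165, .bwd 156],
   .loop (some (2, 2)) [.fwd 231, .fwd 192, .fwd 316, .fwd 238],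
   .loop none [.fwd 317],
   .loop none [.fwd 238, .bwd 318],
   .loop none [.bwd 239, .bwd 318],
   .loop none [.bwd 296, .bwd 318],
   .loop none [.fwd 230, .fwd 318, .fwd 297],
   .loop none [.fwd 322],
   .loop none [.bwd 298, .bwd 318],
   .loop none [.bwd 228, .fwd 323, .bwd 299],
   .loop none [.fwd 325],
   .loop none [.fwd 273, .bwd 323],
   .loop none [.fwd 306, .fwd 323, .bwd 287],
   .loop none [.fwd 328],
   .loop none [.bwd 256, .fwd 326, .bwd 262],
   .loop none [.bwd 330],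
   .loop none [.bwd 258, .fwd 326, .fwd 300],
   .loop none [.bwd 332],
   .loop none [.fwd 265, .bwd 326],
   .loop none [.fwd 177, .fwd 329, .bwd 286],
   .loop none [.fwd 335],
   .loop none [.fwd 256, .bwd 331],
   .loop none [.bwd 257, .bwd 331],
   .loop none [.fwd 258, .bwd 333],
   .loop none [.bwd 259, .bwd 333],
   .loop none [.bwd 310, .fwd 336, .fwd 284],
   .loop none [.fwd 341],
   .loop none [.fwd 176, .fwd 336, .fwd 282],
   .loop none [.fwd 343],
   .loop none [.fwd 281, .bwd 336],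
   .loop none [.fwd 288, .bwd 336],
   .loop none [.bwd 285, .bwd 342],
   .loop none [.bwd 283, .bwd 344],
   .loop (some (7, 5)) [.fwd 201, .fwd 198, .bwd 175, .fwd 156, .fwd 157, .fwd 252, .bwd 193, .fwd 189],
   .loop (some (0, 0)) [.fwd 338, .bwd 316],
   .loop (some (5, 4)) [.bwd 156, .bwd 192, .fwd 349, .fwd 255, .bwd 190],
   .define,
   .define,
   .loop (some (3, 2)) [.bwd 252, .fwd 352, .fwd 353],
   .define,
   .loop (some (2, 2)) [.bwd 169, .fwd 352, .fwd 355],
   .loop (some (4, 1)) [.fwd 198, .fwd 348, .bwd 171, .fwd 157, .fwd 352],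
   .loop none [.fwd 357],
   .loop none [.bwd 355, .bwd 358],
   .loop none [.fwd 197, .fwd 358, .fwd 353],
   .loop none [.fwd 360],
   .loop none [.fwd 352, .bwd 358],
   .loop none [.bwd 354, .bwd 361],
   .define,
   .define,
   .loop (some (5, 4)) [.bwd 252, .fwd 169, .fwd 183, .fwd 364, .fwd 365],
   .loop (some (2, 2)) [.fwd 278, .fwd 180, .bwd 314, .fwd 255],
   .loop none [.bwd 367],
   .loop none [.bwd 278, .bwd 368],
   .loop none [.fwd 277, .bwd 368],
   .loop (some (3, 1)) [.bwd 252, .fwd 261, .bwd 183, .bwd 356],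
   .loop none [.fwd 371],
   .loop none [.fwd 366, .fwd 372, .bwd 359],
   .loop none [.bwd 373],
   .loop none [.bwd 356, .bwd 372],
   .loop none [.bwd 366, .bwd 374],
   .loop none [.fwd 197, .fwd 374, .bwd 365],
   .loop none [.fwd 377],
   .loop none [.fwd 364, .bwd 378],
   .loop (some (0, 0)) [.fwd 363, .fwd 375],
   .loop (some (0, 1)) [.fwd 348, .fwd 347],
   .loop none [.edge 0, .fwd 2],
   .loop none [.edge 1, .fwd 0],
   .loop none [.edge 1, .bwd 382, .fwd 9],
   .loop none [.edge 0, .bwd 383, .bwd 12],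
   .loop none [.edge 3, .bwd 383, .bwd 7],
   .loop none [.edge 2, .bwd 383, .fwd 4],
   .loop none [.edge 0, .bwd 384, .fwd 10],
   .loop none [.edge 3, .bwd 384, .bwd 26],
   .loop none [.edge 2, .bwd 384, .fwd 23],
   .loop none [.edge 3, .bwd 385, .fwd 39],
   .loop none [.edge 2, .bwd 385, .bwd 19],
   .loop none [.edge 1, .bwd 386, .fwd 56],
   .loop none [.edge 3, .bwd 386, .bwd 6],
   .loop none [.edge 4, .bwd 386, .bwd 50],
   .loop none [.edge 2, .bwd 387, .fwd 15],
   .loop none [.edge 3, .bwd 388, .fwd 77],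
   .loop none [.edge 2, .bwd 388, .bwd 74],
   .loop none [.edge 1, .bwd 389, .fwd 136],
   .loop none [.edge 3, .bwd 389, .bwd 25],
   .loop none [.edge 4, .bwd 389, .bwd 130],
   .loop none [.edge 2, .bwd 390, .fwd 70],
   .loop none [.edge 1, .bwd 391, .fwd 40],
   .loop none [.edge 3, .bwd 391, .bwd 89],
   .loop none [.edge 4, .bwd 391, .bwd 30],
   .loop none [.edge 1, .bwd 392, .fwd 65],
   .loop none [.edge 2, .bwd 392, .bwd 64],
   .loop none [.edge 4, .bwd 392, .bwd 63],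
   .loop none [.edge 1, .bwd 397, .fwd 120],
   .loop none [.edge 3, .bwd 397, .bwd 79],
   .loop none [.edge 4, .bwd 397, .bwd 152],
   .loop none [.edge 1, .bwd 398, .fwd 90],
   .loop none [.edge 2, .bwd 398, .bwd 84],
   .loop none [.edge 4, .bwd 398, .bwd 210],
   .loop none [.edge 0, .bwd 403, .fwd 41],
   .loop none [.edge 3, .bwd 403, .bwd 158],
   .loop none [.edge 2, .bwd 403, .fwd 160],
   .loop none [.edge 5, .bwd 403, .fwd 168],
   .loop none [.edge 4, .bwd 403, .bwd 159],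
   .loop none [.edge 3, .bwd 406, .fwd 173],
   .loop none [.edge 2, .bwd 406, .fwd 80],
   .loop none [.edge 4, .bwd 406, .bwd 104],
   .loop none [.edge 0, .bwd 409, .fwd 121],
   .loop none [.edge 3, .bwd 409, .fwd 222],
   .loop none [.edge 2, .bwd 409, .fwd 223],
   .loop none [.edge 5, .bwd 409, .fwd 224],
   .loop none [.edge 4, .bwd 409, .bwd 219],
   .loop none [.edge 3, .bwd 412, .fwd 200],
   .loop none [.edge 2, .bwd 412, .fwd 91],
   .loop none [.edge 4, .bwd 412, .bwd 195],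
   .loop none [.edge 3, .bwd 415, .bwd 163],
   .loop none [.edge 2, .bwd 415, .bwd 170],
   .loop none [.edge 1, .bwd 416, .fwd 252],
   .loop none [.edge 3, .bwd 416, .bwd 157],
   .loop none [.edge 5, .bwd 416, .fwd 261],
   .loop none [.edge 4, .bwd 416, .bwd 362],
   .loop none [.edge 2, .bwd 417, .bwd 167],
   .loop none [.edge 5, .bwd 417, .fwd 275],
   .loop none [.edge 2, .bwd 418, .fwd 242],
   .loop none [.edge 2, .bwd 419, .fwd 155],
   .loop none [.edge 3, .bwd 420, .bwd 189],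
   .loop none [.edge 4, .bwd 420, .bwd 231],
   .loop none [.edge 1, .bwd 421, .fwd 105],
   .loop none [.edge 5, .bwd 421, .bwd 307],
   .loop none [.edge 4, .bwd 421, .fwd 225],
   .loop none [.edge 3, .bwd 422, .bwd 107],
   .loop none [.edge 2, .bwd 423, .bwd 172],
   .loop none [.edge 1, .bwd 424, .bwd 176],
   .loop none [.edge 2, .bwd 426, .fwd 196],
   .loop none [.edge 2, .bwd 427, .bwd 191],
   .loop none [.edge 1, .bwd 429, .fwd 216],
   .loop none [.edge 4, .bwd 429, .bwd 229],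
   .loop none [.bwd 382, .bwd 8, .fwd 382],
   .loop none [.bwd 382, .bwd 3, .fwd 382],
   .loop none [.bwd 383, .bwd 1, .fwd 383],
   .loop none [.bwd 384, .bwd 22, .fwd 384],
   .loop none [.bwd 388, .fwd 11, .fwd 385],
   .loop none [.bwd 385, .bwd 13, .fwd 385],
   .loop none [.bwd 392, .bwd 18, .fwd 386],
   .loop none [.bwd 394, .bwd 14, .fwd 386],
   .loop none [.bwd 391, .fwd 31, .fwd 387],
   .loop none [.bwd 394, .bwd 5, .fwd 387],
   .loop none [.bwd 396, .fwd 61, .fwd 387],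
   .loop none [.bwd 393, .fwd 54, .fwd 387],
   .loop none [.bwd 388, .bwd 68, .fwd 388],
   .loop none [.bwd 398, .bwd 73, .fwd 389],
   .loop none [.bwd 400, .bwd 69, .fwd 389],
   .loop none [.bwd 397, .fwd 85, .fwd 390],
   .loop none [.bwd 400, .bwd 24, .fwd 390],
   .loop none [.bwd 402, .fwd 141, .fwd 390],
   .loop none [.bwd 399, .fwd 134, .fwd 390],
   .loop none [.bwd 404, .bwd 88, .fwd 391],
   .loop none [.bwd 407, .bwd 44, .fwd 392],
   .loop none [.bwd 405, .bwd 51, .fwd 393],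
   .loop none [.bwd 395, .bwd 21, .fwd 393],
   .loop none [.bwd 394, .fwd 20, .fwd 393],
   .loop none [.bwd 396, .fwd 60, .fwd 393],
   .loop none [.bwd 407, .fwd 43, .fwd 394],
   .loop none [.bwd 395, .bwd 45, .fwd 394],
   .loop none [.bwd 408, .bwd 62, .fwd 395],
   .loop none [.bwd 396, .fwd 16, .fwd 395],
   .loop none [.bwd 396, .bwd 17, .fwd 395],
   .loop none [.bwd 404, .fwd 95, .fwd 396],
   .loop none [.bwd 410, .bwd 78, .fwd 397],
   .loop none [.bwd 413, .fwd 150, .fwd 398],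
   .loop none [.bwd 411, .fwd 151, .fwd 399],
   .loop none [.bwd 401, .bwd 76, .fwd 399],
   .loop none [.bwd 400, .fwd 75, .fwd 399],
   .loop none [.bwd 402, .fwd 140, .fwd 399],
   .loop none [.bwd 413, .fwd 146, .fwd 400],
   .loop none [.bwd 401, .bwd 125, .fwd 400],
   .loop none [.bwd 414, .fwd 208, .fwd 401],
   .loop none [.bwd 402, .fwd 71, .fwd 401],
   .loop none [.bwd 402, .bwd 72, .fwd 401],
   .loop none [.bwd 410, .fwd 202, .fwd 402],
   .loop none [.bwd 418, .bwd 96, .fwd 404],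
   .loop none [.bwd 408, .fwd 103, .fwd 404],
   .loop none [.bwd 405, .bwd 108, .fwd 404],
   .loop none [.bwd 419, .fwd 67, .fwd 405]]

theorem just1_len : just1.length = 250 := by decide +kernel

theorem just1_ok : cert.okFacts 250 just1 = true := by decide +kernel

/-- justifications -/
noncomputable def just2 : List Cert.Just :=
  [.loop none [.bwd 407, .bwd 57, .fwd 405],
   .loop none [.bwd 408, .fwd 102, .fwd 405],
   .loop none [.bwd 419, .bwd 66, .fwd 406],
   .loop none [.bwd 415, .bwd 164, .fwd 406],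
   .loop none [.bwd 415, .fwd 42, .fwd 407],
   .loop none [.bwd 408, .bwd 99, .fwd 407],
   .loop none [.bwd 422, .fwd 98, .fwd 408],
   .loop none [.bwd 426, .fwd 187, .fwd 410],
   .loop none [.bwd 414, .bwd 86, .fwd 410],
   .loop none [.bwd 411, .bwd 218, .fwd 410],
   .loop none [.bwd 427, .fwd 82, .fwd 411],
   .loop none [.bwd 413, .bwd 83, .fwd 411],
   .loop none [.bwd 414, .fwd 87, .fwd 411],
   .loop none [.bwd 427, .bwd 153, .fwd 412],
   .loop none [.bwd 423, .bwd 244, .fwd 412],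
   .loop none [.bwd 423, .bwd 147, .fwd 413],
   .loop none [.bwd 414, .fwd 211, .fwd 413],
   .loop none [.bwd 430, .fwd 215, .fwd 414],
   .loop none [.bwd 422, .bwd 179, .fwd 415],
   .loop none [.bwd 432, .bwd 169, .fwd 416],
   .loop none [.bwd 431, .fwd 180, .fwd 417],
   .loop none [.bwd 425, .bwd 161, .fwd 417],
   .loop none [.bwd 428, .fwd 314, .fwd 417],
   .loop none [.bwd 422, .bwd 97, .fwd 418],
   .loop none [.bwd 430, .fwd 185, .fwd 418],
   .loop none [.bwd 419, .bwd 154, .fwd 418],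
   .loop none [.bwd 429, .fwd 92, .fwd 419],
   .loop none [.bwd 440, .bwd 192, .fwd 420],
   .loop none [.bwd 428, .bwd 349, .fwd 420],
   .loop none [.bwd 425, .bwd 174, .fwd 420],
   .loop none [.bwd 429, .fwd 199, .fwd 421],
   .loop none [.bwd 427, .bwd 81, .fwd 421],
   .loop none [.bwd 426, .bwd 186, .fwd 422],
   .loop none [.bwd 437, .bwd 166, .fwd 423],
   .loop none [.bwd 430, .bwd 253, .fwd 423],
   .loop none [.bwd 447, .bwd 310, .fwd 424],
   .loop none [.bwd 444, .bwd 177, .fwd 424],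
   .loop none [.bwd 446, .bwd 345, .fwd 424],
   .loop none [.bwd 441, .bwd 346, .fwd 424],
   .loop none [.bwd 437, .fwd 315, .fwd 425],
   .loop none [.bwd 431, .bwd 162, .fwd 425],
   .loop none [.bwd 442, .fwd 324, .fwd 425],
   .loop none [.bwd 430, .fwd 214, .fwd 426],
   .loop none [.bwd 427, .fwd 241, .fwd 426],
   .loop none [.bwd 450, .bwd 255, .fwd 428],
   .loop none [.bwd 436, .bwd 201, .fwd 428],
   .loop none [.bwd 438, .fwd 340, .fwd 428],
   .loop none [.bwd 434, .bwd 165, .fwd 429],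
   .loop none [.bwd 435, .fwd 184, .fwd 430],
   .loop none [.bwd 445, .bwd 268, .fwd 431],
   .loop none [.bwd 443, .bwd 269, .fwd 431],
   .loop none [.bwd 450, .fwd 369, .fwd 431],
   .loop none [.bwd 435, .bwd 183, .fwd 432],
   .loop none [.bwd 444, .fwd 178, .fwd 432],
   .loop none [.bwd 449, .bwd 380, .fwd 432],
   .loop none [.bwd 433, .fwd 375, .fwd 432],
   .loop none [.bwd 436, .fwd 376, .fwd 433],
   .loop none [.bwd 450, .bwd 194, .fwd 433],
   .loop none [.bwd 441, .fwd 193, .fwd 433],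
   .loop none [.bwd 449, .fwd 363, .fwd 433],
   .loop none [.bwd 444, .fwd 351, .fwd 434],
   .loop none [.bwd 440, .fwd 156, .fwd 434],
   .loop none [.bwd 447, .bwd 171, .fwd 434],
   .loop none [.bwd 452, .bwd 260, .fwd 434],
   .loop none [.bwd 449, .fwd 379, .fwd 435],
   .loop none [.bwd 451, .fwd 217, .fwd 435],
   .loop none [.bwd 436, .bwd 254, .fwd 435],
   .loop none [.bwd 449, .fwd 197, .fwd 436],
   .loop none [.bwd 448, .bwd 198, .fwd 436],
   .loop none [.bwd 452, .bwd 337, .fwd 437],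
   .loop none [.bwd 451, .bwd 338, .fwd 437],
   .loop none [.bwd 440, .fwd 350, .fwd 437],
   .loop none [.bwd 443, .bwd 240, .fwd 438],
   .loop none [.bwd 442, .fwd 320, .fwd 438],
   .loop none [.bwd 439, .bwd 293, .fwd 438],
   .loop none [.bwd 452, .bwd 339, .fwd 438],
   .loop none [.bwd 446, .fwd 272, .fwd 439],
   .loop none [.bwd 441, .bwd 243, .fwd 439],
   .loop none [.bwd 448, .bwd 381, .fwd 439],
   .loop none [.bwd 447, .fwd 347, .fwd 439],
   .loop none [.bwd 448, .bwd 175, .fwd 440],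
   .loop none [.bwd 451, .bwd 316, .fwd 440],
   .loop none [.bwd 448, .fwd 313, .fwd 441],
   .loop none [.bwd 446, .fwd 188, .fwd 441],
   .loop none [.bwd 451, .bwd 319, .fwd 442],
   .loop none [.bwd 449, .bwd 321, .fwd 442],
   .loop none [.bwd 445, .fwd 230, .fwd 442],
   .loop none [.bwd 445, .fwd 327, .fwd 443],
   .loop none [.bwd 446, .bwd 106, .fwd 443],
   .loop none [.bwd 450, .fwd 370, .fwd 443],
   .loop none [.bwd 450, .bwd 190, .fwd 444],
   .loop none [.bwd 445, .bwd 306, .fwd 444],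
   .loop none [.bwd 452, .bwd 228, .fwd 445],
   .loop none [.bwd 447, .fwd 247, .fwd 446],
   .loop none [.bwd 448, .fwd 348, .fwd 447],
   .loop none [.bwd 452, .fwd 334, .fwd 451]]

theorem just2_len : just2.length = 96 := by decide +kernel

theorem just2_ok : cert.okFacts 500 just2 = true := by decide +kernel


end CfsgLib.ThCent.LS
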