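import Cfsg.Agent.Lib.PresCert.Range
import Cfsg.Agent.Lib.ThCent.FactChunks
import Cfsg.Agent.Lib.ThCent.LSFacts0

/-!
The certificate is valid.
-/

namespace CfsgLib.ThCent.LS

open CfsgLib.PresCert

set_option maxRecDepth 100000

/-- justifications -/
noncomputable def justs : List Cert.Just :=
  [just0, just1, just2].flatten

theorem slots_all : cert.okRange 0 72 = true := by decide +kernel

theorem labs_ok : ((List.range cert.nfact).all fun i => Nat.ble (cert.fLab i) cert.g) = true := by
  decide +kernel

theorem valid : Cert.Valid cert justs where
  facts := by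
    exact (Cert.okFacts_cons just0_len just0_ok (Cert.okFacts_cons just1_len just1_ok (Cert.okFacts_cons just2_len just2_ok (Cert.okFacts_nil _))))
  len := by decide +kernel
  labs := labs_ok
  slots := fun c hc => Cert.slotsOK_of_range slots_all c (Nat.zero_le c) (by simpa [cert] using hc)
  pos := (by decide +kernel : 0 < cert.n)

end CfsgLib.ThCent.LS
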