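import Cfsg.Agent.Lib.ThCent.SOData

/-!
Justifications of the side facts (generated data).
-/

namespace CfsgLib.ThCent.SO

open CfsgLib.PresCert

set_option maxRecDepth 100000

/-- justifications -/
noncomputable def just0 : List Cert.Just :=
  [.define,
   .define,
   .define,
   .define,
   .define,
   .define,
   .loop (some (2, 6)) [.fwd 0, .fwd 1, .fwd 2, .fwd 3, .fwd 4, .fwd 5],
   .define,
   .define,
   .loop (some (1, 2)) [.bwd 1, .bwd 0, .fwd 7, .fwd 8],
   .define,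
   .loop (some (0, 1)) [.bwd 7, .fwd 10],
   .define,
   .define,
   .loop (some (1, 2)) [.bwd 2, .bwd 1, .fwd 12, .fwd 13],
   .define,
   .loop (some (0, 1)) [.bwd 12, .fwd 15],
   .define,
   .loop (some (1, 2)) [.bwd 3, .bwd 2, .bwd 9, .fwd 17],
   .define,
   .loop (some (0, 1)) [.fwd 9, .fwd 19],
   .define,
   .loop (some (1, 2)) [.bwd 4, .bwd 3, .bwd 14, .fwd 21],
   .define,
   .loop (some (0, 1)) [.fwd 14, .fwd 23],
   .define,
   .loop (some (1, 2)) [.bwd 5, .bwd 4, .bwd 18, .fwd 25],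
   .define,
   .loop (some (0, 1)) [.fwd 18, .fwd 27],
   .loop (some (1, 1)) [.bwd 7, .bwd 6, .bwd 5, .bwd 22],
   .define,
   .loop (some (0, 1)) [.fwd 22, .fwd 30],
   .loop (some (1, 1)) [.bwd 12, .bwd 0, .bwd 6, .bwd 26],
   .define,
   .loop (some (0, 1)) [.fwd 26, .fwd 33],
   .loop (some (1, 1)) [.fwd 28, .bwd 17, .bwd 8, .bwd 11],
   .loop (some (1, 1)) [.fwd 34, .bwd 25, .bwd 17, .bwd 20],
   .define,
   .define,
   .define,
   .define,
   .define,
   .loop (some (2, 6)) [.fwd 35, .fwd 37, .fwd 38, .fwd 39, .fwd 40, .fwd 41],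
   .loop (some (1, 3)) [.bwd 37, .bwd 35, .bwd 10, .fwd 0, .fwd 15],
   .loop none [.bwd 43],
   .loop none [.bwd 38, .bwd 44],
   .loop none [.fwd 37, .bwd 44],
   .loop (some (1, 2)) [.fwd 31, .bwd 21, .bwd 13, .bwd 16, .fwd 45],
   .loop none [.fwd 47],
   .loop none [.bwd 39, .bwd 48],
   .loop none [.fwd 45, .bwd 48],
   .loop (some (1, 1)) [.fwd 42, .fwd 11, .bwd 29, .bwd 21, .bwd 24],
   .loop none [.bwd 51],
   .loop none [.bwd 42, .bwd 52],
   .loop none [.fwd 41, .bwd 52],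
   .loop (some (1, 3)) [.bwd 49, .fwd 50, .bwd 15, .fwd 1, .fwd 19],
   .loop none [.bwd 55],
   .loop none [.bwd 36, .fwd 56, .fwd 40],
   .loop none [.fwd 57],
   .loop none [.fwd 49, .bwd 56],
   .loop none [.fwd 54, .bwd 58],
   .loop none [.edge 1, .fwd 0],
   .loop none [.edge 0, .bwd 6],
   .loop none [.edge 3, .fwd 10],
   .loop none [.edge 2, .fwd 7],
   .loop none [.edge 1, .bwd 61, .fwd 1],
   .loop none [.edge 3, .bwd 61, .fwd 15],
   .loop none [.edge 2, .bwd 61, .fwd 12],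
   .loop none [.edge 0, .bwd 62, .bwd 5],
   .loop none [.edge 3, .bwd 62, .fwd 33],
   .loop none [.edge 2, .bwd 62, .bwd 26],
   .loop none [.edge 1, .bwd 63, .fwd 35],
   .loop none [.edge 0, .bwd 63, .bwd 53],
   .loop none [.edge 1, .bwd 64, .fwd 8],
   .loop none [.edge 0, .bwd 64, .bwd 29],
   .loop none [.edge 1, .bwd 65, .fwd 2],
   .loop none [.edge 3, .bwd 65, .fwd 19],
   .loop none [.edge 1, .bwd 66, .bwd 50],
   .loop none [.edge 1, .bwd 67, .fwd 13],
   .loop none [.edge 0, .bwd 68, .bwd 4],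
   .loop none [.edge 0, .bwd 70, .bwd 25],
   .loop none [.bwd 64, .bwd 11, .fwd 63],
   .loop none [.bwd 73, .fwd 9, .fwd 65],
   .loop none [.bwd 71, .bwd 46, .fwd 66],
   .loop none [.bwd 67, .bwd 16, .fwd 66],
   .loop none [.bwd 70, .fwd 32, .fwd 67],
   .loop none [.bwd 77, .bwd 30, .fwd 68],
   .loop none [.bwd 74, .fwd 22, .fwd 68],
   .loop none [.bwd 72, .bwd 60, .fwd 69],
   .loop none [.bwd 76, .fwd 36, .fwd 69],
   .loop none [.bwd 70, .bwd 34, .fwd 69],
   .loop none [.bwd 80, .bwd 28, .fwd 71],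
   .loop none [.bwd 79, .fwd 27, .fwd 71],
   .loop none [.bwd 78, .bwd 24, .fwd 72],
   .loop none [.bwd 75, .fwd 23, .fwd 72],
   .loop none [.bwd 80, .bwd 17, .fwd 73],
   .loop none [.bwd 76, .fwd 20, .fwd 73],
   .loop none [.bwd 78, .fwd 21, .fwd 74],
   .loop none [.bwd 77, .fwd 31, .fwd 74],
   .loop none [.bwd 79, .bwd 3, .fwd 75],
   .loop none [.bwd 78, .fwd 14, .fwd 75],
   .loop none [.bwd 77, .bwd 59, .fwd 76],
   .loop none [.bwd 80, .fwd 18, .fwd 79]]

theorem just0_len : just0.length = 103 := by decide +kernel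

theorem just0_ok : cert.okFacts 0 just0 = true := by decide +kernel


end CfsgLib.ThCent.SO
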