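import Cfsg.Agent.Lib.ThCent.Setting
import Cfsg.Agent.Lib.ThCent.ChainWords
import Cfsg.Agent.Lib.ThCent.KLCert
import Cfsg.Agent.Lib.ThCent.LSCert
import Cfsg.Agent.Lib.ThCent.SOCert
import Cfsg.Agent.Lib.ThCent.DXCert

/-!
Order bounds from chains of coset table certificates, for elements satisfying some of the relations
of the presented Thompson group.
-/

set_option autoImplicit false
set_option maxRecDepth 100000

namespace CfsgLib.ThCent

open Cfsg.Spor CfsgLib.PresCert

variable {Q : Type*} [Group Q] (f : Th.Gen → Q)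

/-- the subgroup generated by the values of the letters -/
def lettGrp (lets : List (Th.Gen × Bool)) : Subgroup Q :=
  Subgroup.closure {q | ∃ x < lets.length, letVal f lets x = q}

variable {f} {C : Cert} {js : List Cert.Just} {lets : List (Th.Gen × Bool)}
  {ws : List (Nat × List (Th.Gen × Bool))}

/-- a certificate bounds the order of the group of its letters by that of the subgroup -/
theorem chain_step (V : Cert.Valid C js) (hok : okLets C lets ws = true)
    (hinv : ∀ g, invol g = true → f g * f g = 1) (hrel : ∀ kw ∈ ws, wordVal f kw.2 = 1)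
    (T : Subgroup Q) (hsl : ∀ r ∈ C.subs, ∀ x ∈ r, x < lets.length) (hsub : ∀ r ∈ C.subs, (r.map (letVal f lets)).prod ∈ T)
    (hTS : T ≤ lettGrp f lets) {k : ℕ} (hfin : Finite T) (hk : Nat.card T ≤ k) :
    Finite (lettGrp f lets) ∧ Nat.card (lettGrp f lets) ≤ C.n * k ∧
      ∀ x < lets.length, C.dest 0 x = 0 → letVal f lets x ∈ T := by
  classical
  set S := lettGrp f lets with hSdef
  let f' : Th.Gen → S := fun g => if h : f g ∈ S then ⟨f g, h⟩ else 1
  have coe' : ∀ g, f g ∈ S → ((f' g : S) : Q) = f g := fun g h => by simp [f', dif_pos h]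
  have hinv' : ∀ g, invol g = true → f' g * f' g = 1 := fun g hg => by
    by_cases h : f g ∈ S
    · exact Subtype.ext (by rw [Subgroup.coe_mul, coe' g h, hinv g hg]; rfl)
    · simp [f', h]
  have hmem : ∀ x, x < lets.length → f (lets.getD x (.a, true)).1 ∈ S := by
    intro x hx
    have : letVal f lets x ∈ S := Subgroup.subset_closure ⟨x, hx, rfl⟩
    rw [letVal] at this
    generalize lets.getD x (.a, true) = p at this ⊢
    obtain ⟨g, _ | _⟩ := p
    · simpa [sval] using inv_mem this
    · exact this
  have hcoe : ∀ x, x < lets.length → ((letVal f' lets x : S) : Q) = letVal f lets x := by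
    intro x hx
    have h := hmem x hx
    rw [letVal, letVal]
    generalize lets.getD x (.a, true) = p at h ⊢
    obtain ⟨g, _ | _⟩ := p <;> simp [sval, coe' g h]
  have hrel' : ∀ kw ∈ ws, wordVal f' kw.2 = 1 := by
    intro kw hkw
    have hok' := hok
    simp only [okLets, Bool.and_eq_true, List.all_eq_true, decide_eq_true_eq] at hok'
    refine S.subtype_injective ?_
    rw [map_wordVal S.subtype f' f _ fun p hp => ?_, map_one, hrel kw hkw]
    have hlt := hok'.1.2 kw hkw p hp
    have hm := List.findIdx_getElem (w := hlt)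
    have hg : p.1 = (lets[letIdx lets p]'hlt).1 := by
      simp only [same, Bool.and_eq_true, decide_eq_true_eq] at hm
      exact hm.1
    refine coe' _ ?_
    rw [hg]
    have := hmem _ hlt
    rwa [List.getD_eq_getElem?_getD, List.getElem?_eq_getElem hlt] at this
  have hgen : Subgroup.closure {q | ∃ x < lets.length, letVal f' lets x = q} = ⊤ := by
    rw [eq_top_iff]
    refine (Subgroup.closure_closure_coe_preimage (k := {q | ∃ x < lets.length, letVal f lets x = q})).ge.trans ?_
    refine (Subgroup.closure_le _).2 ?_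
    rintro ⟨q, hq⟩ ⟨x, hx, e⟩
    exact Subgroup.subset_closure ⟨x, hx, Subtype.ext ((hcoe x hx).trans e)⟩
  have hlen : ∀ r ∈ C.subs, (r.map (letVal f' lets)).prod ∈ T.subgroupOf S := by
    intro r hr
    rw [Subgroup.mem_subgroupOf]
    have e : ((r.map (letVal f' lets)).prod : S) = ((r.map (letVal f lets)).prod : Q) := by
      have hr' := hsl r hr
      clear hr
      induction r with
      | nil => rfl
      | cons x r ih =>
        rw [List.map_cons, List.prod_cons, List.map_cons, List.prod_cons, Subgroup.coe_mul,
          hcoe x (hr' x (List.mem_cons_self ..)), ih fun y hy => hr' y (List.mem_cons_of_mem _ hy)]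
    rw [e]; exact hsub r hr
  let M : Model C S := model hinv' hok hrel' (T.subgroupOf S) hlen hgen
  obtain ⟨hidx, hFI⟩ := Cert.index_le M V
  have hT : Nat.card (T.subgroupOf S) = Nat.card T :=
    Nat.card_congr (Subgroup.subgroupOfEquivOfLe hTS).toEquiv
  have : Finite (T.subgroupOf S) := Finite.of_equiv T (Subgroup.subgroupOfEquivOfLe hTS).toEquiv.symm
  have hidx' : (T.subgroupOf S).index ≤ C.n := hidx
  have hFI' : (T.subgroupOf S).FiniteIndex := hFI
  refine ⟨?_, ?_, ?_⟩
  · exact Finite.of_equiv _ (Subgroup.groupEquivQuotientProdSubgroup (s := T.subgroupOf S)).symm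
  · rw [← (T.subgroupOf S).index_mul_card, hT]
    exact Nat.mul_le_mul hidx' hk
  · intro x hx hd
    have hok' := hok
    simp only [okLets, Bool.and_eq_true, decide_eq_true_eq] at hok'
    have h := Cert.slots_ok M V _ 0 x V.pos (hok'.1.1.1 ▸ hx) rfl
    simp only [Cert.SlotOK, Cert.Rel, hd, Cert.val_zero, one_mul, inv_one, mul_one] at h
    have h' : letVal f' lets x ∈ T.subgroupOf S := h
    rwa [Subgroup.mem_subgroupOf, hcoe x hx] at h'

end CfsgLib.ThCent
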