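import Cfsg.Agent.Lib.ThCent.HKData

/-!
Justifications of the side facts (generated data).
-/

namespace CfsgLib.ThCent.HK

open CfsgLib.PresCert

set_option maxRecDepth 100000

/-- justifications -/
noncomputable def just0 : List Cert.Just :=
  [.define,
   .define,
   .define,
   .loop (some (22, 6)) [.bwd 2, .bwd 1, .bwd 0, .edge 4, .edge 4, .edge 3, .edge 5, .edge 5, .fwd 0, .fwd 1, .fwd 2],
   .loop (some (13, 1)) [.bwd 0, .edge 3, .fwd 0],
   .define,
   .define,
   .define,
   .loop (some (21, 6)) [.bwd 6, .bwd 5, .bwd 0, .edge 2, .edge 3, .fwd 0, .fwd 5, .fwd 6, .fwd 7],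
   .loop (some (14, 1)) [.bwd 0, .edge 6, .fwd 0],
   .loop (some (11, 1)) [.bwd 0, .edge 0, .fwd 0],
   .define,
   .define,
   .define,
   .loop (some (18, 7)) [.edge 0, .edge 1, .edge 5, .fwd 0, .fwd 11, .fwd 12, .fwd 13],
   .define,
   .define,
   .define,
   .define,
   .define,
   .define,
   .define,
   .define,
   .define,
   .define,
   .loop (some (23, 15)) [.bwd 11, .bwd 0, .edge 0, .edge 1, .edge 5, .fwd 0, .fwd 1, .fwd 15, .fwd 16, .fwd 17, .fwd 18, .fwd 19, .fwd 20, .fwd 21, .fwd 22, .fwd 23, .fwd 24],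
   .define,
   .define,
   .define,
   .define,
   .define,
   .define,
   .define,
   .define,
   .define,
   .define,
   .define,
   .define,
   .define,
   .loop (some (24, 18)) [.bwd 2, .bwd 1, .bwd 0, .edge 3, .edge 2, .edge 1, .edge 2, .edge 3, .edge 4, .edge 4, .edge 4, .edge 3, .edge 2, .edge 1, .edge 2, .edge 3, .edge 5, .edge 2, .edge 1, .edge 2, .edge 1, .edge 0, .edge 2, .edge 5, .edge 5, .bwd 14, .bwd 13, .fwd 26, .fwd 27, .fwd 28, .fwd 29, .fwd 30, .fwd 31, .fwd 32, .fwd 33, .fwd 34, .fwd 35, .fwd 36, .fwd 37, .fwd 38],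
   .loop (some (12, 1)) [.bwd 0, .edge 1, .fwd 0],
   .loop (some (10, 1)) [.bwd 0, .edge 1, .edge 0, .bwd 14],
   .loop none [.fwd 41],
   .loop none [.bwd 1, .fwd 42, .bwd 13],
   .loop none [.fwd 43],
   .loop none [.bwd 14, .bwd 42],
   .loop none [.bwd 2, .fwd 44, .fwd 26],
   .loop none [.fwd 46],
   .loop none [.bwd 15, .fwd 44, .bwd 12],
   .loop none [.bwd 48],
   .loop none [.fwd 39, .fwd 47, .fwd 27],
   .loop none [.bwd 50],
   .loop none [.bwd 16, .bwd 49],
   .loop none [.fwd 15, .bwd 49],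
   .loop none [.bwd 39, .bwd 51],
   .loop none [.bwd 28, .fwd 51, .bwd 38],
   .loop none [.fwd 55],
   .loop none [.bwd 29, .fwd 56, .bwd 37],
   .loop none [.fwd 57],
   .loop none [.fwd 36, .bwd 58],
   .define,
   .define,
   .define,
   .define,
   .loop (some (20, 6)) [.bwd 52, .bwd 11, .bwd 4, .fwd 11, .fwd 60, .fwd 61, .fwd 62, .fwd 63],
   .define,
   .loop (some (5, 2)) [.bwd 5, .fwd 1, .fwd 65],
   .define,
   .define,
   .define,
   .loop (some (21, 4)) [.bwd 5, .fwd 4, .fwd 45, .edge 2, .bwd 45, .fwd 5, .fwd 67, .fwd 68, .fwd 69],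
   .loop (some (3, 1)) [.bwd 11, .fwd 10, .fwd 11],
   .loop (some (4, 1)) [.bwd 11, .fwd 40, .fwd 11],
   .loop (some (8, 2)) [.bwd 5, .bwd 9, .fwd 5],
   .define,
   .define,
   .define,
   .define,
   .define,
   .define,
   .define,
   .define,
   .loop (some (23, 13)) [.bwd 1, .fwd 45, .edge 4, .bwd 45, .bwd 10, .bwd 40, .fwd 11, .fwd 53, .fwd 2, .fwd 74, .fwd 75, .fwd 76, .fwd 77, .fwd 78, .fwd 79, .fwd 80, .fwd 81],
   .define,
   .define,
   .loop (some (19, 4)) [.bwd 84, .bwd 83, .bwd 5, .fwd 40, .bwd 10, .fwd 5, .fwd 83, .fwd 84],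
   .define,
   .define,
   .define,
   .define,
   .define,
   .define,
   .define,
   .define,
   .define,
   .define,
   .define,
   .define,
   .define,
   .define,
   .define,
   .define,
   .define,
   .define,
   .define,
   .define,
   .define,
   .define,
   .define,
   .define,
   .define,
   .define,
   .define,
   .define,
   .define,
   .define,
   .define,
   .define,
   .define,
   .loop (some (24, 35)) [.bwd 84, .bwd 83, .bwd 5, .fwd 40, .fwd 10, .fwd 5, .bwd 66, .fwd 86, .fwd 87, .fwd 88, .fwd 89, .fwd 90, .fwd 91, .fwd 92, .fwd 93, .fwd 94, .fwd 95, .fwd 96, .fwd 97, .fwd 98, .fwd 99, .fwd 100, .fwd 101, .fwd 102, .fwd 103, .fwd 104, .fwd 105, .fwd 106, .fwd 107, .fwd 108, .fwd 109, .fwd 110, .fwd 111, .fwd 112, .fwd 113, .fwd 114, .fwd 115, .fwd 116, .fwd 117, .fwd 118],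
   .loop (some (16, 2)) [.bwd 67, .bwd 5, .fwd 4, .fwd 5, .fwd 67],
   .define,
   .loop (some (17, 3)) [.fwd 64, .bwd 52, .bwd 11, .fwd 1, .fwd 2, .fwd 121],
   .loop (some (15, 2)) [.bwd 2, .bwd 1, .bwd 9, .fwd 1],
   .define,
   .define,
   .define,
   .define,
   .define,
   .loop (some (20, 5)) [.bwd 52, .bwd 11, .fwd 1, .fwd 124, .fwd 125, .fwd 126, .fwd 127, .fwd 128],
   .loop (some (5, 2)) [.bwd 86, .bwd 65, .fwd 2, .bwd 54],
   .loop none [.bwd 130],
   .loop none [.fwd 86, .bwd 131],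
   .loop none [.bwd 87, .bwd 131],
   .define,
   .loop (some (13, 2)) [.bwd 124, .bwd 82, .fwd 134],
   .define,
   .define,
   .define,
   .define,
   .define,
   .define,
   .define,
   .loop (some (21, 8)) [.fwd 82, .fwd 65, .fwd 136, .fwd 137, .fwd 138, .fwd 139, .fwd 140, .fwd 141, .fwd 142],
   .define,
   .define,
   .define,
   .loop (some (7, 3)) [.fwd 144, .fwd 145, .fwd 146],
   .loop (some (0, 1)) [.bwd 144, .fwd 123],
   .loop (some (3, 3)) [.bwd 1, .bwd 10, .fwd 1],
   .loop (some (4, 4)) [.bwd 1, .bwd 40, .fwd 1, .bwd 147],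
   .loop none [.fwd 150],
   .loop none [.bwd 147, .bwd 151],
   .loop none [.bwd 144, .fwd 151, .bwd 146],
   .loop none [.fwd 153],
   .loop none [.fwd 145, .bwd 154],
   .define,
   .loop (some (14, 2)) [.bwd 144, .bwd 82, .fwd 156],
   .define,
   .loop (some (8, 2)) [.bwd 65, .fwd 144, .fwd 158],
   .define,
   .define,
   .loop (some (19, 4)) [.bwd 161, .bwd 160, .bwd 65, .fwd 152, .bwd 149, .fwd 65, .fwd 160, .fwd 161],
   .define,
   .define,
   .define,
   .define,
   .define,
   .define,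
   .define,
   .define,
   .define,
   .define,
   .define,
   .define,
   .define,
   .define,
   .define,
   .define,
   .define,
   .define,
   .define,
   .define,
   .define,
   .define,
   .define,
   .define,
   .define,
   .define,
   .define,
   .define,
   .define,
   .define,
   .define,
   .define,
   .loop (some (24, 35)) [.bwd 161, .bwd 160, .bwd 65, .fwd 152, .fwd 149, .fwd 65, .bwd 132, .fwd 28, .fwd 163, .fwd 164, .fwd 165, .fwd 166, .fwd 167, .fwd 168, .fwd 169, .fwd 170, .fwd 171, .fwd 172, .fwd 173, .fwd 174, .fwd 175, .fwd 176, .fwd 177, .fwd 178, .fwd 179, .fwd 180, .fwd 181, .fwd 182, .fwd 183, .fwd 184, .fwd 185, .fwd 186, .fwd 187, .fwd 188, .fwd 189, .fwd 190, .fwd 191, .fwd 192, .fwd 193, .fwd 194],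
   .define,
   .loop (some (15, 2)) [.bwd 121, .bwd 2, .fwd 144, .fwd 196],
   .loop (some (6, 1)) [.bwd 144, .fwd 149, .fwd 144],
   .loop (some (10, 2)) [.fwd 152, .fwd 149, .bwd 53, .bwd 25],
   .loop none [.fwd 199],
   .loop none [.bwd 2, .fwd 200, .bwd 24],
   .loop none [.fwd 201],
   .loop none [.fwd 82, .fwd 200, .fwd 25],
   .loop none [.bwd 203],
   .loop none [.fwd 23, .bwd 202],
   .loop none [.fwd 143, .bwd 204],
   .loop none [.bwd 60, .fwd 204, .fwd 134],
   .loop none [.fwd 207],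
   .loop none [.bwd 52, .fwd 204, .bwd 81],
   .loop none [.fwd 209],
   .loop none [.bwd 156, .bwd 204],
   .loop none [.bwd 82, .bwd 204],
   .loop none [.bwd 135, .bwd 208],
   .loop none [.fwd 80, .bwd 210],
   .loop (some (5, 1)) [.bwd 28, .fwd 54, .fwd 121],
   .loop (some (13, 1)) [.bwd 205, .fwd 3, .fwd 205],
   .define,
   .define,
   .define,
   .define,
   .define,
   .define,
   .define,
   .loop (some (21, 8)) [.bwd 205, .bwd 54, .fwd 217, .fwd 218, .fwd 219, .fwd 220, .fwd 221, .fwd 222, .fwd 223],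
   .loop (some (7, 3)) [.bwd 123, .bwd 152, .fwd 123],
   .loop (some (3, 3)) [.bwd 2, .bwd 149, .fwd 2],
   .loop (some (14, 1)) [.fwd 212, .fwd 123, .fwd 205],
   .loop (some (11, 1)) [.bwd 205, .fwd 226, .fwd 205],
   .loop (some (18, 6)) [.bwd 74, .bwd 226, .bwd 225, .bwd 2, .bwd 212, .fwd 52, .fwd 17],
   .loop (some (8, 2)) [.fwd 54, .bwd 123, .fwd 65],
   .define,
   .define,
   .loop (some (19, 4)) [.bwd 232, .bwd 231, .fwd 54, .fwd 225, .bwd 226, .bwd 54, .fwd 231, .fwd 232],
   .define,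
   .define,
   .define,
   .define,
   .define,
   .define,
   .define,
   .define,
   .define,
   .loop (some (24, 35)) [.bwd 232, .bwd 231, .fwd 54, .fwd 225, .fwd 226, .bwd 54, .fwd 28, .fwd 29, .fwd 30, .fwd 31, .fwd 32, .fwd 33, .fwd 34, .fwd 35, .bwd 59, .bwd 29, .bwd 28, .fwd 54, .bwd 2, .bwd 1, .bwd 0, .edge 4, .edge 4, .edge 2, .edge 5, .edge 5, .bwd 45, .bwd 4, .fwd 5, .fwd 83, .fwd 84, .fwd 234, .fwd 235, .fwd 236, .fwd 237, .fwd 238, .fwd 239, .fwd 240, .fwd 241, .fwd 242],
   .loop (some (16, 2)) [.bwd 217, .fwd 54, .fwd 3, .bwd 54, .fwd 217],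
   .loop (some (12, 1)) [.bwd 205, .fwd 225, .fwd 205],
   .loop (some (9, 2)) [.fwd 123, .fwd 3, .bwd 123, .fwd 124],
   .loop none [.fwd 246],
   .loop none [.fwd 124, .bwd 247],
   .loop none [.fwd 1, .fwd 247, .fwd 125]]

theorem just0_len : just0.length = 250 := by decide +kernel

theorem just0_ok : cert.okFacts 0 just0 = true := by decide +kernel

/-- justifications -/
noncomputable def just1 : List Cert.Just :=
  [.loop none [.fwd 249],
   .loop none [.fwd 212, .fwd 247, .bwd 213],
   .loop none [.fwd 251],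
   .loop none [.fwd 4, .fwd 250, .fwd 126],
   .loop none [.fwd 253],
   .loop none [.fwd 60, .bwd 252],
   .loop none [.bwd 52, .fwd 252, .fwd 61],
   .loop none [.fwd 256],
   .loop none [.bwd 11, .fwd 254, .fwd 127],
   .loop none [.fwd 258],
   .loop none [.fwd 64, .fwd 257, .fwd 62],
   .loop none [.bwd 260],
   .loop none [.bwd 52, .fwd 259, .fwd 128],
   .loop none [.fwd 262],
   .loop none [.fwd 63, .bwd 261],
   .loop none [.bwd 64, .bwd 261],
   .loop none [.fwd 122, .bwd 261],
   .loop none [.bwd 129, .bwd 263],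
   .loop (some (15, 3)) [.fwd 266, .bwd 121, .bwd 123, .fwd 2, .fwd 148],
   .loop none [.fwd 268],
   .loop none [.fwd 269, .fwd 198, .bwd 269],
   .loop none [.fwd 269, .fwd 155, .bwd 269],
   .loop none [.bwd 158, .bwd 269],
   .loop none [.bwd 265, .fwd 269, .fwd 196],
   .loop none [.fwd 273],
   .loop none [.fwd 144, .bwd 269],
   .loop none [.fwd 148, .bwd 269],
   .loop none [.fwd 157, .bwd 269],
   .loop none [.bwd 197, .bwd 274],
   .loop (some (10, 1)) [.bwd 205, .fwd 225, .fwd 226, .fwd 74],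
   .loop none [.fwd 279],
   .loop none [.fwd 229, .bwd 280],
   .loop none [.fwd 74, .bwd 280],
   .define,
   .define,
   .define,
   .define,
   .loop (some (20, 5)) [.bwd 28, .fwd 132, .fwd 66, .fwd 67, .fwd 283, .fwd 284, .fwd 285, .fwd 286],
   .define,
   .define,
   .define,
   .define,
   .define,
   .define,
   .define,
   .loop (some (22, 9)) [.fwd 132, .fwd 66, .fwd 67, .fwd 283, .fwd 288, .fwd 289, .fwd 290, .fwd 291, .fwd 292, .fwd 293, .fwd 294],
   .loop (some (5, 0)) [.bwd 206, .bwd 11, .fwd 5],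
   .loop (some (13, 1)) [.bwd 68, .bwd 67, .bwd 70],
   .loop (some (7, 2)) [.bwd 83, .bwd 73, .fwd 83],
   .define,
   .define,
   .loop (some (3, 3)) [.bwd 66, .fwd 299, .fwd 300],
   .loop (some (4, 2)) [.bwd 83, .bwd 66, .fwd 160],
   .loop (some (14, 1)) [.fwd 70, .fwd 73, .bwd 70],
   .define,
   .loop (some (2, 2)) [.bwd 67, .fwd 83, .fwd 304],
   .define,
   .loop (some (11, 2)) [.fwd 301, .bwd 70, .fwd 306],
   .define,
   .define,
   .define,
   .define,
   .define,
   .loop (some (18, 6)) [.bwd 6, .bwd 301, .fwd 308, .fwd 309, .fwd 310, .fwd 311, .fwd 312],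
   .define,
   .define,
   .define,
   .define,
   .define,
   .define,
   .define,
   .define,
   .define,
   .define,
   .define,
   .define,
   .loop (some (23, 16)) [.fwd 70, .bwd 301, .fwd 308, .fwd 309, .fwd 310, .fwd 314, .fwd 315, .fwd 316, .fwd 317, .fwd 318, .fwd 319, .fwd 320, .fwd 321, .fwd 322, .fwd 323, .fwd 324, .fwd 325],
   .loop (some (19, 1)) [.bwd 5, .fwd 40, .fwd 5, .fwd 83, .fwd 84, .fwd 85, .bwd 84, .bwd 83, .bwd 301],
   .loop none [.fwd 327],
   .loop none [.bwd 301, .bwd 328],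
   .loop none [.bwd 83, .fwd 328, .fwd 308],
   .loop none [.fwd 330],
   .loop none [.fwd 66, .fwd 328, .bwd 300],
   .loop none [.fwd 332],
   .loop none [.fwd 70, .fwd 328, .bwd 307],
   .loop none [.fwd 334],
   .loop none [.fwd 302, .fwd 331, .fwd 309],
   .loop none [.fwd 336],
   .loop none [.fwd 299, .bwd 333],
   .loop none [.fwd 306, .bwd 335],
   .loop none [.bwd 310, .bwd 337],
   .loop (some (1, 2)) [.bwd 67, .bwd 329, .fwd 67],
   .define,
   .define,
   .define,
   .define,
   .define,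
   .define,
   .define,
   .define,
   .define,
   .define,
   .define,
   .define,
   .define,
   .define,
   .define,
   .define,
   .define,
   .define,
   .define,
   .define,
   .define,
   .define,
   .define,
   .define,
   .define,
   .define,
   .define,
   .define,
   .define,
   .define,
   .loop (some (24, 35)) [.fwd 84, .fwd 85, .bwd 84, .bwd 83, .fwd 329, .bwd 5, .fwd 11, .fwd 52, .fwd 214, .bwd 79, .fwd 342, .fwd 343, .fwd 344, .fwd 345, .fwd 346, .fwd 347, .fwd 348, .fwd 349, .fwd 350, .fwd 351, .fwd 352, .fwd 353, .fwd 354, .fwd 355, .fwd 356, .fwd 357, .fwd 358, .fwd 359, .fwd 360, .fwd 361, .fwd 362, .fwd 363, .fwd 364, .fwd 365, .fwd 366, .fwd 367, .fwd 368, .fwd 369, .fwd 370, .fwd 371],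
   .define,
   .loop (some (17, 2)) [.bwd 29, .bwd 28, .fwd 132, .fwd 66, .fwd 296, .fwd 373],
   .define,
   .loop (some (12, 2)) [.bwd 83, .bwd 70, .fwd 375],
   .loop (some (9, 2)) [.bwd 67, .bwd 73, .fwd 67],
   .loop (some (15, 2)) [.bwd 373, .bwd 296, .bwd 73, .fwd 296],
   .loop (some (10, 1)) [.fwd 376, .bwd 83, .fwd 329, .fwd 6],
   .loop none [.bwd 379],
   .loop none [.fwd 375, .bwd 380],
   .loop none [.bwd 376, .bwd 380],
   .define,
   .define,
   .define,
   .define,
   .define,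
   .define,
   .define,
   .loop (some (20, 8)) [.bwd 8, .fwd 383, .fwd 384, .fwd 385, .fwd 386, .fwd 387, .fwd 388, .fwd 389],
   .define,
   .define,
   .define,
   .define,
   .define,
   .define,
   .define,
   .loop (some (22, 9)) [.fwd 389, .fwd 390, .bwd 8, .fwd 383, .fwd 391, .fwd 392, .fwd 393, .fwd 394, .fwd 395, .fwd 396, .fwd 397],
   .loop (some (5, 1)) [.bwd 383, .bwd 7, .bwd 313],
   .loop (some (13, 2)) [.fwd 8, .bwd 6, .fwd 67],
   .loop (some (7, 0)) [.fwd 381, .fwd 303, .bwd 381],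
   .define,
   .define,
   .loop (some (3, 3)) [.bwd 390, .fwd 402, .fwd 403],
   .loop (some (4, 1)) [.fwd 326, .bwd 381, .bwd 390],
   .loop (some (2, 2)) [.fwd 8, .fwd 381, .fwd 297],
   .loop (some (11, 4)) [.bwd 6, .bwd 329, .fwd 6, .bwd 404],
   .loop none [.fwd 407],
   .loop none [.bwd 404, .bwd 408],
   .define,
   .define,
   .loop (some (18, 5)) [.fwd 372, .bwd 382, .bwd 409, .fwd 381, .bwd 326, .fwd 410, .fwd 411],
   .loop (some (8, 2)) [.bwd 7, .fwd 401, .fwd 7],
   .define,
   .define,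
   .define,
   .define,
   .define,
   .define,
   .define,
   .define,
   .define,
   .define,
   .define,
   .loop (some (23, 15)) [.fwd 66, .fwd 6, .bwd 409, .fwd 381, .bwd 326, .fwd 410, .fwd 414, .fwd 415, .fwd 416, .fwd 417, .fwd 418, .fwd 419, .fwd 420, .fwd 421, .fwd 422, .fwd 423, .fwd 424],
   .loop (some (1, 2)) [.fwd 8, .bwd 409, .bwd 8],
   .define,
   .define,
   .define,
   .define,
   .define,
   .define,
   .define,
   .define,
   .define,
   .define,
   .define,
   .define,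
   .define,
   .define,
   .define,
   .define,
   .define,
   .define,
   .define,
   .define,
   .define,
   .define,
   .define,
   .define,
   .define,
   .define,
   .define,
   .define,
   .define,
   .define,
   .define,
   .loop (some (24, 34)) [.fwd 313, .fwd 7, .bwd 406, .fwd 69, .bwd 381, .fwd 409, .fwd 7, .fwd 383, .fwd 391, .fwd 427, .fwd 428, .fwd 429, .fwd 430, .fwd 431, .fwd 432, .fwd 433, .fwd 434, .fwd 435, .fwd 436, .fwd 437, .fwd 438, .fwd 439, .fwd 440, .fwd 441, .fwd 442, .fwd 443, .fwd 444, .fwd 445, .fwd 446, .fwd 447, .fwd 448, .fwd 449, .fwd 450, .fwd 451, .fwd 452, .fwd 453, .fwd 454, .fwd 455, .fwd 456, .fwd 457],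
   .define,
   .define,
   .loop (some (17, 3)) [.fwd 388, .fwd 389, .fwd 390, .bwd 313, .fwd 459, .fwd 460],
   .loop (some (12, 2)) [.bwd 381, .bwd 6, .fwd 83],
   .loop (some (15, 2)) [.bwd 459, .fwd 313, .fwd 401, .bwd 313],
   .define,
   .define,
   .define,
   .define,
   .loop (some (20, 6)) [.bwd 391, .bwd 383, .fwd 8, .bwd 390, .fwd 464, .fwd 465, .fwd 466, .fwd 467],
   .define,
   .loop (some (3, 1)) [.bwd 383, .fwd 426, .fwd 383],
   .define,
   .loop (some (4, 2)) [.fwd 406, .fwd 383, .fwd 471],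
   .define,
   .define,
   .define,
   .define,
   .loop (some (18, 7)) [.bwd 426, .bwd 406, .bwd 472, .fwd 473, .fwd 474, .fwd 475, .fwd 476],
   .define,
   .define,
   .define,
   .define,
   .define,
   .define,
   .define,
   .define,
   .define,
   .define,
   .define,
   .loop (some (23, 15)) [.bwd 283, .fwd 400, .bwd 426, .bwd 406, .bwd 472, .fwd 473, .fwd 478, .fwd 479, .fwd 480, .fwd 481, .fwd 482, .fwd 483, .fwd 484, .fwd 485, .fwd 486, .fwd 487, .fwd 488],
   .define,
   .define,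
   .define,
   .define,
   .define,
   .define,
   .define,
   .define,
   .define,
   .define]

theorem just1_len : just1.length = 250 := by decide +kernel

theorem just1_ok : cert.okFacts 250 just1 = true := by decide +kernel

/-- justifications -/
noncomputable def just2 : List Cert.Just :=
  [.define,
   .define,
   .define,
   .define,
   .define,
   .define,
   .define,
   .define,
   .define,
   .define,
   .define,
   .define,
   .define,
   .define,
   .define,
   .define,
   .define,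
   .define,
   .define,
   .define,
   .define,
   .loop (some (24, 34)) [.bwd 469, .bwd 7, .fwd 381, .bwd 69, .fwd 406, .fwd 426, .bwd 7, .bwd 390, .bwd 389, .fwd 490, .fwd 491, .fwd 492, .fwd 493, .fwd 494, .fwd 495, .fwd 496, .fwd 497, .fwd 498, .fwd 499, .fwd 500, .fwd 501, .fwd 502, .fwd 503, .fwd 504, .fwd 505, .fwd 506, .fwd 507, .fwd 508, .fwd 509, .fwd 510, .fwd 511, .fwd 512, .fwd 513, .fwd 514, .fwd 515, .fwd 516, .fwd 517, .fwd 518, .fwd 519, .fwd 520],
   .define,
   .define,
   .loop (some (17, 3)) [.fwd 468, .bwd 391, .bwd 383, .fwd 469, .fwd 522, .fwd 523],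
   .loop (some (12, 2)) [.fwd 406, .bwd 400, .bwd 305],
   .loop (some (15, 2)) [.bwd 522, .bwd 469, .bwd 413, .fwd 469],
   .loop (some (10, 1)) [.fwd 525, .fwd 406, .fwd 426, .bwd 477],
   .loop none [.fwd 527],
   .loop none [.fwd 476, .bwd 528],
   .define,
   .define,
   .define,
   .define,
   .define,
   .loop (some (21, 6)) [.fwd 425, .bwd 65, .bwd 53, .fwd 206, .fwd 530, .fwd 531, .fwd 532, .fwd 533, .fwd 534],
   .loop (some (0, 1)) [.fwd 227, .fwd 211],
   .loop (some (3, 1)) [.bwd 52, .fwd 71, .fwd 52],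
   .loop (some (4, 1)) [.bwd 52, .fwd 72, .fwd 52],
   .loop (some (8, 2)) [.bwd 206, .bwd 227, .bwd 224],
   .define,
   .define,
   .define,
   .define,
   .define,
   .define,
   .define,
   .define,
   .define,
   .define,
   .define,
   .define,
   .define,
   .define,
   .define,
   .define,
   .define,
   .define,
   .define,
   .define,
   .define,
   .define,
   .define,
   .define,
   .define,
   .define,
   .define,
   .define,
   .define,
   .define,
   .define,
   .define,
   .loop (some (24, 35)) [.bwd 541, .bwd 540, .bwd 206, .fwd 72, .fwd 71, .fwd 206, .bwd 296, .bwd 66, .bwd 425, .bwd 424, .fwd 542, .fwd 543, .fwd 544, .fwd 545, .fwd 546, .fwd 547, .fwd 548, .fwd 549, .fwd 550, .fwd 551, .fwd 552, .fwd 553, .fwd 554, .fwd 555, .fwd 556, .fwd 557, .fwd 558, .fwd 559, .fwd 560, .fwd 561, .fwd 562, .fwd 563, .fwd 564, .fwd 565, .fwd 566, .fwd 567, .fwd 568, .fwd 569, .fwd 570, .fwd 571],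
   .loop (some (16, 2)) [.bwd 530, .bwd 206, .fwd 255, .fwd 206, .fwd 530],
   .loop (some (15, 2)) [.fwd 275, .bwd 1, .fwd 11, .bwd 227, .fwd 281],
   .loop none [.bwd 574],
   .loop none [.fwd 575, .fwd 270, .bwd 575],
   .loop none [.fwd 575, .fwd 271, .bwd 575],
   .loop none [.bwd 272, .bwd 575],
   .loop none [.fwd 575, .fwd 264, .bwd 575],
   .loop none [.bwd 18, .fwd 575, .fwd 265],
   .loop none [.bwd 580],
   .loop none [.fwd 281, .fwd 575, .fwd 266],
   .loop none [.fwd 582],
   .loop none [.bwd 275, .bwd 575],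
   .loop none [.bwd 276, .bwd 575],
   .loop none [.bwd 277, .bwd 575],
   .loop none [.fwd 18, .bwd 581],
   .loop none [.bwd 214, .fwd 581, .fwd 19],
   .loop none [.bwd 588],
   .loop none [.fwd 224, .fwd 583, .fwd 215],
   .loop none [.bwd 590],
   .loop none [.fwd 22, .fwd 583, .bwd 121],
   .loop none [.bwd 592],
   .loop none [.fwd 536, .fwd 583, .bwd 278],
   .loop none [.bwd 594],
   .loop none [.fwd 79, .bwd 589],
   .loop none [.fwd 214, .bwd 589],
   .loop none [.bwd 224, .bwd 591],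
   .loop none [.bwd 539, .bwd 591],
   .loop none [.bwd 163, .fwd 591, .bwd 223],
   .loop none [.fwd 600],
   .loop none [.bwd 22, .bwd 593],
   .loop none [.fwd 282, .fwd 593, .bwd 21],
   .loop none [.bwd 603],
   .loop none [.fwd 604, .bwd 536, .bwd 595],
   .loop none [.fwd 211, .bwd 595],
   .loop none [.fwd 597, .fwd 595, .bwd 586],
   .loop none [.bwd 607],
   .loop none [.fwd 222, .bwd 601],
   .loop none [.fwd 604, .fwd 228, .bwd 604],
   .loop none [.fwd 604, .fwd 245, .bwd 604],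
   .loop none [.fwd 598, .bwd 604],
   .loop none [.fwd 604, .fwd 216, .bwd 604],
   .loop none [.fwd 602, .bwd 604],
   .loop none [.bwd 227, .bwd 604],
   .loop none [.fwd 205, .bwd 604],
   .loop none [.bwd 282, .bwd 604],
   .loop none [.fwd 587, .fwd 608, .fwd 596],
   .loop none [.fwd 618],
   .loop none [.bwd 20, .bwd 608],
   .loop none [.bwd 597, .bwd 608],
   .loop none [.fwd 52, .fwd 619, .fwd 342],
   .loop none [.fwd 622],
   .loop none [.bwd 206, .fwd 623, .fwd 343],
   .loop none [.fwd 624],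
   .loop none [.fwd 296, .fwd 625, .fwd 344],
   .loop none [.fwd 626],
   .loop none [.fwd 66, .fwd 627, .fwd 345],
   .loop none [.fwd 628],
   .loop none [.fwd 425, .fwd 629, .fwd 346],
   .loop none [.bwd 630],
   .loop none [.fwd 535, .bwd 631],
   .loop none [.bwd 347, .fwd 631, .bwd 424],
   .loop none [.fwd 633],
   .loop none [.bwd 425, .bwd 631],
   .loop none [.bwd 348, .fwd 634, .fwd 542],
   .loop none [.fwd 636],
   .loop none [.fwd 423, .bwd 634],
   .loop none [.bwd 349, .fwd 637, .fwd 543],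
   .loop none [.fwd 639],
   .loop none [.bwd 350, .fwd 640, .fwd 544],
   .loop none [.fwd 641],
   .loop none [.bwd 351, .fwd 642, .fwd 545],
   .loop none [.fwd 643],
   .loop none [.bwd 352, .fwd 644, .fwd 546],
   .loop none [.fwd 645],
   .loop none [.bwd 353, .fwd 646, .fwd 547],
   .loop none [.fwd 647],
   .loop none [.bwd 354, .fwd 648, .fwd 548],
   .loop none [.fwd 649],
   .loop none [.bwd 355, .fwd 650, .fwd 549],
   .loop none [.fwd 651],
   .loop none [.bwd 356, .fwd 652, .fwd 550],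
   .loop none [.fwd 653],
   .loop none [.bwd 357, .fwd 654, .fwd 551],
   .loop none [.fwd 655],
   .loop none [.bwd 358, .fwd 656, .fwd 552],
   .loop none [.fwd 657],
   .loop none [.bwd 553, .bwd 658],
   .loop (some (5, 3)) [.bwd 52, .fwd 206, .fwd 373],
   .define,
   .define,
   .define,
   .define,
   .define,
   .define,
   .loop (some (21, 7)) [.bwd 578, .bwd 17, .bwd 660, .fwd 661, .fwd 662, .fwd 663, .fwd 664, .fwd 665, .fwd 666],
   .define,
   .define,
   .loop (some (19, 4)) [.bwd 669, .bwd 668, .fwd 660, .fwd 538, .bwd 537, .bwd 660, .fwd 668, .fwd 669],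
   .define,
   .define,
   .define,
   .define,
   .define,
   .define,
   .define,
   .define,
   .define,
   .define,
   .define,
   .define,
   .define,
   .define,
   .define,
   .define,
   .define,
   .define,
   .define,
   .define,
   .define,
   .define,
   .define,
   .define,
   .define,
   .define,
   .define,
   .define,
   .define,
   .loop (some (24, 35)) [.bwd 669, .bwd 668, .fwd 660, .fwd 538, .fwd 537, .bwd 660, .bwd 373, .bwd 296, .fwd 6, .bwd 313, .fwd 459, .fwd 671, .fwd 672, .fwd 673, .fwd 674, .fwd 675, .fwd 676, .fwd 677, .fwd 678, .fwd 679, .fwd 680, .fwd 681, .fwd 682, .fwd 683, .fwd 684, .fwd 685, .fwd 686, .fwd 687, .fwd 688, .fwd 689, .fwd 690, .fwd 691, .fwd 692, .fwd 693, .fwd 694, .fwd 695, .fwd 696, .fwd 697, .fwd 698, .fwd 699],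
   .loop (some (16, 2)) [.bwd 661, .fwd 660, .fwd 267, .bwd 660, .fwd 661],
   .loop (some (5, 3)) [.bwd 578, .bwd 587, .bwd 660, .fwd 374],
   .loop none [.bwd 702],
   .loop none [.fwd 578, .bwd 703],
   .loop none [.bwd 159, .bwd 703],
   .loop none [.bwd 30, .fwd 703, .bwd 667],
   .loop none [.fwd 706],
   .loop none [.fwd 666, .bwd 707],
   .define,
   .define,
   .define,
   .define,
   .define,
   .define,
   .loop (some (21, 7)) [.fwd 660, .bwd 621, .bwd 704, .fwd 709, .fwd 710, .fwd 711, .fwd 712, .fwd 713, .fwd 714],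
   .loop (some (8, 2)) [.fwd 704, .fwd 585, .bwd 54],
   .define,
   .define,
   .loop (some (19, 4)) [.bwd 718, .bwd 717, .fwd 704, .fwd 577, .bwd 576, .bwd 704, .fwd 717, .fwd 718],
   .define,
   .define,
   .define,
   .define,
   .define,
   .define,
   .define,
   .define,
   .define,
   .define,
   .define,
   .define,
   .define,
   .define,
   .define,
   .define,
   .define,
   .define,
   .define,
   .define,
   .define,
   .define,
   .define,
   .define,
   .define,
   .define,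
   .define,
   .define,
   .define,
   .define]

theorem just2_len : just2.length = 250 := by decide +kernel

theorem just2_ok : cert.okFacts 500 just2 = true := by decide +kernel

/-- justifications -/
noncomputable def just3 : List Cert.Just :=
  [.define,
   .loop (some (24, 35)) [.bwd 718, .bwd 717, .fwd 704, .fwd 577, .fwd 576, .bwd 704, .bwd 374, .bwd 373, .bwd 142, .fwd 720, .fwd 721, .fwd 722, .fwd 723, .fwd 724, .fwd 725, .fwd 726, .fwd 727, .fwd 728, .fwd 729, .fwd 730, .fwd 731, .fwd 732, .fwd 733, .fwd 734, .fwd 735, .fwd 736, .fwd 737, .fwd 738, .fwd 739, .fwd 740, .fwd 741, .fwd 742, .fwd 743, .fwd 744, .fwd 745, .fwd 746, .fwd 747, .fwd 748, .fwd 749, .fwd 750],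
   .loop (some (16, 2)) [.bwd 709, .fwd 704, .fwd 579, .bwd 704, .fwd 709],
   .define,
   .define,
   .define,
   .define,
   .loop (some (21, 6)) [.bwd 133, .fwd 54, .bwd 617, .fwd 612, .bwd 287, .fwd 753, .fwd 754, .fwd 755, .fwd 756],
   .loop (some (8, 2)) [.bwd 612, .bwd 605, .bwd 660],
   .define,
   .define,
   .loop (some (19, 4)) [.bwd 760, .bwd 759, .bwd 612, .fwd 611, .bwd 610, .fwd 612, .fwd 759, .fwd 760],
   .define,
   .define,
   .define,
   .define,
   .define,
   .define,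
   .define,
   .define,
   .define,
   .define,
   .define,
   .define,
   .define,
   .define,
   .define,
   .define,
   .define,
   .define,
   .define,
   .define,
   .define,
   .define,
   .define,
   .define,
   .define,
   .define,
   .define,
   .define,
   .define,
   .define,
   .define,
   .loop (some (24, 35)) [.bwd 760, .bwd 759, .bwd 612, .fwd 611, .fwd 610, .fwd 612, .fwd 29, .bwd 374, .bwd 715, .fwd 762, .fwd 763, .fwd 764, .fwd 765, .fwd 766, .fwd 767, .fwd 768, .fwd 769, .fwd 770, .fwd 771, .fwd 772, .fwd 773, .fwd 774, .fwd 775, .fwd 776, .fwd 777, .fwd 778, .fwd 779, .fwd 780, .fwd 781, .fwd 782, .fwd 783, .fwd 784, .fwd 785, .fwd 786, .fwd 787, .fwd 788, .fwd 789, .fwd 790, .fwd 791, .fwd 792],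
   .loop (some (16, 2)) [.fwd 287, .bwd 612, .fwd 613, .fwd 612, .bwd 287],
   .define,
   .define,
   .define,
   .loop (some (20, 4)) [.bwd 661, .fwd 374, .bwd 29, .bwd 28, .fwd 217, .fwd 795, .fwd 796, .fwd 797],
   .define,
   .define,
   .define,
   .define,
   .loop (some (22, 6)) [.fwd 34, .fwd 35, .bwd 59, .bwd 29, .bwd 28, .fwd 217, .fwd 795, .fwd 799, .fwd 800, .fwd 801, .fwd 802],
   .loop (some (13, 1)) [.bwd 218, .bwd 217, .bwd 295],
   .define,
   .define,
   .define,
   .loop (some (21, 8)) [.fwd 295, .fwd 54, .bwd 3, .bwd 616, .fwd 612, .fwd 163, .fwd 805, .fwd 806, .fwd 807],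
   .define,
   .define,
   .loop (some (3, 3)) [.fwd 28, .fwd 809, .fwd 810],
   .loop (some (4, 2)) [.bwd 231, .fwd 28, .fwd 759],
   .define,
   .loop (some (14, 2)) [.fwd 230, .bwd 295, .fwd 813],
   .define,
   .loop (some (2, 2)) [.bwd 217, .fwd 231, .fwd 815],
   .define,
   .define,
   .define,
   .define,
   .loop (some (18, 5)) [.bwd 88, .bwd 133, .bwd 811, .fwd 817, .fwd 818, .fwd 819, .fwd 820],
   .define,
   .define,
   .define,
   .define,
   .define,
   .define,
   .define,
   .define,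
   .define,
   .define,
   .define,
   .define,
   .loop (some (23, 16)) [.fwd 295, .bwd 811, .fwd 817, .fwd 818, .fwd 819, .fwd 822, .fwd 823, .fwd 824, .fwd 825, .fwd 826, .fwd 827, .fwd 828, .fwd 829, .fwd 830, .fwd 831, .fwd 832, .fwd 833],
   .loop (some (19, 1)) [.fwd 54, .fwd 225, .bwd 54, .fwd 231, .fwd 232, .fwd 233, .bwd 232, .bwd 231, .bwd 811],
   .loop none [.fwd 835],
   .loop none [.bwd 811, .bwd 836],
   .loop none [.bwd 231, .fwd 836, .fwd 817],
   .loop none [.fwd 838],
   .loop none [.bwd 28, .fwd 836, .bwd 810],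
   .loop none [.fwd 840],
   .loop none [.fwd 812, .fwd 839, .fwd 818],
   .loop none [.fwd 842],
   .loop none [.fwd 809, .bwd 841],
   .loop none [.bwd 819, .bwd 843],
   .loop (some (1, 2)) [.bwd 217, .bwd 837, .fwd 217],
   .define,
   .define,
   .define,
   .define,
   .define,
   .define,
   .define,
   .define,
   .define,
   .define,
   .define,
   .loop (some (24, 35)) [.fwd 232, .fwd 233, .bwd 232, .bwd 231, .fwd 837, .fwd 54, .bwd 2, .bwd 1, .bwd 0, .edge 4, .edge 4, .edge 2, .edge 5, .edge 5, .bwd 45, .fwd 1, .fwd 2, .bwd 54, .fwd 28, .fwd 29, .fwd 30, .fwd 31, .fwd 32, .fwd 33, .fwd 34, .fwd 35, .bwd 59, .fwd 709, .bwd 752, .fwd 847, .fwd 848, .fwd 849, .fwd 850, .fwd 851, .fwd 852, .fwd 853, .fwd 854, .fwd 855, .fwd 856, .fwd 857],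
   .define,
   .loop (some (12, 2)) [.bwd 231, .bwd 295, .fwd 859],
   .loop (some (9, 2)) [.bwd 217, .bwd 230, .fwd 136],
   .loop (some (10, 1)) [.fwd 860, .bwd 231, .fwd 837, .fwd 133],
   .loop none [.bwd 862],
   .loop none [.fwd 859, .bwd 863],
   .loop none [.bwd 860, .bwd 863],
   .define,
   .define,
   .define,
   .loop (some (20, 4)) [.bwd 530, .fwd 373, .fwd 374, .bwd 29, .bwd 287, .fwd 866, .fwd 867, .fwd 868],
   .define,
   .define,
   .define,
   .define,
   .define,
   .define,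
   .define,
   .loop (some (22, 9)) [.fwd 374, .bwd 29, .bwd 287, .fwd 866, .fwd 870, .fwd 871, .fwd 872, .fwd 873, .fwd 874, .fwd 875, .fwd 876],
   .define,
   .loop (some (13, 1)) [.bwd 753, .fwd 287, .fwd 878],
   .define,
   .define,
   .define,
   .loop (some (21, 8)) [.bwd 878, .bwd 612, .bwd 613, .fwd 617, .bwd 54, .fwd 133, .fwd 880, .fwd 881, .fwd 882],
   .loop (some (7, 2)) [.bwd 759, .bwd 758, .fwd 668],
   .loop (some (3, 1)) [.bwd 29, .fwd 844, .fwd 29],
   .loop (some (4, 2)) [.bwd 759, .fwd 29, .fwd 717],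
   .loop (some (14, 1)) [.fwd 877, .fwd 758, .fwd 878],
   .define,
   .loop (some (2, 2)) [.fwd 287, .fwd 759, .fwd 888],
   .define,
   .define,
   .loop (some (18, 5)) [.bwd 164, .bwd 163, .bwd 844, .fwd 759, .bwd 886, .fwd 890, .fwd 891],
   .define,
   .define,
   .define,
   .define,
   .define,
   .define,
   .define,
   .define,
   .define,
   .define,
   .define,
   .define,
   .loop (some (23, 16)) [.bwd 878, .bwd 844, .fwd 759, .bwd 886, .fwd 890, .fwd 893, .fwd 894, .fwd 895, .fwd 896, .fwd 897, .fwd 898, .fwd 899, .fwd 900, .fwd 901, .fwd 902, .fwd 903, .fwd 904],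
   .loop (some (1, 2)) [.fwd 287, .bwd 844, .bwd 287],
   .define,
   .define,
   .define,
   .define,
   .define,
   .define,
   .define,
   .define,
   .define,
   .define,
   .define,
   .loop (some (24, 33)) [.bwd 815, .bwd 812, .fwd 760, .fwd 761, .bwd 760, .bwd 759, .fwd 844, .bwd 612, .fwd 614, .bwd 2, .bwd 53, .bwd 11, .fwd 1, .fwd 65, .bwd 132, .fwd 28, .fwd 163, .fwd 164, .fwd 165, .fwd 166, .fwd 167, .fwd 168, .fwd 169, .fwd 170, .fwd 171, .fwd 172, .fwd 173, .fwd 174, .fwd 175, .fwd 907, .fwd 908, .fwd 909, .fwd 910, .fwd 911, .fwd 912, .fwd 913, .fwd 914, .fwd 915, .fwd 916, .fwd 917],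
   .loop (some (12, 1)) [.bwd 845, .bwd 759, .fwd 878],
   .loop (some (9, 2)) [.fwd 287, .bwd 758, .fwd 661],
   .loop (some (10, 1)) [.bwd 845, .bwd 759, .fwd 844, .fwd 163],
   .loop none [.bwd 921],
   .loop none [.fwd 919, .bwd 922],
   .loop none [.bwd 164, .fwd 922, .fwd 822],
   .loop none [.fwd 924],
   .loop none [.bwd 820, .bwd 922],
   .loop none [.fwd 845, .bwd 922],
   .loop none [.fwd 892, .fwd 925, .fwd 823],
   .loop none [.bwd 928],
   .loop none [.fwd 891, .bwd 929],
   .loop none [.bwd 892, .bwd 929],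
   .define,
   .define,
   .define,
   .loop (some (20, 4)) [.bwd 67, .fwd 296, .fwd 373, .fwd 374, .fwd 709, .fwd 932, .fwd 933, .fwd 934],
   .define,
   .define,
   .define,
   .define,
   .define,
   .define,
   .define,
   .loop (some (22, 9)) [.fwd 373, .fwd 374, .fwd 709, .fwd 932, .fwd 936, .fwd 937, .fwd 938, .fwd 939, .fwd 940, .fwd 941, .fwd 942],
   .loop (some (13, 1)) [.bwd 710, .bwd 709, .fwd 59],
   .define,
   .define,
   .define,
   .loop (some (21, 8)) [.bwd 59, .fwd 704, .bwd 579, .fwd 621, .bwd 660, .bwd 715, .fwd 945, .fwd 946, .fwd 947],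
   .loop (some (7, 2)) [.bwd 717, .bwd 716, .fwd 231],
   .loop (some (4, 2)) [.bwd 717, .bwd 374, .fwd 668],
   .loop (some (14, 1)) [.fwd 295, .fwd 716, .fwd 59],
   .loop (some (2, 1)) [.bwd 847, .bwd 709, .fwd 717],
   .loop (some (11, 1)) [.bwd 59, .fwd 885, .fwd 59],
   .define,
   .define,
   .loop (some (18, 5)) [.bwd 31, .bwd 30, .bwd 885, .fwd 717, .bwd 950, .fwd 954, .fwd 955],
   .define,
   .define,
   .define,
   .define,
   .define,
   .define,
   .define,
   .define,
   .define,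
   .define,
   .define,
   .define,
   .loop (some (23, 16)) [.bwd 59, .bwd 885, .fwd 717, .bwd 950, .fwd 954, .fwd 957, .fwd 958, .fwd 959, .fwd 960, .fwd 961, .fwd 962, .fwd 963, .fwd 964, .fwd 965, .fwd 966, .fwd 967, .fwd 968],
   .define,
   .define,
   .define,
   .define,
   .define,
   .define,
   .define,
   .define,
   .define,
   .define,
   .define,
   .loop (some (24, 33)) [.bwd 888, .bwd 886, .fwd 718, .fwd 719, .bwd 718, .bwd 717, .fwd 885, .fwd 704, .fwd 620, .fwd 614, .bwd 617, .bwd 620, .bwd 587, .bwd 660, .bwd 373, .bwd 296, .fwd 6, .bwd 313, .fwd 459, .fwd 671, .fwd 672, .fwd 673, .fwd 674, .fwd 675, .fwd 676, .fwd 677, .fwd 678, .fwd 679, .fwd 680, .fwd 970, .fwd 971, .fwd 972, .fwd 973, .fwd 974, .fwd 975, .fwd 976, .fwd 977, .fwd 978, .fwd 979, .fwd 980],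
   .loop (some (12, 1)) [.bwd 890, .bwd 717, .fwd 59],
   .loop (some (9, 2)) [.bwd 709, .bwd 716, .fwd 217],
   .loop (some (10, 1)) [.bwd 890, .bwd 717, .fwd 885, .fwd 30],
   .loop none [.bwd 984],
   .loop none [.fwd 982, .bwd 985],
   .loop none [.bwd 31, .fwd 985, .fwd 893],
   .loop none [.fwd 987],
   .loop none [.fwd 930, .bwd 985],
   .loop none [.fwd 890, .bwd 985],
   .loop none [.fwd 956, .fwd 988, .fwd 894],
   .loop none [.bwd 991],
   .loop none [.fwd 955, .bwd 992],
   .loop none [.bwd 956, .bwd 992],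
   .define,
   .define,
   .define,
   .define,
   .define]

theorem just3_len : just3.length = 250 := by decide +kernel

theorem just3_ok : cert.okFacts 750 just3 = true := by decide +kernel

/-- justifications -/
noncomputable def just4 : List Cert.Just :=
  [.loop (some (20, 6)) [.bwd 824, .bwd 989, .fwd 708, .fwd 995, .fwd 996, .fwd 997, .fwd 998, .fwd 999],
   .define,
   .define,
   .define,
   .loop (some (5, 3)) [.fwd 31, .fwd 1002, .fwd 1003],
   .loop (some (13, 2)) [.bwd 708, .bwd 30, .fwd 709],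
   .define,
   .define,
   .loop (some (21, 3)) [.fwd 877, .fwd 660, .fwd 267, .fwd 17, .bwd 704, .fwd 30, .bwd 1004, .fwd 1006, .fwd 1007],
   .define,
   .define,
   .loop (some (7, 2)) [.bwd 986, .fwd 1009, .fwd 1010],
   .define,
   .loop (some (0, 1)) [.bwd 1009, .fwd 1012],
   .define,
   .define,
   .loop (some (3, 3)) [.fwd 989, .fwd 1014, .fwd 1015],
   .loop (some (4, 1)) [.fwd 969, .bwd 986, .fwd 989],
   .loop (some (14, 3)) [.bwd 1009, .bwd 30, .fwd 705, .bwd 635],
   .loop none [.bwd 1018],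
   .loop none [.bwd 1010, .bwd 1019],
   .loop none [.fwd 1009, .bwd 1019],
   .loop none [.fwd 1013, .bwd 1019],
   .loop (some (11, 4)) [.bwd 30, .bwd 885, .fwd 30, .bwd 1016],
   .loop none [.fwd 1023],
   .loop none [.bwd 1016, .bwd 1024],
   .loop none [.bwd 989, .fwd 1024, .bwd 1015],
   .loop none [.fwd 1026],
   .loop none [.fwd 1014, .bwd 1027],
   .define,
   .define,
   .loop (some (18, 5)) [.bwd 886, .bwd 990, .bwd 1025, .fwd 986, .bwd 969, .fwd 1029, .fwd 1030],
   .define,
   .loop (some (8, 2)) [.fwd 1004, .bwd 1021, .fwd 1032],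
   .define,
   .define,
   .define,
   .define,
   .define,
   .define,
   .define,
   .define,
   .define,
   .loop (some (23, 13)) [.bwd 762, .fwd 715, .fwd 374, .fwd 30, .bwd 1025, .fwd 986, .bwd 969, .fwd 1029, .fwd 1034, .fwd 1035, .fwd 1036, .fwd 1037, .fwd 1038, .fwd 1039, .fwd 1040, .fwd 1041, .fwd 1042],
   .define,
   .define,
   .define,
   .define,
   .loop (some (19, 6)) [.fwd 948, .bwd 986, .bwd 1025, .bwd 1004, .fwd 1044, .fwd 1045, .fwd 1046, .fwd 1047],
   .define,
   .define,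
   .define,
   .define,
   .define,
   .define,
   .define,
   .define,
   .define,
   .define,
   .define,
   .define,
   .define,
   .define,
   .define,
   .define,
   .define,
   .define,
   .define,
   .define,
   .define,
   .define,
   .define,
   .define,
   .define,
   .define,
   .define,
   .define,
   .define,
   .define,
   .define,
   .define,
   .define,
   .loop (some (24, 35)) [.fwd 1047, .fwd 1048, .fwd 948, .bwd 986, .fwd 1025, .bwd 1004, .bwd 1003, .fwd 1049, .fwd 1050, .fwd 1051, .fwd 1052, .fwd 1053, .fwd 1054, .fwd 1055, .fwd 1056, .fwd 1057, .fwd 1058, .fwd 1059, .fwd 1060, .fwd 1061, .fwd 1062, .fwd 1063, .fwd 1064, .fwd 1065, .fwd 1066, .fwd 1067, .fwd 1068, .fwd 1069, .fwd 1070, .fwd 1071, .fwd 1072, .fwd 1073, .fwd 1074, .fwd 1075, .fwd 1076, .fwd 1077, .fwd 1078, .fwd 1079, .fwd 1080, .fwd 1081],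
   .define,
   .loop (some (16, 3)) [.fwd 665, .bwd 708, .bwd 1004, .fwd 1006, .fwd 1083],
   .define,
   .loop (some (17, 3)) [.fwd 1000, .bwd 824, .bwd 989, .fwd 31, .fwd 32, .fwd 1085],
   .loop (some (12, 2)) [.bwd 986, .bwd 30, .fwd 717],
   .loop (some (9, 2)) [.bwd 708, .bwd 1021, .fwd 632],
   .loop (some (15, 2)) [.bwd 32, .bwd 31, .bwd 1021, .fwd 347],
   .define,
   .define,
   .define,
   .define,
   .define,
   .loop (some (20, 5)) [.bwd 824, .bwd 989, .fwd 31, .fwd 1090, .fwd 1091, .fwd 1092, .fwd 1093, .fwd 1094],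
   .define,
   .define,
   .define,
   .define,
   .define,
   .loop (some (22, 7)) [.bwd 165, .bwd 931, .bwd 989, .fwd 31, .fwd 1090, .fwd 1091, .fwd 1096, .fwd 1097, .fwd 1098, .fwd 1099, .fwd 1100],
   .loop (some (5, 2)) [.bwd 1049, .bwd 1002, .fwd 32, .fwd 33],
   .loop none [.bwd 1102],
   .loop none [.fwd 1049, .bwd 1103],
   .loop none [.bwd 1050, .bwd 1103],
   .define,
   .define,
   .loop (some (13, 2)) [.bwd 1090, .fwd 1106, .fwd 1107],
   .define,
   .define,
   .define,
   .define,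
   .loop (some (7, 3)) [.fwd 1110, .fwd 1111, .fwd 1112],
   .define,
   .loop (some (0, 1)) [.bwd 1110, .fwd 1114],
   .loop (some (3, 3)) [.bwd 31, .bwd 1025, .fwd 31],
   .loop (some (4, 3)) [.fwd 1113, .bwd 31, .fwd 986, .bwd 35],
   .loop none [.bwd 1117],
   .loop none [.bwd 1113, .bwd 1118],
   .loop none [.fwd 1112, .bwd 1118],
   .define,
   .loop (some (14, 2)) [.bwd 1110, .fwd 1106, .fwd 1121],
   .define,
   .loop (some (2, 2)) [.bwd 1090, .bwd 1119, .fwd 1123],
   .define,
   .loop (some (8, 2)) [.bwd 1002, .fwd 1110, .fwd 1125],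
   .define,
   .define,
   .define,
   .define,
   .define,
   .define,
   .define,
   .define,
   .define,
   .define,
   .loop (some (23, 16)) [.bwd 1106, .bwd 1116, .bwd 1119, .fwd 35, .bwd 1087, .fwd 886, .bwd 1031, .fwd 1127, .fwd 1128, .fwd 1129, .fwd 1130, .fwd 1131, .fwd 1132, .fwd 1133, .fwd 1134, .fwd 1135, .fwd 1136],
   .define,
   .define,
   .define,
   .define,
   .define,
   .loop (some (19, 7)) [.fwd 1119, .bwd 1116, .fwd 1002, .fwd 1138, .fwd 1139, .fwd 1140, .fwd 1141, .fwd 1142],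
   .loop (some (1, 2)) [.bwd 1090, .bwd 1116, .fwd 1090],
   .define,
   .define,
   .define,
   .define,
   .define,
   .define,
   .define,
   .define,
   .define,
   .define,
   .define,
   .define,
   .define,
   .define,
   .define,
   .define,
   .define,
   .define,
   .define,
   .define,
   .define,
   .define,
   .define,
   .define,
   .define,
   .define,
   .define,
   .define,
   .define,
   .define,
   .define,
   .define,
   .loop (some (24, 35)) [.fwd 1141, .fwd 1142, .fwd 1143, .fwd 1119, .fwd 1116, .fwd 1002, .bwd 1104, .fwd 34, .fwd 1145, .fwd 1146, .fwd 1147, .fwd 1148, .fwd 1149, .fwd 1150, .fwd 1151, .fwd 1152, .fwd 1153, .fwd 1154, .fwd 1155, .fwd 1156, .fwd 1157, .fwd 1158, .fwd 1159, .fwd 1160, .fwd 1161, .fwd 1162, .fwd 1163, .fwd 1164, .fwd 1165, .fwd 1166, .fwd 1167, .fwd 1168, .fwd 1169, .fwd 1170, .fwd 1171, .fwd 1172, .fwd 1173, .fwd 1174, .fwd 1175, .fwd 1176],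
   .define,
   .define,
   .loop (some (12, 2)) [.fwd 1119, .fwd 1106, .fwd 1179],
   .define,
   .loop (some (9, 2)) [.bwd 1090, .fwd 1110, .fwd 1181],
   .define,
   .loop (some (15, 2)) [.bwd 1085, .bwd 32, .fwd 1110, .fwd 1183],
   .loop (some (10, 1)) [.fwd 1180, .fwd 1119, .fwd 1116, .bwd 994],
   .loop none [.bwd 1185],
   .loop none [.fwd 1179, .bwd 1186],
   .loop none [.bwd 1180, .bwd 1186],
   .define,
   .define,
   .define,
   .define,
   .define,
   .loop (some (20, 5)) [.bwd 989, .fwd 31, .fwd 32, .fwd 1189, .fwd 1190, .fwd 1191, .fwd 1192, .fwd 1193],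
   .define,
   .loop (some (22, 3)) [.bwd 799, .bwd 795, .bwd 217, .fwd 28, .fwd 29, .fwd 30, .fwd 31, .fwd 32, .fwd 1189, .fwd 1190, .fwd 1195],
   .loop (some (5, 1)) [.fwd 1143, .bwd 34, .bwd 33, .fwd 1085],
   .loop none [.bwd 1197],
   .loop none [.fwd 1142, .bwd 1198],
   .loop none [.bwd 1143, .bwd 1198],
   .define,
   .define,
   .loop (some (13, 2)) [.bwd 1189, .fwd 1201, .fwd 1202],
   .define,
   .define,
   .define,
   .define,
   .define,
   .define,
   .loop (some (21, 8)) [.bwd 1201, .fwd 33, .bwd 803, .fwd 1204, .fwd 1205, .fwd 1206, .fwd 1207, .fwd 1208, .fwd 1209],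
   .define,
   .define,
   .loop (some (7, 3)) [.bwd 1089, .fwd 1211, .fwd 1212],
   .define,
   .loop (some (0, 1)) [.fwd 1089, .fwd 1214],
   .loop (some (3, 3)) [.bwd 32, .bwd 1116, .fwd 32],
   .loop (some (4, 3)) [.fwd 1213, .bwd 32, .bwd 1119, .bwd 34],
   .loop none [.bwd 1217],
   .loop none [.bwd 1213, .bwd 1218],
   .loop none [.fwd 1212, .bwd 1218],
   .loop (some (14, 1)) [.bwd 638, .fwd 1089, .fwd 1201],
   .define,
   .loop (some (18, 7)) [.bwd 1216, .bwd 1219, .fwd 34, .bwd 1188, .fwd 895, .fwd 896, .fwd 1222],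
   .loop (some (8, 1)) [.bwd 1220, .bwd 33, .bwd 1089],
   .define,
   .define,
   .define,
   .define,
   .define,
   .define,
   .define,
   .define,
   .define,
   .define,
   .loop (some (23, 16)) [.bwd 1201, .bwd 1216, .bwd 1219, .fwd 34, .bwd 1188, .fwd 993, .bwd 954, .fwd 1225, .fwd 1226, .fwd 1227, .fwd 1228, .fwd 1229, .fwd 1230, .fwd 1231, .fwd 1232, .fwd 1233, .fwd 1234],
   .define,
   .define,
   .loop (some (12, 2)) [.fwd 1219, .fwd 1201, .fwd 1237],
   .define,
   .loop (some (15, 2)) [.bwd 1086, .bwd 1085, .bwd 1089, .fwd 348],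
   .loop (some (6, 1)) [.fwd 1089, .fwd 1216, .bwd 1089],
   .loop (some (10, 1)) [.fwd 1238, .fwd 1219, .fwd 1216, .bwd 1223],
   .loop none [.bwd 1242],
   .loop none [.fwd 1237, .bwd 1243],
   .loop none [.bwd 1238, .bwd 1243],
   .define,
   .define,
   .define,
   .loop (some (20, 5)) [.fwd 969, .bwd 35, .bwd 34, .bwd 803, .bwd 802, .fwd 1246, .fwd 1247, .fwd 1248]]

theorem just4_len : just4.length = 250 := by decide +kernel

theorem just4_ok : cert.okFacts 1000 just4 = true := by decide +kernel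

/-- justifications -/
noncomputable def just5 : List Cert.Just :=
  [.define,
   .define,
   .loop (some (22, 5)) [.bwd 815, .bwd 812, .bwd 886, .fwd 1087, .bwd 35, .bwd 34, .bwd 803, .bwd 802, .bwd 801, .fwd 1250, .fwd 1251],
   .define,
   .define,
   .define,
   .define,
   .define,
   .loop (some (21, 8)) [.fwd 1245, .bwd 33, .fwd 1189, .bwd 1203, .fwd 1253, .fwd 1254, .fwd 1255, .fwd 1256, .fwd 1257],
   .define,
   .define,
   .loop (some (3, 3)) [.fwd 34, .fwd 1259, .fwd 1260],
   .define,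
   .loop (some (14, 2)) [.bwd 1220, .bwd 1245, .fwd 1262],
   .define,
   .define,
   .define,
   .define,
   .loop (some (18, 5)) [.bwd 1051, .bwd 1105, .bwd 1261, .fwd 1264, .fwd 1265, .fwd 1266, .fwd 1267],
   .define,
   .define,
   .define,
   .define,
   .define,
   .define,
   .define,
   .define,
   .define,
   .define,
   .define,
   .define,
   .loop (some (23, 16)) [.fwd 1245, .bwd 1261, .fwd 1264, .fwd 1265, .fwd 1266, .fwd 1269, .fwd 1270, .fwd 1271, .fwd 1272, .fwd 1273, .fwd 1274, .fwd 1275, .fwd 1276, .fwd 1277, .fwd 1278, .fwd 1279, .fwd 1280],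
   .loop (some (19, 1)) [.bwd 33, .bwd 1219, .bwd 33, .bwd 1219, .bwd 33, .bwd 1219, .bwd 33, .bwd 1219, .bwd 1261],
   .loop none [.fwd 1282],
   .loop none [.bwd 1261, .bwd 1283],
   .loop none [.bwd 1219, .fwd 1283, .fwd 1264],
   .loop none [.fwd 1285],
   .loop none [.bwd 34, .fwd 1283, .bwd 1260],
   .loop none [.fwd 1287],
   .loop none [.fwd 32, .fwd 1286, .fwd 1265],
   .loop none [.fwd 1289],
   .loop none [.fwd 1259, .bwd 1288],
   .loop none [.bwd 1106, .fwd 1290, .fwd 1266],
   .loop none [.fwd 1292],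
   .loop none [.bwd 1269, .bwd 1293],
   .loop none [.fwd 1137, .fwd 1293, .fwd 1267],
   .loop none [.fwd 1295],
   .loop none [.bwd 1268, .bwd 1296],
   .define,
   .loop (some (17, 3)) [.fwd 969, .bwd 35, .bwd 34, .fwd 1104, .fwd 1003, .fwd 1298],
   .loop (some (15, 1)) [.fwd 1033, .bwd 1003, .bwd 1104, .fwd 1220],
   .loop (some (10, 1)) [.bwd 1201, .bwd 1219, .fwd 1284, .fwd 1105],
   .loop none [.bwd 1301],
   .loop none [.fwd 1244, .bwd 1302],
   .loop none [.fwd 1210, .bwd 1302],
   .loop none [.bwd 1202, .bwd 1302],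
   .loop none [.fwd 1235, .bwd 1302],
   .loop none [.bwd 1221, .bwd 1302],
   .loop none [.fwd 1201, .bwd 1302],
   .define,
   .define,
   .define,
   .loop (some (14, 2)) [.bwd 1120, .bwd 1188, .fwd 1311],
   .loop (some (11, 1)) [.fwd 1188, .fwd 1291, .bwd 1188],
   .loop (some (18, 6)) [.bwd 1146, .bwd 1145, .bwd 1291, .fwd 1119, .bwd 31, .bwd 30, .bwd 374, .bwd 877],
   .loop none [.bwd 1314],
   .loop none [.fwd 876, .fwd 1315, .fwd 1147],
   .loop none [.fwd 1316],
   .loop none [.fwd 1146, .bwd 1315],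
   .loop none [.bwd 1148, .bwd 1317],
   .loop (some (8, 1)) [.fwd 1184, .fwd 1200, .fwd 1120],
   .define,
   .define,
   .loop (some (9, 2)) [.bwd 1123, .fwd 1120, .fwd 1322],
   .loop (some (15, 1)) [.fwd 1126, .bwd 1104, .fwd 34, .fwd 1120],
   .loop (some (6, 1)) [.bwd 1120, .fwd 1291, .fwd 1120],
   .loop (some (10, 1)) [.bwd 1106, .bwd 1119, .fwd 1291, .fwd 1145],
   .loop none [.fwd 1326],
   .loop none [.bwd 1294, .fwd 1327, .bwd 1318],
   .loop none [.bwd 1328],
   .loop none [.fwd 1145, .bwd 1327],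
   .loop none [.fwd 1294, .bwd 1329],
   .loop none [.bwd 877, .fwd 1329, .fwd 1270],
   .loop none [.fwd 1332],
   .loop none [.fwd 373, .fwd 1333, .fwd 1271],
   .loop none [.fwd 1334],
   .loop none [.fwd 943, .fwd 1335, .fwd 1272],
   .loop none [.fwd 1336],
   .loop none [.fwd 942, .fwd 1337, .fwd 1273],
   .loop none [.fwd 1338],
   .loop none [.bwd 1274, .bwd 1339],
   .loop (some (5, 3)) [.fwd 948, .bwd 35, .bwd 1200, .fwd 1086],
   .loop none [.fwd 1341],
   .loop none [.fwd 999, .bwd 1342],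
   .loop none [.bwd 1000, .bwd 1342],
   .loop none [.fwd 1086, .bwd 1342],
   .loop none [.fwd 1240, .bwd 1342],
   .loop (some (13, 2)) [.bwd 944, .bwd 1087, .fwd 952],
   .define,
   .define,
   .define,
   .define,
   .define,
   .loop (some (21, 7)) [.bwd 718, .fwd 1087, .bwd 948, .fwd 1343, .fwd 1348, .fwd 1349, .fwd 1350, .fwd 1351, .fwd 1352],
   .loop (some (0, 2)) [.fwd 1011, .fwd 951, .fwd 813],
   .loop none [.bwd 1354],
   .loop none [.fwd 1020, .bwd 1355],
   .loop none [.bwd 1011, .bwd 1355],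
   .define,
   .loop (some (14, 2)) [.fwd 1357, .bwd 1087, .fwd 1358],
   .loop (some (8, 1)) [.bwd 349, .bwd 1346, .fwd 948, .bwd 1357],
   .loop none [.fwd 1360],
   .loop none [.bwd 1356, .bwd 1361],
   .loop none [.bwd 1357, .bwd 1361],
   .loop none [.fwd 813, .bwd 1361],
   .loop none [.bwd 814, .bwd 1361],
   .loop none [.fwd 1359, .bwd 1361],
   .define,
   .define,
   .define,
   .define,
   .define,
   .define,
   .define,
   .define,
   .define,
   .define,
   .define,
   .define,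
   .loop (some (16, 3)) [.bwd 711, .bwd 944, .bwd 948, .fwd 1343, .fwd 1378],
   .define,
   .loop (some (9, 2)) [.bwd 944, .bwd 1363, .fwd 1380],
   .loop (some (15, 1)) [.bwd 1220, .fwd 34, .fwd 35, .bwd 1363],
   .loop (some (6, 1)) [.fwd 1363, .fwd 953, .bwd 1363],
   .define,
   .define,
   .define,
   .define,
   .define,
   .define,
   .define,
   .loop (some (22, 8)) [.bwd 878, .bwd 28, .fwd 132, .fwd 136, .fwd 1384, .fwd 1385, .fwd 1386, .fwd 1387, .fwd 1388, .fwd 1389, .fwd 1390],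
   .loop (some (13, 2)) [.bwd 137, .bwd 136, .bwd 1365, .fwd 1380],
   .loop none [.fwd 1392],
   .loop none [.fwd 1380, .bwd 1393],
   .loop none [.bwd 1381, .bwd 1393],
   .define,
   .define,
   .loop (some (21, 7)) [.fwd 349, .fwd 1365, .bwd 65, .bwd 248, .bwd 212, .fwd 206, .bwd 142, .fwd 1396, .fwd 1397],
   .loop (some (7, 3)) [.bwd 160, .bwd 705, .fwd 717, .fwd 1358],
   .loop none [.fwd 1399],
   .loop none [.fwd 1358, .bwd 1400],
   .loop none [.fwd 1366, .bwd 1400],
   .loop (some (4, 3)) [.bwd 160, .bwd 132, .fwd 231, .bwd 858],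
   .loop none [.fwd 1403],
   .loop none [.fwd 857, .bwd 1404],
   .loop none [.bwd 858, .bwd 1404],
   .loop (some (2, 2)) [.bwd 136, .fwd 160, .fwd 1405],
   .define,
   .loop (some (18, 5)) [.bwd 347, .fwd 635, .bwd 338, .fwd 160, .fwd 1406, .bwd 865, .fwd 1408],
   .define,
   .define,
   .define,
   .define,
   .define,
   .define,
   .define,
   .define,
   .define,
   .loop (some (23, 15)) [.bwd 350, .fwd 1365, .bwd 338, .fwd 160, .fwd 1406, .bwd 865, .fwd 88, .bwd 821, .fwd 1410, .fwd 1411, .fwd 1412, .fwd 1413, .fwd 1414, .fwd 1415, .fwd 1416, .fwd 1417, .fwd 1418],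
   .define,
   .define,
   .define,
   .define,
   .define,
   .define,
   .define,
   .define,
   .define,
   .define,
   .define,
   .loop (some (24, 33)) [.bwd 304, .bwd 302, .fwd 161, .fwd 162, .bwd 161, .bwd 160, .fwd 338, .bwd 65, .bwd 1, .fwd 11, .fwd 212, .fwd 2, .bwd 614, .fwd 612, .fwd 29, .bwd 374, .bwd 715, .fwd 762, .fwd 763, .fwd 764, .fwd 765, .fwd 766, .fwd 767, .fwd 768, .fwd 769, .fwd 770, .fwd 771, .fwd 772, .fwd 773, .fwd 1420, .fwd 1421, .fwd 1422, .fwd 1423, .fwd 1424, .fwd 1425, .fwd 1426, .fwd 1427, .fwd 1428, .fwd 1429, .fwd 1430],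
   .loop (some (12, 2)) [.bwd 340, .bwd 160, .bwd 1365, .fwd 1362],
   .loop none [.fwd 1432],
   .loop none [.fwd 1362, .bwd 1433],
   .loop none [.bwd 1032, .bwd 1433],
   .loop none [.bwd 632, .bwd 1433],
   .loop none [.bwd 314, .fwd 1433, .fwd 347],
   .loop none [.fwd 1437],
   .loop none [.bwd 1021, .bwd 1433],
   .loop none [.bwd 1022, .bwd 1433],
   .loop none [.bwd 635, .bwd 1433],
   .loop none [.fwd 1438, .fwd 1241, .bwd 1438],
   .loop none [.bwd 1211, .bwd 1438],
   .loop none [.bwd 1224, .bwd 1438],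
   .loop none [.bwd 1239, .bwd 1438],
   .loop none [.bwd 348, .bwd 1438],
   .loop none [.bwd 1089, .bwd 1438],
   .loop none [.fwd 1215, .bwd 1438],
   .loop none [.bwd 315, .fwd 1438, .bwd 1409],
   .loop none [.fwd 1449],
   .loop none [.bwd 638, .bwd 1438],
   .loop none [.fwd 1408, .bwd 1450],
   .define,
   .loop (some (20, 6)) [.bwd 288, .bwd 283, .bwd 67, .bwd 66, .fwd 136, .fwd 1384, .fwd 1385, .fwd 1453],
   .loop (some (5, 1)) [.bwd 283, .fwd 120, .bwd 935],
   .loop (some (3, 1)) [.bwd 283, .fwd 341, .fwd 283],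
   .define,
   .loop (some (4, 2)) [.fwd 305, .fwd 283, .fwd 1457],
   .loop (some (11, 1)) [.bwd 68, .fwd 341, .fwd 68],
   .define,
   .define,
   .loop (some (18, 5)) [.bwd 469, .bwd 400, .bwd 341, .bwd 305, .bwd 1458, .fwd 1460, .fwd 1461],
   .define,
   .define,
   .define,
   .define,
   .define,
   .define,
   .define,
   .define,
   .define,
   .define,
   .define,
   .loop (some (23, 15)) [.fwd 472, .bwd 68, .bwd 341, .bwd 305, .bwd 1458, .fwd 1460, .fwd 1463, .fwd 1464, .fwd 1465, .fwd 1466, .fwd 1467, .fwd 1468, .fwd 1469, .fwd 1470, .fwd 1471, .fwd 1472, .fwd 1473],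
   .loop (some (19, 6)) [.fwd 1430, .fwd 1431, .fwd 305, .bwd 341, .bwd 120, .bwd 305, .bwd 1431, .bwd 1430, .bwd 1429],
   .loop none [.bwd 1475],
   .loop none [.bwd 1430, .bwd 1476],
   .loop none [.fwd 1429, .bwd 1476],
   .define,
   .define,
   .define,
   .define,
   .define,
   .define,
   .define,
   .define,
   .define,
   .define,
   .define,
   .define,
   .define,
   .define,
   .define,
   .define,
   .define,
   .define,
   .define,
   .define,
   .define]

theorem just5_len : just5.length = 250 := by decide +kernel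

theorem just5_ok : cert.okFacts 1250 just5 = true := by decide +kernel

/-- justifications -/
noncomputable def just6 : List Cert.Just :=
  [.define,
   .define,
   .define,
   .define,
   .define,
   .define,
   .define,
   .define,
   .define,
   .define,
   .define,
   .loop (some (24, 35)) [.fwd 1478, .fwd 1477, .fwd 1431, .fwd 305, .fwd 341, .bwd 120, .fwd 283, .fwd 288, .fwd 1479, .fwd 1480, .fwd 1481, .fwd 1482, .fwd 1483, .fwd 1484, .fwd 1485, .fwd 1486, .fwd 1487, .fwd 1488, .fwd 1489, .fwd 1490, .fwd 1491, .fwd 1492, .fwd 1493, .fwd 1494, .fwd 1495, .fwd 1496, .fwd 1497, .fwd 1498, .fwd 1499, .fwd 1500, .fwd 1501, .fwd 1502, .fwd 1503, .fwd 1504, .fwd 1505, .fwd 1506, .fwd 1507, .fwd 1508, .fwd 1509, .fwd 1510],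
   .define,
   .loop (some (17, 3)) [.fwd 1454, .bwd 288, .bwd 283, .bwd 935, .bwd 934, .fwd 1512],
   .loop (some (15, 2)) [.fwd 934, .fwd 935, .bwd 377, .bwd 935],
   .define,
   .define,
   .define,
   .define,
   .define,
   .loop (some (20, 7)) [.fwd 472, .bwd 297, .bwd 326, .fwd 1515, .fwd 1516, .fwd 1517, .fwd 1518, .fwd 1519],
   .define,
   .define,
   .loop (some (5, 1)) [.fwd 326, .bwd 69, .fwd 1522],
   .define,
   .define,
   .loop (some (18, 5)) [.fwd 935, .fwd 68, .bwd 1459, .fwd 406, .fwd 383, .fwd 1524, .fwd 1525],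
   .define,
   .define,
   .define,
   .define,
   .loop (some (20, 6)) [.bwd 1521, .fwd 326, .fwd 297, .bwd 472, .fwd 1527, .fwd 1528, .fwd 1529, .fwd 1530],
   .define,
   .loop (some (5, 1)) [.fwd 472, .fwd 69, .fwd 1532],
   .loop (some (3, 1)) [.fwd 326, .fwd 339, .bwd 326],
   .loop (some (11, 1)) [.fwd 462, .fwd 339, .bwd 462],
   .loop (some (18, 3)) [.bwd 720, .fwd 142, .bwd 296, .bwd 70, .bwd 339, .bwd 381, .bwd 390],
   .define,
   .define,
   .define,
   .define,
   .define,
   .define,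
   .define,
   .loop (some (23, 12)) [.fwd 1263, .bwd 1382, .bwd 1402, .fwd 302, .fwd 462, .bwd 339, .bwd 381, .bwd 390, .fwd 1536, .fwd 721, .fwd 1537, .fwd 1538, .fwd 1539, .fwd 1540, .fwd 1541, .fwd 1542, .fwd 1543],
   .define,
   .define,
   .define,
   .define,
   .define,
   .define,
   .define,
   .define,
   .define,
   .define,
   .define,
   .define,
   .define,
   .define,
   .define,
   .define,
   .define,
   .define,
   .define,
   .define,
   .define,
   .define,
   .define,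
   .define,
   .define,
   .define,
   .define,
   .define,
   .define,
   .define,
   .define,
   .loop (some (24, 34)) [.bwd 1532, .bwd 69, .fwd 406, .bwd 7, .fwd 381, .fwd 339, .bwd 69, .bwd 472, .bwd 1520, .fwd 1545, .fwd 1546, .fwd 1547, .fwd 1548, .fwd 1549, .fwd 1550, .fwd 1551, .fwd 1552, .fwd 1553, .fwd 1554, .fwd 1555, .fwd 1556, .fwd 1557, .fwd 1558, .fwd 1559, .fwd 1560, .fwd 1561, .fwd 1562, .fwd 1563, .fwd 1564, .fwd 1565, .fwd 1566, .fwd 1567, .fwd 1568, .fwd 1569, .fwd 1570, .fwd 1571, .fwd 1572, .fwd 1573, .fwd 1574, .fwd 1575],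
   .define,
   .define,
   .loop (some (17, 3)) [.fwd 1531, .bwd 1521, .fwd 326, .fwd 1532, .fwd 1577, .fwd 1578],
   .loop (some (15, 2)) [.bwd 1577, .bwd 1532, .bwd 303, .fwd 1532],
   .define,
   .define,
   .loop (some (20, 4)) [.bwd 888, .fwd 812, .bwd 1406, .fwd 302, .fwd 304, .bwd 1458, .fwd 1581, .fwd 1582],
   .define,
   .define,
   .define,
   .define,
   .loop (some (22, 6)) [.bwd 89, .bwd 88, .fwd 865, .bwd 1406, .fwd 302, .fwd 304, .bwd 1458, .fwd 1584, .fwd 1585, .fwd 1586, .fwd 1587],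
   .define,
   .loop (some (5, 2)) [.bwd 84, .bwd 372, .fwd 1589],
   .loop (some (3, 1)) [.fwd 302, .fwd 1535, .bwd 302],
   .loop (some (18, 5)) [.bwd 1532, .bwd 462, .bwd 1535, .bwd 83, .bwd 66, .bwd 1365, .fwd 350],
   .loop (some (8, 2)) [.bwd 84, .bwd 298, .fwd 84],
   .define,
   .define,
   .define,
   .define,
   .define,
   .define,
   .define,
   .define,
   .define,
   .define,
   .define,
   .define,
   .define,
   .define,
   .define,
   .define,
   .define,
   .define,
   .define,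
   .define,
   .define,
   .define,
   .define,
   .define,
   .define,
   .define,
   .define,
   .define,
   .define,
   .define,
   .define,
   .define,
   .define,
   .loop (some (24, 32)) [.fwd 573, .bwd 530, .bwd 296, .bwd 5, .fwd 40, .fwd 5, .fwd 83, .fwd 1535, .fwd 84, .bwd 1590, .fwd 1597, .fwd 1598, .fwd 1599, .fwd 1600, .fwd 1601, .fwd 1602, .fwd 1603, .fwd 1604, .fwd 1605, .fwd 1606, .fwd 1607, .fwd 1608, .fwd 1609, .fwd 1610, .fwd 1611, .fwd 1612, .fwd 1613, .fwd 1614, .fwd 1615, .fwd 1616, .fwd 1617, .fwd 1618, .fwd 1619, .fwd 1620, .fwd 1621, .fwd 1622, .fwd 1623, .fwd 1624, .fwd 1625, .fwd 1626],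
   .define,
   .loop (some (16, 3)) [.fwd 1431, .bwd 304, .fwd 84, .fwd 234, .fwd 1628],
   .loop (some (17, 1)) [.bwd 1225, .fwd 950, .fwd 886, .fwd 812, .bwd 1406, .fwd 302, .bwd 372],
   .loop none [.bwd 1630],
   .loop none [.fwd 1225, .bwd 1631],
   .loop none [.bwd 1226, .bwd 1631],
   .loop (some (15, 2)) [.bwd 1632, .fwd 372, .bwd 298, .bwd 372],
   .define,
   .define,
   .define,
   .define,
   .define,
   .loop (some (20, 6)) [.bwd 1597, .fwd 1590, .fwd 234, .fwd 1635, .fwd 1636, .fwd 1637, .fwd 1638, .fwd 1639],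
   .define,
   .define,
   .define,
   .define,
   .define,
   .define,
   .define,
   .loop (some (22, 9)) [.bwd 1597, .fwd 1590, .fwd 234, .fwd 1635, .fwd 1641, .fwd 1642, .fwd 1643, .fwd 1644, .fwd 1645, .fwd 1646, .fwd 1647],
   .loop (some (5, 1)) [.bwd 161, .fwd 302, .fwd 84, .bwd 119],
   .loop none [.bwd 1649],
   .loop none [.fwd 161, .bwd 1650],
   .loop none [.fwd 195, .bwd 1650],
   .define,
   .define,
   .loop (some (3, 3)) [.bwd 1590, .fwd 1653, .fwd 1654],
   .loop (some (4, 1)) [.fwd 1590, .fwd 85, .bwd 1590],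
   .define,
   .define,
   .define,
   .define,
   .define,
   .loop (some (19, 1)) [.bwd 84, .bwd 83, .bwd 5, .fwd 40, .fwd 5, .fwd 83, .fwd 84, .fwd 85, .bwd 1655],
   .loop none [.fwd 1662],
   .loop none [.fwd 85, .fwd 1663, .fwd 1657],
   .loop none [.fwd 1664],
   .loop none [.fwd 1590, .fwd 1663, .bwd 1654],
   .loop none [.fwd 1666],
   .loop none [.fwd 1590, .fwd 1665, .fwd 1658],
   .loop none [.fwd 1668],
   .loop none [.fwd 1653, .bwd 1667],
   .loop none [.bwd 1659, .bwd 1669],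
   .define,
   .define,
   .define,
   .define,
   .define,
   .loop (some (17, 3)) [.fwd 1640, .bwd 1597, .fwd 1590, .bwd 119, .fwd 1652, .fwd 1676],
   .loop (some (9, 2)) [.bwd 234, .bwd 1593, .fwd 234],
   .loop (some (15, 2)) [.bwd 1652, .fwd 119, .bwd 1593, .bwd 119],
   .define,
   .define,
   .define,
   .define,
   .define,
   .loop (some (20, 6)) [.bwd 316, .fwd 1452, .bwd 757, .fwd 1680, .fwd 1681, .fwd 1682, .fwd 1683, .fwd 1684],
   .define,
   .define,
   .define,
   .define,
   .define,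
   .loop (some (22, 7)) [.bwd 318, .bwd 317, .bwd 316, .fwd 1452, .bwd 757, .fwd 1680, .fwd 1686, .fwd 1687, .fwd 1688, .fwd 1689, .fwd 1690],
   .define,
   .loop (some (5, 2)) [.bwd 880, .fwd 88, .fwd 1692],
   .loop (some (13, 2)) [.fwd 757, .bwd 133, .fwd 217],
   .loop (some (7, 0)) [.bwd 1012, .fwd 986, .fwd 951, .bwd 864],
   .loop none [.bwd 1695],
   .loop none [.fwd 1440, .bwd 1696],
   .loop none [.fwd 1012, .bwd 1696],
   .define,
   .define,
   .loop (some (3, 3)) [.bwd 1452, .fwd 1699, .fwd 1700],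
   .loop (some (4, 1)) [.fwd 834, .bwd 864, .bwd 1452],
   .loop (some (2, 2)) [.fwd 757, .fwd 864, .fwd 804],
   .loop (some (11, 4)) [.bwd 133, .bwd 837, .fwd 133, .bwd 1701],
   .loop none [.fwd 1704],
   .loop none [.bwd 1701, .bwd 1705],
   .loop (some (18, 3)) [.bwd 1594, .bwd 1382, .bwd 1402, .fwd 1406, .bwd 865, .bwd 1706, .fwd 864, .bwd 834],
   .loop none [.bwd 1707],
   .loop none [.bwd 1595, .bwd 1708],
   .loop none [.fwd 1594, .bwd 1708],
   .loop (some (8, 2)) [.bwd 880, .fwd 1698, .bwd 1004],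
   .define,
   .define,
   .define,
   .define,
   .define,
   .define,
   .define,
   .define,
   .loop (some (23, 13)) [.bwd 164, .bwd 163, .bwd 28, .fwd 133, .bwd 1706, .fwd 864, .bwd 834, .fwd 1710, .fwd 1300, .fwd 1712, .fwd 1713, .fwd 1714, .fwd 1715, .fwd 1716, .fwd 1717, .fwd 1718, .fwd 1719],
   .define,
   .define,
   .define,
   .define,
   .loop (some (19, 6)) [.fwd 808, .bwd 864, .bwd 1706, .fwd 880, .fwd 1721, .fwd 1722, .fwd 1723, .fwd 1724],
   .define,
   .define,
   .define,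
   .define,
   .define,
   .define,
   .define,
   .define,
   .define,
   .define,
   .define,
   .define,
   .define,
   .define,
   .define,
   .define,
   .define,
   .define,
   .define,
   .define,
   .define,
   .define,
   .define,
   .define]

theorem just6_len : just6.length = 250 := by decide +kernel

theorem just6_ok : cert.okFacts 1500 just6 = true := by decide +kernel

/-- justifications -/
noncomputable def just7 : List Cert.Just :=
  [.define,
   .define,
   .define,
   .define,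
   .define,
   .define,
   .define,
   .define,
   .define,
   .loop (some (24, 35)) [.fwd 1724, .fwd 1725, .fwd 808, .bwd 864, .fwd 1706, .fwd 880, .bwd 1693, .fwd 1726, .fwd 1727, .fwd 1728, .fwd 1729, .fwd 1730, .fwd 1731, .fwd 1732, .fwd 1733, .fwd 1734, .fwd 1735, .fwd 1736, .fwd 1737, .fwd 1738, .fwd 1739, .fwd 1740, .fwd 1741, .fwd 1742, .fwd 1743, .fwd 1744, .fwd 1745, .fwd 1746, .fwd 1747, .fwd 1748, .fwd 1749, .fwd 1750, .fwd 1751, .fwd 1752, .fwd 1753, .fwd 1754, .fwd 1755, .fwd 1756, .fwd 1757, .fwd 1758],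
   .define,
   .loop (some (17, 3)) [.fwd 1685, .bwd 316, .fwd 1452, .fwd 88, .fwd 89, .fwd 1760],
   .loop (some (12, 3)) [.bwd 864, .bwd 133, .fwd 231, .fwd 1672],
   .loop none [.fwd 1762],
   .loop none [.fwd 294, .fwd 1763, .fwd 1673],
   .loop none [.fwd 1764],
   .loop none [.fwd 1672, .bwd 1763],
   .loop none [.fwd 293, .fwd 1765, .fwd 1674],
   .loop none [.fwd 1767],
   .loop none [.bwd 1675, .bwd 1768],
   .loop (some (15, 3)) [.bwd 89, .bwd 88, .fwd 1698, .fwd 31, .fwd 1114],
   .loop none [.fwd 1770],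
   .loop none [.bwd 1115, .bwd 1771],
   .loop none [.fwd 1114, .bwd 1771],
   .define,
   .define,
   .define,
   .define,
   .define,
   .loop (some (20, 5)) [.bwd 316, .fwd 1452, .fwd 88, .fwd 1774, .fwd 1775, .fwd 1776, .fwd 1777, .fwd 1778],
   .define,
   .define,
   .define,
   .define,
   .define,
   .loop (some (22, 7)) [.bwd 1446, .fwd 315, .fwd 1452, .fwd 88, .fwd 1774, .fwd 1775, .fwd 1780, .fwd 1781, .fwd 1782, .fwd 1783, .fwd 1784],
   .loop (some (5, 2)) [.bwd 1726, .bwd 1692, .fwd 89, .fwd 90],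
   .loop none [.bwd 1786],
   .loop none [.fwd 1726, .bwd 1787],
   .loop none [.bwd 1727, .bwd 1787],
   .define,
   .define,
   .define,
   .define,
   .define,
   .define,
   .loop (some (7, 3)) [.fwd 1793, .fwd 1794, .fwd 1795],
   .define,
   .loop (some (0, 1)) [.bwd 1793, .fwd 1797],
   .loop (some (3, 3)) [.bwd 88, .bwd 1706, .fwd 88],
   .loop (some (4, 3)) [.fwd 1796, .bwd 88, .fwd 864, .bwd 294],
   .loop none [.bwd 1800],
   .loop none [.bwd 1796, .bwd 1801],
   .loop none [.fwd 1795, .bwd 1801],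
   .define,
   .loop (some (14, 2)) [.bwd 1793, .fwd 1790, .fwd 1804],
   .define,
   .loop (some (2, 2)) [.bwd 1774, .bwd 1802, .fwd 1806],
   .loop (some (11, 1)) [.bwd 1790, .fwd 1799, .fwd 1790],
   .define,
   .loop (some (8, 2)) [.bwd 1692, .fwd 1793, .fwd 1809],
   .define,
   .define,
   .define,
   .define,
   .define,
   .define,
   .define,
   .define,
   .define,
   .define,
   .define,
   .loop (some (19, 7)) [.fwd 1802, .bwd 1799, .fwd 1692, .fwd 1817, .fwd 1818, .fwd 1819, .fwd 1820, .fwd 1821],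
   .loop (some (1, 2)) [.bwd 1774, .bwd 1799, .fwd 1774],
   .define,
   .define,
   .define,
   .define,
   .define,
   .define,
   .define,
   .define,
   .define,
   .define,
   .define,
   .define,
   .define,
   .define,
   .define,
   .loop (some (16, 4)) [.bwd 1774, .fwd 1692, .fwd 1791, .fwd 1837, .fwd 1838],
   .define,
   .loop (some (12, 2)) [.fwd 1802, .fwd 1790, .fwd 1840],
   .define,
   .loop (some (9, 2)) [.bwd 1774, .fwd 1793, .fwd 1842],
   .define,
   .loop (some (15, 2)) [.bwd 1760, .bwd 89, .fwd 1793, .fwd 1844],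
   .loop (some (6, 1)) [.bwd 1793, .fwd 1799, .fwd 1793],
   .loop (some (10, 1)) [.fwd 1841, .fwd 1802, .fwd 1799, .bwd 821],
   .loop none [.bwd 1847],
   .loop none [.fwd 1840, .bwd 1848],
   .loop none [.bwd 1841, .bwd 1848],
   .define,
   .define,
   .define,
   .loop (some (20, 5)) [.fwd 1452, .fwd 88, .fwd 89, .bwd 1588, .bwd 1587, .fwd 1851, .fwd 1852, .fwd 1853],
   .loop (some (22, 3)) [.bwd 1479, .bwd 288, .bwd 283, .bwd 67, .bwd 66, .bwd 132, .fwd 133, .fwd 88, .fwd 89, .bwd 1588, .bwd 1587, .bwd 1586],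
   .loop none [.fwd 1855],
   .loop none [.bwd 1480, .fwd 1856, .fwd 1586],
   .loop none [.fwd 1857],
   .loop none [.fwd 1585, .bwd 1856],
   .loop none [.bwd 1851, .bwd 1858],
   .loop none [.bwd 1481, .fwd 1858, .fwd 1587],
   .loop none [.fwd 1861],
   .loop none [.bwd 1588, .bwd 1862],
   .loop (some (5, 1)) [.bwd 91, .bwd 90, .fwd 1760],
   .define,
   .define,
   .loop (some (13, 2)) [.fwd 1863, .fwd 1865, .fwd 1866],
   .define,
   .define,
   .define,
   .define,
   .define,
   .define,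
   .define,
   .loop (some (21, 8)) [.bwd 1865, .fwd 90, .fwd 1868, .fwd 1869, .fwd 1870, .fwd 1871, .fwd 1872, .fwd 1873, .fwd 1874],
   .loop (some (7, 3)) [.fwd 1773, .bwd 1119, .fwd 1310],
   .loop (some (3, 3)) [.bwd 89, .bwd 1799, .fwd 89],
   .loop (some (4, 3)) [.fwd 1876, .bwd 89, .bwd 1802, .bwd 293],
   .loop none [.bwd 1878],
   .loop none [.bwd 1876, .bwd 1879],
   .loop none [.fwd 1310, .bwd 1879],
   .loop (some (14, 1)) [.bwd 1106, .bwd 1773, .fwd 1865],
   .loop (some (2, 2)) [.fwd 1863, .bwd 1880, .bwd 292],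
   .loop (some (11, 1)) [.bwd 1865, .fwd 1877, .fwd 1865],
   .loop (some (18, 6)) [.bwd 1321, .bwd 1877, .bwd 1880, .fwd 293, .bwd 1850, .fwd 1410, .fwd 1411],
   .loop (some (8, 2)) [.bwd 90, .fwd 1773, .fwd 1002],
   .loop (some (23, 18)) [.bwd 1877, .bwd 1880, .fwd 293, .bwd 1850, .bwd 926, .fwd 927, .bwd 886, .bwd 990, .fwd 31, .bwd 994, .fwd 895, .fwd 896, .fwd 897, .fwd 898, .fwd 899, .fwd 900, .fwd 901, .fwd 902],
   .loop none [.fwd 1887],
   .loop none [.fwd 89, .fwd 1888, .fwd 903],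
   .loop none [.fwd 1889],
   .loop none [.bwd 1865, .fwd 1888, .bwd 902],
   .loop none [.bwd 1891],
   .loop none [.bwd 1790, .fwd 1890, .fwd 904],
   .loop none [.bwd 1893],
   .loop none [.fwd 1892, .fwd 1884, .bwd 1892],
   .loop none [.fwd 1875, .bwd 1892],
   .loop none [.bwd 1866, .bwd 1892],
   .loop none [.bwd 1882, .bwd 1892],
   .loop none [.fwd 1865, .bwd 1892],
   .loop none [.fwd 1894, .fwd 1808, .bwd 1894],
   .loop none [.fwd 1849, .bwd 1894],
   .loop none [.bwd 1804, .bwd 1894],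
   .loop none [.fwd 1790, .bwd 1894],
   .define,
   .define,
   .define,
   .define,
   .loop (some (19, 6)) [.bwd 1769, .fwd 1880, .bwd 1877, .fwd 90, .fwd 1904, .fwd 1905, .fwd 1906, .fwd 1907],
   .loop (some (1, 2)) [.fwd 1863, .bwd 1877, .bwd 1863],
   .define,
   .define,
   .define,
   .define,
   .define,
   .define,
   .define,
   .define,
   .define,
   .define,
   .define,
   .define,
   .define,
   .define,
   .define,
   .define,
   .define,
   .define,
   .define,
   .loop (some (24, 35)) [.fwd 1907, .fwd 1908, .bwd 1769, .fwd 1880, .fwd 1877, .fwd 90, .fwd 91, .fwd 92, .fwd 93, .fwd 94, .fwd 95, .fwd 96, .fwd 97, .fwd 98, .fwd 99, .fwd 100, .fwd 101, .fwd 102, .fwd 103, .fwd 104, .fwd 105, .fwd 1910, .fwd 1911, .fwd 1912, .fwd 1913, .fwd 1914, .fwd 1915, .fwd 1916, .fwd 1917, .fwd 1918, .fwd 1919, .fwd 1920, .fwd 1921, .fwd 1922, .fwd 1923, .fwd 1924, .fwd 1925, .fwd 1926, .fwd 1927, .fwd 1928],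
   .define,
   .define,
   .loop (some (12, 2)) [.fwd 1880, .bwd 1899, .fwd 1931],
   .loop (some (9, 2)) [.fwd 1863, .fwd 1773, .fwd 1090],
   .loop (some (15, 3)) [.bwd 1761, .bwd 1760, .fwd 1773, .fwd 32, .fwd 1214],
   .loop none [.bwd 1934],
   .loop none [.fwd 1684, .bwd 1935],
   .loop none [.bwd 1685, .bwd 1935],
   .loop none [.fwd 1761, .bwd 1935],
   .loop (some (10, 1)) [.fwd 1932, .fwd 1880, .fwd 1877, .fwd 1321],
   .loop none [.bwd 1939],
   .loop none [.fwd 1931, .bwd 1940],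
   .loop none [.bwd 1932, .bwd 1940],
   .define,
   .define,
   .define,
   .define,
   .define,
   .loop (some (20, 6)) [.bwd 92, .bwd 91, .fwd 1868, .fwd 1943, .fwd 1944, .fwd 1945, .fwd 1946, .fwd 1947],
   .define,
   .define,
   .define,
   .define,
   .define,
   .define,
   .define,
   .loop (some (22, 9)) [.bwd 92, .bwd 91, .fwd 1868, .fwd 1943, .fwd 1949, .fwd 1950, .fwd 1951, .fwd 1952, .fwd 1953, .fwd 1954, .fwd 1955],
   .define,
   .define,
   .define,
   .define,
   .define,
   .define,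
   .loop (some (21, 8)) [.bwd 1957, .bwd 90, .bwd 1863, .bwd 1867, .fwd 1958, .fwd 1959, .fwd 1960, .fwd 1961, .fwd 1962],
   .loop (some (7, 2)) [.bwd 1904, .bwd 1886, .fwd 1138],
   .loop (some (0, 0)) [.fwd 1126, .fwd 1886],
   .define,
   .define,
   .loop (some (3, 3)) [.fwd 91, .fwd 1966, .fwd 1967],
   .define,
   .loop (some (4, 2)) [.bwd 1904, .fwd 91, .fwd 1969],
   .define,
   .define,
   .define,
   .define,
   .loop (some (18, 5)) [.bwd 1728, .bwd 1789, .bwd 1968, .fwd 1971, .fwd 1972, .fwd 1973, .fwd 1974],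
   .define,
   .define,
   .loop (some (19, 1)) [.bwd 90, .bwd 1880, .fwd 1769, .bwd 1908, .bwd 1907, .bwd 1906, .bwd 1905, .bwd 1904, .bwd 1968],
   .loop none [.fwd 1978],
   .loop none [.bwd 1968, .bwd 1979],
   .loop none [.bwd 1904, .fwd 1979, .fwd 1971],
   .loop none [.fwd 1981],
   .loop none [.bwd 91, .fwd 1979, .bwd 1967],
   .loop none [.fwd 1983],
   .loop none [.fwd 1970, .fwd 1982, .fwd 1972],
   .loop none [.fwd 1985],
   .loop none [.fwd 1966, .bwd 1984],
   .loop none [.bwd 1973, .bwd 1986],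
   .define,
   .loop (some (17, 3)) [.fwd 1948, .bwd 92, .bwd 91, .fwd 1788, .fwd 1693, .fwd 1989],
   .define,
   .loop (some (12, 2)) [.bwd 1904, .fwd 1957, .fwd 1991],
   .loop (some (10, 1)) [.fwd 1992, .bwd 1904, .fwd 1980, .fwd 1789],
   .loop none [.bwd 1993],
   .loop none [.bwd 1992, .bwd 1994],
   .define,
   .define,
   .define,
   .define]

theorem just7_len : just7.length = 250 := by decide +kernel

theorem just7_ok : cert.okFacts 1750 just7 = true := by decide +kernel

/-- justifications -/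
noncomputable def just8 : List Cert.Just :=
  [.define,
   .loop (some (20, 5)) [.fwd 1990, .fwd 1948, .bwd 92, .fwd 1996, .fwd 1997, .fwd 1998, .fwd 1999, .fwd 2000],
   .define,
   .define,
   .define,
   .define,
   .define,
   .define,
   .define,
   .loop (some (22, 9)) [.fwd 1948, .bwd 92, .fwd 1996, .fwd 1997, .fwd 2002, .fwd 2003, .fwd 2004, .fwd 2005, .fwd 2006, .fwd 2007, .fwd 2008],
   .define,
   .define,
   .loop (some (13, 2)) [.bwd 1996, .fwd 2010, .fwd 2011],
   .define,
   .define,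
   .define,
   .define,
   .define,
   .define,
   .define,
   .loop (some (21, 8)) [.bwd 2010, .bwd 1864, .fwd 2013, .fwd 2014, .fwd 2015, .fwd 2016, .fwd 2017, .fwd 2018, .fwd 2019],
   .define,
   .define,
   .loop (some (7, 2)) [.bwd 1969, .fwd 2021, .fwd 2022],
   .define,
   .loop (some (0, 1)) [.bwd 2021, .fwd 2024],
   .loop (some (3, 1)) [.bwd 92, .fwd 1987, .fwd 92],
   .define,
   .loop (some (4, 2)) [.bwd 1969, .fwd 92, .fwd 2027],
   .define,
   .loop (some (14, 2)) [.bwd 2021, .fwd 2010, .fwd 2029],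
   .loop (some (11, 1)) [.bwd 2010, .fwd 1987, .fwd 2010],
   .define,
   .define,
   .loop (some (18, 5)) [.bwd 1825, .bwd 1824, .bwd 1987, .fwd 1969, .bwd 2028, .fwd 2032, .fwd 2033],
   .loop (some (8, 1)) [.fwd 1845, .fwd 1864, .fwd 2021],
   .define,
   .define,
   .define,
   .define,
   .define,
   .define,
   .define,
   .define,
   .define,
   .define,
   .define,
   .define,
   .loop (some (23, 16)) [.bwd 2010, .bwd 1987, .fwd 1969, .bwd 2028, .fwd 2032, .fwd 2036, .fwd 2037, .fwd 2038, .fwd 2039, .fwd 2040, .fwd 2041, .fwd 2042, .fwd 2043, .fwd 2044, .fwd 2045, .fwd 2046, .fwd 2047],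
   .define,
   .define,
   .define,
   .define,
   .define,
   .loop (some (19, 7)) [.bwd 1969, .bwd 1987, .bwd 1864, .fwd 2049, .fwd 2050, .fwd 2051, .fwd 2052, .fwd 2053],
   .define,
   .define,
   .define,
   .define,
   .define,
   .define,
   .define,
   .define,
   .define,
   .define,
   .define,
   .define,
   .define,
   .define,
   .define,
   .define,
   .define,
   .define,
   .define,
   .define,
   .define,
   .define,
   .define,
   .define,
   .define,
   .define,
   .define,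
   .define,
   .define,
   .loop (some (24, 35)) [.fwd 2052, .fwd 2053, .fwd 2054, .bwd 1969, .fwd 1987, .bwd 1864, .bwd 1760, .bwd 89, .bwd 821, .bwd 926, .fwd 164, .fwd 2055, .fwd 2056, .fwd 2057, .fwd 2058, .fwd 2059, .fwd 2060, .fwd 2061, .fwd 2062, .fwd 2063, .fwd 2064, .fwd 2065, .fwd 2066, .fwd 2067, .fwd 2068, .fwd 2069, .fwd 2070, .fwd 2071, .fwd 2072, .fwd 2073, .fwd 2074, .fwd 2075, .fwd 2076, .fwd 2077, .fwd 2078, .fwd 2079, .fwd 2080, .fwd 2081, .fwd 2082, .fwd 2083],
   .define,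
   .define,
   .loop (some (16, 4)) [.bwd 1996, .bwd 1864, .fwd 2013, .fwd 2085, .fwd 2086],
   .loop (some (12, 1)) [.bwd 1988, .bwd 1969, .fwd 2010],
   .define,
   .loop (some (9, 2)) [.bwd 1996, .fwd 2021, .fwd 2089],
   .loop (some (15, 1)) [.fwd 1810, .bwd 1788, .fwd 91, .fwd 2021],
   .loop (some (10, 1)) [.bwd 1988, .bwd 1969, .fwd 1987, .fwd 1824],
   .loop none [.bwd 2092],
   .loop none [.fwd 2088, .bwd 2093],
   .loop none [.bwd 1825, .fwd 2093, .fwd 1976],
   .loop none [.fwd 2095],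
   .loop none [.bwd 1974, .bwd 2093],
   .loop none [.fwd 1988, .bwd 2093],
   .loop none [.fwd 2034, .fwd 2096, .fwd 1977],
   .loop none [.bwd 2099],
   .loop none [.fwd 2033, .bwd 2100],
   .loop none [.bwd 2034, .bwd 2100],
   .define,
   .define,
   .define,
   .define,
   .loop (some (20, 4)) [.bwd 881, .fwd 1989, .fwd 1990, .fwd 1948, .fwd 2103, .fwd 2104, .fwd 2105, .fwd 2106],
   .loop (some (5, 3)) [.bwd 92, .bwd 1864, .bwd 1938],
   .define,
   .loop (some (13, 2)) [.bwd 2103, .bwd 1956, .fwd 2109],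
   .define,
   .define,
   .define,
   .define,
   .define,
   .define,
   .loop (some (21, 8)) [.fwd 1956, .bwd 2108, .fwd 1936, .fwd 2111, .fwd 2112, .fwd 2113, .fwd 2114, .fwd 2115, .fwd 2116],
   .define,
   .define,
   .loop (some (7, 2)) [.bwd 2027, .fwd 2118, .fwd 2119],
   .define,
   .loop (some (0, 1)) [.bwd 2118, .fwd 2121],
   .loop (some (3, 1)) [.fwd 1948, .fwd 2026, .bwd 1948],
   .define,
   .loop (some (4, 2)) [.bwd 2027, .bwd 1948, .fwd 2124],
   .define,
   .loop (some (14, 2)) [.bwd 2118, .bwd 1956, .fwd 2126],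
   .define,
   .define,
   .loop (some (18, 5)) [.bwd 94, .bwd 93, .bwd 2026, .fwd 2027, .bwd 2125, .fwd 2128, .fwd 2129],
   .loop (some (8, 1)) [.bwd 33, .fwd 1214, .fwd 2108, .fwd 2118],
   .loop none [.fwd 2131],
   .loop none [.bwd 1219, .fwd 2132, .fwd 2119],
   .loop none [.fwd 2133],
   .loop none [.bwd 1220, .fwd 2132, .bwd 2122],
   .loop none [.fwd 2135],
   .loop none [.fwd 1245, .fwd 2132, .bwd 2127],
   .loop none [.fwd 2137],
   .loop none [.bwd 1214, .fwd 2134, .fwd 2120],
   .loop none [.fwd 2139],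
   .loop none [.fwd 2121, .bwd 2136],
   .loop none [.fwd 2126, .bwd 2138],
   .loop none [.fwd 2027, .bwd 2140],
   .loop none [.bwd 1937, .fwd 2140, .fwd 2028],
   .loop none [.fwd 2144],
   .loop none [.bwd 1938, .fwd 2140, .bwd 2125],
   .loop none [.fwd 2146],
   .loop none [.bwd 2032, .bwd 2140],
   .loop none [.fwd 1969, .bwd 2145],
   .loop none [.fwd 316, .fwd 2145, .fwd 1970],
   .loop none [.fwd 2150],
   .loop none [.fwd 2023, .bwd 2145],
   .loop none [.bwd 317, .fwd 2145, .bwd 2098],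
   .loop none [.fwd 2153],
   .loop none [.bwd 2049, .fwd 2147, .bwd 2124],
   .loop none [.bwd 2155],
   .loop none [.bwd 2128, .bwd 2147],
   .loop none [.bwd 1702, .fwd 2151, .bwd 1904],
   .loop none [.bwd 2158],
   .loop none [.bwd 1905, .bwd 2151],
   .loop none [.fwd 1964, .bwd 2151],
   .loop none [.fwd 315, .fwd 2151, .bwd 1995],
   .loop none [.fwd 2162],
   .loop none [.bwd 2094, .bwd 2154],
   .loop none [.bwd 318, .fwd 2154, .fwd 1825],
   .loop none [.fwd 2165],
   .loop none [.bwd 2097, .bwd 2154],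
   .loop none [.fwd 1824, .bwd 2154],
   .loop none [.fwd 2049, .bwd 2156],
   .loop none [.bwd 2050, .bwd 2156],
   .loop none [.fwd 1702, .bwd 2159],
   .loop none [.bwd 1788, .fwd 2159, .fwd 834],
   .loop none [.bwd 2172],
   .loop none [.bwd 91, .fwd 2159, .fwd 1709],
   .loop none [.fwd 2174],
   .loop none [.fwd 2163, .bwd 1789, .fwd 2159, .bwd 833],
   .loop none [.fwd 2176],
   .loop none [.bwd 1957, .fwd 2159, .fwd 1710],
   .loop none [.bwd 2178],
   .loop none [.bwd 1446, .fwd 2163, .fwd 1728],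
   .loop none [.fwd 2180],
   .loop none [.bwd 1451, .fwd 2163, .bwd 1789],
   .loop none [.bwd 2182],
   .loop none [.fwd 1691, .fwd 2166, .fwd 1826],
   .loop none [.fwd 2184],
   .loop none [.bwd 319, .fwd 2166, .bwd 2102],
   .loop none [.fwd 2186],
   .loop none [.fwd 808, .fwd 2173, .bwd 1692],
   .loop none [.bwd 2188],
   .loop none [.bwd 804, .fwd 2173, .fwd 1791],
   .loop none [.fwd 2190],
   .loop none [.fwd 294, .fwd 2173, .fwd 1693],
   .loop none [.fwd 2192],
   .loop none [.fwd 1788, .bwd 2173],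
   .loop none [.fwd 951, .fwd 2173, .bwd 1810],
   .loop none [.fwd 2195],
   .loop none [.bwd 2010, .fwd 2175, .fwd 1596],
   .loop none [.bwd 2197],
   .loop none [.bwd 1446, .fwd 2177, .bwd 832],
   .loop none [.fwd 2199],
   .loop none [.fwd 1444, .fwd 2179, .bwd 1963],
   .loop none [.fwd 2201],
   .loop none [.fwd 1957, .bwd 2179],
   .loop none [.fwd 1785, .fwd 2181, .fwd 1729],
   .loop none [.bwd 2204],
   .loop none [.fwd 1398, .fwd 2181, .bwd 1975],
   .loop none [.fwd 2206],
   .loop none [.bwd 91, .fwd 2183, .bwd 422],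
   .loop none [.fwd 2208],
   .loop none [.fwd 1886, .fwd 2183, .bwd 1307],
   .loop none [.fwd 2210],
   .loop none [.fwd 1451, .bwd 2183],
   .loop none [.bwd 1827, .bwd 2185],
   .loop none [.bwd 2101, .bwd 2187],
   .loop none [.fwd 1802, .fwd 2189, .bwd 1725],
   .loop none [.fwd 2215],
   .loop none [.bwd 808, .bwd 2189],
   .loop none [.fwd 821, .fwd 2189, .bwd 807],
   .loop none [.bwd 2218],
   .loop none [.bwd 219, .fwd 2191, .fwd 1837],
   .loop none [.fwd 2220],
   .loop none [.bwd 1792, .bwd 2191],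
   .loop none [.fwd 1822, .fwd 2193, .bwd 880],
   .loop none [.bwd 2223],
   .loop none [.bwd 1806, .fwd 2193, .fwd 881],
   .loop none [.bwd 2225],
   .loop none [.fwd 293, .fwd 2193, .fwd 1989],
   .loop none [.fwd 2227],
   .loop none [.bwd 1803, .fwd 2193, .bwd 1711],
   .loop none [.bwd 2229],
   .loop none [.fwd 948, .fwd 2196, .bwd 1809],
   .loop none [.fwd 2231],
   .loop none [.fwd 969, .fwd 2196, .bwd 2091],
   .loop none [.fwd 2233],
   .loop none [.fwd 2198, .fwd 2031, .bwd 2198],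
   .loop none [.fwd 2164, .bwd 2198],
   .loop none [.fwd 2020, .bwd 2198],
   .loop none [.bwd 2011, .bwd 2198],
   .loop none [.fwd 2048, .bwd 2198],
   .loop none [.bwd 2029, .bwd 2198],
   .loop none [.fwd 2010, .bwd 2198],
   .loop none [.fwd 831, .bwd 2200],
   .loop none [.bwd 315, .fwd 2202, .bwd 1962],
   .loop none [.fwd 2243],
   .loop none [.fwd 1784, .bwd 2205],
   .loop none [.bwd 1785, .bwd 2205],
   .loop none [.fwd 2167, .bwd 2207],
   .loop none [.fwd 2168, .fwd 2209, .bwd 421],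
   .loop none [.fwd 2248]]

theorem just8_len : just8.length = 250 := by decide +kernel

theorem just8_ok : cert.okFacts 2000 just8 = true := by decide +kernel

/-- justifications -/
noncomputable def just9 : List Cert.Just :=
  [.loop none [.bwd 1138, .fwd 2211, .fwd 1303],
   .loop none [.fwd 2250],
   .loop none [.fwd 1002, .fwd 2211, .fwd 1304],
   .loop none [.fwd 2252],
   .loop none [.bwd 1109, .fwd 2211, .fwd 1305],
   .loop none [.fwd 2254],
   .loop none [.bwd 1003, .fwd 2211, .fwd 1051],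
   .loop none [.fwd 2256],
   .loop none [.fwd 1104, .fwd 2211, .fwd 1306],
   .loop none [.fwd 2258],
   .loop none [.bwd 1308, .bwd 2211],
   .loop none [.fwd 1105, .bwd 2211],
   .loop none [.fwd 2224, .fwd 1822, .fwd 2216, .bwd 1724],
   .loop none [.fwd 2262],
   .loop none [.fwd 1901, .bwd 2219],
   .loop none [.fwd 926, .bwd 2219],
   .loop none [.bwd 1410, .bwd 2219],
   .loop none [.bwd 1850, .bwd 2219],
   .loop none [.bwd 821, .bwd 2219],
   .loop none [.bwd 1838, .bwd 2221],
   .loop none [.bwd 1822, .bwd 2224],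
   .loop none [.bwd 1807, .bwd 2226],
   .loop none [.fwd 1806, .bwd 2226],
   .loop none [.fwd 292, .fwd 2228, .bwd 2001],
   .loop none [.fwd 2273],
   .loop none [.bwd 1990, .bwd 2228],
   .loop none [.bwd 1044, .fwd 2230, .bwd 1794, .bwd 2232],
   .loop none [.bwd 2276],
   .loop none [.fwd 2232, .fwd 1846, .bwd 2232],
   .loop none [.bwd 1343, .fwd 2232, .fwd 1842],
   .loop none [.fwd 2279],
   .loop none [.bwd 1344, .fwd 2232, .fwd 1844],
   .loop none [.fwd 2281],
   .loop none [.fwd 1793, .bwd 2232],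
   .loop none [.bwd 1346, .fwd 2232, .bwd 1798],
   .loop none [.fwd 2284],
   .loop none [.fwd 1805, .bwd 2232],
   .loop none [.fwd 1017, .fwd 2234, .fwd 2022],
   .loop none [.fwd 2287],
   .loop none [.fwd 2282, .bwd 2035, .bwd 2234],
   .loop none [.fwd 1249, .fwd 2234, .fwd 2089],
   .loop none [.fwd 2290],
   .loop none [.fwd 2021, .bwd 2234],
   .loop none [.fwd 2025, .bwd 2234],
   .loop none [.bwd 1029, .fwd 2234, .bwd 2030],
   .loop none [.fwd 2294],
   .loop none [.fwd 1854, .fwd 2244, .bwd 1961],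
   .loop none [.fwd 2296],
   .loop none [.bwd 318, .fwd 2249, .bwd 420],
   .loop none [.fwd 2298],
   .loop none [.bwd 1139, .fwd 2251, .bwd 1258],
   .loop none [.fwd 2300],
   .loop none [.fwd 1222, .bwd 2251],
   .loop none [.fwd 1281, .bwd 2251],
   .loop none [.fwd 2161, .fwd 2251, .fwd 1262],
   .loop none [.fwd 2304],
   .loop none [.bwd 2142, .bwd 2251],
   .loop none [.bwd 1223, .bwd 2251],
   .loop none [.fwd 994, .fwd 2253, .bwd 1209],
   .loop none [.fwd 2308],
   .loop none [.bwd 1178, .fwd 2255, .fwd 1253],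
   .loop none [.fwd 2310],
   .loop none [.bwd 1203, .bwd 2255],
   .loop none [.bwd 1298, .fwd 2257, .fwd 1052],
   .loop none [.bwd 2313],
   .loop none [.fwd 1297, .bwd 2257],
   .loop none [.fwd 2261, .fwd 2259, .bwd 1234],
   .loop none [.fwd 2316],
   .loop none [.bwd 88, .fwd 2263, .bwd 1759],
   .loop none [.fwd 2318],
   .loop none [.fwd 2000, .bwd 2274],
   .loop none [.fwd 1048, .fwd 2277, .bwd 1044],
   .loop none [.bwd 2321],
   .loop none [.bwd 1843, .bwd 2280],
   .loop none [.bwd 1845, .bwd 2282],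
   .loop none [.fwd 1797, .bwd 2285],
   .loop none [.fwd 2152, .bwd 2288],
   .loop none [.bwd 2090, .bwd 2291],
   .loop none [.fwd 2240, .bwd 2295],
   .loop none [.fwd 1960, .bwd 2297],
   .loop none [.fwd 419, .bwd 2299],
   .loop none [.fwd 1257, .bwd 2301],
   .loop none [.bwd 316, .fwd 2305, .bwd 1544],
   .loop none [.fwd 2332],
   .loop none [.bwd 1309, .fwd 2309, .bwd 1208],
   .loop none [.bwd 2334],
   .loop none [.bwd 1254, .bwd 2311],
   .loop none [.bwd 1299, .bwd 2314],
   .loop none [.fwd 1298, .bwd 2314],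
   .loop none [.bwd 1003, .fwd 2317, .bwd 1233],
   .loop none [.fwd 2339],
   .loop none [.bwd 1774, .fwd 2319, .bwd 1758],
   .loop none [.bwd 2341],
   .loop none [.bwd 1048, .bwd 2322],
   .loop none [.bwd 1004, .fwd 2322, .bwd 1047],
   .loop none [.fwd 2344],
   .loop none [.fwd 1543, .bwd 2333],
   .loop none [.fwd 1309, .bwd 2335],
   .loop none [.fwd 1232, .bwd 2340],
   .loop none [.fwd 2342, .fwd 1823, .bwd 2342],
   .loop none [.fwd 2271, .bwd 2342],
   .loop none [.fwd 1757, .fwd 2342, .bwd 1839],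
   .loop none [.fwd 2351],
   .loop none [.fwd 1774, .bwd 2342],
   .loop none [.bwd 1775, .bwd 2342],
   .loop none [.fwd 2323, .bwd 2342],
   .loop none [.bwd 31, .fwd 2345, .bwd 1082],
   .loop none [.fwd 2356],
   .loop none [.fwd 2269, .bwd 2352],
   .loop none [.bwd 1090, .fwd 2357, .bwd 1081],
   .loop none [.bwd 2359],
   .loop none [.fwd 2360, .fwd 1144, .bwd 2360],
   .loop none [.fwd 1124, .bwd 2360],
   .loop none [.fwd 1090, .bwd 2360],
   .loop none [.bwd 1091, .bwd 2360],
   .loop none [.bwd 1933, .bwd 2360],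
   .loop none [.fwd 1182, .bwd 2360],
   .loop none [.fwd 1108, .bwd 2360],
   .define,
   .define,
   .define,
   .define,
   .define,
   .define,
   .define,
   .define,
   .define,
   .define,
   .define,
   .define,
   .loop (some (23, 16)) [.fwd 1956, .bwd 2026, .bwd 2143, .fwd 1938, .fwd 2157, .fwd 2368, .fwd 2369, .fwd 2370, .fwd 2371, .fwd 2372, .fwd 2373, .fwd 2374, .fwd 2375, .fwd 2376, .fwd 2377, .fwd 2378, .fwd 2379],
   .define,
   .loop (some (12, 1)) [.bwd 2148, .fwd 2143, .bwd 1956],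
   .loop (some (10, 1)) [.bwd 2148, .fwd 2143, .fwd 2026, .fwd 93],
   .loop none [.bwd 2383],
   .loop none [.fwd 2382, .bwd 2384],
   .loop none [.bwd 94, .fwd 2384, .fwd 2036],
   .loop none [.fwd 2386],
   .loop none [.fwd 2214, .bwd 2384],
   .loop none [.fwd 2148, .bwd 2384],
   .loop none [.fwd 2130, .fwd 2387, .fwd 2037],
   .loop none [.bwd 2390],
   .loop none [.fwd 2129, .bwd 2391],
   .loop none [.bwd 2130, .bwd 2391],
   .define,
   .define,
   .define,
   .define,
   .define,
   .define,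
   .loop (some (20, 6)) [.bwd 320, .bwd 2388, .fwd 2394, .fwd 2395, .fwd 2396, .fwd 2397, .fwd 2398, .fwd 2399],
   .define,
   .define,
   .define,
   .define,
   .define,
   .loop (some (22, 7)) [.bwd 322, .bwd 321, .bwd 320, .bwd 2388, .fwd 2394, .fwd 2395, .fwd 2401, .fwd 2402, .fwd 2403, .fwd 2404, .fwd 2405],
   .define,
   .define,
   .loop (some (5, 3)) [.fwd 94, .fwd 2407, .fwd 2408],
   .define,
   .define,
   .define,
   .define,
   .define,
   .define,
   .loop (some (21, 7)) [.fwd 2108, .fwd 93, .bwd 2409, .fwd 2410, .fwd 2411, .fwd 2412, .fwd 2413, .fwd 2414, .fwd 2415],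
   .define,
   .define,
   .loop (some (7, 2)) [.bwd 2385, .fwd 2417, .fwd 2418],
   .define,
   .define,
   .define,
   .loop (some (3, 3)) [.fwd 2388, .fwd 2421, .fwd 2422],
   .loop (some (4, 1)) [.fwd 2380, .bwd 2385, .fwd 2388],
   .loop (some (14, 4)) [.bwd 93, .bwd 2141, .fwd 2203, .fwd 1965],
   .loop none [.fwd 2425],
   .loop none [.fwd 2409, .fwd 2426, .bwd 1125],
   .loop none [.bwd 2427],
   .loop none [.bwd 2388, .fwd 2426, .bwd 1324],
   .loop none [.fwd 2429],
   .loop none [.bwd 2420, .fwd 2426, .fwd 1126],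
   .loop none [.bwd 2431],
   .loop none [.bwd 2417, .fwd 2426, .bwd 1965],
   .loop none [.bwd 2433],
   .loop none [.bwd 2409, .bwd 2428],
   .loop none [.bwd 1181, .fwd 2428, .fwd 2410],
   .loop none [.fwd 2436],
   .loop none [.fwd 2408, .bwd 2428],
   .loop none [.bwd 2421, .fwd 2430, .bwd 1325, .bwd 2430],
   .loop none [.bwd 2439],
   .loop none [.bwd 2424, .fwd 2430, .bwd 1111],
   .loop none [.bwd 2441],
   .loop none [.bwd 1320, .bwd 2430],
   .loop none [.bwd 1322, .bwd 2430],
   .loop none [.fwd 1120, .bwd 2430],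
   .loop none [.fwd 319, .fwd 2430, .bwd 1312],
   .loop none [.fwd 2446],
   .loop none [.fwd 2420, .bwd 2432],
   .loop none [.bwd 2171, .fwd 2434, .fwd 2418],
   .loop none [.fwd 2449],
   .loop none [.fwd 2417, .bwd 2434],
   .loop none [.bwd 2411, .bwd 2437],
   .loop none [.fwd 2421, .bwd 2440],
   .loop none [.fwd 2388, .fwd 2440, .fwd 2422],
   .loop none [.fwd 2454],
   .loop none [.fwd 2424, .bwd 2442],
   .loop none [.bwd 1183, .fwd 2442, .fwd 2380],
   .loop none [.fwd 2457],
   .loop none [.fwd 1311, .bwd 2447],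
   .loop none [.fwd 2458, .bwd 2419, .bwd 2450],
   .loop none [.bwd 2423, .bwd 2455],
   .loop none [.fwd 2385, .bwd 2458],
   .loop none [.fwd 2443, .fwd 2458, .bwd 2117],
   .loop none [.fwd 2463],
   .loop none [.bwd 2109, .bwd 2458],
   .loop none [.fwd 1955, .bwd 2458],
   .loop none [.bwd 1184, .fwd 2458, .bwd 2306],
   .loop none [.fwd 2467],
   .loop none [.bwd 1956, .bwd 2458],
   .loop none [.fwd 2116, .bwd 2464],
   .loop none [.bwd 1199, .fwd 2468, .bwd 1138],
   .loop none [.bwd 2471],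
   .loop none [.bwd 1200, .fwd 2468, .fwd 1139],
   .loop none [.fwd 2473],
   .loop none [.fwd 1345, .fwd 2468, .fwd 2302],
   .loop none [.bwd 2475],
   .loop none [.fwd 1085, .fwd 2468, .fwd 2303],
   .loop none [.fwd 2477],
   .loop none [.bwd 2307, .bwd 2468],
   .loop none [.fwd 1002, .fwd 2472, .bwd 1141],
   .loop none [.fwd 2480],
   .loop none [.fwd 1330, .fwd 2474, .fwd 2331],
   .loop none [.fwd 2482],
   .loop none [.fwd 2476, .fwd 2278, .bwd 2476],
   .loop none [.fwd 2343, .bwd 2476],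
   .loop none [.bwd 948, .bwd 2476],
   .loop none [.bwd 1343, .bwd 2476],
   .loop none [.bwd 897, .fwd 2476, .fwd 1344],
   .loop none [.bwd 2488],
   .loop none [.bwd 1345, .bwd 2476],
   .loop none [.bwd 2283, .bwd 2476],
   .loop none [.bwd 1346, .bwd 2476],
   .loop none [.fwd 896, .fwd 2476, .bwd 947],
   .loop none [.fwd 2493],
   .loop none [.bwd 2286, .bwd 2476],
   .loop none [.fwd 2479, .fwd 2478, .bwd 1280],
   .loop none [.fwd 2496],
   .loop none [.bwd 32, .fwd 2481, .bwd 1177],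
   .loop none [.fwd 2498]]

theorem just9_len : just9.length = 250 := by decide +kernel

theorem just9_ok : cert.okFacts 2250 just9 = true := by decide +kernel

/-- justifications -/
noncomputable def just10 : List Cert.Just :=
  [.loop none [.bwd 1107, .fwd 2483, .bwd 1256],
   .loop none [.fwd 2500],
   .loop none [.fwd 2289, .fwd 2489, .fwd 1370],
   .loop none [.fwd 2502],
   .loop none [.fwd 897, .bwd 2489],
   .loop none [.bwd 898, .bwd 2489],
   .loop none [.fwd 946, .bwd 2494],
   .loop none [.fwd 2490, .fwd 2497, .bwd 1279],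
   .loop none [.fwd 2507],
   .loop none [.bwd 1189, .fwd 2499, .bwd 1176],
   .loop none [.bwd 2509],
   .loop none [.fwd 1255, .bwd 2501],
   .loop none [.fwd 2337, .fwd 2503, .fwd 1371],
   .loop none [.fwd 2512],
   .loop none [.bwd 2495, .fwd 2508, .bwd 1278],
   .loop none [.bwd 2514],
   .loop none [.fwd 1189, .bwd 2510],
   .loop none [.fwd 2312, .bwd 2510],
   .loop none [.bwd 2338, .fwd 2513, .fwd 1372],
   .loop none [.fwd 2518],
   .loop none [.fwd 1902, .bwd 2515],
   .loop none [.fwd 2495, .bwd 2515],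
   .loop none [.bwd 2315, .fwd 2519, .fwd 1373],
   .loop none [.fwd 2522],
   .loop none [.bwd 1137, .fwd 2523, .fwd 1374],
   .loop none [.fwd 2524],
   .loop none [.fwd 1331, .fwd 2525, .fwd 1375],
   .loop none [.fwd 2526],
   .loop none [.fwd 1008, .fwd 2527, .fwd 1376],
   .loop none [.fwd 2528],
   .loop none [.bwd 1377, .bwd 2529],
   .define,
   .define,
   .define,
   .define,
   .define,
   .define,
   .define,
   .define,
   .define,
   .define,
   .define,
   .loop (some (23, 15)) [.fwd 1948, .fwd 93, .bwd 2461, .bwd 2462, .bwd 1183, .bwd 1122, .fwd 2531, .fwd 2532, .fwd 2533, .fwd 2534, .fwd 2535, .fwd 2536, .fwd 2537, .fwd 2538, .fwd 2539, .fwd 2540, .fwd 2541],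
   .define,
   .define,
   .define,
   .define,
   .define,
   .define,
   .define,
   .define,
   .define,
   .define,
   .define,
   .define,
   .define,
   .define,
   .define,
   .define,
   .define,
   .define,
   .define,
   .define,
   .define,
   .define,
   .define,
   .define,
   .define,
   .define,
   .define,
   .define,
   .define,
   .define,
   .define,
   .define,
   .loop (some (24, 34)) [.bwd 94, .bwd 2435, .fwd 2456, .fwd 2443, .fwd 2462, .fwd 2461, .bwd 2435, .fwd 2438, .fwd 2543, .fwd 2544, .fwd 2545, .fwd 2546, .fwd 2547, .fwd 2548, .fwd 2549, .fwd 2550, .fwd 2551, .fwd 2552, .fwd 2553, .fwd 2554, .fwd 2555, .fwd 2556, .fwd 2557, .fwd 2558, .fwd 2559, .fwd 2560, .fwd 2561, .fwd 2562, .fwd 2563, .fwd 2564, .fwd 2565, .fwd 2566, .fwd 2567, .fwd 2568, .fwd 2569, .fwd 2570, .fwd 2571, .fwd 2572, .fwd 2573, .fwd 2574],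
   .define,
   .loop (some (17, 3)) [.fwd 2400, .bwd 320, .bwd 2388, .fwd 94, .fwd 95, .fwd 2576],
   .loop (some (12, 3)) [.fwd 2462, .bwd 93, .bwd 2143, .bwd 2416],
   .loop none [.fwd 2578],
   .loop none [.bwd 2465, .fwd 2579, .bwd 2415],
   .loop none [.fwd 2580],
   .loop none [.bwd 2416, .bwd 2579],
   .loop none [.fwd 2414, .bwd 2581],
   .loop (some (9, 2)) [.bwd 2394, .bwd 2451, .fwd 1868],
   .loop (some (15, 5)) [.bwd 2451, .bwd 2194, .bwd 1364, .fwd 350, .fwd 351],
   .loop none [.fwd 2585],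
   .loop none [.bwd 94, .fwd 2586, .bwd 351],
   .loop none [.fwd 2587],
   .loop none [.bwd 2389, .fwd 2586, .fwd 352],
   .loop none [.bwd 2589],
   .loop none [.bwd 95, .fwd 2588, .bwd 350],
   .loop none [.fwd 2591],
   .loop none [.fwd 2393, .fwd 2588, .bwd 1419],
   .loop none [.bwd 2593],
   .loop none [.bwd 1592, .bwd 2588],
   .loop none [.bwd 2143, .bwd 2590],
   .loop none [.bwd 2108, .bwd 2590],
   .loop none [.bwd 1936, .bwd 2590],
   .loop none [.bwd 353, .fwd 2590, .fwd 1937],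
   .loop none [.bwd 2599],
   .loop none [.fwd 1448, .bwd 2590],
   .loop none [.fwd 1214, .bwd 2590],
   .loop none [.fwd 2582, .bwd 2590],
   .loop none [.fwd 2389, .bwd 2590],
   .loop none [.fwd 2592, .fwd 1383, .bwd 2592],
   .loop none [.fwd 1434, .bwd 2592],
   .loop none [.bwd 96, .fwd 2592, .bwd 349],
   .loop none [.fwd 2607],
   .loop none [.fwd 1394, .bwd 2592],
   .loop none [.bwd 2576, .fwd 2592, .fwd 1382],
   .loop none [.bwd 2610],
   .loop none [.bwd 1364, .bwd 2592],
   .loop none [.bwd 1365, .bwd 2592],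
   .loop none [.fwd 1402, .bwd 2592],
   .loop none [.fwd 1418, .fwd 2594, .fwd 2392],
   .loop none [.fwd 2615],
   .loop none [.bwd 2038, .bwd 2594],
   .loop none [.bwd 2393, .bwd 2594],
   .loop none [.fwd 316, .fwd 2600, .fwd 354],
   .loop none [.fwd 2619],
   .loop none [.fwd 353, .bwd 2600],
   .loop none [.fwd 2246, .bwd 2608],
   .loop none [.bwd 97, .fwd 2608, .bwd 1446],
   .loop none [.fwd 2623],
   .loop none [.fwd 2492, .bwd 2608],
   .loop none [.bwd 2325, .bwd 2608],
   .loop none [.fwd 1398, .bwd 2608],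
   .loop none [.bwd 2242, .bwd 2608],
   .loop none [.bwd 1300, .fwd 2611, .fwd 2577],
   .loop none [.fwd 2629],
   .loop none [.fwd 2576, .bwd 2611],
   .loop none [.bwd 2368, .bwd 2616],
   .loop none [.fwd 2157, .bwd 2616],
   .loop none [.bwd 2160, .fwd 2620, .fwd 355],
   .loop none [.bwd 2634],
   .loop none [.fwd 2624, .fwd 1442, .bwd 2624],
   .loop none [.bwd 1443, .bwd 2624],
   .loop none [.bwd 1444, .bwd 2624],
   .loop none [.bwd 1445, .bwd 2624],
   .loop none [.bwd 98, .fwd 2624, .bwd 314],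
   .loop none [.fwd 2640],
   .loop none [.bwd 1447, .bwd 2624],
   .loop none [.fwd 2601, .bwd 2624],
   .loop none [.bwd 315, .bwd 2624],
   .loop none [.fwd 2212, .bwd 2624],
   .loop none [.fwd 2399, .bwd 2630],
   .loop none [.bwd 2400, .bwd 2630],
   .loop none [.bwd 1906, .bwd 2635],
   .loop none [.fwd 2160, .bwd 2635],
   .loop none [.fwd 2606, .bwd 2641],
   .loop none [.bwd 1435, .bwd 2641],
   .loop none [.bwd 1436, .bwd 2641],
   .loop none [.bwd 311, .bwd 2641],
   .loop none [.bwd 1439, .bwd 2641],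
   .loop none [.fwd 1697, .bwd 2641],
   .loop none [.bwd 99, .fwd 2641, .bwd 340],
   .loop none [.fwd 2656],
   .loop none [.bwd 1441, .bwd 2641],
   .loop none [.fwd 2657, .fwd 1591, .bwd 2657],
   .loop none [.fwd 160, .bwd 2657],
   .loop none [.fwd 1651, .bwd 2657],
   .loop none [.bwd 1405, .bwd 2657],
   .loop none [.bwd 100, .fwd 2657, .fwd 302],
   .loop none [.bwd 2663],
   .loop none [.bwd 1406, .bwd 2657],
   .loop none [.bwd 1401, .bwd 2657],
   .loop none [.fwd 2614, .bwd 2657],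
   .loop none [.fwd 372, .fwd 2664, .fwd 101],
   .loop none [.bwd 2668],
   .loop none [.fwd 100, .bwd 2664],
   .loop none [.bwd 102, .fwd 2669, .fwd 1589],
   .loop none [.fwd 2671],
   .loop none [.fwd 371, .bwd 2669],
   .loop none [.bwd 1632, .bwd 2669],
   .loop none [.bwd 372, .bwd 2669],
   .loop none [.bwd 1634, .bwd 2669],
   .loop none [.fwd 412, .bwd 2669],
   .loop none [.bwd 1633, .bwd 2669],
   .loop none [.fwd 2672, .fwd 1670, .bwd 2672],
   .loop none [.fwd 2672, .fwd 1656, .bwd 2672],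
   .loop none [.bwd 1590, .bwd 2672],
   .loop none [.bwd 103, .fwd 2672, .fwd 1597],
   .loop none [.fwd 2682],
   .loop none [.bwd 1671, .bwd 2672],
   .loop none [.bwd 104, .fwd 2683, .bwd 1640],
   .loop none [.fwd 2685],
   .loop none [.bwd 1598, .bwd 2683],
   .loop none [.fwd 1648, .bwd 2683],
   .loop none [.fwd 1639, .bwd 2686],
   .loop none [.fwd 1677, .bwd 2686],
   .define,
   .define,
   .define,
   .define,
   .loop (some (20, 5)) [.bwd 320, .bwd 2388, .fwd 94, .bwd 2575, .fwd 2691, .fwd 2692, .fwd 2693, .fwd 2694],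
   .define,
   .define,
   .define,
   .define,
   .define,
   .loop (some (22, 7)) [.fwd 1691, .fwd 319, .bwd 2388, .fwd 94, .bwd 2575, .fwd 2691, .fwd 2696, .fwd 2697, .fwd 2698, .fwd 2699, .fwd 2700],
   .loop (some (5, 4)) [.fwd 95, .fwd 96, .fwd 2622, .fwd 1730],
   .loop none [.fwd 2702],
   .loop none [.bwd 2407, .fwd 2703, .bwd 1730],
   .loop none [.bwd 2704],
   .loop none [.fwd 94, .fwd 2703, .fwd 1731],
   .loop none [.fwd 2706],
   .loop none [.fwd 2407, .bwd 2705],
   .loop none [.fwd 2622, .fwd 2705, .fwd 2543],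
   .loop none [.fwd 2709],
   .loop none [.bwd 2388, .fwd 2707, .fwd 1732],
   .loop none [.fwd 2711],
   .loop none [.bwd 2627, .fwd 2710, .fwd 2544],
   .loop none [.fwd 2713],
   .loop none [.bwd 2470, .fwd 2712, .fwd 1733],
   .loop none [.bwd 2715],
   .loop none [.bwd 2247, .fwd 2714, .fwd 2545],
   .loop none [.fwd 2717],
   .loop none [.fwd 2115, .bwd 2716],
   .loop none [.fwd 2470, .bwd 2716],
   .loop none [.bwd 318, .fwd 2718, .fwd 2546],
   .loop none [.fwd 2721],
   .loop none [.bwd 2547, .bwd 2722],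
   .loop (some (13, 2)) [.fwd 2575, .fwd 2595, .bwd 1576],
   .define,
   .define,
   .define,
   .define,
   .loop (some (21, 6)) [.fwd 1474, .bwd 1533, .bwd 2595, .bwd 2708, .fwd 2245, .fwd 2725, .fwd 2726, .fwd 2727, .fwd 2728],
   .define,
   .define,
   .define,
   .loop (some (7, 3)) [.fwd 2730, .fwd 2731, .fwd 2732],
   .define,
   .loop (some (0, 1)) [.bwd 2730, .fwd 2734],
   .loop (some (3, 3)) [.bwd 94, .bwd 2461, .fwd 94],
   .loop (some (4, 3)) [.fwd 2733, .bwd 94, .bwd 2462, .fwd 2466],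
   .loop none [.bwd 2737],
   .loop none [.bwd 2733, .bwd 2738],
   .loop none [.fwd 2732, .bwd 2738],
   .loop (some (14, 3)) [.bwd 2730, .fwd 2595, .fwd 1580, .fwd 1811],
   .loop none [.bwd 2741],
   .loop none [.bwd 2731, .bwd 2742],
   .loop none [.fwd 2730, .bwd 2742],
   .loop none [.fwd 2735, .bwd 2742],
   .loop (some (11, 1)) [.bwd 2595, .fwd 2736, .fwd 2595],
   .define,
   .loop (some (8, 2)) [.fwd 2708, .bwd 2744, .fwd 2747],
   .define]

theorem just10_len : just10.length = 250 := by decide +kernel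

theorem just10_ok : cert.okFacts 2500 just10 = true := by decide +kernel

/-- justifications -/
noncomputable def just11 : List Cert.Just :=
  [.define,
   .define,
   .define,
   .define,
   .define,
   .loop (some (23, 12)) [.fwd 943, .bwd 296, .bwd 70, .fwd 1532, .bwd 2595, .bwd 2736, .bwd 2739, .bwd 2466, .bwd 2603, .bwd 2621, .fwd 2346, .fwd 2749, .fwd 2750, .fwd 2751, .fwd 2752, .fwd 2753, .fwd 2754],
   .define,
   .define,
   .define,
   .define,
   .define,
   .loop (some (19, 7)) [.fwd 2739, .bwd 2736, .bwd 2708, .fwd 2756, .fwd 2757, .fwd 2758, .fwd 2759, .fwd 2760],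
   .define,
   .define,
   .define,
   .define,
   .define,
   .define,
   .define,
   .define,
   .define,
   .define,
   .define,
   .define,
   .define,
   .loop (some (24, 35)) [.fwd 2759, .fwd 2760, .fwd 2761, .fwd 2739, .fwd 2736, .bwd 2708, .bwd 2622, .fwd 97, .fwd 2644, .fwd 1452, .fwd 88, .fwd 2217, .fwd 2194, .fwd 91, .bwd 2168, .fwd 318, .bwd 1691, .fwd 2213, .fwd 1828, .fwd 1829, .fwd 1830, .fwd 1831, .fwd 1832, .fwd 1833, .fwd 1834, .fwd 1835, .fwd 1836, .fwd 2762, .fwd 2763, .fwd 2764, .fwd 2765, .fwd 2766, .fwd 2767, .fwd 2768, .fwd 2769, .fwd 2770, .fwd 2771, .fwd 2772, .fwd 2773, .fwd 2774],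
   .define,
   .loop (some (16, 3)) [.fwd 2574, .fwd 2575, .bwd 2708, .fwd 2245, .fwd 2776],
   .define,
   .loop (some (12, 2)) [.fwd 2739, .fwd 2595, .fwd 2778],
   .define,
   .loop (some (9, 2)) [.fwd 2575, .bwd 2744, .fwd 2780],
   .loop (some (15, 1)) [.fwd 1948, .bwd 2141, .fwd 2631, .bwd 95, .bwd 2744],
   .loop none [.bwd 2782],
   .loop none [.fwd 2783, .fwd 2123, .bwd 2783],
   .loop none [.bwd 2743, .fwd 2783, .fwd 2169],
   .loop none [.bwd 2785],
   .loop none [.bwd 2747, .fwd 2783, .fwd 2170],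
   .loop none [.bwd 2787],
   .loop none [.bwd 2780, .fwd 2783, .bwd 1947],
   .loop none [.bwd 2789],
   .loop none [.bwd 1948, .bwd 2783],
   .loop none [.bwd 1812, .fwd 2783, .bwd 2275],
   .loop none [.bwd 2792],
   .loop none [.fwd 2542, .bwd 2783],
   .loop none [.fwd 1811, .fwd 2783, .bwd 2009],
   .loop none [.fwd 2795],
   .loop none [.fwd 2743, .bwd 2786],
   .loop none [.fwd 2740, .bwd 2786],
   .loop none [.bwd 2748, .bwd 2788],
   .loop none [.fwd 2780, .bwd 2790],
   .loop none [.bwd 2781, .bwd 2790],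
   .loop none [.fwd 1942, .fwd 2793, .fwd 1813],
   .loop none [.fwd 2802],
   .loop none [.bwd 1578, .fwd 2796, .bwd 2008],
   .loop none [.fwd 2804],
   .loop none [.fwd 1885, .fwd 2803, .fwd 1814],
   .loop none [.fwd 2806],
   .loop none [.bwd 1579, .fwd 2805, .bwd 2007],
   .loop none [.fwd 2808],
   .loop none [.fwd 1411, .fwd 2807, .fwd 1815],
   .loop none [.fwd 2810],
   .loop none [.fwd 1530, .fwd 2809, .bwd 2006],
   .loop none [.fwd 2812],
   .loop none [.bwd 1816, .bwd 2811],
   .loop none [.fwd 2005, .bwd 2813],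
   .loop (some (10, 1)) [.fwd 2779, .fwd 2739, .fwd 2736, .bwd 2618],
   .loop none [.bwd 2816],
   .loop none [.fwd 2778, .bwd 2817],
   .loop none [.bwd 2779, .bwd 2817],
   .define,
   .define,
   .define,
   .loop (some (13, 2)) [.bwd 2609, .bwd 2667, .fwd 2662],
   .define,
   .define,
   .define,
   .define,
   .define,
   .define,
   .loop (some (21, 7)) [.bwd 2661, .fwd 2667, .fwd 96, .fwd 2824, .fwd 2825, .fwd 2826, .fwd 2827, .fwd 2828, .fwd 2829],
   .loop (some (4, 3)) [.fwd 2650, .bwd 95, .bwd 2739, .bwd 1954],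
   .loop none [.fwd 2831],
   .loop none [.bwd 2652, .fwd 2832, .bwd 1953],
   .loop none [.fwd 2833],
   .loop none [.bwd 2653, .fwd 2832, .fwd 1954],
   .loop none [.fwd 2835],
   .loop none [.fwd 1952, .bwd 2834],
   .loop none [.bwd 2739, .bwd 2836],
   .loop none [.fwd 2761, .bwd 2836],
   .loop none [.fwd 2466, .bwd 2836],
   .loop none [.fwd 2798, .bwd 2836],
   .loop none [.bwd 312, .fwd 2836, .bwd 2819],
   .loop none [.fwd 2842],
   .loop none [.bwd 2818, .bwd 2843],
   .loop none [.bwd 459, .fwd 2843, .bwd 1418],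
   .loop none [.fwd 2845],
   .loop none [.bwd 313, .fwd 2843, .fwd 2617],
   .loop none [.fwd 2847],
   .loop none [.bwd 2618, .bwd 2843],
   .loop none [.bwd 460, .fwd 2846, .fwd 2632],
   .loop none [.fwd 2850],
   .loop none [.bwd 2633, .bwd 2846],
   .loop none [.fwd 1417, .bwd 2846],
   .loop none [.fwd 6, .fwd 2848, .fwd 2039],
   .loop none [.fwd 2854],
   .loop none [.bwd 2369, .bwd 2851],
   .loop none [.bwd 296, .fwd 2855, .fwd 2040],
   .loop none [.fwd 2857],
   .loop none [.fwd 142, .fwd 2858, .fwd 2041],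
   .loop none [.fwd 2859],
   .loop none [.bwd 2042, .bwd 2860],
   .define,
   .define,
   .define,
   .define,
   .define,
   .loop (some (19, 6)) [.bwd 2651, .fwd 2650, .bwd 2605, .fwd 96, .fwd 2863, .fwd 2864, .fwd 2865, .fwd 2866],
   .loop (some (1, 2)) [.bwd 2609, .bwd 2605, .fwd 2609],
   .define,
   .define,
   .define,
   .define,
   .define,
   .define,
   .define,
   .loop (some (16, 3)) [.bwd 138, .bwd 2609, .fwd 96, .fwd 2824, .fwd 2875],
   .loop (some (9, 2)) [.bwd 2609, .fwd 2612, .fwd 804],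
   .loop (some (15, 2)) [.bwd 1300, .fwd 2631, .fwd 2612, .bwd 294],
   .define,
   .define,
   .define,
   .define,
   .loop (some (22, 5)) [.bwd 530, .bwd 296, .bwd 66, .bwd 2658, .bwd 98, .bwd 97, .fwd 2824, .fwd 2879, .fwd 2880, .fwd 2881, .fwd 2882],
   .loop (some (13, 1)) [.bwd 2825, .bwd 2824, .fwd 2628],
   .define,
   .define,
   .define,
   .define,
   .loop (some (21, 8)) [.bwd 2628, .bwd 96, .fwd 2609, .bwd 2823, .bwd 856, .fwd 2885, .fwd 2886, .fwd 2887, .fwd 2888],
   .loop (some (7, 4)) [.fwd 2626, .bwd 1802, .fwd 2878, .bwd 2867],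
   .loop none [.fwd 2890],
   .loop none [.bwd 2863, .fwd 2891, .fwd 2867],
   .loop none [.bwd 2892],
   .loop none [.fwd 2863, .bwd 2893],
   .loop (some (3, 3)) [.fwd 97, .bwd 2636, .bwd 97],
   .loop (some (14, 1)) [.fwd 1903, .bwd 2626, .fwd 2628],
   .loop (some (11, 1)) [.bwd 2628, .fwd 2895, .fwd 2628],
   .define,
   .define,
   .define,
   .define,
   .define,
   .define,
   .define,
   .define,
   .define,
   .define,
   .define,
   .define,
   .define,
   .define,
   .define,
   .define,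
   .loop (some (24, 32)) [.bwd 2776, .bwd 2245, .bwd 2622, .bwd 96, .bwd 2650, .fwd 2651, .fwd 2894, .fwd 2895, .bwd 96, .bwd 95, .bwd 94, .bwd 2604, .bwd 2621, .bwd 316, .bwd 2649, .fwd 356, .fwd 357, .fwd 358, .fwd 659, .fwd 554, .fwd 555, .fwd 556, .fwd 557, .fwd 558, .fwd 2898, .fwd 2899, .fwd 2900, .fwd 2901, .fwd 2902, .fwd 2903, .fwd 2904, .fwd 2905, .fwd 2906, .fwd 2907, .fwd 2908, .fwd 2909, .fwd 2910, .fwd 2911, .fwd 2912, .fwd 2913],
   .define,
   .loop (some (12, 2)) [.fwd 2894, .fwd 2628, .fwd 2915],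
   .loop (some (9, 2)) [.bwd 2824, .fwd 2626, .bwd 2353],
   .loop (some (10, 1)) [.fwd 2916, .fwd 2894, .fwd 2895, .fwd 2627],
   .loop none [.bwd 2918],
   .loop none [.fwd 2915, .bwd 2919],
   .define,
   .define,
   .define,
   .define,
   .define,
   .loop (some (22, 6)) [.bwd 460, .bwd 459, .bwd 312, .bwd 2653, .bwd 98, .fwd 2639, .fwd 2921, .fwd 2922, .fwd 2923, .fwd 2924, .fwd 2925],
   .loop (some (13, 2)) [.bwd 2639, .fwd 2645, .fwd 1868],
   .define,
   .define,
   .define,
   .define,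
   .define,
   .define,
   .define,
   .define,
   .define,
   .define,
   .define,
   .define,
   .define,
   .define,
   .define,
   .define,
   .define,
   .define,
   .define,
   .define,
   .define,
   .define,
   .define,
   .define,
   .define,
   .define,
   .loop (some (24, 32)) [.bwd 2875, .bwd 2824, .fwd 97, .fwd 2638, .bwd 2637, .fwd 2638, .bwd 2637, .fwd 2636, .fwd 2638, .fwd 2631, .bwd 95, .bwd 2849, .fwd 459, .fwd 460, .fwd 2928, .fwd 2929, .fwd 2930, .fwd 2931, .fwd 2932, .fwd 2933, .fwd 2934, .fwd 2935, .fwd 2936, .fwd 2937, .fwd 2938, .fwd 2939, .fwd 2940, .fwd 2941, .fwd 2942, .fwd 2943, .fwd 2944, .fwd 2945, .fwd 2946, .fwd 2947, .fwd 2948, .fwd 2949, .fwd 2950, .fwd 2951, .fwd 2952, .fwd 2953],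
   .loop (some (15, 2)) [.fwd 2799, .bwd 2622, .fwd 97, .fwd 2643, .bwd 2621],
   .loop none [.bwd 2955],
   .loop none [.bwd 2149, .fwd 2956, .fwd 2051],
   .loop none [.fwd 2957],
   .loop none [.bwd 2799, .bwd 2956],
   .loop none [.fwd 91, .fwd 2958, .bwd 2084],
   .loop none [.fwd 2960],
   .loop none [.bwd 1868, .fwd 2961, .bwd 2083],
   .loop none [.fwd 2962],
   .loop none [.bwd 1930, .fwd 2963, .bwd 2082],
   .loop none [.fwd 2964],
   .loop none [.fwd 2081, .bwd 2965],
   .define,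
   .define,
   .loop (some (20, 4)) [.bwd 1181, .fwd 1183, .bwd 2840, .bwd 2653, .fwd 2652, .fwd 2837, .fwd 2967, .fwd 2968],
   .define,
   .define,
   .loop (some (22, 5)) [.fwd 1854, .fwd 316, .fwd 2621, .fwd 2603, .bwd 2840, .bwd 2653, .fwd 2652, .fwd 2837, .bwd 1951, .fwd 2970, .fwd 2971],
   .loop (some (13, 2)) [.bwd 2652, .fwd 2658, .fwd 136],
   .define,
   .loop (some (21, 3)) [.fwd 943, .bwd 206, .fwd 255, .fwd 53, .fwd 65, .bwd 2658, .fwd 2651, .fwd 2646, .fwd 2974],
   .define,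
   .define,
   .define,
   .define,
   .define,
   .loop (some (22, 6)) [.bwd 165, .bwd 164, .fwd 927, .fwd 812, .bwd 2665, .fwd 2662, .fwd 2976, .fwd 2977, .fwd 2978, .fwd 2979, .fwd 2980],
   .define,
   .define,
   .define,
   .define,
   .loop (some (21, 6)) [.bwd 1712, .bwd 2651, .fwd 99, .fwd 2661, .bwd 118, .fwd 2982, .fwd 2983, .fwd 2984, .fwd 2985],
   .loop (some (8, 2)) [.bwd 2661, .fwd 2666, .fwd 718],
   .define,
   .define,
   .define,
   .define,
   .define,
   .define,
   .define,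
   .define,
   .define,
   .define,
   .define,
   .define]

theorem just11_len : just11.length = 250 := by decide +kernel

theorem just11_ok : cert.okFacts 2750 just11 = true := by decide +kernel


end CfsgLib.ThCent.HK
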