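import Cfsg.Agent.Lib.ThCent.HKData

/-!
Justifications of the side facts (generated data).
-/

namespace CfsgLib.ThCent.HK

open CfsgLib.PresCert

set_option maxRecDepth 100000

/-- justifications -/
noncomputable def just12 : List Cert.Just :=
  [.define,
   .define,
   .define,
   .define,
   .define,
   .define,
   .define,
   .define,
   .define,
   .define,
   .define,
   .define,
   .define,
   .define,
   .define,
   .loop (some (24, 29)) [.fwd 1629, .fwd 1431, .fwd 305, .fwd 120, .bwd 67, .bwd 66, .bwd 65, .fwd 152, .fwd 65, .bwd 2660, .fwd 2659, .fwd 2661, .fwd 119, .bwd 2681, .fwd 2989, .fwd 2990, .fwd 2991, .fwd 2992, .fwd 2993, .fwd 2994, .fwd 2995, .fwd 2996, .fwd 2997, .fwd 2998, .fwd 2999, .fwd 3000, .fwd 3001, .fwd 3002, .fwd 3003, .fwd 3004, .fwd 3005, .fwd 3006, .fwd 3007, .fwd 3008, .fwd 3009, .fwd 3010, .fwd 3011, .fwd 3012, .fwd 3013, .fwd 3014],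
   .loop (some (16, 3)) [.fwd 856, .bwd 2662, .fwd 2661, .bwd 118, .bwd 117],
   .loop (some (15, 2)) [.fwd 2675, .fwd 2670, .fwd 2666, .fwd 886],
   .define,
   .define,
   .define,
   .loop (some (20, 4)) [.bwd 815, .bwd 2665, .bwd 2670, .bwd 2675, .fwd 2673, .fwd 3018, .fwd 3019, .fwd 3020],
   .define,
   .loop (some (22, 3)) [.bwd 2880, .bwd 2879, .bwd 2824, .fwd 97, .fwd 98, .fwd 99, .bwd 2670, .bwd 2675, .fwd 2673, .fwd 3018, .fwd 3022],
   .loop (some (5, 3)) [.bwd 102, .fwd 2674, .fwd 669, .bwd 700],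
   .loop none [.fwd 3024],
   .loop none [.fwd 699, .bwd 3025],
   .loop none [.bwd 103, .fwd 3025, .fwd 700],
   .loop none [.fwd 3027],
   .loop none [.fwd 3028, .fwd 670, .bwd 3028],
   .loop none [.fwd 669, .bwd 3028],
   .define,
   .loop (some (13, 2)) [.bwd 2673, .fwd 2678, .fwd 3031],
   .loop (some (7, 4)) [.bwd 3017, .bwd 759, .fwd 599, .fwd 540],
   .loop none [.fwd 3033],
   .loop none [.fwd 540, .bwd 3034],
   .loop none [.bwd 102, .fwd 3034, .fwd 541],
   .loop none [.fwd 3036],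
   .loop none [.bwd 2681, .fwd 3037, .bwd 572],
   .loop none [.fwd 3038],
   .loop none [.bwd 234, .fwd 3039, .bwd 571],
   .loop none [.fwd 3040],
   .loop none [.bwd 1628, .fwd 3041, .bwd 570],
   .loop none [.bwd 3042],
   .loop none [.fwd 1628, .bwd 3043],
   .loop none [.bwd 1629, .bwd 3043],
   .loop none [.fwd 3015, .bwd 3043],
   .loop (some (3, 3)) [.fwd 2675, .bwd 1535, .bwd 2675],
   .loop (some (14, 1)) [.fwd 927, .fwd 3017, .fwd 2678],
   .loop (some (2, 3)) [.bwd 2673, .fwd 3035, .fwd 530, .bwd 1627],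
   .loop none [.fwd 3049],
   .loop none [.bwd 1627, .bwd 3050],
   .loop none [.fwd 370, .fwd 3050, .bwd 1626],
   .loop none [.fwd 3052],
   .loop none [.fwd 1625, .bwd 3053],
   .loop (some (11, 1)) [.bwd 2678, .fwd 3047, .fwd 2678],
   .loop (some (8, 2)) [.bwd 102, .bwd 3017, .fwd 760],
   .define,
   .define,
   .define,
   .loop (some (23, 16)) [.bwd 2678, .bwd 3047, .fwd 3035, .bwd 296, .bwd 70, .fwd 1532, .bwd 2595, .bwd 94, .bwd 93, .bwd 92, .bwd 2168, .bwd 2247, .bwd 2627, .fwd 2622, .fwd 3057, .fwd 3058, .fwd 3059],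
   .define,
   .define,
   .define,
   .define,
   .define,
   .define,
   .define,
   .define,
   .define,
   .define,
   .define,
   .define,
   .define,
   .define,
   .define,
   .define,
   .loop (some (24, 32)) [.fwd 701, .bwd 661, .bwd 373, .bwd 206, .fwd 72, .fwd 206, .bwd 3035, .fwd 3047, .fwd 102, .fwd 103, .fwd 104, .fwd 105, .fwd 1910, .fwd 1911, .fwd 1912, .fwd 1913, .fwd 1914, .fwd 1915, .fwd 2869, .fwd 2870, .fwd 2871, .fwd 2872, .fwd 2873, .fwd 2874, .fwd 3061, .fwd 3062, .fwd 3063, .fwd 3064, .fwd 3065, .fwd 3066, .fwd 3067, .fwd 3068, .fwd 3069, .fwd 3070, .fwd 3071, .fwd 3072, .fwd 3073, .fwd 3074, .fwd 3075, .fwd 3076],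
   .loop (some (16, 3)) [.bwd 3054, .fwd 370, .bwd 2673, .fwd 102, .fwd 3026, .bwd 698],
   .loop none [.bwd 3078],
   .loop none [.fwd 3054, .bwd 3079],
   .loop (some (12, 1)) [.fwd 943, .bwd 3035, .fwd 2678],
   .loop (some (10, 1)) [.fwd 943, .bwd 3035, .fwd 3047, .fwd 2677],
   .loop none [.bwd 3082],
   .loop none [.fwd 3081, .bwd 3083],
   .loop none [.fwd 2975, .bwd 3083],
   .loop none [.fwd 411, .fwd 3083, .bwd 942],
   .loop none [.fwd 3086],
   .loop none [.fwd 2755, .bwd 3083],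
   .loop none [.bwd 414, .fwd 3087, .bwd 941],
   .loop none [.fwd 3089],
   .loop none [.fwd 410, .fwd 3087, .fwd 1340],
   .loop none [.fwd 3091],
   .loop none [.fwd 940, .bwd 3090],
   .loop none [.bwd 1521, .fwd 3092, .fwd 1275],
   .loop none [.bwd 3094],
   .loop none [.fwd 1521, .bwd 3095],
   .loop none [.fwd 1531, .bwd 3095],
   .define,
   .define,
   .define,
   .define,
   .loop (some (20, 5)) [.bwd 2690, .bwd 104, .bwd 103, .fwd 3026, .fwd 3098, .fwd 3099, .fwd 3100, .fwd 3101],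
   .define,
   .define,
   .define,
   .define,
   .define,
   .define,
   .define,
   .loop (some (22, 9)) [.bwd 104, .bwd 103, .fwd 3026, .fwd 3098, .fwd 3103, .fwd 3104, .fwd 3105, .fwd 3106, .fwd 3107, .fwd 3108, .fwd 3109],
   .define,
   .loop (some (3, 1)) [.bwd 103, .fwd 2679, .fwd 103],
   .define,
   .loop (some (14, 2)) [.fwd 3056, .fwd 2684, .fwd 3113],
   .define,
   .loop (some (18, 5)) [.bwd 2990, .bwd 2989, .bwd 2679, .bwd 2680, .fwd 103, .fwd 2688, .fwd 3115],
   .define,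
   .define,
   .define,
   .define,
   .define,
   .loop (some (24, 27)) [.bwd 1641, .bwd 1635, .bwd 234, .bwd 84, .bwd 83, .bwd 5, .fwd 4, .fwd 11, .fwd 206, .bwd 3035, .fwd 102, .fwd 2680, .fwd 2679, .bwd 102, .fwd 2675, .fwd 2670, .fwd 2667, .bwd 2631, .fwd 1300, .bwd 2651, .fwd 2653, .fwd 2840, .fwd 2469, .bwd 92, .bwd 91, .bwd 90, .bwd 89, .bwd 88, .fwd 865, .bwd 2665, .bwd 2670, .fwd 84, .bwd 2681, .fwd 103, .fwd 2687, .fwd 3117, .fwd 3118, .fwd 3119, .fwd 3120, .fwd 3121],
   .define,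
   .loop (some (9, 2)) [.bwd 3026, .bwd 3056, .fwd 3123],
   .loop (some (15, 2)) [.fwd 2987, .fwd 119, .bwd 2681, .bwd 3056, .bwd 793],
   .loop none [.fwd 3125],
   .loop none [.fwd 792, .bwd 3126],
   .loop none [.bwd 793, .bwd 3126],
   .loop (some (10, 1)) [.bwd 2684, .fwd 2680, .fwd 2679, .fwd 2989],
   .loop none [.fwd 3129],
   .loop none [.bwd 1660, .fwd 3130, .fwd 2990],
   .loop none [.fwd 3131],
   .loop none [.bwd 2991, .bwd 3132],
   .loop none [.bwd 1661, .fwd 3132, .bwd 3116],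
   .loop none [.fwd 3134],
   .loop none [.fwd 3115, .bwd 3135],
   .define,
   .define,
   .define,
   .define,
   .loop (some (20, 4)) [.fwd 194, .fwd 1676, .bwd 2690, .bwd 104, .fwd 3137, .fwd 3138, .fwd 3139, .fwd 3140],
   .define,
   .define,
   .define,
   .loop (some (13, 2)) [.bwd 3137, .fwd 2688, .fwd 3144],
   .define,
   .define,
   .define,
   .define,
   .define,
   .define,
   .define,
   .loop (some (21, 8)) [.bwd 2688, .fwd 3030, .fwd 3146, .fwd 3147, .fwd 3148, .fwd 3149, .fwd 3150, .fwd 3151, .fwd 3152],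
   .define,
   .define,
   .loop (some (0, 1)) [.bwd 3154, .fwd 3155],
   .loop (some (3, 1)) [.bwd 104, .fwd 3112, .fwd 104],
   .loop (some (4, 1)) [.bwd 104, .fwd 3029, .fwd 104],
   .define,
   .loop (some (14, 2)) [.bwd 3154, .fwd 2688, .fwd 3159],
   .loop (some (8, 1)) [.bwd 102, .fwd 2676, .bwd 3030, .fwd 3154],
   .loop none [.fwd 3161],
   .loop none [.bwd 3111, .fwd 3162, .bwd 3154],
   .loop none [.bwd 3163],
   .loop none [.fwd 3056, .fwd 3162, .bwd 3156],
   .loop none [.fwd 3165],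
   .loop none [.bwd 2684, .fwd 3162, .bwd 3160],
   .loop none [.fwd 3167],
   .loop none [.fwd 3111, .bwd 3164],
   .loop none [.fwd 3155, .bwd 3166],
   .loop none [.fwd 3159, .bwd 3168],
   .define,
   .define,
   .define,
   .define,
   .define,
   .define,
   .define,
   .define,
   .define,
   .define,
   .define,
   .define,
   .define,
   .define,
   .define,
   .define,
   .define,
   .define,
   .define,
   .define,
   .define,
   .loop (some (24, 27)) [.bwd 3103, .bwd 3098, .bwd 3026, .bwd 102, .fwd 3035, .bwd 206, .fwd 255, .fwd 52, .bwd 660, .fwd 668, .bwd 3030, .fwd 3029, .fwd 3112, .fwd 3030, .bwd 2674, .fwd 2675, .fwd 462, .fwd 1532, .fwd 1577, .fwd 3172, .fwd 3173, .fwd 3174, .fwd 3175, .fwd 3176, .fwd 3177, .fwd 3178, .fwd 3179, .fwd 3180, .fwd 3181, .fwd 3182, .fwd 3183, .fwd 3184, .fwd 3185, .fwd 3186, .fwd 3187, .fwd 3188, .fwd 3189, .fwd 3190, .fwd 3191, .fwd 3192],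
   .loop (some (9, 2)) [.bwd 3137, .fwd 3169, .fwd 3026],
   .loop (some (10, 1)) [.bwd 2688, .fwd 3029, .fwd 3112, .fwd 2687],
   .loop none [.bwd 3195],
   .loop none [.fwd 3153, .bwd 3196],
   .loop none [.bwd 3117, .fwd 3196, .fwd 3144],
   .loop none [.fwd 3198],
   .loop none [.fwd 3136, .bwd 3196],
   .loop none [.fwd 3171, .bwd 3196],
   .loop none [.fwd 2688, .bwd 3196],
   .loop none [.bwd 3145, .bwd 3199],
   .define,
   .loop (some (5, 4)) [.bwd 104, .fwd 3030, .fwd 950, .fwd 718],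
   .loop none [.fwd 3205],
   .loop none [.fwd 718, .bwd 3206],
   .loop none [.bwd 2689, .fwd 3206, .fwd 3127],
   .loop none [.bwd 3208],
   .loop none [.fwd 104, .fwd 3206, .bwd 751],
   .loop none [.fwd 3210],
   .loop none [.bwd 2690, .fwd 3206, .fwd 3128],
   .loop none [.bwd 3212],
   .loop none [.bwd 2987, .bwd 3206],
   .loop none [.bwd 105, .fwd 3206, .bwd 1353],
   .loop none [.fwd 3215],
   .loop none [.fwd 2689, .bwd 3209],
   .loop none [.bwd 3204, .bwd 3209],
   .loop none [.bwd 3137, .fwd 3211, .bwd 750],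
   .loop none [.bwd 3219],
   .loop none [.bwd 3123, .fwd 3213, .bwd 3102],
   .loop none [.bwd 3221],
   .loop none [.fwd 2690, .bwd 3213],
   .loop none [.fwd 1676, .bwd 3213],
   .loop none [.bwd 106, .fwd 3216, .bwd 1352],
   .loop none [.fwd 3225],
   .loop none [.fwd 3137, .bwd 3220],
   .loop none [.bwd 3138, .bwd 3220],
   .loop none [.fwd 3194, .bwd 3220],
   .loop none [.fwd 3203, .bwd 3220],
   .loop none [.fwd 3123, .bwd 3222],
   .loop none [.bwd 3124, .bwd 3222],
   .loop none [.bwd 107, .fwd 3226, .bwd 1351],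
   .loop none [.fwd 3233],
   .loop none [.fwd 1350, .bwd 3234],
   .define,
   .define,
   .define,
   .define,
   .define,
   .define,
   .loop (some (21, 8)) [.fwd 3110, .fwd 3207, .fwd 952, .fwd 3236, .fwd 3237, .fwd 3238, .fwd 3239, .fwd 3240, .fwd 3241],
   .define,
   .loop (some (0, 2)) [.bwd 3243, .fwd 3214, .fwd 1679],
   .loop none [.bwd 3244],
   .loop none [.fwd 3243, .bwd 3245],
   .loop (some (11, 1)) [.fwd 3110, .fwd 3157, .bwd 3110],
   .loop (some (8, 1)) [.bwd 232, .fwd 949, .bwd 3207, .bwd 3246],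
   .loop none [.bwd 3248]]

theorem just12_len : just12.length = 250 := by decide +kernel

theorem just12_ok : cert.okFacts 3000 just12 = true := by decide +kernel

/-- justifications -/
noncomputable def just13 : List Cert.Just :=
  [.loop none [.fwd 232, .bwd 3249],
   .loop none [.fwd 3224, .fwd 3249, .bwd 243],
   .loop none [.bwd 3251],
   .loop none [.fwd 760, .bwd 3252],
   .loop none [.fwd 242, .fwd 3252, .bwd 3231],
   .loop none [.fwd 3254],
   .loop none [.bwd 3223, .bwd 3252],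
   .loop none [.bwd 3224, .bwd 3252],
   .loop none [.bwd 3170, .bwd 3252],
   .loop none [.fwd 3114, .bwd 3252],
   .loop none [.bwd 3232, .bwd 3255],
   .define,
   .define,
   .define,
   .define,
   .define,
   .define,
   .define,
   .define,
   .define,
   .define,
   .define,
   .define,
   .define,
   .define,
   .define,
   .define,
   .define,
   .define,
   .define,
   .define,
   .define,
   .loop (some (24, 27)) [.bwd 3142, .bwd 3228, .fwd 3227, .fwd 3030, .bwd 668, .fwd 660, .fwd 267, .fwd 587, .bwd 704, .fwd 717, .bwd 3207, .fwd 3158, .fwd 3157, .fwd 3207, .bwd 950, .bwd 2674, .fwd 2677, .bwd 411, .fwd 414, .fwd 3261, .fwd 3262, .fwd 3263, .fwd 3264, .fwd 3265, .fwd 3266, .fwd 3267, .fwd 3268, .fwd 3269, .fwd 3270, .fwd 3271, .fwd 3272, .fwd 3273, .fwd 3274, .fwd 3275, .fwd 3276, .fwd 3277, .fwd 3278, .fwd 3279, .fwd 3280, .fwd 3281],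
   .loop (some (12, 1)) [.fwd 3110, .fwd 3158, .bwd 3110],
   .loop (some (9, 2)) [.fwd 3217, .bwd 3246, .bwd 194],
   .loop (some (10, 1)) [.fwd 3110, .fwd 3158, .fwd 3157, .fwd 105],
   .loop none [.bwd 3285],
   .loop none [.fwd 3286, .fwd 3247, .bwd 3286],
   .loop none [.fwd 3286, .fwd 3283, .bwd 3286],
   .loop none [.fwd 3242, .bwd 3286],
   .define,
   .define,
   .loop (some (13, 2)) [.bwd 106, .bwd 105, .bwd 3217],
   .define,
   .define,
   .loop (some (14, 3)) [.bwd 3294, .bwd 105, .fwd 3214, .bwd 2830],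
   .loop none [.bwd 3295],
   .loop none [.fwd 3294, .bwd 3296],
   .loop (some (2, 2)) [.bwd 106, .bwd 3288, .fwd 106],
   .loop (some (1, 2)) [.bwd 106, .bwd 3287, .fwd 106],
   .define,
   .loop (some (16, 3)) [.bwd 107, .bwd 106, .fwd 3289, .fwd 3293, .fwd 3300],
   .loop (some (9, 2)) [.bwd 106, .bwd 3297, .bwd 2829],
   .define,
   .define,
   .loop (some (5, 2)) [.bwd 107, .fwd 3303, .fwd 3304],
   .define,
   .define,
   .loop (some (14, 2)) [.fwd 3302, .bwd 3292, .fwd 3307],
   .loop (some (8, 2)) [.bwd 107, .bwd 3302, .bwd 2828],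
   .loop (some (19, 4)) [.bwd 109, .bwd 108, .bwd 107, .fwd 3298, .bwd 3299, .fwd 107, .fwd 108, .fwd 109],
   .define,
   .define,
   .define,
   .define,
   .define,
   .define,
   .loop (some (20, 6)) [.bwd 3311, .fwd 3305, .bwd 3301, .fwd 3312, .fwd 3313, .fwd 3314, .fwd 3315, .fwd 3316],
   .define,
   .define,
   .define,
   .define,
   .define,
   .define,
   .define,
   .loop (some (22, 9)) [.bwd 3311, .fwd 3305, .bwd 3301, .fwd 3312, .fwd 3318, .fwd 3319, .fwd 3320, .fwd 3321, .fwd 3322, .fwd 3323, .fwd 3324],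
   .define,
   .loop (some (13, 1)) [.bwd 3306, .fwd 3301, .fwd 3235],
   .define,
   .define,
   .define,
   .loop (some (3, 3)) [.bwd 3305, .fwd 3329, .fwd 3330],
   .define,
   .loop (some (4, 2)) [.bwd 108, .bwd 3305, .fwd 3332],
   .define,
   .define,
   .define,
   .define,
   .define,
   .define,
   .loop (some (18, 7)) [.bwd 3331, .fwd 3334, .fwd 3335, .fwd 3336, .fwd 3337, .fwd 3338, .fwd 3339],
   .loop (some (19, 1)) [.bwd 107, .fwd 3298, .fwd 107, .fwd 108, .fwd 109, .fwd 3310, .bwd 109, .bwd 108, .bwd 3331],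
   .loop none [.fwd 3341],
   .loop none [.bwd 3331, .bwd 3342],
   .loop (some (1, 2)) [.fwd 3301, .bwd 3343, .bwd 3301],
   .define,
   .define,
   .define,
   .define,
   .define,
   .define,
   .define,
   .define,
   .define,
   .define,
   .define,
   .define,
   .define,
   .define,
   .define,
   .define,
   .define,
   .define,
   .define,
   .define,
   .define,
   .define,
   .define,
   .define,
   .define,
   .define,
   .define,
   .define,
   .define,
   .define,
   .define,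
   .define,
   .loop (some (24, 35)) [.fwd 109, .fwd 3310, .bwd 109, .bwd 108, .fwd 3343, .bwd 107, .fwd 3290, .fwd 3291, .fwd 3345, .fwd 3346, .fwd 3347, .fwd 3348, .fwd 3349, .fwd 3350, .fwd 3351, .fwd 3352, .fwd 3353, .fwd 3354, .fwd 3355, .fwd 3356, .fwd 3357, .fwd 3358, .fwd 3359, .fwd 3360, .fwd 3361, .fwd 3362, .fwd 3363, .fwd 3364, .fwd 3365, .fwd 3366, .fwd 3367, .fwd 3368, .fwd 3369, .fwd 3370, .fwd 3371, .fwd 3372, .fwd 3373, .fwd 3374, .fwd 3375, .fwd 3376],
   .define,
   .loop (some (12, 2)) [.bwd 108, .fwd 3235, .fwd 3378],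
   .loop (some (10, 1)) [.fwd 3379, .bwd 108, .fwd 3343, .bwd 3340],
   .loop none [.bwd 3380],
   .loop none [.fwd 3378, .bwd 3381],
   .loop none [.bwd 3379, .bwd 3381],
   .define,
   .loop (some (5, 2)) [.bwd 109, .bwd 3377, .fwd 3384],
   .define,
   .define,
   .define,
   .define,
   .define,
   .define,
   .loop (some (21, 8)) [.fwd 3383, .fwd 109, .fwd 110, .fwd 3386, .fwd 3387, .fwd 3388, .fwd 3389, .fwd 3390, .fwd 3391],
   .define,
   .define,
   .loop (some (3, 3)) [.bwd 3333, .fwd 3393, .fwd 3394],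
   .define,
   .define,
   .define,
   .define,
   .define,
   .define,
   .loop (some (18, 7)) [.bwd 3395, .fwd 3396, .fwd 3397, .fwd 3398, .fwd 3399, .fwd 3400, .fwd 3401],
   .loop (some (19, 1)) [.fwd 109, .fwd 3310, .bwd 109, .bwd 108, .bwd 107, .fwd 3298, .fwd 107, .fwd 108, .bwd 3395],
   .loop none [.fwd 3403],
   .loop none [.bwd 3395, .bwd 3404],
   .loop none [.fwd 108, .fwd 3404, .fwd 3396],
   .loop none [.fwd 3406],
   .loop none [.fwd 3305, .fwd 3407, .fwd 3397],
   .loop none [.fwd 3408],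
   .loop none [.bwd 3398, .bwd 3409],
   .loop (some (10, 1)) [.bwd 3235, .fwd 108, .fwd 3405, .bwd 3402],
   .loop none [.fwd 3411],
   .loop none [.fwd 3401, .bwd 3412],
   .define,
   .define,
   .loop (some (3, 3)) [.bwd 3385, .fwd 3414, .fwd 3415],
   .loop (some (2, 2)) [.bwd 110, .bwd 3310, .fwd 110],
   .loop (some (19, 1)) [.bwd 109, .bwd 108, .bwd 107, .fwd 3298, .fwd 107, .fwd 108, .fwd 109, .fwd 3310, .bwd 3416],
   .loop none [.fwd 3418],
   .loop none [.bwd 3416, .bwd 3419],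
   .loop (some (1, 2)) [.bwd 110, .bwd 3420, .fwd 110],
   .loop (some (3, 3)) [.bwd 111, .bwd 3421, .fwd 111],
   .loop (some (4, 3)) [.bwd 111, .bwd 3417, .fwd 111],
   .loop (some (3, 3)) [.bwd 112, .bwd 3422, .fwd 112],
   .loop (some (4, 3)) [.bwd 112, .bwd 3423, .fwd 112],
   .loop (some (3, 3)) [.bwd 113, .bwd 3424, .fwd 113],
   .loop (some (4, 3)) [.bwd 113, .bwd 3425, .fwd 113],
   .loop (some (2, 2)) [.bwd 114, .bwd 3427, .fwd 114],
   .loop (some (1, 2)) [.bwd 114, .bwd 3426, .fwd 114],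
   .loop (some (19, 4)) [.bwd 117, .bwd 116, .bwd 115, .fwd 3428, .bwd 3429, .fwd 115, .fwd 116, .fwd 117],
   .loop (some (19, 0)) [.bwd 117, .bwd 116, .bwd 115, .fwd 3428, .fwd 115, .fwd 116, .fwd 117, .fwd 3430],
   .loop (some (9, 0)) [.bwd 3307, .fwd 3217, .fwd 3214, .bwd 118],
   .loop none [.bwd 3432],
   .loop none [.fwd 3307, .bwd 3433],
   .loop none [.bwd 3308, .bwd 3433],
   .loop (some (10, 1)) [.bwd 2982, .fwd 3430, .fwd 3431, .fwd 3435],
   .loop none [.bwd 3436],
   .loop none [.fwd 2828, .fwd 3437, .fwd 2983],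
   .loop none [.fwd 3438],
   .loop none [.bwd 2984, .bwd 3439],
   .loop (some (0, 1)) [.fwd 2877, .fwd 1395],
   .loop (some (14, 1)) [.bwd 2222, .fwd 2877, .bwd 2823],
   .loop (some (8, 2)) [.bwd 138, .bwd 2877, .fwd 219],
   .loop (some (6, 1)) [.fwd 2877, .fwd 2868, .bwd 2877],
   .loop (some (9, 2)) [.fwd 2876, .bwd 3443, .bwd 2358],
   .loop (some (13, 0)) [.bwd 530, .bwd 142, .bwd 141],
   .loop (some (14, 3)) [.fwd 142, .fwd 378, .bwd 715],
   .loop (some (8, 2)) [.bwd 1396, .bwd 3447, .fwd 945],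
   .loop (some (12, 4)) [.fwd 142, .bwd 3035, .fwd 2677, .fwd 3084],
   .loop none [.fwd 3449],
   .loop none [.fwd 3450, .fwd 3055, .bwd 3450],
   .loop none [.fwd 3084, .bwd 3450],
   .loop none [.fwd 141, .fwd 3450, .fwd 3031],
   .loop none [.fwd 3453],
   .loop none [.bwd 720, .fwd 3450, .fwd 1227],
   .loop none [.fwd 3455],
   .loop none [.bwd 2861, .fwd 3450, .bwd 3060],
   .loop none [.fwd 3457],
   .loop none [.bwd 3048, .bwd 3450],
   .loop none [.fwd 2678, .bwd 3450],
   .loop none [.bwd 3032, .bwd 3454],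
   .loop none [.fwd 1536, .fwd 3456, .fwd 1228],
   .loop none [.fwd 3462],
   .loop none [.fwd 3059, .bwd 3458],
   .loop none [.fwd 389, .fwd 3463, .fwd 1229],
   .loop none [.fwd 3465],
   .loop none [.fwd 398, .fwd 3466, .fwd 1230],
   .loop none [.fwd 3467],
   .loop none [.fwd 397, .fwd 3468, .fwd 1231],
   .loop none [.fwd 3469],
   .loop none [.fwd 2348, .bwd 3470],
   .loop (some (9, 2)) [.fwd 141, .bwd 3447, .bwd 714],
   .loop (some (15, 2)) [.bwd 721, .bwd 720, .bwd 3447, .fwd 762],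
   .loop (some (6, 1)) [.fwd 3447, .fwd 3451, .bwd 3447],
   .loop (some (3, 3)) [.bwd 296, .bwd 329, .fwd 296],
   .loop (some (1, 2)) [.bwd 530, .bwd 3475, .fwd 530],
   .loop (some (9, 2)) [.bwd 530, .bwd 599, .bwd 287],
   .loop (some (5, 2)) [.bwd 805, .fwd 164, .fwd 2055],
   .loop (some (13, 2)) [.bwd 609, .bwd 163, .bwd 287],
   .loop (some (0, 0)) [.fwd 3447, .fwd 3459],
   .loop (some (2, 2)) [.bwd 609, .fwd 923, .fwd 879],
   .loop (some (11, 3)) [.bwd 163, .bwd 844, .fwd 163],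
   .loop (some (18, 3)) [.bwd 2988, .fwd 294, .fwd 1766, .bwd 812, .bwd 927, .bwd 3482, .fwd 923, .bwd 905],
   .loop none [.bwd 3483],
   .loop none [.fwd 2988, .bwd 3484],
   .loop (some (8, 2)) [.bwd 805, .bwd 3459, .fwd 1396],
   .loop (some (23, 5)) [.fwd 1130, .fwd 1131, .fwd 1132, .fwd 1133, .fwd 1134, .fwd 1135, .fwd 1136, .fwd 1137, .bwd 1106, .bwd 31, .bwd 30, .bwd 29, .fwd 163, .bwd 3482, .fwd 923, .bwd 905, .fwd 3485, .bwd 293],
   .loop none [.bwd 3487],
   .loop none [.bwd 293, .fwd 3488, .bwd 1129],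
   .loop none [.fwd 3489],
   .loop none [.bwd 1130, .bwd 3488],
   .loop none [.fwd 3485, .fwd 3490, .bwd 1128],
   .loop none [.fwd 3492],
   .loop none [.bwd 905, .fwd 3493, .bwd 1127],
   .loop none [.fwd 3494],
   .loop none [.fwd 1391, .fwd 3495, .bwd 1030],
   .loop none [.bwd 3496],
   .loop none [.bwd 1031, .bwd 3495],
   .loop none [.bwd 1034, .fwd 3497, .bwd 1390]]

theorem just13_len : just13.length = 250 := by decide +kernel

theorem just13_ok : cert.okFacts 3250 just13 = true := by decide +kernel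

/-- justifications -/
noncomputable def just14 : List Cert.Just :=
  [.loop none [.fwd 3499],
   .loop none [.bwd 1391, .bwd 3497],
   .loop none [.fwd 1389, .bwd 3500],
   .loop (some (1, 2)) [.bwd 609, .bwd 3482, .fwd 609],
   .loop (some (17, 3)) [.bwd 2814, .bwd 2266, .fwd 2265, .fwd 164, .fwd 165, .bwd 1101],
   .loop (some (9, 2)) [.bwd 609, .bwd 3459, .bwd 141],
   .loop (some (15, 2)) [.bwd 165, .bwd 164, .bwd 3459, .fwd 720],
   .loop (some (5, 2)) [.bwd 2056, .bwd 2055, .fwd 165, .fwd 166],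
   .loop none [.bwd 3507],
   .loop none [.fwd 2056, .bwd 3508],
   .loop none [.bwd 167, .fwd 3508, .fwd 2057],
   .loop none [.fwd 3510],
   .loop none [.bwd 2058, .bwd 3511],
   .loop (some (3, 3)) [.bwd 164, .bwd 3482, .fwd 164],
   .loop (some (4, 3)) [.bwd 164, .fwd 923, .bwd 3501],
   .loop (some (10, 1)) [.fwd 3514, .fwd 3513, .bwd 931],
   .loop (some (22, 3)) [.bwd 1385, .bwd 1384, .bwd 136, .bwd 132, .fwd 28, .fwd 163, .fwd 164, .fwd 165, .bwd 2981, .bwd 2980, .bwd 2979],
   .loop (some (5, 1)) [.bwd 167, .bwd 166, .bwd 1101],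
   .loop (some (3, 3)) [.bwd 165, .bwd 3513, .fwd 165],
   .loop (some (4, 3)) [.bwd 165, .bwd 3514, .fwd 1034],
   .loop (some (18, 6)) [.bwd 1367, .bwd 3518, .bwd 3519, .bwd 1034, .bwd 3515, .fwd 824, .fwd 825],
   .loop (some (23, 18)) [.bwd 3518, .bwd 3519, .bwd 1034, .bwd 3515, .bwd 989, .fwd 990, .bwd 950, .fwd 954, .fwd 957, .fwd 958, .fwd 959, .fwd 960, .fwd 961, .fwd 962, .fwd 963, .fwd 964, .fwd 965, .fwd 966],
   .loop none [.fwd 3521],
   .loop none [.fwd 165, .fwd 3522, .fwd 967],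
   .loop none [.fwd 3523],
   .loop none [.fwd 966, .bwd 3522],
   .loop none [.fwd 1720, .fwd 3524, .fwd 968],
   .loop none [.bwd 3526],
   .loop none [.fwd 2337, .fwd 3527, .bwd 1719],
   .loop none [.fwd 3528],
   .loop none [.bwd 1720, .bwd 3527],
   .loop none [.fwd 1718, .bwd 3529],
   .loop (some (15, 2)) [.bwd 3504, .fwd 1101, .bwd 3506, .fwd 721],
   .loop (some (6, 1)) [.fwd 3506, .fwd 3518, .bwd 3506],
   .loop (some (10, 1)) [.fwd 3519, .fwd 3518, .fwd 1367],
   .loop (some (5, 3)) [.bwd 168, .bwd 3517, .fwd 3504],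
   .loop (some (8, 0)) [.bwd 722, .fwd 3532, .fwd 3535],
   .loop (some (16, 5)) [.fwd 193, .fwd 194, .fwd 3250, .fwd 815, .bwd 918],
   .loop (some (0, 2)) [.fwd 3284, .bwd 3434],
   .loop (some (8, 2)) [.fwd 193, .bwd 3538, .bwd 117],
   .loop (some (7, 3)) [.fwd 816, .bwd 861, .bwd 1407, .fwd 3442],
   .loop none [.fwd 3540],
   .loop none [.fwd 3442, .bwd 3541],
   .loop none [.fwd 2222, .bwd 3541],
   .loop (some (19, 6)) [.fwd 917, .fwd 918, .fwd 816, .bwd 846, .bwd 244, .bwd 816, .bwd 918, .bwd 917, .bwd 916],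
   .loop none [.bwd 3544],
   .loop none [.bwd 917, .bwd 3545],
   .loop (some (14, 1)) [.fwd 1347, .fwd 3441, .bwd 3543],
   .loop (some (8, 2)) [.bwd 219, .bwd 3441, .fwd 711],
   .loop (some (0, 1)) [.fwd 3548, .fwd 3443],
   .loop (some (9, 2)) [.fwd 2358, .bwd 3548, .bwd 1379],
   .loop (some (14, 3)) [.bwd 220, .fwd 3443, .fwd 139],
   .loop (some (0, 0)) [.fwd 3472, .fwd 3505],
   .loop (some (12, 2)) [.fwd 3481, .bwd 3479, .bwd 889],
   .loop (some (6, 1)) [.fwd 3505, .fwd 3503, .bwd 3505],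
   .loop (some (20, 5)) [.fwd 3121, .fwd 3122, .bwd 1641, .bwd 1635, .bwd 234, .bwd 2681, .fwd 3026, .fwd 3098, .fwd 3103],
   .loop none [.bwd 3555],
   .loop none [.fwd 3120, .bwd 3556],
   .loop none [.bwd 3121, .bwd 3556],
   .loop (some (5, 1)) [.bwd 3046, .fwd 3044, .fwd 235],
   .loop (some (17, 3)) [.fwd 3122, .bwd 1641, .bwd 1635, .fwd 235, .fwd 236, .fwd 237],
   .loop (some (15, 2)) [.bwd 236, .bwd 235, .bwd 1678, .fwd 235],
   .loop (some (5, 1)) [.fwd 3014, .bwd 3559, .fwd 236],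
   .loop (some (5, 1)) [.fwd 3013, .bwd 3562, .fwd 237],
   .loop (some (8, 2)) [.bwd 3562, .bwd 3561, .fwd 3559],
   .loop (some (15, 2)) [.bwd 3560, .bwd 237, .bwd 3561, .fwd 236],
   .loop (some (20, 1)) [.fwd 3141, .fwd 194, .bwd 1652, .fwd 119, .fwd 234, .fwd 235, .fwd 236, .fwd 237, .fwd 238],
   .loop none [.bwd 3566],
   .loop none [.fwd 3140, .bwd 3567],
   .loop none [.bwd 3141, .bwd 3567],
   .loop (some (16, 3)) [.bwd 239, .bwd 238, .fwd 3563, .bwd 3012, .bwd 3011],
   .loop (some (5, 0)) [.fwd 193, .bwd 3569, .fwd 239],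
   .loop (some (2, 1)) [.fwd 3010, .fwd 3570, .fwd 240],
   .loop (some (16, 5)) [.bwd 3572, .fwd 241, .fwd 242, .fwd 3253, .fwd 888, .bwd 981],
   .loop none [.bwd 3573],
   .loop none [.fwd 980, .fwd 3574, .fwd 3010],
   .loop none [.fwd 3575],
   .loop none [.bwd 981, .fwd 3574, .bwd 3009],
   .loop none [.fwd 3577],
   .loop none [.fwd 3572, .bwd 3574],
   .loop none [.fwd 979, .fwd 3576, .fwd 3011],
   .loop none [.fwd 3580],
   .loop none [.bwd 3570, .bwd 3576],
   .loop none [.fwd 888, .fwd 3578, .bwd 3008],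
   .loop none [.fwd 3583],
   .loop none [.fwd 978, .fwd 3581, .fwd 3012],
   .loop none [.fwd 3585],
   .loop none [.fwd 927, .fwd 3584, .bwd 3007],
   .loop none [.fwd 3587],
   .loop none [.fwd 3563, .bwd 3586],
   .loop none [.bwd 3013, .bwd 3586],
   .loop none [.bwd 164, .fwd 3588, .bwd 3006],
   .loop none [.fwd 3591],
   .loop none [.bwd 165, .fwd 3592, .bwd 3005],
   .loop none [.fwd 3593],
   .loop none [.bwd 166, .fwd 3594, .bwd 3004],
   .loop none [.fwd 3595],
   .loop none [.bwd 167, .fwd 3596, .bwd 3003],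
   .loop none [.fwd 3597],
   .loop none [.bwd 168, .fwd 3598, .bwd 3002],
   .loop none [.fwd 3599],
   .loop none [.fwd 3001, .bwd 3600],
   .loop (some (0, 2)) [.fwd 3260, .bwd 3229],
   .loop (some (8, 2)) [.fwd 241, .bwd 3602, .bwd 749],
   .loop (some (14, 1)) [.fwd 3202, .bwd 3258, .fwd 3259],
   .loop (some (3, 1)) [.bwd 288, .fwd 1456, .fwd 288],
   .loop (some (4, 1)) [.bwd 1584, .bwd 1457, .fwd 288],
   .loop (some (2, 2)) [.bwd 284, .fwd 1457, .fwd 1581],
   .loop (some (1, 2)) [.bwd 284, .bwd 1456, .fwd 284],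
   .loop (some (10, 1)) [.bwd 1460, .bwd 1457, .fwd 1456, .bwd 489],
   .loop none [.bwd 3609],
   .loop none [.fwd 488, .fwd 3610, .fwd 1463],
   .loop none [.fwd 3611],
   .loop none [.bwd 1461, .bwd 3610],
   .loop none [.fwd 1460, .bwd 3610],
   .loop none [.bwd 1464, .bwd 3612],
   .loop (some (3, 1)) [.bwd 285, .fwd 3608, .fwd 285],
   .loop (some (4, 1)) [.bwd 1582, .fwd 3607, .fwd 285],
   .loop (some (5, 1)) [.bwd 866, .fwd 794, .bwd 286],
   .loop (some (7, 2)) [.fwd 889, .bwd 920, .bwd 3077],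
   .loop (some (0, 1)) [.fwd 920, .fwd 3477],
   .loop (some (3, 1)) [.bwd 866, .fwd 906, .fwd 866],
   .loop (some (19, 6)) [.fwd 980, .fwd 981, .fwd 889, .bwd 906, .bwd 794, .bwd 889, .bwd 981, .bwd 980, .bwd 979],
   .loop none [.bwd 3622],
   .loop none [.fwd 978, .fwd 3623, .fwd 3582],
   .loop none [.bwd 3624],
   .loop none [.fwd 239, .fwd 3625, .fwd 3589],
   .loop none [.bwd 3626],
   .loop none [.bwd 3571, .fwd 3625, .fwd 3590],
   .loop none [.fwd 3628],
   .loop none [.fwd 977, .bwd 3625],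
   .loop none [.bwd 239, .bwd 3627],
   .loop none [.bwd 3560, .fwd 3627, .fwd 3568],
   .loop none [.fwd 3632],
   .loop none [.fwd 237, .fwd 3627, .fwd 3569],
   .loop none [.bwd 3634],
   .loop none [.bwd 3014, .bwd 3629],
   .loop none [.fwd 3539, .fwd 3629, .bwd 3564],
   .loop none [.fwd 3637],
   .loop none [.fwd 3558, .fwd 3633, .bwd 3139],
   .loop none [.fwd 3639],
   .loop none [.bwd 237, .bwd 3635],
   .loop none [.bwd 3284, .fwd 3635, .fwd 3565],
   .loop none [.fwd 3642],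
   .loop none [.fwd 3046, .bwd 3638],
   .loop none [.fwd 3636, .bwd 3638],
   .loop none [.fwd 3103, .fwd 3640, .bwd 3228],
   .loop none [.bwd 3646],
   .loop none [.fwd 3193, .fwd 3640, .fwd 3142],
   .loop none [.bwd 3648],
   .loop none [.bwd 3217, .fwd 3643, .bwd 3558],
   .loop none [.fwd 3650],
   .loop none [.bwd 3218, .fwd 3643, .bwd 3560],
   .loop none [.bwd 3652],
   .loop none [.fwd 3098, .bwd 3647],
   .loop none [.fwd 104, .fwd 3651, .bwd 3103, .bwd 3647],
   .loop none [.fwd 3655],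
   .loop none [.fwd 3256, .fwd 3651, .bwd 3193, .bwd 3649],
   .loop none [.fwd 3657],
   .loop none [.bwd 3207, .fwd 3651, .fwd 3557],
   .loop none [.fwd 3659],
   .loop none [.fwd 3218, .bwd 3653],
   .loop none [.bwd 3030, .fwd 3656, .bwd 749],
   .loop none [.fwd 3662],
   .loop none [.fwd 103, .fwd 3656, .fwd 3654],
   .loop none [.fwd 3664],
   .loop none [.fwd 3258, .fwd 3656, .fwd 3602],
   .loop none [.bwd 3666],
   .loop none [.fwd 3202, .fwd 3656, .fwd 3230],
   .loop none [.fwd 3668],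
   .loop none [.fwd 3667, .fwd 3658],
   .loop none [.fwd 3282, .fwd 3670],
   .loop none [.bwd 3143, .fwd 3670],
   .loop none [.fwd 717, .fwd 3660, .bwd 3119],
   .loop none [.fwd 3673],
   .loop none [.bwd 884, .fwd 3663, .fwd 3603],
   .loop none [.bwd 3675],
   .loop none [.fwd 102, .fwd 3665, .bwd 698],
   .loop none [.fwd 3677],
   .loop none [.bwd 3671, .fwd 3667, .fwd 3257],
   .loop none [.bwd 3679],
   .loop none [.bwd 3672, .fwd 3667, .fwd 3259],
   .loop none [.bwd 3681],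
   .loop none [.bwd 3197, .fwd 3669, .fwd 3118, .bwd 3674],
   .loop none [.bwd 3683],
   .loop none [.fwd 240, .fwd 3676, .bwd 759],
   .loop none [.bwd 3685],
   .loop none [.fwd 3579, .fwd 3676, .fwd 888],
   .loop none [.bwd 3687],
   .loop none [.bwd 3017, .bwd 3676],
   .loop none [.fwd 3498, .bwd 3676],
   .loop none [.bwd 2673, .fwd 3678, .fwd 3080],
   .loop none [.bwd 3691],
   .loop none [.fwd 194, .fwd 3680, .bwd 3281],
   .loop none [.fwd 3693],
   .loop none [.fwd 3672, .bwd 3682],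
   .loop none [.bwd 704, .fwd 3684, .bwd 3197],
   .loop none [.fwd 3696],
   .loop none [.bwd 240, .bwd 3686],
   .loop none [.fwd 612, .fwd 3686, .bwd 3631],
   .loop none [.fwd 3699],
   .loop none [.fwd 28, .fwd 3686, .fwd 3571],
   .loop none [.fwd 3701],
   .loop none [.bwd 29, .fwd 3686, .fwd 3630],
   .loop none [.fwd 3703],
   .loop none [.bwd 3579, .bwd 3688],
   .loop none [.fwd 369, .fwd 3692, .fwd 3051],
   .loop none [.fwd 3706],
   .loop none [.fwd 2673, .bwd 3692],
   .loop none [.bwd 3018, .bwd 3692],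
   .loop none [.fwd 3461, .bwd 3692],
   .loop none [.fwd 3702, .fwd 193, .fwd 3694, .bwd 3280],
   .loop none [.fwd 3711],
   .loop none [.bwd 620, .fwd 3697, .fwd 3200],
   .loop none [.fwd 3713],
   .loop none [.bwd 584, .fwd 3697, .fwd 3201],
   .loop none [.fwd 3715],
   .loop none [.bwd 585, .fwd 3697, .bwd 3604],
   .loop none [.fwd 3717],
   .loop none [.fwd 17, .fwd 3697, .fwd 3202],
   .loop none [.fwd 3719],
   .loop none [.fwd 620, .fwd 3700, .fwd 3661],
   .loop none [.fwd 3721],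
   .loop none [.bwd 614, .fwd 3700, .bwd 3641],
   .loop none [.fwd 3723],
   .loop none [.bwd 231, .fwd 3702, .bwd 192],
   .loop none [.bwd 3725],
   .loop none [.bwd 217, .fwd 3702, .bwd 3537],
   .loop none [.fwd 3727],
   .loop none [.bwd 132, .fwd 3702, .bwd 3645],
   .loop none [.fwd 3729],
   .loop none [.fwd 374, .fwd 3704, .bwd 976],
   .loop none [.fwd 3731],
   .loop none [.fwd 3707, .fwd 3476, .bwd 3707],
   .loop none [.fwd 368, .fwd 3707, .bwd 573, .bwd 3707],
   .loop none [.fwd 3734],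
   .loop none [.fwd 3735, .fwd 3707],
   .loop none [.fwd 367, .bwd 3736, .bwd 530],
   .loop none [.bwd 3737],
   .loop none [.fwd 869, .fwd 3736],
   .loop none [.fwd 2883, .fwd 3736],
   .loop none [.bwd 3620, .fwd 3736],
   .loop none [.fwd 3477, .fwd 3736],
   .loop none [.fwd 3446, .fwd 3736],
   .loop none [.bwd 531, .fwd 3736],
   .loop none [.fwd 3726, .bwd 231, .fwd 3712, .bwd 3279],
   .loop none [.fwd 3745],
   .loop none [.bwd 617, .fwd 3714, .bwd 1661],
   .loop none [.fwd 3747],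
   .loop none [.fwd 53, .fwd 3716, .bwd 2684]]

theorem just14_len : just14.length = 250 := by decide +kernel

theorem just14_ok : cert.okFacts 3500 just14 = true := by decide +kernel

/-- justifications -/
noncomputable def just15 : List Cert.Just :=
  [.loop none [.fwd 3749],
   .loop none [.fwd 617, .fwd 3718, .fwd 3695],
   .loop none [.fwd 3751],
   .loop none [.fwd 660, .fwd 3720, .fwd 3030],
   .loop none [.fwd 3753],
   .loop none [.fwd 17, .fwd 3722, .fwd 3292],
   .loop none [.fwd 3755],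
   .loop none [.fwd 3, .fwd 3724, .fwd 194],
   .loop none [.fwd 3757],
   .loop none [.fwd 231, .bwd 3726],
   .loop none [.fwd 191, .fwd 3726, .bwd 3250, .bwd 3758],
   .loop none [.bwd 3760],
   .loop none [.fwd 1766, .bwd 3726],
   .loop none [.fwd 816, .fwd 3728, .bwd 3546],
   .loop none [.fwd 3763],
   .loop none [.fwd 244, .fwd 3728, .fwd 918],
   .loop none [.fwd 3765],
   .loop none [.bwd 136, .fwd 3730, .fwd 3016],
   .loop none [.fwd 3767],
   .loop none [.bwd 66, .fwd 3730, .fwd 3644],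
   .loop none [.fwd 3769],
   .loop none [.fwd 373, .fwd 3732, .bwd 975],
   .loop none [.fwd 3771],
   .loop none [.fwd 3735, .fwd 3733, .bwd 3735],
   .loop none [.bwd 369, .bwd 3735],
   .loop none [.fwd 368, .bwd 3735],
   .loop none [.bwd 367, .bwd 3738],
   .loop none [.fwd 3761, .fwd 191, .fwd 3746, .bwd 3278],
   .loop none [.fwd 3777],
   .loop none [.fwd 614, .fwd 3748, .fwd 3133],
   .loop none [.fwd 3779],
   .loop none [.bwd 206, .fwd 3750, .bwd 102],
   .loop none [.bwd 3781],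
   .loop none [.bwd 612, .fwd 3752, .bwd 241],
   .loop none [.fwd 3783],
   .loop none [.fwd 668, .bwd 3754],
   .loop none [.bwd 374, .fwd 3754, .fwd 950],
   .loop none [.fwd 3786],
   .loop none [.fwd 877, .fwd 3754, .fwd 954],
   .loop none [.fwd 3788],
   .loop none [.fwd 660, .fwd 3756, .fwd 107],
   .loop none [.bwd 3790],
   .loop none [.fwd 54, .fwd 3761, .fwd 191],
   .loop none [.fwd 3792],
   .loop none [.fwd 3766, .fwd 3764],
   .loop none [.fwd 217, .bwd 3794, .bwd 915],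
   .loop none [.fwd 3795],
   .loop none [.fwd 3021, .bwd 3766],
   .loop none [.bwd 795, .fwd 3766, .bwd 1252],
   .loop none [.fwd 3798],
   .loop none [.bwd 983, .fwd 3766, .fwd 3547],
   .loop none [.fwd 3800],
   .loop none [.fwd 861, .fwd 3766, .fwd 3542],
   .loop none [.fwd 3802],
   .loop none [.bwd 1694, .fwd 3766, .fwd 3543],
   .loop none [.bwd 3804],
   .loop none [.bwd 2973, .fwd 3768, .fwd 2885],
   .loop none [.fwd 3806],
   .loop none [.bwd 83, .fwd 3770, .bwd 569],
   .loop none [.fwd 3808],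
   .loop none [.bwd 67, .fwd 3770, .fwd 3045],
   .loop none [.fwd 3810],
   .loop none [.fwd 3782, .fwd 3772],
   .loop none [.fwd 3708, .bwd 3812, .bwd 974],
   .loop none [.fwd 3813],
   .loop none [.fwd 3, .fwd 3778, .bwd 3277],
   .loop none [.fwd 3815],
   .loop none [.bwd 612, .fwd 3780, .fwd 2992],
   .loop none [.fwd 3817],
   .loop none [.fwd 3035, .bwd 3782],
   .loop none [.fwd 206, .bwd 3782],
   .loop none [.fwd 3708, .fwd 3782, .fwd 3776],
   .loop none [.bwd 3821],
   .loop none [.fwd 3305, .fwd 3791, .bwd 373, .bwd 3782],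
   .loop none [.bwd 3823],
   .loop none [.bwd 2675, .fwd 3782, .bwd 296],
   .loop none [.bwd 3825],
   .loop none [.fwd 3309, .fwd 3791, .bwd 378, .bwd 3782],
   .loop none [.bwd 3827],
   .loop none [.bwd 2677, .fwd 3782, .bwd 142],
   .loop none [.bwd 3829],
   .loop none [.fwd 3698, .bwd 3784],
   .loop none [.fwd 287, .fwd 3784, .bwd 3705],
   .loop none [.fwd 3832],
   .loop none [.bwd 3689, .bwd 3784],
   .loop none [.bwd 163, .fwd 3784, .fwd 3690],
   .loop none [.fwd 3835],
   .loop none [.fwd 717, .bwd 3787],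
   .loop none [.bwd 705, .fwd 3787, .bwd 2666],
   .loop none [.fwd 3838],
   .loop none [.bwd 30, .fwd 3787, .fwd 1087],
   .loop none [.fwd 3840],
   .loop none [.fwd 876, .fwd 3789, .fwd 957],
   .loop none [.fwd 3842],
   .loop none [.bwd 1331, .fwd 3789, .bwd 993],
   .loop none [.bwd 3844],
   .loop none [.bwd 108, .fwd 3791, .bwd 3785, .bwd 3791],
   .loop none [.bwd 3846],
   .loop none [.bwd 660, .bwd 3791],
   .loop none [.fwd 3301, .fwd 3791, .fwd 661],
   .loop none [.bwd 3849],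
   .loop none [.bwd 3326, .fwd 3791, .fwd 374],
   .loop none [.bwd 3851],
   .loop none [.bwd 3328, .fwd 3791, .fwd 758],
   .loop none [.bwd 3853],
   .loop none [.fwd 3340, .fwd 3791, .bwd 715],
   .loop none [.bwd 3855],
   .loop none [.bwd 3235, .fwd 3791, .bwd 877],
   .loop none [.bwd 3857],
   .loop none [.bwd 3759, .bwd 3793],
   .loop none [.bwd 133, .fwd 3793, .fwd 3762],
   .loop none [.fwd 3860],
   .loop none [.bwd 28, .fwd 3796, .bwd 914],
   .loop none [.fwd 3862],
   .loop none [.bwd 799, .fwd 3799, .bwd 1251],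
   .loop none [.fwd 3864],
   .loop none [.bwd 1005, .fwd 3801, .fwd 1347],
   .loop none [.fwd 3866],
   .loop none [.bwd 1384, .fwd 3803, .fwd 2976],
   .loop none [.fwd 3868],
   .loop none [.bwd 2973, .fwd 3803, .fwd 2823],
   .loop none [.bwd 3870],
   .loop none [.fwd 1703, .bwd 3805],
   .loop none [.bwd 1680, .bwd 3805],
   .loop none [.fwd 1694, .bwd 3805],
   .loop none [.fwd 3871, .fwd 3807],
   .loop none [.bwd 138, .bwd 3875, .fwd 2886],
   .loop none [.fwd 3876],
   .loop none [.fwd 3826, .fwd 3809],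
   .loop none [.fwd 5, .bwd 3878, .bwd 568],
   .loop none [.fwd 3879],
   .loop none [.fwd 305, .fwd 3811, .bwd 1477],
   .loop none [.fwd 3881],
   .loop none [.fwd 120, .fwd 3811, .fwd 1431],
   .loop none [.fwd 3883],
   .loop none [.fwd 3822, .fwd 3814],
   .loop none [.fwd 3775, .bwd 3885, .bwd 973],
   .loop none [.fwd 3886],
   .loop none [.fwd 616, .fwd 3816, .bwd 3276],
   .loop none [.fwd 3888],
   .loop none [.bwd 29, .fwd 3818, .fwd 2993],
   .loop none [.fwd 3890],
   .loop none [.fwd 3774, .bwd 3822],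
   .loop none [.bwd 3708, .bwd 3822],
   .loop none [.bwd 3740, .fwd 3822, .fwd 3709],
   .loop none [.fwd 3894],
   .loop none [.bwd 3744, .fwd 3822, .fwd 3710],
   .loop none [.bwd 3896],
   .loop none [.bwd 3305, .bwd 3824],
   .loop none [.fwd 3826, .bwd 2675, .fwd 3824, .fwd 3311],
   .loop none [.fwd 3899],
   .loop none [.fwd 3460, .fwd 3824, .fwd 3410],
   .loop none [.fwd 3901],
   .loop none [.fwd 83, .bwd 3826],
   .loop none [.fwd 2675, .bwd 3826],
   .loop none [.bwd 6, .fwd 3826, .fwd 462],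
   .loop none [.fwd 3905],
   .loop none [.bwd 3309, .bwd 3828],
   .loop none [.fwd 3830, .bwd 2677, .fwd 3828, .fwd 3440],
   .loop none [.fwd 3908],
   .loop none [.fwd 3460, .fwd 3828, .bwd 2827],
   .loop none [.fwd 3910],
   .loop none [.fwd 3452, .bwd 3830],
   .loop none [.bwd 1396, .fwd 3830, .fwd 3085],
   .loop none [.fwd 3913],
   .loop none [.bwd 720, .fwd 3830, .bwd 411],
   .loop none [.bwd 3915],
   .loop none [.bwd 2861, .fwd 3830, .fwd 3088],
   .loop none [.fwd 3917],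
   .loop none [.fwd 2677, .bwd 3830],
   .loop none [.bwd 889, .bwd 3833],
   .loop none [.fwd 286, .fwd 3833, .bwd 1583],
   .loop none [.fwd 3921],
   .loop none [.fwd 920, .fwd 3833, .bwd 3619],
   .loop none [.fwd 3923],
   .loop none [.bwd 3479, .fwd 3833, .fwd 3553],
   .loop none [.fwd 3925],
   .loop none [.fwd 923, .bwd 3836],
   .loop none [.bwd 805, .fwd 3836, .bwd 883],
   .loop none [.fwd 3928],
   .loop none [.bwd 164, .fwd 3836, .bwd 3501],
   .loop none [.fwd 3930],
   .loop none [.fwd 2265, .fwd 3836, .bwd 905],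
   .loop none [.fwd 3932],
   .loop none [.bwd 3480, .fwd 3836, .fwd 887],
   .loop none [.fwd 3934],
   .loop none [.fwd 878, .bwd 3836],
   .loop none [.bwd 2660, .bwd 3839],
   .loop none [.fwd 2658, .fwd 3839, .fwd 2667],
   .loop none [.bwd 3938],
   .loop none [.fwd 986, .bwd 3841],
   .loop none [.fwd 1004, .fwd 3841, .bwd 2486],
   .loop none [.bwd 3941],
   .loop none [.bwd 31, .fwd 3841, .bwd 35],
   .loop none [.fwd 3943],
   .loop none [.bwd 989, .fwd 3841, .bwd 969],
   .loop none [.fwd 3945],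
   .loop none [.fwd 59, .bwd 3841],
   .loop none [.bwd 958, .bwd 3843],
   .loop none [.fwd 1187, .bwd 3845],
   .loop none [.fwd 2347, .fwd 3845, .fwd 1107],
   .loop none [.bwd 3950],
   .loop none [.fwd 3935, .fwd 1331, .bwd 3845],
   .loop none [.fwd 2459, .fwd 3845, .fwd 1121],
   .loop none [.fwd 3953],
   .loop none [.fwd 1898, .bwd 3845],
   .loop none [.fwd 108, .bwd 3847],
   .loop none [.fwd 3935, .fwd 3858],
   .loop none [.fwd 3850, .fwd 3344, .bwd 3850],
   .loop none [.bwd 3301, .bwd 3850],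
   .loop none [.bwd 3312, .bwd 3850],
   .loop none [.bwd 662, .fwd 3850, .fwd 3306],
   .loop none [.fwd 3961],
   .loop none [.fwd 3326, .bwd 3852],
   .loop none [.fwd 3328, .bwd 3854],
   .loop none [.bwd 3957, .bwd 3382, .bwd 3856],
   .loop none [.bwd 945, .fwd 3856, .bwd 3392],
   .loop none [.fwd 3966],
   .loop none [.bwd 762, .fwd 3856, .bwd 3339],
   .loop none [.fwd 3968],
   .loop none [.bwd 3340, .bwd 3856],
   .loop none [.bwd 945, .bwd 3957, .bwd 1349],
   .loop none [.fwd 3971],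
   .loop none [.fwd 714, .bwd 3957, .fwd 3327, .bwd 3962],
   .loop none [.bwd 3973],
   .loop none [.bwd 762, .bwd 3957, .fwd 3413],
   .loop none [.fwd 3975],
   .loop none [.fwd 3235, .fwd 3957],
   .loop none [.fwd 864, .bwd 3861],
   .loop none [.bwd 2270, .fwd 3861, .bwd 2217],
   .loop none [.bwd 3979],
   .loop none [.bwd 804, .bwd 3861],
   .loop none [.fwd 1452, .fwd 3861, .fwd 2194],
   .loop none [.bwd 3982],
   .loop none [.bwd 295, .bwd 3861],
   .loop none [.bwd 29, .fwd 3863, .bwd 913],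
   .loop none [.fwd 3985],
   .loop none [.fwd 1196, .fwd 3865, .bwd 1250],
   .loop none [.bwd 3987],
   .loop none [.fwd 665, .fwd 3867, .fwd 711],
   .loop none [.fwd 3989],
   .loop none [.fwd 710, .bwd 3867],
   .loop none [.bwd 1385, .fwd 3869, .fwd 2977],
   .loop none [.fwd 3992],
   .loop none [.bwd 2820, .fwd 3871, .fwd 2837],
   .loop none [.bwd 3994],
   .loop none [.bwd 1088, .bwd 3871],
   .loop none [.fwd 2876, .fwd 3877, .fwd 2887],
   .loop none [.fwd 3997],
   .loop none [.fwd 4, .fwd 3880, .bwd 567]]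

theorem just15_len : just15.length = 250 := by decide +kernel

theorem just15_ok : cert.okFacts 3750 just15 = true := by decide +kernel

/-- justifications -/
noncomputable def just16 : List Cert.Just :=
  [.loop none [.fwd 3999],
   .loop none [.fwd 3884, .fwd 3882],
   .loop none [.fwd 935, .bwd 4001, .bwd 1511],
   .loop none [.fwd 4002],
   .loop none [.bwd 305, .bwd 3884],
   .loop none [.fwd 935, .fwd 3884, .fwd 529],
   .loop none [.bwd 4005],
   .loop none [.bwd 283, .fwd 3884, .bwd 1458],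
   .loop none [.fwd 4007],
   .loop none [.bwd 400, .fwd 3884, .fwd 525],
   .loop none [.fwd 4009],
   .loop none [.fwd 3892, .fwd 3887, .bwd 972],
   .loop none [.fwd 4011],
   .loop none [.fwd 620, .fwd 3889, .bwd 3275],
   .loop none [.fwd 4013],
   .loop none [.bwd 3963, .fwd 3891, .fwd 2994],
   .loop none [.fwd 4015],
   .loop none [.bwd 3019, .bwd 3895],
   .loop none [.fwd 2882, .fwd 3895, .fwd 3022],
   .loop none [.fwd 4018],
   .loop none [.fwd 3744, .bwd 3897],
   .loop none [.fwd 66, .fwd 3900, .bwd 3317],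
   .loop none [.fwd 4021],
   .loop none [.fwd 3906, .fwd 70, .fwd 3900, .bwd 3325],
   .loop none [.fwd 4023],
   .loop none [.bwd 2861, .fwd 3902, .fwd 3399],
   .loop none [.fwd 4025],
   .loop none [.fwd 381, .bwd 3906],
   .loop none [.fwd 313, .fwd 3906, .fwd 1532],
   .loop none [.fwd 4028],
   .loop none [.fwd 390, .fwd 3906, .bwd 326],
   .loop none [.bwd 4030],
   .loop none [.bwd 70, .bwd 3906],
   .loop none [.bwd 1396, .fwd 3909, .fwd 2985],
   .loop none [.fwd 4033],
   .loop none [.bwd 1396, .fwd 3911, .bwd 2826],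
   .loop none [.fwd 4035],
   .loop none [.fwd 2974, .bwd 3914],
   .loop none [.fwd 3916, .fwd 3533, .bwd 3916],
   .loop none [.bwd 414, .fwd 3916, .fwd 721],
   .loop none [.fwd 4039],
   .loop none [.fwd 720, .bwd 3916],
   .loop none [.bwd 3506, .bwd 3916],
   .loop none [.bwd 3464, .fwd 3918, .bwd 2754],
   .loop none [.bwd 4043],
   .loop none [.fwd 3617, .bwd 3922],
   .loop none [.fwd 285, .fwd 3922, .bwd 1582],
   .loop none [.fwd 4046],
   .loop none [.bwd 3077, .bwd 3924],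
   .loop none [.bwd 3481, .bwd 3926],
   .loop none [.fwd 753, .bwd 3926],
   .loop none [.fwd 882, .bwd 3929],
   .loop none [.bwd 3514, .bwd 3931],
   .loop none [.bwd 165, .fwd 3931, .fwd 1034],
   .loop none [.fwd 4053],
   .loop none [.bwd 2328, .bwd 3931],
   .loop none [.fwd 3933, .fwd 1900, .bwd 3933],
   .loop none [.fwd 2264, .bwd 3933],
   .loop none [.fwd 2520, .bwd 3933],
   .loop none [.fwd 2896, .bwd 3933],
   .loop none [.bwd 945, .fwd 3935, .bwd 1008],
   .loop none [.fwd 4060],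
   .loop none [.bwd 762, .fwd 3935, .bwd 876],
   .loop none [.fwd 4062],
   .loop none [.bwd 2650, .bwd 3939],
   .loop none [.bwd 96, .fwd 3939, .fwd 2651],
   .loop none [.fwd 4065],
   .loop none [.fwd 2631, .fwd 3939, .bwd 98],
   .loop none [.bwd 4067],
   .loop none [.fwd 95, .fwd 3939, .fwd 2653],
   .loop none [.fwd 4069],
   .loop none [.bwd 2654, .bwd 3939],
   .loop none [.bwd 2655, .bwd 3939],
   .loop none [.bwd 2658, .bwd 3939],
   .loop none [.fwd 2485, .bwd 3942],
   .loop none [.bwd 1004, .bwd 3942],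
   .loop none [.fwd 2504, .fwd 3942, .bwd 2338],
   .loop none [.fwd 4076],
   .loop none [.bwd 2490, .fwd 3942, .bwd 1003],
   .loop none [.bwd 4078],
   .loop none [.fwd 2521, .fwd 3942, .bwd 3471],
   .loop none [.bwd 4080],
   .loop none [.bwd 1119, .bwd 3944],
   .loop none [.fwd 2363, .fwd 3944, .fwd 1123],
   .loop none [.fwd 4083],
   .loop none [.bwd 32, .fwd 3944, .bwd 34],
   .loop none [.fwd 4085],
   .loop none [.fwd 1773, .fwd 3944, .bwd 1881],
   .loop none [.fwd 4087],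
   .loop none [.bwd 1110, .fwd 3944, .bwd 2445],
   .loop none [.bwd 4089],
   .loop none [.fwd 1188, .bwd 3944],
   .loop none [.fwd 1017, .bwd 3946],
   .loop none [.bwd 2289, .bwd 3946],
   .loop none [.fwd 1194, .fwd 3946, .bwd 1249],
   .loop none [.fwd 4094],
   .loop none [.bwd 2326, .fwd 3946, .fwd 2292],
   .loop none [.bwd 4096],
   .loop none [.bwd 2293, .bwd 3946],
   .loop none [.bwd 3530, .bwd 3946],
   .loop none [.bwd 2511, .fwd 3951, .bwd 1207],
   .loop none [.bwd 4100],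
   .loop none [.bwd 2347, .bwd 3951],
   .loop none [.fwd 1691, .fwd 3954, .fwd 2531],
   .loop none [.fwd 4103],
   .loop none [.fwd 3391, .bwd 3967],
   .loop none [.fwd 3338, .bwd 3969],
   .loop none [.bwd 4105, .fwd 3972, .bwd 1348],
   .loop none [.bwd 4107],
   .loop none [.bwd 663, .fwd 3974, .bwd 713],
   .loop none [.fwd 4109],
   .loop none [.bwd 714, .bwd 3974],
   .loop none [.bwd 3472, .bwd 3974],
   .loop none [.fwd 3552, .bwd 3974],
   .loop none [.bwd 4106, .fwd 3976, .bwd 3400, .bwd 4026],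
   .loop none [.bwd 4114],
   .loop none [.bwd 1802, .bwd 3980],
   .loop none [.fwd 2270, .bwd 3980],
   .loop none [.fwd 2353, .fwd 3980, .bwd 2272],
   .loop none [.bwd 4118],
   .loop none [.fwd 2267, .bwd 3980],
   .loop none [.fwd 2171, .bwd 3983],
   .loop none [.fwd 90, .fwd 3983, .bwd 2649],
   .loop none [.fwd 4122],
   .loop none [.bwd 1868, .fwd 3983, .bwd 1854],
   .loop none [.bwd 4124],
   .loop none [.bwd 1452, .bwd 3983],
   .loop none [.bwd 2451, .fwd 3983, .fwd 2460],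
   .loop none [.fwd 4127],
   .loop none [.bwd 3963, .fwd 3986, .bwd 912],
   .loop none [.fwd 4129],
   .loop none [.bwd 801, .fwd 3988, .bwd 1195],
   .loop none [.fwd 4131],
   .loop none [.fwd 1084, .fwd 3990, .bwd 1379],
   .loop none [.fwd 4133],
   .loop none [.fwd 3549, .bwd 3990],
   .loop none [.fwd 4110, .bwd 712, .bwd 3990],
   .loop none [.bwd 1386, .fwd 3993, .fwd 2978],
   .loop none [.fwd 4137],
   .loop none [.bwd 2967, .fwd 3995, .fwd 2821],
   .loop none [.bwd 4139],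
   .loop none [.fwd 2820, .bwd 3995],
   .loop none [.bwd 2888, .bwd 3998],
   .loop none [.bwd 11, .fwd 4000, .bwd 566],
   .loop none [.fwd 4143],
   .loop none [.fwd 4006, .fwd 4003],
   .loop none [.fwd 1510, .fwd 4145],
   .loop none [.bwd 1455, .bwd 4006],
   .loop none [.fwd 934, .bwd 4006],
   .loop none [.bwd 935, .bwd 4006],
   .loop none [.bwd 1514, .bwd 4006],
   .loop none [.fwd 475, .fwd 4006, .bwd 1526],
   .loop none [.fwd 4151],
   .loop none [.fwd 1457, .bwd 4008],
   .loop none [.bwd 288, .fwd 4008, .fwd 1584],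
   .loop none [.fwd 4154],
   .loop none [.fwd 3614, .bwd 4008],
   .loop none [.bwd 406, .bwd 4010],
   .loop none [.bwd 469, .fwd 4010, .fwd 1522],
   .loop none [.fwd 4158],
   .loop none [.bwd 383, .fwd 4010, .bwd 472],
   .loop none [.fwd 4160],
   .loop none [.fwd 68, .bwd 4010],
   .loop none [.fwd 3775, .fwd 4012, .bwd 971],
   .loop none [.fwd 4163],
   .loop none [.fwd 587, .fwd 4014, .bwd 3274],
   .loop none [.fwd 4165],
   .loop none [.fwd 3970, .fwd 4016, .fwd 2995],
   .loop none [.fwd 4167],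
   .loop none [.bwd 3023, .bwd 4019],
   .loop none [.bwd 136, .fwd 4022, .bwd 3316],
   .loop none [.fwd 4170],
   .loop none [.fwd 313, .fwd 4024, .bwd 3324],
   .loop none [.fwd 4172],
   .loop none [.fwd 4029, .fwd 2746, .bwd 4029],
   .loop none [.fwd 2844, .bwd 4029],
   .loop none [.fwd 458, .fwd 4029, .bwd 1576],
   .loop none [.fwd 4176],
   .loop none [.bwd 405, .bwd 4031],
   .loop none [.bwd 1515, .fwd 4031, .fwd 464],
   .loop none [.bwd 4179],
   .loop none [.bwd 390, .bwd 4031],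
   .loop none [.fwd 3096, .fwd 4031, .bwd 389],
   .loop none [.bwd 4182],
   .loop none [.bwd 1397, .fwd 4034, .fwd 2986],
   .loop none [.fwd 4184],
   .loop none [.bwd 1397, .fwd 4036, .bwd 2884],
   .loop none [.bwd 4186],
   .loop none [.bwd 4037, .fwd 4036, .bwd 2825],
   .loop none [.fwd 4188],
   .loop none [.bwd 3261, .fwd 4040, .fwd 722],
   .loop none [.bwd 4190],
   .loop none [.bwd 3532, .bwd 4040],
   .loop none [.fwd 3473, .bwd 4040],
   .loop none [.fwd 2753, .fwd 4044, .bwd 3058],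
   .loop none [.fwd 4194],
   .loop none [.fwd 3464, .bwd 4044],
   .loop none [.bwd 3607, .bwd 4047],
   .loop none [.bwd 3519, .bwd 4054],
   .loop none [.fwd 2981, .fwd 4054, .fwd 3502],
   .loop none [.bwd 4199],
   .loop none [.bwd 1367, .fwd 4054, .fwd 1035],
   .loop none [.bwd 4201],
   .loop none [.bwd 3525, .fwd 4054, .bwd 3534, .bwd 4202],
   .loop none [.fwd 4203],
   .loop none [.bwd 2530, .bwd 4061],
   .loop none [.bwd 1319, .bwd 4063],
   .loop none [.bwd 763, .fwd 4063, .bwd 875],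
   .loop none [.fwd 4207],
   .loop none [.fwd 4115, .bwd 4106, .fwd 4063, .fwd 3948],
   .loop none [.bwd 4209],
   .loop none [.bwd 2894, .bwd 4066],
   .loop none [.bwd 2622, .fwd 4066, .fwd 2647],
   .loop none [.bwd 4212],
   .loop none [.fwd 4187, .fwd 4185],
   .loop none [.fwd 2637, .bwd 4068],
   .loop none [.fwd 2638, .bwd 4068],
   .loop none [.bwd 2631, .bwd 4068],
   .loop none [.bwd 2643, .fwd 4068, .fwd 2141],
   .loop none [.bwd 4218],
   .loop none [.bwd 2203, .bwd 4068],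
   .loop none [.bwd 2838, .bwd 4070],
   .loop none [.fwd 4213, .fwd 2708, .fwd 4070, .fwd 2839],
   .loop none [.fwd 4222],
   .loop none [.fwd 2744, .fwd 4070, .fwd 2841],
   .loop none [.bwd 4224],
   .loop none [.bwd 312, .bwd 4070],
   .loop none [.fwd 4093, .fwd 4077, .fwd 1053],
   .loop none [.fwd 4227],
   .loop none [.bwd 2505, .fwd 4077, .fwd 3531],
   .loop none [.fwd 4229],
   .loop none [.fwd 2490, .bwd 4079],
   .loop none [.fwd 4058, .bwd 4081],
   .loop none [.bwd 2521, .bwd 4081],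
   .loop none [.fwd 2362, .bwd 4084],
   .loop none [.bwd 2366, .fwd 4084, .bwd 1323],
   .loop none [.fwd 4235],
   .loop none [.bwd 1219, .bwd 4086],
   .loop none [.fwd 33, .bwd 4086],
   .loop none [.fwd 2516, .fwd 4086, .bwd 803],
   .loop none [.bwd 4239],
   .loop none [.bwd 1104, .bwd 4086],
   .loop none [.bwd 1880, .bwd 4088],
   .loop none [.fwd 1863, .fwd 4088, .bwd 292],
   .loop none [.bwd 4243],
   .loop none [.bwd 1321, .fwd 4088, .fwd 3491],
   .loop none [.bwd 4245],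
   .loop none [.fwd 1899, .fwd 4088, .bwd 1942, .bwd 4246],
   .loop none [.fwd 4247],
   .loop none [.bwd 2456, .bwd 4090]]

theorem just16_len : just16.length = 250 := by decide +kernel

theorem just16_ok : cert.okFacts 4000 just16 = true := by decide +kernel

/-- justifications -/
noncomputable def just17 : List Cert.Just :=
  [.loop none [.fwd 1110, .bwd 4090],
   .loop none [.fwd 1772, .bwd 4090],
   .loop none [.bwd 2327, .bwd 4095],
   .loop none [.bwd 2149, .bwd 4097],
   .loop none [.bwd 1996, .fwd 4097, .bwd 1779],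
   .loop none [.bwd 4254],
   .loop none [.bwd 2024, .fwd 4097, .fwd 2959, .bwd 4213],
   .loop none [.bwd 4256],
   .loop none [.fwd 2326, .bwd 4097],
   .loop none [.fwd 2241, .fwd 4097, .fwd 317],
   .loop none [.bwd 4259],
   .loop none [.fwd 2511, .bwd 4101],
   .loop none [.fwd 1206, .fwd 4101, .bwd 2336],
   .loop none [.bwd 4262],
   .loop none [.bwd 2532, .bwd 4104],
   .loop none [.fwd 4105, .bwd 4108],
   .loop none [.fwd 4210, .fwd 4115],
   .loop none [.fwd 4106, .fwd 4266],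
   .loop none [.fwd 4119, .fwd 2349, .bwd 4119],
   .loop none [.bwd 2350, .bwd 4119],
   .loop none [.bwd 2353, .bwd 4119],
   .loop none [.bwd 2354, .bwd 4119],
   .loop none [.fwd 4189, .bwd 2917, .bwd 4119],
   .loop none [.bwd 2355, .bwd 4119],
   .loop none [.fwd 4242, .fwd 4123, .fwd 2648],
   .loop none [.fwd 4274],
   .loop none [.bwd 2329, .fwd 4125, .fwd 1930],
   .loop none [.bwd 4276],
   .loop none [.fwd 2972, .fwd 4125, .fwd 1943],
   .loop none [.bwd 4278],
   .loop none [.bwd 2584, .bwd 4125],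
   .loop none [.bwd 2927, .bwd 4125],
   .loop none [.bwd 2462, .bwd 4128],
   .loop none [.fwd 2443, .bwd 4128],
   .loop none [.bwd 2394, .fwd 4128, .fwd 2465],
   .loop none [.bwd 4284],
   .loop none [.fwd 3959, .fwd 4130, .bwd 911],
   .loop none [.fwd 4286],
   .loop none [.bwd 1246, .fwd 4132, .fwd 1191],
   .loop none [.bwd 4288],
   .loop none [.fwd 1378, .bwd 4134],
   .loop none [.bwd 3550, .bwd 4134],
   .loop none [.bwd 3516, .bwd 4138],
   .loop none [.fwd 2967, .bwd 4140],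
   .loop none [.bwd 2822, .fwd 4140, .fwd 2968],
   .loop none [.fwd 4294],
   .loop none [.bwd 52, .fwd 4144, .bwd 565],
   .loop none [.fwd 4296],
   .loop none [.fwd 474, .fwd 4152, .bwd 1525],
   .loop none [.fwd 4298],
   .loop none [.fwd 3606, .bwd 4155],
   .loop none [.bwd 289, .fwd 4155, .bwd 1859],
   .loop none [.fwd 4301],
   .loop none [.bwd 1523, .bwd 4159],
   .loop none [.fwd 471, .bwd 4161],
   .loop none [.fwd 1474, .bwd 4161],
   .loop none [.bwd 3893, .fwd 4164, .bwd 970],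
   .loop none [.fwd 4306],
   .loop none [.fwd 3848, .fwd 4166, .bwd 3273],
   .loop none [.fwd 4308],
   .loop none [.bwd 762, .fwd 4168, .fwd 2996],
   .loop none [.fwd 4310],
   .loop none [.fwd 3315, .bwd 4171],
   .loop none [.bwd 459, .fwd 4173, .bwd 3323],
   .loop none [.fwd 4313],
   .loop none [.bwd 2724, .bwd 4177],
   .loop none [.fwd 1515, .bwd 4180],
   .loop none [.bwd 3096, .bwd 4183],
   .loop none [.fwd 388, .fwd 4183, .fwd 3097],
   .loop none [.fwd 4318],
   .loop none [.fwd 830, .bwd 4214, .fwd 1713],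
   .loop none [.fwd 4320],
   .loop none [.bwd 2920, .bwd 4187],
   .loop none [.fwd 1397, .bwd 4187],
   .loop none [.bwd 2247, .bwd 4187],
   .loop none [.fwd 2627, .bwd 4187],
   .loop none [.bwd 2875, .bwd 4189],
   .loop none [.fwd 2824, .bwd 4189],
   .loop none [.bwd 2879, .bwd 4189],
   .loop none [.fwd 3261, .bwd 4191],
   .loop none [.bwd 723, .fwd 4191, .fwd 3262],
   .loop none [.fwd 4330],
   .loop none [.fwd 2752, .fwd 4195, .bwd 3057, .bwd 4213],
   .loop none [.bwd 4332],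
   .loop none [.bwd 2981, .bwd 4200],
   .loop none [.fwd 4204, .fwd 4202],
   .loop none [.fwd 3520, .fwd 4335],
   .loop none [.fwd 965, .bwd 4335, .fwd 1368],
   .loop none [.fwd 4337],
   .loop none [.fwd 1367, .fwd 4335],
   .loop none [.fwd 965, .fwd 4204, .fwd 1036],
   .loop none [.fwd 4340],
   .loop none [.fwd 874, .bwd 4208],
   .loop none [.fwd 2861, .bwd 4210],
   .loop none [.fwd 4196, .bwd 4210],
   .loop none [.bwd 4267, .fwd 4210, .fwd 2043],
   .loop none [.fwd 4345],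
   .loop none [.bwd 2756, .bwd 4213],
   .loop none [.bwd 2708, .bwd 4213],
   .loop none [.fwd 2695, .fwd 4213, .fwd 2245],
   .loop none [.bwd 4349],
   .loop none [.fwd 2622, .bwd 4213],
   .loop none [.bwd 2596, .bwd 4219],
   .loop none [.bwd 2597, .bwd 4219],
   .loop none [.bwd 2103, .fwd 4219, .fwd 2598],
   .loop none [.bwd 4354],
   .loop none [.fwd 2643, .bwd 4219],
   .loop none [.bwd 2602, .bwd 4219],
   .loop none [.bwd 2604, .bwd 4219],
   .loop none [.bwd 4347, .fwd 4223, .bwd 2760],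
   .loop none [.fwd 4359],
   .loop none [.fwd 4225, .fwd 2784, .bwd 4225],
   .loop none [.fwd 2797, .bwd 4225],
   .loop none [.bwd 2013, .fwd 4225, .bwd 2800],
   .loop none [.bwd 4363],
   .loop none [.bwd 2791, .bwd 4225],
   .loop none [.bwd 2744, .bwd 4225],
   .loop none [.fwd 2324, .fwd 4225, .fwd 2745],
   .loop none [.fwd 4367],
   .loop none [.bwd 2794, .bwd 4225],
   .loop none [.bwd 824, .fwd 4228, .fwd 1054],
   .loop none [.fwd 4370],
   .loop none [.fwd 1717, .bwd 4230],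
   .loop none [.fwd 2444, .bwd 4236],
   .loop none [.bwd 1236, .fwd 4240, .bwd 1175],
   .loop none [.bwd 4374],
   .loop none [.bwd 2517, .bwd 4240],
   .loop none [.fwd 4244, .fwd 1909, .bwd 4244],
   .loop none [.fwd 1883, .bwd 4244],
   .loop none [.bwd 1482, .bwd 4244],
   .loop none [.bwd 1863, .bwd 4244],
   .loop none [.fwd 291, .fwd 4244, .bwd 1481],
   .loop none [.fwd 4381],
   .loop none [.fwd 2365, .bwd 4244],
   .loop none [.fwd 1867, .bwd 4244],
   .loop none [.fwd 4248, .fwd 4246],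
   .loop none [.bwd 1941, .fwd 4385],
   .loop none [.bwd 2862, .bwd 4385, .bwd 1885],
   .loop none [.bwd 4387],
   .loop none [.fwd 1321, .fwd 4385],
   .loop none [.fwd 2087, .bwd 4255],
   .loop none [.fwd 1996, .bwd 4255],
   .loop none [.bwd 1997, .bwd 4255],
   .loop none [.fwd 4252, .bwd 4255],
   .loop none [.fwd 2012, .bwd 4255],
   .loop none [.fwd 4098, .bwd 4257],
   .loop none [.fwd 2024, .bwd 4257],
   .loop none [.fwd 4260, .fwd 2235, .bwd 4260],
   .loop none [.bwd 2236, .bwd 4260],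
   .loop none [.bwd 2237, .bwd 4260],
   .loop none [.bwd 2238, .bwd 4260],
   .loop none [.fwd 4324, .fwd 4260, .fwd 2239],
   .loop none [.fwd 4401],
   .loop none [.fwd 4055, .bwd 4260],
   .loop none [.bwd 2241, .bwd 4260],
   .loop none [.bwd 1206, .bwd 4263],
   .loop none [.bwd 1760, .fwd 4275, .bwd 1929],
   .loop none [.fwd 4406],
   .loop none [.fwd 2329, .bwd 4277],
   .loop none [.fwd 1959, .bwd 4277],
   .loop none [.bwd 2972, .bwd 4279],
   .loop none [.bwd 2395, .bwd 4285],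
   .loop none [.fwd 4280, .bwd 4285],
   .loop none [.fwd 701, .fwd 4287, .bwd 910],
   .loop none [.fwd 4413],
   .loop none [.fwd 1246, .bwd 4289],
   .loop none [.bwd 2969, .bwd 4295],
   .loop none [.bwd 587, .fwd 4297, .bwd 564],
   .loop none [.fwd 4417],
   .loop none [.fwd 1524, .bwd 4299],
   .loop none [.fwd 1479, .bwd 4302],
   .loop none [.fwd 3460, .fwd 4307, .bwd 680],
   .loop none [.fwd 4421],
   .loop none [.fwd 3898, .fwd 4309, .bwd 3272],
   .loop none [.fwd 4423],
   .loop none [.bwd 763, .fwd 4311, .fwd 2997],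
   .loop none [.fwd 4425],
   .loop none [.fwd 3322, .bwd 4314],
   .loop none [.fwd 387, .fwd 4319, .bwd 1530],
   .loop none [.fwd 4428],
   .loop none [.bwd 1714, .bwd 4321],
   .loop none [.bwd 724, .fwd 4331, .fwd 3263],
   .loop none [.fwd 4431],
   .loop none [.bwd 2752, .bwd 4333],
   .loop none [.bwd 1369, .bwd 4338],
   .loop none [.bwd 4434, .fwd 4341, .fwd 1037],
   .loop none [.bwd 4435],
   .loop none [.bwd 763, .fwd 4346, .fwd 2044],
   .loop none [.fwd 4437],
   .loop none [.bwd 2695, .bwd 4350],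
   .loop none [.fwd 2694, .bwd 4350],
   .loop none [.fwd 2103, .bwd 4355],
   .loop none [.bwd 2104, .bwd 4355],
   .loop none [.bwd 2111, .fwd 4355, .bwd 2110],
   .loop none [.bwd 4443],
   .loop none [.bwd 2757, .fwd 4360, .bwd 2759],
   .loop none [.fwd 4445],
   .loop none [.bwd 2085, .bwd 4364],
   .loop none [.fwd 2013, .bwd 4364],
   .loop none [.bwd 2014, .bwd 4364],
   .loop none [.fwd 2734, .bwd 4368],
   .loop none [.bwd 2504, .fwd 4371, .fwd 1055],
   .loop none [.fwd 4451],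
   .loop none [.fwd 1236, .bwd 4375],
   .loop none [.bwd 1860, .bwd 4382],
   .loop none [.fwd 2862, .bwd 4388],
   .loop none [.fwd 2628, .fwd 4402, .bwd 2047],
   .loop none [.fwd 4456],
   .loop none [.fwd 4448, .fwd 4407, .bwd 1928],
   .loop none [.bwd 4458],
   .loop none [.fwd 4048, .fwd 4414, .bwd 909],
   .loop none [.fwd 4460],
   .loop none [.fwd 579, .fwd 4418, .bwd 563],
   .loop none [.fwd 4462],
   .loop none [.fwd 4041, .fwd 4422, .bwd 679],
   .loop none [.fwd 4464],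
   .loop none [.fwd 3904, .fwd 4424, .bwd 3271],
   .loop none [.fwd 4466],
   .loop none [.bwd 764, .fwd 4426, .fwd 2998],
   .loop none [.fwd 4468],
   .loop none [.bwd 2815, .bwd 4429],
   .loop none [.bwd 725, .fwd 4432, .fwd 3264],
   .loop none [.fwd 4471],
   .loop none [.fwd 4434, .bwd 4436],
   .loop none [.bwd 2045, .bwd 4438],
   .loop none [.bwd 2583, .fwd 4444, .fwd 2112],
   .loop none [.bwd 4475],
   .loop none [.fwd 2111, .bwd 4444],
   .loop none [.fwd 2775, .bwd 4446],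
   .loop none [.fwd 896, .fwd 4452, .fwd 1056],
   .loop none [.fwd 4479],
   .loop none [.fwd 4351, .fwd 4457, .bwd 2046],
   .loop none [.fwd 4481],
   .loop none [.fwd 1927, .fwd 4459, .fwd 4447],
   .loop none [.fwd 4483],
   .loop none [.bwd 4448, .bwd 4459],
   .loop none [.fwd 1946, .bwd 4459],
   .loop none [.bwd 2801, .bwd 4459],
   .loop none [.bwd 4449, .bwd 4459],
   .loop none [.fwd 701, .fwd 4461, .bwd 908],
   .loop none [.fwd 4489],
   .loop none [.fwd 704, .fwd 4463, .bwd 562],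
   .loop none [.fwd 4491],
   .loop none [.bwd 414, .fwd 4465, .bwd 678],
   .loop none [.fwd 4493],
   .loop none [.fwd 4032, .fwd 4467, .bwd 3270],
   .loop none [.fwd 4495],
   .loop none [.bwd 765, .fwd 4469, .fwd 2999],
   .loop none [.fwd 4497],
   .loop none [.bwd 726, .fwd 4472, .fwd 3265]]

theorem just17_len : just17.length = 250 := by decide +kernel

theorem just17_ok : cert.okFacts 4250 just17 = true := by decide +kernel

/-- justifications -/
noncomputable def just18 : List Cert.Just :=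
  [.loop none [.fwd 4499],
   .loop none [.fwd 2583, .bwd 4476],
   .loop none [.fwd 895, .fwd 4480, .fwd 1057],
   .loop none [.fwd 4502],
   .loop none [.bwd 321, .fwd 4482, .bwd 4474],
   .loop none [.fwd 4504],
   .loop none [.bwd 2086, .bwd 4484],
   .loop none [.bwd 3959, .fwd 4490, .bwd 907],
   .loop none [.fwd 4507],
   .loop none [.fwd 3837, .fwd 4492, .bwd 561],
   .loop none [.fwd 4509],
   .loop none [.fwd 4329, .fwd 4494, .bwd 677],
   .loop none [.bwd 4511],
   .loop none [.fwd 313, .fwd 4496, .bwd 3269],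
   .loop none [.fwd 4513],
   .loop none [.bwd 766, .fwd 4498, .fwd 3000],
   .loop none [.fwd 4515],
   .loop none [.bwd 727, .fwd 4500, .fwd 3266],
   .loop none [.fwd 4517],
   .loop none [.bwd 3952, .fwd 4503, .fwd 1058],
   .loop none [.fwd 4519],
   .loop none [.bwd 764, .bwd 4505],
   .loop none [.bwd 4342, .bwd 4505],
   .loop none [.fwd 763, .bwd 4505],
   .loop none [.fwd 3977, .fwd 4508, .bwd 175],
   .loop none [.bwd 4524],
   .loop none [.bwd 704, .fwd 4510, .bwd 560],
   .loop none [.fwd 4526],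
   .loop none [.bwd 4329, .bwd 4512],
   .loop none [.fwd 676, .fwd 4512, .fwd 723],
   .loop none [.fwd 4529],
   .loop none [.fwd 3536, .bwd 4512],
   .loop none [.bwd 459, .fwd 4514, .bwd 3268],
   .loop none [.fwd 4532],
   .loop none [.bwd 767, .fwd 4516, .bwd 3601],
   .loop none [.bwd 4534],
   .loop none [.bwd 728, .fwd 4518, .fwd 3267, .bwd 4533],
   .loop none [.bwd 4536],
   .loop none [.fwd 4525, .fwd 4520],
   .loop none [.bwd 1059, .fwd 4538],
   .loop none [.fwd 4525, .fwd 3474, .bwd 4525],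
   .loop none [.fwd 4525, .fwd 3965, .bwd 4525],
   .loop none [.bwd 4539, .fwd 4525, .fwd 945],
   .loop none [.bwd 4542],
   .loop none [.fwd 4111, .bwd 4525],
   .loop none [.fwd 174, .fwd 4525, .fwd 762],
   .loop none [.fwd 4545],
   .loop none [.fwd 3952, .bwd 4525],
   .loop none [.bwd 3447, .bwd 4525],
   .loop none [.fwd 3480, .bwd 4525],
   .loop none [.bwd 3977, .bwd 4525],
   .loop none [.bwd 3970, .bwd 4525],
   .loop none [.fwd 579, .fwd 4527, .bwd 559],
   .loop none [.fwd 4552],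
   .loop none [.fwd 675, .fwd 4530, .fwd 724],
   .loop none [.fwd 4554],
   .loop none [.fwd 767, .bwd 4535],
   .loop none [.bwd 671, .fwd 4537, .bwd 728],
   .loop none [.fwd 4557],
   .loop none [.fwd 4539, .bwd 4543],
   .loop none [.bwd 4205, .fwd 4543, .fwd 1060],
   .loop none [.bwd 4560],
   .loop none [.bwd 4206, .bwd 4546],
   .loop none [.fwd 173, .fwd 4546, .bwd 4523],
   .loop none [.fwd 4563],
   .loop none [.fwd 4193, .bwd 4546],
   .loop none [.fwd 4267, .bwd 4546],
   .loop none [.fwd 1043, .bwd 4546],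
   .loop none [.fwd 587, .fwd 4553, .fwd 2898],
   .loop none [.fwd 4568],
   .loop none [.bwd 725, .bwd 4555],
   .loop none [.bwd 672, .fwd 4558, .bwd 727],
   .loop none [.fwd 4571],
   .loop none [.fwd 4205, .bwd 4561],
   .loop none [.fwd 172, .fwd 4564, .fwd 4521],
   .loop none [.fwd 4574],
   .loop none [.bwd 4522, .bwd 4564],
   .loop none [.bwd 322, .bwd 4564],
   .loop none [.fwd 321, .bwd 4564],
   .loop none [.fwd 52, .fwd 4569, .fwd 2899],
   .loop none [.fwd 4579],
   .loop none [.bwd 673, .fwd 4572, .bwd 726],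
   .loop none [.fwd 4581],
   .loop none [.fwd 171, .fwd 4575, .fwd 765],
   .loop none [.fwd 4583],
   .loop none [.fwd 3820, .fwd 4580, .fwd 2900],
   .loop none [.fwd 4585],
   .loop none [.fwd 4570, .bwd 4582],
   .loop none [.fwd 170, .fwd 4584, .fwd 766],
   .loop none [.fwd 4588],
   .loop none [.fwd 3904, .fwd 4586, .fwd 2901],
   .loop none [.fwd 4590],
   .loop none [.fwd 4556, .bwd 4589],
   .loop none [.fwd 66, .fwd 4591, .fwd 2902],
   .loop none [.fwd 4593],
   .loop none [.fwd 4073, .fwd 4594, .fwd 2903],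
   .loop none [.fwd 4595],
   .loop none [.bwd 2609, .fwd 4596, .fwd 2904],
   .loop none [.fwd 4597],
   .loop none [.bwd 138, .fwd 4598, .fwd 2905],
   .loop none [.fwd 4599],
   .loop none [.bwd 2906, .bwd 4600],
   .loop (some (15, 2)) [.fwd 285, .fwd 286, .bwd 920, .bwd 798],
   .loop (some (5, 3)) [.bwd 288, .bwd 4147, .fwd 4148],
   .loop (some (3, 1)) [.fwd 1454, .fwd 3605, .bwd 1454],
   .loop (some (4, 1)) [.fwd 1454, .fwd 4300, .bwd 1454],
   .loop (some (11, 1)) [.bwd 289, .fwd 3605, .fwd 289],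
   .loop (some (8, 0)) [.bwd 4147, .fwd 4150, .fwd 4603],
   .loop (some (12, 1)) [.bwd 289, .fwd 4300, .fwd 289],
   .loop (some (18, 2)) [.bwd 3615, .fwd 488, .fwd 489, .fwd 288, .fwd 289, .bwd 4606, .bwd 4608],
   .loop (some (17, 4)) [.bwd 1465, .bwd 4609, .fwd 290, .fwd 291, .fwd 2320, .bwd 1999],
   .loop (some (15, 0)) [.bwd 2364, .bwd 4383, .bwd 291, .bwd 290],
   .loop (some (6, 1)) [.bwd 4611, .fwd 4606, .fwd 4611],
   .loop (some (3, 3)) [.bwd 290, .bwd 4606, .fwd 290],
   .loop (some (4, 3)) [.bwd 290, .bwd 4608, .fwd 290],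
   .loop (some (20, 5)) [.bwd 4609, .fwd 290, .fwd 291, .fwd 4380, .bwd 89, .bwd 4270, .fwd 4271, .fwd 1780],
   .loop (some (5, 1)) [.bwd 1483, .bwd 4379, .fwd 2320],
   .loop (some (0, 0)) [.bwd 2366, .bwd 4383],
   .loop (some (14, 1)) [.bwd 2367, .bwd 4383, .fwd 4384],
   .loop (some (11, 1)) [.bwd 4384, .fwd 4377, .fwd 4384],
   .loop (some (8, 2)) [.bwd 4379, .fwd 4383, .bwd 1080],
   .loop (some (12, 1)) [.bwd 4384, .fwd 4378, .fwd 4384],
   .loop (some (10, 0)) [.bwd 4384, .fwd 4378, .fwd 4377],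
   .loop (some (5, 2)) [.bwd 391, .bwd 399, .fwd 459, .fwd 671],
   .loop none [.fwd 4623],
   .loop none [.fwd 671, .bwd 4624],
   .loop none [.fwd 468, .fwd 4624, .fwd 672],
   .loop none [.fwd 4626],
   .loop none [.fwd 524, .fwd 4627, .fwd 673],
   .loop none [.fwd 4628],
   .loop none [.bwd 674, .bwd 4629],
   .loop none [.bwd 4587, .bwd 4629],
   .loop (some (13, 2)) [.fwd 458, .fwd 2849, .bwd 2575],
   .loop (some (14, 3)) [.fwd 2849, .bwd 4450, .fwd 2505],
   .loop (some (2, 2)) [.fwd 458, .bwd 4175, .bwd 458],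
   .loop (some (1, 2)) [.fwd 458, .bwd 4174, .bwd 458],
   .loop (some (15, 2)) [.bwd 460, .bwd 459, .bwd 4633, .fwd 4372],
   .loop (some (6, 1)) [.fwd 4633, .fwd 4174, .bwd 4633],
   .loop (some (5, 2)) [.bwd 4399, .fwd 318, .fwd 2723],
   .loop (some (14, 3)) [.fwd 2168, .bwd 4396, .fwd 4433],
   .loop (some (6, 1)) [.fwd 4639, .fwd 4397, .bwd 4639],
   .loop (some (5, 2)) [.bwd 2548, .bwd 2723, .bwd 1691, .fwd 2213],
   .loop none [.bwd 4641],
   .loop none [.fwd 2548, .bwd 4642],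
   .loop none [.bwd 1828, .fwd 4642, .fwd 2549],
   .loop none [.fwd 4644],
   .loop none [.bwd 2550, .bwd 4645],
   .loop (some (7, 3)) [.fwd 2459, .bwd 3949, .bwd 2459],
   .loop (some (0, 0)) [.bwd 3955, .bwd 2459],
   .loop (some (3, 3)) [.bwd 318, .bwd 4397, .fwd 318],
   .loop (some (14, 1)) [.fwd 4250, .bwd 994, .bwd 2459, .fwd 2330],
   .loop none [.fwd 4650],
   .loop none [.bwd 320, .fwd 4651, .bwd 418],
   .loop none [.fwd 4652],
   .loop none [.fwd 2720, .fwd 4651, .bwd 2330],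
   .loop none [.bwd 4654],
   .loop none [.bwd 4433, .fwd 4653, .bwd 417],
   .loop none [.bwd 4656],
   .loop none [.bwd 2719, .bwd 4655],
   .loop none [.fwd 1691, .fwd 4655, .fwd 1734],
   .loop none [.fwd 4659],
   .loop none [.bwd 2720, .bwd 4655],
   .loop none [.fwd 4657, .fwd 4640, .bwd 4657],
   .loop none [.bwd 2753, .bwd 4657],
   .loop none [.bwd 4639, .bwd 4657],
   .loop none [.fwd 4433, .bwd 4657],
   .loop none [.fwd 2701, .fwd 4660, .fwd 1735],
   .loop none [.bwd 4666],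
   .loop none [.fwd 2700, .bwd 4667],
   .loop none [.bwd 2701, .bwd 4667],
   .loop (some (9, 2)) [.bwd 4658, .fwd 2459, .bwd 4102],
   .loop (some (15, 5)) [.fwd 2459, .bwd 4547, .fwd 4548, .bwd 4343, .fwd 959],
   .loop none [.fwd 4671],
   .loop none [.fwd 1691, .fwd 4672, .bwd 959],
   .loop none [.bwd 4673],
   .loop none [.bwd 4661, .fwd 4672, .fwd 960],
   .loop none [.fwd 4675],
   .loop none [.bwd 2213, .bwd 4674],
   .loop none [.fwd 1690, .bwd 4674],
   .loop none [.bwd 4343, .fwd 4674, .bwd 4669],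
   .loop none [.fwd 4679],
   .loop none [.bwd 1691, .bwd 4674],
   .loop none [.bwd 4344, .fwd 4674, .fwd 4264],
   .loop none [.bwd 4682],
   .loop none [.fwd 2388, .fwd 4676, .fwd 961],
   .loop none [.fwd 4684],
   .loop none [.bwd 1396, .fwd 4680, .fwd 1736],
   .loop none [.fwd 4686],
   .loop none [.fwd 141, .fwd 4680, .fwd 4668],
   .loop none [.fwd 4688],
   .loop none [.fwd 4663, .bwd 4683],
   .loop none [.fwd 4344, .bwd 4683],
   .loop none [.fwd 4358, .fwd 4685, .fwd 962],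
   .loop none [.fwd 4692],
   .loop none [.bwd 1737, .bwd 4687],
   .loop none [.fwd 2699, .bwd 4689],
   .loop none [.fwd 4365, .fwd 4693, .fwd 963],
   .loop none [.bwd 4696],
   .loop none [.fwd 4697, .fwd 4361, .bwd 4697],
   .loop none [.fwd 4697, .fwd 4362, .bwd 4697],
   .loop none [.bwd 1864, .bwd 4697],
   .loop none [.fwd 4485, .bwd 4697],
   .loop none [.bwd 4365, .bwd 4697],
   .loop none [.fwd 1760, .bwd 4697],
   .loop none [.bwd 4366, .bwd 4697],
   .loop none [.fwd 2324, .bwd 4697],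
   .loop none [.bwd 4369, .bwd 4697],
   .loop none [.bwd 964, .fwd 4697, .bwd 2852],
   .loop none [.bwd 4707],
   .loop none [.bwd 460, .fwd 4708, .fwd 965],
   .loop none [.fwd 4709],
   .loop none [.fwd 964, .bwd 4708],
   .loop none [.bwd 2853, .fwd 4708, .bwd 4473],
   .loop none [.bwd 4712],
   .loop none [.bwd 461, .fwd 4710, .fwd 4336],
   .loop none [.fwd 4714],
   .loop none [.bwd 2856, .fwd 4710, .bwd 3525],
   .loop none [.bwd 4716],
   .loop none [.bwd 4339, .bwd 4710],
   .loop none [.fwd 1416, .bwd 4713],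
   .loop none [.fwd 2853, .bwd 4713],
   .loop none [.bwd 388, .fwd 4715, .fwd 826],
   .loop none [.fwd 4721],
   .loop none [.fwd 825, .bwd 4715],
   .loop none [.fwd 2856, .bwd 4717],
   .loop none [.bwd 490, .fwd 4722, .fwd 827],
   .loop none [.fwd 4725],
   .loop none [.bwd 828, .bwd 4726],
   .loop (some (13, 2)) [.bwd 2452, .fwd 4373, .bwd 319, .fwd 4658],
   .loop none [.bwd 4728],
   .loop none [.fwd 2452, .bwd 4729],
   .loop (some (3, 1)) [.bwd 320, .fwd 2453, .fwd 320],
   .loop (some (4, 2)) [.bwd 320, .fwd 4249, .fwd 320, .fwd 4347],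
   .loop none [.fwd 4732],
   .loop none [.fwd 4347, .bwd 4733],
   .loop none [.bwd 4348, .fwd 4733, .fwd 2757],
   .loop none [.fwd 4735],
   .loop none [.bwd 95, .fwd 4736, .fwd 4478],
   .loop none [.fwd 4737],
   .loop none [.bwd 2609, .fwd 4738, .bwd 2774],
   .loop none [.fwd 4739],
   .loop none [.bwd 138, .fwd 4740, .bwd 2773],
   .loop none [.fwd 4741],
   .loop none [.bwd 4601, .fwd 4742, .bwd 2772],
   .loop none [.bwd 4743],
   .loop none [.fwd 4601, .bwd 4744],
   .loop none [.fwd 2771, .fwd 4744, .fwd 2907],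
   .loop none [.fwd 4746],
   .loop none [.fwd 2770, .fwd 4747, .fwd 2908],
   .loop none [.fwd 4748]]

theorem just18_len : just18.length = 250 := by decide +kernel

theorem just18_ok : cert.okFacts 4500 just18 = true := by decide +kernel

/-- justifications -/
noncomputable def just19 : List Cert.Just :=
  [.loop none [.bwd 2909, .bwd 4749],
   .loop (some (18, 7)) [.fwd 4661, .bwd 2453, .bwd 4249, .fwd 320, .bwd 4578, .fwd 173, .fwd 4567, .bwd 1042],
   .loop none [.fwd 4751],
   .loop none [.fwd 4681, .fwd 4752, .fwd 1042],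
   .loop none [.fwd 4753],
   .loop none [.bwd 319, .fwd 4752, .bwd 1041],
   .loop none [.fwd 4755],
   .loop none [.fwd 4691, .fwd 4754, .bwd 4567],
   .loop none [.bwd 4757],
   .loop none [.fwd 2388, .fwd 4756, .bwd 1040],
   .loop none [.fwd 4759],
   .loop none [.fwd 173, .fwd 4758, .fwd 4690],
   .loop none [.fwd 4761],
   .loop none [.bwd 4691, .bwd 4758],
   .loop none [.fwd 93, .fwd 4760, .bwd 1039],
   .loop none [.fwd 4764],
   .loop none [.fwd 4762, .fwd 4662, .bwd 4762],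
   .loop none [.bwd 4577, .fwd 4762, .bwd 416],
   .loop none [.fwd 4767],
   .loop none [.bwd 4664, .bwd 4762],
   .loop none [.bwd 4665, .bwd 4762],
   .loop none [.fwd 4702, .fwd 4765, .bwd 1038],
   .loop none [.fwd 4771],
   .loop none [.fwd 415, .bwd 4768],
   .loop none [.bwd 4703, .fwd 4772, .fwd 4719],
   .loop none [.fwd 4774],
   .loop none [.bwd 4706, .fwd 4772, .fwd 4720],
   .loop none [.bwd 4776],
   .loop none [.fwd 4389, .fwd 4775, .bwd 1415],
   .loop none [.fwd 4778],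
   .loop none [.fwd 4706, .bwd 4777],
   .loop none [.fwd 4455, .fwd 4779, .bwd 1414],
   .loop none [.fwd 4781],
   .loop none [.fwd 1413, .bwd 4782],
   .loop (some (22, 3)) [.bwd 1780, .bwd 4271, .fwd 4270, .bwd 88, .bwd 4126, .bwd 2645, .bwd 97, .bwd 4351, .bwd 4439, .bwd 1783, .bwd 1782],
   .loop (some (13, 2)) [.bwd 2725, .fwd 4439, .bwd 4578, .fwd 4576],
   .loop none [.bwd 4785],
   .loop none [.bwd 2726, .bwd 4786],
   .loop none [.fwd 2725, .bwd 4786],
   .loop (some (2, 2)) [.fwd 4439, .bwd 4734, .bwd 4439],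
   .loop (some (18, 6)) [.bwd 4577, .fwd 4770, .bwd 4731, .bwd 4734, .fwd 4351, .fwd 2628, .bwd 830, .fwd 4430],
   .loop none [.fwd 4790],
   .loop none [.fwd 2406, .fwd 4791, .fwd 1715],
   .loop none [.bwd 4792],
   .loop none [.bwd 323, .fwd 4791, .bwd 4430],
   .loop none [.fwd 4794],
   .loop none [.bwd 2406, .bwd 4793],
   .loop none [.bwd 830, .bwd 4795],
   .loop none [.fwd 829, .bwd 4795],
   .loop (some (1, 2)) [.fwd 4439, .bwd 4731, .bwd 4439],
   .loop (some (12, 1)) [.fwd 4578, .fwd 4734, .bwd 4578],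
   .loop (some (9, 2)) [.fwd 4439, .fwd 4396, .bwd 4391],
   .loop (some (3, 3)) [.bwd 4577, .bwd 4766, .fwd 4577],
   .loop (some (4, 3)) [.bwd 4577, .bwd 4800, .fwd 4577],
   .loop (some (11, 1)) [.bwd 4773, .fwd 4802, .fwd 4773],
   .loop (some (17, 1)) [.bwd 895, .bwd 4547, .bwd 174, .bwd 173, .fwd 4577, .bwd 4796],
   .loop (some (12, 1)) [.bwd 4773, .fwd 4803, .fwd 4773],
   .loop (some (10, 2)) [.fwd 4803, .fwd 4802, .fwd 323, .fwd 4798],
   .loop none [.fwd 4807],
   .loop none [.fwd 4796, .fwd 4808, .bwd 4727],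
   .loop none [.bwd 4809],
   .loop none [.bwd 4773, .fwd 4808, .bwd 4798],
   .loop none [.bwd 4811],
   .loop none [.bwd 491, .fwd 4810, .fwd 4805],
   .loop none [.fwd 4813],
   .loop none [.bwd 4796, .bwd 4810],
   .loop none [.bwd 1716, .bwd 4810],
   .loop none [.fwd 4812, .fwd 4804, .bwd 4812],
   .loop none [.fwd 4812, .fwd 4806, .bwd 4812],
   .loop none [.fwd 4528, .bwd 4812],
   .loop none [.bwd 3093, .bwd 4812],
   .loop none [.bwd 324, .fwd 4812, .bwd 414],
   .loop none [.fwd 4821],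
   .loop none [.bwd 4192, .bwd 4812],
   .loop none [.fwd 4565, .bwd 4812],
   .loop none [.fwd 4773, .bwd 4812],
   .loop none [.bwd 2506, .bwd 4814],
   .loop none [.bwd 492, .fwd 4814, .bwd 895],
   .loop none [.fwd 4827],
   .loop none [.bwd 896, .bwd 4814],
   .loop none [.fwd 4822, .fwd 4038, .bwd 4822],
   .loop none [.bwd 4041, .bwd 4822],
   .loop none [.bwd 4042, .bwd 4822],
   .loop none [.fwd 410, .bwd 4822],
   .loop none [.fwd 4828, .fwd 1313, .bwd 4828],
   .loop none [.fwd 4828, .fwd 3949, .bwd 4828],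
   .loop none [.fwd 4102, .bwd 4828],
   .loop none [.fwd 4547, .bwd 4828],
   .loop none [.fwd 2459, .bwd 4828],
   .loop none [.fwd 4091, .bwd 4828],
   .loop none [.bwd 994, .bwd 4828],
   .loop (some (22, 3)) [.bwd 936, .bwd 932, .bwd 709, .fwd 3963, .bwd 3898, .bwd 3919, .bwd 4831, .bwd 324, .fwd 4820, .bwd 939, .bwd 938],
   .loop (some (5, 2)) [.fwd 676, .bwd 4819, .fwd 4797, .bwd 2889],
   .loop none [.fwd 4842],
   .loop none [.bwd 2889, .bwd 4843],
   .loop none [.fwd 4142, .bwd 4843],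
   .loop (some (7, 1)) [.bwd 4824, .fwd 4818, .fwd 4824],
   .loop (some (0, 1)) [.bwd 4824, .fwd 4823],
   .loop (some (4, 1)) [.bwd 324, .fwd 4818, .fwd 324],
   .loop (some (14, 1)) [.bwd 4763, .bwd 4824, .bwd 323],
   .loop (some (2, 2)) [.bwd 4820, .bwd 4818, .fwd 4820],
   .loop (some (18, 6)) [.fwd 4815, .bwd 4825, .bwd 4817, .bwd 4818, .fwd 324, .fwd 325, .bwd 4317, .bwd 398],
   .loop none [.bwd 4851],
   .loop none [.fwd 397, .fwd 4852, .fwd 491],
   .loop none [.fwd 4853],
   .loop none [.bwd 4815, .bwd 4852],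
   .loop none [.bwd 398, .fwd 4852, .fwd 4816],
   .loop none [.fwd 4856],
   .loop none [.fwd 490, .bwd 4852],
   .loop none [.bwd 4826, .bwd 4854],
   .loop none [.fwd 396, .fwd 4854, .fwd 492],
   .loop none [.fwd 4860],
   .loop none [.bwd 4829, .bwd 4854],
   .loop none [.fwd 388, .fwd 4857, .bwd 4372],
   .loop none [.fwd 4863],
   .loop none [.bwd 4636, .bwd 4857],
   .loop none [.fwd 4861, .fwd 4834, .bwd 4861],
   .loop none [.fwd 4861, .fwd 4835, .bwd 4861],
   .loop none [.bwd 493, .bwd 4861],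
   .loop none [.fwd 395, .fwd 4861, .fwd 4836],
   .loop none [.fwd 4869],
   .loop none [.bwd 4837, .bwd 4861],
   .loop none [.bwd 4838, .bwd 4861],
   .loop none [.bwd 4839, .bwd 4861],
   .loop none [.bwd 4840, .bwd 4861],
   .loop none [.fwd 4864, .fwd 4637, .bwd 4864],
   .loop none [.fwd 461, .fwd 4864, .fwd 899],
   .loop none [.fwd 4876],
   .loop none [.bwd 4633, .bwd 4864],
   .loop none [.fwd 2505, .bwd 4864],
   .loop none [.fwd 4261, .bwd 4870],
   .loop none [.bwd 4670, .bwd 4870],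
   .loop none [.fwd 4618, .bwd 4870],
   .loop none [.fwd 2367, .bwd 4870],
   .loop none [.bwd 4718, .fwd 4877, .fwd 900],
   .loop none [.fwd 4884],
   .loop none [.fwd 1101, .fwd 4885, .fwd 901],
   .loop none [.bwd 4886],
   .loop none [.bwd 1896, .fwd 4887, .fwd 3517],
   .loop none [.bwd 4888],
   .loop none [.bwd 1897, .fwd 4887, .bwd 1100],
   .loop none [.bwd 4890],
   .loop none [.fwd 4455, .fwd 4887, .fwd 3504],
   .loop none [.fwd 4892],
   .loop none [.bwd 1101, .bwd 4887],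
   .loop none [.fwd 1896, .bwd 4889],
   .loop none [.bwd 3512, .fwd 4889, .bwd 1874],
   .loop none [.bwd 4896],
   .loop none [.fwd 4891, .fwd 4619, .bwd 4891],
   .loop none [.fwd 4891, .fwd 4621, .bwd 4891],
   .loop none [.bwd 1958, .bwd 4891],
   .loop none [.fwd 1897, .bwd 4891],
   .loop none [.fwd 4882, .bwd 4891],
   .loop none [.fwd 4384, .bwd 4891],
   .loop none [.fwd 4622, .bwd 4891],
   .loop none [.bwd 3535, .bwd 4893],
   .loop none [.bwd 1412, .fwd 4893, .bwd 2814],
   .loop none [.bwd 4906],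
   .loop none [.bwd 4847, .bwd 4893],
   .loop none [.fwd 4823, .bwd 4893],
   .loop none [.bwd 2059, .bwd 4897],
   .loop none [.fwd 3512, .bwd 4897],
   .loop none [.bwd 2381, .bwd 4907],
   .loop none [.fwd 1412, .bwd 4907],
   .loop none [.fwd 4783, .bwd 4907],
   .loop (some (8, 2)) [.bwd 4819, .fwd 4824, .fwd 4562],
   .loop (some (1, 2)) [.bwd 4820, .bwd 4817, .fwd 4820],
   .loop (some (6, 1)) [.bwd 4824, .fwd 4817, .fwd 4824],
   .loop (some (22, 3)) [.bwd 1001, .bwd 995, .bwd 708, .fwd 989, .fwd 824, .bwd 4879, .fwd 388, .fwd 4317, .bwd 4316, .fwd 465, .fwd 466],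
   .loop (some (3, 1)) [.fwd 4317, .fwd 1534, .bwd 4317],
   .loop (some (4, 1)) [.fwd 4317, .fwd 4178, .bwd 4317],
   .loop (some (14, 3)) [.bwd 4833, .fwd 4832, .bwd 4718],
   .loop (some (8, 2)) [.fwd 4303, .bwd 4921, .fwd 2928],
   .loop (some (6, 1)) [.fwd 4921, .fwd 1534, .bwd 4921],
   .loop (some (5, 1)) [.bwd 3740, .fwd 3775, .fwd 3739],
   .loop (some (12, 1)) [.fwd 4020, .fwd 3892, .bwd 4020],
   .loop (some (15, 2)) [.fwd 868, .bwd 3739, .fwd 3742, .bwd 286],
   .loop (some (3, 1)) [.bwd 391, .fwd 470, .fwd 391],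
   .loop (some (4, 1)) [.bwd 391, .fwd 4304, .fwd 391],
   .loop (some (2, 2)) [.bwd 384, .bwd 4304, .fwd 384],
   .loop (some (11, 1)) [.fwd 4419, .fwd 470, .bwd 4419],
   .loop (some (1, 2)) [.bwd 384, .bwd 470, .fwd 384],
   .loop (some (12, 1)) [.fwd 4419, .fwd 4304, .bwd 4419],
   .loop (some (15, 0)) [.bwd 2929, .fwd 4922, .bwd 469, .fwd 383],
   .loop (some (6, 1)) [.bwd 4933, .fwd 470, .fwd 4933],
   .loop (some (10, 1)) [.fwd 4419, .fwd 4304, .fwd 470, .fwd 4305],
   .loop none [.fwd 4935],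
   .loop none [.fwd 2729, .bwd 4936],
   .loop none [.bwd 478, .fwd 4936, .bwd 1473],
   .loop none [.fwd 4938],
   .loop none [.fwd 4305, .bwd 4936],
   .loop none [.fwd 1472, .bwd 4939],
   .loop (some (13, 0)) [.bwd 4937, .fwd 4419, .fwd 384],
   .loop (some (3, 1)) [.bwd 385, .fwd 4931, .fwd 385],
   .loop (some (4, 1)) [.bwd 385, .fwd 4929, .fwd 385],
   .loop (some (3, 1)) [.bwd 386, .fwd 4943, .fwd 386],
   .loop (some (4, 1)) [.bwd 386, .fwd 4944, .fwd 386],
   .loop (some (22, 9)) [.fwd 2004, .bwd 4470, .fwd 387, .bwd 461, .bwd 460, .fwd 4780, .fwd 4702, .bwd 92, .bwd 4391, .fwd 4392, .fwd 2002],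
   .loop (some (13, 0)) [.fwd 1095, .bwd 4879, .bwd 387],
   .loop (some (3, 1)) [.bwd 4470, .fwd 4945, .fwd 4470],
   .loop (some (4, 1)) [.bwd 4470, .fwd 4946, .fwd 4470],
   .loop (some (2, 2)) [.bwd 387, .bwd 4946, .fwd 387],
   .loop (some (0, 2)) [.fwd 4878, .fwd 463],
   .loop (some (4, 1)) [.fwd 461, .fwd 4951, .bwd 461],
   .loop (some (11, 1)) [.bwd 4879, .fwd 4875, .fwd 4879],
   .loop (some (12, 1)) [.bwd 4879, .fwd 4951, .fwd 4879],
   .loop (some (9, 2)) [.fwd 387, .bwd 4952, .fwd 4427],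
   .loop (some (6, 1)) [.fwd 4952, .fwd 4875, .bwd 4952],
   .loop (some (5, 3)) [.fwd 4317, .bwd 4303, .fwd 522],
   .loop (some (0, 2)) [.fwd 4865, .fwd 4921],
   .loop (some (14, 1)) [.fwd 4833, .fwd 4959, .bwd 398],
   .loop (some (11, 1)) [.fwd 398, .fwd 4919, .bwd 398],
   .loop (some (12, 1)) [.fwd 398, .fwd 4920, .bwd 398],
   .loop (some (3, 1)) [.fwd 468, .fwd 4927, .bwd 468],
   .loop (some (4, 1)) [.fwd 468, .fwd 4928, .bwd 468],
   .loop (some (11, 1)) [.bwd 392, .fwd 4927, .fwd 392],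
   .loop (some (8, 0)) [.bwd 399, .fwd 463, .bwd 4625],
   .loop (some (12, 1)) [.bwd 392, .fwd 4928, .fwd 392],
   .loop (some (10, 1)) [.bwd 392, .fwd 4928, .fwd 4927, .fwd 427],
   .loop none [.fwd 4968],
   .loop none [.bwd 393, .fwd 4969, .fwd 428],
   .loop none [.fwd 4970],
   .loop none [.fwd 427, .bwd 4969],
   .loop none [.bwd 394, .fwd 4971, .fwd 429],
   .loop none [.fwd 4973],
   .loop none [.bwd 4880, .fwd 4974, .fwd 430],
   .loop none [.bwd 4975],
   .loop none [.fwd 4880, .bwd 4976],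
   .loop none [.fwd 4405, .bwd 4976],
   .loop (some (18, 2)) [.bwd 479, .bwd 478, .fwd 4940, .fwd 391, .fwd 392, .bwd 4965, .bwd 4967],
   .loop (some (15, 0)) [.fwd 1099, .fwd 4902, .bwd 394, .bwd 393],
   .loop (some (6, 1)) [.bwd 4980, .fwd 4965, .fwd 4980],
   .loop (some (3, 3)) [.bwd 393, .bwd 4965, .fwd 393],
   .loop (some (4, 3)) [.bwd 393, .bwd 4967, .fwd 393],
   .loop (some (20, 5)) [.bwd 4979, .fwd 393, .fwd 394, .fwd 395, .fwd 396, .fwd 4859, .bwd 4573, .fwd 1061],
   .loop (some (13, 0)) [.fwd 2363, .bwd 4874, .bwd 395],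
   .loop (some (7, 3)) [.bwd 4902, .bwd 4899, .fwd 4902],
   .loop (some (0, 1)) [.fwd 4902, .fwd 4881],
   .loop (some (3, 3)) [.bwd 394, .bwd 4982, .fwd 394],
   .loop (some (8, 2)) [.fwd 4977, .bwd 4902, .fwd 4900],
   .loop (some (5, 2)) [.bwd 494, .bwd 4868, .fwd 4871, .bwd 4559],
   .loop none [.fwd 4990],
   .loop none [.bwd 4559, .bwd 4991],
   .loop none [.fwd 4859, .bwd 4991],
   .loop none [.bwd 495, .fwd 4991, .bwd 4573],
   .loop none [.fwd 4994],
   .loop none [.bwd 3448, .bwd 4991],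
   .loop none [.fwd 4265, .bwd 4991],
   .loop none [.bwd 1061, .bwd 4995],
   .loop (some (3, 1)) [.bwd 396, .fwd 4866, .fwd 396]]

theorem just19_len : just19.length = 250 := by decide +kernel

theorem just19_ok : cert.okFacts 4750 just19 = true := by decide +kernel

/-- justifications -/
noncomputable def just20 : List Cert.Just :=
  [.loop (some (4, 1)) [.bwd 396, .fwd 4867, .fwd 396],
   .loop (some (13, 2)) [.fwd 4993, .fwd 4862, .fwd 2487],
   .loop (some (0, 0)) [.bwd 4059, .bwd 4232],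
   .loop (some (2, 2)) [.fwd 4993, .bwd 5000, .bwd 4993],
   .loop (some (1, 2)) [.fwd 4993, .bwd 4999, .bwd 4993],
   .loop (some (9, 2)) [.fwd 4993, .fwd 4232, .bwd 806],
   .loop (some (0, 2)) [.fwd 4960, .fwd 4832],
   .loop (some (22, 12)) [.fwd 458, .fwd 313, .bwd 4181, .bwd 4833, .bwd 324, .fwd 4797, .fwd 4323, .fwd 4694, .fwd 1738, .fwd 1739, .fwd 1740, .fwd 1741],
   .loop none [.fwd 5007],
   .loop none [.fwd 457, .fwd 5008, .fwd 1742],
   .loop none [.fwd 5009],
   .loop none [.fwd 1741, .bwd 5008],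
   .loop none [.bwd 1743, .bwd 5010],
   .loop (some (3, 1)) [.bwd 5011, .fwd 4635, .fwd 5011],
   .loop (some (4, 1)) [.bwd 5011, .fwd 4634, .fwd 5011],
   .loop (some (19, 4)) [.fwd 455, .fwd 456, .fwd 457, .fwd 4634, .bwd 4635, .bwd 457, .bwd 456, .bwd 455],
   .loop (some (9, 0)) [.fwd 387, .fwd 4878, .bwd 458],
   .loop (some (22, 3)) [.bwd 3318, .bwd 3960, .fwd 3959, .bwd 3898, .bwd 3904, .fwd 6, .bwd 313, .fwd 459, .fwd 4427, .bwd 3321, .bwd 3320],
   .loop (some (5, 2)) [.fwd 468, .fwd 4625, .fwd 460, .fwd 2928],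
   .loop none [.fwd 5018],
   .loop none [.fwd 2928, .bwd 5019],
   .loop none [.fwd 524, .fwd 5019, .fwd 2929],
   .loop none [.fwd 5021],
   .loop none [.bwd 4922, .bwd 5019],
   .loop none [.fwd 5022, .fwd 4934, .bwd 5022],
   .loop none [.fwd 523, .fwd 5022, .fwd 2930],
   .loop none [.fwd 5025],
   .loop none [.fwd 4933, .bwd 5022],
   .loop none [.bwd 2931, .bwd 5026],
   .loop (some (13, 2)) [.bwd 4427, .fwd 4780, .fwd 4701],
   .loop (some (7, 3)) [.bwd 463, .bwd 4175, .fwd 463],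
   .loop (some (2, 2)) [.bwd 4427, .bwd 5030, .fwd 4427],
   .loop (some (1, 2)) [.bwd 4427, .bwd 4957, .fwd 4427],
   .loop (some (9, 2)) [.bwd 4427, .bwd 463, .bwd 458],
   .loop (some (20, 2)) [.bwd 522, .bwd 469, .fwd 8, .bwd 313, .fwd 459, .fwd 460, .bwd 2926, .bwd 2925],
   .loop (some (22, 3)) [.bwd 2922, .bwd 2921, .bwd 2639, .fwd 4217, .bwd 95, .bwd 2849, .fwd 459, .fwd 460, .bwd 2926, .bwd 2925, .bwd 2924],
   .loop (some (5, 1)) [.fwd 524, .fwd 5020, .fwd 461],
   .loop (some (8, 2)) [.fwd 5020, .bwd 4865, .bwd 4958],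
   .loop (some (9, 0)) [.fwd 5034, .fwd 5037, .bwd 467],
   .loop (some (7, 1)) [.fwd 5037, .fwd 4964, .bwd 5037],
   .loop (some (4, 1)) [.fwd 524, .fwd 4964, .bwd 524],
   .loop (some (6, 1)) [.fwd 5037, .fwd 4963, .bwd 5037],
   .loop (some (7, 3)) [.bwd 5023, .bwd 4964, .fwd 5023],
   .loop (some (3, 3)) [.bwd 469, .bwd 426, .fwd 469],
   .loop (some (9, 2)) [.fwd 521, .bwd 5023, .bwd 467],
   .loop (some (15, 2)) [.bwd 523, .bwd 522, .bwd 5023, .fwd 468],
   .loop (some (10, 1)) [.fwd 5042, .fwd 5043, .bwd 1462],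
   .loop (some (3, 1)) [.bwd 474, .fwd 4930, .fwd 474],
   .loop (some (4, 1)) [.bwd 474, .fwd 4932, .fwd 474],
   .loop (some (14, 3)) [.fwd 4940, .bwd 4966, .bwd 4972],
   .loop (some (11, 1)) [.bwd 475, .fwd 5047, .fwd 475],
   .loop (some (12, 1)) [.bwd 475, .fwd 5048, .fwd 475],
   .loop (some (10, 0)) [.bwd 475, .fwd 5048, .fwd 5047],
   .loop (some (3, 3)) [.bwd 478, .bwd 4930, .fwd 478],
   .loop (some (4, 3)) [.bwd 478, .bwd 4932, .fwd 478],
   .loop (some (11, 1)) [.bwd 4941, .fwd 5053, .fwd 4941],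
   .loop (some (12, 1)) [.bwd 4941, .fwd 5054, .fwd 4941],
   .loop (some (10, 1)) [.bwd 4941, .fwd 5054, .fwd 5053, .fwd 479],
   .loop none [.bwd 5057],
   .loop none [.fwd 5058, .fwd 5055, .bwd 5058],
   .loop none [.fwd 5058, .fwd 5056, .bwd 5058],
   .loop none [.bwd 480, .fwd 5058, .bwd 1471],
   .loop none [.fwd 5061],
   .loop none [.fwd 4941, .bwd 5058],
   .loop none [.fwd 1470, .bwd 5062],
   .loop (some (3, 1)) [.bwd 480, .fwd 5059, .fwd 480],
   .loop (some (4, 1)) [.bwd 480, .fwd 5060, .fwd 480],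
   .loop (some (11, 1)) [.bwd 481, .fwd 5065, .fwd 481],
   .loop (some (12, 1)) [.bwd 481, .fwd 5066, .fwd 481],
   .loop (some (15, 0)) [.fwd 1098, .bwd 4980, .fwd 4979, .fwd 480],
   .loop (some (6, 1)) [.bwd 5069, .fwd 5065, .fwd 5069],
   .loop (some (10, 1)) [.bwd 481, .fwd 5066, .fwd 5065, .fwd 5064],
   .loop none [.fwd 5071],
   .loop none [.bwd 482, .fwd 5072, .bwd 1469],
   .loop none [.fwd 5073],
   .loop none [.fwd 5064, .bwd 5072],
   .loop none [.fwd 1468, .bwd 5074],
   .loop (some (3, 3)) [.bwd 482, .bwd 5067, .fwd 482],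
   .loop (some (4, 3)) [.bwd 482, .bwd 5068, .fwd 482],
   .loop (some (11, 1)) [.bwd 5076, .fwd 5077, .fwd 5076],
   .loop (some (12, 1)) [.bwd 5076, .fwd 5078, .fwd 5076],
   .loop (some (10, 1)) [.bwd 5076, .fwd 5078, .fwd 5077, .fwd 483],
   .loop none [.bwd 5081],
   .loop none [.fwd 5082, .fwd 5079, .bwd 5082],
   .loop none [.fwd 5082, .fwd 5080, .bwd 5082],
   .loop none [.bwd 484, .fwd 5082, .bwd 1467],
   .loop none [.fwd 5085],
   .loop none [.fwd 5076, .bwd 5082],
   .loop none [.fwd 1466, .bwd 5086],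
   .loop (some (3, 1)) [.bwd 484, .fwd 5083, .fwd 484],
   .loop (some (4, 1)) [.bwd 484, .fwd 5084, .fwd 484],
   .loop (some (11, 1)) [.bwd 485, .fwd 5089, .fwd 485],
   .loop (some (12, 1)) [.bwd 485, .fwd 5090, .fwd 485],
   .loop (some (10, 1)) [.bwd 485, .fwd 5090, .fwd 5089, .fwd 5088],
   .loop none [.fwd 5093],
   .loop none [.bwd 486, .fwd 5094, .bwd 1465],
   .loop none [.fwd 5095],
   .loop none [.fwd 4610, .bwd 5094],
   .loop none [.fwd 4615, .bwd 5096],
   .loop none [.fwd 4609, .bwd 5096],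
   .loop none [.fwd 3615, .bwd 5096],
   .loop (some (20, 0)) [.fwd 1683, .fwd 4441, .bwd 4702, .fwd 4703, .bwd 4380, .fwd 2320, .bwd 1999, .bwd 5097],
   .loop (some (4, 1)) [.bwd 5097, .fwd 5092, .fwd 5097],
   .loop (some (15, 0)) [.bwd 1096, .bwd 4611, .bwd 5099, .bwd 486],
   .loop (some (13, 1)) [.bwd 1781, .bwd 5098, .fwd 5100],
   .loop (some (3, 3)) [.bwd 486, .bwd 5091, .fwd 486],
   .loop (some (4, 3)) [.bwd 486, .bwd 5092, .fwd 486],
   .loop (some (2, 2)) [.bwd 5098, .bwd 5106, .fwd 5098],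
   .loop (some (11, 1)) [.bwd 5100, .fwd 5105, .fwd 5100],
   .loop (some (1, 2)) [.bwd 5098, .bwd 5105, .fwd 5098],
   .loop (some (12, 1)) [.bwd 5100, .fwd 5106, .fwd 5100],
   .loop (some (3, 1)) [.bwd 488, .fwd 5108, .fwd 488],
   .loop (some (4, 1)) [.bwd 488, .fwd 5110, .fwd 488],
   .loop (some (2, 2)) [.bwd 5104, .bwd 5110, .fwd 5104],
   .loop (some (1, 2)) [.bwd 5104, .bwd 5108, .fwd 5104],
   .loop (some (3, 1)) [.bwd 3613, .fwd 5111, .fwd 3613],
   .loop (some (4, 1)) [.bwd 3613, .fwd 5112, .fwd 3613],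
   .loop (some (14, 3)) [.fwd 489, .bwd 4607, .bwd 4420],
   .loop (some (3, 1)) [.bwd 495, .fwd 5004, .fwd 495],
   .loop (some (14, 2)) [.fwd 5005, .bwd 5001, .bwd 4273],
   .loop (some (11, 1)) [.fwd 5001, .fwd 5004, .bwd 5001],
   .loop (some (12, 1)) [.fwd 5001, .fwd 5003, .bwd 5001],
   .loop (some (5, 4)) [.bwd 495, .fwd 4992, .bwd 174, .fwd 4562],
   .loop none [.fwd 5122],
   .loop none [.fwd 4562, .bwd 5123],
   .loop none [.bwd 4998, .fwd 5123, .fwd 1149],
   .loop none [.fwd 5125],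
   .loop none [.bwd 4915, .bwd 5123],
   .loop none [.bwd 1150, .bwd 5126],
   .loop (some (0, 2)) [.fwd 5127, .fwd 4531],
   .loop (some (6, 1)) [.fwd 5129, .fwd 5118, .bwd 5129],
   .loop (some (10, 1)) [.fwd 5039, .fwd 5041, .fwd 5028],
   .loop (some (14, 1)) [.bwd 4980, .bwd 392, .fwd 5045, .fwd 4631],
   .loop none [.bwd 5132],
   .loop none [.fwd 5133, .fwd 4981, .bwd 5133],
   .loop none [.bwd 675, .fwd 5133, .fwd 1099],
   .loop none [.fwd 5135],
   .loop none [.fwd 1098, .bwd 5133],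
   .loop none [.fwd 4980, .bwd 5133],
   .loop none [.fwd 5136, .fwd 4898, .bwd 5136],
   .loop none [.fwd 5136, .fwd 4899, .bwd 5136],
   .loop none [.bwd 4844, .fwd 5136, .fwd 4900],
   .loop none [.fwd 5141],
   .loop none [.bwd 4901, .bwd 5136],
   .loop none [.bwd 4902, .bwd 5136],
   .loop none [.fwd 4987, .bwd 5136],
   .loop none [.bwd 4845, .fwd 5136, .fwd 4903],
   .loop none [.bwd 5146],
   .loop none [.bwd 4904, .bwd 5136],
   .loop none [.fwd 4059, .fwd 5142, .fwd 4989],
   .loop none [.bwd 5149],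
   .loop none [.fwd 2628, .fwd 5142, .bwd 4409],
   .loop none [.fwd 5151],
   .loop none [.fwd 4378, .fwd 5147, .bwd 2954],
   .loop none [.fwd 5153],
   .loop none [.bwd 4379, .fwd 5147, .bwd 4326],
   .loop none [.fwd 5155],
   .loop none [.bwd 4380, .fwd 5147, .fwd 2876],
   .loop none [.fwd 5157],
   .loop none [.bwd 4383, .fwd 5147, .bwd 3445],
   .loop none [.fwd 5159],
   .loop none [.fwd 4845, .bwd 5147],
   .loop none [.fwd 5150, .fwd 4056, .bwd 5150],
   .loop none [.fwd 5150, .fwd 4057, .bwd 5150],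
   .loop none [.fwd 806, .bwd 5150],
   .loop none [.bwd 2265, .bwd 5150],
   .loop none [.bwd 431, .fwd 5150, .fwd 2266],
   .loop none [.fwd 5166],
   .loop none [.fwd 4232, .bwd 5150],
   .loop none [.bwd 4059, .bwd 5150],
   .loop none [.fwd 4120, .bwd 5150],
   .loop none [.bwd 4978, .fwd 5150, .fwd 2268],
   .loop none [.bwd 5171],
   .loop none [.fwd 4211, .fwd 5152, .fwd 2966],
   .loop none [.fwd 5173],
   .loop none [.fwd 96, .fwd 5152, .fwd 4408],
   .loop none [.fwd 5175],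
   .loop none [.bwd 4379, .fwd 5154, .bwd 2953],
   .loop none [.fwd 5177],
   .loop none [.bwd 4327, .bwd 5156],
   .loop none [.fwd 2398, .bwd 5156],
   .loop none [.bwd 1483, .fwd 5156, .fwd 4328],
   .loop none [.fwd 5181],
   .loop none [.fwd 4620, .fwd 5156, .bwd 4272],
   .loop none [.bwd 5183],
   .loop none [.fwd 4037, .bwd 5156],
   .loop none [.fwd 4242, .fwd 5158, .bwd 4745],
   .loop none [.fwd 5186],
   .loop none [.bwd 90, .fwd 5158, .bwd 138],
   .loop none [.fwd 5188],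
   .loop none [.fwd 4251, .fwd 5158, .bwd 4135],
   .loop none [.fwd 5190],
   .loop none [.bwd 1773, .fwd 5158, .bwd 3443],
   .loop none [.fwd 5192],
   .loop none [.fwd 4389, .fwd 5158, .fwd 139],
   .loop none [.bwd 5194],
   .loop none [.fwd 4234, .fwd 5160, .bwd 1756],
   .loop none [.fwd 5196],
   .loop none [.bwd 2366, .fwd 5160, .bwd 4291],
   .loop none [.bwd 5198],
   .loop none [.bwd 4912, .bwd 5167],
   .loop none [.bwd 432, .fwd 5167, .fwd 4913],
   .loop none [.fwd 5201],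
   .loop none [.fwd 5202, .bwd 4914, .bwd 5167],
   .loop none [.bwd 433, .fwd 5202, .bwd 1411, .bwd 5167],
   .loop none [.bwd 5204],
   .loop none [.bwd 4117, .fwd 5172, .bwd 1178],
   .loop none [.fwd 5206],
   .loop none [.fwd 4978, .bwd 5172],
   .loop none [.fwd 96, .fwd 5174, .bwd 2080],
   .loop none [.fwd 5209],
   .loop none [.fwd 4217, .fwd 5176, .bwd 1853],
   .loop none [.fwd 5211],
   .loop none [.fwd 95, .fwd 5176, .bwd 4410],
   .loop none [.fwd 5213],
   .loop none [.bwd 4071, .fwd 5176, .bwd 4412],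
   .loop none [.fwd 5215],
   .loop none [.bwd 2613, .fwd 5176, .fwd 4281],
   .loop none [.fwd 5217],
   .loop none [.bwd 5179, .fwd 5178, .bwd 2952],
   .loop none [.fwd 5219],
   .loop none [.bwd 1484, .fwd 5182, .fwd 2880],
   .loop none [.fwd 5221],
   .loop none [.fwd 4269, .fwd 5184, .bwd 1079],
   .loop none [.fwd 5223],
   .loop none [.bwd 1080, .bwd 5184],
   .loop none [.bwd 4620, .bwd 5184],
   .loop none [.bwd 90, .fwd 5187, .bwd 2771],
   .loop none [.fwd 5227],
   .loop none [.fwd 2609, .bwd 5189],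
   .loop none [.bwd 91, .fwd 5189, .bwd 4141],
   .loop none [.fwd 5230],
   .loop none [.bwd 2451, .fwd 5189, .fwd 3996],
   .loop none [.fwd 5232],
   .loop none [.fwd 1886, .fwd 5189, .bwd 2877],
   .loop none [.bwd 5234],
   .loop none [.fwd 2645, .fwd 5189, .bwd 137],
   .loop none [.fwd 5236],
   .loop none [.fwd 4661, .fwd 5191, .fwd 4136],
   .loop none [.fwd 5238],
   .loop none [.fwd 4874, .fwd 5193, .fwd 220],
   .loop none [.bwd 5240],
   .loop none [.fwd 5195, .fwd 1895, .bwd 5195],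
   .loop none [.fwd 5195, .fwd 4386, .bwd 5195],
   .loop none [.bwd 140, .fwd 5195, .bwd 4895],
   .loop none [.fwd 5244],
   .loop none [.fwd 5143, .bwd 5195],
   .loop none [.fwd 5202, .fwd 4455, .bwd 5195],
   .loop none [.bwd 4894, .bwd 5195],
   .loop none [.fwd 4648, .bwd 5195]]

theorem just20_len : just20.length = 250 := by decide +kernel

theorem just20_ok : cert.okFacts 5000 just20 = true := by decide +kernel

/-- justifications -/
noncomputable def just21 : List Cert.Just :=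
  [.loop none [.bwd 1899, .bwd 5195],
   .loop none [.bwd 4389, .bwd 5195],
   .loop none [.fwd 5225, .fwd 5197, .bwd 1755],
   .loop none [.fwd 5252],
   .loop none [.bwd 4373, .bwd 5199],
   .loop none [.fwd 4416, .bwd 5199],
   .loop none [.fwd 2366, .bwd 5199],
   .loop none [.fwd 4617, .bwd 5199],
   .loop none [.fwd 4730, .bwd 5199],
   .loop none [.bwd 4905, .bwd 5202],
   .loop none [.bwd 4908, .bwd 5202],
   .loop none [.bwd 4909, .bwd 5202],
   .loop none [.fwd 431, .fwd 5205, .fwd 434],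
   .loop none [.fwd 5262],
   .loop none [.fwd 433, .bwd 5205],
   .loop none [.bwd 3984, .fwd 5207, .bwd 4376],
   .loop none [.fwd 5265],
   .loop none [.fwd 5229, .fwd 5210, .bwd 2079],
   .loop none [.fwd 5267],
   .loop none [.fwd 97, .fwd 5212, .bwd 1852],
   .loop none [.fwd 5269],
   .loop none [.fwd 2575, .fwd 5214, .fwd 1944],
   .loop none [.bwd 5271],
   .loop none [.fwd 4075, .fwd 5216, .bwd 4501],
   .loop none [.fwd 5273],
   .loop none [.bwd 989, .fwd 5216, .fwd 4411],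
   .loop none [.fwd 5275],
   .loop none [.bwd 3947, .fwd 5216, .fwd 4477],
   .loop none [.fwd 5277],
   .loop none [.fwd 132, .fwd 5218, .fwd 2921],
   .loop none [.fwd 5279],
   .loop none [.bwd 97, .fwd 5220, .bwd 2951],
   .loop none [.fwd 5281],
   .loop none [.bwd 1485, .fwd 5222, .bwd 4169],
   .loop none [.fwd 5283],
   .loop none [.fwd 5284, .bwd 2881, .bwd 5222],
   .loop none [.bwd 5225, .fwd 5224, .bwd 1078],
   .loop none [.bwd 5286],
   .loop none [.bwd 5229, .fwd 5228, .bwd 2770],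
   .loop none [.fwd 5288],
   .loop none [.fwd 4391, .fwd 5231, .bwd 4293],
   .loop none [.fwd 5290],
   .loop none [.fwd 708, .bwd 5233],
   .loop none [.bwd 2388, .fwd 5233, .fwd 995],
   .loop none [.fwd 5293],
   .loop none [.fwd 4358, .fwd 5233, .fwd 3991],
   .loop none [.fwd 5295],
   .loop none [.fwd 1002, .bwd 5235],
   .loop none [.bwd 4231, .bwd 5235],
   .loop none [.bwd 3873, .fwd 5235, .bwd 4241],
   .loop none [.bwd 5299],
   .loop none [.bwd 1886, .bwd 5235],
   .loop none [.bwd 2448, .bwd 5235],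
   .loop none [.fwd 218, .fwd 5235, .fwd 2260],
   .loop none [.bwd 5303],
   .loop none [.fwd 136, .bwd 5237],
   .loop none [.fwd 97, .fwd 5237, .fwd 4312],
   .loop none [.fwd 5306],
   .loop none [.bwd 4217, .fwd 5237, .fwd 1384],
   .loop none [.fwd 5308],
   .loop none [.bwd 2723, .fwd 5239, .bwd 663],
   .loop none [.bwd 5310],
   .loop none [.fwd 5241, .fwd 4866, .bwd 5241],
   .loop none [.fwd 5241, .fwd 4867, .bwd 5241],
   .loop none [.bwd 221, .fwd 5241, .fwd 4868],
   .loop none [.fwd 5314],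
   .loop none [.fwd 395, .bwd 5241],
   .loop none [.bwd 4871, .bwd 5241],
   .loop none [.bwd 396, .bwd 5241],
   .loop none [.bwd 4872, .bwd 5241],
   .loop none [.bwd 4873, .bwd 5241],
   .loop none [.bwd 4874, .bwd 5241],
   .loop none [.fwd 167, .bwd 5245],
   .loop none [.bwd 4695, .fwd 5245, .fwd 168],
   .loop none [.bwd 5323],
   .loop none [.bwd 4020, .fwd 5245, .bwd 4911],
   .loop none [.fwd 5325],
   .loop none [.bwd 4270, .fwd 5253, .bwd 1754],
   .loop none [.fwd 5327],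
   .loop none [.bwd 5165, .fwd 5263, .fwd 435],
   .loop none [.fwd 5329],
   .loop none [.bwd 54, .fwd 5266, .bwd 4453],
   .loop none [.fwd 5331],
   .loop none [.bwd 28, .fwd 5266, .bwd 802],
   .loop none [.fwd 5333],
   .loop none [.bwd 91, .fwd 5268, .bwd 2078],
   .loop none [.fwd 5335],
   .loop none [.fwd 5179, .fwd 5270, .bwd 4454],
   .loop none [.bwd 5337],
   .loop none [.fwd 2574, .bwd 5272],
   .loop none [.bwd 2575, .bwd 5272],
   .loop none [.bwd 1945, .fwd 5272, .fwd 2691],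
   .loop none [.fwd 5341],
   .loop none [.fwd 4487, .bwd 5272],
   .loop none [.bwd 4632, .bwd 5272],
   .loop none [.fwd 4315, .bwd 5272],
   .loop none [.fwd 4862, .fwd 5274, .fwd 2113],
   .loop none [.fwd 5346],
   .loop none [.fwd 1194, .fwd 5276, .fwd 2396],
   .loop none [.fwd 5348],
   .loop none [.fwd 29, .fwd 5278, .bwd 1683],
   .loop none [.fwd 5350],
   .loop none [.bwd 3963, .fwd 5278, .fwd 4442],
   .loop none [.fwd 5352],
   .loop none [.bwd 28, .fwd 5280, .fwd 2922],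
   .loop none [.fwd 5354],
   .loop none [.bwd 4217, .fwd 5282, .bwd 2950],
   .loop none [.fwd 5356],
   .loop none [.bwd 1486, .fwd 5284, .fwd 2882],
   .loop none [.fwd 5358],
   .loop none [.fwd 5287, .fwd 2361, .bwd 5287],
   .loop none [.fwd 5287, .fwd 4234, .bwd 5287],
   .loop none [.fwd 5225, .bwd 5287],
   .loop none [.fwd 1077, .fwd 5287, .fwd 2363],
   .loop none [.bwd 5363],
   .loop none [.bwd 2364, .bwd 5287],
   .loop none [.fwd 4383, .bwd 5287],
   .loop none [.fwd 5256, .bwd 5287],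
   .loop none [.fwd 4985, .bwd 5287],
   .loop none [.fwd 4883, .bwd 5287],
   .loop none [.fwd 4217, .fwd 5289, .fwd 4750],
   .loop none [.fwd 5370],
   .loop none [.fwd 95, .fwd 5289, .bwd 2769],
   .loop none [.fwd 5372],
   .loop none [.bwd 4392, .fwd 5291, .fwd 2822],
   .loop none [.fwd 5374],
   .loop none [.fwd 5254, .fwd 5294, .fwd 996],
   .loop none [.bwd 5376],
   .loop none [.bwd 320, .fwd 5294, .fwd 1001],
   .loop none [.fwd 5378],
   .loop none [.fwd 709, .bwd 5296],
   .loop none [.fwd 4702, .fwd 5296, .fwd 932],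
   .loop none [.bwd 5381],
   .loop none [.bwd 1681, .bwd 5300],
   .loop none [.fwd 3873, .bwd 5300],
   .loop none [.fwd 32, .fwd 5300, .fwd 1686],
   .loop none [.fwd 5385],
   .loop none [.bwd 5383, .fwd 5304, .bwd 217],
   .loop none [.bwd 5387],
   .loop none [.bwd 5384, .fwd 5304, .fwd 3797],
   .loop none [.fwd 5389],
   .loop none [.fwd 32, .fwd 5304, .fwd 795],
   .loop none [.fwd 5391],
   .loop none [.fwd 3874, .bwd 5304],
   .loop none [.bwd 218, .bwd 5304],
   .loop none [.fwd 4351, .fwd 5307, .bwd 3314],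
   .loop none [.fwd 5395],
   .loop none [.fwd 95, .fwd 5309, .fwd 1385],
   .loop none [.fwd 5397],
   .loop none [.fwd 2723, .bwd 5311],
   .loop none [.bwd 4638, .bwd 5311],
   .loop none [.fwd 4643, .bwd 5311],
   .loop none [.bwd 494, .bwd 5315],
   .loop none [.fwd 4695, .bwd 5324],
   .loop none [.fwd 2698, .bwd 5324],
   .loop none [.bwd 3739, .fwd 5326, .fwd 4910],
   .loop none [.fwd 5405],
   .loop none [.fwd 88, .fwd 5328, .bwd 1753],
   .loop none [.fwd 5407],
   .loop none [.bwd 805, .fwd 5330, .fwd 436],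
   .loop none [.bwd 5409],
   .loop none [.fwd 225, .fwd 5332, .bwd 1174],
   .loop none [.fwd 5411],
   .loop none [.fwd 287, .fwd 5334, .bwd 4415],
   .loop none [.fwd 5413],
   .loop none [.bwd 92, .fwd 5336, .bwd 2077],
   .loop none [.fwd 5415],
   .loop none [.fwd 4379, .bwd 5338],
   .loop none [.bwd 5179, .bwd 5338],
   .loop none [.bwd 291, .fwd 5338, .fwd 5180],
   .loop none [.fwd 5419],
   .loop none [.fwd 290, .fwd 5338, .fwd 1483],
   .loop none [.fwd 5421],
   .loop none [.fwd 5226, .bwd 5338],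
   .loop none [.bwd 5185, .bwd 5338],
   .loop none [.bwd 2692, .bwd 5342],
   .loop none [.fwd 4486, .fwd 5342, .fwd 2696],
   .loop none [.fwd 5426],
   .loop none [.bwd 2114, .bwd 5347],
   .loop none [.bwd 2320, .fwd 5420, .bwd 2397, .bwd 5349],
   .loop none [.bwd 5429],
   .loop none [.fwd 287, .fwd 5351, .bwd 5101],
   .loop none [.fwd 5431],
   .loop none [.fwd 3959, .fwd 5353, .fwd 2105],
   .loop none [.fwd 5433],
   .loop none [.bwd 163, .fwd 5355, .bwd 5035],
   .loop none [.fwd 5435],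
   .loop none [.fwd 95, .fwd 5357, .bwd 2949],
   .loop none [.fwd 5437],
   .loop none [.fwd 4924, .bwd 5359],
   .loop none [.bwd 4017, .bwd 5359],
   .loop none [.bwd 1487, .fwd 5359, .bwd 3740],
   .loop none [.bwd 5441],
   .loop none [.bwd 1077, .bwd 5364],
   .loop none [.fwd 31, .fwd 5364, .bwd 1076],
   .loop none [.fwd 5444],
   .loop none [.fwd 97, .fwd 5371, .fwd 2910],
   .loop none [.fwd 5446],
   .loop none [.fwd 94, .fwd 5373, .bwd 2768],
   .loop none [.fwd 5448],
   .loop none [.bwd 2002, .fwd 5375, .bwd 5255, .bwd 5377],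
   .loop none [.bwd 5450],
   .loop none [.bwd 4290, .bwd 5377],
   .loop none [.bwd 5254, .bwd 5377],
   .loop none [.fwd 5367, .bwd 5377],
   .loop none [.bwd 5257, .bwd 5377],
   .loop none [.bwd 5258, .bwd 5377],
   .loop none [.fwd 4770, .fwd 5379, .bwd 4918],
   .loop none [.fwd 5457],
   .loop none [.fwd 5382, .fwd 4698, .bwd 5382],
   .loop none [.fwd 5382, .fwd 4699, .bwd 5382],
   .loop none [.bwd 4700, .bwd 5382],
   .loop none [.bwd 933, .fwd 5382, .fwd 4701],
   .loop none [.fwd 5462],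
   .loop none [.bwd 4702, .bwd 5382],
   .loop none [.bwd 936, .fwd 5382, .fwd 4703],
   .loop none [.bwd 5465],
   .loop none [.bwd 4704, .bwd 5382],
   .loop none [.bwd 4705, .bwd 5382],
   .loop none [.fwd 4780, .bwd 5382],
   .loop none [.fwd 4711, .bwd 5382],
   .loop none [.fwd 5320, .fwd 5386, .fwd 1687],
   .loop none [.fwd 5471],
   .loop none [.fwd 5383, .bwd 5388],
   .loop none [.bwd 5298, .fwd 5390, .bwd 3020],
   .loop none [.fwd 5474],
   .loop none [.bwd 5443, .fwd 5392, .fwd 796],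
   .loop none [.bwd 5476],
   .loop none [.fwd 4439, .fwd 5396, .bwd 3313],
   .loop none [.fwd 5478],
   .loop none [.fwd 5340, .fwd 5398, .fwd 1453],
   .loop none [.bwd 5480],
   .loop none [.fwd 2849, .fwd 5398, .bwd 4292],
   .loop none [.fwd 5482],
   .loop none [.fwd 868, .fwd 5406, .fwd 2060],
   .loop none [.fwd 5484],
   .loop none [.fwd 4126, .fwd 5408, .bwd 1752],
   .loop none [.fwd 5486],
   .loop none [.fwd 805, .bwd 5410],
   .loop none [.fwd 5164, .bwd 5410],
   .loop none [.bwd 437, .fwd 5410, .bwd 3478],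
   .loop none [.fwd 5490],
   .loop none [.bwd 5005, .bwd 5410],
   .loop none [.fwd 3486, .bwd 5410],
   .loop none [.bwd 4051, .bwd 5410],
   .loop none [.fwd 5119, .bwd 5410],
   .loop none [.fwd 54, .fwd 5412, .bwd 1173],
   .loop none [.fwd 5496],
   .loop none [.bwd 866, .fwd 5414, .fwd 1192],
   .loop none [.fwd 5498]]

theorem just21_len : just21.length = 250 := by decide +kernel

theorem just21_ok : cert.okFacts 5250 just21 = true := by decide +kernel

/-- justifications -/
noncomputable def just22 : List Cert.Just :=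
  [.loop none [.fwd 5464, .fwd 5416, .bwd 2076],
   .loop none [.fwd 5500],
   .loop none [.fwd 5430, .fwd 4616, .bwd 5422],
   .loop none [.fwd 5099, .fwd 5422, .fwd 1484],
   .loop none [.fwd 5503],
   .loop none [.fwd 5463, .fwd 5427],
   .loop none [.bwd 2697, .fwd 5505],
   .loop none [.fwd 5499, .fwd 1193, .fwd 5430, .bwd 1999],
   .loop none [.fwd 5507],
   .loop none [.fwd 2320, .bwd 5430],
   .loop none [.fwd 286, .fwd 5432, .fwd 486],
   .loop none [.fwd 5510],
   .loop none [.fwd 920, .fwd 5432, .fwd 5103],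
   .loop none [.fwd 5512],
   .loop none [.bwd 3479, .fwd 5432, .bwd 485],
   .loop none [.fwd 5514],
   .loop none [.fwd 5479, .bwd 3960, .fwd 5434, .fwd 2106],
   .loop none [.fwd 5516],
   .loop none [.bwd 164, .fwd 5436, .fwd 2924],
   .loop none [.fwd 5518],
   .loop none [.fwd 5481, .fwd 5340, .fwd 5438, .bwd 2948],
   .loop none [.fwd 5520],
   .loop none [.fwd 3775, .fwd 5442, .fwd 1488],
   .loop none [.fwd 5522],
   .loop none [.fwd 1487, .bwd 5442],
   .loop none [.bwd 989, .fwd 5445, .bwd 1075],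
   .loop none [.fwd 5525],
   .loop none [.fwd 4351, .fwd 5447, .fwd 2911],
   .loop none [.fwd 5527],
   .loop none [.bwd 2388, .fwd 5449, .bwd 2767],
   .loop none [.fwd 5529],
   .loop none [.bwd 4947, .bwd 5451],
   .loop none [.bwd 5456, .fwd 5451, .fwd 2003],
   .loop none [.bwd 5532],
   .loop none [.bwd 4576, .fwd 5458, .fwd 467],
   .loop none [.bwd 5534],
   .loop none [.bwd 4577, .fwd 5458, .bwd 466],
   .loop none [.fwd 5536],
   .loop none [.bwd 4769, .fwd 5458, .fwd 5044],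
   .loop none [.fwd 5538],
   .loop none [.fwd 5519, .bwd 5038, .bwd 5458],
   .loop none [.bwd 4603, .fwd 5463, .bwd 1927],
   .loop none [.fwd 5541],
   .loop none [.bwd 1512, .fwd 5463, .fwd 4486],
   .loop none [.fwd 5543],
   .loop none [.fwd 5481, .fwd 5343, .bwd 5463],
   .loop none [.bwd 5029, .bwd 5463],
   .loop none [.bwd 5506, .fwd 5463, .fwd 4488],
   .loop none [.bwd 5547],
   .loop none [.fwd 936, .bwd 5466],
   .loop none [.fwd 5251, .fwd 5466, .bwd 4841],
   .loop none [.fwd 5550],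
   .loop none [.bwd 5317, .fwd 5472, .fwd 1688],
   .loop none [.fwd 5552],
   .loop none [.bwd 2487, .fwd 5475, .bwd 5440],
   .loop none [.fwd 5554],
   .loop none [.fwd 5477, .fwd 5360, .bwd 5477],
   .loop none [.fwd 5477, .fwd 5361, .bwd 5477],
   .loop none [.bwd 5362, .bwd 5477],
   .loop none [.fwd 5443, .bwd 5477],
   .loop none [.bwd 797, .fwd 5477, .fwd 5365],
   .loop none [.fwd 5560],
   .loop none [.bwd 5366, .bwd 5477],
   .loop none [.fwd 5454, .bwd 5477],
   .loop none [.bwd 5368, .bwd 5477],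
   .loop none [.bwd 5369, .bwd 5477],
   .loop none [.bwd 4440, .fwd 5479, .bwd 3960],
   .loop none [.bwd 5566],
   .loop none [.fwd 1783, .fwd 5479, .fwd 3318],
   .loop none [.fwd 5568],
   .loop none [.bwd 5339, .bwd 5481],
   .loop none [.bwd 5340, .bwd 5481],
   .loop none [.bwd 5344, .bwd 5481],
   .loop none [.bwd 5345, .bwd 5481],
   .loop none [.bwd 459, .fwd 5483, .fwd 1387],
   .loop none [.fwd 5574],
   .loop none [.bwd 2061, .bwd 5485],
   .loop none [.bwd 91, .fwd 5487, .bwd 1751],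
   .loop none [.fwd 5577],
   .loop none [.fwd 2055, .bwd 5491],
   .loop none [.bwd 438, .fwd 5491, .bwd 3509],
   .loop none [.bwd 5580],
   .loop none [.bwd 5473, .fwd 5497, .bwd 1172],
   .loop none [.fwd 5582],
   .loop none [.bwd 870, .fwd 5499, .fwd 1193],
   .loop none [.fwd 5584],
   .loop none [.bwd 933, .fwd 5501, .bwd 2075],
   .loop none [.fwd 5586],
   .loop none [.fwd 5511, .fwd 5504],
   .loop none [.bwd 1485, .fwd 5588],
   .loop none [.bwd 5285, .fwd 5588],
   .loop none [.fwd 5508, .fwd 5102, .bwd 5508],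
   .loop none [.bwd 867, .fwd 5508, .bwd 1998],
   .loop none [.fwd 5592],
   .loop none [.bwd 5098, .bwd 5511],
   .loop none [.fwd 285, .fwd 5511, .fwd 5099],
   .loop none [.fwd 5595],
   .loop none [.bwd 5589, .fwd 5511, .fwd 487],
   .loop none [.bwd 5597],
   .loop none [.bwd 662, .fwd 5513, .fwd 1097],
   .loop none [.fwd 5599],
   .loop none [.fwd 484, .bwd 5515],
   .loop none [.fwd 1783, .fwd 5517, .fwd 2107],
   .loop none [.bwd 5602],
   .loop none [.bwd 5034, .bwd 5519],
   .loop none [.bwd 5570, .fwd 5521, .bwd 2947],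
   .loop none [.fwd 5605],
   .loop none [.fwd 5555, .bwd 5524, .fwd 5523, .fwd 1489],
   .loop none [.fwd 5607],
   .loop none [.bwd 824, .fwd 5526, .bwd 1074],
   .loop none [.fwd 5609],
   .loop none [.fwd 4439, .fwd 5528, .fwd 2912],
   .loop none [.fwd 5611],
   .loop none [.fwd 5453, .fwd 5530, .bwd 2766],
   .loop none [.fwd 5613],
   .loop none [.fwd 5428, .bwd 5533],
   .loop none [.fwd 4658, .bwd 5533],
   .loop none [.fwd 5145, .bwd 5533],
   .loop none [.fwd 4881, .bwd 5533],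
   .loop none [.bwd 5020, .fwd 5535, .fwd 4787],
   .loop none [.fwd 5619],
   .loop none [.fwd 4576, .bwd 5535],
   .loop none [.fwd 524, .fwd 5535, .bwd 873],
   .loop none [.fwd 5622],
   .loop none [.bwd 4788, .bwd 5535],
   .loop none [.fwd 4855, .fwd 5537, .bwd 465],
   .loop none [.fwd 5625],
   .loop none [.bwd 4399, .fwd 5539, .bwd 520],
   .loop none [.bwd 5627],
   .loop none [.bwd 4400, .fwd 5539, .fwd 521],
   .loop none [.bwd 5629],
   .loop none [.bwd 4506, .bwd 5542],
   .loop none [.bwd 5425, .bwd 5544],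
   .loop none [.fwd 5404, .bwd 5548],
   .loop none [.fwd 5506, .bwd 5548],
   .loop none [.bwd 5247, .fwd 5551, .fwd 938],
   .loop none [.fwd 5635],
   .loop none [.fwd 174, .fwd 5553, .fwd 1689],
   .loop none [.fwd 5637],
   .loop none [.fwd 5452, .fwd 5555, .fwd 5439],
   .loop none [.bwd 5639],
   .loop none [.fwd 998, .fwd 5555, .bwd 5524],
   .loop none [.bwd 5641],
   .loop none [.fwd 5598, .fwd 1486, .bwd 5555],
   .loop none [.fwd 5561, .fwd 4612, .bwd 5561],
   .loop none [.bwd 1092, .bwd 5561],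
   .loop none [.fwd 798, .fwd 5567, .bwd 2693],
   .loop none [.fwd 5646],
   .loop none [.fwd 4440, .bwd 5567],
   .loop none [.fwd 5603, .fwd 5569],
   .loop none [.fwd 5495, .bwd 5649, .bwd 5017],
   .loop none [.fwd 5650],
   .loop none [.bwd 460, .fwd 5575, .fwd 1388],
   .loop none [.fwd 5652],
   .loop none [.fwd 4391, .fwd 5578, .bwd 1750],
   .loop none [.bwd 5654],
   .loop none [.fwd 438, .bwd 5581],
   .loop none [.bwd 439, .bwd 5581],
   .loop none [.fwd 32, .fwd 5583, .bwd 1171],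
   .loop none [.fwd 5658],
   .loop none [.fwd 5596, .fwd 5502, .bwd 5585],
   .loop none [.bwd 1194, .bwd 5585],
   .loop none [.bwd 5509, .bwd 5585],
   .loop none [.fwd 5655, .fwd 4393, .bwd 5585],
   .loop none [.bwd 4603, .fwd 5587, .bwd 2074],
   .loop none [.fwd 5664],
   .loop none [.fwd 5655, .fwd 4392, .bwd 5593],
   .loop none [.bwd 290, .bwd 5596],
   .loop none [.bwd 5117, .bwd 5596],
   .loop none [.fwd 289, .bwd 5596],
   .loop none [.bwd 4420, .bwd 5596],
   .loop none [.fwd 5590, .bwd 5598],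
   .loop none [.fwd 5589, .bwd 5598],
   .loop none [.fwd 5600, .fwd 5070, .bwd 5600],
   .loop none [.fwd 5628, .bwd 5400, .fwd 5600, .bwd 5137],
   .loop none [.fwd 5674],
   .loop none [.bwd 4112, .fwd 5600, .bwd 5069],
   .loop none [.fwd 5676],
   .loop none [.bwd 1783, .bwd 5603],
   .loop none [.bwd 4271, .fwd 5603, .bwd 1782],
   .loop none [.fwd 5679],
   .loop none [.fwd 2573, .fwd 5606, .bwd 2946],
   .loop none [.fwd 5681],
   .loop none [.bwd 5643, .fwd 5608, .fwd 1490],
   .loop none [.fwd 5683],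
   .loop none [.fwd 1095, .fwd 5610, .bwd 1073],
   .loop none [.bwd 5685],
   .loop none [.bwd 2776, .fwd 5612, .fwd 2913],
   .loop none [.fwd 5687],
   .loop none [.fwd 5640, .fwd 5614],
   .loop none [.fwd 2765, .fwd 5689],
   .loop none [.fwd 4724, .fwd 5620, .fwd 2727],
   .loop none [.fwd 5691],
   .loop none [.fwd 523, .fwd 5623, .bwd 872],
   .loop none [.fwd 5693],
   .loop none [.bwd 4316, .bwd 5626],
   .loop none [.fwd 4399, .bwd 5628],
   .loop none [.fwd 5400, .bwd 5628],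
   .loop none [.fwd 2019, .bwd 5628],
   .loop none [.fwd 4400, .bwd 5630],
   .loop none [.fwd 1462, .fwd 5630, .bwd 4394, .bwd 5655],
   .loop none [.fwd 5700],
   .loop none [.fwd 5701, .fwd 5655],
   .loop none [.fwd 432, .fwd 5636, .fwd 939],
   .loop none [.fwd 5703],
   .loop none [.fwd 4678, .bwd 5638],
   .loop none [.bwd 5690, .fwd 5640, .fwd 5452],
   .loop none [.bwd 5706],
   .loop none [.bwd 5453, .bwd 5640],
   .loop none [.fwd 5563, .bwd 5640],
   .loop none [.bwd 5455, .bwd 5640],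
   .loop none [.bwd 5531, .bwd 5640],
   .loop none [.bwd 998, .bwd 5642],
   .loop none [.bwd 5645, .fwd 5647, .bwd 5632],
   .loop none [.fwd 5713],
   .loop none [.bwd 3320, .bwd 5651],
   .loop none [.bwd 4334, .bwd 5653],
   .loop none [.bwd 4390, .fwd 5702],
   .loop none [.bwd 4391, .fwd 5702],
   .loop none [.bwd 4801, .fwd 5702],
   .loop none [.fwd 31, .fwd 5659, .bwd 1170],
   .loop none [.fwd 5720],
   .loop none [.fwd 4300, .fwd 5665, .bwd 2073],
   .loop none [.fwd 5722],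
   .loop none [.fwd 5675, .fwd 5134, .bwd 5675],
   .loop none [.bwd 675, .bwd 5675],
   .loop none [.bwd 5138, .bwd 5675],
   .loop none [.bwd 5698, .fwd 5675, .bwd 4631],
   .loop none [.bwd 5727],
   .loop none [.fwd 4630, .bwd 5675],
   .loop none [.bwd 5322, .fwd 5677, .bwd 480],
   .loop none [.fwd 5730],
   .loop none [.bwd 4020, .fwd 5677, .bwd 5075],
   .loop none [.fwd 5732],
   .loop none [.fwd 5680, .fwd 5114, .bwd 5680],
   .loop none [.fwd 5680, .fwd 5113, .bwd 5680],
   .loop none [.bwd 1776, .fwd 5680, .bwd 5104],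
   .loop none [.bwd 5736],
   .loop none [.fwd 1781, .bwd 5680],
   .loop none [.bwd 4784, .bwd 5680],
   .loop none [.fwd 2572, .fwd 5682, .bwd 2945],
   .loop none [.fwd 5740],
   .loop none [.bwd 5671, .fwd 5684, .fwd 1491],
   .loop none [.fwd 5742],
   .loop none [.bwd 1095, .bwd 5686],
   .loop none [.fwd 1094, .bwd 5686],
   .loop none [.fwd 4948, .bwd 5686],
   .loop none [.bwd 2914, .bwd 5688],
   .loop none [.bwd 166, .fwd 5692, .fwd 2728],
   .loop none [.fwd 5748]]

theorem just22_len : just22.length = 250 := by decide +kernel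

theorem just22_ok : cert.okFacts 5500 just22 = true := by decide +kernel

/-- justifications -/
noncomputable def just23 : List Cert.Just :=
  [.loop none [.bwd 5028, .fwd 5694, .bwd 871],
   .loop none [.bwd 5750],
   .loop none [.bwd 5717, .fwd 5701, .bwd 1749],
   .loop none [.bwd 5752],
   .loop none [.fwd 5666, .bwd 5701],
   .loop none [.fwd 5663, .bwd 5701],
   .loop none [.fwd 5704, .fwd 4916, .bwd 5704],
   .loop none [.fwd 5704, .fwd 4850, .bwd 5704],
   .loop none [.fwd 4820, .bwd 5704],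
   .loop none [.fwd 5121, .fwd 5707, .bwd 2764],
   .loop none [.fwd 5759],
   .loop none [.fwd 5690, .bwd 5707],
   .loop none [.bwd 1513, .bwd 5714],
   .loop none [.bwd 1093, .fwd 5714, .bwd 1512],
   .loop none [.bwd 5763],
   .loop none [.bwd 989, .fwd 5721, .bwd 1169],
   .loop none [.fwd 5765],
   .loop none [.fwd 4603, .fwd 5723, .bwd 2072],
   .loop none [.fwd 5767],
   .loop none [.fwd 2018, .bwd 5728],
   .loop none [.fwd 5698, .bwd 5728],
   .loop none [.fwd 5731, .fwd 5059, .bwd 5731],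
   .loop none [.fwd 5731, .fwd 5060, .bwd 5731],
   .loop none [.fwd 4984, .bwd 5731],
   .loop none [.bwd 5656, .fwd 5731, .bwd 4979],
   .loop none [.bwd 5774],
   .loop none [.bwd 5657, .fwd 5731, .fwd 5063],
   .loop none [.fwd 5776],
   .loop none [.fwd 5777, .fwd 479, .bwd 5731],
   .loop none [.bwd 3739, .fwd 5733, .fwd 482],
   .loop none [.bwd 5779],
   .loop none [.fwd 1776, .bwd 5737],
   .loop none [.fwd 2571, .fwd 5741, .bwd 2944],
   .loop none [.fwd 5782],
   .loop none [.fwd 285, .fwd 5743, .fwd 1492],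
   .loop none [.fwd 5784],
   .loop none [.bwd 5773, .fwd 5749, .bwd 4937],
   .loop none [.bwd 5786],
   .loop none [.bwd 5657, .fwd 5749, .bwd 4942],
   .loop none [.bwd 5788],
   .loop none [.fwd 870, .fwd 5751, .fwd 2932],
   .loop none [.fwd 5790],
   .loop none [.bwd 5131, .bwd 5751],
   .loop none [.fwd 5028, .bwd 5751],
   .loop none [.fwd 5717, .bwd 5753],
   .loop none [.fwd 5631, .bwd 5753],
   .loop none [.fwd 5780, .bwd 5761, .fwd 5760, .bwd 2763],
   .loop none [.fwd 5796],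
   .loop none [.fwd 1093, .bwd 5764],
   .loop none [.fwd 4148, .fwd 5764, .bwd 5745],
   .loop none [.fwd 5799],
   .loop none [.fwd 5661, .fwd 5766, .bwd 1168],
   .loop none [.fwd 5801],
   .loop none [.fwd 933, .fwd 5768, .bwd 2071],
   .loop none [.fwd 5803],
   .loop none [.bwd 5579, .bwd 5775],
   .loop none [.bwd 393, .fwd 5775, .bwd 437],
   .loop none [.fwd 5806],
   .loop none [.fwd 5656, .bwd 5775],
   .loop none [.fwd 5789, .fwd 5777],
   .loop none [.bwd 385, .bwd 5809, .bwd 478],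
   .loop none [.fwd 5810],
   .loop none [.fwd 5761, .bwd 5780],
   .loop none [.bwd 5708, .bwd 5780],
   .loop none [.fwd 868, .bwd 5780],
   .loop none [.fwd 3739, .bwd 5780],
   .loop none [.bwd 5709, .bwd 5780],
   .loop none [.bwd 5710, .bwd 5780],
   .loop none [.bwd 483, .fwd 5780, .fwd 5711],
   .loop none [.fwd 5818],
   .loop none [.fwd 2943, .bwd 5783],
   .loop none [.bwd 5667, .fwd 5785, .fwd 1493],
   .loop none [.fwd 5821],
   .loop none [.fwd 5811, .fwd 5787],
   .loop none [.fwd 5773, .fwd 5823],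
   .loop none [.fwd 385, .bwd 5823, .bwd 4998],
   .loop none [.fwd 5825],
   .loop none [.bwd 386, .bwd 5823, .fwd 5128],
   .loop none [.fwd 5827],
   .loop none [.bwd 1062, .fwd 5823],
   .loop none [.bwd 440, .bwd 5789],
   .loop none [.fwd 5778, .bwd 5789],
   .loop none [.fwd 5657, .bwd 5789],
   .loop none [.fwd 866, .fwd 5791, .fwd 2933],
   .loop none [.fwd 5833],
   .loop none [.bwd 5813, .fwd 5797, .bwd 2762],
   .loop none [.fwd 5835],
   .loop none [.bwd 4146, .fwd 5800, .fwd 5744],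
   .loop none [.bwd 5837],
   .loop none [.fwd 475, .fwd 5800, .fwd 5746],
   .loop none [.bwd 5839],
   .loop none [.bwd 5660, .fwd 5802, .bwd 1167],
   .loop none [.fwd 5841],
   .loop none [.bwd 5470, .fwd 5804, .bwd 2070],
   .loop none [.fwd 5843],
   .loop none [.bwd 5488, .bwd 5807],
   .loop none [.bwd 5489, .bwd 5807],
   .loop none [.bwd 394, .fwd 5807, .fwd 5715],
   .loop none [.fwd 5847],
   .loop none [.bwd 5492, .bwd 5807],
   .loop none [.bwd 5493, .bwd 5807],
   .loop none [.bwd 5494, .bwd 5807],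
   .loop none [.bwd 5495, .bwd 5807],
   .loop none [.fwd 5049, .bwd 5811],
   .loop none [.bwd 5829, .fwd 5811, .fwd 4419],
   .loop none [.bwd 5854],
   .loop none [.bwd 4940, .bwd 5811],
   .loop none [.bwd 5615, .bwd 5819],
   .loop none [.bwd 5616, .bwd 5819],
   .loop none [.bwd 2004, .bwd 5819],
   .loop none [.bwd 5617, .bwd 5819],
   .loop none [.bwd 5618, .bwd 5819],
   .loop none [.bwd 5417, .fwd 5822, .fwd 1494],
   .loop none [.fwd 5862],
   .loop none [.bwd 5124, .bwd 5826],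
   .loop none [.bwd 5830, .fwd 5826, .bwd 495],
   .loop none [.fwd 5865],
   .loop none [.bwd 5127, .bwd 5826],
   .loop none [.fwd 5129, .bwd 5826],
   .loop none [.bwd 5831, .fwd 5826, .fwd 496],
   .loop none [.fwd 5869],
   .loop none [.bwd 1151, .bwd 5828],
   .loop none [.fwd 794, .fwd 5834, .fwd 2934],
   .loop none [.fwd 5872],
   .loop none [.fwd 319, .fwd 5836, .bwd 1836],
   .loop none [.fwd 5874],
   .loop none [.fwd 4146, .bwd 5838],
   .loop none [.bwd 5871, .fwd 5840, .fwd 5052],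
   .loop none [.bwd 5877],
   .loop none [.bwd 475, .bwd 5840],
   .loop none [.fwd 4197, .fwd 5842, .bwd 1166],
   .loop none [.fwd 5880],
   .loop none [.bwd 460, .fwd 5844, .bwd 2069],
   .loop none [.fwd 5882],
   .loop none [.bwd 3321, .bwd 5848],
   .loop none [.fwd 5829, .bwd 5855],
   .loop none [.fwd 291, .fwd 5863, .fwd 1495],
   .loop none [.fwd 5886],
   .loop none [.fwd 5866, .fwd 5004, .bwd 5866],
   .loop none [.fwd 5866, .fwd 5003, .bwd 5866],
   .loop none [.bwd 4992, .bwd 5866],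
   .loop none [.bwd 4993, .bwd 5866],
   .loop none [.bwd 441, .fwd 5866, .bwd 5402],
   .loop none [.bwd 5892],
   .loop none [.bwd 4996, .bwd 5866],
   .loop none [.fwd 5849, .bwd 5866],
   .loop none [.bwd 4997, .bwd 5866],
   .loop none [.fwd 5001, .bwd 5866],
   .loop none [.fwd 5808, .fwd 5870, .fwd 497],
   .loop none [.fwd 5898],
   .loop none [.bwd 866, .fwd 5873, .fwd 2935],
   .loop none [.fwd 5900],
   .loop none [.fwd 4681, .fwd 5875, .bwd 1835],
   .loop none [.fwd 5902],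
   .loop none [.bwd 4148, .fwd 5878, .fwd 1152],
   .loop none [.fwd 5904],
   .loop none [.fwd 5871, .bwd 5878],
   .loop none [.fwd 5660, .fwd 5881, .bwd 1165],
   .loop none [.fwd 5907],
   .loop none [.bwd 461, .fwd 5883, .bwd 2068],
   .loop none [.fwd 5909],
   .loop none [.fwd 5667, .fwd 5887, .fwd 1496],
   .loop none [.fwd 5911],
   .loop none [.fwd 221, .fwd 5893, .fwd 442],
   .loop none [.fwd 5913],
   .loop none [.fwd 441, .bwd 5893],
   .loop none [.bwd 393, .fwd 5899, .fwd 498],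
   .loop none [.fwd 5916],
   .loop none [.bwd 870, .fwd 5901, .fwd 2936],
   .loop none [.fwd 5918],
   .loop none [.bwd 4343, .fwd 5903, .bwd 1834],
   .loop none [.fwd 5920],
   .loop none [.bwd 5798, .fwd 5905, .fwd 1153],
   .loop none [.fwd 5922],
   .loop none [.bwd 5661, .fwd 5908, .bwd 1164],
   .loop none [.fwd 5924],
   .loop none [.bwd 5036, .fwd 5910, .bwd 2067],
   .loop none [.fwd 5926],
   .loop none [.bwd 5669, .fwd 5912, .fwd 1497],
   .loop none [.fwd 5928],
   .loop none [.bwd 5318, .fwd 5914, .fwd 443],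
   .loop none [.fwd 5930],
   .loop none [.bwd 5845, .fwd 5917, .fwd 499],
   .loop none [.fwd 5932],
   .loop none [.bwd 5792, .fwd 5919, .fwd 2937],
   .loop none [.fwd 5934],
   .loop none [.bwd 1396, .fwd 5921, .bwd 1833],
   .loop none [.fwd 5936],
   .loop none [.bwd 1154, .bwd 5923],
   .loop none [.bwd 931, .fwd 5925, .bwd 1163],
   .loop none [.fwd 5939],
   .loop none [.fwd 523, .fwd 5927, .bwd 2066],
   .loop none [.fwd 5941],
   .loop none [.fwd 5795, .fwd 5929, .fwd 1498],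
   .loop none [.bwd 5943],
   .loop none [.bwd 397, .fwd 5931, .fwd 444],
   .loop none [.fwd 5945],
   .loop none [.fwd 5165, .fwd 5933, .fwd 500],
   .loop none [.fwd 5947],
   .loop none [.bwd 523, .fwd 5935, .fwd 2938],
   .loop none [.fwd 5949],
   .loop none [.bwd 4694, .fwd 5937, .bwd 1832],
   .loop none [.fwd 5951],
   .loop none [.bwd 165, .fwd 5940, .bwd 1162],
   .loop none [.fwd 5953],
   .loop none [.fwd 522, .fwd 5942, .bwd 2065],
   .loop none [.fwd 5955],
   .loop none [.bwd 1499, .fwd 5944, .fwd 5794],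
   .loop none [.bwd 5957],
   .loop none [.bwd 5795, .bwd 5944],
   .loop none [.bwd 398, .fwd 5946, .fwd 445],
   .loop none [.fwd 5960],
   .loop none [.bwd 431, .fwd 5948, .fwd 501],
   .loop none [.fwd 5962],
   .loop none [.bwd 524, .fwd 5950, .fwd 2939],
   .loop none [.fwd 5964],
   .loop none [.bwd 1738, .fwd 5952, .bwd 1831],
   .loop none [.fwd 5966],
   .loop none [.fwd 5248, .fwd 5954, .bwd 1161],
   .loop none [.fwd 5968],
   .loop none [.fwd 5046, .fwd 5956, .bwd 2064],
   .loop none [.fwd 5970],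
   .loop none [.fwd 1499, .bwd 5958],
   .loop none [.bwd 446, .bwd 5961],
   .loop none [.bwd 5203, .fwd 5963, .fwd 502],
   .loop none [.fwd 5974],
   .loop none [.bwd 5020, .fwd 5965, .fwd 2940],
   .loop none [.fwd 5976],
   .loop none [.fwd 1830, .bwd 5967],
   .loop none [.bwd 140, .fwd 5969, .bwd 1160],
   .loop none [.fwd 5979],
   .loop none [.fwd 3613, .fwd 5971, .bwd 2063],
   .loop none [.fwd 5981],
   .loop none [.fwd 432, .fwd 5975, .fwd 503],
   .loop none [.fwd 5983],
   .loop none [.fwd 460, .fwd 5977, .fwd 2941],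
   .loop none [.fwd 5985],
   .loop none [.fwd 5403, .fwd 5980, .bwd 1159],
   .loop none [.fwd 5987],
   .loop none [.fwd 488, .fwd 5982, .bwd 2062],
   .loop none [.fwd 5989],
   .loop none [.fwd 431, .fwd 5984, .fwd 504],
   .loop none [.fwd 5991],
   .loop none [.fwd 459, .fwd 5986, .fwd 2942],
   .loop none [.fwd 5993],
   .loop none [.fwd 5633, .fwd 5988, .bwd 1158],
   .loop none [.bwd 5995],
   .loop none [.fwd 5576, .bwd 5990],
   .loop none [.bwd 4977, .fwd 5992, .fwd 505],
   .loop none [.fwd 5998]]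

theorem just23_len : just23.length = 250 := by decide +kernel

theorem just23_ok : cert.okFacts 5750 just23 = true := by decide +kernel


end CfsgLib.ThCent.HK
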