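import Cfsg.Agent.Lib.ThCent.HKData

/-!
Justifications of the side facts (generated data).
-/

namespace CfsgLib.ThCent.HK

open CfsgLib.PresCert

set_option maxRecDepth 100000

/-- justifications -/
noncomputable def just24 : List Cert.Just :=
  [.loop none [.fwd 4226, .fwd 5994, .bwd 5820],
   .loop none [.fwd 6000],
   .loop none [.bwd 2015, .bwd 5996],
   .loop none [.bwd 5633, .bwd 5996],
   .loop none [.bwd 5634, .bwd 5996],
   .loop none [.fwd 394, .fwd 5999, .fwd 506],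
   .loop none [.fwd 6005],
   .loop none [.fwd 5571, .fwd 6001, .fwd 2571],
   .loop none [.fwd 6007],
   .loop none [.fwd 94, .fwd 6001, .bwd 2570],
   .loop none [.fwd 6009],
   .loop none [.fwd 393, .fwd 6006, .fwd 507],
   .loop none [.fwd 6011],
   .loop none [.bwd 5570, .fwd 6008, .fwd 2572],
   .loop none [.bwd 6013],
   .loop none [.bwd 2388, .fwd 6010, .bwd 2569],
   .loop none [.fwd 6015],
   .loop none [.fwd 392, .fwd 6012, .fwd 508],
   .loop none [.fwd 6017],
   .loop none [.fwd 2573, .bwd 6014],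
   .loop none [.fwd 5570, .bwd 6014],
   .loop none [.fwd 2777, .bwd 6014],
   .loop none [.bwd 320, .fwd 6016, .bwd 2568],
   .loop none [.fwd 6022],
   .loop none [.bwd 509, .bwd 6018],
   .loop none [.fwd 4439, .fwd 6023, .bwd 2567],
   .loop none [.fwd 6025],
   .loop none [.bwd 2776, .fwd 6026, .bwd 2566],
   .loop none [.bwd 6027],
   .loop none [.fwd 2565, .fwd 6028, .bwd 5747, .bwd 6028],
   .loop none [.fwd 6029],
   .loop none [.fwd 6030, .fwd 6028],
   .loop none [.fwd 2564, .bwd 6031, .bwd 2776],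
   .loop none [.bwd 6032],
   .loop none [.fwd 6021, .fwd 6031],
   .loop none [.fwd 2565, .bwd 6030],
   .loop none [.bwd 2564, .bwd 6033],
   .loop none [.bwd 4439, .fwd 6033, .bwd 2563],
   .loop none [.fwd 6037],
   .loop none [.fwd 4578, .fwd 6038, .bwd 2562],
   .loop none [.fwd 6039],
   .loop none [.bwd 4577, .fwd 6040, .bwd 2561],
   .loop none [.fwd 6041],
   .loop none [.fwd 4855, .fwd 6042, .bwd 2560],
   .loop none [.fwd 6043],
   .loop none [.fwd 2559, .bwd 6044],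
   .loop (some (2, 2)) [.bwd 5769, .bwd 5040, .fwd 5769],
   .loop (some (12, 2)) [.bwd 5770, .fwd 5040, .fwd 5770, .bwd 519],
   .loop none [.bwd 6047],
   .loop none [.fwd 6048, .fwd 5724, .bwd 6048],
   .loop none [.fwd 519, .bwd 6048],
   .loop none [.fwd 518, .fwd 6048, .fwd 5696],
   .loop none [.bwd 6051],
   .loop none [.bwd 5725, .bwd 6048],
   .loop none [.bwd 5697, .bwd 6048],
   .loop none [.bwd 5726, .bwd 6048],
   .loop none [.fwd 5770, .bwd 6048],
   .loop none [.bwd 5729, .bwd 6048],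
   .loop none [.bwd 518, .bwd 6052],
   .loop (some (9, 2)) [.bwd 5769, .bwd 5045, .fwd 6024],
   .loop (some (5, 1)) [.bwd 6036, .bwd 5648, .fwd 701, .bwd 798],
   .loop none [.bwd 6060],
   .loop none [.fwd 6061, .fwd 6035, .bwd 6061],
   .loop none [.fwd 6036, .bwd 6061],
   .loop none [.bwd 5645, .fwd 6061, .fwd 6034],
   .loop none [.fwd 6064],
   .loop none [.fwd 6065, .fwd 6019, .bwd 6065],
   .loop none [.bwd 5938, .fwd 6065, .fwd 6020],
   .loop none [.fwd 6067],
   .loop none [.fwd 6068, .fwd 4604, .bwd 6068],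
   .loop none [.fwd 6068, .fwd 4605, .bwd 6068],
   .loop none [.bwd 5571, .bwd 6068],
   .loop none [.bwd 1454, .bwd 6068],
   .loop none [.bwd 1155, .fwd 6068, .bwd 5762],
   .loop none [.bwd 6073],
   .loop none [.fwd 5545, .bwd 6068],
   .loop none [.bwd 5572, .bwd 6068],
   .loop none [.bwd 5573, .bwd 6068],
   .loop none [.fwd 1155, .bwd 6074],
   .loop none [.fwd 5798, .fwd 6074, .fwd 1156],
   .loop none [.fwd 6079],
   .loop none [.bwd 5546, .fwd 6080, .fwd 1157],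
   .loop none [.bwd 6081],
   .loop none [.fwd 6082, .fwd 5032, .bwd 6082],
   .loop none [.fwd 6082, .fwd 5031, .bwd 6082],
   .loop none [.fwd 4427, .bwd 6082],
   .loop none [.fwd 5884, .bwd 6082],
   .loop none [.bwd 4956, .bwd 6082],
   .loop none [.fwd 5033, .bwd 6082],
   .loop none [.fwd 5546, .bwd 6082],
   .loop (some (18, 7)) [.bwd 3958, .bwd 4048, .fwd 5648, .bwd 5624, .bwd 524, .bwd 6056, .fwd 6054],
   .loop (some (23, 16)) [.bwd 5401, .bwd 662, .bwd 3958, .bwd 4048, .fwd 5648, .bwd 5624, .fwd 468, .bwd 4972, .fwd 5808, .bwd 5831, .fwd 5830, .fwd 5896, .fwd 5643, .fwd 5672, .bwd 285, .fwd 5669, .bwd 6072, .fwd 6077],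
   .loop none [.bwd 6091],
   .loop none [.fwd 457, .fwd 6092, .bwd 4677],
   .loop none [.fwd 6093],
   .loop none [.fwd 5401, .bwd 6092],
   .loop none [.bwd 5011, .fwd 6092, .fwd 1828],
   .loop none [.fwd 6096],
   .loop none [.fwd 5705, .bwd 6094],
   .loop none [.bwd 4343, .bwd 6094],
   .loop none [.bwd 5012, .fwd 6094, .fwd 4681],
   .loop none [.bwd 6100],
   .loop none [.fwd 4849, .bwd 6094],
   .loop none [.fwd 4763, .bwd 6094],
   .loop none [.fwd 4566, .bwd 6094],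
   .loop none [.fwd 1740, .fwd 6097, .fwd 1829],
   .loop none [.fwd 6105],
   .loop none [.bwd 4646, .bwd 6097],
   .loop none [.fwd 5012, .bwd 6101],
   .loop none [.fwd 5978, .bwd 6106],
   .loop (some (17, 2)) [.bwd 1780, .bwd 4271, .fwd 5678, .bwd 5648, .bwd 798, .bwd 797],
   .loop (some (12, 1)) [.bwd 662, .fwd 4048, .fwd 662],
   .loop (some (20, 5)) [.fwd 1740, .bwd 5011, .fwd 6095, .bwd 4544, .bwd 5317, .fwd 5316, .bwd 394, .bwd 393],
   .loop (some (22, 9)) [.bwd 5011, .fwd 6095, .bwd 4544, .bwd 5317, .fwd 5318, .fwd 4862, .bwd 2504, .bwd 824, .bwd 5661, .fwd 5662, .bwd 291],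
   .loop (some (18, 5)) [.fwd 798, .fwd 662, .bwd 5673, .bwd 6111, .bwd 6095, .bwd 6076, .bwd 6078],
   .loop (some (23, 15)) [.bwd 5648, .bwd 6090, .bwd 5673, .bwd 6111, .bwd 6095, .bwd 6076, .fwd 6072, .bwd 5670, .fwd 285, .bwd 5671, .bwd 5643, .bwd 5897, .bwd 5830, .fwd 5832, .bwd 5808, .bwd 392, .bwd 468],
   .loop (some (17, 3)) [.fwd 1740, .bwd 5011, .fwd 6095, .bwd 6054, .fwd 6053, .fwd 676],
   .loop (some (23, 11)) [.fwd 6078, .fwd 6076, .fwd 5011, .bwd 6113, .fwd 291, .bwd 5148, .bwd 5139, .bwd 5140, .bwd 6053, .fwd 6057, .fwd 524, .fwd 5624, .bwd 5678, .bwd 5851, .fwd 394, .bwd 5565, .fwd 797],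
   .loop (some (15, 2)) [.bwd 6116, .bwd 676, .bwd 5860, .fwd 5859],
   .loop (some (20, 0)) [.bwd 6024, .bwd 468, .fwd 5621, .fwd 173, .fwd 174, .fwd 4544, .bwd 6054, .fwd 6053, .fwd 676],
   .loop none [.fwd 6119],
   .loop none [.bwd 510, .fwd 6120, .bwd 4819],
   .loop none [.bwd 6121],
   .loop none [.bwd 6116, .bwd 6120],
   .loop none [.fwd 676, .bwd 6120],
   .loop none [.bwd 6059, .fwd 6120, .fwd 4531],
   .loop none [.bwd 6125],
   .loop none [.fwd 5867, .bwd 6120],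
   .loop none [.fwd 510, .bwd 6122],
   .loop none [.fwd 6126, .fwd 6046, .bwd 6126],
   .loop none [.fwd 5259, .fwd 6126, .bwd 2017],
   .loop none [.fwd 6130],
   .loop none [.fwd 5769, .bwd 6126],
   .loop none [.fwd 6059, .bwd 6126],
   .loop none [.fwd 5203, .fwd 6131, .bwd 2016],
   .loop none [.fwd 6134],
   .loop none [.bwd 5200, .fwd 6135, .bwd 6002],
   .loop none [.bwd 6136],
   .loop none [.fwd 5200, .bwd 6137],
   .loop (some (5, 1)) [.bwd 4271, .bwd 5558, .fwd 6110],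
   .loop (some (15, 2)) [.fwd 1780, .bwd 6110, .bwd 5816, .fwd 5814],
   .loop (some (21, 4)) [.bwd 5885, .bwd 399, .bwd 458, .bwd 6076, .bwd 5938, .bwd 6117, .fwd 6063, .fwd 4439, .bwd 4578, .bwd 172],
   .loop none [.bwd 6141],
   .loop none [.fwd 6142, .fwd 4943, .bwd 6142],
   .loop none [.fwd 6142, .fwd 4944, .bwd 6142],
   .loop none [.bwd 5824, .bwd 6142],
   .loop none [.fwd 385, .bwd 6142],
   .loop none [.fwd 171, .fwd 6142, .fwd 386],
   .loop none [.fwd 6147],
   .loop none [.bwd 5853, .bwd 6142],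
   .loop none [.fwd 5885, .bwd 6142],
   .loop none [.bwd 5856, .bwd 6142],
   .loop none [.fwd 6148, .fwd 4945, .bwd 6148],
   .loop none [.fwd 6148, .fwd 4946, .bwd 6148],
   .loop none [.bwd 387, .bwd 6148],
   .loop none [.fwd 170, .fwd 6148, .fwd 4470],
   .loop none [.fwd 6155],
   .loop none [.fwd 5016, .bwd 6148],
   .loop none [.fwd 6087, .bwd 6148],
   .loop none [.fwd 5906, .bwd 6148],
   .loop none [.bwd 5879, .bwd 6148],
   .loop none [.fwd 6156, .fwd 4949, .bwd 6156],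
   .loop none [.fwd 6156, .fwd 4950, .bwd 6156],
   .loop none [.fwd 5859, .bwd 6156],
   .loop none [.bwd 6118, .bwd 6156],
   .loop (some (0, 2)) [.fwd 4602, .fwd 5668],
   .loop (some (14, 1)) [.bwd 489, .fwd 6165, .fwd 6117],
   .loop (some (11, 1)) [.bwd 6117, .fwd 5644, .fwd 6117],
   .loop (some (8, 1)) [.bwd 5972, .fwd 5719, .bwd 6063, .bwd 6165],
   .loop none [.bwd 6168],
   .loop none [.fwd 5972, .bwd 6169],
   .loop none [.bwd 5959, .bwd 6169],
   .loop (some (23, 9)) [.bwd 5814, .bwd 5087, .bwd 6163, .fwd 4592, .bwd 6003, .fwd 6089, .fwd 5798, .bwd 6117, .bwd 5644, .bwd 6062, .fwd 798, .fwd 662, .bwd 6054, .fwd 6056, .bwd 523, .bwd 5792, .bwd 870],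
   .loop (some (9, 2)) [.bwd 5645, .bwd 6165, .fwd 6171],
   .loop (some (15, 2)) [.bwd 6110, .fwd 797, .bwd 6165, .bwd 488],
   .loop (some (22, 4)) [.bwd 5011, .fwd 6095, .bwd 4544, .bwd 5317, .fwd 5318, .fwd 4233, .bwd 2504, .bwd 824, .bwd 5661, .fwd 5662, .bwd 291, .fwd 5424],
   .loop none [.bwd 6175],
   .loop none [.fwd 6176, .fwd 5013, .bwd 6176],
   .loop none [.fwd 6176, .fwd 5014, .bwd 6176],
   .loop none [.fwd 5011, .bwd 6176],
   .loop none [.bwd 4694, .fwd 6176, .bwd 1740],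
   .loop none [.fwd 6180],
   .loop none [.fwd 5424, .fwd 6176, .fwd 6107],
   .loop none [.fwd 6182],
   .loop none [.fwd 6113, .bwd 6176],
   .loop none [.fwd 6112, .bwd 6181],
   .loop none [.bwd 1738, .fwd 6181, .bwd 6123],
   .loop none [.bwd 6186],
   .loop none [.fwd 6164, .bwd 6181],
   .loop none [.fwd 6187, .bwd 6109, .bwd 6181],
   .loop none [.fwd 6187, .fwd 1739, .bwd 6181],
   .loop none [.bwd 291, .fwd 6183, .fwd 2551],
   .loop none [.fwd 6191],
   .loop none [.fwd 1738, .bwd 6187],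
   .loop none [.fwd 5662, .fwd 6192, .fwd 2552],
   .loop none [.fwd 6194],
   .loop none [.bwd 5660, .fwd 6195, .fwd 2553],
   .loop none [.fwd 6196],
   .loop none [.bwd 285, .fwd 6197, .fwd 2554],
   .loop none [.fwd 6198],
   .loop none [.bwd 286, .fwd 6199, .fwd 2555],
   .loop none [.fwd 6200],
   .loop none [.bwd 3479, .fwd 6201, .fwd 2556],
   .loop none [.fwd 6202],
   .loop none [.bwd 5601, .fwd 6203, .fwd 2557],
   .loop none [.fwd 6204],
   .loop none [.fwd 6163, .fwd 6205, .fwd 2558],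
   .loop none [.fwd 6206],
   .loop none [.fwd 6045, .bwd 6207],
   .loop (some (21, 3)) [.fwd 323, .fwd 6128, .bwd 6024, .fwd 392, .fwd 5805, .bwd 931, .fwd 4093, .fwd 5876, .bwd 6159],
   .loop (some (2, 2)) [.fwd 5661, .bwd 4092, .bwd 5661],
   .loop (some (1, 2)) [.fwd 5661, .bwd 1028, .bwd 5661],
   .loop (some (9, 2)) [.fwd 5661, .bwd 4395, .bwd 4439],
   .loop (some (21, 6)) [.fwd 6057, .bwd 5036, .fwd 4723, .bwd 4093, .bwd 5661, .fwd 5793, .fwd 4958, .bwd 4858, .bwd 6208],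
   .loop (some (9, 2)) [.bwd 5876, .fwd 4450, .bwd 6071],
   .loop (some (13, 0)) [.bwd 867, .fwd 6172, .bwd 867],
   .loop (some (14, 3)) [.fwd 6215, .fwd 6140, .fwd 5738],
   .loop (some (2, 2)) [.bwd 867, .bwd 5591, .fwd 867],
   .loop (some (11, 1)) [.bwd 6215, .fwd 3621, .fwd 6215],
   .loop (some (8, 2)) [.fwd 3618, .bwd 6216, .fwd 6139],
   .loop (some (24, 18)) [.bwd 6193, .fwd 6124, .bwd 5161, .fwd 4380, .fwd 90, .fwd 4121, .bwd 90, .bwd 4380, .bwd 5662, .bwd 870, .bwd 866, .fwd 287, .bwd 612, .fwd 611, .fwd 612, .bwd 287, .fwd 866, .bwd 3618, .fwd 4045, .fwd 3618, .fwd 5591, .fwd 3621, .bwd 3618, .fwd 286, .fwd 866, .fwd 6172, .bwd 5754, .bwd 3613, .fwd 6170, .fwd 5754, .bwd 5814, .fwd 483, .bwd 6163, .fwd 170, .fwd 6209, .bwd 4577, .fwd 173, .bwd 6104, .fwd 6099, .bwd 4831],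
   .loop (some (14, 1)) [.fwd 5671, .fwd 4926, .bwd 6172],
   .loop (some (0, 1)) [.bwd 4273, .bwd 5423],
   .loop (some (2, 2)) [.bwd 933, .bwd 5460, .fwd 933],
   .loop (some (1, 2)) [.bwd 933, .bwd 5459, .fwd 933],
   .loop (some (21, 6)) [.bwd 5203, .bwd 6138, .fwd 6004, .fwd 4603, .bwd 6171, .fwd 489, .bwd 4147, .bwd 6160, .fwd 6209],
   .loop (some (8, 2)) [.bwd 6138, .fwd 6088, .bwd 457],
   .loop (some (3, 1)) [.bwd 4694, .fwd 6177, .fwd 4694],
   .loop (some (4, 1)) [.bwd 4694, .fwd 6178, .fwd 4694],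
   .loop (some (21, 7)) [.fwd 325, .bwd 4303, .bwd 1462, .bwd 6170, .fwd 6171, .bwd 5669, .bwd 5660, .fwd 5792, .fwd 4958, .fwd 5973],
   .loop none [.fwd 6229],
   .loop none [.bwd 6220, .fwd 6230, .fwd 447],
   .loop none [.bwd 6231],
   .loop none [.fwd 5973, .bwd 6230],
   .loop none [.fwd 6232, .fwd 6227, .bwd 6232],
   .loop none [.bwd 448, .fwd 6232, .bwd 6228, .bwd 6232],
   .loop none [.bwd 6235],
   .loop none [.fwd 6220, .bwd 6232],
   .loop none [.bwd 6185, .bwd 6232],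
   .loop none [.fwd 4694, .bwd 6232],
   .loop none [.fwd 6193, .bwd 6232],
   .loop none [.bwd 6188, .bwd 6232],
   .loop none [.bwd 6189, .bwd 6232],
   .loop none [.bwd 6190, .bwd 6232],
   .loop none [.fwd 448, .bwd 6236],
   .loop none [.bwd 6237, .fwd 6236, .fwd 449],
   .loop none [.fwd 6245],
   .loop none [.bwd 6233, .fwd 6246, .fwd 450],
   .loop none [.fwd 6247],
   .loop none [.bwd 4317, .fwd 6248, .fwd 451]]

theorem just24_len : just24.length = 250 := by decide +kernel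

theorem just24_ok : cert.okFacts 6000 just24 = true := by decide +kernel

/-- justifications -/
noncomputable def just25 : List Cert.Just :=
  [.loop none [.fwd 6249],
   .loop none [.bwd 4181, .fwd 6250, .fwd 452],
   .loop none [.fwd 6251],
   .loop none [.fwd 313, .fwd 6252, .fwd 453],
   .loop none [.fwd 6253],
   .loop none [.fwd 458, .fwd 6254, .fwd 454],
   .loop none [.bwd 6255],
   .loop none [.fwd 6256, .fwd 4635, .bwd 6256],
   .loop none [.bwd 455, .fwd 6256, .bwd 457],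
   .loop none [.fwd 6258],
   .loop none [.bwd 458, .bwd 6256],
   .loop none [.bwd 6095, .bwd 6256],
   .loop none [.fwd 6179, .bwd 6256],
   .loop none [.fwd 6088, .bwd 6256],
   .loop none [.fwd 6157, .bwd 6256],
   .loop none [.fwd 6077, .bwd 6256],
   .loop none [.fwd 6076, .bwd 6256],
   .loop none [.fwd 456, .bwd 6259],
   .loop none [.bwd 6098, .bwd 6259],
   .loop none [.bwd 6099, .bwd 6259],
   .loop none [.fwd 6108, .bwd 6259],
   .loop none [.bwd 6226, .bwd 6259],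
   .loop none [.bwd 6102, .bwd 6259],
   .loop none [.bwd 6103, .bwd 6259],
   .loop none [.bwd 6104, .bwd 6259],
   .loop (some (3, 1)) [.fwd 6269, .fwd 3451, .bwd 6269],
   .loop (some (24, 24)) [.bwd 6128, .bwd 5758, .bwd 431, .fwd 5165, .fwd 164, .fwd 5604, .fwd 4958, .fwd 4920, .bwd 4958, .bwd 5604, .bwd 164, .bwd 5845, .fwd 4983, .fwd 5845, .fwd 3927, .fwd 3482, .bwd 5845, .bwd 393, .fwd 5808, .bwd 5832, .fwd 5830, .bwd 5915, .bwd 221, .fwd 5318, .fwd 397, .fwd 398, .fwd 4317, .fwd 4181, .fwd 7, .fwd 383, .fwd 391, .bwd 4972, .fwd 393, .fwd 394, .bwd 4977, .fwd 431, .fwd 432, .bwd 5264, .fwd 5758, .fwd 6128],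
   .loop (some (8, 2)) [.bwd 166, .bwd 4832, .bwd 6237],
   .loop (some (0, 0)) [.bwd 6241, .fwd 6277],
   .define,
   .define,
   .loop (some (19, 4)) [.bwd 6280, .bwd 6279, .fwd 5259, .fwd 6129, .bwd 5130, .bwd 5259, .fwd 6279, .fwd 6280],
   .loop (some (24, 40)) [.fwd 5130, .bwd 5259, .bwd 5247, .fwd 5248, .bwd 4718, .fwd 461, .fwd 388, .bwd 4958, .bwd 522, .bwd 469, .fwd 4162, .bwd 4149, .fwd 4148, .fwd 4603, .bwd 6072, .bwd 6078, .bwd 6117, .bwd 797, .fwd 6110, .fwd 6139, .fwd 1780, .bwd 6110, .fwd 5564, .bwd 5316, .fwd 221, .bwd 4049, .bwd 221, .fwd 5316, .bwd 6086, .fwd 6003, .fwd 5403, .fwd 141, .fwd 1396, .bwd 6178, .bwd 1396, .bwd 141, .bwd 5403, .bwd 5259, .fwd 6279, .fwd 6280, .bwd 6281],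
   .loop none [.fwd 6282],
   .loop none [.fwd 5259, .fwd 6283, .bwd 6280],
   .loop none [.fwd 6284],
   .loop none [.fwd 6279, .bwd 6285],
   .loop (some (6, 1)) [.bwd 6133, .fwd 5130, .fwd 6133],
   .loop (some (9, 2)) [.bwd 6213, .bwd 6278, .bwd 6145],
   .loop (some (8, 2)) [.bwd 6209, .fwd 6158, .fwd 6138],
   .loop (some (6, 1)) [.fwd 5260, .fwd 4917, .bwd 5260],
   .loop none [.edge 9, .bwd 45],
   .loop none [.edge 2, .bwd 6291, .fwd 5],
   .loop none [.edge 5, .bwd 6291, .fwd 1],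
   .loop none [.edge 4, .bwd 6291, .fwd 11],
   .loop none [.edge 3, .bwd 6292, .fwd 67],
   .loop none [.edge 5, .bwd 6292, .fwd 3904],
   .loop none [.edge 4, .bwd 6292, .bwd 66],
   .loop none [.edge 9, .bwd 6292, .fwd 6],
   .loop none [.edge 5, .bwd 6293, .fwd 2],
   .loop none [.edge 6, .bwd 6293, .bwd 584],
   .loop none [.edge 4, .bwd 6294, .fwd 52],
   .loop none [.edge 6, .bwd 6294, .bwd 615],
   .loop none [.edge 5, .bwd 6295, .bwd 4149],
   .loop none [.edge 4, .bwd 6295, .fwd 283],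
   .loop none [.edge 9, .bwd 6295, .fwd 400],
   .loop none [.edge 3, .bwd 6296, .bwd 3893],
   .loop none [.edge 5, .bwd 6296, .fwd 3898],
   .loop none [.edge 6, .bwd 6296, .bwd 3834],
   .loop none [.edge 9, .bwd 6296, .bwd 3919],
   .loop none [.edge 3, .bwd 6297, .bwd 5305],
   .loop none [.edge 4, .bwd 6297, .bwd 132],
   .loop none [.edge 6, .bwd 6297, .bwd 705],
   .loop none [.edge 9, .bwd 6297, .bwd 4073],
   .loop none [.edge 5, .bwd 6298, .bwd 313],
   .loop none [.edge 4, .bwd 6298, .bwd 4181],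
   .loop none [.edge 3, .bwd 6303, .bwd 5876],
   .loop none [.edge 5, .bwd 6303, .fwd 4148],
   .loop none [.edge 6, .bwd 6303, .bwd 6214],
   .loop none [.edge 9, .bwd 6303, .bwd 6160],
   .loop none [.edge 3, .bwd 6304, .fwd 284],
   .loop none [.edge 4, .bwd 6304, .fwd 288],
   .loop none [.edge 6, .bwd 6304, .bwd 6166],
   .loop none [.edge 9, .bwd 6304, .bwd 489],
   .loop none [.edge 5, .bwd 6305, .fwd 469],
   .loop none [.edge 4, .bwd 6305, .fwd 383],
   .loop none [.edge 5, .bwd 6306, .bwd 5815],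
   .loop none [.edge 4, .bwd 6306, .fwd 5712],
   .loop none [.edge 7, .bwd 6306, .fwd 3741],
   .loop none [.edge 6, .bwd 6306, .fwd 3742],
   .loop none [.edge 9, .bwd 6306, .fwd 3743],
   .loop none [.edge 9, .bwd 6307, .bwd 4551],
   .loop none [.edge 9, .bwd 6308, .fwd 163],
   .loop none [.edge 2, .bwd 6309, .fwd 1396],
   .loop none [.edge 5, .bwd 6309, .bwd 4831],
   .loop none [.edge 4, .bwd 6309, .bwd 6269],
   .loop none [.edge 5, .bwd 6310, .bwd 97],
   .loop none [.edge 7, .bwd 6310, .fwd 2642],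
   .loop none [.edge 6, .bwd 6310, .bwd 4356],
   .loop none [.edge 9, .bwd 6310, .fwd 4220],
   .loop none [.edge 9, .bwd 6311, .fwd 133],
   .loop none [.edge 9, .bwd 6312, .fwd 30],
   .loop none [.edge 4, .bwd 6313, .bwd 95],
   .loop none [.edge 3, .bwd 6314, .bwd 6260],
   .loop none [.edge 5, .bwd 6314, .fwd 459],
   .loop none [.edge 6, .bwd 6314, .bwd 4878],
   .loop none [.edge 3, .bwd 6315, .bwd 5695],
   .loop none [.edge 4, .bwd 6315, .bwd 4317],
   .loop none [.edge 6, .bwd 6315, .bwd 4921],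
   .loop none [.edge 2, .bwd 6316, .bwd 4093],
   .loop none [.edge 4, .bwd 6316, .fwd 2504],
   .loop none [.edge 7, .bwd 6316, .bwd 5468],
   .loop none [.edge 9, .bwd 6317, .bwd 6089],
   .loop none [.edge 2, .bwd 6319, .fwd 6209],
   .loop none [.edge 5, .bwd 6319, .fwd 171],
   .loop none [.edge 4, .bwd 6319, .bwd 170],
   .loop none [.edge 2, .bwd 6320, .bwd 5660],
   .loop none [.edge 5, .bwd 6320, .fwd 5667],
   .loop none [.edge 4, .bwd 6320, .fwd 285],
   .loop none [.edge 6, .bwd 6320, .bwd 4602],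
   .loop none [.edge 2, .bwd 6323, .fwd 6170],
   .loop none [.edge 5, .bwd 6323, .bwd 488],
   .loop none [.edge 3, .bwd 6324, .fwd 5699],
   .loop none [.edge 5, .bwd 6324, .fwd 522],
   .loop none [.edge 6, .bwd 6324, .bwd 5023],
   .loop none [.edge 3, .bwd 6325, .fwd 384],
   .loop none [.edge 4, .bwd 6325, .fwd 391],
   .loop none [.edge 6, .bwd 6325, .bwd 5027],
   .loop none [.edge 3, .bwd 6326, .fwd 5813],
   .loop none [.edge 5, .bwd 6326, .fwd 5814],
   .loop none [.edge 7, .bwd 6326, .fwd 5816],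
   .loop none [.edge 6, .bwd 6326, .fwd 5817],
   .loop none [.edge 9, .bwd 6326, .fwd 483],
   .loop none [.edge 7, .bwd 6327, .bwd 4273],
   .loop none [.edge 9, .bwd 6327, .bwd 5897],
   .loop none [.edge 4, .bwd 6328, .fwd 5648],
   .loop none [.edge 9, .bwd 6328, .bwd 6090],
   .loop none [.edge 4, .bwd 6329, .fwd 866],
   .loop none [.edge 9, .bwd 6329, .fwd 3479],
   .loop none [.edge 2, .bwd 6330, .bwd 140],
   .loop none [.edge 5, .bwd 6330, .fwd 5322],
   .loop none [.edge 4, .bwd 6330, .bwd 5403],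
   .loop none [.edge 5, .bwd 6331, .bwd 174],
   .loop none [.edge 4, .bwd 6331, .bwd 5317],
   .loop none [.edge 2, .bwd 6332, .bwd 5845],
   .loop none [.edge 5, .bwd 6332, .fwd 164],
   .loop none [.edge 4, .bwd 6332, .bwd 5165],
   .loop none [.edge 3, .bwd 6333, .bwd 4323],
   .loop none [.edge 4, .bwd 6333, .bwd 6239],
   .loop none [.edge 5, .bwd 6334, .bwd 324],
   .loop none [.edge 7, .bwd 6334, .fwd 4832],
   .loop none [.edge 4, .bwd 6335, .fwd 6270],
   .loop none [.edge 7, .bwd 6335, .fwd 6271],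
   .loop none [.edge 5, .bwd 6336, .bwd 4351],
   .loop none [.edge 6, .bwd 6336, .fwd 2626],
   .loop none [.edge 5, .bwd 6337, .fwd 5384],
   .loop none [.edge 4, .bwd 6337, .bwd 32],
   .loop none [.edge 5, .bwd 6338, .bwd 92],
   .loop none [.edge 9, .bwd 6338, .fwd 93],
   .loop none [.edge 2, .bwd 6339, .bwd 90],
   .loop none [.edge 5, .bwd 6346, .bwd 397],
   .loop none [.edge 4, .bwd 6352, .fwd 6086],
   .loop none [.edge 3, .bwd 6353, .fwd 6225],
   .loop none [.edge 4, .bwd 6353, .bwd 4577],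
   .loop none [.edge 7, .bwd 6354, .fwd 6288],
   .loop none [.edge 6, .bwd 6354, .fwd 6149],
   .loop none [.edge 3, .bwd 6358, .fwd 5594],
   .loop none [.edge 6, .bwd 6358, .bwd 6219],
   .loop none [.edge 7, .bwd 6365, .bwd 6127],
   .loop none [.edge 9, .bwd 6371, .bwd 5148],
   .loop none [.bwd 6291, .bwd 0],
   .loop none [.bwd 6291, .fwd 10, .fwd 6291],
   .loop none [.bwd 6291, .fwd 40, .fwd 6291],
   .loop none [.bwd 6291, .fwd 4, .fwd 6291],
   .loop none [.bwd 6291, .bwd 9, .fwd 6291],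
   .loop none [.bwd 6292, .fwd 329, .fwd 6292],
   .loop none [.bwd 6292, .fwd 3903, .fwd 6292],
   .loop none [.bwd 6292, .bwd 73, .fwd 6292],
   .loop none [.bwd 6298, .fwd 4032, .fwd 6292],
   .loop none [.bwd 6293, .fwd 149, .fwd 6293],
   .loop none [.bwd 6293, .fwd 152, .fwd 6293],
   .loop none [.bwd 6297, .bwd 65, .fwd 6293],
   .loop none [.bwd 6293, .fwd 248, .fwd 6293],
   .loop none [.bwd 6299, .bwd 123, .fwd 6293],
   .loop none [.bwd 6294, .fwd 53, .fwd 6293],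
   .loop none [.bwd 6294, .fwd 212, .fwd 6293],
   .loop none [.bwd 6294, .fwd 71, .fwd 6294],
   .loop none [.bwd 6294, .fwd 72, .fwd 6294],
   .loop none [.bwd 6296, .fwd 3820, .fwd 6294],
   .loop none [.bwd 6294, .fwd 255, .fwd 6294],
   .loop none [.bwd 6301, .fwd 606, .fwd 6294],
   .loop none [.bwd 6295, .fwd 341, .fwd 6295],
   .loop none [.bwd 6295, .fwd 4004, .fwd 6295],
   .loop none [.bwd 6295, .fwd 120, .fwd 6295],
   .loop none [.bwd 6295, .bwd 377, .fwd 6295],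
   .loop none [.bwd 6305, .fwd 4162, .fwd 6295],
   .loop none [.bwd 6296, .fwd 3047, .fwd 6296],
   .loop none [.bwd 6296, .fwd 3819, .fwd 6296],
   .loop none [.bwd 6307, .bwd 3907, .fwd 6296],
   .loop none [.bwd 6309, .fwd 3460, .fwd 6296],
   .loop none [.bwd 6297, .fwd 338, .fwd 6297],
   .loop none [.bwd 6297, .fwd 3937, .fwd 6297],
   .loop none [.bwd 6311, .bwd 230, .fwd 6297],
   .loop none [.bwd 6313, .fwd 2613, .fwd 6297],
   .loop none [.bwd 6298, .fwd 409, .fwd 6298],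
   .loop none [.bwd 6298, .fwd 4027, .fwd 6298],
   .loop none [.bwd 6305, .bwd 7, .fwd 6298],
   .loop none [.bwd 6305, .fwd 8, .fwd 6298],
   .loop none [.bwd 6298, .fwd 401, .fwd 6298],
   .loop none [.bwd 6299, .fwd 226, .fwd 6299],
   .loop none [.bwd 6299, .fwd 225, .fwd 6299],
   .loop none [.bwd 6311, .fwd 54, .fwd 6299],
   .loop none [.bwd 6299, .fwd 3, .fwd 6299],
   .loop none [.bwd 6302, .fwd 614, .fwd 6299],
   .loop none [.bwd 6300, .fwd 585, .fwd 6299],
   .loop none [.bwd 6302, .fwd 617, .fwd 6299],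
   .loop none [.bwd 6302, .fwd 616, .fwd 6299],
   .loop none [.bwd 6300, .fwd 576, .fwd 6300],
   .loop none [.bwd 6300, .fwd 577, .fwd 6300],
   .loop none [.bwd 6312, .fwd 704, .fwd 6300],
   .loop none [.bwd 6300, .fwd 579, .fwd 6300],
   .loop none [.bwd 6301, .fwd 587, .fwd 6300],
   .loop none [.bwd 6302, .bwd 620, .fwd 6300],
   .loop none [.bwd 6301, .fwd 17, .fwd 6300],
   .loop none [.bwd 6301, .bwd 621, .fwd 6300],
   .loop none [.bwd 6301, .fwd 537, .fwd 6301],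
   .loop none [.bwd 6301, .fwd 538, .fwd 6301],
   .loop none [.bwd 6307, .fwd 3848, .fwd 6301],
   .loop none [.bwd 6301, .fwd 267, .fwd 6301],
   .loop none [.bwd 6302, .bwd 605, .fwd 6301],
   .loop none [.bwd 6302, .fwd 610, .fwd 6302],
   .loop none [.bwd 6302, .fwd 611, .fwd 6302],
   .loop none [.bwd 6308, .bwd 612, .fwd 6302],
   .loop none [.bwd 6302, .fwd 613, .fwd 6302],
   .loop none [.bwd 6303, .fwd 5050, .fwd 6303],
   .loop none [.bwd 6303, .fwd 5051, .fwd 6303],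
   .loop none [.bwd 6304, .bwd 4147, .fwd 6303],
   .loop none [.bwd 6317, .bwd 4150, .fwd 6303],
   .loop none [.bwd 6319, .fwd 6159, .fwd 6303],
   .loop none [.bwd 6304, .fwd 1456, .fwd 6304],
   .loop none [.bwd 6304, .fwd 4153, .fwd 6304],
   .loop none [.bwd 6321, .fwd 4607, .fwd 6304],
   .loop none [.bwd 6323, .bwd 4156, .fwd 6304],
   .loop none [.bwd 6305, .fwd 426, .fwd 6305],
   .loop none [.bwd 6305, .fwd 4157, .fwd 6305],
   .loop none [.bwd 6305, .bwd 413, .fwd 6305],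
   .loop none [.bwd 6306, .fwd 3773, .fwd 6306],
   .loop none [.bwd 6306, .fwd 3892, .fwd 6306],
   .loop none [.bwd 6306, .fwd 3775, .fwd 6306],
   .loop none [.bwd 6330, .fwd 4020, .fwd 6306],
   .loop none [.bwd 6307, .fwd 3343, .fwd 6307],
   .loop none [.bwd 6307, .fwd 3956, .fwd 6307],
   .loop none [.bwd 6328, .fwd 3959, .fwd 6307],
   .loop none [.bwd 6312, .fwd 3963, .fwd 6307],
   .loop none [.bwd 6308, .fwd 3964, .fwd 6307],
   .loop none [.bwd 6331, .fwd 4550, .fwd 6307],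
   .loop none [.bwd 6308, .fwd 844, .fwd 6308],
   .loop none [.bwd 6308, .fwd 3831, .fwd 6308],
   .loop none [.bwd 6329, .fwd 287, .fwd 6308],
   .loop none [.bwd 6311, .fwd 28, .fwd 6308]]

theorem just25_len : just25.length = 250 := by decide +kernel

theorem just25_ok : cert.okFacts 6250 just25 = true := by decide +kernel

/-- justifications -/
noncomputable def just26 : List Cert.Just :=
  [.loop none [.bwd 6312, .bwd 29, .fwd 6308],
   .loop none [.bwd 6332, .fwd 3936, .fwd 6308],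
   .loop none [.bwd 6309, .fwd 3451, .fwd 6309],
   .loop none [.bwd 6309, .fwd 3912, .fwd 6309],
   .loop none [.bwd 6330, .fwd 141, .fwd 6309],
   .loop none [.bwd 6332, .bwd 3459, .fwd 6309],
   .loop none [.bwd 6331, .fwd 4548, .fwd 6309],
   .loop none [.bwd 6310, .fwd 2636, .fwd 6310],
   .loop none [.bwd 6310, .fwd 4215, .fwd 6310],
   .loop none [.bwd 6310, .fwd 4216, .fwd 6310],
   .loop none [.bwd 6313, .bwd 4217, .fwd 6310],
   .loop none [.bwd 6339, .bwd 2645, .fwd 6310],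
   .loop none [.bwd 6311, .fwd 837, .fwd 6311],
   .loop none [.bwd 6311, .fwd 3859, .fwd 6311],
   .loop none [.bwd 6337, .bwd 5473, .fwd 6311],
   .loop none [.bwd 6312, .bwd 716, .fwd 6311],
   .loop none [.bwd 6340, .fwd 3984, .fwd 6311],
   .loop none [.bwd 6312, .fwd 885, .fwd 6312],
   .loop none [.bwd 6312, .fwd 3837, .fwd 6312],
   .loop none [.bwd 6338, .fwd 5380, .fwd 6312],
   .loop none [.bwd 6341, .fwd 3947, .fwd 6312],
   .loop none [.bwd 6313, .fwd 2605, .fwd 6313],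
   .loop none [.bwd 6313, .fwd 4064, .fwd 6313],
   .loop none [.bwd 6336, .bwd 96, .fwd 6313],
   .loop none [.bwd 6339, .fwd 5229, .fwd 6313],
   .loop none [.bwd 6341, .bwd 4071, .fwd 6313],
   .loop none [.bwd 6340, .bwd 4072, .fwd 6313],
   .loop none [.bwd 6314, .fwd 4174, .fwd 6314],
   .loop none [.bwd 6314, .fwd 4175, .fwd 6314],
   .loop none [.bwd 6325, .bwd 399, .fwd 6314],
   .loop none [.bwd 6344, .bwd 463, .fwd 6314],
   .loop none [.bwd 6342, .fwd 4226, .fwd 6314],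
   .loop none [.bwd 6342, .bwd 2849, .fwd 6314],
   .loop none [.bwd 6315, .fwd 1534, .fwd 6315],
   .loop none [.bwd 6315, .fwd 4178, .fwd 6315],
   .loop none [.bwd 6324, .fwd 4303, .fwd 6315],
   .loop none [.bwd 6347, .bwd 4959, .fwd 6315],
   .loop none [.bwd 6334, .fwd 325, .fwd 6315],
   .loop none [.bwd 6334, .fwd 4833, .fwd 6315],
   .loop none [.bwd 6316, .fwd 4954, .fwd 6316],
   .loop none [.bwd 6316, .fwd 4955, .fwd 6316],
   .loop none [.bwd 6349, .fwd 824, .fwd 6316],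
   .loop none [.bwd 6342, .bwd 4450, .fwd 6316],
   .loop none [.bwd 6345, .fwd 4879, .fwd 6316],
   .loop none [.bwd 6345, .fwd 4723, .fwd 6316],
   .loop none [.bwd 6317, .fwd 6224, .fwd 6317],
   .loop none [.bwd 6317, .fwd 6223, .fwd 6317],
   .loop none [.bwd 6321, .bwd 4603, .fwd 6317],
   .loop none [.bwd 6351, .fwd 933, .fwd 6317],
   .loop none [.bwd 6322, .bwd 5798, .fwd 6317],
   .loop none [.bwd 6318, .fwd 6075, .fwd 6317],
   .loop none [.bwd 6352, .fwd 6004, .fwd 6317],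
   .loop none [.bwd 6318, .fwd 6069, .fwd 6318],
   .loop none [.bwd 6318, .fwd 6070, .fwd 6318],
   .loop none [.bwd 6322, .fwd 5938, .fwd 6318],
   .loop none [.bwd 6342, .bwd 6071, .fwd 6318],
   .loop none [.bwd 6321, .bwd 6072, .fwd 6318],
   .loop none [.bwd 6322, .fwd 6078, .fwd 6318],
   .loop none [.bwd 6343, .fwd 6266, .fwd 6318],
   .loop none [.bwd 6343, .fwd 6265, .fwd 6318],
   .loop none [.bwd 6319, .fwd 6152, .fwd 6319],
   .loop none [.bwd 6319, .fwd 6153, .fwd 6319],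
   .loop none [.bwd 6345, .bwd 6154, .fwd 6319],
   .loop none [.bwd 6343, .fwd 6264, .fwd 6319],
   .loop none [.bwd 6352, .bwd 6158, .fwd 6319],
   .loop none [.bwd 6320, .fwd 3608, .fwd 6320],
   .loop none [.bwd 6320, .fwd 4197, .fwd 6320],
   .loop none [.bwd 6323, .bwd 5668, .fwd 6320],
   .loop none [.bwd 6321, .bwd 5669, .fwd 6320],
   .loop none [.bwd 6321, .bwd 5670, .fwd 6320],
   .loop none [.bwd 6321, .fwd 3605, .fwd 6321],
   .loop none [.bwd 6321, .fwd 4300, .fwd 6321],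
   .loop none [.bwd 6323, .fwd 6171, .fwd 6321],
   .loop none [.bwd 6322, .bwd 6173, .fwd 6321],
   .loop none [.bwd 6322, .fwd 6167, .fwd 6322],
   .loop none [.bwd 6322, .fwd 6066, .fwd 6322],
   .loop none [.bwd 6359, .fwd 5645, .fwd 6322],
   .loop none [.bwd 6359, .fwd 6117, .fwd 6322],
   .loop none [.bwd 6359, .bwd 6114, .fwd 6322],
   .loop none [.bwd 6323, .fwd 5111, .fwd 6323],
   .loop none [.bwd 6323, .fwd 5112, .fwd 6323],
   .loop none [.bwd 6360, .bwd 3613, .fwd 6323],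
   .loop none [.bwd 6359, .bwd 6165, .fwd 6323],
   .loop none [.bwd 6324, .fwd 5043, .fwd 6324],
   .loop none [.bwd 6324, .fwd 5042, .fwd 6324],
   .loop none [.bwd 6363, .bwd 526, .fwd 6324],
   .loop none [.bwd 6360, .fwd 1462, .fwd 6324],
   .loop none [.bwd 6360, .fwd 5046, .fwd 6324],
   .loop none [.bwd 6325, .fwd 470, .fwd 6325],
   .loop none [.bwd 6325, .fwd 4304, .fwd 6325],
   .loop none [.bwd 6366, .fwd 4966, .fwd 6325],
   .loop none [.bwd 6354, .fwd 6151, .fwd 6325],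
   .loop none [.bwd 6354, .fwd 6150, .fwd 6325],
   .loop none [.bwd 6326, .fwd 5077, .fwd 6326],
   .loop none [.bwd 6326, .fwd 5078, .fwd 6326],
   .loop none [.bwd 6327, .bwd 5812, .fwd 6326],
   .loop none [.bwd 6372, .fwd 5087, .fwd 6326],
   .loop none [.bwd 6327, .fwd 5120, .fwd 6327],
   .loop none [.bwd 6327, .fwd 5121, .fwd 6327],
   .loop none [.bwd 6350, .fwd 2487, .fwd 6327],
   .loop none [.bwd 6361, .bwd 5643, .fwd 6327],
   .loop none [.bwd 6357, .fwd 6222, .fwd 6327],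
   .loop none [.bwd 6374, .fwd 5896, .fwd 6327],
   .loop none [.bwd 6328, .fwd 3958, .fwd 6328],
   .loop none [.bwd 6328, .fwd 4048, .fwd 6328],
   .loop none [.bwd 6328, .fwd 701, .fwd 6328],
   .loop none [.bwd 6359, .fwd 798, .fwd 6328],
   .loop none [.bwd 6329, .bwd 920, .fwd 6328],
   .loop none [.bwd 6376, .bwd 662, .fwd 6328],
   .loop none [.bwd 6329, .fwd 906, .fwd 6329],
   .loop none [.bwd 6329, .fwd 3920, .fwd 6329],
   .loop none [.bwd 6329, .fwd 794, .fwd 6329],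
   .loop none [.bwd 6358, .fwd 286, .fwd 6329],
   .loop none [.bwd 6378, .fwd 4050, .fwd 6329],
   .loop none [.bwd 6330, .fwd 3554, .fwd 6330],
   .loop none [.bwd 6330, .fwd 4925, .fwd 6330],
   .loop none [.bwd 6378, .bwd 3505, .fwd 6330],
   .loop none [.bwd 6376, .fwd 4112, .fwd 6330],
   .loop none [.bwd 6331, .fwd 4540, .fwd 6331],
   .loop none [.bwd 6331, .fwd 4541, .fwd 6331],
   .loop none [.bwd 6374, .fwd 5890, .fwd 6331],
   .loop none [.bwd 6376, .bwd 4544, .fwd 6331],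
   .loop none [.bwd 6332, .bwd 4549, .fwd 6331],
   .loop none [.bwd 6332, .fwd 3482, .fwd 6332],
   .loop none [.bwd 6332, .fwd 3927, .fwd 6332],
   .loop none [.bwd 6378, .bwd 609, .fwd 6332],
   .loop none [.bwd 6333, .fwd 6177, .fwd 6333],
   .loop none [.bwd 6333, .fwd 6178, .fwd 6333],
   .loop none [.bwd 6343, .fwd 6262, .fwd 6333],
   .loop none [.bwd 6384, .fwd 5850, .fwd 6333],
   .loop none [.bwd 6374, .fwd 5894, .fwd 6333],
   .loop none [.bwd 6357, .fwd 5424, .fwd 6333],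
   .loop none [.bwd 6357, .bwd 6184, .fwd 6333],
   .loop none [.bwd 6334, .fwd 4830, .fwd 6334],
   .loop none [.bwd 6334, .fwd 4848, .fwd 6334],
   .loop none [.bwd 6388, .fwd 6237, .fwd 6334],
   .loop none [.bwd 6347, .bwd 6233, .fwd 6334],
   .loop none [.bwd 6346, .fwd 4960, .fwd 6334],
   .loop none [.bwd 6335, .fwd 6275, .fwd 6335],
   .loop none [.bwd 6335, .fwd 6267, .fwd 6335],
   .loop none [.bwd 6343, .fwd 455, .fwd 6335],
   .loop none [.bwd 6382, .bwd 6268, .fwd 6335],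
   .loop none [.bwd 6353, .bwd 6272, .fwd 6335],
   .loop none [.bwd 6382, .bwd 6273, .fwd 6335],
   .loop none [.bwd 6382, .bwd 6274, .fwd 6335],
   .loop none [.bwd 6336, .fwd 2895, .fwd 6336],
   .loop none [.bwd 6336, .fwd 4211, .fwd 6336],
   .loop none [.bwd 6357, .fwd 5418, .fwd 6336],
   .loop none [.bwd 6350, .bwd 2625, .fwd 6336],
   .loop none [.bwd 6387, .fwd 4325, .fwd 6336],
   .loop none [.bwd 6387, .bwd 2628, .fwd 6336],
   .loop none [.bwd 6337, .fwd 1216, .fwd 6337],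
   .loop none [.bwd 6337, .fwd 4237, .fwd 6337],
   .loop none [.bwd 6337, .fwd 4238, .fwd 6337],
   .loop none [.bwd 6338, .fwd 4357, .fwd 6337],
   .loop none [.bwd 6395, .bwd 5393, .fwd 6337],
   .loop none [.bwd 6395, .bwd 5394, .fwd 6337],
   .loop none [.bwd 6338, .fwd 2026, .fwd 6338],
   .loop none [.bwd 6338, .fwd 4352, .fwd 6338],
   .loop none [.bwd 6338, .fwd 4353, .fwd 6338],
   .loop none [.bwd 6351, .fwd 5464, .fwd 6338],
   .loop none [.bwd 6398, .bwd 4358, .fwd 6338],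
   .loop none [.bwd 6339, .fwd 1980, .fwd 6339],
   .loop none [.bwd 6339, .fwd 4121, .fwd 6339],
   .loop none [.bwd 6340, .bwd 4126, .fwd 6339],
   .loop none [.bwd 6397, .bwd 91, .fwd 6339],
   .loop none [.bwd 6398, .bwd 2451, .fwd 6339],
   .loop none [.bwd 6395, .fwd 5301, .fwd 6339],
   .loop none [.bwd 6340, .fwd 1706, .fwd 6340],
   .loop none [.bwd 6340, .fwd 3978, .fwd 6340],
   .loop none [.bwd 6394, .fwd 4117, .fwd 6340],
   .loop none [.bwd 6395, .bwd 3981, .fwd 6340],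
   .loop none [.bwd 6394, .bwd 88, .fwd 6340],
   .loop none [.bwd 6341, .bwd 1698, .fwd 6340],
   .loop none [.bwd 6341, .fwd 1025, .fwd 6341],
   .loop none [.bwd 6341, .fwd 3940, .fwd 6341],
   .loop none [.bwd 6350, .fwd 4075, .fwd 6341],
   .loop none [.bwd 6398, .fwd 5292, .fwd 6341],
   .loop none [.bwd 6396, .bwd 31, .fwd 6341],
   .loop none [.bwd 6349, .bwd 989, .fwd 6341],
   .loop none [.bwd 6342, .fwd 2736, .fwd 6342],
   .loop none [.bwd 6342, .fwd 4221, .fwd 6342],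
   .loop none [.bwd 6393, .fwd 4348, .fwd 6342],
   .loop none [.bwd 6398, .fwd 94, .fwd 6342],
   .loop none [.bwd 6351, .fwd 5467, .fwd 6342],
   .loop none [.bwd 6343, .fwd 6257, .fwd 6343],
   .loop none [.bwd 6343, .fwd 5015, .fwd 6343],
   .loop none [.bwd 6376, .bwd 6261, .fwd 6343],
   .loop none [.bwd 6352, .bwd 6263, .fwd 6343],
   .loop none [.bwd 6344, .fwd 4957, .fwd 6344],
   .loop none [.bwd 6344, .fwd 5030, .fwd 6344],
   .loop none [.bwd 6366, .fwd 4625, .fwd 6344],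
   .loop none [.bwd 6352, .fwd 6085, .fwd 6344],
   .loop none [.bwd 6348, .bwd 460, .fwd 6344],
   .loop none [.bwd 6345, .bwd 4952, .fwd 6344],
   .loop none [.bwd 6351, .fwd 5470, .fwd 6344],
   .loop none [.bwd 6351, .fwd 5469, .fwd 6344],
   .loop none [.bwd 6345, .fwd 4875, .fwd 6345],
   .loop none [.bwd 6345, .fwd 4951, .fwd 6345],
   .loop none [.bwd 6367, .bwd 5036, .fwd 6345],
   .loop none [.bwd 6347, .bwd 388, .fwd 6345],
   .loop none [.bwd 6348, .fwd 461, .fwd 6345],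
   .loop none [.bwd 6346, .fwd 4961, .fwd 6346],
   .loop none [.bwd 6346, .fwd 4962, .fwd 6346],
   .loop none [.bwd 6355, .fwd 6208, .fwd 6346],
   .loop none [.bwd 6353, .bwd 4855, .fwd 6346],
   .loop none [.bwd 6390, .fwd 5006, .fwd 6346],
   .loop none [.bwd 6347, .bwd 398, .fwd 6346],
   .loop none [.bwd 6347, .bwd 4858, .fwd 6346],
   .loop none [.bwd 6347, .fwd 4919, .fwd 6347],
   .loop none [.bwd 6347, .fwd 4920, .fwd 6347],
   .loop none [.bwd 6363, .fwd 4958, .fwd 6347],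
   .loop none [.bwd 6348, .bwd 4865, .fwd 6347],
   .loop none [.bwd 6348, .fwd 4923, .fwd 6348],
   .loop none [.bwd 6348, .fwd 4953, .fwd 6348],
   .loop none [.bwd 6364, .fwd 5020, .fwd 6348],
   .loop none [.bwd 6390, .bwd 5716, .fwd 6348],
   .loop none [.bwd 6390, .fwd 4724, .fwd 6348],
   .loop none [.bwd 6390, .bwd 4718, .fwd 6348],
   .loop none [.bwd 6349, .fwd 1028, .fwd 6349],
   .loop none [.bwd 6349, .fwd 4092, .fwd 6349],
   .loop none [.bwd 6356, .fwd 5661, .fwd 6349],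
   .loop none [.bwd 6397, .fwd 4258, .fwd 6349],
   .loop none [.bwd 6393, .fwd 4395, .fwd 6349],
   .loop none [.bwd 6385, .bwd 4099, .fwd 6349],
   .loop none [.bwd 6385, .bwd 931, .fwd 6349],
   .loop none [.bwd 6350, .fwd 2484, .fwd 6350],
   .loop none [.bwd 6350, .fwd 4074, .fwd 6350],
   .loop none [.bwd 6395, .fwd 5298, .fwd 6350],
   .loop none [.bwd 6394, .bwd 2491, .fwd 6350],
   .loop none [.bwd 6400, .fwd 4862, .fwd 6350],
   .loop none [.bwd 6400, .fwd 4233, .fwd 6350],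
   .loop none [.bwd 6351, .fwd 5459, .fwd 6351],
   .loop none [.bwd 6351, .fwd 5460, .fwd 6351],
   .loop none [.bwd 6397, .bwd 5461, .fwd 6351],
   .loop none [.bwd 6399, .fwd 5549, .fwd 6351],
   .loop none [.bwd 6352, .fwd 6083, .fwd 6352],
   .loop none [.bwd 6352, .fwd 6084, .fwd 6352],
   .loop none [.bwd 6392, .bwd 6138, .fwd 6352],
   .loop none [.bwd 6381, .bwd 6003, .fwd 6352],
   .loop none [.bwd 6353, .fwd 4802, .fwd 6353],
   .loop none [.bwd 6353, .fwd 4803, .fwd 6353],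
   .loop none [.bwd 6392, .fwd 6289, .fwd 6353],
   .loop none [.bwd 6389, .bwd 323, .fwd 6353],
   .loop none [.bwd 6389, .fwd 4825, .fwd 6353],
   .loop none [.bwd 6354, .fwd 6143, .fwd 6354],
   .loop none [.bwd 6354, .fwd 6144, .fwd 6354],
   .loop none [.bwd 6403, .bwd 172, .fwd 6354],
   .loop none [.bwd 6380, .bwd 6145, .fwd 6354],
   .loop none [.bwd 6365, .bwd 6146, .fwd 6354]]

theorem just26_len : just26.length = 250 := by decide +kernel

theorem just26_ok : cert.okFacts 6500 just26 = true := by decide +kernel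

/-- justifications -/
noncomputable def just27 : List Cert.Just :=
  [.loop none [.bwd 6355, .fwd 6161, .fwd 6355],
   .loop none [.bwd 6355, .fwd 6162, .fwd 6355],
   .loop none [.bwd 6404, .bwd 6213, .fwd 6355],
   .loop none [.bwd 6372, .bwd 6163, .fwd 6355],
   .loop none [.bwd 6388, .fwd 6241, .fwd 6355],
   .loop none [.bwd 6380, .fwd 6278, .fwd 6355],
   .loop none [.bwd 6381, .bwd 4592, .fwd 6355],
   .loop none [.bwd 6381, .fwd 169, .fwd 6355],
   .loop none [.bwd 6356, .fwd 6211, .fwd 6356],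
   .loop none [.bwd 6356, .fwd 6210, .fwd 6356],
   .loop none [.bwd 6377, .fwd 870, .fwd 6356],
   .loop none [.bwd 6371, .bwd 5662, .fwd 6356],
   .loop none [.bwd 6360, .fwd 5755, .fwd 6356],
   .loop none [.bwd 6375, .fwd 6212, .fwd 6356],
   .loop none [.bwd 6363, .bwd 5792, .fwd 6356],
   .loop none [.bwd 6363, .bwd 5793, .fwd 6356],
   .loop none [.bwd 6357, .fwd 4613, .fwd 6357],
   .loop none [.bwd 6357, .fwd 4614, .fwd 6357],
   .loop none [.bwd 6371, .bwd 5417, .fwd 6357],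
   .loop none [.bwd 6371, .bwd 291, .fwd 6357],
   .loop none [.bwd 6373, .bwd 5423, .fwd 6357],
   .loop none [.bwd 6358, .fwd 3616, .fwd 6358],
   .loop none [.bwd 6358, .fwd 4045, .fwd 6358],
   .loop none [.bwd 6377, .bwd 3618, .fwd 6358],
   .loop none [.bwd 6369, .bwd 4926, .fwd 6358],
   .loop none [.bwd 6361, .fwd 5672, .fwd 6358],
   .loop none [.bwd 6361, .fwd 5671, .fwd 6358],
   .loop none [.bwd 6359, .fwd 5644, .fwd 6359],
   .loop none [.bwd 6359, .fwd 6062, .fwd 6359],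
   .loop none [.bwd 6375, .bwd 6063, .fwd 6359],
   .loop none [.bwd 6370, .fwd 797, .fwd 6359],
   .loop none [.bwd 6360, .fwd 5115, .fwd 6360],
   .loop none [.bwd 6360, .fwd 5116, .fwd 6360],
   .loop none [.bwd 6397, .bwd 5718, .fwd 6360],
   .loop none [.bwd 6369, .bwd 5754, .fwd 6360],
   .loop none [.bwd 6375, .bwd 5719, .fwd 6360],
   .loop none [.bwd 6361, .fwd 5108, .fwd 6361],
   .loop none [.bwd 6361, .fwd 5110, .fwd 6361],
   .loop none [.bwd 6369, .bwd 5997, .fwd 6361],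
   .loop none [.bwd 6407, .bwd 5781, .fwd 6361],
   .loop none [.bwd 6406, .bwd 6174, .fwd 6361],
   .loop none [.bwd 6377, .fwd 6221, .fwd 6361],
   .loop none [.bwd 6362, .fwd 4397, .fwd 6362],
   .loop none [.bwd 6362, .fwd 4398, .fwd 6362],
   .loop none [.bwd 6404, .bwd 6058, .fwd 6362],
   .loop none [.bwd 6391, .bwd 318, .fwd 6362],
   .loop none [.bwd 6387, .fwd 4324, .fwd 6362],
   .loop none [.bwd 6385, .bwd 4403, .fwd 6362],
   .loop none [.bwd 6403, .fwd 4769, .fwd 6362],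
   .loop none [.bwd 6397, .bwd 4404, .fwd 6362],
   .loop none [.bwd 6397, .bwd 2168, .fwd 6362],
   .loop none [.bwd 6363, .fwd 5041, .fwd 6363],
   .loop none [.bwd 6363, .fwd 5039, .fwd 6363],
   .loop none [.bwd 6385, .fwd 5604, .fwd 6363],
   .loop none [.bwd 6367, .bwd 523, .fwd 6363],
   .loop none [.bwd 6364, .bwd 5037, .fwd 6363],
   .loop none [.bwd 6364, .fwd 4963, .fwd 6364],
   .loop none [.bwd 6364, .fwd 4964, .fwd 6364],
   .loop none [.bwd 6403, .bwd 5621, .fwd 6364],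
   .loop none [.bwd 6366, .bwd 468, .fwd 6364],
   .loop none [.bwd 6367, .fwd 524, .fwd 6364],
   .loop none [.bwd 6375, .bwd 5624, .fwd 6364],
   .loop none [.bwd 6375, .bwd 6115, .fwd 6364],
   .loop none [.bwd 6365, .fwd 4931, .fwd 6365],
   .loop none [.bwd 6365, .fwd 4929, .fwd 6365],
   .loop none [.bwd 6382, .bwd 5864, .fwd 6365],
   .loop none [.bwd 6374, .bwd 5830, .fwd 6365],
   .loop none [.bwd 6381, .bwd 5868, .fwd 6365],
   .loop none [.bwd 6380, .bwd 5831, .fwd 6365],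
   .loop none [.bwd 6380, .bwd 5832, .fwd 6365],
   .loop none [.bwd 6366, .fwd 4927, .fwd 6366],
   .loop none [.bwd 6366, .fwd 4928, .fwd 6366],
   .loop none [.bwd 6408, .bwd 6024, .fwd 6366],
   .loop none [.bwd 6367, .bwd 5045, .fwd 6366],
   .loop none [.bwd 6405, .fwd 4972, .fwd 6366],
   .loop none [.bwd 6405, .bwd 392, .fwd 6366],
   .loop none [.bwd 6367, .fwd 5024, .fwd 6367],
   .loop none [.bwd 6367, .fwd 5040, .fwd 6367],
   .loop none [.bwd 6381, .fwd 6132, .fwd 6367],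
   .loop none [.bwd 6404, .fwd 6057, .fwd 6367],
   .loop none [.bwd 6404, .fwd 6056, .fwd 6367],
   .loop none [.bwd 6368, .fwd 2453, .fwd 6368],
   .loop none [.bwd 6368, .fwd 4249, .fwd 6368],
   .loop none [.bwd 6398, .fwd 4283, .fwd 6368],
   .loop none [.bwd 6398, .fwd 2388, .fwd 6368],
   .loop none [.bwd 6393, .bwd 320, .fwd 6368],
   .loop none [.bwd 6396, .bwd 4250, .fwd 6368],
   .loop none [.bwd 6399, .bwd 4251, .fwd 6368],
   .loop none [.bwd 6391, .fwd 4661, .fwd 6368],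
   .loop none [.bwd 6391, .fwd 319, .fwd 6368],
   .loop none [.bwd 6369, .fwd 6218, .fwd 6369],
   .loop none [.bwd 6369, .fwd 6217, .fwd 6369],
   .loop none [.bwd 6377, .fwd 867, .fwd 6369],
   .loop none [.bwd 6407, .bwd 6140, .fwd 6369],
   .loop none [.bwd 6377, .fwd 6215, .fwd 6369],
   .loop none [.bwd 6377, .fwd 6172, .fwd 6369],
   .loop none [.bwd 6370, .fwd 5556, .fwd 6370],
   .loop none [.bwd 6370, .fwd 5557, .fwd 6370],
   .loop none [.bwd 6373, .bwd 5558, .fwd 6370],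
   .loop none [.bwd 6396, .bwd 5559, .fwd 6370],
   .loop none [.bwd 6406, .bwd 6110, .fwd 6370],
   .loop none [.bwd 6371, .bwd 5562, .fwd 6370],
   .loop none [.bwd 6401, .bwd 5564, .fwd 6370],
   .loop none [.bwd 6401, .bwd 5565, .fwd 6370],
   .loop none [.bwd 6371, .fwd 4377, .fwd 6371],
   .loop none [.bwd 6371, .fwd 4378, .fwd 6371],
   .loop none [.bwd 6399, .bwd 4380, .fwd 6371],
   .loop none [.bwd 6409, .bwd 5161, .fwd 6371],
   .loop none [.bwd 6372, .fwd 5083, .fwd 6372],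
   .loop none [.bwd 6372, .fwd 5084, .fwd 6372],
   .loop none [.bwd 6400, .bwd 5857, .fwd 6372],
   .loop none [.bwd 6391, .bwd 5858, .fwd 6372],
   .loop none [.bwd 6378, .fwd 5601, .fwd 6372],
   .loop none [.bwd 6409, .bwd 5860, .fwd 6372],
   .loop none [.bwd 6401, .bwd 5861, .fwd 6372],
   .loop none [.bwd 6373, .fwd 4268, .fwd 6373],
   .loop none [.bwd 6373, .fwd 4269, .fwd 6373],
   .loop none [.bwd 6394, .bwd 4270, .fwd 6373],
   .loop none [.bwd 6375, .bwd 5678, .fwd 6373],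
   .loop none [.bwd 6407, .bwd 4271, .fwd 6373],
   .loop none [.bwd 6384, .fwd 5852, .fwd 6373],
   .loop none [.bwd 6384, .fwd 5851, .fwd 6373],
   .loop none [.bwd 6374, .fwd 5888, .fwd 6374],
   .loop none [.bwd 6374, .fwd 5889, .fwd 6374],
   .loop none [.bwd 6400, .bwd 5891, .fwd 6374],
   .loop none [.bwd 6378, .fwd 5915, .fwd 6374],
   .loop none [.bwd 6384, .bwd 5895, .fwd 6374],
   .loop none [.bwd 6375, .fwd 4799, .fwd 6375],
   .loop none [.bwd 6375, .fwd 4789, .fwd 6375],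
   .loop none [.bwd 6393, .bwd 4439, .fwd 6375],
   .loop none [.bwd 6376, .fwd 5673, .fwd 6376],
   .loop none [.bwd 6376, .fwd 6111, .fwd 6376],
   .loop none [.bwd 6391, .bwd 5399, .fwd 6376],
   .loop none [.bwd 6404, .fwd 6054, .fwd 6376],
   .loop none [.bwd 6378, .bwd 4113, .fwd 6376],
   .loop none [.bwd 6377, .fwd 3621, .fwd 6377],
   .loop none [.bwd 6377, .fwd 5591, .fwd 6377],
   .loop none [.bwd 6406, .fwd 6216, .fwd 6377],
   .loop none [.bwd 6378, .fwd 3503, .fwd 6378],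
   .loop none [.bwd 6378, .fwd 4049, .fwd 6378],
   .loop none [.bwd 6383, .fwd 221, .fwd 6378],
   .loop none [.bwd 6379, .fwd 5242, .fwd 6379],
   .loop none [.bwd 6379, .fwd 5243, .fwd 6379],
   .loop none [.bwd 6409, .bwd 5246, .fwd 6379],
   .loop none [.bwd 6402, .bwd 5247, .fwd 6379],
   .loop none [.bwd 6390, .bwd 5248, .fwd 6379],
   .loop none [.bwd 6383, .bwd 3551, .fwd 6379],
   .loop none [.bwd 6391, .bwd 5249, .fwd 6379],
   .loop none [.bwd 6399, .bwd 5250, .fwd 6379],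
   .loop none [.bwd 6399, .bwd 5251, .fwd 6379],
   .loop none [.bwd 6380, .fwd 5771, .fwd 6380],
   .loop none [.bwd 6380, .fwd 5772, .fwd 6380],
   .loop none [.bwd 6390, .fwd 166, .fwd 6380],
   .loop none [.bwd 6405, .fwd 5808, .fwd 6380],
   .loop none [.bwd 6388, .fwd 6277, .fwd 6380],
   .loop none [.bwd 6381, .fwd 5130, .fwd 6381],
   .loop none [.bwd 6381, .fwd 6129, .fwd 6381],
   .loop none [.bwd 6402, .fwd 5259, .fwd 6381],
   .loop none [.bwd 6408, .bwd 6133, .fwd 6381],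
   .loop none [.bwd 6382, .fwd 4917, .fwd 6382],
   .loop none [.bwd 6382, .fwd 4846, .fwd 6382],
   .loop none [.bwd 6403, .fwd 173, .fwd 6382],
   .loop none [.bwd 6389, .fwd 4824, .fwd 6382],
   .loop none [.bwd 6402, .fwd 5260, .fwd 6382],
   .loop none [.bwd 6383, .fwd 5312, .fwd 6383],
   .loop none [.bwd 6383, .fwd 5313, .fwd 6383],
   .loop none [.bwd 6401, .bwd 5316, .fwd 6383],
   .loop none [.bwd 6400, .bwd 5318, .fwd 6383],
   .loop none [.bwd 6391, .bwd 5319, .fwd 6383],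
   .loop none [.bwd 6396, .bwd 5320, .fwd 6383],
   .loop none [.bwd 6396, .bwd 5321, .fwd 6383],
   .loop none [.bwd 6384, .fwd 4982, .fwd 6384],
   .loop none [.bwd 6384, .fwd 4983, .fwd 6384],
   .loop none [.bwd 6386, .bwd 5846, .fwd 6384],
   .loop none [.bwd 6401, .bwd 394, .fwd 6384],
   .loop none [.bwd 6405, .fwd 393, .fwd 6384],
   .loop none [.bwd 6385, .fwd 3513, .fwd 6385],
   .loop none [.bwd 6385, .fwd 4052, .fwd 6385],
   .loop none [.bwd 6405, .fwd 5805, .fwd 6385],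
   .loop none [.bwd 6390, .bwd 165, .fwd 6385],
   .loop none [.bwd 6403, .fwd 5540, .fwd 6385],
   .loop none [.bwd 6386, .fwd 5162, .fwd 6386],
   .loop none [.bwd 6386, .fwd 5163, .fwd 6386],
   .loop none [.bwd 6401, .bwd 4977, .fwd 6386],
   .loop none [.bwd 6392, .bwd 431, .fwd 6386],
   .loop none [.bwd 6400, .bwd 5168, .fwd 6386],
   .loop none [.bwd 6387, .bwd 5169, .fwd 6386],
   .loop none [.bwd 6394, .bwd 5170, .fwd 6386],
   .loop none [.bwd 6394, .fwd 5208, .fwd 6386],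
   .loop none [.bwd 6387, .fwd 2897, .fwd 6387],
   .loop none [.bwd 6387, .fwd 4322, .fwd 6387],
   .loop none [.bwd 6409, .fwd 4844, .fwd 6387],
   .loop none [.bwd 6389, .fwd 4797, .fwd 6387],
   .loop none [.bwd 6400, .fwd 5002, .fwd 6387],
   .loop none [.bwd 6388, .fwd 6234, .fwd 6388],
   .loop none [.bwd 6388, .fwd 6244, .fwd 6388],
   .loop none [.bwd 6405, .bwd 6238, .fwd 6388],
   .loop none [.bwd 6408, .bwd 6240, .fwd 6388],
   .loop none [.bwd 6408, .bwd 6242, .fwd 6388],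
   .loop none [.bwd 6408, .bwd 6243, .fwd 6388],
   .loop none [.bwd 6389, .fwd 4817, .fwd 6389],
   .loop none [.bwd 6389, .fwd 4818, .fwd 6389],
   .loop none [.bwd 6408, .bwd 6128, .fwd 6389],
   .loop none [.bwd 6392, .fwd 5758, .fwd 6389],
   .loop none [.bwd 6402, .fwd 5261, .fwd 6389],
   .loop none [.bwd 6390, .fwd 3518, .fwd 6390],
   .loop none [.bwd 6390, .fwd 4198, .fwd 6390],
   .loop none [.bwd 6391, .fwd 4649, .fwd 6391],
   .loop none [.bwd 6391, .fwd 4647, .fwd 6391],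
   .loop none [.bwd 6392, .fwd 5756, .fwd 6392],
   .loop none [.bwd 6392, .fwd 5757, .fwd 6392],
   .loop none [.bwd 6402, .bwd 432, .fwd 6392],
   .loop none [.bwd 6402, .bwd 5203, .fwd 6392],
   .loop none [.bwd 6402, .bwd 5264, .fwd 6392],
   .loop none [.bwd 6393, .fwd 4731, .fwd 6393],
   .loop none [.bwd 6393, .fwd 4734, .fwd 6393],
   .loop none [.bwd 6397, .bwd 4396, .fwd 6393],
   .loop none [.bwd 6403, .fwd 4770, .fwd 6393],
   .loop none [.bwd 6403, .fwd 4578, .fwd 6393],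
   .loop none [.bwd 6394, .fwd 1799, .fwd 6394],
   .loop none [.bwd 6394, .fwd 4116, .fwd 6394],
   .loop none [.bwd 6399, .bwd 89, .fwd 6394],
   .loop none [.bwd 6395, .fwd 3444, .fwd 6395],
   .loop none [.bwd 6395, .fwd 3872, .fwd 6395],
   .loop none [.bwd 6396, .bwd 5297, .fwd 6395],
   .loop none [.bwd 6398, .bwd 5302, .fwd 6395],
   .loop none [.bwd 6396, .fwd 1116, .fwd 6396],
   .loop none [.bwd 6396, .fwd 4082, .fwd 6396],
   .loop none [.bwd 6399, .fwd 1773, .fwd 6396],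
   .loop none [.bwd 6397, .fwd 1987, .fwd 6397],
   .loop none [.bwd 6397, .fwd 4253, .fwd 6397],
   .loop none [.bwd 6398, .fwd 2461, .fwd 6398],
   .loop none [.bwd 6398, .fwd 4282, .fwd 6398],
   .loop none [.bwd 6399, .fwd 1877, .fwd 6399],
   .loop none [.bwd 6399, .fwd 4242, .fwd 6399],
   .loop none [.bwd 6400, .fwd 4999, .fwd 6400],
   .loop none [.bwd 6400, .fwd 5000, .fwd 6400],
   .loop none [.bwd 6401, .fwd 4988, .fwd 6401],
   .loop none [.bwd 6401, .fwd 4986, .fwd 6401],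
   .loop none [.bwd 6409, .fwd 5144, .fwd 6401],
   .loop none [.bwd 6402, .fwd 6290, .fwd 6402],
   .loop none [.bwd 6402, .fwd 6286, .fwd 6402],
   .loop none [.bwd 6403, .fwd 4766, .fwd 6403],
   .loop none [.bwd 6403, .fwd 4800, .fwd 6403],
   .loop none [.bwd 6404, .fwd 6049, .fwd 6404],
   .loop none [.bwd 6404, .fwd 6050, .fwd 6404],
   .loop none [.bwd 6409, .bwd 6053, .fwd 6404],
   .loop none [.bwd 6405, .bwd 6055, .fwd 6404],
   .loop none [.bwd 6405, .fwd 4965, .fwd 6405],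
   .loop none [.bwd 6405, .fwd 4967, .fwd 6405]]

theorem just27_len : just27.length = 250 := by decide +kernel

theorem just27_ok : cert.okFacts 6750 just27 = true := by decide +kernel

/-- justifications -/
noncomputable def just28 : List Cert.Just :=
  [.loop none [.bwd 6406, .fwd 5109, .fwd 6406],
   .loop none [.bwd 6406, .fwd 5107, .fwd 6406],
   .loop none [.bwd 6407, .bwd 6139, .fwd 6406],
   .loop none [.bwd 6407, .fwd 1780, .fwd 6406],
   .loop none [.bwd 6407, .fwd 5739, .fwd 6406],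
   .loop none [.bwd 6407, .fwd 5738, .fwd 6406],
   .loop none [.bwd 6407, .fwd 5734, .fwd 6407],
   .loop none [.bwd 6407, .fwd 5735, .fwd 6407],
   .loop none [.bwd 6408, .fwd 6287, .fwd 6408],
   .loop none [.bwd 6408, .fwd 6276, .fwd 6408],
   .loop none [.bwd 6409, .bwd 6124, .fwd 6408],
   .loop none [.bwd 6409, .fwd 5139, .fwd 6409],
   .loop none [.bwd 6409, .fwd 5140, .fwd 6409]]

theorem just28_len : just28.length = 13 := by decide +kernel

theorem just28_ok : cert.okFacts 7000 just28 = true := by decide +kernel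


end CfsgLib.ThCent.HK
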