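import Cfsg.Prelude.Def_Spor_Th

/-!
The relators of the two certificates as words in the signed generators (generated data).
-/

namespace CfsgLib.ThCent

open Cfsg.Spor

/-- the letters of the certificate -/
def dkLets : List (Th.Gen × Bool) :=
  [(.a, true), (.b, true), (.c, true), (.d, true), (.e, true), (.s, true), (.s, false), (.t, true), (.t, false)]

/-- the relators of the certificate in the signed generators -/
def dkWords : List (Nat × List (Th.Gen × Bool)) :=
  [(20, [(.t, true), (.t, true), (.t, true)]),
   (6, [(.a, true), (.e, true), (.a, true), (.e, true)]),
   (8, [(.b, true), (.d, true), (.b, true), (.d, true)]),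
   (9, [(.b, true), (.e, true), (.b, true), (.e, true)]),
   (11, [(.c, true), (.e, true), (.c, true), (.e, true)]),
   (15, [(.s, false), (.a, false), (.s, true), (.a, true)]),
   (16, [(.s, false), (.b, false), (.s, true), (.b, true)]),
   (17, [(.s, false), (.c, false), (.s, true), (.c, true)]),
   (18, [(.s, true), (.d, true), (.s, true), (.d, true)]),
   (21, [(.t, false), (.a, false), (.t, true), (.a, true)]),
   (22, [(.t, false), (.b, false), (.t, true), (.b, true)]),
   (23, [(.t, false), (.c, false), (.t, true), (.c, true)]),
   (24, [(.t, false), (.d, false), (.t, true), (.d, true)]),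
   (25, [(.t, false), (.e, false), (.t, true), (.e, true)]),
   (26, [(.t, false), (.s, true), (.t, true), (.s, false), (.s, false)]),
   (5, [(.a, true), (.b, true), (.a, true), (.b, true), (.a, true), (.b, true)]),
   (7, [(.b, true), (.c, true), (.b, true), (.c, true), (.b, true), (.c, true)]),
   (12, [(.d, true), (.e, true), (.d, true), (.e, true), (.d, true), (.e, true)]),
   (14, [(.s, true), (.s, true), (.s, true), (.s, true), (.s, true), (.s, true), (.s, true)]),
   (10, [(.a, true), (.d, false), (.c, false), (.d, false), (.c, false), (.d, false), (.c, false), (.d, false), (.c, false)]),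
   (19, [(.e, false), (.s, false), (.e, true), (.s, false), (.s, false), (.e, false), (.s, true), (.s, true), (.s, true)]),
   (13, [(.b, true), (.c, true), (.d, true), (.e, true), (.b, true), (.c, true), (.d, true), (.e, true), (.b, true), (.c, true), (.d, true), (.e, true), (.b, true), (.c, true), (.d, true), (.e, true), (.b, true), (.c, true), (.d, true), (.e, true), (.b, true), (.c, true), (.d, true), (.e, true), (.b, true), (.c, true), (.d, true), (.e, true), (.b, true), (.c, true), (.d, true), (.e, true)])]

/-- the letters of the certificate -/
def hkLets : List (Th.Gen × Bool) :=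
  [(.a, true), (.c, true), (.d, true), (.e, true), (.s, true), (.s, false), (.t, true), (.t, false), (.u, true), (.u, false)]

/-- the relators of the certificate in the signed generators -/
def hkWords : List (Nat × List (Th.Gen × Bool)) :=
  [(20, [(.t, true), (.t, true), (.t, true)]),
   (6, [(.a, true), (.e, true), (.a, true), (.e, true)]),
   (11, [(.c, true), (.e, true), (.c, true), (.e, true)]),
   (15, [(.s, false), (.a, false), (.s, true), (.a, true)]),
   (17, [(.s, false), (.c, false), (.s, true), (.c, true)]),
   (18, [(.s, true), (.d, true), (.s, true), (.d, true)]),
   (21, [(.t, false), (.a, false), (.t, true), (.a, true)]),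
   (23, [(.t, false), (.c, false), (.t, true), (.c, true)]),
   (24, [(.t, false), (.d, false), (.t, true), (.d, true)]),
   (25, [(.t, false), (.e, false), (.t, true), (.e, true)]),
   (27, [(.u, true), (.u, true), (.c, false), (.a, false)]),
   (28, [(.u, false), (.a, false), (.u, true), (.a, true)]),
   (29, [(.u, false), (.c, false), (.u, true), (.c, true)]),
   (30, [(.u, false), (.e, false), (.u, true), (.e, true)]),
   (34, [(.u, false), (.t, true), (.u, true), (.t, true)]),
   (26, [(.t, false), (.s, true), (.t, true), (.s, false), (.s, false)]),
   (12, [(.d, true), (.e, true), (.d, true), (.e, true), (.d, true), (.e, true)]),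
   (14, [(.s, true), (.s, true), (.s, true), (.s, true), (.s, true), (.s, true), (.s, true)]),
   (36, [(.a, true), (.c, true), (.s, false), (.u, false), (.s, false), (.u, false), (.s, false), (.u, false)]),
   (10, [(.a, true), (.d, false), (.c, false), (.d, false), (.c, false), (.d, false), (.c, false), (.d, false), (.c, false)]),
   (19, [(.e, false), (.s, false), (.e, true), (.s, false), (.s, false), (.e, false), (.s, true), (.s, true), (.s, true)]),
   (31, [(.d, true), (.e, true), (.u, false), (.d, true), (.u, true), (.d, true), (.e, true), (.u, false), (.d, true), (.u, true)]),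
   (35, [(.e, false), (.s, false), (.s, false), (.u, false), (.s, true), (.s, true), (.e, true), (.s, false), (.s, false), (.u, true), (.s, true), (.s, true)]),
   (37, [(.a, true), (.c, true), (.s, false), (.u, false), (.s, true), (.u, true), (.s, false), (.u, false), (.s, true), (.u, true), (.s, false), (.u, false), (.s, true), (.u, true), (.s, false), (.u, false), (.s, true), (.u, true)]),
   (38, [(.d, true), (.s, false), (.s, false), (.u, true), (.s, true), (.s, true), (.d, true), (.s, false), (.s, false), (.u, true), (.s, true), (.s, true), (.d, true), (.s, false), (.s, false), (.u, true), (.s, true), (.s, true), (.d, true), (.s, false), (.s, false), (.u, true), (.e, false), (.d, false), (.c, false), (.d, true), (.e, true), (.s, true), (.s, true), (.s, true), (.e, false), (.d, false), (.c, false), (.d, true), (.e, true), (.s, false), (.d, false), (.c, false), (.d, true), (.c, false), (.a, false)])]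

end CfsgLib.ThCent
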