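import Cfsg.Agent.Lib.PresCert.Range
import Cfsg.Agent.Lib.ThCent.Words

/-!
Groups with elements satisfying some of the relations of the presented Thompson group, as models
of coset table certificates.
-/

set_option autoImplicit false

namespace CfsgLib.ThCent

open Cfsg.Spor CfsgLib.PresCert

/-- the generators of order two -/
def invol : Th.Gen → Bool
  | .a | .b | .c | .d | .e => true
  | _ => false

/-- two signed generators with the same value -/
def same (p q : Th.Gen × Bool) : Bool :=
  decide (p.1 = q.1) && (invol p.1 || p.2 == q.2)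

/-- the letter of a signed generator -/
def letIdx (lets : List (Th.Gen × Bool)) (p : Th.Gen × Bool) : Nat := lets.findIdx (same p)

/-- the letters and the words of the relators belong to the certificate -/
noncomputable def okLets (C : Cert) (lets : List (Th.Gen × Bool))
    (ws : List (Nat × List (Th.Gen × Bool))) : Bool :=
  decide (C.g = lets.length) && decide (ws.map (fun kw => C.reduce (kw.2.map (letIdx lets))) = C.rels) &&
    (ws.all fun kw => kw.2.all fun p => decide (letIdx lets p < lets.length)) &&
    ((List.range lets.length).all fun x => decide (C.iv x < lets.length) &&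
      decide (C.iv (C.iv x) = x) &&
      same (lets.getD (C.iv x) (.a, true))
        ((lets.getD x (.a, true)).1, !(lets.getD x (.a, true)).2))

variable {Q : Type*} [Group Q] (f : Th.Gen → Q)

/-- the value of a signed generator -/
def sval (p : Th.Gen × Bool) : Q := bif p.2 then f p.1 else (f p.1)⁻¹

/-- the value of a word -/
def wordVal (w : List (Th.Gen × Bool)) : Q := (w.map (sval f)).prod

theorem lift_mk (w : List (Th.Gen × Bool)) : FreeGroup.lift f (FreeGroup.mk w) = wordVal f w := rfl

theorem sval_same (hinv : ∀ g, invol g = true → f g * f g = 1) {p q : Th.Gen × Bool}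
    (h : same p q = true) : sval f p = sval f q := by
  obtain ⟨g, a⟩ := p
  obtain ⟨g', b⟩ := q
  simp only [same, Bool.and_eq_true, Bool.or_eq_true, decide_eq_true_eq, beq_iff_eq] at h
  obtain ⟨rfl, h⟩ := h
  rcases h with h | rfl
  · have : (f g)⁻¹ = f g := inv_eq_of_mul_eq_one_left (hinv g h)
    cases a <;> cases b <;> simp [sval, this]
  · rfl

theorem map_wordVal {Q R : Type*} [Group Q] [Group R] (φ : Q →* R) (f : Th.Gen → Q) (f' : Th.Gen → R)
    (w : List (Th.Gen × Bool)) (h : ∀ p ∈ w, φ (f p.1) = f' p.1) : φ (wordVal f w) = wordVal f' w := by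
  induction w with
  | nil => simp [wordVal]
  | cons p w ih =>
    obtain ⟨g, s⟩ := p
    have e := h (g, s) (List.mem_cons_self ..)
    have ih' := ih fun q hq => h q (List.mem_cons_of_mem _ hq)
    simp only [wordVal, List.map_cons, List.prod_cons, map_mul] at ih' ⊢
    rw [ih']
    cases s <;> simp [sval, ← e]

variable {f} {C : Cert} {lets : List (Th.Gen × Bool)} {ws : List (Nat × List (Th.Gen × Bool))}

/-- the generators numbered as in the certificate -/
def letVal (f : Th.Gen → Q) (lets : List (Th.Gen × Bool)) (x : Nat) : Q :=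
  sval f (lets.getD x (.a, true))

theorem letVal_idx (hinv : ∀ g, invol g = true → f g * f g = 1) {p : Th.Gen × Bool}
    (h : letIdx lets p < lets.length) : letVal f lets (letIdx lets p) = sval f p := by
  have := List.findIdx_getElem (w := h)
  rw [letVal, List.getD_eq_getElem?_getD, List.getElem?_eq_getElem h, Option.getD_some]
  exact (sval_same f hinv this).symm

theorem pushFree_relfree (C : Cert) (x : Nat) : ∀ w, Cert.pushFree { C with rels := [] } x w = C.pushFree x w
  | [] => rfl
  | _ :: _ => rfl

theorem reduce_relfree (C : Cert) : ∀ w, Cert.reduce { C with rels := [] } w = C.reduce w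
  | [] => rfl
  | x :: w => by
    show Cert.pushFree _ x (Cert.reduce _ w) = C.pushFree x (C.reduce w)
    rw [reduce_relfree C w, pushFree_relfree]

/-- the model of a certificate -/
noncomputable def model (hinv : ∀ g, invol g = true → f g * f g = 1) (hok : okLets C lets ws = true)
    (hrel : ∀ kw ∈ ws, wordVal f kw.2 = 1) (K : Subgroup Q)
    (hK : ∀ r ∈ C.subs, (r.map (letVal f lets)).prod ∈ K)
    (hgen : Subgroup.closure {q | ∃ x < lets.length, letVal f lets x = q} = ⊤) : Model C Q where
  gen := letVal f lets
  gen_inv x hx := by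
    simp only [okLets, Bool.and_eq_true, List.all_eq_true, decide_eq_true_eq, List.mem_range] at hok
    obtain ⟨⟨⟨hg, -⟩, -⟩, hiv⟩ := hok
    obtain ⟨⟨h1, -⟩, h3⟩ := hiv x (hg ▸ hx)
    refine ⟨hg ▸ h1, ?_⟩
    rw [letVal, sval_same f hinv h3, letVal]
    rcases lets.getD x (.a, true) with ⟨g, _ | _⟩ <;> simp [sval]
  rels_eq r hr := by
    simp only [okLets, Bool.and_eq_true, List.all_eq_true, decide_eq_true_eq, List.mem_range] at hok
    obtain ⟨⟨⟨hg, hw⟩, hlt⟩, hiv⟩ := hok
    rw [← hw] at hr
    obtain ⟨kw, hkw, rfl⟩ := List.mem_map.1 hr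
    have hlt' : ∀ y ∈ kw.2.map (letIdx lets), y < C.g := by
      intro y hy
      obtain ⟨p, hp, rfl⟩ := List.mem_map.1 hy
      exact hg ▸ hlt kw hkw p hp
    let M' : Model { C with rels := [] } Q :=
      { gen := letVal f lets
        gen_inv := fun x hx => by
          obtain ⟨⟨h1, -⟩, h3⟩ := hiv x (hg ▸ hx)
          refine ⟨hg ▸ h1, ?_⟩
          show letVal f lets (C.iv x) = _
          rw [letVal, sval_same f hinv h3, letVal]
          rcases lets.getD x (.a, true) with ⟨g, _ | _⟩ <;> simp [sval]
        rels_eq := fun r hr => absurd hr (by simp)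
        sub := K, subs_mem := hK
        closure_gen := by
          show Subgroup.closure {q | ∃ x < C.g, letVal f lets x = q} = ⊤
          rw [hg]; exact hgen }
    obtain ⟨h1, h2⟩ := Cert.reduce_sound M' (kw.2.map (letIdx lets)) hlt'
    rw [reduce_relfree] at h1 h2
    refine ⟨h1, h2.trans ?_⟩
    refine Eq.trans ?_ (hrel kw hkw)
    show ((kw.2.map (letIdx lets)).map (letVal f lets)).prod = _
    rw [List.map_map, wordVal]
    congr 1
    exact List.map_congr_left fun p hp => letVal_idx hinv (hlt kw hkw p hp)
  sub := K
  subs_mem := hK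
  closure_gen := by
    simp only [okLets, Bool.and_eq_true, decide_eq_true_eq] at hok
    rw [hok.1.1.1]; exact hgen

/-- the presented group satisfies the relators -/
theorem th_relator {kw : Nat × List (Th.Gen × Bool)}
    (h : Th.extra[kw.1]? = some (FreeGroup.mk kw.2)) :
    wordVal (fun x => (PresentedGroup.of x : Th)) kw.2 = 1 := by
  rw [← lift_mk, show FreeGroup.lift (fun x => (PresentedGroup.of x : Th)) = PresentedGroup.mk _ from
    FreeGroup.ext_hom _ _ fun g => by simp [PresentedGroup.of]]
  exact PresentedGroup.one_of_mem (Or.inr (List.mem_of_getElem? h))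

theorem th_invol (g : Th.Gen) (h : invol g = true) :
    (PresentedGroup.of g : Th) * PresentedGroup.of g = 1 := by
  have key : ∀ k, Th.extra[k]? = some (FreeGroup.of g ^ 2) →
      (PresentedGroup.of g : Th) * PresentedGroup.of g = 1 := fun k hk => by
    have := PresentedGroup.one_of_mem
      (rels := coxRelators Th.edges ∪ {r | r ∈ Th.extra}) (Or.inr (List.mem_of_getElem? hk))
    rw [map_pow, sq] at this
    exact this
  cases g with
  | a => exact key 0 rfl
  | b => exact key 1 rfl
  | c => exact key 2 rfl
  | d => exact key 3 rfl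
  | e => exact key 4 rfl
  | _ => simp [invol] at h

theorem okExtra_dk : dkWords.all (fun kw => decide (Th.extra[kw.1]? = some (FreeGroup.mk kw.2))) = true := by
  decide +kernel

theorem okExtra_hk : hkWords.all (fun kw => decide (Th.extra[kw.1]? = some (FreeGroup.mk kw.2))) = true := by
  decide +kernel

end CfsgLib.ThCent
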