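import Cfsg.Agent.Lib.ThCent.Prim

/-!
The permutation representation on the cosets listed by a certificate.
-/

set_option autoImplicit false

namespace CfsgLib.ThCent

open CfsgLib.PresCert Equiv

variable {C : Cert} {Q : Type*} [Group Q] (M : Model C Q) {js : List Cert.Just}

/-- the product of a word, first letter acting first -/
noncomputable def actVal (w : List Nat) : Q := (w.reverse.map M.gen).prod

theorem actVal_cons (x : Nat) (w : List Nat) : actVal M (x :: w) = actVal M w * M.gen x := by
  simp [actVal]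

theorem actVal_smul_coset (V : Cert.Valid C js) {D : Subgroup Q} (hD : M.sub ≤ D) :
    ∀ (w : List Nat), (∀ x ∈ w, x < C.g) → ∀ c < C.n,
      actVal M w • cosetOf M D c = cosetOf M D (appW C w c) ∧ appW C w c < C.n
  | [], _, c, hc => ⟨by simp [actVal, appW], hc⟩
  | x :: w, hw, c, hc => by
    have hx := hw x (List.mem_cons_self ..)
    obtain ⟨h1, h2⟩ := actVal_smul_coset V hD w (fun y hy => hw y (List.mem_cons_of_mem _ hy)) _
      (act_lt M V hc hx)
    refine ⟨?_, h2⟩
    rw [actVal_cons, mul_smul, gen_smul_coset M V hD hc hx, h1]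
    rfl

/-- the data of a primitive action certified by a coset table -/
structure PrimCert (C : Cert) where
  /-- words to `0` -/
  toZero : List (List Nat)
  /-- words to representatives -/
  toRep : List (Nat × List Nat)
  /-- spanning data -/
  reps : List Span
  /-- tables -/
  tab : BTree
  okt : okTab C tab = true
  ok : okPrim C tab toZero toRep reps = true

variable {M}

theorem coset_injOn (V : Cert.Valid C js) (P : PrimCert C) {D : Subgroup Q} (hD : M.sub ≤ D) (hne : D ≠ ⊤) :
    ∀ i < C.n, ∀ j < C.n, cosetOf M D i = cosetOf M D j → i = j := by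
  refine injOn_of_okPrim M (cosetOf M D) V (fun x hx c hc => gen_smul_coset M V hD hc hx) P.okt P.ok ?_
  by_contra h
  push Not at h
  refine hne ((Subgroup.eq_top_iff' D).2 fun q => ?_)
  obtain ⟨c, hc, e⟩ := exists_cosetOf M V hD q
  obtain ⟨c', hc', e'⟩ := exists_cosetOf M V hD 1
  rw [h c hc] at e
  rw [h c' hc', e] at e'
  simpa using QuotientGroup.eq.1 e'.symm

/-- the numbers of the cosets -/
noncomputable def cosetEquiv (V : Cert.Valid C js) (P : PrimCert C) {D : Subgroup Q} (hD : M.sub ≤ D)
    (hne : D ≠ ⊤) : Fin C.n ≃ Q ⧸ D :=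
  Equiv.ofBijective (fun c => cosetOf M D c)
    ⟨fun i j h => Fin.ext (coset_injOn V P hD hne i i.2 j j.2 h), fun q => by
      obtain ⟨q, rfl⟩ := QuotientGroup.mk_surjective q
      obtain ⟨c, hc, e⟩ := exists_cosetOf M V hD q
      exact ⟨⟨c, hc⟩, e⟩⟩

theorem index_eq (V : Cert.Valid C js) (P : PrimCert C) {D : Subgroup Q} (hD : M.sub ≤ D) (hne : D ≠ ⊤) :
    D.index = C.n := by
  rw [Subgroup.index_eq_card, ← Nat.card_congr (cosetEquiv V P hD hne), Nat.card_eq_fintype_card,
    Fintype.card_fin]

/-- the permutation representation -/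
noncomputable def rep (V : Cert.Valid C js) (P : PrimCert C) {D : Subgroup Q} (hD : M.sub ≤ D)
    (hne : D ≠ ⊤) : Q →* Perm (Fin C.n) :=
  (Equiv.permCongrHom (cosetEquiv V P hD hne).symm).toMonoidHom.comp (MulAction.toPermHom Q (Q ⧸ D))

theorem cosetEquiv_rep (V : Cert.Valid C js) (P : PrimCert C) {D : Subgroup Q} (hD : M.sub ≤ D)
    (hne : D ≠ ⊤) (q : Q) (c : Fin C.n) :
    cosetEquiv V P hD hne (rep V P hD hne q c) = q • cosetEquiv V P hD hne c := by
  simp [rep, Equiv.permCongrHom, MulAction.toPermHom]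

theorem rep_actVal (V : Cert.Valid C js) (P : PrimCert C) {D : Subgroup Q} (hD : M.sub ≤ D)
    (hne : D ≠ ⊤) {w : List Nat} (hw : ∀ x ∈ w, x < C.g) (c : Fin C.n) :
    ((rep V P hD hne (actVal M w) c : Fin C.n) : Nat) = appW C w c := by
  obtain ⟨h1, h2⟩ := actVal_smul_coset M V hD w hw c c.2
  have : rep V P hD hne (actVal M w) c = ⟨appW C w c, h2⟩ := by
    apply (cosetEquiv V P hD hne).injective
    rw [cosetEquiv_rep]
    exact h1
  rw [this]

theorem rep_gen (V : Cert.Valid C js) (P : PrimCert C) {D : Subgroup Q} (hD : M.sub ≤ D)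
    (hne : D ≠ ⊤) {x : Nat} (hx : x < C.g) (c : Fin C.n) :
    ((rep V P hD hne (M.gen x) c : Fin C.n) : Nat) = act C x c := by
  have := rep_actVal V P hD hne (w := [x]) (by simpa using hx) c
  simpa [actVal, appW] using this

end CfsgLib.ThCent
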