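import Cfsg.Agent.Lib.ThCent.DKCert
import Cfsg.Agent.Lib.ThCent.HKCert
import Cfsg.Agent.Lib.ThCent.Rep
import Cfsg.Agent.Lib.ThCent.Letters
import Cfsg.Agent.Lib.ThCent.PrimData
import Cfsg.Agent.Lib.ThCent.DPermData
import Cfsg.Agent.Lib.ThCent.NineData
import Cfsg.Agent.Lib.ThCent.TabData

/-!
Kernel checks on the data of the two actions.
-/

set_option autoImplicit false
set_option maxRecDepth 100000

namespace CfsgLib.ThCent

open CfsgLib.PresCert

/-- the certificate of degree 819 -/
noncomputable abbrev dCert : Cert := DK.cert
/-- the certificate of degree 120 -/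
noncomputable abbrev hCert : Cert := HK.cert

theorem okLets_d : okLets dCert dkLets dkWords = true := by decide +kernel
theorem okLets_h : okLets hCert hkLets hkWords = true := by decide +kernel

theorem okTab_d : okTab dCert dkTabs = true := by decide +kernel
theorem okTab_h : okTab hCert hkTabs = true := by decide +kernel

theorem okPrim_d : okPrim dCert dkTabs dkToZero dkToRep dkReps = true := by decide +kernel
theorem okPrim_h : okPrim hCert hkTabs hkToZero hkToRep hkReps = true := by decide +kernel

/-- primitivity in degree 819 -/
noncomputable def dPrim : PrimCert dCert := ⟨_, _, _, _, okTab_d, okPrim_d⟩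
/-- primitivity in degree 120 -/
noncomputable def hPrim : PrimCert hCert := ⟨_, _, _, _, okTab_h, okPrim_h⟩

theorem okImg_d : (allBelow 9 fun x => allBelow 819 fun c =>
    Nat.beq (dPerm.img x c) (tact dkTabs x c)) = true := by decide +kernel

theorem okWords_d : dPerm.okWords dPerm.g dPerm.words = true := by decide +kernel
theorem okLevels_d : dPerm.okLevels [] dLevels = true := by decide +kernel
theorem levels_prod : (dLevels.map Level.len).prod = 634023936 := by decide +kernel

/-- apply words in succession in degree 819 -/
noncomputable def appD (ws : List (List Nat)) : Nat → Nat :=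
  List.rec (motive := fun _ => Nat → Nat) (fun c => c) (fun w _ ih c => ih (appT dkTabs w c)) ws

/-- two products of words act alike in degree 819 -/
noncomputable def sameD (us ws : List (List Nat)) : Bool :=
  allBelow 819 fun c => Nat.beq (appD us c) (appD ws c)

/-- the letter of a generator of the centraliser in the other numbering -/
def toH (x : Nat) : Nat := [0, 8, 1, 2, 3, 4, 5, 6, 7].getD x 0

/-- the inverse word -/
noncomputable def winvD (w : List Nat) : List Nat := w.reverse.map dCert.iv

/-- the product expected for the commutator of two basis elements -/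
def commVal (i j : Nat) : List (List Nat) :=
  if (i + 1 = j ∧ i % 2 = 0) ∨ (j + 1 = i ∧ j % 2 = 0) then [[0]] else []

/-- the commutator relation of two basis elements -/
noncomputable def okComm (i j : Nat) : Bool :=
  sameD [qInvWords.getD i [], qInvWords.getD j [], qWords.getD i [], qWords.getD j []] (commVal i j)

/-- the relations of the symplectic basis -/
noncomputable def okQ : Bool :=
  decide (qWords.length = 8) && decide (qInvWords = qWords.map winvD) &&
  (qWords.all fun w => w.all fun x => decide (x < 9) && decide (x ≠ 1)) &&
  (qWords.all fun w => allBelow 120 fun c => Nat.beq (appT hkTabs (w.map toH) c) c) &&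
  (qWords.all fun w => sameD [w, w] [] || sameD [w, w] [[0]])

theorem okQ_true : okQ = true := by decide +kernel

theorem okComm_0 : (allBelow 8 fun j => okComm 0 j) = true := by decide +kernel
theorem okComm_1 : (allBelow 8 fun j => okComm 1 j) = true := by decide +kernel
theorem okComm_2 : (allBelow 8 fun j => okComm 2 j) = true := by decide +kernel
theorem okComm_3 : (allBelow 8 fun j => okComm 3 j) = true := by decide +kernel
theorem okComm_4 : (allBelow 8 fun j => okComm 4 j) = true := by decide +kernel
theorem okComm_5 : (allBelow 8 fun j => okComm 5 j) = true := by decide +kernel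
theorem okComm_6 : (allBelow 8 fun j => okComm 6 j) = true := by decide +kernel
theorem okComm_7 : (allBelow 8 fun j => okComm 7 j) = true := by decide +kernel

theorem okComm_true {i j : Nat} (hi : i < 8) (hj : j < 8) : okComm i j = true := by
  interval_cases i
  · exact allBelow_spec okComm_0 j hj
  · exact allBelow_spec okComm_1 j hj
  · exact allBelow_spec okComm_2 j hj
  · exact allBelow_spec okComm_3 j hj
  · exact allBelow_spec okComm_4 j hj
  · exact allBelow_spec okComm_5 j hj
  · exact allBelow_spec okComm_6 j hj
  · exact allBelow_spec okComm_7 j hj

theorem not_same_a : sameD [[0]] [] = false := by decide +kernel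

theorem kernel_ac : (allBelow 120 fun c => Nat.beq (appT hkTabs [0] c) c && Nat.beq (appT hkTabs [1] c) c) = true := by
  decide +kernel

/-- a word, not fixing `0`, does not commute with `a` -/
noncomputable def okMove (c : Nat) (w : List Nat) : Bool :=
  Nat.beq c 0 || !(sameD [[0], w] [w, [0]])

/-- the test for all words from a given place on -/
noncomputable def okMoves : List (List Nat) → Nat → Bool :=
  List.rec (motive := fun _ => Nat → Bool) (fun c => Nat.ble 819 c)
    fun w _ ih c => okMove c w && ih (Nat.succ c)

theorem okMoves_spec : ∀ (ws : List (List Nat)) (k : Nat), okMoves ws k = true →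
    ∀ c, k ≤ c → c < 819 → okMove c (ws.getD (c - k) []) = true
  | [], k, h, c, h1, h2 => by
    have : 819 ≤ k := Nat.le_of_ble_eq_true h
    omega
  | w :: ws, k, h, c, h1, h2 => by
    have h' : (okMove k w && okMoves ws (k + 1)) = true := h
    rw [Bool.and_eq_true] at h'
    rcases Nat.eq_or_lt_of_le h1 with rfl | hlt
    · simpa using h'.1
    · rw [show c - k = (c - (k + 1)) + 1 by omega, List.getD_cons_succ]
      exact okMoves_spec ws (k + 1) h'.2 c (by omega) h2

theorem okConj : okMoves dkToZero 0 = true := by decide +kernel

end CfsgLib.ThCent
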