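import Cfsg.Agent.Lib.ThCent.Chain

/-!
The subgroup generated by all generators but `u` has order at most 634023936.
-/

set_option autoImplicit false
set_option maxRecDepth 100000

namespace CfsgLib.ThCent

open Cfsg.Spor CfsgLib.PresCert

theorem lettGrp_mono {Q : Type*} [Group Q] (f : Th.Gen → Q) {l l' : List (Th.Gen × Bool)}
    (h : ∀ p ∈ l, p ∈ l') : lettGrp f l ≤ lettGrp f l' := by
  refine (Subgroup.closure_le _).2 ?_
  rintro _ ⟨x, hx, rfl⟩
  have hm : l.getD x (.a, true) ∈ l' := h _ (by
    rw [List.getD_eq_getElem?_getD, List.getElem?_eq_getElem hx]; exact List.getElem_mem hx)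
  obtain ⟨y, hy, e⟩ := List.getElem_of_mem hm
  refine Subgroup.subset_closure ⟨y, hy, ?_⟩
  rw [letVal, letVal, List.getD_eq_getElem?_getD, List.getElem?_eq_getElem hy, Option.getD_some, e]

theorem sval_mem_lettGrp {Q : Type*} [Group Q] (f : Th.Gen → Q) {l : List (Th.Gen × Bool)}
    {p : Th.Gen × Bool} (h : p ∈ l) : sval f p ∈ lettGrp f l := by
  obtain ⟨y, hy, e⟩ := List.getElem_of_mem h
  refine Subgroup.subset_closure ⟨y, hy, ?_⟩
  rw [letVal, List.getD_eq_getElem?_getD, List.getElem?_eq_getElem hy, Option.getD_some, e]

theorem okLets_kl : okLets KL.cert klLets klWords = true := by decide +kernel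
theorem okLets_ls : okLets LS.cert lsLets lsWords = true := by decide +kernel
theorem okLets_so : okLets SO.cert soLets soWords = true := by decide +kernel
theorem okLets_dx : okLets DX.cert dxLets dxWords = true := by decide +kernel

theorem okExtra_chain : ((klWords ++ lsWords ++ soWords ++ dxWords).all fun kw => decide (kw.1 = 999) ||
    decide (Th.extra[kw.1]? = some (FreeGroup.mk kw.2))) = true := by decide +kernel

/-- the relators of the abstract group of six generators -/
def kRels : Set (FreeGroup Th.Gen) :=
  {r | (∃ kw ∈ klWords ++ lsWords ++ soWords, FreeGroup.mk kw.2 = r) ∨ r = FreeGroup.of .b ∨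
    r = FreeGroup.of .u ∨ ∃ g, invol g = true ∧ r = FreeGroup.of g * FreeGroup.of g}

/-- the group of six generators -/
abbrev GrpK : Type := PresentedGroup kRels

/-- its generators -/
def kGen (g : Th.Gen) : GrpK := PresentedGroup.of g

theorem kGen_word {kw : Nat × List (Th.Gen × Bool)} (h : kw ∈ klWords ++ lsWords ++ soWords) :
    wordVal kGen kw.2 = 1 := by
  rw [← lift_mk, show FreeGroup.lift kGen = PresentedGroup.mk _ from
    FreeGroup.ext_hom _ _ fun g => by simp [kGen, PresentedGroup.of]]
  exact PresentedGroup.one_of_mem (Or.inl ⟨kw, h, rfl⟩)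

theorem kGen_invol (g : Th.Gen) (h : invol g = true) : kGen g * kGen g = 1 := by
  have := PresentedGroup.one_of_mem (rels := kRels)
    (x := FreeGroup.of g * FreeGroup.of g) (Or.inr (Or.inr (Or.inr ⟨g, h, rfl⟩)))
  rw [map_mul] at this
  exact this

theorem card_grpK : Finite GrpK ∧ Nat.card GrpK ≤ 1548288 := by
  have h1 : Finite (⊥ : Subgroup GrpK) := inferInstance
  obtain ⟨f1, c1, -⟩ := chain_step SO.valid okLets_so kGen_invol
    (fun kw hkw => kGen_word (List.mem_append_right _ hkw)) ⊥ (by decide +kernel)
    (fun r hr => absurd hr (by simp [SO.cert])) bot_le h1 (k := 1) (by simp)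
  obtain ⟨f2, c2, -⟩ := chain_step LS.valid okLets_ls kGen_invol
    (fun kw hkw => kGen_word (List.mem_append_left _ (List.mem_append_right _ hkw)))
    (lettGrp kGen soLets) (by decide +kernel)
    (fun r hr => by
      have hr' : r ∈ [[2], [4]] := hr
      simp only [List.mem_cons, List.not_mem_nil, or_false] at hr'
      rcases hr' with rfl | rfl <;> simp only [List.map_cons, List.map_nil, List.prod_cons, List.prod_nil, mul_one] <;>
        exact sval_mem_lettGrp kGen (by decide))
    (lettGrp_mono kGen (by decide)) f1 c1
  obtain ⟨f3, c3, -⟩ := chain_step KL.valid okLets_kl kGen_invol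
    (fun kw hkw => kGen_word (List.mem_append_left _ (List.mem_append_left _ hkw)))
    (lettGrp kGen lsLets) (by decide +kernel)
    (fun r hr => by
      have hr' : r ∈ [[2], [3], [4], [6]] := hr
      simp only [List.mem_cons, List.not_mem_nil, or_false] at hr'
      rcases hr' with rfl | rfl | rfl | rfl <;>
        simp only [List.map_cons, List.map_nil, List.prod_cons, List.prod_nil, mul_one] <;>
        exact sval_mem_lettGrp kGen (by decide))
    (lettGrp_mono kGen (by decide)) f2 c2
  have htop : lettGrp kGen klLets = ⊤ := by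
    rw [eq_top_iff, ← PresentedGroup.closure_range_of kRels, Subgroup.closure_le]
    rintro _ ⟨g, rfl⟩
    cases g with
    | b =>
      rw [show (PresentedGroup.of Th.Gen.b : GrpK) = 1 from PresentedGroup.one_of_mem (Or.inr (Or.inl rfl))]
      exact one_mem _
    | u =>
      rw [show (PresentedGroup.of Th.Gen.u : GrpK) = 1 from
        PresentedGroup.one_of_mem (Or.inr (Or.inr (Or.inl rfl)))]
      exact one_mem _
    | a => exact sval_mem_lettGrp kGen (p := (.a, true)) (by decide)
    | c => exact sval_mem_lettGrp kGen (p := (.c, true)) (by decide)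
    | d => exact sval_mem_lettGrp kGen (p := (.d, true)) (by decide)
    | e => exact sval_mem_lettGrp kGen (p := (.e, true)) (by decide)
    | s => exact sval_mem_lettGrp kGen (p := (.s, true)) (by decide)
    | t => exact sval_mem_lettGrp kGen (p := (.t, true)) (by decide)
  rw [htop] at f3 c3
  refine ⟨Finite.of_equiv _ (Subgroup.topEquiv (G := GrpK)).toEquiv, ?_⟩
  rw [← Nat.card_congr (Subgroup.topEquiv (G := GrpK)).toEquiv]
  exact c3.trans (by decide +kernel)

/-- the parity of the number of `c` -/
def parityGen (g : Th.Gen) : Multiplicative (ZMod 2) :=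
  if g = .c then Multiplicative.ofAdd 1 else 1

theorem parityGen_words : ((klWords ++ lsWords ++ soWords).all fun kw =>
    decide (wordVal parityGen kw.2 = 1)) = true := by decide +kernel

/-- the parity as a homomorphism -/
noncomputable def parityK : GrpK →* Multiplicative (ZMod 2) :=
  PresentedGroup.toGroup (f := parityGen) (by
    rintro r (⟨kw, hkw, rfl⟩ | rfl | rfl | ⟨g, hg, rfl⟩)
    · have := List.all_eq_true.1 parityGen_words kw hkw
      rw [lift_mk]
      exact of_decide_eq_true this
    · simp [parityGen]
    · simp [parityGen]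
    · rw [map_mul, FreeGroup.lift_apply_of]
      cases g <;> simp [parityGen, invol] at hg ⊢ <;> decide)

theorem parityK_gen (g : Th.Gen) : parityK (kGen g) = parityGen g := by
  simp [parityK, kGen]

/-- the subgroup of index two -/
def xHat : Subgroup GrpK :=
  Subgroup.closure {kGen .a, kGen .d, kGen .e, kGen .s, kGen .t, (kGen .c * kGen .d) * (kGen .c * kGen .d)}

theorem card_xHat : Finite xHat ∧ Nat.card xHat ≤ 774144 := by
  obtain ⟨hf, hc⟩ := card_grpK
  refine ⟨inferInstance, ?_⟩
  have hle : xHat ≤ parityK.ker := by
    rw [xHat, Subgroup.closure_le]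
    rintro q (rfl | rfl | rfl | rfl | rfl | rfl) <;>
      simp [SetLike.mem_coe, MonoidHom.mem_ker, parityK_gen, parityGen] <;> decide
  have hsurj : Function.Surjective parityK := by
    intro x
    by_cases hx : x = 1
    · exact ⟨1, by rw [map_one, hx]⟩
    · refine ⟨kGen .c, ?_⟩
      rw [parityK_gen, parityGen, if_pos rfl]
      revert x
      decide
  have hidx : parityK.ker.index = 2 := by
    rw [Subgroup.index_ker, MonoidHom.range_eq_top.2 hsurj, Subgroup.card_top, Nat.card_eq_fintype_card]
    rfl
  have h := parityK.ker.index_mul_card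
  rw [hidx] at h
  have := Subgroup.card_le_of_le hle
  omega

variable {Q : Type*} [Group Q] (f : Th.Gen → Q)

/-- the elements of a group satisfying the relations between the seven generators -/
structure DRel : Prop where
  invol : ∀ g, invol g = true → f g * f g = 1
  rels : ∀ kw ∈ klWords ++ lsWords ++ soWords ++ dxWords, kw.1 ≠ 999 → wordVal f kw.2 = 1

/-- the values, with the auxiliary value `(cd)^2` at `u` -/
def auxGen (g : Th.Gen) : Q := if g = .u then (f .c * f .d) * (f .c * f .d) else f g

theorem dxWord_aux : (dxWords.all fun kw => (decide (kw.1 = 999) &&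
    decide (kw.2 = [(.u, false), (.c, true), (.d, true), (.c, true), (.d, true)])) ||
    (decide (kw.1 ≠ 999) && kw.2.all fun p => decide (p.1 ≠ .u))) = true := by decide +kernel

theorem chainWords_small : ((klWords ++ lsWords ++ soWords).all fun kw => decide (kw.1 ≠ 999) &&
    kw.2.all fun p => decide (p.1 ≠ .u)) = true := by decide +kernel

theorem dGroup_bound (h : DRel f) :
    Finite (Subgroup.closure (f '' dSet)) ∧ Nat.card (Subgroup.closure (f '' dSet)) ≤ 634023936 := by
  set g' := auxGen f with hg'
  have hne : ∀ g, g ≠ Th.Gen.u → g' g = f g := fun g hg => by simp [hg', auxGen, hg]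
  have hinv : ∀ g, invol g = true → g' g * g' g = 1 := fun g hg => by
    rw [hne g (fun e => by simp [e, CfsgLib.ThCent.invol] at hg)]; exact h.invol g hg
  have hrel : ∀ kw ∈ dxWords, wordVal g' kw.2 = 1 := by
    intro kw hkw
    have := List.all_eq_true.1 dxWord_aux kw hkw
    simp only [Bool.or_eq_true, Bool.and_eq_true, List.all_eq_true, decide_eq_true_eq] at this
    rcases this with ⟨-, e⟩ | ⟨h9, hu⟩
    · rw [e]
      simp [wordVal, sval, hg', auxGen, mul_assoc]
    · rw [← h.rels kw (List.mem_append_right _ hkw) h9]
      exact map_wordVal (MonoidHom.id Q) g' f _ fun p hp => hne _ (hu p hp)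
  let φ : GrpK →* Q := PresentedGroup.toGroup (f := fun g => if g = .b ∨ g = .u then 1 else f g) (by
    rintro r (⟨kw, hkw, rfl⟩ | rfl | rfl | ⟨g, hg, rfl⟩)
    · rw [lift_mk]
      have hs := List.all_eq_true.1 chainWords_small kw hkw
      simp only [Bool.and_eq_true, decide_eq_true_eq, List.all_eq_true] at hs
      rw [← h.rels kw (List.mem_append_left _ hkw) hs.1]
      have hb : ((klWords ++ lsWords ++ soWords).all fun kw => kw.2.all fun p => decide (p.1 ≠ .b)) = true := by
        decide +kernel
      have hb' := List.all_eq_true.1 hb kw hkw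
      simp only [List.all_eq_true, decide_eq_true_eq] at hb'
      exact map_wordVal (MonoidHom.id Q) _ f _ fun p hp => by simp [hs.2 p hp, hb' p hp]
    · simp
    · simp
    · rw [map_mul, FreeGroup.lift_apply_of]
      by_cases hb : g = .b ∨ g = .u
      · simp [hb]
      · simp only [if_neg hb]; exact h.invol g hg)
  have hφ : ∀ g, g ≠ Th.Gen.b → g ≠ Th.Gen.u → φ (kGen g) = f g := fun g h1 h2 => by
    simp [φ, kGen, h1, h2]
  set T := xHat.map φ with hT
  obtain ⟨xf, xc⟩ := card_xHat
  have hsurj : Function.Surjective (φ.subgroupMap xHat) := φ.subgroupMap_surjective xHat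
  have hTf : Finite T := Finite.of_surjective _ hsurj
  have hTc : Nat.card T ≤ 774144 := (Nat.card_le_card_of_surjective _ hsurj).trans xc
  have hTle : T ≤ lettGrp g' dxLets := by
    rw [hT, xHat, MonoidHom.map_closure, Subgroup.closure_le]
    have m : ∀ g, g ≠ Th.Gen.u → f g ∈ lettGrp g' dxLets := fun g hg => by
      rw [← hne g hg]
      exact sval_mem_lettGrp g' (p := (g, true)) (by cases g <;> first | decide | exact absurd rfl hg)
    rintro _ ⟨q, (rfl | rfl | rfl | rfl | rfl | rfl), rfl⟩
    · exact (hφ .a (by decide) (by decide)).symm ▸ m _ (by decide)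
    · exact (hφ .d (by decide) (by decide)).symm ▸ m _ (by decide)
    · exact (hφ .e (by decide) (by decide)).symm ▸ m _ (by decide)
    · exact (hφ .s (by decide) (by decide)).symm ▸ m _ (by decide)
    · exact (hφ .t (by decide) (by decide)).symm ▸ m _ (by decide)
    · rw [SetLike.mem_coe, map_mul, map_mul, hφ .c (by decide) (by decide), hφ .d (by decide) (by decide)]
      exact mul_mem (mul_mem (m _ (by decide)) (m _ (by decide))) (mul_mem (m _ (by decide)) (m _ (by decide)))
  have hmT : ∀ q ∈ ({kGen .a, kGen .d, kGen .e, kGen .s, kGen .t,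
      (kGen .c * kGen .d) * (kGen .c * kGen .d)} : Set GrpK), φ q ∈ T := fun q hq =>
    Subgroup.mem_map_of_mem φ (Subgroup.subset_closure hq)
  obtain ⟨f4, c4, hdest⟩ := chain_step DX.valid okLets_dx hinv hrel T (by decide +kernel)
    (fun r hr => by
      have hr' : r ∈ [[0], [3], [4], [5], [7], [9]] := hr
      simp only [List.mem_cons, List.not_mem_nil, or_false] at hr'
      rcases hr' with rfl | rfl | rfl | rfl | rfl | rfl <;>
        simp only [List.map_cons, List.map_nil, List.prod_cons, List.prod_nil, mul_one]
      · rw [show letVal g' dxLets 0 = φ (kGen .a) from ((hφ .a (by decide) (by decide)).trans (hne _ (by decide)).symm).symm]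
        exact hmT _ (by simp)
      · rw [show letVal g' dxLets 3 = φ (kGen .d) from ((hφ .d (by decide) (by decide)).trans (hne _ (by decide)).symm).symm]
        exact hmT _ (by simp)
      · rw [show letVal g' dxLets 4 = φ (kGen .e) from ((hφ .e (by decide) (by decide)).trans (hne _ (by decide)).symm).symm]
        exact hmT _ (by simp)
      · rw [show letVal g' dxLets 5 = φ (kGen .s) from ((hφ .s (by decide) (by decide)).trans (hne _ (by decide)).symm).symm]
        exact hmT _ (by simp)
      · rw [show letVal g' dxLets 7 = φ (kGen .t) from ((hφ .t (by decide) (by decide)).trans (hne _ (by decide)).symm).symm]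
        exact hmT _ (by simp)
      · have := hmT ((kGen .c * kGen .d) * (kGen .c * kGen .d)) (by simp)
        simpa [hg', auxGen, letVal, sval, dxLets, map_mul, hφ] using this)
    hTle hTf hTc
  have hle : Subgroup.closure (f '' dSet) ≤ lettGrp g' dxLets := by
    rw [Subgroup.closure_le]
    rintro _ ⟨g, hg, rfl⟩
    rw [← hne g hg]
    exact sval_mem_lettGrp g' (p := (g, true)) (by cases g <;> first | decide | exact absurd rfl hg)
  exact ⟨Finite.of_injective _ (Subgroup.inclusion_injective hle),
    (Nat.card_le_card_of_injective _ (Subgroup.inclusion_injective hle)).trans (c4.trans (by decide +kernel))⟩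

theorem dRel_th : DRel th where
  invol := th_invol
  rels kw hkw h9 := by
    have := List.all_eq_true.1 okExtra_chain kw hkw
    simp only [Bool.or_eq_true, decide_eq_true_eq, h9, false_or] at this
    exact th_relator this

/-- the subgroup of index 143127000 is finite, of order at most 634023936 -/
theorem dSub_bound : Finite dSub ∧ Nat.card dSub ≤ 634023936 := dGroup_bound th dRel_th

end CfsgLib.ThCent
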