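import Cfsg.Agent.Lib.ThCent.DKData

/-!
Justifications of the side facts (generated data).
-/

namespace CfsgLib.ThCent.DK

open CfsgLib.PresCert

set_option maxRecDepth 100000

/-- justifications -/
noncomputable def just0 : List Cert.Just :=
  [.define,
   .loop (some (3, 1)) [.bwd 0, .edge 4, .fwd 0],
   .loop (some (6, 2)) [.bwd 0, .edge 6, .fwd 0],
   .loop (some (2, 1)) [.bwd 0, .edge 3, .fwd 0],
   .define,
   .loop (some (15, 3)) [.bwd 4, .bwd 0, .edge 0, .fwd 0, .fwd 4],
   .loop (some (10, 2)) [.bwd 0, .edge 8, .fwd 0],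
   .define,
   .loop (some (16, 2)) [.bwd 7, .bwd 0, .edge 2, .fwd 0, .fwd 7],
   .define,
   .define,
   .define,
   .define,
   .define,
   .define,
   .define,
   .define,
   .define,
   .define,
   .define,
   .define,
   .define,
   .define,
   .define,
   .define,
   .define,
   .define,
   .define,
   .define,
   .define,
   .loop (some (21, 23)) [.fwd 8, .bwd 7, .fwd 3, .fwd 1, .bwd 0, .edge 2, .edge 3, .edge 4, .fwd 0, .fwd 7, .fwd 9, .fwd 10, .fwd 11, .fwd 12, .fwd 13, .fwd 14, .fwd 15, .fwd 16, .fwd 17, .fwd 18, .fwd 19, .fwd 20, .fwd 21, .fwd 22, .fwd 23, .fwd 24, .fwd 25, .fwd 26, .fwd 27, .fwd 28, .fwd 29],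
   .loop (some (4, 2)) [.bwd 7, .fwd 1, .fwd 7, .bwd 30],
   .loop none [.fwd 31],
   .loop none [.bwd 9, .fwd 32, .bwd 29],
   .loop none [.fwd 33],
   .loop none [.bwd 30, .bwd 32],
   .loop none [.fwd 28, .bwd 34],
   .define,
   .define,
   .define,
   .define,
   .loop (some (19, 5)) [.bwd 36, .bwd 9, .bwd 7, .fwd 4, .fwd 37, .fwd 38, .fwd 39, .fwd 40],
   .loop (some (9, 2)) [.bwd 4, .bwd 6, .fwd 4],
   .loop (some (1, 1)) [.bwd 4, .fwd 1, .fwd 4],
   .loop (some (5, 2)) [.bwd 4, .bwd 2, .fwd 4],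
   .loop (some (7, 2)) [.bwd 7, .bwd 2, .fwd 7],
   .loop (some (11, 2)) [.bwd 7, .bwd 6, .fwd 7],
   .define,
   .loop (some (4, 1)) [.bwd 47, .fwd 43, .fwd 47],
   .loop (some (19, 9)) [.bwd 4, .bwd 3, .fwd 7, .fwd 9, .fwd 36, .bwd 41, .bwd 40, .bwd 39, .bwd 38],
   .loop none [.fwd 49],
   .loop none [.bwd 47, .fwd 50, .fwd 38],
   .loop none [.bwd 51],
   .loop none [.fwd 37, .bwd 50],
   .loop none [.fwd 47, .bwd 52],
   .loop none [.fwd 52, .fwd 48, .bwd 52],
   .loop (some (7, 2)) [.fwd 54, .bwd 44, .bwd 54],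
   .loop (some (11, 2)) [.fwd 54, .bwd 42, .bwd 54],
   .define,
   .loop (some (16, 3)) [.bwd 58, .fwd 54, .bwd 5, .bwd 54, .fwd 58],
   .define,
   .define,
   .define,
   .define,
   .define,
   .define,
   .define,
   .define,
   .define,
   .define,
   .define,
   .define,
   .define,
   .define,
   .define,
   .define,
   .define,
   .define,
   .define,
   .define,
   .define,
   .define,
   .define,
   .define,
   .loop (some (21, 27)) [.bwd 58, .fwd 54, .fwd 53, .fwd 43, .bwd 5, .bwd 54, .fwd 39, .fwd 60, .fwd 61, .fwd 62, .fwd 63, .fwd 64, .fwd 65, .fwd 66, .fwd 67, .fwd 68, .fwd 69, .fwd 70, .fwd 71, .fwd 72, .fwd 73, .fwd 74, .fwd 75, .fwd 76, .fwd 77, .fwd 78, .fwd 79, .fwd 80, .fwd 81, .fwd 82, .fwd 83],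
   .loop (some (19, 0)) [.fwd 39, .fwd 40, .fwd 41, .bwd 36, .bwd 9, .bwd 7, .fwd 3, .fwd 7],
   .loop (some (2, 2)) [.bwd 9, .bwd 8, .fwd 9],
   .loop (some (15, 2)) [.bwd 58, .bwd 85, .fwd 8, .fwd 85, .fwd 58],
   .loop (some (8, 2)) [.bwd 9, .fwd 45, .fwd 9],
   .loop (some (17, 2)) [.bwd 10, .bwd 9, .fwd 35, .fwd 9, .fwd 10],
   .loop (some (12, 2)) [.bwd 9, .bwd 46, .fwd 9],
   .loop (some (3, 3)) [.bwd 10, .bwd 86, .fwd 10, .fwd 11],
   .loop none [.fwd 91],
   .loop none [.fwd 11, .bwd 92],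
   .loop none [.bwd 12, .bwd 92],
   .loop (some (4, 1)) [.bwd 94, .bwd 10, .fwd 36],
   .define,
   .define,
   .define,
   .loop (some (20, 4)) [.bwd 10, .fwd 88, .fwd 88, .fwd 88, .fwd 10, .fwd 96, .fwd 97, .fwd 98],
   .loop (some (19, 0)) [.bwd 39, .fwd 54, .fwd 53, .bwd 54, .fwd 39, .fwd 40, .fwd 41, .bwd 36],
   .loop (some (9, 2)) [.bwd 100, .bwd 90, .fwd 100],
   .loop (some (1, 2)) [.bwd 10, .fwd 100, .fwd 60],
   .define,
   .loop (some (15, 2)) [.bwd 103, .bwd 100, .fwd 86, .fwd 100, .fwd 103],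
   .loop (some (5, 2)) [.bwd 100, .bwd 88, .fwd 100],
   .loop (some (7, 2)) [.bwd 36, .bwd 88, .fwd 36],
   .loop (some (11, 2)) [.bwd 36, .bwd 90, .fwd 36],
   .loop (some (16, 3)) [.fwd 27, .bwd 36, .bwd 86, .fwd 36, .bwd 27],
   .define,
   .define,
   .define,
   .define,
   .define,
   .define,
   .define,
   .define,
   .define,
   .define,
   .define,
   .define,
   .define,
   .define,
   .define,
   .define,
   .define,
   .define,
   .define,
   .define,
   .define,
   .define,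
   .define,
   .define,
   .define,
   .loop (some (21, 28)) [.bwd 94, .fwd 89, .bwd 10, .bwd 86, .fwd 36, .bwd 41, .fwd 109, .fwd 110, .fwd 111, .fwd 112, .fwd 113, .fwd 114, .fwd 115, .fwd 116, .fwd 117, .fwd 118, .fwd 119, .fwd 120, .fwd 121, .fwd 122, .fwd 123, .fwd 124, .fwd 125, .fwd 126, .fwd 127, .fwd 128, .fwd 129, .fwd 130, .fwd 131, .fwd 132, .fwd 133],
   .loop (some (13, 2)) [.bwd 10, .bwd 90, .fwd 10],
   .loop (some (14, 2)) [.fwd 98, .fwd 99, .bwd 135, .bwd 99],
   .define,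
   .define,
   .loop (some (20, 6)) [.bwd 137, .bwd 96, .bwd 10, .bwd 88, .fwd 10, .fwd 96, .fwd 137, .fwd 138],
   .loop (some (6, 1)) [.bwd 96, .fwd 93, .fwd 96],
   .define,
   .define,
   .define,
   .define,
   .define,
   .loop (some (19, 6)) [.bwd 13, .bwd 94, .bwd 102, .fwd 141, .fwd 142, .fwd 143, .fwd 144, .fwd 145],
   .loop (some (9, 2)) [.fwd 102, .bwd 135, .bwd 102],
   .loop (some (15, 2)) [.bwd 61, .fwd 102, .fwd 93, .bwd 102, .fwd 61],
   .define,
   .loop (some (5, 2)) [.fwd 102, .fwd 96, .fwd 149],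
   .loop (some (8, 1)) [.bwd 96, .fwd 89, .bwd 99],
   .define,
   .loop (some (7, 2)) [.bwd 94, .fwd 96, .fwd 152],
   .define,
   .loop (some (18, 3)) [.fwd 139, .bwd 137, .bwd 96, .bwd 99, .bwd 98, .fwd 154],
   .loop (some (11, 2)) [.bwd 94, .bwd 135, .fwd 94],
   .loop (some (16, 3)) [.fwd 134, .bwd 94, .bwd 93, .fwd 94, .bwd 134],
   .loop (some (3, 2)) [.fwd 27, .fwd 95, .bwd 134, .bwd 133],
   .loop none [.fwd 158],
   .loop none [.fwd 132, .bwd 159],
   .loop none [.fwd 26, .fwd 159, .fwd 133],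
   .loop none [.fwd 161],
   .loop none [.bwd 134, .bwd 162],
   .loop none [.fwd 162, .fwd 157, .bwd 162],
   .define,
   .define,
   .loop (some (14, 3)) [.bwd 165, .bwd 156, .fwd 165, .fwd 166],
   .define,
   .define,
   .loop (some (20, 6)) [.bwd 168, .fwd 153, .bwd 95, .bwd 106, .fwd 95, .bwd 153, .fwd 168, .fwd 169],
   .define,
   .loop (some (6, 2)) [.fwd 163, .bwd 153, .fwd 171],
   .loop (some (19, 0)) [.fwd 143, .fwd 144, .fwd 145, .fwd 146, .bwd 13, .bwd 94, .fwd 89, .fwd 94],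
   .define,
   .loop (some (1, 2)) [.fwd 95, .fwd 173, .fwd 174],
   .loop (some (2, 2)) [.bwd 13, .bwd 163, .bwd 25],
   .define,
   .define,
   .define,
   .loop (some (15, 4)) [.fwd 163, .fwd 173, .fwd 177, .fwd 178, .fwd 179],
   .define,
   .loop (some (5, 2)) [.bwd 173, .bwd 153, .fwd 181],
   .define,
   .loop (some (8, 2)) [.bwd 13, .fwd 165, .fwd 183],
   .define,
   .loop (some (18, 3)) [.fwd 170, .bwd 168, .fwd 153, .fwd 165, .bwd 167, .fwd 185],
   .loop (some (10, 2)) [.fwd 163, .bwd 156, .bwd 163],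
   .loop (some (17, 2)) [.bwd 109, .fwd 41, .fwd 95, .fwd 13, .fwd 14],
   .define,
   .define,
   .define,
   .define,
   .define,
   .define,
   .define,
   .define,
   .define,
   .define,
   .define,
   .define,
   .define,
   .define,
   .define,
   .define,
   .define,
   .define,
   .define,
   .define,
   .define,
   .define,
   .define,
   .define,
   .loop (some (21, 27)) [.bwd 103, .fwd 40, .fwd 41, .fwd 95, .bwd 163, .bwd 164, .bwd 25, .fwd 189, .fwd 190, .fwd 191, .fwd 192, .fwd 193, .fwd 194, .fwd 195, .fwd 196, .fwd 197, .fwd 198, .fwd 199, .fwd 200, .fwd 201, .fwd 202, .fwd 203, .fwd 204, .fwd 205, .fwd 206, .fwd 207, .fwd 208, .fwd 209, .fwd 210, .fwd 211, .fwd 212],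
   .loop (some (12, 2)) [.bwd 13, .bwd 156, .fwd 13],
   .loop (some (3, 3)) [.bwd 14, .bwd 176, .fwd 189, .fwd 190],
   .loop none [.fwd 215],
   .loop none [.bwd 15, .fwd 216, .bwd 190],
   .loop none [.fwd 217],
   .loop none [.bwd 191, .bwd 216],
   .loop none [.fwd 189, .bwd 218],
   .define,
   .define,
   .loop (some (14, 3)) [.bwd 221, .bwd 214, .fwd 221, .fwd 222],
   .loop (some (4, 1)) [.bwd 219, .bwd 14, .bwd 146],
   .define,
   .define,
   .define,
   .define,
   .define,
   .define,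
   .loop (some (20, 7)) [.fwd 184, .fwd 14, .fwd 225, .fwd 226, .fwd 227, .fwd 228, .fwd 229, .fwd 230],
   .define,
   .loop (some (6, 2)) [.fwd 176, .bwd 184, .fwd 232],
   .define,
   .define,
   .loop (some (19, 2)) [.fwd 141, .fwd 142, .fwd 143, .fwd 144, .fwd 145, .fwd 146, .fwd 234, .fwd 235],
   .define,
   .loop (some (1, 2)) [.bwd 14, .fwd 234, .fwd 237],
   .define,
   .define,
   .define,
   .loop (some (15, 4)) [.fwd 176, .fwd 234, .fwd 239, .fwd 240, .fwd 241],
   .define,
   .loop (some (5, 2)) [.bwd 234, .bwd 184, .fwd 243],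
   .loop (some (8, 1)) [.fwd 153, .fwd 13, .fwd 221],
   .define,
   .loop (some (7, 2)) [.fwd 146, .bwd 184, .fwd 246],
   .define,
   .loop (some (18, 3)) [.fwd 230, .fwd 231, .fwd 184, .fwd 221, .bwd 223, .fwd 248]]

theorem just0_len : just0.length = 250 := by decide +kernel

theorem just0_ok : cert.okFacts 0 just0 = true := by decide +kernel

/-- justifications -/
noncomputable def just1 : List Cert.Just :=
  [.loop (some (10, 2)) [.fwd 176, .bwd 214, .bwd 176],
   .loop (some (11, 2)) [.fwd 146, .bwd 214, .bwd 146],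
   .define,
   .loop (some (16, 4)) [.fwd 146, .bwd 176, .bwd 24, .bwd 23, .fwd 252],
   .define,
   .define,
   .define,
   .define,
   .define,
   .define,
   .define,
   .define,
   .define,
   .define,
   .define,
   .define,
   .define,
   .define,
   .define,
   .define,
   .define,
   .define,
   .define,
   .define,
   .define,
   .define,
   .define,
   .define,
   .define,
   .define,
   .define,
   .loop (some (21, 29)) [.bwd 188, .bwd 14, .bwd 176, .bwd 24, .fwd 254, .fwd 255, .fwd 256, .fwd 257, .fwd 258, .fwd 259, .fwd 260, .fwd 261, .fwd 262, .fwd 263, .fwd 264, .fwd 265, .fwd 266, .fwd 267, .fwd 268, .fwd 269, .fwd 270, .fwd 271, .fwd 272, .fwd 273, .fwd 274, .fwd 275, .fwd 276, .fwd 277, .fwd 278, .fwd 279, .fwd 280],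
   .loop (some (13, 2)) [.bwd 14, .bwd 214, .fwd 14],
   .define,
   .define,
   .loop (some (14, 3)) [.bwd 283, .bwd 282, .fwd 283, .fwd 284],
   .define,
   .define,
   .define,
   .define,
   .define,
   .loop (some (20, 7)) [.bwd 225, .bwd 14, .bwd 184, .fwd 286, .fwd 287, .fwd 288, .fwd 289, .fwd 290],
   .define,
   .loop (some (6, 2)) [.bwd 15, .fwd 225, .fwd 292],
   .define,
   .define,
   .define,
   .define,
   .define,
   .loop (some (19, 6)) [.bwd 192, .bwd 219, .bwd 238, .fwd 294, .fwd 295, .fwd 296, .fwd 297, .fwd 298],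
   .loop (some (2, 1)) [.bwd 110, .bwd 188, .fwd 15],
   .define,
   .define,
   .define,
   .loop (some (15, 4)) [.bwd 15, .bwd 238, .fwd 301, .fwd 302, .fwd 303],
   .define,
   .loop (some (8, 2)) [.bwd 188, .fwd 283, .fwd 305],
   .define,
   .loop (some (7, 2)) [.bwd 219, .fwd 225, .fwd 307],
   .define,
   .loop (some (18, 3)) [.fwd 290, .fwd 291, .bwd 225, .fwd 283, .bwd 285, .fwd 309],
   .loop (some (10, 2)) [.bwd 15, .bwd 282, .fwd 15],
   .loop (some (11, 2)) [.bwd 219, .bwd 282, .fwd 219],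
   .define,
   .define,
   .loop (some (16, 4)) [.bwd 219, .fwd 15, .fwd 16, .fwd 313, .fwd 314],
   .loop (some (12, 2)) [.bwd 188, .bwd 282, .fwd 188],
   .define,
   .define,
   .loop (some (14, 3)) [.bwd 317, .bwd 311, .fwd 317, .fwd 318],
   .loop (some (4, 1)) [.fwd 24, .bwd 220, .fwd 16],
   .define,
   .define,
   .define,
   .define,
   .define,
   .loop (some (20, 7)) [.fwd 293, .fwd 220, .bwd 233, .fwd 321, .fwd 322, .fwd 323, .fwd 324, .fwd 325],
   .define,
   .define,
   .define,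
   .define,
   .define,
   .loop (some (19, 6)) [.bwd 17, .bwd 16, .bwd 304, .fwd 327, .fwd 328, .fwd 329, .fwd 330, .fwd 331],
   .loop (some (9, 2)) [.fwd 304, .bwd 311, .bwd 304],
   .loop (some (1, 1)) [.fwd 242, .bwd 220, .bwd 304],
   .define,
   .loop (some (5, 2)) [.fwd 304, .bwd 293, .fwd 335],
   .define,
   .loop (some (8, 2)) [.bwd 300, .fwd 317, .fwd 337],
   .define,
   .loop (some (7, 2)) [.bwd 16, .bwd 293, .fwd 339],
   .define,
   .loop (some (18, 3)) [.fwd 325, .fwd 326, .fwd 293, .fwd 317, .bwd 319, .fwd 341],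
   .loop (some (11, 2)) [.bwd 16, .bwd 311, .fwd 16],
   .loop (some (17, 1)) [.bwd 160, .bwd 26, .bwd 25, .bwd 220, .fwd 300],
   .loop (some (12, 2)) [.bwd 300, .bwd 311, .fwd 300],
   .loop (some (3, 1)) [.fwd 22, .fwd 23, .bwd 320, .fwd 313],
   .loop none [.fwd 346],
   .loop none [.fwd 313, .bwd 347],
   .loop none [.bwd 314, .bwd 347],
   .define,
   .define,
   .loop (some (14, 3)) [.bwd 350, .bwd 343, .fwd 350, .fwd 351],
   .define,
   .define,
   .define,
   .define,
   .define,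
   .define,
   .loop (some (20, 7)) [.fwd 340, .fwd 320, .fwd 353, .fwd 354, .fwd 355, .fwd 356, .fwd 357, .fwd 358],
   .define,
   .loop (some (6, 2)) [.fwd 348, .bwd 340, .fwd 360],
   .define,
   .define,
   .define,
   .define,
   .loop (some (19, 4)) [.bwd 112, .bwd 111, .bwd 300, .fwd 16, .fwd 362, .fwd 363, .fwd 364, .fwd 365],
   .define,
   .loop (some (1, 2)) [.bwd 320, .fwd 362, .fwd 367],
   .loop (some (2, 2)) [.bwd 17, .bwd 348, .bwd 21],
   .define,
   .define,
   .define,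
   .loop (some (15, 4)) [.fwd 348, .fwd 362, .fwd 370, .fwd 371, .fwd 372],
   .define,
   .loop (some (5, 2)) [.bwd 362, .bwd 340, .fwd 374],
   .define,
   .loop (some (8, 2)) [.bwd 17, .fwd 350, .fwd 376],
   .define,
   .loop (some (18, 3)) [.fwd 358, .fwd 359, .fwd 340, .fwd 350, .bwd 352, .fwd 378],
   .loop (some (10, 2)) [.fwd 348, .bwd 343, .bwd 348],
   .loop (some (17, 2)) [.bwd 255, .bwd 254, .bwd 320, .fwd 17, .fwd 18],
   .define,
   .define,
   .define,
   .define,
   .define,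
   .define,
   .define,
   .define,
   .define,
   .define,
   .define,
   .define,
   .define,
   .define,
   .define,
   .define,
   .define,
   .define,
   .define,
   .define,
   .define,
   .define,
   .define,
   .define,
   .define,
   .define,
   .define,
   .loop (some (21, 29)) [.bwd 254, .bwd 320, .bwd 348, .fwd 349, .fwd 382, .fwd 383, .fwd 384, .fwd 385, .fwd 386, .fwd 387, .fwd 388, .fwd 389, .fwd 390, .fwd 391, .fwd 392, .fwd 393, .fwd 394, .fwd 395, .fwd 396, .fwd 397, .fwd 398, .fwd 399, .fwd 400, .fwd 401, .fwd 402, .fwd 403, .fwd 404, .fwd 405, .fwd 406, .fwd 407, .fwd 408],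
   .loop (some (12, 2)) [.bwd 17, .bwd 343, .fwd 17],
   .loop (some (13, 2)) [.bwd 320, .bwd 343, .fwd 320],
   .loop (some (3, 1)) [.bwd 19, .bwd 18, .bwd 369],
   .define,
   .define,
   .loop (some (14, 3)) [.bwd 413, .bwd 410, .fwd 413, .fwd 414],
   .define,
   .loop (some (4, 2)) [.bwd 18, .bwd 332, .fwd 416],
   .define,
   .define,
   .define,
   .define,
   .define,
   .define,
   .loop (some (20, 7)) [.fwd 377, .fwd 18, .fwd 418, .fwd 419, .fwd 420, .fwd 421, .fwd 422, .fwd 423],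
   .define,
   .loop (some (6, 2)) [.fwd 369, .bwd 377, .fwd 425],
   .define,
   .define,
   .loop (some (19, 2)) [.fwd 327, .fwd 328, .fwd 329, .fwd 330, .fwd 331, .fwd 332, .fwd 427, .fwd 428],
   .loop (some (9, 2)) [.bwd 427, .bwd 410, .fwd 427],
   .define,
   .loop (some (1, 2)) [.bwd 18, .fwd 427, .fwd 431],
   .define,
   .define,
   .define,
   .loop (some (15, 4)) [.fwd 369, .fwd 427, .fwd 433, .fwd 434, .fwd 435],
   .define,
   .loop (some (5, 2)) [.bwd 427, .bwd 377, .fwd 437],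
   .loop (some (8, 1)) [.fwd 340, .fwd 17, .fwd 413],
   .define,
   .loop (some (7, 2)) [.fwd 332, .bwd 377, .fwd 440],
   .define,
   .loop (some (18, 3)) [.fwd 423, .fwd 424, .fwd 377, .fwd 413, .bwd 415, .fwd 442],
   .loop (some (10, 2)) [.fwd 369, .bwd 410, .bwd 369],
   .loop (some (11, 2)) [.fwd 332, .bwd 410, .bwd 332],
   .loop (some (16, 4)) [.fwd 332, .bwd 369, .bwd 20, .bwd 19, .bwd 417],
   .define,
   .define,
   .define,
   .define,
   .define,
   .define,
   .define,
   .define,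
   .define,
   .define,
   .define,
   .define,
   .define,
   .define,
   .define,
   .define,
   .define,
   .define,
   .define,
   .define,
   .define,
   .define,
   .define,
   .define,
   .define,
   .define,
   .define,
   .loop (some (21, 29)) [.bwd 381, .bwd 18, .bwd 369, .bwd 20, .fwd 447, .fwd 448, .fwd 449, .fwd 450, .fwd 451, .fwd 452, .fwd 453, .fwd 454, .fwd 455, .fwd 456, .fwd 457, .fwd 458, .fwd 459, .fwd 460, .fwd 461, .fwd 462, .fwd 463, .fwd 464, .fwd 465, .fwd 466, .fwd 467, .fwd 468, .fwd 469, .fwd 470, .fwd 471, .fwd 472, .fwd 473],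
   .loop (some (13, 2)) [.bwd 18, .bwd 410, .fwd 18],
   .define,
   .define,
   .loop (some (14, 3)) [.bwd 476, .bwd 475, .fwd 476, .fwd 477],
   .define,
   .define,
   .define,
   .define,
   .define,
   .loop (some (20, 7)) [.bwd 418, .bwd 18, .bwd 377, .fwd 479, .fwd 480, .fwd 481, .fwd 482, .fwd 483],
   .define,
   .loop (some (6, 2)) [.bwd 19, .fwd 418, .fwd 485],
   .define,
   .define,
   .define,
   .define,
   .define,
   .define,
   .loop (some (19, 7)) [.fwd 417, .bwd 432, .fwd 487, .fwd 488, .fwd 489, .fwd 490, .fwd 491, .fwd 492],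
   .loop (some (9, 2)) [.fwd 432, .bwd 475, .bwd 432],
   .loop (some (2, 2)) [.bwd 256, .bwd 381, .fwd 19, .fwd 447],
   .loop none [.fwd 495],
   .loop none [.fwd 447, .bwd 496],
   .loop none [.bwd 448, .bwd 496],
   .define]

theorem just1_len : just1.length = 250 := by decide +kernel

theorem just1_ok : cert.okFacts 250 just1 = true := by decide +kernel

/-- justifications -/
noncomputable def just2 : List Cert.Just :=
  [.define,
   .define,
   .loop (some (15, 4)) [.bwd 19, .bwd 432, .fwd 499, .fwd 500, .fwd 501],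
   .define,
   .loop (some (5, 2)) [.fwd 432, .fwd 418, .fwd 503],
   .define,
   .loop (some (8, 2)) [.bwd 381, .fwd 476, .fwd 505],
   .define,
   .loop (some (7, 2)) [.fwd 417, .fwd 418, .fwd 507],
   .define,
   .loop (some (18, 3)) [.fwd 483, .fwd 484, .bwd 418, .fwd 476, .bwd 478, .fwd 509],
   .loop (some (10, 2)) [.bwd 19, .bwd 475, .fwd 19],
   .loop (some (11, 2)) [.fwd 417, .bwd 475, .bwd 417],
   .loop (some (12, 2)) [.bwd 381, .bwd 475, .fwd 381],
   .define,
   .define,
   .loop (some (14, 3)) [.bwd 514, .bwd 511, .fwd 514, .fwd 515],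
   .define,
   .define,
   .define,
   .define,
   .define,
   .loop (some (20, 7)) [.fwd 486, .bwd 412, .bwd 426, .fwd 517, .fwd 518, .fwd 519, .fwd 520, .fwd 521],
   .define,
   .define,
   .define,
   .loop (some (19, 4)) [.bwd 382, .bwd 349, .bwd 21, .bwd 20, .bwd 502, .fwd 523, .fwd 524, .fwd 525],
   .loop (some (1, 1)) [.fwd 436, .fwd 412, .bwd 502],
   .define,
   .loop (some (5, 2)) [.fwd 502, .bwd 486, .fwd 528],
   .define,
   .loop (some (8, 2)) [.fwd 497, .fwd 514, .fwd 530],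
   .loop (some (7, 1)) [.fwd 426, .bwd 20, .bwd 486],
   .define,
   .loop (some (18, 3)) [.fwd 521, .fwd 522, .fwd 486, .fwd 514, .bwd 516, .fwd 533],
   .loop (some (17, 2)) [.bwd 22, .bwd 21, .fwd 412, .bwd 497, .fwd 498],
   .loop (some (12, 2)) [.fwd 497, .bwd 511, .bwd 497],
   .define,
   .define,
   .loop (some (14, 3)) [.bwd 537, .bwd 444, .fwd 537, .fwd 538],
   .define,
   .define,
   .define,
   .define,
   .define,
   .loop (some (20, 7)) [.fwd 426, .fwd 412, .bwd 486, .fwd 540, .fwd 541, .fwd 542, .fwd 543, .fwd 544],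
   .define,
   .define,
   .define,
   .loop (some (19, 4)) [.bwd 258, .bwd 257, .fwd 497, .fwd 20, .bwd 436, .fwd 546, .fwd 547, .fwd 548],
   .loop (some (9, 2)) [.fwd 436, .bwd 444, .bwd 436],
   .define,
   .loop (some (5, 2)) [.fwd 436, .bwd 426, .fwd 551],
   .loop (some (8, 1)) [.fwd 361, .bwd 21, .fwd 537],
   .define,
   .loop (some (18, 3)) [.fwd 544, .fwd 545, .fwd 426, .fwd 537, .bwd 539, .fwd 554],
   .define,
   .define,
   .define,
   .define,
   .define,
   .define,
   .define,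
   .define,
   .define,
   .define,
   .define,
   .define,
   .define,
   .define,
   .define,
   .define,
   .define,
   .define,
   .define,
   .define,
   .define,
   .define,
   .define,
   .define,
   .define,
   .loop (some (21, 28)) [.bwd 257, .fwd 497, .bwd 412, .fwd 369, .bwd 332, .bwd 331, .fwd 556, .fwd 557, .fwd 558, .fwd 559, .fwd 560, .fwd 561, .fwd 562, .fwd 563, .fwd 564, .fwd 565, .fwd 566, .fwd 567, .fwd 568, .fwd 569, .fwd 570, .fwd 571, .fwd 572, .fwd 573, .fwd 574, .fwd 575, .fwd 576, .fwd 577, .fwd 578, .fwd 579, .fwd 580],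
   .define,
   .define,
   .loop (some (14, 3)) [.bwd 582, .bwd 380, .fwd 582, .fwd 583],
   .loop (some (4, 1)) [.bwd 252, .bwd 22, .fwd 349],
   .define,
   .define,
   .define,
   .define,
   .define,
   .define,
   .loop (some (20, 7)) [.fwd 361, .fwd 22, .fwd 586, .fwd 587, .fwd 588, .fwd 589, .fwd 590, .fwd 591],
   .define,
   .loop (some (19, 2)) [.fwd 523, .fwd 524, .fwd 525, .fwd 526, .bwd 382, .bwd 349, .bwd 373, .fwd 593],
   .loop (some (9, 2)) [.fwd 373, .bwd 380, .bwd 373],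
   .define,
   .loop (some (1, 2)) [.bwd 22, .bwd 373, .fwd 596],
   .define,
   .loop (some (5, 2)) [.fwd 373, .bwd 361, .fwd 598],
   .loop (some (8, 1)) [.fwd 426, .fwd 21, .fwd 582],
   .define,
   .loop (some (7, 2)) [.bwd 349, .bwd 361, .fwd 601],
   .define,
   .loop (some (18, 3)) [.fwd 591, .fwd 592, .fwd 361, .fwd 582, .bwd 584, .fwd 603],
   .loop (some (11, 2)) [.bwd 349, .bwd 380, .fwd 349],
   .define,
   .define,
   .define,
   .define,
   .define,
   .define,
   .define,
   .define,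
   .define,
   .loop (some (13, 2)) [.bwd 22, .bwd 380, .fwd 22],
   .define,
   .define,
   .loop (some (14, 3)) [.bwd 616, .bwd 615, .fwd 616, .fwd 617],
   .define,
   .define,
   .define,
   .define,
   .define,
   .loop (some (20, 7)) [.bwd 586, .bwd 22, .bwd 361, .fwd 619, .fwd 620, .fwd 621, .fwd 622, .fwd 623],
   .loop (some (6, 1)) [.bwd 353, .bwd 23, .fwd 586],
   .define,
   .define,
   .define,
   .define,
   .define,
   .define,
   .loop (some (19, 7)) [.bwd 252, .bwd 597, .fwd 626, .fwd 627, .fwd 628, .fwd 629, .fwd 630, .fwd 631],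
   .loop (some (9, 2)) [.fwd 597, .bwd 615, .bwd 597],
   .loop (some (2, 2)) [.bwd 449, .fwd 535, .fwd 23, .fwd 254],
   .loop none [.bwd 634],
   .loop none [.fwd 449, .bwd 635],
   .loop none [.fwd 409, .fwd 635, .fwd 450],
   .loop none [.fwd 637],
   .loop none [.bwd 451, .bwd 638],
   .define,
   .define,
   .loop (some (15, 3)) [.fwd 368, .bwd 23, .bwd 597, .fwd 640, .fwd 641],
   .define,
   .loop (some (5, 2)) [.fwd 597, .fwd 586, .fwd 643],
   .define,
   .loop (some (8, 2)) [.fwd 535, .fwd 616, .fwd 645],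
   .define,
   .loop (some (7, 2)) [.bwd 252, .fwd 586, .fwd 647],
   .define,
   .loop (some (18, 3)) [.fwd 623, .fwd 624, .bwd 586, .fwd 616, .bwd 618, .fwd 649],
   .loop (some (11, 2)) [.bwd 252, .bwd 615, .fwd 252],
   .loop (some (12, 2)) [.fwd 535, .bwd 615, .bwd 535],
   .define,
   .define,
   .loop (some (14, 3)) [.bwd 653, .bwd 411, .fwd 653, .fwd 654],
   .define,
   .define,
   .define,
   .define,
   .define,
   .loop (some (20, 7)) [.bwd 353, .bwd 320, .bwd 340, .fwd 656, .fwd 657, .fwd 658, .fwd 659, .fwd 660],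
   .loop (some (19, 1)) [.bwd 639, .fwd 409, .bwd 254, .fwd 24, .fwd 25, .fwd 164, .bwd 25, .bwd 24, .bwd 368],
   .loop none [.bwd 662],
   .loop none [.fwd 639, .bwd 663],
   .loop none [.fwd 367, .fwd 663, .fwd 452],
   .loop none [.fwd 665],
   .loop none [.bwd 370, .fwd 666, .fwd 453],
   .loop none [.fwd 667],
   .loop none [.bwd 454, .bwd 668],
   .loop (some (9, 2)) [.fwd 368, .bwd 411, .bwd 368],
   .define,
   .loop (some (5, 2)) [.fwd 368, .fwd 353, .fwd 671],
   .define,
   .loop (some (8, 2)) [.bwd 254, .fwd 653, .fwd 673],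
   .loop (some (7, 1)) [.fwd 233, .bwd 24, .fwd 353],
   .define,
   .loop (some (18, 3)) [.fwd 660, .fwd 661, .bwd 353, .fwd 653, .bwd 655, .fwd 676],
   .define,
   .define,
   .define,
   .define,
   .define,
   .define,
   .define,
   .define,
   .define,
   .define,
   .define,
   .define,
   .define,
   .define,
   .define,
   .define,
   .define,
   .define,
   .define,
   .define,
   .define,
   .loop (some (21, 24)) [.fwd 330, .fwd 331, .fwd 416, .fwd 446, .fwd 332, .bwd 17, .fwd 320, .bwd 23, .fwd 252, .bwd 632, .fwd 678, .fwd 679, .fwd 680, .fwd 681, .fwd 682, .fwd 683, .fwd 684, .fwd 685, .fwd 686, .fwd 687, .fwd 688, .fwd 689, .fwd 690, .fwd 691, .fwd 692, .fwd 693, .fwd 694, .fwd 695, .fwd 696, .fwd 697, .fwd 698],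
   .loop (some (12, 2)) [.bwd 254, .bwd 411, .fwd 254],
   .define,
   .define,
   .loop (some (14, 3)) [.bwd 701, .bwd 250, .fwd 701, .fwd 702],
   .define,
   .define,
   .define,
   .define,
   .define,
   .loop (some (20, 7)) [.fwd 233, .bwd 220, .bwd 293, .fwd 704, .fwd 705, .fwd 706, .fwd 707, .fwd 708],
   .define,
   .define,
   .define,
   .loop (some (19, 4)) [.fwd 664, .fwd 409, .bwd 254, .fwd 24, .bwd 242, .fwd 710, .fwd 711, .fwd 712],
   .loop (some (9, 2)) [.fwd 242, .bwd 250, .bwd 242],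
   .define,
   .loop (some (5, 2)) [.fwd 242, .bwd 233, .fwd 715],
   .loop (some (8, 1)) [.fwd 172, .bwd 25, .fwd 701],
   .define,
   .loop (some (18, 3)) [.fwd 708, .fwd 709, .fwd 233, .fwd 701, .bwd 703, .fwd 718],
   .define,
   .define,
   .define,
   .define,
   .define,
   .define,
   .define,
   .define,
   .define,
   .define,
   .define,
   .define,
   .define,
   .define,
   .define,
   .define,
   .define,
   .define,
   .define,
   .define,
   .define,
   .define,
   .define,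
   .define,
   .define,
   .loop (some (21, 28)) [.bwd 111, .bwd 300, .fwd 220, .fwd 176, .bwd 146, .bwd 145, .fwd 720, .fwd 721, .fwd 722, .fwd 723, .fwd 724, .fwd 725, .fwd 726, .fwd 727, .fwd 728, .fwd 729, .fwd 730, .fwd 731, .fwd 732, .fwd 733, .fwd 734, .fwd 735, .fwd 736, .fwd 737, .fwd 738, .fwd 739, .fwd 740, .fwd 741, .fwd 742, .fwd 743, .fwd 744],
   .define,
   .define,
   .loop (some (14, 3)) [.bwd 746, .bwd 187, .fwd 746, .fwd 747],
   .define]

theorem just2_len : just2.length = 250 := by decide +kernel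

theorem just2_ok : cert.okFacts 500 just2 = true := by decide +kernel

/-- justifications -/
noncomputable def just3 : List Cert.Just :=
  [.define,
   .define,
   .define,
   .define,
   .define,
   .loop (some (20, 7)) [.fwd 172, .fwd 26, .fwd 749, .fwd 750, .fwd 751, .fwd 752, .fwd 753, .fwd 754],
   .loop (some (19, 1)) [.fwd 712, .fwd 713, .fwd 664, .fwd 409, .bwd 254, .fwd 24, .fwd 25, .fwd 164, .bwd 180],
   .loop none [.bwd 756],
   .loop none [.fwd 711, .bwd 757],
   .loop none [.bwd 712, .bwd 757],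
   .loop (some (9, 2)) [.fwd 180, .bwd 187, .bwd 180],
   .define,
   .loop (some (1, 2)) [.bwd 26, .bwd 180, .fwd 761],
   .define,
   .loop (some (5, 2)) [.fwd 180, .bwd 172, .fwd 763],
   .loop (some (8, 1)) [.fwd 233, .fwd 25, .fwd 746],
   .loop (some (7, 1)) [.fwd 172, .fwd 164, .bwd 172],
   .define,
   .loop (some (18, 3)) [.fwd 754, .fwd 755, .fwd 172, .fwd 746, .bwd 748, .fwd 767],
   .loop (some (13, 2)) [.bwd 26, .bwd 187, .fwd 26],
   .define,
   .define,
   .define,
   .define,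
   .define,
   .define,
   .loop (some (20, 7)) [.bwd 749, .bwd 26, .bwd 172, .fwd 771, .fwd 772, .fwd 773, .fwd 774, .fwd 775],
   .loop (some (6, 1)) [.fwd 27, .fwd 106, .bwd 27, .fwd 749],
   .loop none [.fwd 777],
   .loop none [.fwd 26, .fwd 778, .fwd 750],
   .loop none [.fwd 779],
   .loop none [.bwd 770, .fwd 778, .bwd 749],
   .loop none [.bwd 781],
   .loop none [.fwd 776, .bwd 778],
   .loop none [.fwd 172, .fwd 780, .fwd 751],
   .loop none [.fwd 784],
   .loop none [.bwd 783, .fwd 782, .bwd 770],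
   .loop none [.bwd 786],
   .loop none [.fwd 755, .fwd 785, .fwd 752],
   .loop none [.bwd 788],
   .loop none [.fwd 783, .bwd 787],
   .loop none [.fwd 790, .fwd 787, .bwd 775],
   .loop none [.fwd 791],
   .loop none [.bwd 755, .bwd 789],
   .loop none [.fwd 754, .bwd 789],
   .loop none [.fwd 26, .fwd 792, .bwd 774],
   .loop none [.fwd 795],
   .loop none [.bwd 746, .fwd 796, .bwd 773],
   .loop none [.fwd 797],
   .loop none [.fwd 748, .fwd 798, .bwd 772],
   .loop none [.fwd 799],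
   .loop none [.fwd 771, .bwd 800],
   .define,
   .define,
   .define,
   .define,
   .loop (some (19, 5)) [.fwd 131, .bwd 160, .fwd 108, .bwd 762, .fwd 802, .fwd 803, .fwd 804, .fwd 805],
   .loop (some (2, 2)) [.bwd 606, .bwd 160, .fwd 27, .bwd 41],
   .loop none [.bwd 807],
   .loop none [.fwd 606, .bwd 808],
   .loop none [.fwd 40, .fwd 808, .fwd 607],
   .loop none [.fwd 810],
   .loop none [.fwd 39, .fwd 811, .fwd 608],
   .loop none [.fwd 812],
   .loop none [.fwd 55, .fwd 813, .fwd 609],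
   .loop none [.fwd 814],
   .loop none [.bwd 58, .fwd 815, .fwd 610],
   .loop none [.fwd 816],
   .loop none [.fwd 59, .fwd 817, .fwd 611],
   .loop none [.fwd 818],
   .loop none [.bwd 612, .bwd 819],
   .define,
   .define,
   .loop (some (15, 3)) [.fwd 175, .bwd 27, .bwd 762, .fwd 821, .fwd 822],
   .loop (some (5, 2)) [.fwd 762, .bwd 790, .bwd 762],
   .loop (some (8, 2)) [.bwd 160, .fwd 790, .fwd 160],
   .loop (some (20, 2)) [.fwd 167, .bwd 165, .bwd 95, .fwd 106, .fwd 106, .fwd 106, .fwd 95, .bwd 153],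
   .loop (some (19, 1)) [.fwd 41, .bwd 36, .bwd 9, .bwd 7, .fwd 3, .fwd 7, .fwd 9, .fwd 36, .bwd 175],
   .loop none [.fwd 827],
   .loop none [.bwd 175, .bwd 828],
   .loop none [.bwd 809, .fwd 828, .bwd 823],
   .loop none [.fwd 830],
   .loop none [.bwd 109, .fwd 828, .bwd 174],
   .loop none [.fwd 832],
   .loop none [.fwd 822, .bwd 831],
   .loop none [.fwd 173, .bwd 833],
   .loop none [.bwd 110, .fwd 833, .fwd 177],
   .loop none [.fwd 836],
   .loop none [.fwd 281, .fwd 833, .bwd 142],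
   .loop none [.bwd 838],
   .loop none [.fwd 188, .fwd 833, .fwd 143],
   .loop none [.fwd 840],
   .loop none [.fwd 306, .fwd 833, .bwd 182],
   .loop none [.bwd 842],
   .loop none [.bwd 178, .bwd 837],
   .loop none [.fwd 280, .bwd 839],
   .loop none [.bwd 281, .bwd 839],
   .loop none [.bwd 219, .fwd 841, .fwd 144],
   .loop none [.bwd 847],
   .loop none [.fwd 305, .bwd 843],
   .loop none [.bwd 306, .bwd 843],
   .loop none [.fwd 315, .bwd 848],
   .loop none [.fwd 219, .bwd 848],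
   .loop none [.bwd 145, .fwd 848, .fwd 192],
   .loop none [.fwd 853],
   .loop none [.bwd 720, .fwd 848, .bwd 224],
   .loop none [.bwd 855],
   .loop none [.fwd 308, .bwd 848],
   .loop none [.fwd 848, .bwd 312, .bwd 848],
   .loop none [.bwd 146, .fwd 854, .bwd 299],
   .loop none [.fwd 859],
   .loop none [.bwd 193, .bwd 854],
   .loop none [.fwd 253, .fwd 856, .fwd 721],
   .loop none [.fwd 862],
   .loop none [.bwd 861, .fwd 856, .bwd 720],
   .loop none [.bwd 864],
   .loop none [.fwd 13, .fwd 860, .bwd 298],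
   .loop none [.fwd 866],
   .loop none [.fwd 252, .fwd 863, .fwd 722],
   .loop none [.fwd 868],
   .loop none [.bwd 851, .fwd 865, .fwd 194],
   .loop none [.bwd 870],
   .loop none [.fwd 861, .bwd 865],
   .loop none [.fwd 94, .fwd 867, .bwd 297],
   .loop none [.fwd 873],
   .loop none [.fwd 535, .fwd 869, .fwd 723],
   .loop none [.fwd 875],
   .loop none [.fwd 851, .bwd 871],
   .loop none [.bwd 195, .fwd 871, .bwd 349],
   .loop none [.bwd 878],
   .loop none [.bwd 382, .bwd 871],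
   .loop none [.bwd 585, .bwd 871],
   .loop none [.fwd 602, .bwd 871],
   .loop none [.fwd 871, .bwd 605, .bwd 871],
   .loop none [.fwd 89, .fwd 874, .bwd 296],
   .loop none [.fwd 884],
   .loop none [.fwd 498, .fwd 876, .fwd 724],
   .loop none [.fwd 886],
   .loop none [.fwd 195, .bwd 879],
   .loop none [.fwd 21, .fwd 879, .fwd 196],
   .loop none [.fwd 889],
   .loop none [.bwd 94, .fwd 885, .bwd 295],
   .loop none [.fwd 891],
   .loop none [.fwd 256, .fwd 887, .fwd 725],
   .loop none [.fwd 893],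
   .loop none [.bwd 412, .fwd 890, .fwd 197],
   .loop none [.fwd 895],
   .loop none [.bwd 13, .fwd 892, .bwd 294],
   .loop none [.fwd 897],
   .loop none [.fwd 474, .fwd 894, .fwd 726],
   .loop none [.fwd 899],
   .loop none [.fwd 19, .fwd 896, .fwd 198],
   .loop none [.fwd 901],
   .loop none [.bwd 234, .fwd 898, .fwd 238],
   .loop none [.bwd 903],
   .loop none [.bwd 727, .bwd 900],
   .loop none [.fwd 417, .fwd 902, .fwd 199],
   .loop none [.bwd 906],
   .loop none [.fwd 234, .bwd 904],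
   .loop none [.bwd 15, .fwd 904, .fwd 239],
   .loop none [.fwd 909],
   .loop none [.bwd 188, .fwd 904, .fwd 235],
   .loop none [.fwd 911],
   .loop none [.bwd 225, .fwd 904, .bwd 244],
   .loop none [.fwd 913],
   .loop none [.bwd 446, .bwd 907],
   .loop none [.bwd 417, .bwd 907],
   .loop none [.bwd 200, .fwd 907, .bwd 493],
   .loop none [.fwd 917],
   .loop none [.fwd 416, .bwd 907],
   .loop none [.fwd 508, .bwd 907],
   .loop none [.fwd 907, .bwd 512, .bwd 907],
   .loop none [.fwd 304, .fwd 910, .fwd 240],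
   .loop none [.bwd 922],
   .loop none [.fwd 846, .fwd 912, .fwd 236],
   .loop none [.bwd 924],
   .loop none [.fwd 243, .bwd 914],
   .loop none [.fwd 492, .bwd 918],
   .loop none [.bwd 304, .bwd 923],
   .loop none [.fwd 429, .bwd 923],
   .loop none [.bwd 327, .bwd 923],
   .loop none [.bwd 334, .bwd 923],
   .loop none [.fwd 336, .bwd 923],
   .loop none [.fwd 923, .bwd 333, .bwd 923],
   .loop none [.bwd 61, .fwd 925, .fwd 845],
   .loop none [.fwd 934],
   .loop none [.bwd 846, .bwd 925],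
   .loop none [.fwd 141, .bwd 925],
   .loop none [.fwd 279, .bwd 935],
   .loop (some (9, 2)) [.fwd 829, .bwd 107, .bwd 829],
   .loop (some (5, 2)) [.fwd 829, .bwd 106, .bwd 829],
   .define,
   .define,
   .define,
   .define,
   .define,
   .define,
   .define,
   .define,
   .define,
   .define,
   .define,
   .define,
   .define,
   .define,
   .define,
   .loop (some (21, 24)) [.fwd 526, .bwd 880, .fwd 881, .fwd 253, .fwd 146, .bwd 13, .bwd 95, .bwd 27, .bwd 108, .fwd 160, .bwd 344, .bwd 110, .bwd 936, .bwd 937, .bwd 60, .fwd 103, .fwd 941, .fwd 942, .fwd 943, .fwd 944, .fwd 945, .fwd 946, .fwd 947, .fwd 948, .fwd 949, .fwd 950, .fwd 951, .fwd 952, .fwd 953, .fwd 954, .fwd 955],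
   .loop (some (3, 2)) [.bwd 58, .fwd 55, .fwd 58, .bwd 84],
   .loop none [.fwd 957],
   .loop none [.bwd 820, .fwd 958, .bwd 83],
   .loop none [.bwd 959],
   .loop none [.bwd 84, .bwd 958],
   .loop none [.fwd 820, .bwd 960],
   .loop none [.bwd 613, .bwd 960],
   .loop (some (6, 2)) [.bwd 58, .bwd 56, .fwd 58],
   .loop (some (2, 2)) [.bwd 103, .bwd 39, .fwd 58, .bwd 962],
   .loop none [.bwd 965],
   .loop none [.fwd 966, .fwd 104, .bwd 966],
   .loop none [.fwd 103, .bwd 966],
   .loop none [.fwd 82, .fwd 966, .fwd 941],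
   .loop none [.fwd 969],
   .loop none [.bwd 963, .fwd 966, .bwd 213],
   .loop none [.bwd 971],
   .loop none [.bwd 942, .bwd 970],
   .loop none [.bwd 614, .bwd 972],
   .loop none [.fwd 963, .bwd 972],
   .loop (some (10, 2)) [.bwd 58, .bwd 57, .fwd 58],
   .loop (some (3, 3)) [.bwd 60, .bwd 968, .bwd 975, .fwd 974],
   .loop none [.fwd 977],
   .loop none [.bwd 61, .fwd 978, .bwd 974],
   .loop none [.fwd 979],
   .loop none [.fwd 212, .bwd 980],
   .loop none [.bwd 938, .fwd 980, .fwd 975],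
   .loop none [.bwd 982],
   .loop none [.bwd 962, .fwd 983, .bwd 278],
   .loop none [.fwd 984],
   .loop none [.fwd 938, .bwd 983],
   .loop none [.fwd 59, .fwd 985, .bwd 277],
   .loop none [.fwd 987],
   .loop none [.fwd 58, .fwd 988, .bwd 276],
   .loop none [.fwd 989],
   .loop none [.fwd 55, .fwd 990, .bwd 275],
   .loop none [.fwd 991],
   .loop none [.bwd 39, .fwd 992, .bwd 274],
   .loop none [.fwd 993],
   .loop none [.bwd 40, .fwd 994, .bwd 273],
   .loop none [.fwd 995],
   .loop none [.bwd 809, .fwd 996, .bwd 272],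
   .loop none [.fwd 997],
   .loop none [.fwd 344, .fwd 998, .bwd 271]]

theorem just3_len : just3.length = 250 := by decide +kernel

theorem just3_ok : cert.okFacts 750 just3 = true := by decide +kernel

/-- justifications -/
noncomputable def just4 : List Cert.Just :=
  [.loop none [.fwd 999],
   .loop none [.fwd 300, .fwd 1000, .bwd 270],
   .loop none [.fwd 1001],
   .loop none [.bwd 16, .fwd 1002, .bwd 269],
   .loop none [.fwd 1003],
   .loop none [.fwd 348, .fwd 1004, .bwd 268],
   .loop none [.fwd 1005],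
   .loop none [.bwd 22, .fwd 1006, .bwd 267],
   .loop none [.fwd 1007],
   .loop none [.fwd 535, .fwd 1008, .bwd 266],
   .loop none [.bwd 1009],
   .loop none [.fwd 636, .bwd 1010],
   .loop none [.bwd 535, .bwd 1010],
   .loop none [.fwd 498, .bwd 1010],
   .loop none [.fwd 646, .bwd 1010],
   .loop none [.fwd 1010, .bwd 652, .bwd 1010],
   .define,
   .define,
   .loop (some (20, 4)) [.bwd 60, .fwd 105, .fwd 105, .fwd 105, .fwd 60, .bwd 150, .fwd 1016, .fwd 1017],
   .loop (some (6, 2)) [.fwd 968, .bwd 105, .bwd 968],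
   .loop (some (10, 2)) [.fwd 968, .bwd 101, .bwd 968],
   .loop (some (16, 3)) [.fwd 131, .bwd 809, .bwd 40, .bwd 968, .bwd 82, .bwd 81],
   .loop none [.bwd 1021],
   .loop none [.bwd 81, .fwd 1022, .bwd 130],
   .loop none [.fwd 1023],
   .loop none [.bwd 131, .bwd 1022],
   .loop none [.fwd 806, .bwd 1022],
   .loop none [.fwd 129, .bwd 1024],
   .define,
   .define,
   .loop (some (20, 4)) [.bwd 109, .fwd 940, .fwd 940, .fwd 940, .fwd 109, .bwd 850, .fwd 1028, .fwd 1029],
   .define,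
   .define,
   .define,
   .define,
   .define,
   .define,
   .define,
   .define,
   .define,
   .define,
   .define,
   .define,
   .define,
   .define,
   .define,
   .define,
   .define,
   .define,
   .define,
   .define,
   .define,
   .loop (some (21, 24)) [.fwd 631, .fwd 632, .bwd 881, .fwd 877, .fwd 852, .fwd 188, .bwd 109, .fwd 809, .bwd 1025, .fwd 1026, .fwd 1031, .fwd 1032, .fwd 1033, .fwd 1034, .fwd 1035, .fwd 1036, .fwd 1037, .fwd 1038, .fwd 1039, .fwd 1040, .fwd 1041, .fwd 1042, .fwd 1043, .fwd 1044, .fwd 1045, .fwd 1046, .fwd 1047, .fwd 1048, .fwd 1049, .fwd 1050, .fwd 1051],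
   .loop (some (19, 4)) [.bwd 973, .fwd 82, .fwd 962, .fwd 59, .bwd 87, .bwd 962, .bwd 82, .fwd 973],
   .loop (some (17, 3)) [.bwd 986, .fwd 962, .fwd 961, .bwd 962, .fwd 986, .fwd 981],
   .loop none [.fwd 1054],
   .loop none [.bwd 62, .fwd 1055, .bwd 211],
   .loop none [.fwd 1056],
   .loop none [.fwd 981, .bwd 1055],
   .loop none [.fwd 210, .bwd 1057],
   .loop (some (14, 2)) [.fwd 1017, .fwd 1018, .bwd 147, .bwd 1018],
   .define,
   .define,
   .loop (some (20, 6)) [.bwd 1061, .fwd 150, .bwd 60, .bwd 105, .fwd 60, .bwd 150, .fwd 1061, .fwd 1062],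
   .define,
   .loop (some (6, 2)) [.bwd 61, .bwd 150, .fwd 1064],
   .loop (some (8, 1)) [.fwd 150, .fwd 937, .bwd 1018],
   .loop (some (7, 1)) [.fwd 850, .bwd 936, .bwd 150],
   .define,
   .loop (some (18, 3)) [.fwd 1063, .bwd 1061, .fwd 150, .bwd 1018, .bwd 1017, .fwd 1068],
   .loop (some (10, 2)) [.bwd 61, .bwd 147, .fwd 61],
   .loop (some (16, 3)) [.bwd 111, .bwd 110, .bwd 936, .fwd 61, .fwd 62, .fwd 1059],
   .loop none [.fwd 1071],
   .loop none [.fwd 745, .fwd 1072, .bwd 1059],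
   .loop none [.bwd 1073],
   .loop none [.fwd 209, .bwd 1072],
   .loop none [.bwd 745, .bwd 1074],
   .loop none [.fwd 744, .bwd 1074],
   .define,
   .define,
   .loop (some (14, 3)) [.bwd 1078, .bwd 1070, .fwd 1078, .fwd 1079],
   .loop (some (4, 2)) [.fwd 82, .fwd 986, .fwd 62, .fwd 1077],
   .loop none [.fwd 1081],
   .loop none [.bwd 973, .fwd 1082, .bwd 743],
   .loop none [.bwd 1083],
   .loop none [.bwd 1027, .fwd 1082, .bwd 1077],
   .loop none [.bwd 1085],
   .loop none [.fwd 742, .fwd 1084, .bwd 1053, .bwd 1084],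
   .loop none [.fwd 1087],
   .loop none [.fwd 1088, .fwd 1084],
   .loop none [.fwd 973, .fwd 1089],
   .loop none [.bwd 943, .fwd 1089],
   .loop none [.bwd 63, .fwd 1086, .bwd 128],
   .loop none [.fwd 1092],
   .loop none [.fwd 1027, .bwd 1086],
   .loop none [.fwd 127, .bwd 1093],
   .define,
   .define,
   .loop (some (20, 6)) [.bwd 1096, .fwd 1065, .bwd 986, .bwd 1019, .fwd 986, .bwd 1065, .fwd 1096, .fwd 1097],
   .loop (some (19, 5)) [.bwd 1095, .bwd 63, .bwd 62, .bwd 148, .bwd 1058, .fwd 62, .fwd 63, .fwd 1095],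
   .loop (some (5, 1)) [.fwd 1065, .fwd 148, .bwd 1065],
   .loop (some (8, 1)) [.fwd 1065, .fwd 1058, .fwd 1078],
   .define,
   .loop (some (7, 2)) [.bwd 62, .bwd 1065, .fwd 1102],
   .define,
   .loop (some (18, 3)) [.fwd 1098, .bwd 1096, .fwd 1065, .fwd 1078, .bwd 1080, .fwd 1104],
   .loop (some (11, 2)) [.bwd 62, .bwd 1070, .fwd 62],
   .loop (some (3, 2)) [.fwd 81, .bwd 1094, .fwd 1076, .fwd 1075],
   .loop none [.fwd 1107],
   .loop none [.bwd 1026, .fwd 1108, .bwd 208],
   .loop none [.bwd 1109],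
   .loop none [.fwd 80, .fwd 1108, .bwd 1075],
   .loop none [.fwd 1111],
   .loop none [.fwd 207, .fwd 1110, .bwd 805],
   .loop none [.fwd 1113],
   .loop none [.fwd 1026, .bwd 1110],
   .loop none [.bwd 1031, .bwd 1110],
   .loop none [.fwd 1076, .bwd 1112],
   .loop none [.fwd 111, .bwd 1112],
   .loop none [.fwd 79, .fwd 1112, .fwd 112],
   .loop none [.fwd 1119],
   .loop none [.fwd 804, .bwd 1114],
   .loop none [.fwd 78, .fwd 1120, .bwd 366],
   .loop none [.fwd 1122],
   .loop none [.bwd 113, .bwd 1120],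
   .loop none [.fwd 365, .bwd 1123],
   .define,
   .define,
   .loop (some (14, 3)) [.bwd 1126, .bwd 1106, .fwd 1126, .fwd 1127],
   .define,
   .define,
   .define,
   .define,
   .define,
   .define,
   .loop (some (20, 7)) [.fwd 1103, .fwd 1094, .fwd 1129, .fwd 1130, .fwd 1131, .fwd 1132, .fwd 1133, .fwd 1134],
   .define,
   .loop (some (6, 2)) [.fwd 1117, .bwd 1103, .fwd 1136],
   .loop (some (19, 0)) [.fwd 63, .fwd 1095, .fwd 1099, .bwd 1095, .bwd 63, .bwd 62, .fwd 1058, .fwd 62],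
   .loop (some (2, 2)) [.bwd 63, .bwd 1117, .bwd 79],
   .define,
   .loop (some (15, 3)) [.bwd 1140, .fwd 1117, .bwd 1138, .bwd 1117, .fwd 1140],
   .loop (some (5, 1)) [.fwd 1103, .fwd 1138, .bwd 1103],
   .define,
   .loop (some (8, 2)) [.bwd 63, .fwd 1126, .fwd 1143],
   .define,
   .loop (some (18, 3)) [.fwd 1134, .fwd 1135, .fwd 1103, .fwd 1126, .bwd 1128, .fwd 1145],
   .loop (some (10, 2)) [.fwd 1117, .bwd 1106, .bwd 1117],
   .loop (some (17, 2)) [.bwd 1091, .fwd 1090, .bwd 1094, .fwd 63, .fwd 64],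
   .loop (some (12, 2)) [.bwd 63, .bwd 1106, .fwd 63],
   .loop (some (3, 3)) [.bwd 64, .bwd 1139, .fwd 1124, .fwd 114],
   .loop none [.fwd 1150],
   .loop none [.bwd 65, .fwd 1151, .bwd 114],
   .loop none [.fwd 1152],
   .loop none [.bwd 115, .bwd 1151],
   .loop none [.fwd 1124, .bwd 1153],
   .define,
   .define,
   .loop (some (14, 3)) [.bwd 1156, .bwd 1149, .fwd 1156, .fwd 1157],
   .loop (some (4, 1)) [.bwd 1154, .bwd 64, .fwd 1095],
   .define,
   .define,
   .define,
   .define,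
   .define,
   .define,
   .loop (some (20, 7)) [.fwd 1144, .fwd 64, .fwd 1160, .fwd 1161, .fwd 1162, .fwd 1163, .fwd 1164, .fwd 1165],
   .define,
   .loop (some (6, 2)) [.fwd 1139, .bwd 1144, .fwd 1167],
   .loop (some (19, 0)) [.bwd 63, .bwd 62, .fwd 1058, .fwd 62, .fwd 63, .fwd 1095, .fwd 1099, .bwd 1095],
   .loop (some (1, 2)) [.bwd 64, .bwd 1169, .fwd 64],
   .define,
   .loop (some (15, 3)) [.bwd 1171, .fwd 1139, .bwd 1169, .bwd 1139, .fwd 1171],
   .loop (some (5, 1)) [.fwd 1144, .fwd 1169, .bwd 1144],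
   .loop (some (8, 1)) [.fwd 1103, .fwd 63, .fwd 1156],
   .define,
   .loop (some (7, 2)) [.bwd 1095, .bwd 1144, .fwd 1175],
   .define,
   .loop (some (18, 3)) [.fwd 1165, .fwd 1166, .fwd 1144, .fwd 1156, .bwd 1158, .fwd 1177],
   .loop (some (10, 2)) [.fwd 1139, .bwd 1149, .bwd 1139],
   .loop (some (11, 2)) [.bwd 1095, .bwd 1149, .fwd 1095],
   .loop (some (16, 3)) [.fwd 126, .bwd 1095, .bwd 1139, .bwd 78, .bwd 77],
   .define,
   .define,
   .define,
   .define,
   .define,
   .define,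
   .define,
   .define,
   .define,
   .define,
   .define,
   .define,
   .define,
   .define,
   .define,
   .define,
   .define,
   .define,
   .define,
   .define,
   .define,
   .define,
   .define,
   .define,
   .define,
   .define,
   .loop (some (21, 29)) [.bwd 1148, .bwd 64, .bwd 1139, .bwd 78, .fwd 1125, .fwd 1182, .fwd 1183, .fwd 1184, .fwd 1185, .fwd 1186, .fwd 1187, .fwd 1188, .fwd 1189, .fwd 1190, .fwd 1191, .fwd 1192, .fwd 1193, .fwd 1194, .fwd 1195, .fwd 1196, .fwd 1197, .fwd 1198, .fwd 1199, .fwd 1200, .fwd 1201, .fwd 1202, .fwd 1203, .fwd 1204, .fwd 1205, .fwd 1206, .fwd 1207],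
   .loop (some (13, 2)) [.bwd 64, .bwd 1149, .fwd 64],
   .define,
   .define,
   .loop (some (14, 3)) [.bwd 1210, .bwd 1209, .fwd 1210, .fwd 1211],
   .define,
   .define,
   .define,
   .define,
   .define,
   .loop (some (20, 7)) [.bwd 1160, .bwd 64, .bwd 1144, .fwd 1213, .fwd 1214, .fwd 1215, .fwd 1216, .fwd 1217],
   .define,
   .loop (some (6, 2)) [.bwd 65, .fwd 1160, .fwd 1219],
   .define,
   .define,
   .define,
   .loop (some (19, 6)) [.bwd 116, .bwd 1154, .bwd 1170, .fwd 1148, .bwd 1208, .fwd 1221, .fwd 1222, .fwd 1223],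
   .loop (some (2, 1)) [.bwd 944, .bwd 1148, .fwd 65],
   .define,
   .loop (some (15, 3)) [.bwd 1226, .bwd 65, .bwd 1170, .fwd 65, .fwd 1226],
   .loop (some (5, 1)) [.bwd 1160, .fwd 1170, .fwd 1160],
   .define,
   .loop (some (8, 2)) [.bwd 1148, .fwd 1210, .fwd 1229],
   .define,
   .loop (some (7, 2)) [.bwd 1154, .fwd 1160, .fwd 1231],
   .define,
   .loop (some (18, 3)) [.fwd 1217, .fwd 1218, .bwd 1160, .fwd 1210, .bwd 1212, .fwd 1233],
   .loop (some (10, 2)) [.bwd 65, .bwd 1209, .fwd 65],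
   .loop (some (11, 2)) [.bwd 1154, .bwd 1209, .fwd 1154],
   .define,
   .define,
   .loop (some (16, 4)) [.bwd 1154, .fwd 65, .fwd 66, .fwd 1237, .fwd 1238],
   .loop (some (12, 2)) [.bwd 1148, .bwd 1209, .fwd 1148],
   .define,
   .define,
   .loop (some (14, 3)) [.bwd 1241, .bwd 1235, .fwd 1241, .fwd 1242],
   .loop (some (4, 1)) [.fwd 78, .bwd 1155, .fwd 66],
   .define,
   .define,
   .define,
   .define,
   .define]

theorem just4_len : just4.length = 250 := by decide +kernel

theorem just4_ok : cert.okFacts 1000 just4 = true := by decide +kernel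

/-- justifications -/
noncomputable def just5 : List Cert.Just :=
  [.loop (some (20, 7)) [.fwd 1220, .fwd 1155, .bwd 1168, .fwd 1245, .fwd 1246, .fwd 1247, .fwd 1248, .fwd 1249],
   .define,
   .define,
   .define,
   .define,
   .define,
   .loop (some (19, 6)) [.bwd 67, .bwd 66, .fwd 1226, .fwd 1251, .fwd 1252, .fwd 1253, .fwd 1254, .fwd 1255],
   .loop (some (9, 2)) [.bwd 1226, .bwd 1235, .fwd 1226],
   .loop (some (1, 1)) [.bwd 1171, .bwd 1155, .fwd 1226],
   .define,
   .loop (some (5, 2)) [.bwd 1226, .bwd 1220, .fwd 1259],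
   .define,
   .loop (some (8, 2)) [.bwd 1225, .fwd 1241, .fwd 1261],
   .define,
   .loop (some (7, 2)) [.bwd 66, .bwd 1220, .fwd 1263],
   .define,
   .loop (some (18, 3)) [.fwd 1249, .fwd 1250, .fwd 1220, .fwd 1241, .bwd 1243, .fwd 1265],
   .loop (some (11, 2)) [.bwd 66, .bwd 1235, .fwd 66],
   .loop (some (17, 1)) [.bwd 1116, .fwd 1115, .bwd 80, .bwd 79, .bwd 1155, .fwd 1225],
   .loop none [.bwd 1268],
   .loop none [.fwd 944, .fwd 1269, .fwd 1032],
   .loop none [.fwd 1270],
   .loop none [.fwd 1116, .bwd 1269],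
   .loop none [.fwd 1208, .fwd 1271, .fwd 1033],
   .loop none [.bwd 1273],
   .loop none [.bwd 1208, .bwd 1274],
   .loop none [.bwd 1034, .fwd 1274, .fwd 1221],
   .loop none [.fwd 1276],
   .loop none [.bwd 1222, .bwd 1277],
   .loop (some (3, 1)) [.fwd 76, .fwd 77, .bwd 1244, .fwd 1237],
   .loop none [.fwd 1279],
   .loop none [.fwd 1237, .bwd 1280],
   .loop none [.bwd 1238, .bwd 1280],
   .define,
   .define,
   .loop (some (14, 3)) [.bwd 1283, .bwd 1267, .fwd 1283, .fwd 1284],
   .define,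
   .define,
   .define,
   .define,
   .define,
   .define,
   .loop (some (20, 7)) [.fwd 1264, .fwd 1244, .fwd 1286, .fwd 1287, .fwd 1288, .fwd 1289, .fwd 1290, .fwd 1291],
   .define,
   .loop (some (6, 2)) [.fwd 1281, .bwd 1264, .fwd 1293],
   .define,
   .define,
   .define,
   .define,
   .loop (some (19, 4)) [.bwd 946, .bwd 945, .bwd 1225, .fwd 66, .fwd 1295, .fwd 1296, .fwd 1297, .fwd 1298],
   .loop (some (9, 2)) [.bwd 1295, .bwd 1267, .fwd 1295],
   .define,
   .loop (some (1, 2)) [.bwd 1244, .fwd 1295, .fwd 1301],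
   .loop (some (2, 2)) [.bwd 67, .bwd 1281, .bwd 75],
   .define,
   .define,
   .define,
   .loop (some (15, 4)) [.fwd 1281, .fwd 1295, .fwd 1304, .fwd 1305, .fwd 1306],
   .define,
   .loop (some (5, 2)) [.bwd 1295, .bwd 1264, .fwd 1308],
   .define,
   .loop (some (8, 2)) [.bwd 67, .fwd 1283, .fwd 1310],
   .define,
   .loop (some (18, 3)) [.fwd 1291, .fwd 1292, .fwd 1264, .fwd 1283, .bwd 1285, .fwd 1312],
   .loop (some (10, 2)) [.fwd 1281, .bwd 1267, .bwd 1281],
   .loop (some (17, 2)) [.bwd 1182, .bwd 1125, .bwd 1244, .fwd 67, .fwd 68],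
   .define,
   .define,
   .define,
   .define,
   .define,
   .define,
   .define,
   .define,
   .define,
   .define,
   .define,
   .define,
   .define,
   .define,
   .define,
   .define,
   .define,
   .define,
   .define,
   .define,
   .define,
   .define,
   .define,
   .define,
   .define,
   .define,
   .loop (some (21, 28)) [.fwd 364, .bwd 1125, .bwd 1244, .bwd 1281, .fwd 1282, .fwd 1316, .fwd 1317, .fwd 1318, .fwd 1319, .fwd 1320, .fwd 1321, .fwd 1322, .fwd 1323, .fwd 1324, .fwd 1325, .fwd 1326, .fwd 1327, .fwd 1328, .fwd 1329, .fwd 1330, .fwd 1331, .fwd 1332, .fwd 1333, .fwd 1334, .fwd 1335, .fwd 1336, .fwd 1337, .fwd 1338, .fwd 1339, .fwd 1340, .fwd 1341],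
   .loop (some (12, 2)) [.bwd 67, .bwd 1267, .fwd 67],
   .loop (some (13, 2)) [.bwd 1244, .bwd 1267, .fwd 1244],
   .loop (some (3, 1)) [.bwd 69, .bwd 68, .bwd 1303],
   .define,
   .define,
   .loop (some (14, 3)) [.bwd 1346, .bwd 1343, .fwd 1346, .fwd 1347],
   .define,
   .loop (some (4, 2)) [.bwd 68, .bwd 1256, .fwd 1349],
   .define,
   .define,
   .define,
   .define,
   .define,
   .define,
   .loop (some (20, 7)) [.fwd 1311, .fwd 68, .fwd 1351, .fwd 1352, .fwd 1353, .fwd 1354, .fwd 1355, .fwd 1356],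
   .define,
   .loop (some (6, 2)) [.fwd 1303, .bwd 1311, .fwd 1358],
   .define,
   .define,
   .loop (some (19, 2)) [.fwd 1251, .fwd 1252, .fwd 1253, .fwd 1254, .fwd 1255, .fwd 1256, .fwd 1360, .fwd 1361],
   .loop (some (9, 2)) [.bwd 1360, .bwd 1343, .fwd 1360],
   .define,
   .loop (some (1, 2)) [.bwd 68, .fwd 1360, .fwd 1364],
   .define,
   .define,
   .define,
   .loop (some (15, 4)) [.fwd 1303, .fwd 1360, .fwd 1366, .fwd 1367, .fwd 1368],
   .define,
   .loop (some (5, 2)) [.bwd 1360, .bwd 1311, .fwd 1370],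
   .loop (some (8, 1)) [.fwd 1264, .fwd 67, .fwd 1346],
   .define,
   .loop (some (7, 2)) [.fwd 1256, .bwd 1311, .fwd 1373],
   .define,
   .loop (some (18, 3)) [.fwd 1356, .fwd 1357, .fwd 1311, .fwd 1346, .bwd 1348, .fwd 1375],
   .loop (some (10, 2)) [.fwd 1303, .bwd 1343, .bwd 1303],
   .define,
   .loop (some (16, 4)) [.fwd 1256, .bwd 1303, .bwd 74, .bwd 73, .fwd 1378],
   .define,
   .define,
   .define,
   .define,
   .define,
   .define,
   .define,
   .define,
   .define,
   .define,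
   .define,
   .define,
   .define,
   .define,
   .define,
   .define,
   .define,
   .define,
   .define,
   .define,
   .define,
   .define,
   .define,
   .define,
   .define,
   .define,
   .define,
   .loop (some (21, 29)) [.bwd 1315, .bwd 68, .bwd 1303, .bwd 74, .fwd 1380, .fwd 1381, .fwd 1382, .fwd 1383, .fwd 1384, .fwd 1385, .fwd 1386, .fwd 1387, .fwd 1388, .fwd 1389, .fwd 1390, .fwd 1391, .fwd 1392, .fwd 1393, .fwd 1394, .fwd 1395, .fwd 1396, .fwd 1397, .fwd 1398, .fwd 1399, .fwd 1400, .fwd 1401, .fwd 1402, .fwd 1403, .fwd 1404, .fwd 1405, .fwd 1406],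
   .loop (some (13, 2)) [.bwd 68, .bwd 1343, .fwd 68],
   .define,
   .define,
   .loop (some (14, 3)) [.bwd 1409, .bwd 1408, .fwd 1409, .fwd 1410],
   .define,
   .define,
   .define,
   .define,
   .define,
   .loop (some (20, 7)) [.bwd 1351, .bwd 68, .bwd 1311, .fwd 1412, .fwd 1413, .fwd 1414, .fwd 1415, .fwd 1416],
   .define,
   .loop (some (6, 2)) [.bwd 69, .fwd 1351, .fwd 1418],
   .define,
   .define,
   .define,
   .define,
   .define,
   .define,
   .loop (some (19, 7)) [.fwd 1350, .bwd 1365, .fwd 1420, .fwd 1421, .fwd 1422, .fwd 1423, .fwd 1424, .fwd 1425],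
   .loop (some (9, 2)) [.fwd 1365, .bwd 1408, .bwd 1365],
   .loop (some (2, 1)) [.bwd 1183, .bwd 1315, .fwd 69],
   .define,
   .define,
   .define,
   .loop (some (15, 4)) [.bwd 69, .bwd 1365, .fwd 1429, .fwd 1430, .fwd 1431],
   .define,
   .loop (some (5, 2)) [.fwd 1365, .fwd 1351, .fwd 1433],
   .define,
   .loop (some (8, 2)) [.bwd 1315, .fwd 1409, .fwd 1435],
   .define,
   .loop (some (7, 2)) [.fwd 1350, .fwd 1351, .fwd 1437],
   .define,
   .loop (some (18, 3)) [.fwd 1416, .fwd 1417, .bwd 1351, .fwd 1409, .bwd 1411, .fwd 1439],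
   .loop (some (10, 2)) [.bwd 69, .bwd 1408, .fwd 69],
   .define,
   .define,
   .loop (some (12, 2)) [.bwd 1315, .bwd 1408, .fwd 1315],
   .define,
   .define,
   .loop (some (14, 3)) [.bwd 1445, .bwd 1441, .fwd 1445, .fwd 1446],
   .loop (some (4, 1)) [.fwd 74, .fwd 1345, .fwd 70],
   .define,
   .define,
   .define,
   .define,
   .define,
   .loop (some (20, 7)) [.fwd 1419, .bwd 1345, .bwd 1359, .fwd 1449, .fwd 1450, .fwd 1451, .fwd 1452, .fwd 1453],
   .define,
   .define,
   .define,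
   .define,
   .define,
   .loop (some (19, 6)) [.bwd 71, .bwd 70, .bwd 1432, .fwd 1455, .fwd 1456, .fwd 1457, .fwd 1458, .fwd 1459],
   .loop (some (1, 1)) [.fwd 1369, .fwd 1345, .bwd 1432],
   .define,
   .loop (some (5, 2)) [.fwd 1432, .bwd 1419, .fwd 1462],
   .define,
   .loop (some (8, 2)) [.bwd 1428, .fwd 1445, .fwd 1464],
   .define,
   .loop (some (7, 2)) [.bwd 70, .bwd 1419, .fwd 1466],
   .define,
   .loop (some (18, 3)) [.fwd 1453, .fwd 1454, .fwd 1419, .fwd 1445, .bwd 1447, .fwd 1468],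
   .loop (some (11, 2)) [.bwd 70, .bwd 1441, .fwd 70],
   .define,
   .loop (some (17, 2)) [.bwd 76, .bwd 75, .fwd 1345, .fwd 1428, .fwd 1471],
   .define,
   .define,
   .define,
   .define,
   .define,
   .define,
   .define,
   .define,
   .define,
   .define,
   .define,
   .define,
   .define,
   .define,
   .define,
   .define,
   .define,
   .loop (some (21, 20)) [.bwd 945, .bwd 1225, .fwd 1155, .fwd 1139, .fwd 1095, .fwd 1099, .fwd 1159, .bwd 1239, .bwd 1282, .bwd 75, .fwd 1345, .bwd 69, .bwd 1350, .bwd 1426, .fwd 1473, .fwd 1474, .fwd 1475, .fwd 1476, .fwd 1477, .fwd 1478, .fwd 1479, .fwd 1480, .fwd 1481, .fwd 1482, .fwd 1483, .fwd 1484, .fwd 1485, .fwd 1486, .fwd 1487, .fwd 1488, .fwd 1489],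
   .loop (some (12, 2)) [.bwd 1428, .bwd 1441, .fwd 1428],
   .loop (some (3, 1)) [.fwd 72, .fwd 73, .bwd 1448, .fwd 1442],
   .loop none [.fwd 1492],
   .loop none [.fwd 1442, .bwd 1493],
   .loop none [.fwd 1460, .fwd 1493, .fwd 1443],
   .loop none [.bwd 1495],
   .loop none [.bwd 1460, .bwd 1496],
   .loop none [.fwd 1459, .bwd 1496],
   .define]

theorem just5_len : just5.length = 250 := by decide +kernel

theorem just5_ok : cert.okFacts 1250 just5 = true := by decide +kernel

/-- justifications -/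
noncomputable def just6 : List Cert.Just :=
  [.define,
   .loop (some (14, 3)) [.bwd 1499, .bwd 1470, .fwd 1499, .fwd 1500],
   .define,
   .define,
   .define,
   .define,
   .define,
   .define,
   .loop (some (20, 7)) [.fwd 1467, .fwd 1448, .fwd 1502, .fwd 1503, .fwd 1504, .fwd 1505, .fwd 1506, .fwd 1507],
   .define,
   .loop (some (6, 2)) [.fwd 1494, .bwd 1467, .fwd 1509],
   .define,
   .define,
   .define,
   .define,
   .loop (some (19, 4)) [.bwd 1185, .bwd 1184, .bwd 1428, .fwd 70, .fwd 1511, .fwd 1512, .fwd 1513, .fwd 1514],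
   .define,
   .loop (some (1, 2)) [.bwd 1448, .fwd 1511, .fwd 1516],
   .define,
   .define,
   .define,
   .loop (some (15, 4)) [.fwd 1494, .fwd 1511, .fwd 1518, .fwd 1519, .fwd 1520],
   .define,
   .loop (some (5, 2)) [.bwd 1511, .bwd 1467, .fwd 1522],
   .loop (some (8, 1)) [.fwd 1510, .bwd 71, .fwd 1499],
   .define,
   .loop (some (18, 3)) [.fwd 1507, .fwd 1508, .fwd 1467, .fwd 1499, .bwd 1501, .fwd 1525],
   .loop (some (10, 2)) [.fwd 1494, .bwd 1470, .bwd 1494],
   .define,
   .define,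
   .define,
   .define,
   .define,
   .define,
   .define,
   .define,
   .define,
   .define,
   .loop (some (4, 1)) [.bwd 1378, .bwd 72, .bwd 1497],
   .define,
   .define,
   .loop (some (1, 2)) [.bwd 72, .bwd 1521, .fwd 1540],
   .define,
   .define,
   .define,
   .define,
   .define,
   .define,
   .loop (some (13, 2)) [.bwd 72, .bwd 1527, .fwd 72],
   .define,
   .define,
   .loop (some (14, 3)) [.bwd 1549, .bwd 1548, .fwd 1549, .fwd 1550],
   .define,
   .define,
   .define,
   .define,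
   .define,
   .loop (some (20, 7)) [.bwd 1539, .bwd 72, .bwd 1510, .fwd 1552, .fwd 1553, .fwd 1554, .fwd 1555, .fwd 1556],
   .define,
   .loop (some (5, 2)) [.fwd 1541, .fwd 1539, .fwd 1558],
   .define,
   .loop (some (18, 3)) [.fwd 1556, .fwd 1557, .bwd 1539, .fwd 1549, .bwd 1551, .fwd 1560],
   .define,
   .define,
   .define,
   .define,
   .define,
   .loop (some (20, 7)) [.bwd 1502, .bwd 1448, .bwd 1467, .fwd 1562, .fwd 1563, .fwd 1564, .fwd 1565, .fwd 1566],
   .define,
   .define,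
   .define,
   .loop (some (19, 4)) [.bwd 1316, .bwd 1282, .bwd 75, .bwd 74, .bwd 1517, .fwd 1568, .fwd 1569, .fwd 1570],
   .define,
   .loop (some (5, 2)) [.fwd 1517, .fwd 1502, .fwd 1572],
   .loop (some (7, 1)) [.fwd 1359, .bwd 74, .fwd 1502],
   .define,
   .define,
   .loop (some (14, 3)) [.bwd 1575, .bwd 1377, .fwd 1575, .fwd 1576],
   .define,
   .define,
   .define,
   .define,
   .define,
   .loop (some (20, 7)) [.fwd 1359, .fwd 1345, .bwd 1419, .fwd 1578, .fwd 1579, .fwd 1580, .fwd 1581, .fwd 1582],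
   .define,
   .loop (some (5, 2)) [.fwd 1369, .bwd 1359, .fwd 1584],
   .loop (some (8, 1)) [.fwd 1294, .bwd 75, .fwd 1575],
   .define,
   .loop (some (18, 3)) [.fwd 1582, .fwd 1583, .fwd 1359, .fwd 1575, .bwd 1577, .fwd 1587],
   .define,
   .define,
   .define,
   .define,
   .define,
   .define,
   .define,
   .define,
   .define,
   .define,
   .define,
   .define,
   .define,
   .define,
   .define,
   .define,
   .define,
   .define,
   .define,
   .define,
   .define,
   .define,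
   .define,
   .define,
   .define,
   .loop (some (21, 28)) [.bwd 1184, .bwd 1428, .bwd 1345, .fwd 1303, .bwd 1256, .bwd 1255, .fwd 1589, .fwd 1590, .fwd 1591, .fwd 1592, .fwd 1593, .fwd 1594, .fwd 1595, .fwd 1596, .fwd 1597, .fwd 1598, .fwd 1599, .fwd 1600, .fwd 1601, .fwd 1602, .fwd 1603, .fwd 1604, .fwd 1605, .fwd 1606, .fwd 1607, .fwd 1608, .fwd 1609, .fwd 1610, .fwd 1611, .fwd 1612, .fwd 1613],
   .define,
   .define,
   .loop (some (14, 3)) [.bwd 1615, .bwd 1314, .fwd 1615, .fwd 1616],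
   .loop (some (4, 1)) [.fwd 125, .bwd 1181, .bwd 76, .fwd 1282],
   .loop none [.fwd 1618],
   .loop none [.bwd 1239, .bwd 1619],
   .loop none [.fwd 1282, .bwd 1619],
   .loop none [.fwd 124, .fwd 1619, .fwd 1316],
   .loop none [.fwd 1622],
   .loop none [.fwd 123, .fwd 1623, .bwd 1571],
   .loop none [.fwd 1624],
   .loop none [.bwd 1317, .bwd 1623],
   .loop none [.fwd 1570, .bwd 1625],
   .define,
   .define,
   .define,
   .define,
   .define,
   .define,
   .loop (some (20, 7)) [.fwd 1294, .fwd 76, .fwd 1628, .fwd 1629, .fwd 1630, .fwd 1631, .fwd 1632, .fwd 1633],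
   .define,
   .loop (some (19, 2)) [.fwd 1568, .fwd 1569, .bwd 1627, .fwd 123, .fwd 124, .fwd 1621, .bwd 1307, .fwd 1635],
   .define,
   .loop (some (1, 2)) [.bwd 76, .bwd 1307, .fwd 1637],
   .define,
   .loop (some (7, 2)) [.fwd 1621, .bwd 1294, .fwd 1639],
   .define,
   .loop (some (18, 3)) [.fwd 1633, .fwd 1634, .fwd 1294, .fwd 1615, .bwd 1617, .fwd 1641],
   .loop (some (11, 2)) [.fwd 1621, .bwd 1314, .bwd 1621],
   .define,
   .loop (some (13, 2)) [.bwd 76, .bwd 1314, .fwd 76],
   .define,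
   .define,
   .loop (some (14, 3)) [.bwd 1646, .bwd 1645, .fwd 1646, .fwd 1647],
   .define,
   .define,
   .define,
   .define,
   .define,
   .loop (some (20, 7)) [.bwd 1628, .bwd 76, .bwd 1294, .fwd 1649, .fwd 1650, .fwd 1651, .fwd 1652, .fwd 1653],
   .loop (some (6, 1)) [.bwd 1286, .bwd 77, .fwd 1628],
   .define,
   .define,
   .define,
   .define,
   .define,
   .define,
   .loop (some (19, 7)) [.bwd 1181, .bwd 1638, .fwd 1656, .fwd 1657, .fwd 1658, .fwd 1659, .fwd 1660, .fwd 1661],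
   .loop (some (2, 2)) [.bwd 1542, .fwd 1472, .fwd 77, .fwd 1125],
   .loop none [.bwd 1663],
   .loop none [.fwd 1542, .bwd 1664],
   .loop none [.fwd 364, .fwd 1664, .fwd 1543],
   .loop none [.fwd 1666],
   .loop none [.fwd 363, .fwd 1667, .fwd 1544],
   .loop none [.fwd 1668],
   .loop none [.bwd 367, .fwd 1669, .fwd 1545],
   .loop none [.fwd 1670],
   .loop none [.fwd 642, .fwd 1671, .fwd 1546],
   .loop none [.fwd 1672],
   .loop none [.bwd 1547, .bwd 1673],
   .define,
   .loop (some (8, 2)) [.fwd 1472, .fwd 1646, .fwd 1675],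
   .define,
   .loop (some (7, 2)) [.bwd 1181, .fwd 1628, .fwd 1677],
   .define,
   .loop (some (18, 3)) [.fwd 1653, .fwd 1654, .bwd 1628, .fwd 1646, .bwd 1648, .fwd 1679],
   .loop (some (11, 2)) [.bwd 1181, .bwd 1645, .fwd 1181],
   .loop (some (12, 2)) [.fwd 1472, .bwd 1645, .bwd 1472],
   .define,
   .define,
   .loop (some (14, 3)) [.bwd 1683, .bwd 1344, .fwd 1683, .fwd 1684],
   .define,
   .define,
   .define,
   .define,
   .define,
   .loop (some (20, 7)) [.bwd 1286, .bwd 1244, .bwd 1264, .fwd 1686, .fwd 1687, .fwd 1688, .fwd 1689, .fwd 1690],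
   .loop (some (19, 1)) [.fwd 331, .fwd 332, .bwd 17, .bwd 16, .fwd 300, .bwd 1118, .bwd 79, .bwd 78, .bwd 1302],
   .loop none [.fwd 1692],
   .loop none [.bwd 1302, .bwd 1693],
   .loop none [.bwd 556, .fwd 1693, .bwd 1301],
   .loop none [.fwd 1695],
   .loop none [.fwd 1295, .bwd 1696],
   .loop none [.bwd 557, .fwd 1696, .fwd 1304],
   .loop none [.fwd 1698],
   .loop none [.bwd 1296, .bwd 1696],
   .loop none [.fwd 1309, .bwd 1696],
   .loop none [.fwd 1696, .bwd 1300, .bwd 1696],
   .loop none [.bwd 1305, .bwd 1699],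
   .loop (some (9, 2)) [.fwd 1694, .bwd 1344, .bwd 1694],
   .define,
   .loop (some (5, 2)) [.fwd 1694, .fwd 1286, .fwd 1705],
   .define,
   .loop (some (8, 2)) [.bwd 1125, .fwd 1683, .fwd 1707],
   .loop (some (7, 1)) [.fwd 1168, .bwd 78, .fwd 1286],
   .define,
   .loop (some (18, 3)) [.fwd 1690, .fwd 1691, .bwd 1286, .fwd 1683, .bwd 1685, .fwd 1710],
   .define,
   .define,
   .define,
   .define,
   .define,
   .define,
   .define,
   .define,
   .define,
   .define,
   .define,
   .define,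
   .define,
   .define,
   .define,
   .define,
   .define,
   .define,
   .define,
   .define,
   .define,
   .loop (some (21, 24)) [.fwd 1458, .bwd 1498, .fwd 1538, .fwd 1379, .fwd 1256, .bwd 67, .fwd 1244, .bwd 77, .fwd 1181, .bwd 1662, .fwd 1712, .fwd 1713, .fwd 1714, .fwd 1715, .fwd 1716, .fwd 1717, .fwd 1718, .fwd 1719, .fwd 1720, .fwd 1721, .fwd 1722, .fwd 1723, .fwd 1724, .fwd 1725, .fwd 1726, .fwd 1727, .fwd 1728, .fwd 1729, .fwd 1730, .fwd 1731, .fwd 1732],
   .loop (some (12, 2)) [.bwd 1125, .bwd 1344, .fwd 1125],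
   .define,
   .define,
   .loop (some (14, 3)) [.bwd 1735, .bwd 1179, .fwd 1735, .fwd 1736],
   .define,
   .define,
   .define,
   .define,
   .define,
   .loop (some (20, 7)) [.fwd 1168, .bwd 1155, .bwd 1220, .fwd 1738, .fwd 1739, .fwd 1740, .fwd 1741, .fwd 1742],
   .define,
   .define,
   .define,
   .loop (some (19, 4)) [.fwd 363, .fwd 364, .bwd 1125, .fwd 78, .fwd 1171, .fwd 1744, .fwd 1745, .fwd 1746],
   .loop (some (9, 2)) [.bwd 1171, .bwd 1179, .fwd 1171],
   .define]

theorem just6_len : just6.length = 250 := by decide +kernel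

theorem just6_ok : cert.okFacts 1500 just6 = true := by decide +kernel

/-- justifications -/
noncomputable def just7 : List Cert.Just :=
  [.loop (some (5, 2)) [.bwd 1171, .bwd 1168, .fwd 1749],
   .loop (some (8, 1)) [.fwd 1137, .bwd 79, .fwd 1735],
   .define,
   .loop (some (18, 3)) [.fwd 1742, .fwd 1743, .fwd 1168, .fwd 1735, .bwd 1737, .fwd 1752],
   .define,
   .define,
   .loop (some (14, 3)) [.bwd 1754, .bwd 1147, .fwd 1754, .fwd 1755],
   .define,
   .define,
   .define,
   .define,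
   .define,
   .define,
   .loop (some (20, 7)) [.fwd 1137, .fwd 80, .fwd 1757, .fwd 1758, .fwd 1759, .fwd 1760, .fwd 1761, .fwd 1762],
   .loop (some (19, 1)) [.fwd 329, .fwd 330, .fwd 331, .fwd 332, .bwd 17, .bwd 16, .fwd 300, .bwd 1118, .fwd 1140],
   .loop none [.fwd 1764],
   .loop none [.fwd 1140, .bwd 1765],
   .loop none [.fwd 1765, .fwd 1141, .bwd 1765],
   .loop (some (9, 2)) [.fwd 1766, .bwd 1147, .bwd 1766],
   .define,
   .loop (some (1, 2)) [.bwd 80, .bwd 1766, .fwd 1769],
   .define,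
   .loop (some (5, 2)) [.fwd 1766, .bwd 1137, .fwd 1771],
   .loop (some (8, 1)) [.fwd 1168, .fwd 79, .fwd 1754],
   .loop (some (7, 1)) [.fwd 338, .bwd 1118, .bwd 1137],
   .define,
   .loop (some (18, 3)) [.fwd 1762, .fwd 1763, .fwd 1137, .fwd 1754, .bwd 1756, .fwd 1775],
   .loop (some (13, 2)) [.bwd 80, .bwd 1147, .fwd 80],
   .define,
   .define,
   .define,
   .define,
   .define,
   .define,
   .loop (some (20, 7)) [.bwd 1757, .bwd 80, .bwd 1137, .fwd 1779, .fwd 1780, .fwd 1781, .fwd 1782, .fwd 1783],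
   .loop (some (6, 1)) [.bwd 1129, .bwd 81, .fwd 1757],
   .loop (some (19, 1)) [.bwd 1121, .fwd 207, .fwd 1115, .fwd 1025, .bwd 160, .fwd 108, .fwd 160, .bwd 1025, .bwd 1770],
   .loop none [.fwd 1786],
   .loop none [.bwd 1770, .bwd 1787],
   .loop none [.fwd 1769, .bwd 1787],
   .loop (some (2, 3)) [.fwd 1115, .fwd 81, .bwd 1090, .bwd 741],
   .loop none [.fwd 1790],
   .loop none [.bwd 1644, .fwd 1791, .fwd 741],
   .loop none [.bwd 1792],
   .loop none [.fwd 1272, .fwd 1791, .bwd 740],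
   .loop none [.bwd 1794],
   .loop none [.fwd 1644, .bwd 1793],
   .loop none [.fwd 944, .bwd 1795],
   .loop none [.bwd 945, .bwd 1795],
   .loop none [.fwd 739, .fwd 1795, .bwd 1225],
   .loop none [.bwd 1799],
   .loop none [.bwd 1272, .bwd 1795],
   .loop none [.fwd 1262, .bwd 1795],
   .loop none [.bwd 66, .fwd 1800, .bwd 738],
   .loop none [.fwd 1803],
   .loop none [.bwd 739, .bwd 1800],
   .loop none [.fwd 1281, .fwd 1804, .bwd 737],
   .loop none [.fwd 1806],
   .loop none [.bwd 76, .fwd 1807, .bwd 736],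
   .loop none [.fwd 1808],
   .loop none [.fwd 1472, .fwd 1809, .bwd 735],
   .loop none [.bwd 1810],
   .loop none [.fwd 1665, .bwd 1811],
   .loop none [.bwd 1472, .bwd 1811],
   .loop none [.fwd 1471, .bwd 1811],
   .loop none [.fwd 1676, .bwd 1811],
   .loop none [.fwd 1811, .bwd 1682, .bwd 1811],
   .define,
   .loop (some (5, 2)) [.fwd 1788, .fwd 1757, .fwd 1817],
   .define,
   .loop (some (8, 2)) [.fwd 1115, .fwd 1778, .fwd 1819],
   .loop (some (7, 1)) [.fwd 1025, .fwd 825, .bwd 1025, .fwd 1757],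
   .loop none [.fwd 1821],
   .loop none [.fwd 1788, .fwd 1822, .fwd 1817],
   .loop none [.fwd 1823],
   .loop none [.bwd 81, .fwd 1822, .fwd 1785],
   .loop none [.fwd 1825],
   .loop none [.fwd 80, .fwd 1822, .fwd 1758],
   .loop none [.fwd 1827],
   .loop none [.bwd 1778, .fwd 1822, .bwd 1757],
   .loop none [.bwd 1829],
   .loop none [.fwd 1784, .bwd 1822],
   .loop none [.bwd 1818, .bwd 1824],
   .loop none [.fwd 1094, .fwd 1826, .fwd 1130],
   .loop none [.fwd 1833],
   .loop none [.fwd 1129, .bwd 1826],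
   .loop none [.fwd 1137, .fwd 1828, .fwd 1759],
   .loop none [.fwd 1836],
   .loop none [.fwd 1115, .fwd 1830, .fwd 1819],
   .loop none [.fwd 1838],
   .loop none [.bwd 1831, .fwd 1830, .bwd 1778],
   .loop none [.bwd 1840],
   .loop none [.fwd 1103, .fwd 1834, .fwd 1131],
   .loop none [.fwd 1842],
   .loop none [.fwd 1763, .fwd 1837, .fwd 1760],
   .loop none [.bwd 1844],
   .loop none [.bwd 1820, .bwd 1839],
   .loop none [.fwd 1831, .bwd 1841],
   .loop none [.fwd 1847, .fwd 1841, .bwd 1783],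
   .loop none [.fwd 1848],
   .loop none [.fwd 1135, .fwd 1843, .fwd 1132],
   .loop none [.bwd 1850],
   .loop none [.bwd 1763, .bwd 1845],
   .loop none [.fwd 80, .fwd 1849, .bwd 1782],
   .loop none [.fwd 1853],
   .loop none [.bwd 1135, .bwd 1851],
   .loop none [.fwd 1134, .bwd 1851],
   .loop none [.bwd 1754, .fwd 1854, .bwd 1781],
   .loop none [.fwd 1857],
   .loop none [.fwd 1756, .fwd 1858, .bwd 1780],
   .loop none [.fwd 1859],
   .loop none [.fwd 1779, .bwd 1860],
   .loop (some (12, 2)) [.fwd 1115, .bwd 1777, .bwd 1115],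
   .loop (some (20, 2)) [.fwd 1128, .bwd 1126, .fwd 1094, .fwd 1835, .fwd 1835, .fwd 1835, .bwd 1094, .bwd 1103],
   .loop (some (8, 2)) [.fwd 1090, .fwd 1835, .bwd 1090],
   .loop (some (20, 2)) [.fwd 1080, .bwd 1078, .bwd 986, .fwd 1019, .fwd 1019, .fwd 1019, .fwd 986, .bwd 1065],
   .loop (some (3, 2)) [.bwd 97, .bwd 140, .fwd 97],
   .define,
   .define,
   .loop (some (14, 2)) [.fwd 99, .fwd 96, .fwd 1867, .fwd 1868],
   .loop (some (4, 2)) [.bwd 97, .fwd 152, .fwd 826],
   .define,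
   .define,
   .define,
   .loop (some (20, 5)) [.fwd 155, .fwd 139, .bwd 137, .fwd 97, .fwd 98, .fwd 1871, .fwd 1872, .fwd 1873],
   .loop (some (6, 1)) [.bwd 137, .fwd 140, .fwd 137],
   .define,
   .define,
   .define,
   .define,
   .loop (some (19, 6)) [.fwd 245, .bwd 152, .fwd 149, .bwd 1066, .fwd 1876, .fwd 1877, .fwd 1878, .fwd 1879],
   .define,
   .loop (some (9, 2)) [.bwd 149, .fwd 1867, .fwd 1881],
   .define,
   .loop (some (0, 1)) [.bwd 1867, .fwd 1883],
   .loop (some (1, 2)) [.bwd 97, .fwd 149, .fwd 1016],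
   .loop (some (2, 2)) [.fwd 151, .bwd 140, .bwd 151],
   .loop (some (5, 1)) [.bwd 1061, .bwd 149, .fwd 137],
   .loop (some (7, 1)) [.bwd 168, .bwd 152, .fwd 137],
   .loop (some (10, 1)) [.bwd 1867, .fwd 140, .fwd 1867],
   .define,
   .loop (some (11, 2)) [.bwd 152, .fwd 1867, .fwd 1890],
   .define,
   .define,
   .loop (some (17, 4)) [.bwd 97, .bwd 151, .fwd 1871, .fwd 1892, .fwd 1893],
   .define,
   .define,
   .define,
   .define,
   .define,
   .define,
   .define,
   .define,
   .define,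
   .define,
   .define,
   .define,
   .define,
   .define,
   .define,
   .define,
   .define,
   .define,
   .define,
   .define,
   .define,
   .define,
   .define,
   .define,
   .define,
   .define,
   .loop (some (21, 29)) [.fwd 1894, .bwd 97, .bwd 140, .fwd 152, .bwd 245, .fwd 1895, .fwd 1896, .fwd 1897, .fwd 1898, .fwd 1899, .fwd 1900, .fwd 1901, .fwd 1902, .fwd 1903, .fwd 1904, .fwd 1905, .fwd 1906, .fwd 1907, .fwd 1908, .fwd 1909, .fwd 1910, .fwd 1911, .fwd 1912, .fwd 1913, .fwd 1914, .fwd 1915, .fwd 1916, .fwd 1917, .fwd 1918, .fwd 1919, .fwd 1920],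
   .loop (some (12, 1)) [.fwd 1869, .fwd 151, .fwd 1867],
   .loop (some (13, 1)) [.bwd 1871, .fwd 136, .bwd 97, .fwd 1867],
   .loop none [.bwd 1923],
   .loop none [.bwd 1922, .fwd 1924, .fwd 1892],
   .loop none [.fwd 1925],
   .loop none [.fwd 1871, .bwd 1924],
   .loop none [.bwd 1893, .bwd 1926],
   .loop (some (14, 2)) [.bwd 155, .bwd 154, .bwd 136, .bwd 98],
   .define,
   .define,
   .define,
   .define,
   .define,
   .define,
   .loop (some (19, 7)) [.fwd 1870, .bwd 1885, .fwd 1930, .fwd 1931, .fwd 1932, .fwd 1933, .fwd 1934, .fwd 1935],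
   .loop (some (9, 1)) [.fwd 1060, .fwd 1885, .bwd 136],
   .loop (some (0, 1)) [.fwd 1869, .fwd 136, .fwd 1929],
   .loop none [.bwd 1938],
   .loop none [.fwd 1922, .bwd 1939],
   .loop none [.fwd 138, .fwd 1939, .fwd 1928],
   .loop none [.fwd 1941],
   .loop none [.fwd 155, .fwd 1939, .bwd 1868],
   .loop none [.fwd 1943],
   .loop none [.bwd 1869, .bwd 1939],
   .loop none [.bwd 1888, .fwd 1942, .bwd 1921],
   .loop none [.fwd 1946],
   .loop none [.bwd 1894, .bwd 1942],
   .loop none [.bwd 1881, .bwd 1944],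
   .loop none [.fwd 1944, .fwd 1889, .bwd 1944],
   .loop none [.bwd 1890, .bwd 1944],
   .loop none [.fwd 1940, .bwd 1944],
   .loop none [.fwd 1874, .fwd 1944, .fwd 1927],
   .loop none [.bwd 1953],
   .loop none [.fwd 1867, .bwd 1944],
   .loop none [.fwd 1884, .bwd 1944],
   .loop none [.fwd 1920, .bwd 1947],
   .loop none [.bwd 1874, .bwd 1954],
   .define,
   .loop (some (15, 2)) [.bwd 1959, .fwd 1885, .fwd 1866, .bwd 1885, .fwd 1959],
   .loop (some (7, 1)) [.bwd 167, .fwd 1870, .fwd 98],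
   .define,
   .loop (some (16, 3)) [.bwd 1962, .fwd 1870, .bwd 1866, .bwd 1870, .fwd 1962],
   .define,
   .define,
   .define,
   .define,
   .define,
   .define,
   .define,
   .define,
   .define,
   .define,
   .define,
   .define,
   .define,
   .define,
   .define,
   .define,
   .define,
   .define,
   .define,
   .define,
   .define,
   .define,
   .define,
   .define,
   .define,
   .loop (some (21, 28)) [.bwd 1961, .fwd 151, .fwd 97, .bwd 1866, .bwd 1870, .bwd 1936, .fwd 1964, .fwd 1965, .fwd 1966, .fwd 1967, .fwd 1968, .fwd 1969, .fwd 1970, .fwd 1971, .fwd 1972, .fwd 1973, .fwd 1974, .fwd 1975, .fwd 1976, .fwd 1977, .fwd 1978, .fwd 1979, .fwd 1980, .fwd 1981, .fwd 1982, .fwd 1983, .fwd 1984, .fwd 1985, .fwd 1986, .fwd 1987, .fwd 1988],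
   .loop (some (12, 3)) [.fwd 1948, .bwd 136, .fwd 151, .fwd 1883],
   .loop none [.fwd 1990],
   .loop none [.fwd 1956, .bwd 1991],
   .loop none [.fwd 1883, .bwd 1991],
   .loop (some (4, 1)) [.bwd 1951, .bwd 1958, .fwd 1961],
   .define,
   .loop (some (19, 5)) [.bwd 246, .bwd 183, .bwd 1961, .fwd 1937, .fwd 1066, .fwd 1067, .fwd 849, .fwd 1995],
   .define,
   .loop (some (9, 2)) [.bwd 1937, .bwd 1945, .fwd 1997],
   .loop (some (1, 1)) [.bwd 1949, .bwd 1958, .fwd 1937]]

theorem just7_len : just7.length = 250 := by decide +kernel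

theorem just7_ok : cert.okFacts 1750 just7 = true := by decide +kernel

/-- justifications -/
noncomputable def just8 : List Cert.Just :=
  [.define,
   .loop (some (15, 2)) [.bwd 2000, .bwd 1937, .fwd 1886, .fwd 1937, .fwd 2000],
   .loop (some (10, 1)) [.fwd 1945, .fwd 1886, .bwd 1945],
   .define,
   .loop (some (11, 2)) [.bwd 1961, .bwd 1945, .fwd 2003],
   .loop (some (16, 3)) [.fwd 1989, .bwd 1961, .bwd 1886, .fwd 1961, .bwd 1989],
   .define,
   .define,
   .define,
   .define,
   .define,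
   .define,
   .define,
   .define,
   .define,
   .define,
   .define,
   .define,
   .define,
   .define,
   .define,
   .define,
   .define,
   .define,
   .define,
   .define,
   .define,
   .define,
   .define,
   .define,
   .loop (some (21, 28)) [.bwd 2003, .bwd 1952, .bwd 1958, .bwd 1886, .fwd 1961, .fwd 183, .fwd 286, .fwd 2006, .fwd 2007, .fwd 2008, .fwd 2009, .fwd 2010, .fwd 2011, .fwd 2012, .fwd 2013, .fwd 2014, .fwd 2015, .fwd 2016, .fwd 2017, .fwd 2018, .fwd 2019, .fwd 2020, .fwd 2021, .fwd 2022, .fwd 2023, .fwd 2024, .fwd 2025, .fwd 2026, .fwd 2027, .fwd 2028, .fwd 2029],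
   .loop (some (14, 2)) [.fwd 1029, .fwd 1030, .bwd 316, .bwd 1030],
   .define,
   .define,
   .loop (some (20, 6)) [.bwd 2032, .fwd 850, .bwd 109, .bwd 940, .fwd 109, .bwd 850, .fwd 2032, .fwd 2033],
   .loop (some (6, 1)) [.fwd 338, .bwd 110, .bwd 850],
   .loop (some (8, 1)) [.bwd 225, .fwd 188, .bwd 1030],
   .define,
   .loop (some (18, 3)) [.fwd 2034, .bwd 2032, .fwd 850, .bwd 1030, .bwd 1029, .fwd 2037],
   .define,
   .define,
   .loop (some (14, 3)) [.bwd 2039, .bwd 345, .fwd 2039, .fwd 2040],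
   .define,
   .define,
   .loop (some (20, 6)) [.bwd 2042, .fwd 338, .fwd 344, .bwd 825, .bwd 344, .bwd 338, .fwd 2042, .fwd 2043],
   .loop (some (19, 1)) [.fwd 1746, .fwd 1747, .fwd 363, .fwd 364, .bwd 1125, .fwd 78, .fwd 79, .fwd 1118, .fwd 844],
   .loop none [.bwd 2045],
   .loop none [.fwd 1745, .bwd 2046],
   .loop none [.bwd 1746, .bwd 2046],
   .loop (some (9, 2)) [.bwd 844, .bwd 345, .fwd 844],
   .loop (some (1, 1)) [.bwd 834, .bwd 344, .fwd 844],
   .define,
   .loop (some (5, 2)) [.bwd 844, .bwd 338, .fwd 2051],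
   .loop (some (8, 1)) [.fwd 293, .fwd 300, .fwd 2039],
   .define,
   .loop (some (18, 3)) [.fwd 2044, .bwd 2042, .fwd 338, .fwd 2039, .bwd 2041, .fwd 2054],
   .define,
   .define,
   .loop (some (14, 3)) [.bwd 2056, .bwd 1236, .fwd 2056, .fwd 2057],
   .define,
   .define,
   .define,
   .define,
   .define,
   .loop (some (20, 7)) [.fwd 1232, .bwd 1159, .bwd 1176, .fwd 2059, .fwd 2060, .fwd 2061, .fwd 2062, .fwd 2063],
   .loop (some (6, 1)) [.fwd 1640, .fwd 1620, .bwd 1232],
   .loop (some (19, 0)) [.fwd 116, .bwd 1224, .bwd 1223, .bwd 1278, .bwd 1034, .fwd 1275, .bwd 1148, .fwd 1154],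
   .loop (some (2, 2)) [.bwd 116, .bwd 1620, .bwd 124],
   .define,
   .loop (some (15, 3)) [.bwd 2068, .fwd 1620, .bwd 2066, .bwd 1620, .fwd 2068],
   .define,
   .loop (some (8, 2)) [.bwd 116, .fwd 2056, .fwd 2070],
   .define,
   .loop (some (18, 3)) [.fwd 2063, .fwd 2064, .fwd 1232, .fwd 2056, .bwd 2058, .fwd 2072],
   .loop (some (17, 2)) [.bwd 116, .bwd 1159, .fwd 1099, .fwd 1159, .fwd 116, .fwd 117],
   .loop none [.fwd 2074],
   .loop none [.fwd 2067, .fwd 2075, .fwd 118],
   .loop none [.bwd 2076],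
   .loop none [.fwd 117, .bwd 2075],
   .loop none [.bwd 2067, .bwd 2077],
   .loop none [.bwd 119, .fwd 2077, .bwd 123],
   .loop none [.fwd 2080],
   .loop none [.bwd 124, .bwd 2077],
   .loop none [.bwd 1626, .bwd 2077],
   .loop none [.fwd 122, .bwd 2081],
   .loop none [.bwd 120, .fwd 2081, .fwd 1627],
   .loop none [.fwd 2085],
   .loop none [.fwd 1569, .bwd 2086],
   .loop (some (3, 3)) [.fwd 2078, .bwd 2079, .fwd 2083, .fwd 1318],
   .loop none [.fwd 2088],
   .loop none [.fwd 2079, .fwd 2089, .bwd 1318],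
   .loop none [.fwd 2090],
   .loop none [.fwd 1224, .fwd 2089, .fwd 1319],
   .loop none [.fwd 2092],
   .loop none [.fwd 2083, .bwd 2091],
   .loop none [.fwd 1223, .fwd 2093, .fwd 1320],
   .loop none [.fwd 2095],
   .loop none [.bwd 1321, .bwd 2096],
   .define,
   .define,
   .define,
   .define,
   .define,
   .define,
   .loop (some (20, 7)) [.fwd 2071, .bwd 2078, .bwd 2071, .fwd 2099, .fwd 2100, .fwd 2101, .fwd 2102, .fwd 2103],
   .define,
   .loop (some (8, 1)) [.fwd 1232, .fwd 116, .fwd 2098],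
   .define,
   .loop (some (16, 4)) [.fwd 1224, .bwd 2079, .fwd 119, .fwd 2084, .fwd 2107],
   .loop (some (4, 1)) [.bwd 119, .fwd 2094, .fwd 119],
   .define,
   .define,
   .define,
   .define,
   .loop (some (17, 4)) [.bwd 2082, .fwd 2094, .fwd 2082, .fwd 125, .bwd 1662, .fwd 1712],
   .loop none [.fwd 2114],
   .loop none [.bwd 1620, .fwd 2115, .fwd 1713],
   .loop none [.fwd 2116],
   .loop none [.bwd 125, .fwd 2115, .bwd 1712],
   .loop none [.fwd 2118],
   .loop none [.fwd 1154, .fwd 2117, .fwd 1714],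
   .loop none [.fwd 2120],
   .loop none [.bwd 1662, .bwd 2119],
   .loop none [.bwd 1148, .fwd 2121, .fwd 1715],
   .loop none [.fwd 2123],
   .loop none [.fwd 1091, .fwd 2124, .fwd 1716],
   .loop none [.fwd 2125],
   .loop none [.bwd 1796, .fwd 2126, .fwd 1717],
   .loop none [.fwd 2127],
   .loop none [.fwd 207, .fwd 2128, .fwd 1718],
   .loop none [.fwd 2129],
   .loop none [.bwd 1121, .fwd 2130, .fwd 1719],
   .loop none [.fwd 2131],
   .loop none [.bwd 1789, .fwd 2132, .fwd 1720],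
   .loop none [.fwd 2133],
   .loop none [.fwd 1767, .fwd 2134, .fwd 1721],
   .loop none [.fwd 2135],
   .loop none [.fwd 328, .fwd 2136, .fwd 1722],
   .loop none [.fwd 2137],
   .loop none [.fwd 930, .fwd 2138, .fwd 1723],
   .loop none [.fwd 2139],
   .loop none [.bwd 931, .fwd 2140, .fwd 1724],
   .loop none [.fwd 2141],
   .loop none [.fwd 241, .fwd 2142, .fwd 1725],
   .loop none [.fwd 2143],
   .loop none [.bwd 929, .fwd 2144, .fwd 1726],
   .loop none [.fwd 2145],
   .loop none [.fwd 428, .fwd 2146, .fwd 1727],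
   .loop none [.fwd 2147],
   .loop none [.bwd 431, .fwd 2148, .fwd 1728],
   .loop none [.fwd 2149],
   .loop none [.bwd 499, .fwd 2150, .fwd 1729],
   .loop none [.fwd 2151],
   .loop none [.bwd 1730, .bwd 2152],
   .loop (some (3, 2)) [.bwd 2084, .fwd 2109, .fwd 2084, .bwd 121],
   .loop none [.bwd 2154],
   .loop none [.bwd 2087, .fwd 2155, .fwd 2107],
   .loop none [.fwd 2156],
   .loop none [.fwd 121, .bwd 2155],
   .loop none [.bwd 2108, .bwd 2157],
   .define,
   .define,
   .define,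
   .loop (some (17, 6)) [.fwd 120, .bwd 2158, .bwd 120, .bwd 2109, .fwd 120, .bwd 2158],
   .loop none [.fwd 2163],
   .loop none [.fwd 119, .fwd 2164, .fwd 2087],
   .loop none [.fwd 2165],
   .loop none [.bwd 2079, .fwd 2166, .fwd 2159],
   .loop none [.fwd 2167],
   .loop none [.bwd 2082, .fwd 2166, .bwd 1568],
   .loop none [.fwd 2169],
   .loop none [.bwd 1224, .bwd 2168],
   .loop none [.fwd 116, .fwd 2168, .bwd 1223],
   .loop none [.fwd 2172],
   .loop none [.bwd 2068, .fwd 2170, .fwd 1517],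
   .loop none [.bwd 2174],
   .loop none [.bwd 1621, .fwd 2170, .bwd 1636],
   .loop none [.fwd 2176],
   .loop none [.bwd 125, .fwd 2170, .bwd 1516],
   .loop none [.fwd 2178],
   .loop none [.fwd 1640, .fwd 2170, .bwd 1573],
   .loop none [.bwd 2180],
   .loop none [.fwd 1154, .fwd 2173, .bwd 1278],
   .loop none [.fwd 2182],
   .loop none [.fwd 1159, .fwd 2173, .fwd 2097],
   .loop none [.fwd 2184],
   .loop none [.fwd 2068, .bwd 2175],
   .loop none [.fwd 73, .fwd 2175, .bwd 2069, .bwd 2175],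
   .loop none [.fwd 2187],
   .loop none [.fwd 75, .fwd 2177, .bwd 1635],
   .loop none [.fwd 2189],
   .loop none [.fwd 2122, .fwd 2179, .fwd 1512],
   .loop none [.fwd 2191],
   .loop none [.fwd 1678, .fwd 2179, .bwd 1523],
   .loop none [.bwd 2193],
   .loop none [.fwd 2065, .bwd 2181],
   .loop none [.fwd 1639, .bwd 2181],
   .loop none [.bwd 1640, .bwd 2181],
   .loop none [.bwd 1148, .fwd 2183, .bwd 1034],
   .loop none [.fwd 2198],
   .loop none [.fwd 64, .fwd 2183, .fwd 1035],
   .loop none [.fwd 2200],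
   .loop none [.fwd 126, .fwd 2185, .fwd 1322],
   .loop none [.fwd 2202],
   .loop none [.fwd 1541, .fwd 2188, .fwd 2186],
   .loop none [.bwd 2204],
   .loop none [.bwd 1378, .fwd 2188, .fwd 74],
   .loop none [.bwd 2206],
   .loop none [.fwd 72, .fwd 2188, .bwd 1448],
   .loop none [.bwd 2208],
   .loop none [.bwd 1539, .fwd 2188, .fwd 1502],
   .loop none [.bwd 2210],
   .loop none [.fwd 1369, .fwd 2190, .fwd 1307],
   .loop none [.bwd 2212],
   .loop none [.bwd 1303, .fwd 2190, .bwd 1306],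
   .loop none [.fwd 2214],
   .loop none [.fwd 1181, .fwd 2192, .fwd 1513],
   .loop none [.fwd 2216],
   .loop none [.fwd 1677, .bwd 2194],
   .loop none [.bwd 1678, .bwd 2194],
   .loop none [.bwd 1275, .bwd 2199],
   .loop none [.fwd 1139, .fwd 2201, .fwd 1036],
   .loop none [.fwd 2221],
   .loop none [.fwd 1181, .fwd 2203, .fwd 1323],
   .loop none [.fwd 2223],
   .loop none [.fwd 2197, .fwd 2205, .bwd 1559],
   .loop none [.bwd 2225],
   .loop none [.bwd 1303, .fwd 2207, .fwd 1379],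
   .loop none [.fwd 2227],
   .loop none [.bwd 1345, .fwd 2207, .bwd 1538],
   .loop none [.fwd 2229],
   .loop none [.fwd 71, .bwd 2209],
   .loop none [.fwd 1467, .fwd 2209, .bwd 1510],
   .loop none [.fwd 2232],
   .loop none [.fwd 1539, .bwd 2211],
   .loop none [.fwd 1567, .fwd 2211, .bwd 1557],
   .loop none [.bwd 2235],
   .loop none [.bwd 76, .fwd 2213, .bwd 1461],
   .loop none [.fwd 2237],
   .loop none [.fwd 1294, .fwd 2213, .bwd 1585],
   .loop none [.fwd 2239],
   .loop none [.bwd 1360, .fwd 2215, .bwd 1703],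
   .loop none [.bwd 2241],
   .loop none [.fwd 1813, .fwd 2217, .fwd 1514],
   .loop none [.fwd 2243],
   .loop none [.fwd 78, .fwd 2222, .fwd 1037],
   .loop none [.fwd 2245],
   .loop none [.fwd 1813, .fwd 2224, .fwd 1324],
   .loop none [.fwd 2247],
   .loop none [.fwd 1572, .bwd 2226]]

theorem just8_len : just8.length = 250 := by decide +kernel

theorem just8_ok : cert.okFacts 2000 just8 = true := by decide +kernel

/-- justifications -/
noncomputable def just9 : List Cert.Just :=
  [.loop none [.bwd 2195, .bwd 2226],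
   .loop none [.bwd 2196, .bwd 2226],
   .loop none [.bwd 2197, .bwd 2226],
   .loop none [.bwd 1256, .bwd 2228],
   .loop none [.fwd 67, .fwd 2228, .bwd 1255],
   .loop none [.fwd 2254],
   .loop none [.bwd 68, .fwd 2228, .fwd 1349],
   .loop none [.fwd 2256],
   .loop none [.fwd 1311, .fwd 2228, .bwd 1374],
   .loop none [.fwd 2258],
   .loop none [.bwd 1428, .fwd 2230, .fwd 1498],
   .loop none [.fwd 2260],
   .loop none [.fwd 1509, .bwd 2233],
   .loop none [.fwd 1524, .bwd 2233],
   .loop none [.bwd 1562, .fwd 2233, .fwd 1552],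
   .loop none [.bwd 2264],
   .loop none [.bwd 1567, .bwd 2236],
   .loop none [.bwd 1432, .bwd 2238],
   .loop none [.bwd 77, .fwd 2238, .bwd 1431],
   .loop none [.fwd 2268],
   .loop none [.bwd 1628, .fwd 2238, .bwd 1463],
   .loop none [.bwd 2270],
   .loop none [.fwd 1584, .bwd 2240],
   .loop none [.fwd 1360, .bwd 2242],
   .loop none [.bwd 1361, .bwd 2242],
   .loop none [.bwd 1364, .bwd 2242],
   .loop none [.fwd 1371, .bwd 2242],
   .loop none [.fwd 2242, .bwd 1363, .bwd 2242],
   .loop none [.fwd 734, .fwd 2244, .fwd 1515],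
   .loop none [.fwd 2278],
   .loop none [.bwd 1125, .fwd 2246, .fwd 1038],
   .loop none [.fwd 2280],
   .loop none [.bwd 1814, .fwd 2248, .fwd 1325],
   .loop none [.fwd 2282],
   .loop none [.fwd 66, .fwd 2255, .bwd 1254],
   .loop none [.fwd 2284],
   .loop none [.bwd 1350, .bwd 2257],
   .loop none [.bwd 1315, .fwd 2257, .bwd 1426],
   .loop none [.fwd 2287],
   .loop none [.bwd 1351, .fwd 2257, .bwd 1438],
   .loop none [.fwd 2289],
   .loop none [.fwd 1373, .bwd 2259],
   .loop none [.bwd 1184, .fwd 2261, .bwd 1458],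
   .loop none [.fwd 2292],
   .loop none [.fwd 1814, .fwd 2261, .fwd 1528],
   .loop none [.fwd 2294],
   .loop none [.fwd 1562, .bwd 2265],
   .loop none [.fwd 1694, .fwd 2269, .bwd 1430],
   .loop none [.fwd 2297],
   .loop none [.bwd 1655, .bwd 2271],
   .loop none [.fwd 2218, .bwd 2271],
   .loop none [.bwd 1629, .bwd 2271],
   .loop none [.fwd 1628, .bwd 2271],
   .loop none [.fwd 1654, .bwd 2271],
   .loop none [.fwd 1185, .bwd 2279],
   .loop none [.bwd 1186, .bwd 2279],
   .loop none [.bwd 1182, .fwd 2281, .fwd 1039],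
   .loop none [.bwd 2306],
   .loop none [.fwd 2307, .fwd 1183, .fwd 2283, .fwd 1326],
   .loop none [.fwd 2308],
   .loop none [.bwd 1805, .fwd 2285, .bwd 1253],
   .loop none [.fwd 2310],
   .loop none [.fwd 2307, .fwd 2288],
   .loop none [.fwd 1425, .fwd 2312],
   .loop none [.bwd 1473, .fwd 2312],
   .loop none [.fwd 1437, .bwd 2290],
   .loop none [.fwd 1614, .fwd 2293, .bwd 1733],
   .loop none [.fwd 2316],
   .loop none [.bwd 1812, .fwd 2295, .fwd 1529],
   .loop none [.fwd 2318],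
   .loop none [.fwd 1429, .bwd 2298],
   .loop none [.bwd 1040, .fwd 2307, .fwd 1183],
   .loop none [.fwd 2321],
   .loop none [.bwd 2313, .fwd 2307, .bwd 1407],
   .loop none [.bwd 2323],
   .loop none [.fwd 1315, .bwd 2307],
   .loop none [.bwd 2314, .fwd 2307, .bwd 1182],
   .loop none [.bwd 2326],
   .loop none [.fwd 1436, .bwd 2307],
   .loop none [.fwd 2307, .bwd 1444, .bwd 2307],
   .loop none [.fwd 2324, .bwd 2313, .fwd 2309, .fwd 1327],
   .loop none [.bwd 2330],
   .loop none [.bwd 1798, .fwd 2311, .bwd 1252],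
   .loop none [.fwd 2332],
   .loop none [.fwd 1613, .fwd 2317, .bwd 1732],
   .loop none [.fwd 2334],
   .loop none [.fwd 364, .fwd 2319, .fwd 1530],
   .loop none [.fwd 2336],
   .loop none [.bwd 1041, .fwd 2322, .fwd 1184],
   .loop none [.fwd 2338],
   .loop none [.fwd 1428, .bwd 2322],
   .loop none [.fwd 1814, .bwd 2322],
   .loop none [.fwd 1465, .bwd 2322],
   .loop none [.fwd 2322, .bwd 1491, .bwd 2322],
   .loop none [.fwd 2331, .fwd 2324],
   .loop none [.fwd 2313, .fwd 2344],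
   .loop none [.bwd 1328, .bwd 2344, .bwd 1424],
   .loop none [.fwd 2346],
   .loop none [.fwd 1812, .fwd 2327, .fwd 1474],
   .loop none [.fwd 2348],
   .loop none [.fwd 2314, .bwd 2327],
   .loop none [.bwd 946, .fwd 2333, .bwd 1251],
   .loop none [.fwd 2351],
   .loop none [.fwd 1612, .fwd 2335, .bwd 1731],
   .loop none [.fwd 2353],
   .loop none [.fwd 363, .fwd 2337, .fwd 1531],
   .loop none [.fwd 2355],
   .loop none [.fwd 1614, .bwd 2339],
   .loop none [.bwd 1042, .fwd 2339, .bwd 2304],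
   .loop none [.bwd 2358],
   .loop none [.fwd 1423, .bwd 2347],
   .loop none [.fwd 734, .fwd 2349, .fwd 1475],
   .loop none [.fwd 2361],
   .loop none [.fwd 1226, .bwd 2352],
   .loop none [.fwd 2352, .fwd 1227, .bwd 2352],
   .loop none [.fwd 1299, .fwd 2352, .bwd 1362],
   .loop none [.fwd 2365],
   .loop none [.bwd 947, .fwd 2352, .fwd 1258],
   .loop none [.fwd 2367],
   .loop none [.fwd 1260, .bwd 2352],
   .loop none [.fwd 2352, .bwd 1257, .bwd 2352],
   .loop none [.fwd 1611, .fwd 2354, .bwd 2153],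
   .loop none [.bwd 2371],
   .loop none [.bwd 367, .fwd 2356, .fwd 1532],
   .loop none [.fwd 2373],
   .loop none [.fwd 1042, .bwd 2359],
   .loop none [.bwd 2305, .fwd 2359, .fwd 1043],
   .loop none [.bwd 2376],
   .loop none [.bwd 2375, .fwd 2362, .fwd 1476],
   .loop none [.fwd 2378],
   .loop none [.fwd 1298, .fwd 2366, .bwd 2274],
   .loop none [.bwd 2380],
   .loop none [.fwd 1171, .bwd 2368],
   .loop none [.bwd 948, .fwd 2368, .bwd 1172, .bwd 2368],
   .loop none [.bwd 2383],
   .loop none [.bwd 1744, .bwd 2368],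
   .loop none [.fwd 1750, .bwd 2368],
   .loop none [.fwd 2368, .bwd 1748, .bwd 2368],
   .loop none [.bwd 1611, .bwd 2372],
   .loop none [.fwd 642, .fwd 2374, .fwd 1533],
   .loop none [.fwd 2389],
   .loop none [.fwd 2305, .bwd 2377],
   .loop none [.bwd 1477, .bwd 2379],
   .loop none [.bwd 558, .fwd 2381, .bwd 1297],
   .loop none [.fwd 2393],
   .loop none [.bwd 1298, .bwd 2381],
   .loop none [.fwd 948, .bwd 2384],
   .loop none [.bwd 949, .bwd 2384],
   .loop none [.bwd 1674, .fwd 2390, .fwd 1534],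
   .loop none [.bwd 2398],
   .loop none [.bwd 559, .fwd 2394, .bwd 1700],
   .loop none [.bwd 2400],
   .loop none [.fwd 1674, .bwd 2399],
   .loop none [.fwd 559, .bwd 2401],
   .loop none [.fwd 556, .fwd 2401, .fwd 560],
   .loop none [.fwd 2404],
   .loop none [.bwd 2320, .fwd 2405, .fwd 561],
   .loop none [.bwd 2406],
   .loop none [.bwd 1365, .bwd 2407],
   .loop none [.fwd 2320, .bwd 2407],
   .loop none [.bwd 1420, .bwd 2407],
   .loop none [.fwd 2275, .bwd 2407],
   .loop none [.fwd 1434, .bwd 2407],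
   .loop none [.fwd 2407, .bwd 1427, .bwd 2407],
   .define,
   .define,
   .loop (some (14, 3)) [.bwd 2414, .bwd 1643, .fwd 2414, .fwd 2415],
   .define,
   .define,
   .define,
   .define,
   .define,
   .loop (some (20, 7)) [.fwd 2252, .fwd 125, .bwd 2219, .fwd 2417, .fwd 2418, .fwd 2419, .fwd 2420, .fwd 2421],
   .define,
   .loop (some (18, 3)) [.fwd 2421, .fwd 2422, .fwd 2252, .fwd 2414, .bwd 2416, .fwd 2423],
   .define,
   .define,
   .loop (some (14, 3)) [.bwd 2425, .bwd 1681, .fwd 2425, .fwd 2426],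
   .define,
   .define,
   .define,
   .define,
   .define,
   .loop (some (20, 7)) [.fwd 2219, .bwd 125, .bwd 2252, .fwd 2428, .fwd 2429, .fwd 2430, .fwd 2431, .fwd 2432],
   .loop (some (6, 1)) [.fwd 1176, .bwd 126, .bwd 2219],
   .loop (some (8, 1)) [.fwd 2219, .fwd 2122, .fwd 2425],
   .define,
   .loop (some (18, 3)) [.fwd 2432, .fwd 2433, .fwd 2219, .fwd 2425, .bwd 2427, .fwd 2436],
   .define,
   .define,
   .loop (some (14, 3)) [.bwd 2438, .bwd 1180, .fwd 2438, .fwd 2439],
   .define,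
   .define,
   .define,
   .define,
   .define,
   .loop (some (20, 7)) [.fwd 1176, .fwd 1159, .bwd 1232, .fwd 2441, .fwd 2442, .fwd 2443, .fwd 2444, .fwd 2445],
   .loop (some (8, 1)) [.fwd 1176, .fwd 1099, .fwd 2438],
   .define,
   .loop (some (18, 3)) [.fwd 2445, .fwd 2446, .fwd 1176, .fwd 2438, .bwd 2440, .fwd 2448],
   .loop (some (20, 2)) [.fwd 2041, .bwd 2039, .fwd 344, .fwd 825, .fwd 825, .fwd 825, .bwd 344, .bwd 338],
   .define,
   .loop (some (19, 2)) [.fwd 802, .fwd 803, .bwd 1121, .fwd 207, .fwd 1115, .fwd 1025, .fwd 834, .fwd 2451],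
   .loop (some (5, 2)) [.bwd 834, .bwd 825, .fwd 834],
   .loop (some (4, 2)) [.bwd 2003, .bwd 138, .fwd 1888, .fwd 169],
   .loop none [.bwd 2454],
   .loop none [.fwd 2030, .bwd 2455],
   .loop none [.fwd 2003, .bwd 2455],
   .loop none [.bwd 2004, .bwd 2455],
   .define,
   .define,
   .define,
   .define,
   .define,
   .define,
   .loop (some (19, 7)) [.bwd 1888, .fwd 1887, .fwd 2459, .fwd 2460, .fwd 2461, .fwd 2462, .fwd 2463, .fwd 2464],
   .loop (some (9, 2)) [.bwd 1887, .fwd 1993, .fwd 149],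
   .loop (some (1, 2)) [.bwd 1997, .bwd 138, .fwd 1887, .fwd 1062],
   .loop none [.bwd 2467],
   .loop none [.fwd 1997, .bwd 2468],
   .loop none [.bwd 1998, .bwd 2468],
   .define,
   .loop (some (15, 2)) [.bwd 2471, .bwd 1887, .fwd 1875, .fwd 1887, .fwd 2471],
   .loop (some (11, 2)) [.bwd 1888, .fwd 1993, .fwd 152],
   .loop (some (16, 3)) [.bwd 1957, .bwd 1888, .bwd 1875, .fwd 1888, .fwd 1957],
   .define,
   .define,
   .define,
   .define,
   .define,
   .define,
   .define,
   .define,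
   .define,
   .define,
   .define,
   .define,
   .define,
   .define,
   .define,
   .define,
   .define,
   .define,
   .define,
   .define,
   .define,
   .define,
   .define,
   .define,
   .define]

theorem just9_len : just9.length = 250 := by decide +kernel

theorem just9_ok : cert.okFacts 2250 just9 = true := by decide +kernel

/-- justifications -/
noncomputable def just10 : List Cert.Just :=
  [.loop (some (21, 28)) [.bwd 1951, .fwd 1952, .bwd 138, .bwd 1875, .fwd 1888, .bwd 2465, .fwd 2475, .fwd 2476, .fwd 2477, .fwd 2478, .fwd 2479, .fwd 2480, .fwd 2481, .fwd 2482, .fwd 2483, .fwd 2484, .fwd 2485, .fwd 2486, .fwd 2487, .fwd 2488, .fwd 2489, .fwd 2490, .fwd 2491, .fwd 2492, .fwd 2493, .fwd 2494, .fwd 2495, .fwd 2496, .fwd 2497, .fwd 2498, .fwd 2499],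
   .define,
   .define,
   .define,
   .define,
   .define,
   .define,
   .loop (some (19, 7)) [.fwd 2457, .bwd 2469, .fwd 2501, .fwd 2502, .fwd 2503, .fwd 2504, .fwd 2505, .fwd 2506],
   .loop (some (9, 2)) [.fwd 2469, .bwd 1929, .bwd 1885],
   .define,
   .loop (some (15, 2)) [.bwd 2509, .fwd 2469, .fwd 2002, .bwd 2469, .fwd 2509],
   .loop (some (5, 2)) [.fwd 1069, .fwd 2469, .bwd 155, .fwd 1949],
   .loop none [.fwd 2511],
   .loop none [.fwd 1949, .bwd 2512],
   .loop none [.fwd 1999, .bwd 2512],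
   .loop none [.bwd 1882, .bwd 2512],
   .loop (some (7, 2)) [.fwd 186, .fwd 2457, .bwd 155, .fwd 1951],
   .loop none [.fwd 2516],
   .loop none [.fwd 2500, .bwd 2517],
   .loop none [.fwd 1951, .bwd 2517],
   .loop none [.fwd 1994, .bwd 2517],
   .loop none [.bwd 1891, .bwd 2517],
   .loop (some (11, 2)) [.fwd 2457, .bwd 1929, .bwd 1870],
   .loop (some (16, 3)) [.bwd 2456, .fwd 2457, .bwd 2002, .bwd 2457, .fwd 2456],
   .define,
   .define,
   .define,
   .define,
   .define,
   .define,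
   .define,
   .define,
   .define,
   .define,
   .define,
   .define,
   .define,
   .define,
   .define,
   .define,
   .define,
   .define,
   .define,
   .define,
   .define,
   .define,
   .define,
   .define,
   .loop (some (21, 27)) [.bwd 1962, .fwd 1870, .bwd 1948, .fwd 138, .bwd 2002, .bwd 2457, .bwd 2507, .fwd 2524, .fwd 2525, .fwd 2526, .fwd 2527, .fwd 2528, .fwd 2529, .fwd 2530, .fwd 2531, .fwd 2532, .fwd 2533, .fwd 2534, .fwd 2535, .fwd 2536, .fwd 2537, .fwd 2538, .fwd 2539, .fwd 2540, .fwd 2541, .fwd 2542, .fwd 2543, .fwd 2544, .fwd 2545, .fwd 2546, .fwd 2547],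
   .define,
   .define,
   .loop (some (14, 3)) [.bwd 2549, .bwd 858, .fwd 2549, .fwd 2550],
   .define,
   .define,
   .define,
   .define,
   .define,
   .loop (some (20, 7)) [.bwd 857, .fwd 872, .bwd 247, .fwd 2552, .fwd 2553, .fwd 2554, .fwd 2555, .fwd 2556],
   .loop (some (6, 1)) [.bwd 882, .fwd 877, .fwd 857],
   .loop (some (19, 0)) [.bwd 145, .fwd 852, .fwd 188, .bwd 936, .fwd 937, .fwd 936, .bwd 188, .bwd 852],
   .loop (some (2, 2)) [.fwd 253, .bwd 145, .bwd 877, .fwd 880],
   .loop none [.fwd 2560],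
   .loop none [.fwd 252, .fwd 2561, .bwd 526],
   .loop none [.fwd 2562],
   .loop none [.fwd 632, .fwd 2561, .bwd 880],
   .loop none [.bwd 2564],
   .loop none [.fwd 881, .fwd 2561, .fwd 383],
   .loop none [.fwd 2566],
   .loop none [.bwd 23, .fwd 2563, .bwd 956],
   .loop none [.fwd 2568],
   .loop none [.fwd 1012, .fwd 2563, .bwd 525],
   .loop none [.fwd 2570],
   .loop none [.fwd 888, .fwd 2565, .bwd 631],
   .loop none [.fwd 2572],
   .loop none [.bwd 632, .bwd 2565],
   .loop none [.bwd 877, .fwd 2567, .fwd 384],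
   .loop none [.fwd 2575],
   .loop none [.fwd 320, .fwd 2569, .bwd 955],
   .loop none [.fwd 2577],
   .loop none [.fwd 265, .fwd 2571, .bwd 524],
   .loop none [.fwd 2579],
   .loop none [.bwd 348, .fwd 2573, .bwd 1052],
   .loop none [.fwd 2581],
   .loop none [.fwd 21, .fwd 2573, .bwd 630],
   .loop none [.fwd 2583],
   .loop none [.bwd 852, .fwd 2576, .fwd 385],
   .loop none [.fwd 2585],
   .loop none [.bwd 17, .fwd 2578, .bwd 954],
   .loop none [.fwd 2587],
   .loop none [.fwd 523, .bwd 2580],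
   .loop none [.bwd 320, .fwd 2582, .bwd 1051],
   .loop none [.fwd 2590],
   .loop none [.fwd 20, .fwd 2584, .bwd 629],
   .loop none [.fwd 2592],
   .loop none [.bwd 188, .fwd 2586, .fwd 386],
   .loop none [.fwd 2594],
   .loop none [.fwd 332, .fwd 2588, .bwd 953],
   .loop none [.fwd 2596],
   .loop none [.bwd 254, .fwd 2591, .bwd 1050],
   .loop none [.fwd 2598],
   .loop none [.fwd 497, .fwd 2593, .bwd 628],
   .loop none [.fwd 2600],
   .loop none [.fwd 109, .fwd 2595, .fwd 387],
   .loop none [.fwd 2602],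
   .loop none [.fwd 915, .fwd 2597, .bwd 952],
   .loop none [.fwd 2604],
   .loop none [.fwd 409, .fwd 2599, .bwd 1049],
   .loop none [.fwd 2606],
   .loop none [.bwd 257, .fwd 2601, .bwd 627],
   .loop none [.fwd 2608],
   .loop none [.bwd 809, .fwd 2603, .fwd 388],
   .loop none [.fwd 2610],
   .loop none [.bwd 919, .fwd 2605, .bwd 951],
   .loop none [.fwd 2612],
   .loop none [.fwd 408, .fwd 2607, .bwd 1048],
   .loop none [.fwd 2614],
   .loop none [.bwd 258, .fwd 2609, .bwd 626],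
   .loop none [.fwd 2616],
   .loop none [.fwd 1025, .fwd 2611, .fwd 389],
   .loop none [.fwd 2618],
   .loop none [.fwd 331, .fwd 2613, .bwd 950],
   .loop none [.fwd 2620],
   .loop none [.fwd 407, .fwd 2615, .bwd 1047],
   .loop none [.fwd 2622],
   .loop none [.bwd 597, .bwd 2617],
   .loop none [.bwd 640, .bwd 2617],
   .loop none [.bwd 259, .fwd 2617, .bwd 596],
   .loop none [.fwd 2626],
   .loop none [.fwd 644, .bwd 2617],
   .loop none [.fwd 2617, .bwd 633, .bwd 2617],
   .loop none [.fwd 1115, .fwd 2619, .fwd 390],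
   .loop none [.fwd 2630],
   .loop none [.fwd 330, .fwd 2621, .bwd 2397],
   .loop none [.fwd 2632],
   .loop none [.fwd 406, .fwd 2623, .bwd 1046],
   .loop none [.fwd 2634],
   .loop none [.bwd 373, .bwd 2627],
   .loop none [.bwd 260, .fwd 2627, .bwd 372],
   .loop none [.fwd 2637],
   .loop none [.bwd 593, .bwd 2627],
   .loop none [.fwd 599, .bwd 2627],
   .loop none [.fwd 2627, .bwd 595, .bwd 2627],
   .loop none [.fwd 1801, .fwd 2631, .fwd 391],
   .loop none [.bwd 2642],
   .loop none [.bwd 2382, .bwd 2633],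
   .loop none [.fwd 699, .fwd 2633, .bwd 2396, .bwd 2633],
   .loop none [.bwd 2645],
   .loop none [.fwd 329, .fwd 2633, .fwd 2385],
   .loop none [.fwd 2647],
   .loop none [.fwd 947, .bwd 2633],
   .loop none [.bwd 2386, .bwd 2633],
   .loop none [.fwd 2633, .bwd 2387, .bwd 2633],
   .loop none [.fwd 405, .fwd 2635, .bwd 1045],
   .loop none [.fwd 2652],
   .loop none [.fwd 371, .bwd 2638],
   .loop none [.bwd 392, .fwd 2643, .fwd 1797],
   .loop none [.fwd 2655],
   .loop none [.bwd 1798, .bwd 2643],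
   .loop none [.fwd 1805, .bwd 2643],
   .loop none [.bwd 1801, .bwd 2643],
   .loop none [.bwd 1802, .bwd 2643],
   .loop none [.bwd 699, .bwd 2646],
   .loop none [.bwd 2649, .fwd 2646, .bwd 698],
   .loop none [.bwd 2662],
   .loop none [.fwd 328, .fwd 2648, .bwd 2047],
   .loop none [.bwd 2664],
   .loop none [.fwd 404, .fwd 2653, .bwd 1044],
   .loop none [.fwd 2666],
   .loop none [.bwd 393, .fwd 2656, .bwd 2220, .bwd 2656],
   .loop none [.bwd 2668],
   .loop none [.fwd 1148, .bwd 2656],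
   .loop none [.fwd 1091, .bwd 2656],
   .loop none [.fwd 1230, .bwd 2656],
   .loop none [.fwd 2656, .bwd 1240, .bwd 2656],
   .loop none [.bwd 2363, .bwd 2663],
   .loop none [.fwd 2663, .fwd 2364, .bwd 2663],
   .loop none [.fwd 1299, .bwd 2663],
   .loop none [.fwd 697, .fwd 2663, .bwd 946],
   .loop none [.fwd 2677],
   .loop none [.fwd 2649, .bwd 2663],
   .loop none [.bwd 2369, .bwd 2663],
   .loop none [.fwd 2663, .bwd 2370, .bwd 2663],
   .loop none [.bwd 328, .bwd 2665],
   .loop none [.bwd 2048, .fwd 2665, .bwd 930],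
   .loop none [.bwd 2683],
   .loop none [.fwd 403, .fwd 2667, .fwd 2391],
   .loop none [.fwd 2685],
   .loop none [.fwd 393, .bwd 2669],
   .loop none [.fwd 1490, .bwd 2678],
   .loop none [.fwd 696, .fwd 2678, .bwd 2657],
   .loop none [.bwd 2689],
   .loop none [.bwd 929, .fwd 2684, .fwd 1747],
   .loop none [.bwd 2691],
   .loop none [.fwd 2048, .bwd 2684],
   .loop none [.fwd 733, .bwd 2686],
   .loop none [.bwd 734, .bwd 2686],
   .loop none [.fwd 402, .fwd 2686, .fwd 2375],
   .loop none [.fwd 2696],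
   .loop none [.bwd 392, .fwd 2690, .bwd 695],
   .loop none [.fwd 2698],
   .loop none [.bwd 696, .bwd 2690],
   .loop none [.fwd 929, .bwd 2692],
   .loop none [.bwd 363, .fwd 2692, .bwd 428],
   .loop none [.fwd 2702],
   .loop none [.bwd 2357, .bwd 2697],
   .loop none [.fwd 401, .fwd 2697, .bwd 1041],
   .loop none [.fwd 2705],
   .loop none [.bwd 2392, .bwd 2697],
   .loop none [.bwd 2671, .fwd 2699, .bwd 694],
   .loop none [.bwd 2708],
   .loop none [.fwd 1342, .fwd 2703, .fwd 433],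
   .loop none [.bwd 2710],
   .loop none [.bwd 431, .bwd 2703],
   .loop none [.fwd 438, .bwd 2703],
   .loop none [.fwd 2703, .bwd 430, .bwd 2703],
   .loop none [.fwd 400, .fwd 2706, .bwd 1040],
   .loop none [.fwd 2715],
   .loop none [.bwd 2340, .bwd 2706],
   .loop none [.bwd 2341, .bwd 2706],
   .loop none [.bwd 2342, .bwd 2706],
   .loop none [.fwd 2706, .bwd 2343, .bwd 2706],
   .loop none [.bwd 1796, .bwd 2709],
   .loop none [.fwd 2671, .bwd 2709],
   .loop none [.fwd 2709, .bwd 1864, .bwd 2709],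
   .loop none [.bwd 1342, .bwd 2711],
   .loop none [.fwd 1341, .bwd 2711],
   .loop none [.fwd 2345, .bwd 2716],
   .loop none [.bwd 2325, .bwd 2716],
   .loop none [.fwd 399, .fwd 2716, .bwd 2350],
   .loop none [.bwd 2728],
   .loop none [.bwd 2328, .bwd 2716],
   .loop none [.fwd 2716, .bwd 2329, .bwd 2716],
   .loop none [.bwd 399, .bwd 2729],
   .define,
   .define,
   .loop (some (15, 4)) [.fwd 877, .fwd 2559, .bwd 253, .fwd 2733, .fwd 2734],
   .loop (some (5, 1)) [.fwd 247, .bwd 2559, .fwd 857],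
   .loop (some (8, 1)) [.fwd 1996, .fwd 247, .bwd 145, .fwd 2549],
   .loop none [.fwd 2737],
   .loop none [.fwd 2551, .bwd 2738],
   .loop none [.fwd 2549, .bwd 2738],
   .loop none [.bwd 2550, .bwd 2738],
   .define,
   .loop (some (18, 3)) [.fwd 2556, .fwd 2557, .bwd 857, .bwd 2740, .fwd 2739, .fwd 2742],
   .define,
   .define,
   .loop (some (14, 3)) [.bwd 2744, .bwd 251, .fwd 2744, .fwd 2745],
   .define,
   .define,
   .define]

theorem just10_len : just10.length = 250 := by decide +kernel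

theorem just10_ok : cert.okFacts 2500 just10 = true := by decide +kernel

/-- justifications -/
noncomputable def just11 : List Cert.Just :=
  [.define,
   .define,
   .loop (some (20, 7)) [.fwd 247, .bwd 872, .fwd 857, .fwd 2747, .fwd 2748, .fwd 2749, .fwd 2750, .fwd 2751],
   .loop (some (6, 1)) [.fwd 648, .fwd 253, .bwd 247],
   .loop (some (8, 1)) [.bwd 857, .fwd 145, .fwd 2744],
   .define,
   .loop (some (18, 3)) [.fwd 2751, .fwd 2752, .fwd 247, .fwd 2744, .bwd 2746, .fwd 2755],
   .loop (some (3, 2)) [.bwd 1959, .bwd 1016, .fwd 1064, .fwd 1865],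
   .loop none [.bwd 2757],
   .loop none [.fwd 2758, .fwd 1960, .bwd 2758],
   .loop none [.fwd 1959, .bwd 2758],
   .loop (some (4, 2)) [.bwd 1016, .fwd 1067, .fwd 1028],
   .loop (some (6, 2)) [.bwd 1096, .bwd 1064, .fwd 1061, .fwd 2471],
   .loop none [.fwd 2762],
   .loop none [.fwd 2763, .fwd 2472, .bwd 2763],
   .loop none [.fwd 2471, .bwd 2763],
   .loop (some (0, 1)) [.fwd 2515, .fwd 2466],
   .loop (some (2, 2)) [.bwd 2000, .fwd 1066, .fwd 1064, .bwd 1101],
   .loop none [.bwd 2767],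
   .loop none [.fwd 2768, .fwd 2001, .bwd 2768],
   .loop none [.fwd 2000, .bwd 2768],
   .loop (some (7, 1)) [.bwd 2032, .bwd 1067, .fwd 1061],
   .define,
   .loop (some (10, 2)) [.bwd 1064, .bwd 2515, .fwd 2772],
   .define,
   .loop (some (11, 2)) [.bwd 1067, .bwd 2515, .fwd 2774],
   .define,
   .loop (some (17, 3)) [.bwd 1930, .bwd 1016, .bwd 1066, .bwd 2514, .fwd 2776],
   .define,
   .define,
   .define,
   .define,
   .define,
   .define,
   .define,
   .define,
   .define,
   .define,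
   .define,
   .define,
   .define,
   .define,
   .define,
   .define,
   .define,
   .define,
   .define,
   .define,
   .define,
   .define,
   .define,
   .define,
   .define,
   .loop (some (21, 28)) [.bwd 1931, .bwd 1930, .bwd 1016, .fwd 1064, .fwd 1102, .bwd 1174, .fwd 2778, .fwd 2779, .fwd 2780, .fwd 2781, .fwd 2782, .fwd 2783, .fwd 2784, .fwd 2785, .fwd 2786, .fwd 2787, .fwd 2788, .fwd 2789, .fwd 2790, .fwd 2791, .fwd 2792, .fwd 2793, .fwd 2794, .fwd 2795, .fwd 2796, .fwd 2797, .fwd 2798, .fwd 2799, .fwd 2800, .fwd 2801, .fwd 2802],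
   .loop (some (12, 2)) [.fwd 2470, .fwd 1066, .bwd 2515, .fwd 2776],
   .loop none [.fwd 2804],
   .loop none [.bwd 2501, .fwd 2805, .bwd 2776],
   .loop none [.bwd 2806],
   .loop none [.fwd 1062, .fwd 2805, .fwd 2777],
   .loop none [.fwd 2808],
   .loop none [.bwd 2774, .fwd 2807, .fwd 2502],
   .loop none [.bwd 2810],
   .loop none [.fwd 2501, .bwd 2807],
   .loop none [.bwd 2771, .fwd 2809, .fwd 1931],
   .loop none [.bwd 2813],
   .loop none [.bwd 2459, .fwd 2809, .bwd 1930],
   .loop none [.bwd 2815],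
   .loop none [.fwd 2774, .bwd 2811],
   .loop none [.bwd 2775, .bwd 2811],
   .loop none [.fwd 2771, .bwd 2814],
   .loop none [.bwd 2033, .bwd 2814],
   .loop none [.fwd 2032, .bwd 2814],
   .loop none [.fwd 2761, .fwd 2816, .fwd 2460],
   .loop none [.fwd 2822],
   .loop none [.fwd 2459, .bwd 2816],
   .loop none [.bwd 2461, .bwd 2823],
   .loop (some (3, 2)) [.bwd 1962, .bwd 826, .fwd 171, .bwd 801],
   .loop none [.bwd 2826],
   .loop none [.fwd 1962, .bwd 2827],
   .loop none [.fwd 2827, .fwd 1963, .bwd 2827],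
   .loop none [.bwd 801, .fwd 2827, .bwd 2548],
   .loop none [.fwd 2830],
   .loop none [.fwd 717, .fwd 2831, .bwd 2547],
   .loop none [.fwd 2832],
   .loop none [.fwd 2546, .bwd 2833],
   .loop (some (6, 2)) [.fwd 793, .bwd 171, .fwd 168, .fwd 1957],
   .loop none [.fwd 2835],
   .loop none [.fwd 1957, .bwd 2836],
   .loop none [.fwd 2836, .fwd 2474, .bwd 2836],
   .loop none [.bwd 753, .fwd 2836, .bwd 1919],
   .loop none [.fwd 2839],
   .loop none [.fwd 1918, .bwd 2840],
   .loop (some (9, 1)) [.fwd 2818, .bwd 181, .bwd 2521],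
   .loop (some (0, 1)) [.fwd 2521, .fwd 2473],
   .loop (some (1, 2)) [.bwd 826, .fwd 181, .fwd 1028],
   .loop (some (2, 2)) [.fwd 245, .fwd 171, .bwd 717],
   .loop (some (5, 1)) [.fwd 2821, .bwd 181, .fwd 168],
   .loop (some (10, 2)) [.bwd 171, .bwd 2521, .fwd 2518],
   .loop (some (17, 2)) [.bwd 1964, .fwd 1936, .bwd 826, .bwd 245, .fwd 1895],
   .define,
   .define,
   .define,
   .define,
   .define,
   .define,
   .define,
   .define,
   .define,
   .define,
   .define,
   .define,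
   .define,
   .define,
   .define,
   .define,
   .define,
   .define,
   .define,
   .define,
   .define,
   .define,
   .define,
   .define,
   .define,
   .loop (some (21, 28)) [.fwd 1935, .fwd 1936, .bwd 826, .fwd 171, .bwd 766, .bwd 717, .fwd 2849, .fwd 2850, .fwd 2851, .fwd 2852, .fwd 2853, .fwd 2854, .fwd 2855, .fwd 2856, .fwd 2857, .fwd 2858, .fwd 2859, .fwd 2860, .fwd 2861, .fwd 2862, .fwd 2863, .fwd 2864, .fwd 2865, .fwd 2866, .fwd 2867, .fwd 2868, .fwd 2869, .fwd 2870, .fwd 2871, .fwd 2872, .fwd 2873],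
   .define,
   .loop (some (12, 2)) [.fwd 245, .bwd 2521, .fwd 2875],
   .define,
   .define,
   .define,
   .define,
   .loop (some (19, 6)) [.bwd 2875, .fwd 2519, .bwd 2513, .fwd 2812, .fwd 2877, .fwd 2878, .fwd 2879, .fwd 2880],
   .loop (some (15, 2)) [.bwd 2772, .fwd 2513, .fwd 1950, .bwd 2513, .fwd 2772],
   .loop (some (16, 3)) [.bwd 2518, .fwd 2519, .bwd 1950, .bwd 2519, .fwd 2518],
   .define,
   .define,
   .define,
   .define,
   .define,
   .define,
   .define,
   .define,
   .define,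
   .define,
   .define,
   .define,
   .define,
   .define,
   .define,
   .define,
   .define,
   .define,
   .define,
   .define,
   .define,
   .define,
   .define,
   .loop (some (21, 26)) [.fwd 801, .bwd 171, .bwd 152, .bwd 151, .fwd 1958, .bwd 1950, .bwd 2519, .fwd 2875, .fwd 2884, .fwd 2885, .fwd 2886, .fwd 2887, .fwd 2888, .fwd 2889, .fwd 2890, .fwd 2891, .fwd 2892, .fwd 2893, .fwd 2894, .fwd 2895, .fwd 2896, .fwd 2897, .fwd 2898, .fwd 2899, .fwd 2900, .fwd 2901, .fwd 2902, .fwd 2903, .fwd 2904, .fwd 2905, .fwd 2906],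
   .loop (some (3, 2)) [.bwd 2518, .fwd 2520, .bwd 1989, .bwd 1988],
   .loop none [.bwd 2908],
   .loop none [.fwd 2518, .bwd 2909],
   .loop none [.fwd 2909, .fwd 2883, .bwd 2909],
   .loop none [.bwd 1988, .fwd 2909, .bwd 2499],
   .loop none [.fwd 2912],
   .loop none [.bwd 2847, .bwd 2909],
   .loop none [.fwd 2498, .bwd 2913],
   .loop (some (6, 3)) [.fwd 1989, .bwd 165, .bwd 163, .fwd 746],
   .loop none [.bwd 2916],
   .loop none [.bwd 1989, .bwd 2917],
   .loop none [.fwd 2917, .fwd 2005, .bwd 2917],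
   .loop none [.bwd 765, .fwd 2917, .fwd 2915],
   .loop none [.fwd 2920],
   .loop none [.fwd 1988, .bwd 2917],
   .loop none [.fwd 675, .fwd 2921, .bwd 2497],
   .loop none [.fwd 2923],
   .loop none [.fwd 625, .fwd 2924, .bwd 2496],
   .loop none [.fwd 2925],
   .loop none [.bwd 587, .fwd 2926, .bwd 2495],
   .loop none [.fwd 2927],
   .loop none [.fwd 2494, .bwd 2928],
   .loop (some (19, 0)) [.fwd 1877, .fwd 1878, .fwd 1879, .fwd 1880, .fwd 245, .bwd 152, .bwd 151, .fwd 1961],
   .define,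
   .loop (some (9, 2)) [.bwd 2930, .bwd 2458, .fwd 2931],
   .loop (some (1, 1)) [.bwd 2842, .fwd 2520, .fwd 2930],
   .define,
   .define,
   .define,
   .loop (some (15, 4)) [.fwd 2918, .fwd 2930, .fwd 2934, .fwd 2935, .fwd 2936],
   .loop (some (5, 3)) [.bwd 2930, .bwd 165, .bwd 835, .bwd 1030],
   .loop none [.bwd 2938],
   .loop none [.fwd 2930, .bwd 2939],
   .loop none [.bwd 2934, .bwd 2939],
   .loop none [.fwd 1876, .bwd 2939],
   .loop none [.bwd 2036, .fwd 2939, .fwd 1877],
   .loop none [.fwd 2943],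
   .loop none [.bwd 2933, .bwd 2939],
   .loop none [.fwd 2932, .bwd 2939],
   .loop none [.bwd 307, .fwd 2944, .fwd 1878],
   .loop none [.fwd 2947],
   .loop none [.fwd 2754, .fwd 2948, .fwd 1879],
   .loop none [.bwd 2949],
   .loop none [.bwd 2754, .bwd 2950],
   .loop none [.fwd 2746, .bwd 2950],
   .loop none [.fwd 2744, .bwd 2950],
   .loop none [.bwd 2745, .bwd 2950],
   .loop (some (8, 2)) [.fwd 231, .bwd 183, .bwd 167, .bwd 1936],
   .loop none [.fwd 2955],
   .loop none [.fwd 1935, .bwd 2956],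
   .loop none [.bwd 1936, .bwd 2956],
   .loop none [.bwd 1964, .bwd 2956],
   .loop (some (10, 2)) [.fwd 2918, .bwd 2458, .fwd 2456],
   .loop (some (17, 2)) [.bwd 2884, .bwd 2875, .fwd 2520, .fwd 183, .fwd 286],
   .define,
   .define,
   .define,
   .define,
   .define,
   .define,
   .define,
   .define,
   .define,
   .define,
   .define,
   .define,
   .define,
   .define,
   .define,
   .define,
   .define,
   .define,
   .define,
   .define,
   .define,
   .define,
   .define,
   .define,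
   .loop (some (21, 28)) [.fwd 2881, .bwd 2875, .fwd 2520, .bwd 2918, .bwd 2919, .fwd 765, .fwd 321, .fwd 2962, .fwd 2963, .fwd 2964, .fwd 2965, .fwd 2966, .fwd 2967, .fwd 2968, .fwd 2969, .fwd 2970, .fwd 2971, .fwd 2972, .fwd 2973, .fwd 2974, .fwd 2975, .fwd 2976, .fwd 2977, .fwd 2978, .fwd 2979, .fwd 2980, .fwd 2981, .fwd 2982, .fwd 2983, .fwd 2984, .fwd 2985],
   .loop (some (12, 2)) [.bwd 183, .bwd 2458, .bwd 2507],
   .loop (some (2, 2)) [.fwd 2958, .bwd 2828, .bwd 2907],
   .define,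
   .define,
   .define,
   .loop (some (15, 4)) [.fwd 2828, .bwd 2844, .fwd 2989, .fwd 2990, .fwd 2991],
   .loop (some (8, 2)) [.fwd 230, .fwd 2958, .fwd 185, .fwd 2875],
   .loop none [.fwd 2993],
   .loop none [.fwd 2881, .bwd 2994],
   .loop none [.fwd 2875, .bwd 2994],
   .loop none [.fwd 229, .fwd 2994, .fwd 2884],
   .loop none [.fwd 2997],
   .loop none [.bwd 2876, .bwd 2994]]

theorem just11_len : just11.length = 250 := by decide +kernel

theorem just11_ok : cert.okFacts 2750 just11 = true := by decide +kernel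


end CfsgLib.ThCent.DK
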