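import Cfsg.Agent.Lib.ThCent.DKData

/-!
Justifications of the side facts (generated data).
-/

namespace CfsgLib.ThCent.DK

open CfsgLib.PresCert

set_option maxRecDepth 100000

/-- justifications -/
noncomputable def just12 : List Cert.Just :=
  [.loop none [.bwd 2885, .bwd 2998],
   .loop none [.fwd 2961, .bwd 2998],
   .define,
   .define,
   .define,
   .define,
   .define,
   .define,
   .define,
   .define,
   .define,
   .define,
   .define,
   .define,
   .define,
   .define,
   .define,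
   .define,
   .define,
   .define,
   .define,
   .define,
   .define,
   .define,
   .define,
   .define,
   .define,
   .loop (some (21, 28)) [.fwd 1880, .fwd 245, .fwd 826, .bwd 2828, .bwd 2829, .bwd 2907, .fwd 3002, .fwd 3003, .fwd 3004, .fwd 3005, .fwd 3006, .fwd 3007, .fwd 3008, .fwd 3009, .fwd 3010, .fwd 3011, .fwd 3012, .fwd 3013, .fwd 3014, .fwd 3015, .fwd 3016, .fwd 3017, .fwd 3018, .fwd 3019, .fwd 3020, .fwd 3021, .fwd 3022, .fwd 3023, .fwd 3024, .fwd 3025, .fwd 3026],
   .loop (some (12, 2)) [.fwd 2958, .bwd 166, .fwd 183],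
   .loop (some (3, 2)) [.bwd 2456, .bwd 169, .bwd 2837, .fwd 753],
   .loop none [.bwd 3029],
   .loop none [.fwd 2456, .bwd 3030],
   .loop none [.fwd 3030, .fwd 2523, .bwd 3030],
   .loop none [.fwd 753, .fwd 3030, .bwd 2029],
   .loop none [.fwd 3033],
   .loop none [.bwd 2960, .bwd 3030],
   .loop none [.fwd 2028, .bwd 3034],
   .loop (some (9, 2)) [.bwd 2846, .bwd 2473, .fwd 181],
   .loop (some (1, 2)) [.bwd 2931, .bwd 169, .fwd 2846, .fwd 2820],
   .loop none [.bwd 3038],
   .loop none [.fwd 2931, .bwd 3039],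
   .loop none [.fwd 2946, .bwd 3039],
   .loop (some (2, 2)) [.fwd 2465, .bwd 2837, .fwd 3036],
   .define,
   .define,
   .loop (some (15, 4)) [.fwd 2837, .fwd 2846, .bwd 2803, .fwd 3043, .fwd 3044],
   .loop (some (8, 3)) [.fwd 2465, .bwd 168, .bwd 245, .bwd 223],
   .loop none [.bwd 3046],
   .loop none [.fwd 3042, .bwd 3047],
   .loop none [.fwd 2464, .bwd 3047],
   .loop none [.bwd 2465, .bwd 3047],
   .loop none [.bwd 2475, .bwd 3047],
   .loop (some (10, 2)) [.fwd 2837, .bwd 2473, .fwd 171],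
   .loop (some (17, 2)) [.bwd 2524, .fwd 2507, .bwd 169, .bwd 3050, .fwd 3051],
   .define,
   .define,
   .define,
   .define,
   .define,
   .define,
   .define,
   .define,
   .define,
   .define,
   .define,
   .define,
   .define,
   .define,
   .define,
   .define,
   .define,
   .define,
   .define,
   .define,
   .define,
   .define,
   .define,
   .define,
   .define,
   .loop (some (21, 28)) [.fwd 2506, .fwd 2507, .bwd 169, .bwd 2837, .bwd 2838, .fwd 3036, .fwd 3054, .fwd 3055, .fwd 3056, .fwd 3057, .fwd 3058, .fwd 3059, .fwd 3060, .fwd 3061, .fwd 3062, .fwd 3063, .fwd 3064, .fwd 3065, .fwd 3066, .fwd 3067, .fwd 3068, .fwd 3069, .fwd 3070, .fwd 3071, .fwd 3072, .fwd 3073, .fwd 3074, .fwd 3075, .fwd 3076, .fwd 3077, .fwd 3078],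
   .loop (some (6, 2)) [.fwd 768, .fwd 3031, .bwd 186, .bwd 2910],
   .loop none [.fwd 3080],
   .loop none [.bwd 2910, .bwd 3081],
   .loop none [.fwd 3081, .fwd 2911, .bwd 3081],
   .loop none [.fwd 1987, .bwd 3081],
   .loop none [.fwd 2922, .bwd 3081],
   .loop none [.bwd 2914, .bwd 3081],
   .loop (some (19, 1)) [.fwd 2878, .fwd 2879, .fwd 2880, .bwd 2995, .fwd 2996, .fwd 2519, .fwd 1952, .bwd 2457, .bwd 3040],
   .loop none [.bwd 3087],
   .loop none [.fwd 2877, .bwd 3088],
   .loop none [.bwd 2878, .bwd 3088],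
   .loop (some (9, 2)) [.fwd 3040, .bwd 2522, .bwd 2844],
   .loop (some (2, 2)) [.fwd 2507, .bwd 3031, .fwd 2841],
   .define,
   .define,
   .define,
   .loop (some (15, 4)) [.fwd 3031, .bwd 3040, .fwd 3093, .fwd 3094, .fwd 3095],
   .loop (some (5, 2)) [.fwd 2038, .fwd 3040, .bwd 186, .fwd 2842],
   .loop none [.fwd 3097],
   .loop none [.fwd 2842, .bwd 3098],
   .loop none [.bwd 2817, .bwd 3098],
   .loop none [.bwd 2503, .bwd 3098],
   .loop none [.fwd 2945, .bwd 3098],
   .loop none [.bwd 2818, .bwd 3098],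
   .loop (some (8, 3)) [.fwd 2507, .fwd 170, .bwd 3050, .fwd 248],
   .loop none [.bwd 3104],
   .loop none [.fwd 3092, .bwd 3105],
   .loop none [.fwd 2506, .bwd 3105],
   .loop none [.bwd 2507, .bwd 3105],
   .loop none [.bwd 2524, .bwd 3105],
   .loop none [.bwd 2987, .bwd 3105],
   .loop (some (10, 2)) [.fwd 3031, .bwd 2522, .bwd 2828],
   .define,
   .define,
   .define,
   .define,
   .define,
   .define,
   .define,
   .define,
   .define,
   .define,
   .define,
   .define,
   .define,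
   .define,
   .define,
   .define,
   .define,
   .define,
   .define,
   .define,
   .define,
   .define,
   .define,
   .define,
   .define,
   .loop (some (21, 28)) [.bwd 3049, .fwd 3050, .fwd 169, .bwd 3031, .bwd 3032, .fwd 2841, .fwd 3112, .fwd 3113, .fwd 3114, .fwd 3115, .fwd 3116, .fwd 3117, .fwd 3118, .fwd 3119, .fwd 3120, .fwd 3121, .fwd 3122, .fwd 3123, .fwd 3124, .fwd 3125, .fwd 3126, .fwd 3127, .fwd 3128, .fwd 3129, .fwd 3130, .fwd 3131, .fwd 3132, .fwd 3133, .fwd 3134, .fwd 3135, .fwd 3136],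
   .loop (some (12, 2)) [.fwd 3108, .bwd 2522, .bwd 2958],
   .define,
   .define,
   .define,
   .define,
   .loop (some (19, 5)) [.bwd 2834, .fwd 717, .fwd 766, .fwd 763, .fwd 3139, .fwd 3140, .fwd 3141, .fwd 3142],
   .define,
   .loop (some (9, 2)) [.bwd 763, .bwd 3086, .fwd 3144],
   .loop (some (0, 1)) [.fwd 3086, .fwd 3052],
   .loop (some (1, 1)) [.fwd 2992, .fwd 801, .fwd 763],
   .loop (some (5, 2)) [.bwd 763, .bwd 793, .bwd 3045],
   .loop (some (17, 2)) [.bwd 3002, .fwd 2907, .fwd 801, .bwd 717, .fwd 2849],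
   .loop (some (12, 2)) [.fwd 717, .bwd 3086, .fwd 3084],
   .define,
   .define,
   .loop (some (14, 3)) [.bwd 3151, .bwd 2049, .fwd 3151, .fwd 3152],
   .loop (some (4, 3)) [.bwd 2050, .fwd 2682, .bwd 1789, .bwd 803],
   .loop none [.bwd 3154],
   .loop none [.fwd 821, .bwd 3155],
   .loop none [.fwd 802, .fwd 3155, .fwd 2451],
   .loop none [.fwd 3157],
   .loop none [.fwd 2050, .bwd 3155],
   .loop none [.fwd 3155, .bwd 2453, .bwd 3155],
   .loop none [.bwd 2452, .bwd 3158],
   .define,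
   .define,
   .loop (some (20, 6)) [.bwd 3162, .fwd 2052, .bwd 3159, .bwd 3160, .fwd 3159, .bwd 2052, .fwd 3162, .fwd 3163],
   .loop (some (2, 2)) [.bwd 241, .fwd 2693, .fwd 179, .fwd 759],
   .loop none [.fwd 3165],
   .loop none [.bwd 713, .bwd 3166],
   .loop none [.bwd 710, .fwd 3166, .bwd 759],
   .loop none [.bwd 3168],
   .loop none [.fwd 758, .bwd 3169],
   .loop none [.fwd 710, .bwd 3169],
   .loop (some (8, 1)) [.bwd 932, .fwd 2693, .fwd 3151],
   .loop (some (7, 1)) [.fwd 1772, .bwd 2682, .bwd 2052],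
   .define,
   .loop (some (18, 3)) [.fwd 3164, .bwd 3162, .fwd 2052, .fwd 3151, .bwd 3153, .fwd 3174],
   .define,
   .define,
   .define,
   .define,
   .define,
   .define,
   .define,
   .define,
   .define,
   .define,
   .define,
   .define,
   .define,
   .define,
   .define,
   .define,
   .loop (some (21, 23)) [.bwd 370, .fwd 2701, .fwd 2693, .bwd 3159, .fwd 3156, .fwd 3161, .fwd 802, .fwd 3159, .fwd 179, .bwd 3170, .fwd 3171, .bwd 931, .fwd 241, .fwd 3167, .fwd 664, .fwd 3176, .fwd 3177, .fwd 3178, .fwd 3179, .fwd 3180, .fwd 3181, .fwd 3182, .fwd 3183, .fwd 3184, .fwd 3185, .fwd 3186, .fwd 3187, .fwd 3188, .fwd 3189, .fwd 3190, .fwd 3191],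
   .define,
   .define,
   .loop (some (14, 3)) [.bwd 3193, .bwd 760, .fwd 3193, .fwd 3194],
   .define,
   .loop (some (20, 6)) [.fwd 3148, .fwd 764, .fwd 761, .bwd 824, .bwd 761, .bwd 764, .bwd 3148, .fwd 3196],
   .loop (some (8, 1)) [.fwd 716, .bwd 3171, .fwd 3193],
   .loop (some (7, 1)) [.fwd 764, .fwd 3170, .bwd 764],
   .define,
   .loop (some (18, 3)) [.fwd 3197, .fwd 3148, .fwd 764, .fwd 3193, .bwd 3195, .fwd 3200],
   .loop (some (3, 2)) [.bwd 2989, .bwd 1028, .fwd 2035, .fwd 2450],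
   .loop none [.bwd 3202],
   .loop none [.bwd 2990, .bwd 3203],
   .loop none [.fwd 2989, .bwd 3203],
   .loop (some (6, 2)) [.bwd 2042, .bwd 2035, .bwd 2821, .bwd 2803],
   .loop none [.fwd 3206],
   .loop none [.bwd 3043, .bwd 3207],
   .loop none [.bwd 2803, .bwd 3207],
   .loop none [.bwd 2043, .fwd 3207, .bwd 2802],
   .loop none [.fwd 3210],
   .loop none [.fwd 2801, .bwd 3211],
   .loop (some (2, 2)) [.bwd 849, .fwd 2035, .bwd 337],
   .define,
   .loop (some (10, 2)) [.bwd 2035, .bwd 3103, .fwd 3214],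
   .define,
   .define,
   .loop (some (17, 3)) [.bwd 2825, .bwd 1028, .fwd 849, .fwd 3216, .fwd 3217],
   .define,
   .define,
   .define,
   .define,
   .define,
   .define,
   .define,
   .define,
   .define,
   .define,
   .define,
   .define,
   .define,
   .define,
   .define,
   .define,
   .define,
   .define,
   .define,
   .define,
   .define,
   .define,
   .define,
   .define,
   .define,
   .loop (some (21, 28)) [.bwd 2462, .bwd 2825, .bwd 1028, .fwd 2035, .bwd 1774, .bwd 1751, .fwd 3219, .fwd 3220, .fwd 3221, .fwd 3222, .fwd 3223, .fwd 3224, .fwd 3225, .fwd 3226, .fwd 3227, .fwd 3228, .fwd 3229, .fwd 3230, .fwd 3231, .fwd 3232, .fwd 3233, .fwd 3234, .fwd 3235, .fwd 3236, .fwd 3237, .fwd 3238, .fwd 3239, .fwd 3240, .fwd 3241, .fwd 3242, .fwd 3243],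
   .loop (some (12, 2)) [.bwd 849, .bwd 3103, .fwd 3101],
   .loop (some (3, 3)) [.bwd 286, .fwd 232, .fwd 321, .fwd 2962],
   .loop none [.fwd 3246],
   .loop none [.bwd 2006, .fwd 3247, .bwd 2962],
   .loop none [.bwd 3248]]

theorem just12_len : just12.length = 250 := by decide +kernel

theorem just12_ok : cert.okFacts 3000 just12 = true := by decide +kernel

/-- justifications -/
noncomputable def just13 : List Cert.Just :=
  [.loop none [.bwd 2963, .bwd 3247],
   .loop none [.fwd 2006, .bwd 3249],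
   .loop none [.bwd 2007, .bwd 3249],
   .loop (some (4, 2)) [.bwd 3250, .bwd 286, .fwd 246, .fwd 2552],
   .loop none [.bwd 3253],
   .loop none [.fwd 3250, .bwd 3254],
   .loop none [.bwd 2964, .bwd 3254],
   .define,
   .define,
   .loop (some (20, 4)) [.bwd 3109, .fwd 249, .fwd 230, .fwd 231, .fwd 286, .fwd 287, .fwd 3257, .fwd 3258],
   .loop (some (6, 2)) [.fwd 709, .bwd 232, .bwd 231, .bwd 2988],
   .loop none [.fwd 3260],
   .loop none [.bwd 2988, .bwd 3261],
   .loop none [.fwd 2906, .bwd 3261],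
   .loop none [.bwd 2907, .bwd 3261],
   .loop none [.bwd 3002, .bwd 3261],
   .define,
   .loop (some (9, 2)) [.fwd 926, .bwd 3110, .fwd 3266],
   .loop (some (1, 2)) [.bwd 286, .bwd 926, .fwd 226],
   .loop (some (15, 3)) [.bwd 715, .bwd 232, .bwd 926, .fwd 292, .fwd 335],
   .loop (some (5, 1)) [.fwd 291, .fwd 926, .bwd 231],
   .loop (some (7, 2)) [.fwd 2752, .bwd 246, .bwd 231, .fwd 2957],
   .loop none [.bwd 3271],
   .loop none [.bwd 2752, .bwd 3272],
   .loop none [.fwd 2751, .bwd 3272],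
   .loop (some (10, 2)) [.bwd 232, .bwd 3110, .fwd 3106],
   .loop (some (11, 2)) [.bwd 246, .bwd 3110, .fwd 3107],
   .define,
   .define,
   .define,
   .define,
   .define,
   .define,
   .define,
   .define,
   .define,
   .define,
   .define,
   .define,
   .define,
   .define,
   .define,
   .define,
   .define,
   .define,
   .define,
   .define,
   .define,
   .define,
   .define,
   .define,
   .define,
   .define,
   .define,
   .loop (some (21, 29)) [.fwd 3001, .bwd 286, .fwd 232, .bwd 675, .fwd 3277, .fwd 3278, .fwd 3279, .fwd 3280, .fwd 3281, .fwd 3282, .fwd 3283, .fwd 3284, .fwd 3285, .fwd 3286, .fwd 3287, .fwd 3288, .fwd 3289, .fwd 3290, .fwd 3291, .fwd 3292, .fwd 3293, .fwd 3294, .fwd 3295, .fwd 3296, .fwd 3297, .fwd 3298, .fwd 3299, .fwd 3300, .fwd 3301, .fwd 3302, .fwd 3303],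
   .loop (some (13, 2)) [.bwd 286, .bwd 3110, .fwd 3109],
   .loop (some (2, 2)) [.fwd 2996, .bwd 3082, .fwd 3084],
   .define,
   .loop (some (15, 3)) [.bwd 3144, .fwd 3082, .bwd 3099, .fwd 3214, .fwd 3307],
   .define,
   .define,
   .define,
   .define,
   .define,
   .define,
   .define,
   .define,
   .define,
   .define,
   .define,
   .define,
   .define,
   .define,
   .define,
   .define,
   .define,
   .define,
   .define,
   .define,
   .define,
   .define,
   .define,
   .define,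
   .loop (some (21, 27)) [.bwd 2753, .bwd 246, .bwd 183, .bwd 2520, .bwd 3082, .bwd 3083, .fwd 3084, .fwd 3309, .fwd 3310, .fwd 3311, .fwd 3312, .fwd 3313, .fwd 3314, .fwd 3315, .fwd 3316, .fwd 3317, .fwd 3318, .fwd 3319, .fwd 3320, .fwd 3321, .fwd 3322, .fwd 3323, .fwd 3324, .fwd 3325, .fwd 3326, .fwd 3327, .fwd 3328, .fwd 3329, .fwd 3330, .fwd 3331, .fwd 3332],
   .loop (some (12, 2)) [.fwd 2996, .bwd 2843, .bwd 3050],
   .define,
   .define,
   .loop (some (14, 3)) [.bwd 3335, .bwd 883, .fwd 3335, .fwd 3336],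
   .define,
   .define,
   .define,
   .define,
   .loop (some (20, 7)) [.bwd 882, .fwd 881, .bwd 648, .bwd 3333, .fwd 3338, .fwd 3339, .fwd 3340, .fwd 3341],
   .loop (some (19, 1)) [.fwd 548, .fwd 549, .bwd 258, .bwd 257, .fwd 497, .fwd 20, .fwd 21, .fwd 888, .bwd 2735],
   .loop none [.fwd 3343],
   .loop none [.bwd 2735, .bwd 3344],
   .loop none [.fwd 2734, .bwd 3344],
   .loop (some (9, 2)) [.fwd 3345, .bwd 883, .bwd 3345],
   .loop (some (1, 1)) [.bwd 2733, .bwd 881, .bwd 3345],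
   .define,
   .loop (some (5, 2)) [.fwd 3345, .fwd 882, .fwd 3349],
   .loop (some (8, 1)) [.fwd 648, .bwd 2574, .fwd 3335],
   .define,
   .loop (some (18, 3)) [.fwd 3341, .fwd 3342, .bwd 882, .fwd 3335, .bwd 3337, .fwd 3352],
   .define,
   .define,
   .loop (some (14, 3)) [.bwd 3354, .bwd 921, .fwd 3354, .fwd 3355],
   .define,
   .define,
   .define,
   .define,
   .define,
   .loop (some (20, 7)) [.bwd 920, .fwd 919, .bwd 441, .fwd 3357, .fwd 3358, .fwd 3359, .fwd 3360, .fwd 3361],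
   .loop (some (6, 1)) [.fwd 441, .bwd 915, .fwd 920],
   .define,
   .define,
   .define,
   .define,
   .loop (some (19, 4)) [.bwd 905, .fwd 474, .bwd 381, .bwd 916, .fwd 3364, .fwd 3365, .fwd 3366, .fwd 3367],
   .define,
   .loop (some (1, 2)) [.bwd 919, .fwd 3364, .fwd 3369],
   .loop (some (2, 4)) [.fwd 915, .bwd 331, .bwd 2409, .fwd 2410],
   .loop none [.fwd 3371],
   .loop none [.bwd 916, .fwd 3372, .fwd 1421],
   .loop none [.fwd 3373],
   .loop none [.bwd 200, .fwd 3372, .bwd 2410],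
   .loop none [.fwd 3375],
   .loop none [.bwd 381, .fwd 3374, .fwd 1422],
   .loop none [.fwd 3377],
   .loop none [.bwd 2408, .bwd 3376],
   .loop none [.bwd 2409, .bwd 3376],
   .loop none [.bwd 927, .fwd 3376, .fwd 562],
   .loop none [.fwd 3381],
   .loop none [.bwd 201, .fwd 3376, .fwd 2411],
   .loop none [.fwd 3383],
   .loop none [.bwd 2412, .bwd 3376],
   .loop none [.fwd 3376, .bwd 2413, .bwd 3376],
   .loop none [.fwd 474, .fwd 3378, .bwd 2360],
   .loop none [.fwd 3387],
   .loop none [.fwd 491, .fwd 3382, .fwd 563],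
   .loop none [.fwd 3389],
   .loop none [.bwd 2273, .bwd 3384],
   .loop none [.bwd 202, .fwd 3384, .bwd 557],
   .loop none [.fwd 3392],
   .loop none [.bwd 558, .bwd 3384],
   .loop none [.bwd 2395, .bwd 3384],
   .loop none [.bwd 2276, .bwd 3384],
   .loop none [.fwd 3384, .bwd 2277, .bwd 3384],
   .loop none [.bwd 905, .fwd 3388, .bwd 1328],
   .loop none [.fwd 3398],
   .loop none [.bwd 1329, .bwd 3388],
   .loop none [.bwd 564, .bwd 3390],
   .loop none [.bwd 1697, .bwd 3393],
   .loop none [.bwd 2403, .bwd 3393],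
   .loop none [.fwd 556, .bwd 3393],
   .loop none [.bwd 1701, .bwd 3393],
   .loop none [.fwd 3393, .bwd 1702, .bwd 3393],
   .loop none [.fwd 3368, .fwd 3399, .bwd 2726],
   .loop none [.bwd 3407],
   .loop none [.bwd 3368, .bwd 3408],
   .loop none [.bwd 2727, .fwd 3408, .bwd 3367],
   .loop none [.fwd 3410],
   .loop none [.fwd 2286, .fwd 3411, .bwd 3366],
   .loop none [.fwd 3412],
   .loop none [.fwd 2727, .fwd 3413, .bwd 3365],
   .loop none [.fwd 3414],
   .loop none [.fwd 3364, .bwd 3415],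
   .loop none [.fwd 2732, .fwd 3415, .fwd 3369],
   .loop none [.fwd 3417],
   .loop none [.bwd 3370, .bwd 3418],
   .loop (some (15, 2)) [.fwd 1812, .fwd 3419, .bwd 915, .bwd 3416, .fwd 400],
   .loop (some (5, 1)) [.bwd 2730, .fwd 3416, .fwd 920],
   .loop (some (8, 1)) [.bwd 3385, .bwd 200, .fwd 3354],
   .define,
   .loop (some (18, 3)) [.fwd 3361, .fwd 3362, .bwd 920, .fwd 3354, .bwd 3356, .fwd 3423],
   .loop (some (17, 3)) [.fwd 3404, .fwd 331, .bwd 919, .fwd 200, .fwd 201, .fwd 3395],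
   .loop none [.fwd 3425],
   .loop none [.bwd 203, .fwd 3426, .bwd 2676],
   .loop none [.fwd 3427],
   .loop none [.bwd 3403, .fwd 3426, .bwd 3395],
   .loop none [.bwd 3429],
   .loop none [.bwd 2674, .bwd 3428],
   .loop none [.fwd 3428, .fwd 2675, .bwd 3428],
   .loop none [.bwd 204, .fwd 3428, .bwd 697],
   .loop none [.fwd 3433],
   .loop none [.bwd 2679, .bwd 3428],
   .loop none [.bwd 2680, .bwd 3428],
   .loop none [.fwd 3428, .bwd 2681, .bwd 3428],
   .loop none [.fwd 3394, .bwd 3430],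
   .loop none [.fwd 3403, .bwd 3430],
   .loop none [.bwd 2688, .bwd 3434],
   .loop none [.fwd 2700, .bwd 3434],
   .define,
   .define,
   .loop (some (14, 3)) [.bwd 3442, .bwd 3386, .fwd 3442, .fwd 3443],
   .loop (some (4, 1)) [.fwd 201, .fwd 3438, .bwd 201, .fwd 927],
   .loop none [.fwd 3445],
   .loop none [.fwd 927, .bwd 3446],
   .loop none [.fwd 200, .fwd 3446, .bwd 491],
   .loop none [.fwd 3448],
   .loop none [.bwd 916, .fwd 3449, .bwd 490],
   .loop none [.fwd 3450],
   .loop none [.bwd 919, .fwd 3449, .fwd 3401],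
   .loop none [.fwd 3452],
   .loop none [.bwd 381, .fwd 3451, .bwd 489],
   .loop none [.fwd 3454],
   .loop none [.fwd 915, .fwd 3453, .fwd 565],
   .loop none [.fwd 3456],
   .loop none [.fwd 474, .fwd 3455, .bwd 488],
   .loop none [.fwd 3458],
   .loop none [.bwd 916, .fwd 3457, .fwd 566],
   .loop none [.fwd 3460],
   .loop none [.bwd 905, .fwd 3459, .bwd 487],
   .loop none [.bwd 3462],
   .loop none [.bwd 381, .fwd 3461, .fwd 567],
   .loop none [.fwd 3464],
   .loop none [.fwd 3409, .bwd 3463],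
   .loop none [.fwd 905, .bwd 3463],
   .loop none [.fwd 2712, .fwd 3463, .fwd 728],
   .loop none [.fwd 3468],
   .loop none [.fwd 255, .fwd 3465, .fwd 568],
   .loop none [.fwd 3470],
   .loop none [.fwd 2724, .fwd 3469, .fwd 729],
   .loop none [.fwd 3472],
   .loop none [.fwd 1011, .fwd 3471, .fwd 569],
   .loop none [.fwd 3474],
   .loop none [.bwd 730, .bwd 3473],
   .loop none [.fwd 265, .fwd 3475, .fwd 570],
   .loop none [.fwd 3477],
   .loop none [.bwd 2589, .fwd 3478, .fwd 571],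
   .loop none [.fwd 3479],
   .loop none [.bwd 527, .fwd 3480, .fwd 572],
   .loop none [.fwd 3481],
   .loop none [.fwd 435, .fwd 3482, .fwd 573],
   .loop none [.fwd 3483],
   .loop none [.bwd 574, .bwd 3484],
   .define,
   .define,
   .define,
   .define,
   .define,
   .loop (some (20, 7)) [.bwd 3385, .fwd 201, .fwd 3396, .fwd 3486, .fwd 3487, .fwd 3488, .fwd 3489, .fwd 3490],
   .loop (some (6, 1)) [.fwd 1706, .bwd 3380, .fwd 3385],
   .loop (some (8, 1)) [.bwd 920, .fwd 200, .fwd 3442],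
   .loop (some (7, 1)) [.bwd 3385, .fwd 3447, .fwd 3385],
   .define,
   .loop (some (18, 3)) [.fwd 3490, .fwd 3491, .bwd 3385, .fwd 3442, .bwd 3444, .fwd 3495],
   .define,
   .define,
   .loop (some (14, 3)) [.bwd 3497, .bwd 3397, .fwd 3497, .fwd 3498]]

theorem just13_len : just13.length = 250 := by decide +kernel

theorem just13_ok : cert.okFacts 3250 just13 = true := by decide +kernel

/-- justifications -/
noncomputable def just14 : List Cert.Just :=
  [.define,
   .define,
   .define,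
   .define,
   .define,
   .loop (some (20, 7)) [.bwd 3396, .bwd 201, .fwd 3385, .fwd 3500, .fwd 3501, .fwd 3502, .fwd 3503, .fwd 3504],
   .loop (some (6, 1)) [.bwd 3405, .bwd 202, .fwd 3396],
   .loop (some (8, 1)) [.bwd 3405, .bwd 3439, .fwd 3497],
   .loop (some (7, 1)) [.bwd 3396, .fwd 3438, .fwd 3396],
   .define,
   .loop (some (18, 3)) [.fwd 3504, .fwd 3505, .bwd 3396, .fwd 3497, .bwd 3499, .fwd 3509],
   .define,
   .define,
   .loop (some (14, 3)) [.bwd 3511, .bwd 3406, .fwd 3511, .fwd 3512],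
   .define,
   .define,
   .define,
   .define,
   .define,
   .loop (some (20, 7)) [.bwd 3405, .fwd 3404, .bwd 1706, .fwd 3514, .fwd 3515, .fwd 3516, .fwd 3517, .fwd 3518],
   .loop (some (8, 1)) [.bwd 3396, .fwd 3439, .fwd 3511],
   .loop (some (7, 1)) [.bwd 3436, .bwd 203, .fwd 3405],
   .define,
   .loop (some (18, 3)) [.fwd 3518, .fwd 3519, .bwd 3405, .fwd 3511, .bwd 3513, .fwd 3522],
   .define,
   .define,
   .loop (some (14, 3)) [.bwd 3524, .bwd 3437, .fwd 3524, .fwd 3525],
   .define,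
   .define,
   .define,
   .define,
   .define,
   .loop (some (20, 7)) [.bwd 3436, .fwd 3435, .fwd 2650, .fwd 3527, .fwd 3528, .fwd 3529, .fwd 3530, .fwd 3531],
   .loop (some (6, 1)) [.bwd 3436, .fwd 3432, .fwd 3436],
   .loop (some (2, 3)) [.bwd 204, .bwd 3432, .fwd 204, .fwd 3440],
   .loop none [.fwd 3534],
   .loop none [.fwd 3440, .bwd 3535],
   .loop none [.bwd 205, .fwd 3535, .bwd 1489],
   .loop none [.fwd 3537],
   .loop none [.fwd 1488, .bwd 3538],
   .define,
   .loop (some (8, 2)) [.bwd 204, .fwd 3524, .fwd 3540],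
   .define,
   .loop (some (18, 3)) [.fwd 3531, .fwd 3532, .bwd 3436, .fwd 3524, .bwd 3526, .fwd 3542],
   .loop (some (17, 3)) [.fwd 1789, .fwd 329, .bwd 3435, .fwd 204, .fwd 205, .fwd 3539],
   .loop none [.fwd 3544],
   .loop none [.fwd 803, .fwd 3545, .bwd 1487],
   .loop none [.fwd 3546],
   .loop none [.fwd 1121, .fwd 3545, .bwd 3539],
   .loop none [.bwd 3548],
   .loop none [.bwd 3156, .fwd 3547, .bwd 1486],
   .loop none [.fwd 3550],
   .loop none [.bwd 1121, .bwd 3549],
   .loop none [.fwd 761, .fwd 3551, .bwd 1485],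
   .loop none [.fwd 3553],
   .loop none [.bwd 3171, .fwd 3554, .bwd 1484],
   .loop none [.fwd 3555],
   .loop none [.bwd 3167, .fwd 3556, .bwd 1483],
   .loop none [.fwd 3557],
   .loop none [.fwd 642, .fwd 3558, .bwd 1482],
   .loop none [.fwd 3559],
   .loop none [.fwd 1481, .bwd 3560],
   .loop (some (12, 2)) [.bwd 204, .bwd 3437, .fwd 204],
   .define,
   .define,
   .loop (some (14, 3)) [.bwd 3563, .bwd 3562, .fwd 3563, .fwd 3564],
   .define,
   .define,
   .define,
   .define,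
   .define,
   .define,
   .loop (some (20, 7)) [.fwd 3541, .fwd 205, .fwd 3566, .fwd 3567, .fwd 3568, .fwd 3569, .fwd 3570, .fwd 3571],
   .loop (some (6, 1)) [.fwd 3541, .fwd 3536, .bwd 3541],
   .loop (some (19, 0)) [.fwd 2658, .fwd 66, .fwd 67, .fwd 2253, .bwd 67, .bwd 66, .bwd 2658, .bwd 3441],
   .loop (some (1, 2)) [.bwd 205, .fwd 3574, .fwd 2659],
   .loop (some (15, 2)) [.bwd 392, .bwd 3574, .fwd 3536, .fwd 3574, .fwd 392],
   .loop (some (8, 1)) [.bwd 3436, .fwd 204, .fwd 3563],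
   .loop (some (7, 1)) [.bwd 2660, .bwd 3441, .bwd 3541],
   .define,
   .loop (some (18, 3)) [.fwd 3571, .fwd 3572, .fwd 3541, .fwd 3563, .bwd 3565, .fwd 3579],
   .define,
   .define,
   .define,
   .define,
   .define,
   .define,
   .loop (some (20, 7)) [.bwd 3566, .bwd 205, .bwd 3541, .fwd 3582, .fwd 3583, .fwd 3584, .fwd 3585, .fwd 3586],
   .loop (some (5, 1)) [.bwd 3575, .fwd 1846, .fwd 3575, .fwd 3566],
   .loop none [.fwd 3588],
   .loop none [.fwd 205, .fwd 3589, .fwd 3567],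
   .loop none [.fwd 3590],
   .loop none [.bwd 3581, .fwd 3589, .bwd 3566],
   .loop none [.bwd 3592],
   .loop none [.fwd 3587, .bwd 3589],
   .loop none [.fwd 3541, .fwd 3591, .fwd 3568],
   .loop none [.fwd 3595],
   .loop none [.bwd 3594, .fwd 3593, .bwd 3581],
   .loop none [.bwd 3597],
   .loop none [.fwd 3572, .fwd 3596, .fwd 3569],
   .loop none [.bwd 3599],
   .loop none [.fwd 3594, .bwd 3598],
   .loop none [.fwd 3601, .fwd 3598, .bwd 3586],
   .loop none [.fwd 3602],
   .loop none [.bwd 3572, .bwd 3600],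
   .loop none [.fwd 3571, .bwd 3600],
   .loop none [.fwd 205, .fwd 3603, .bwd 3585],
   .loop none [.fwd 3606],
   .loop none [.bwd 3563, .fwd 3607, .bwd 3584],
   .loop none [.fwd 3608],
   .loop none [.fwd 3565, .fwd 3609, .bwd 3583],
   .loop none [.fwd 3610],
   .loop none [.fwd 3582, .bwd 3611],
   .define,
   .define,
   .loop (some (20, 4)) [.fwd 2659, .fwd 1846, .fwd 1846, .fwd 1846, .bwd 2659, .fwd 2660, .fwd 3613, .fwd 3614],
   .loop (some (3, 3)) [.bwd 1895, .bwd 2845, .fwd 2849, .fwd 2850],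
   .loop none [.fwd 3616],
   .loop none [.bwd 1896, .fwd 3617, .bwd 2850],
   .loop none [.fwd 3618],
   .loop none [.bwd 2851, .bwd 3617],
   .loop none [.bwd 3149, .bwd 3619],
   .loop none [.fwd 2849, .bwd 3619],
   .loop (some (4, 1)) [.bwd 3620, .bwd 1895, .bwd 1880],
   .define,
   .define,
   .define,
   .loop (some (20, 4)) [.bwd 2959, .fwd 231, .fwd 184, .fwd 221, .fwd 1895, .fwd 3624, .fwd 3625, .fwd 3626],
   .loop (some (19, 0)) [.bwd 849, .bwd 1067, .bwd 1066, .bwd 2942, .fwd 2036, .fwd 307, .bwd 2951, .fwd 1880],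
   .loop (some (9, 1)) [.fwd 3245, .bwd 3628, .bwd 2999],
   .loop (some (1, 2)) [.bwd 1895, .fwd 3628, .fwd 3216],
   .define,
   .define,
   .loop (some (15, 4)) [.fwd 2845, .fwd 3628, .bwd 3213, .fwd 3631, .fwd 3632],
   .loop (some (11, 2)) [.fwd 1880, .bwd 2999, .fwd 2995],
   .loop (some (16, 3)) [.fwd 3027, .fwd 1880, .bwd 2845, .fwd 2834, .bwd 2545],
   .define,
   .define,
   .define,
   .define,
   .define,
   .define,
   .define,
   .define,
   .define,
   .define,
   .define,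
   .define,
   .define,
   .define,
   .define,
   .define,
   .define,
   .define,
   .define,
   .define,
   .define,
   .define,
   .define,
   .define,
   .define,
   .define,
   .loop (some (21, 29)) [.bwd 2848, .bwd 1895, .bwd 2845, .fwd 2834, .bwd 3143, .fwd 3636, .fwd 3637, .fwd 3638, .fwd 3639, .fwd 3640, .fwd 3641, .fwd 3642, .fwd 3643, .fwd 3644, .fwd 3645, .fwd 3646, .fwd 3647, .fwd 3648, .fwd 3649, .fwd 3650, .fwd 3651, .fwd 3652, .fwd 3653, .fwd 3654, .fwd 3655, .fwd 3656, .fwd 3657, .fwd 3658, .fwd 3659, .fwd 3660, .fwd 3661],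
   .loop (some (13, 2)) [.bwd 1895, .bwd 2999, .bwd 229],
   .loop (some (3, 3)) [.bwd 3051, .fwd 3048, .fwd 3054, .fwd 3055],
   .loop none [.fwd 3664],
   .loop none [.bwd 2476, .fwd 3665, .bwd 3055],
   .loop none [.fwd 3666],
   .loop none [.bwd 3056, .bwd 3665],
   .loop none [.fwd 3054, .bwd 3667],
   .loop (some (4, 1)) [.bwd 3668, .bwd 3051, .fwd 3049],
   .define,
   .define,
   .define,
   .loop (some (20, 4)) [.bwd 286, .fwd 184, .fwd 221, .bwd 223, .fwd 3051, .fwd 3671, .fwd 3672, .fwd 3673],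
   .loop (some (6, 3)) [.bwd 3048, .fwd 223, .bwd 2845, .bwd 703],
   .loop none [.bwd 3675],
   .loop none [.fwd 3048, .bwd 3676],
   .loop none [.fwd 2027, .bwd 3676],
   .loop none [.fwd 3036, .bwd 3676],
   .loop none [.fwd 3669, .bwd 3676],
   .loop (some (19, 0)) [.bwd 1932, .fwd 2819, .bwd 2824, .bwd 2761, .fwd 2825, .fwd 2462, .fwd 2463, .bwd 3049],
   .loop (some (9, 3)) [.bwd 3681, .bwd 222, .fwd 3628, .fwd 284],
   .loop none [.bwd 3682],
   .loop none [.fwd 3681, .bwd 3683],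
   .loop none [.bwd 1933, .bwd 3683],
   .loop none [.fwd 1932, .bwd 3683],
   .define,
   .loop (some (1, 2)) [.bwd 3051, .bwd 3684, .fwd 3687],
   .define,
   .define,
   .define,
   .loop (some (15, 4)) [.fwd 3677, .bwd 3684, .fwd 3689, .fwd 3690, .fwd 3691],
   .loop (some (7, 3)) [.bwd 3049, .fwd 223, .bwd 1880, .fwd 2952],
   .loop none [.fwd 3693],
   .loop none [.bwd 2755, .bwd 3694],
   .loop none [.fwd 2952, .bwd 3694],
   .loop none [.fwd 2954, .bwd 3694],
   .loop (some (16, 3)) [.fwd 3137, .bwd 3049, .bwd 3677, .fwd 3678, .bwd 2026],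
   .define,
   .define,
   .define,
   .define,
   .define,
   .define,
   .define,
   .define,
   .define,
   .define,
   .define,
   .define,
   .define,
   .define,
   .define,
   .define,
   .define,
   .define,
   .define,
   .define,
   .define,
   .define,
   .define,
   .define,
   .define,
   .define,
   .define,
   .loop (some (21, 29)) [.bwd 3053, .bwd 3051, .bwd 3677, .fwd 3678, .fwd 3699, .fwd 3700, .fwd 3701, .fwd 3702, .fwd 3703, .fwd 3704, .fwd 3705, .fwd 3706, .fwd 3707, .fwd 3708, .fwd 3709, .fwd 3710, .fwd 3711, .fwd 3712, .fwd 3713, .fwd 3714, .fwd 3715, .fwd 3716, .fwd 3717, .fwd 3718, .fwd 3719, .fwd 3720, .fwd 3721, .fwd 3722, .fwd 3723, .fwd 3724, .fwd 3725],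
   .loop (some (13, 2)) [.bwd 3051, .bwd 222, .fwd 1895],
   .loop (some (3, 2)) [.bwd 226, .fwd 292, .fwd 704],
   .loop (some (14, 1)) [.fwd 3245, .bwd 283, .fwd 225, .bwd 3267],
   .loop (some (4, 2)) [.bwd 226, .fwd 307, .fwd 2747],
   .define,
   .define,
   .define,
   .loop (some (20, 5)) [.fwd 310, .fwd 290, .fwd 291, .fwd 226, .fwd 227, .fwd 3731, .fwd 3732, .fwd 3733],
   .loop (some (6, 1)) [.fwd 326, .bwd 292, .bwd 291],
   .define,
   .loop (some (0, 1)) [.fwd 3267, .fwd 3736],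
   .loop (some (2, 2)) [.bwd 2941, .fwd 2036, .fwd 292, .bwd 2053],
   .loop none [.bwd 3738],
   .loop none [.bwd 2935, .bwd 3739],
   .loop none [.fwd 2941, .bwd 3739],
   .loop (some (7, 1)) [.fwd 2557, .bwd 307, .bwd 291],
   .define,
   .loop (some (10, 2)) [.bwd 292, .bwd 3267, .fwd 3743],
   .define,
   .loop (some (11, 2)) [.bwd 307, .bwd 3267, .fwd 3745],
   .define,
   .loop (some (17, 4)) [.bwd 226, .bwd 2036, .bwd 3102, .fwd 3101, .fwd 3747],
   .define]

theorem just14_len : just14.length = 250 := by decide +kernel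

theorem just14_ok : cert.okFacts 3500 just14 = true := by decide +kernel

/-- justifications -/
noncomputable def just15 : List Cert.Just :=
  [.define,
   .define,
   .define,
   .define,
   .define,
   .define,
   .define,
   .define,
   .define,
   .define,
   .define,
   .define,
   .define,
   .define,
   .define,
   .define,
   .define,
   .define,
   .define,
   .define,
   .define,
   .define,
   .define,
   .define,
   .define,
   .loop (some (21, 29)) [.fwd 3748, .bwd 226, .fwd 292, .fwd 339, .bwd 439, .fwd 3749, .fwd 3750, .fwd 3751, .fwd 3752, .fwd 3753, .fwd 3754, .fwd 3755, .fwd 3756, .fwd 3757, .fwd 3758, .fwd 3759, .fwd 3760, .fwd 3761, .fwd 3762, .fwd 3763, .fwd 3764, .fwd 3765, .fwd 3766, .fwd 3767, .fwd 3768, .fwd 3769, .fwd 3770, .fwd 3771, .fwd 3772, .fwd 3773, .fwd 3774],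
   .loop (some (12, 1)) [.bwd 3090, .fwd 3041, .fwd 2036, .bwd 3267],
   .loop none [.fwd 3776],
   .loop none [.fwd 3266, .bwd 3777],
   .loop none [.bwd 3743, .bwd 3777],
   .loop none [.bwd 2879, .fwd 3777, .fwd 3745],
   .loop none [.fwd 3780],
   .loop none [.bwd 3729, .bwd 3777],
   .loop none [.bwd 3267, .bwd 3777],
   .loop none [.fwd 3737, .bwd 3777],
   .loop none [.bwd 3746, .bwd 3781],
   .define,
   .loop (some (13, 2)) [.bwd 226, .bwd 3783, .fwd 3786],
   .define,
   .define,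
   .define,
   .loop (some (14, 4)) [.bwd 3787, .fwd 3788, .fwd 3789, .fwd 3790],
   .define,
   .define,
   .define,
   .define,
   .loop (some (20, 6)) [.bwd 228, .bwd 227, .bwd 226, .bwd 291, .fwd 3792, .fwd 3793, .fwd 3794, .fwd 3795],
   .loop (some (6, 1)) [.bwd 705, .fwd 3728, .fwd 227],
   .define,
   .define,
   .define,
   .define,
   .loop (some (19, 7)) [.fwd 3730, .fwd 3268, .bwd 3001, .bwd 3304, .fwd 3798, .fwd 3799, .fwd 3800, .fwd 3801],
   .loop (some (9, 1)) [.fwd 3305, .bwd 3268, .bwd 3787],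
   .define,
   .loop (some (0, 1)) [.fwd 3787, .fwd 3804],
   .define,
   .loop (some (2, 2)) [.fwd 3748, .bwd 3728, .fwd 3806],
   .define,
   .define,
   .loop (some (15, 4)) [.fwd 3728, .fwd 3268, .bwd 3251, .fwd 3808, .fwd 3809],
   .loop (some (5, 1)) [.bwd 287, .bwd 3268, .fwd 227],
   .define,
   .loop (some (8, 2)) [.fwd 3748, .bwd 3791, .fwd 3812],
   .loop (some (7, 1)) [.bwd 2748, .fwd 3730, .fwd 227],
   .define,
   .loop (some (18, 3)) [.fwd 3796, .bwd 228, .bwd 227, .bwd 3791, .bwd 3790, .fwd 3815],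
   .define,
   .loop (some (10, 2)) [.fwd 3728, .bwd 3787, .fwd 3817],
   .define,
   .loop (some (11, 2)) [.fwd 3730, .bwd 3787, .fwd 3819],
   .define,
   .define,
   .define,
   .loop (some (16, 4)) [.fwd 3730, .bwd 3728, .fwd 3821, .fwd 3822, .fwd 3823],
   .define,
   .define,
   .define,
   .define,
   .define,
   .define,
   .define,
   .define,
   .define,
   .define,
   .define,
   .define,
   .define,
   .define,
   .define,
   .define,
   .define,
   .define,
   .define,
   .define,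
   .define,
   .define,
   .define,
   .define,
   .define,
   .loop (some (21, 27)) [.fwd 2770, .bwd 2942, .fwd 2036, .fwd 226, .bwd 3728, .fwd 3821, .fwd 3825, .fwd 3826, .fwd 3827, .fwd 3828, .fwd 3829, .fwd 3830, .fwd 3831, .fwd 3832, .fwd 3833, .fwd 3834, .fwd 3835, .fwd 3836, .fwd 3837, .fwd 3838, .fwd 3839, .fwd 3840, .fwd 3841, .fwd 3842, .fwd 3843, .fwd 3844, .fwd 3845, .fwd 3846, .fwd 3847, .fwd 3848, .fwd 3849],
   .define,
   .loop (some (12, 2)) [.fwd 3748, .bwd 3787, .fwd 3851],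
   .define,
   .loop (some (3, 2)) [.bwd 3731, .fwd 3797, .fwd 3853],
   .define,
   .define,
   .loop (some (14, 2)) [.fwd 3791, .fwd 227, .fwd 3855, .fwd 3856],
   .define,
   .loop (some (4, 2)) [.bwd 3731, .fwd 3814, .fwd 3858],
   .define,
   .define,
   .define,
   .loop (some (20, 5)) [.fwd 3816, .fwd 3796, .bwd 228, .fwd 3731, .fwd 3732, .fwd 3860, .fwd 3861, .fwd 3862],
   .loop (some (6, 2)) [.bwd 706, .bwd 3797, .fwd 228, .fwd 3000],
   .loop none [.fwd 3864],
   .loop none [.fwd 3000, .bwd 3865],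
   .loop none [.bwd 2886, .bwd 3865],
   .define,
   .define,
   .define,
   .define,
   .define,
   .define,
   .loop (some (19, 7)) [.bwd 3814, .fwd 3811, .fwd 3868, .fwd 3869, .fwd 3870, .fwd 3871, .fwd 3872, .fwd 3873],
   .define,
   .loop (some (9, 2)) [.bwd 3811, .fwd 3855, .fwd 3875],
   .define,
   .loop (some (1, 2)) [.bwd 3731, .fwd 3811, .fwd 3257],
   .define,
   .define,
   .loop (some (2, 3)) [.fwd 3797, .fwd 3879, .fwd 3880],
   .define,
   .define,
   .define,
   .loop (some (15, 4)) [.bwd 3797, .fwd 3811, .fwd 3882, .fwd 3883, .fwd 3884],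
   .loop (some (5, 1)) [.bwd 288, .bwd 3811, .fwd 228],
   .loop (some (8, 2)) [.fwd 3881, .bwd 227, .bwd 3748],
   .loop (some (7, 2)) [.bwd 2749, .bwd 3814, .fwd 228, .bwd 3304],
   .loop none [.fwd 3888],
   .loop none [.fwd 3303, .bwd 3889],
   .loop none [.bwd 3304, .bwd 3889],
   .loop none [.bwd 3798, .bwd 3889],
   .define,
   .loop (some (10, 2)) [.bwd 3797, .fwd 3855, .fwd 3893],
   .define,
   .loop (some (11, 2)) [.bwd 3814, .fwd 3855, .fwd 3895],
   .define,
   .define,
   .define,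
   .loop (some (16, 4)) [.bwd 3814, .fwd 3797, .fwd 3897, .fwd 3898, .fwd 3899],
   .define,
   .define,
   .define,
   .loop (some (17, 4)) [.bwd 3731, .bwd 3881, .fwd 3901, .fwd 3902, .fwd 3903],
   .define,
   .define,
   .define,
   .define,
   .define,
   .define,
   .define,
   .define,
   .define,
   .define,
   .define,
   .define,
   .define,
   .define,
   .define,
   .define,
   .define,
   .define,
   .define,
   .define,
   .define,
   .define,
   .define,
   .define,
   .define,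
   .define,
   .define,
   .loop (some (21, 29)) [.fwd 3904, .bwd 3731, .fwd 3797, .fwd 3897, .fwd 3905, .fwd 3906, .fwd 3907, .fwd 3908, .fwd 3909, .fwd 3910, .fwd 3911, .fwd 3912, .fwd 3913, .fwd 3914, .fwd 3915, .fwd 3916, .fwd 3917, .fwd 3918, .fwd 3919, .fwd 3920, .fwd 3921, .fwd 3922, .fwd 3923, .fwd 3924, .fwd 3925, .fwd 3926, .fwd 3927, .fwd 3928, .fwd 3929, .fwd 3930, .fwd 3931],
   .define,
   .loop (some (12, 2)) [.fwd 3881, .fwd 3855, .fwd 3933],
   .define,
   .loop (some (13, 2)) [.bwd 3731, .fwd 3855, .fwd 3935],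
   .loop (some (3, 2)) [.fwd 3306, .bwd 229, .bwd 3866, .fwd 707],
   .loop none [.bwd 3937],
   .loop none [.bwd 3306, .bwd 3938],
   .loop none [.fwd 1986, .bwd 3938],
   .loop none [.fwd 3084, .bwd 3938],
   .loop none [.fwd 707, .fwd 3938, .fwd 3309],
   .loop none [.fwd 3942],
   .loop none [.bwd 3150, .bwd 3938],
   .loop none [.bwd 3866, .fwd 3943, .fwd 3310],
   .loop none [.fwd 3945],
   .loop none [.fwd 3891, .fwd 3946, .fwd 3311],
   .loop none [.fwd 3947],
   .loop none [.bwd 3892, .fwd 3948, .fwd 3312],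
   .loop none [.bwd 3949],
   .loop none [.bwd 3799, .bwd 3950],
   .loop none [.fwd 3892, .bwd 3950],
   .define,
   .loop (some (14, 1)) [.fwd 3787, .fwd 227, .fwd 228, .fwd 3953],
   .loop (some (4, 2)) [.bwd 2995, .bwd 229, .bwd 3891, .fwd 2750],
   .loop none [.bwd 3955],
   .loop none [.fwd 2986, .bwd 3956],
   .loop none [.fwd 2995, .bwd 3956],
   .loop none [.fwd 2880, .bwd 3956],
   .loop none [.bwd 3634, .bwd 3956],
   .define,
   .define,
   .loop (some (20, 5)) [.fwd 3815, .fwd 3816, .fwd 3796, .fwd 229, .bwd 249, .fwd 3109, .fwd 3961, .fwd 3962],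
   .define,
   .loop (some (6, 2)) [.fwd 3866, .bwd 3796, .fwd 3964],
   .loop (some (19, 1)) [.fwd 3748, .bwd 3730, .bwd 3802, .bwd 3801, .bwd 3800, .bwd 3951, .fwd 3952, .fwd 3891, .fwd 3886],
   .loop none [.bwd 3966],
   .loop none [.fwd 3807, .bwd 3967],
   .loop none [.fwd 3775, .bwd 3967],
   .loop none [.bwd 3748, .bwd 3967],
   .loop none [.bwd 289, .fwd 3967, .bwd 3747],
   .loop none [.fwd 3971],
   .loop none [.fwd 288, .fwd 3967, .fwd 3887],
   .loop none [.fwd 3973],
   .loop none [.fwd 3813, .bwd 3967],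
   .loop none [.fwd 3852, .bwd 3967],
   .loop none [.fwd 3629, .bwd 3972],
   .loop none [.bwd 2504, .bwd 3972],
   .loop none [.fwd 3101, .bwd 3972],
   .loop none [.fwd 310, .fwd 3972, .bwd 3782],
   .loop none [.fwd 3980],
   .loop none [.bwd 3245, .bwd 3972],
   .loop none [.bwd 3882, .fwd 3974, .bwd 3880],
   .loop none [.bwd 3983],
   .loop none [.bwd 3868, .fwd 3974, .fwd 3881],
   .loop none [.bwd 3985],
   .loop none [.bwd 3257, .fwd 3974, .fwd 3901],
   .loop none [.fwd 3987],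
   .loop none [.fwd 3876, .fwd 3974, .bwd 3934],
   .loop none [.fwd 3989],
   .loop none [.bwd 3778, .bwd 3981],
   .loop none [.bwd 3779, .bwd 3981],
   .loop none [.bwd 2879, .bwd 3981],
   .loop none [.fwd 3090, .bwd 3981],
   .loop none [.fwd 3734, .fwd 3981, .fwd 3786],
   .loop none [.fwd 3995],
   .loop none [.bwd 3783, .bwd 3981],
   .loop none [.bwd 3784, .bwd 3981],
   .loop none [.bwd 3883, .bwd 3984]]

theorem just15_len : just15.length = 250 := by decide +kernel

theorem just15_ok : cert.okFacts 3750 just15 = true := by decide +kernel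

/-- justifications -/
noncomputable def just16 : List Cert.Just :=
  [.loop none [.fwd 3882, .bwd 3984],
   .loop none [.bwd 3814, .fwd 3986, .fwd 3869],
   .loop none [.fwd 4001],
   .loop none [.fwd 3868, .bwd 3986],
   .loop none [.bwd 3902, .bwd 3988],
   .loop none [.fwd 3933, .bwd 3990],
   .loop none [.bwd 3803, .bwd 3996],
   .loop none [.bwd 3817, .bwd 3996],
   .loop none [.bwd 3819, .bwd 3996],
   .loop none [.bwd 3851, .bwd 3996],
   .loop none [.fwd 3733, .fwd 3996, .fwd 3788],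
   .loop none [.fwd 4010],
   .loop none [.fwd 3954, .bwd 3996],
   .loop none [.bwd 3787, .bwd 3996],
   .loop none [.fwd 3805, .bwd 3996],
   .loop none [.fwd 3874, .fwd 4002, .fwd 3870],
   .loop none [.bwd 4015],
   .loop none [.bwd 3789, .bwd 4011],
   .loop none [.bwd 3874, .bwd 4016],
   .loop (some (9, 1)) [.bwd 3976, .bwd 3886, .fwd 3953],
   .loop (some (0, 2)) [.bwd 3953, .fwd 3663, .fwd 3727],
   .loop none [.bwd 4020],
   .loop none [.fwd 3688, .fwd 4021, .fwd 4019],
   .loop none [.fwd 4022],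
   .loop none [.fwd 4012, .bwd 4021],
   .loop none [.fwd 3953, .bwd 4021],
   .loop none [.fwd 4009, .bwd 4023],
   .loop none [.fwd 3976, .bwd 4023],
   .loop (some (2, 1)) [.fwd 3251, .bwd 3001, .bwd 3866],
   .define,
   .define,
   .loop (some (15, 4)) [.fwd 3866, .fwd 3886, .fwd 3968, .fwd 4029, .fwd 4030],
   .loop (some (5, 1)) [.bwd 3975, .bwd 3886, .bwd 3796],
   .define,
   .loop (some (7, 2)) [.fwd 3891, .bwd 3796, .fwd 4033],
   .loop (some (10, 2)) [.fwd 3866, .bwd 4025, .fwd 2476],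
   .loop (some (11, 2)) [.fwd 3891, .bwd 4025, .fwd 3668],
   .define,
   .loop (some (16, 3)) [.bwd 3890, .fwd 3891, .bwd 3866, .fwd 3867, .fwd 4037],
   .define,
   .loop (some (20, 4)) [.bwd 1895, .bwd 223, .fwd 248, .fwd 249, .bwd 229, .bwd 3796, .bwd 3795, .fwd 4039],
   .loop (some (6, 2)) [.fwd 719, .fwd 3939, .bwd 249, .fwd 3106],
   .loop none [.fwd 4041],
   .loop none [.fwd 3106, .bwd 4042],
   .loop none [.fwd 1917, .bwd 4042],
   .loop none [.fwd 2841, .bwd 4042],
   .loop none [.bwd 3112, .bwd 4042],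
   .loop none [.bwd 3275, .bwd 4042],
   .loop (some (9, 2)) [.fwd 3977, .bwd 3334, .bwd 3684],
   .define,
   .define,
   .define,
   .loop (some (15, 4)) [.fwd 3939, .bwd 3977, .fwd 4049, .fwd 4050, .fwd 4051],
   .loop (some (7, 2)) [.fwd 2756, .fwd 3958, .bwd 249, .fwd 3107],
   .loop none [.bwd 4053],
   .loop none [.bwd 2756, .bwd 4054],
   .loop none [.fwd 3695, .bwd 4054],
   .loop (some (10, 2)) [.fwd 3939, .bwd 3334, .bwd 3677],
   .loop (some (11, 2)) [.fwd 3958, .bwd 3334, .fwd 3049],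
   .loop (some (16, 3)) [.bwd 3957, .fwd 3958, .bwd 3939, .fwd 3940, .bwd 1985],
   .define,
   .define,
   .define,
   .define,
   .define,
   .define,
   .define,
   .define,
   .define,
   .define,
   .define,
   .define,
   .define,
   .define,
   .define,
   .define,
   .define,
   .define,
   .define,
   .define,
   .define,
   .define,
   .define,
   .define,
   .define,
   .define,
   .loop (some (21, 28)) [.fwd 3255, .bwd 3001, .fwd 229, .bwd 3939, .fwd 3940, .fwd 4060, .fwd 4061, .fwd 4062, .fwd 4063, .fwd 4064, .fwd 4065, .fwd 4066, .fwd 4067, .fwd 4068, .fwd 4069, .fwd 4070, .fwd 4071, .fwd 4072, .fwd 4073, .fwd 4074, .fwd 4075, .fwd 4076, .fwd 4077, .fwd 4078, .fwd 4079, .fwd 4080, .fwd 4081, .fwd 4082, .fwd 4083, .fwd 4084, .fwd 4085],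
   .loop (some (3, 3)) [.bwd 2959, .bwd 3262, .fwd 3265, .fwd 3003],
   .loop none [.fwd 4087],
   .loop none [.bwd 1965, .fwd 4088, .bwd 3003],
   .loop none [.fwd 4089],
   .loop none [.fwd 3662, .fwd 4088, .fwd 3004],
   .loop none [.bwd 4091],
   .loop none [.fwd 3621, .bwd 4090],
   .loop none [.fwd 3265, .bwd 4090],
   .loop none [.fwd 3661, .bwd 4092],
   .loop none [.bwd 3662, .bwd 4092],
   .loop (some (4, 1)) [.fwd 4096, .bwd 2959, .fwd 2957],
   .loop (some (20, 1)) [.bwd 3860, .fwd 3733, .bwd 4024, .bwd 3051, .fwd 248, .fwd 249, .fwd 230, .fwd 2959],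
   .loop (some (19, 1)) [.bwd 2825, .fwd 2761, .fwd 2824, .bwd 2819, .bwd 3686, .fwd 3685, .fwd 1934, .bwd 2957, .fwd 3270],
   .loop none [.bwd 4099],
   .loop none [.bwd 3742, .fwd 4100, .fwd 2462],
   .loop none [.bwd 4101],
   .loop none [.fwd 2825, .bwd 4100],
   .loop none [.bwd 3792, .fwd 4100, .bwd 3218],
   .loop none [.bwd 4104],
   .loop none [.fwd 3742, .bwd 4102],
   .loop none [.bwd 2557, .bwd 4102],
   .loop none [.fwd 2556, .bwd 4102],
   .loop none [.fwd 3792, .bwd 4105],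
   .loop none [.bwd 3793, .bwd 4105],
   .loop (some (9, 3)) [.bwd 3270, .bwd 3028, .bwd 926, .fwd 3736],
   .loop none [.fwd 4111],
   .loop none [.fwd 3998, .bwd 4112],
   .loop none [.fwd 3736, .bwd 4112],
   .loop (some (1, 2)) [.bwd 2959, .fwd 3270, .bwd 4109],
   .define,
   .define,
   .loop (some (15, 4)) [.fwd 3262, .fwd 3270, .fwd 3735, .fwd 4116, .fwd 4117],
   .loop (some (10, 2)) [.fwd 3262, .bwd 3028, .fwd 232],
   .loop (some (11, 2)) [.bwd 2957, .bwd 3028, .fwd 246],
   .loop (some (16, 3)) [.fwd 2874, .bwd 2957, .bwd 3262, .fwd 3263, .bwd 2905],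
   .define,
   .define,
   .define,
   .define,
   .define,
   .define,
   .define,
   .define,
   .define,
   .define,
   .define,
   .define,
   .define,
   .define,
   .define,
   .define,
   .define,
   .define,
   .define,
   .define,
   .define,
   .define,
   .define,
   .define,
   .define,
   .define,
   .loop (some (21, 28)) [.bwd 3620, .fwd 2848, .bwd 2959, .bwd 3262, .fwd 3263, .fwd 4122, .fwd 4123, .fwd 4124, .fwd 4125, .fwd 4126, .fwd 4127, .fwd 4128, .fwd 4129, .fwd 4130, .fwd 4131, .fwd 4132, .fwd 4133, .fwd 4134, .fwd 4135, .fwd 4136, .fwd 4137, .fwd 4138, .fwd 4139, .fwd 4140, .fwd 4141, .fwd 4142, .fwd 4143, .fwd 4144, .fwd 4145, .fwd 4146, .fwd 4147],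
   .loop (some (13, 2)) [.bwd 2959, .bwd 3028, .fwd 286],
   .loop (some (4, 2)) [.bwd 3252, .bwd 321, .bwd 675, .fwd 354],
   .loop none [.bwd 4150],
   .loop none [.fwd 3252, .bwd 4151],
   .loop none [.bwd 2008, .bwd 4151],
   .define,
   .define,
   .loop (some (20, 4)) [.bwd 4046, .fwd 719, .fwd 708, .fwd 709, .fwd 321, .fwd 322, .fwd 4154, .fwd 4155],
   .define,
   .define,
   .define,
   .define,
   .loop (some (19, 6)) [.bwd 3277, .fwd 675, .fwd 715, .bwd 3198, .fwd 4157, .fwd 4158, .fwd 4159, .fwd 4160],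
   .define,
   .loop (some (9, 2)) [.bwd 715, .bwd 4047, .fwd 4162],
   .loop (some (0, 1)) [.fwd 4047, .fwd 4119],
   .loop (some (1, 1)) [.bwd 3808, .bwd 321, .fwd 715],
   .loop (some (5, 2)) [.bwd 715, .bwd 709, .bwd 4118],
   .loop (some (7, 2)) [.fwd 661, .fwd 675, .bwd 709, .fwd 3263],
   .loop none [.fwd 4167],
   .loop none [.fwd 2905, .bwd 4168],
   .loop none [.fwd 3263, .bwd 4168],
   .loop none [.bwd 4122, .bwd 4168],
   .loop (some (11, 2)) [.fwd 675, .bwd 4047, .fwd 4044],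
   .define,
   .define,
   .define,
   .define,
   .define,
   .define,
   .define,
   .define,
   .define,
   .define,
   .define,
   .define,
   .define,
   .define,
   .define,
   .define,
   .define,
   .define,
   .define,
   .define,
   .define,
   .define,
   .define,
   .define,
   .loop (some (21, 27)) [.bwd 4037, .bwd 3867, .fwd 4028, .bwd 321, .bwd 232, .fwd 246, .bwd 1996, .fwd 4173, .fwd 4174, .fwd 4175, .fwd 4176, .fwd 4177, .fwd 4178, .fwd 4179, .fwd 4180, .fwd 4181, .fwd 4182, .fwd 4183, .fwd 4184, .fwd 4185, .fwd 4186, .fwd 4187, .fwd 4188, .fwd 4189, .fwd 4190, .fwd 4191, .fwd 4192, .fwd 4193, .fwd 4194, .fwd 4195, .fwd 4196],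
   .loop (some (13, 2)) [.bwd 321, .bwd 4047, .fwd 4046],
   .define,
   .define,
   .loop (some (14, 3)) [.bwd 4199, .bwd 933, .fwd 4199, .fwd 4200],
   .define,
   .define,
   .define,
   .define,
   .loop (some (20, 7)) [.bwd 932, .fwd 931, .bwd 716, .fwd 4165, .fwd 4202, .fwd 4203, .fwd 4204, .fwd 4205],
   .loop (some (8, 1)) [.fwd 2052, .bwd 2693, .fwd 4199],
   .loop (some (7, 1)) [.fwd 375, .fwd 2701, .fwd 932],
   .define,
   .loop (some (18, 3)) [.fwd 4205, .fwd 4206, .bwd 932, .fwd 4199, .bwd 4201, .fwd 4209],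
   .loop (some (16, 4)) [.bwd 370, .fwd 2701, .fwd 241, .fwd 3167, .bwd 642, .bwd 2402],
   .loop none [.fwd 4211],
   .loop none [.bwd 669, .fwd 4212, .fwd 2402],
   .loop none [.fwd 4213],
   .loop none [.bwd 1535, .bwd 4212],
   .loop none [.fwd 641, .bwd 4214],
   .loop none [.bwd 642, .bwd 4214],
   .loop none [.bwd 3561, .bwd 4214],
   .define,
   .define,
   .loop (some (14, 3)) [.bwd 4219, .bwd 714, .fwd 4219, .fwd 4220],
   .define,
   .define,
   .define,
   .define,
   .loop (some (20, 6)) [.fwd 4166, .fwd 716, .bwd 931, .fwd 932, .fwd 4222, .fwd 4223, .fwd 4224, .fwd 4225],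
   .loop (some (8, 1)) [.bwd 3139, .fwd 764, .fwd 3171, .fwd 4219],
   .loop none [.fwd 4227],
   .loop none [.fwd 4221, .bwd 4228],
   .loop none [.fwd 4219, .bwd 4228],
   .loop none [.bwd 4220, .bwd 4228],
   .loop (some (7, 1)) [.fwd 672, .bwd 3167, .bwd 716],
   .define,
   .loop (some (18, 3)) [.fwd 4226, .fwd 4166, .fwd 716, .bwd 4230, .fwd 4229, .fwd 4233],
   .loop (some (3, 2)) [.fwd 4086, .bwd 2552, .fwd 2753, .bwd 3333],
   .loop none [.bwd 4235],
   .loop none [.bwd 4086, .bwd 4236],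
   .loop none [.bwd 3333, .fwd 4236, .bwd 4085],
   .loop none [.fwd 4238],
   .loop none [.fwd 3351, .fwd 4239, .bwd 4084],
   .loop none [.fwd 4240],
   .loop none [.fwd 4083, .bwd 4241],
   .define,
   .define,
   .define,
   .loop (some (20, 5)) [.fwd 4055, .bwd 3274, .fwd 3273, .fwd 2552, .fwd 2553, .fwd 4243, .fwd 4244, .fwd 4245],
   .loop (some (6, 2)) [.bwd 2753, .bwd 3273, .bwd 2874],
   .loop (some (9, 1)) [.fwd 3785, .fwd 2736, .bwd 3276],
   .loop (some (0, 1)) [.fwd 3276, .fwd 4120]]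

theorem just16_len : just16.length = 250 := by decide +kernel

theorem just16_ok : cert.okFacts 4000 just16 = true := by decide +kernel

/-- justifications -/
noncomputable def just17 : List Cert.Just :=
  [.loop (some (1, 2)) [.bwd 2552, .bwd 2736, .fwd 2747],
   .loop (some (2, 2)) [.fwd 1996, .fwd 2753, .bwd 3351],
   .define,
   .loop (some (15, 4)) [.bwd 2753, .bwd 2736, .fwd 2558, .fwd 3349, .fwd 4252],
   .loop (some (5, 1)) [.fwd 4107, .fwd 2736, .bwd 3273],
   .loop (some (10, 2)) [.bwd 2753, .bwd 3276, .bwd 3079],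
   .loop (some (17, 2)) [.bwd 2965, .bwd 3256, .bwd 2552, .bwd 1996, .fwd 4173],
   .define,
   .define,
   .define,
   .define,
   .define,
   .define,
   .define,
   .define,
   .define,
   .define,
   .define,
   .define,
   .define,
   .define,
   .define,
   .define,
   .define,
   .define,
   .define,
   .define,
   .define,
   .define,
   .define,
   .define,
   .define,
   .define,
   .define,
   .loop (some (21, 29)) [.bwd 3256, .bwd 2552, .fwd 2753, .bwd 647, .fwd 4257, .fwd 4258, .fwd 4259, .fwd 4260, .fwd 4261, .fwd 4262, .fwd 4263, .fwd 4264, .fwd 4265, .fwd 4266, .fwd 4267, .fwd 4268, .fwd 4269, .fwd 4270, .fwd 4271, .fwd 4272, .fwd 4273, .fwd 4274, .fwd 4275, .fwd 4276, .fwd 4277, .fwd 4278, .fwd 4279, .fwd 4280, .fwd 4281, .fwd 4282, .fwd 4283],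
   .loop (some (12, 2)) [.fwd 1996, .bwd 3276, .bwd 2505],
   .loop (some (13, 2)) [.bwd 2552, .bwd 3276, .bwd 4246],
   .loop (some (3, 3)) [.bwd 3109, .bwd 4043, .fwd 4046, .fwd 3113],
   .loop none [.fwd 4287],
   .loop none [.bwd 2525, .fwd 4288, .bwd 3113],
   .loop none [.fwd 4289],
   .loop none [.fwd 3726, .fwd 4288, .fwd 3114],
   .loop none [.bwd 4291],
   .loop none [.fwd 4046, .bwd 4290],
   .loop none [.fwd 4156, .bwd 4290],
   .loop none [.bwd 4198, .bwd 4290],
   .loop none [.fwd 3725, .bwd 4292],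
   .loop none [.bwd 3726, .bwd 4292],
   .loop (some (4, 2)) [.fwd 4297, .bwd 3109, .fwd 3107, .bwd 4246],
   .loop none [.fwd 4298],
   .loop none [.bwd 4246, .bwd 4299],
   .loop none [.fwd 4245, .bwd 4299],
   .loop none [.bwd 4286, .bwd 4299],
   .loop (some (20, 2)) [.bwd 3687, .fwd 285, .bwd 283, .bwd 14, .fwd 221, .bwd 223, .fwd 248, .fwd 3109, .fwd 3961],
   .loop none [.fwd 4303],
   .loop none [.fwd 3961, .bwd 4304],
   .loop none [.bwd 3962, .bwd 4304],
   .define,
   .loop (some (15, 3)) [.bwd 4162, .fwd 4043, .bwd 3991, .fwd 3992, .fwd 4307],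
   .loop (some (16, 3)) [.fwd 3079, .bwd 3107, .bwd 4043, .fwd 4044, .bwd 1916],
   .define,
   .define,
   .define,
   .define,
   .define,
   .define,
   .define,
   .define,
   .define,
   .define,
   .define,
   .define,
   .define,
   .define,
   .define,
   .define,
   .define,
   .define,
   .define,
   .define,
   .define,
   .define,
   .define,
   .define,
   .define,
   .define,
   .loop (some (21, 28)) [.bwd 3668, .fwd 3053, .bwd 3109, .bwd 4043, .fwd 4044, .fwd 4310, .fwd 4311, .fwd 4312, .fwd 4313, .fwd 4314, .fwd 4315, .fwd 4316, .fwd 4317, .fwd 4318, .fwd 4319, .fwd 4320, .fwd 4321, .fwd 4322, .fwd 4323, .fwd 4324, .fwd 4325, .fwd 4326, .fwd 4327, .fwd 4328, .fwd 4329, .fwd 4330, .fwd 4331, .fwd 4332, .fwd 4333, .fwd 4334, .fwd 4335],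
   .loop (some (13, 2)) [.bwd 3109, .bwd 3138, .fwd 2959],
   .define,
   .define,
   .loop (some (14, 3)) [.bwd 4338, .bwd 651, .fwd 4338, .fwd 4339],
   .define,
   .define,
   .define,
   .define,
   .loop (some (20, 6)) [.fwd 4247, .fwd 648, .bwd 881, .fwd 882, .fwd 4341, .fwd 4342, .fwd 4343, .fwd 4344],
   .define,
   .loop (some (19, 2)) [.fwd 2639, .fwd 594, .bwd 2589, .fwd 265, .fwd 1012, .fwd 252, .fwd 2733, .fwd 4346],
   .loop (some (9, 2)) [.bwd 2733, .bwd 651, .fwd 2733],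
   .loop (some (5, 2)) [.bwd 2733, .bwd 648, .bwd 4253],
   .loop (some (8, 1)) [.bwd 882, .fwd 2574, .fwd 4338],
   .define,
   .loop (some (18, 3)) [.fwd 4345, .fwd 4247, .fwd 648, .fwd 4338, .bwd 4340, .fwd 4351],
   .define,
   .define,
   .loop (some (14, 3)) [.bwd 4353, .bwd 700, .fwd 4353, .fwd 4354],
   .loop (some (4, 2)) [.fwd 474, .bwd 255, .bwd 409, .fwd 3176],
   .loop none [.fwd 4356],
   .loop none [.fwd 473, .fwd 4357, .fwd 3177],
   .loop none [.fwd 4358],
   .loop none [.bwd 3400, .fwd 4357, .bwd 3176],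
   .loop none [.bwd 4360],
   .loop none [.bwd 3178, .bwd 4359],
   .loop none [.fwd 408, .fwd 4361, .fwd 1330],
   .loop none [.fwd 4363],
   .loop none [.fwd 3400, .bwd 4361],
   .loop none [.bwd 1331, .bwd 4364],
   .define,
   .define,
   .define,
   .define,
   .define,
   .loop (some (20, 7)) [.fwd 674, .fwd 255, .bwd 506, .fwd 4367, .fwd 4368, .fwd 4369, .fwd 4370, .fwd 4371],
   .loop (some (6, 1)) [.bwd 1014, .fwd 1011, .bwd 674],
   .loop (some (19, 0)) [.bwd 664, .bwd 3167, .bwd 3171, .fwd 3170, .fwd 3171, .fwd 3167, .fwd 664, .fwd 409],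
   .loop (some (9, 2)) [.bwd 4374, .bwd 700, .fwd 4374],
   .loop (some (1, 2)) [.bwd 255, .fwd 4374, .fwd 4365],
   .define,
   .define,
   .loop (some (15, 4)) [.fwd 1011, .fwd 4374, .bwd 408, .fwd 4377, .fwd 4378],
   .define,
   .loop (some (5, 2)) [.bwd 4374, .bwd 674, .fwd 4380],
   .loop (some (8, 1)) [.bwd 3277, .bwd 353, .fwd 254, .fwd 4353],
   .loop none [.fwd 4382],
   .loop none [.fwd 4355, .bwd 4383],
   .loop none [.fwd 4353, .bwd 4383],
   .loop none [.bwd 4354, .bwd 4383],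
   .loop (some (7, 1)) [.fwd 4381, .fwd 409, .bwd 674],
   .define,
   .loop (some (18, 3)) [.fwd 4371, .fwd 4372, .fwd 674, .bwd 4385, .fwd 4384, .fwd 4388],
   .loop (some (16, 3)) [.bwd 4366, .fwd 408, .fwd 409, .bwd 1011, .bwd 265, .bwd 264],
   .loop none [.bwd 4390],
   .loop none [.fwd 4366, .bwd 4391],
   .loop none [.bwd 1332, .bwd 4391],
   .define,
   .define,
   .loop (some (14, 3)) [.bwd 4394, .bwd 513, .fwd 4394, .fwd 4395],
   .define,
   .define,
   .define,
   .define,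
   .define,
   .loop (some (20, 7)) [.fwd 506, .bwd 255, .bwd 674, .fwd 4397, .fwd 4398, .fwd 4399, .fwd 4400, .fwd 4401],
   .loop (some (6, 1)) [.fwd 531, .bwd 256, .bwd 506],
   .loop (some (9, 2)) [.fwd 4376, .bwd 513, .bwd 4376],
   .define,
   .define,
   .loop (some (15, 4)) [.bwd 256, .bwd 4376, .bwd 473, .fwd 4405, .fwd 4406],
   .define,
   .loop (some (5, 2)) [.fwd 4376, .bwd 506, .fwd 4408],
   .loop (some (8, 1)) [.bwd 418, .fwd 381, .fwd 4394],
   .loop (some (7, 1)) [.fwd 4409, .fwd 474, .bwd 506],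
   .define,
   .loop (some (18, 3)) [.fwd 4401, .fwd 4402, .fwd 506, .fwd 4394, .bwd 4396, .fwd 4412],
   .loop (some (16, 3)) [.bwd 4362, .fwd 473, .fwd 474, .fwd 256, .fwd 257, .bwd 581],
   .loop none [.bwd 4414],
   .loop none [.fwd 4362, .bwd 4415],
   .loop none [.bwd 3179, .bwd 4415],
   .define,
   .define,
   .loop (some (14, 3)) [.bwd 4418, .bwd 536, .fwd 4418, .fwd 4419],
   .loop (some (4, 1)) [.fwd 265, .fwd 1013, .fwd 257],
   .define,
   .define,
   .define,
   .define,
   .define,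
   .loop (some (20, 7)) [.fwd 531, .bwd 1013, .fwd 1014, .fwd 4422, .fwd 4423, .fwd 4424, .fwd 4425, .fwd 4426],
   .define,
   .loop (some (19, 2)) [.fwd 546, .fwd 547, .fwd 548, .fwd 549, .bwd 258, .bwd 257, .bwd 4407, .fwd 4428],
   .loop (some (9, 2)) [.fwd 4407, .bwd 536, .bwd 4407],
   .loop (some (1, 1)) [.fwd 4379, .fwd 1013, .bwd 4407],
   .define,
   .loop (some (5, 2)) [.fwd 4407, .bwd 531, .fwd 4432],
   .loop (some (8, 1)) [.fwd 486, .bwd 497, .fwd 4418],
   .define,
   .loop (some (7, 2)) [.bwd 257, .bwd 531, .fwd 4435],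
   .define,
   .loop (some (18, 3)) [.fwd 4426, .fwd 4427, .fwd 531, .fwd 4418, .bwd 4420, .fwd 4437],
   .loop (some (11, 2)) [.bwd 257, .bwd 536, .fwd 257],
   .loop (some (3, 2)) [.fwd 264, .bwd 4421, .bwd 581, .bwd 580],
   .loop none [.fwd 4440],
   .loop none [.bwd 4393, .fwd 4441, .bwd 579],
   .loop none [.bwd 4442],
   .loop none [.fwd 263, .fwd 4441, .fwd 580],
   .loop none [.fwd 4444],
   .loop none [.fwd 4393, .bwd 4443],
   .loop none [.bwd 1333, .bwd 4443],
   .loop none [.bwd 581, .bwd 4445],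
   .loop none [.bwd 4416, .bwd 4445],
   .loop none [.fwd 262, .fwd 4445, .fwd 4417],
   .loop none [.fwd 4450],
   .loop none [.bwd 3180, .bwd 4451],
   .define,
   .define,
   .loop (some (14, 3)) [.bwd 4453, .bwd 4439, .fwd 4453, .fwd 4454],
   .define,
   .define,
   .define,
   .define,
   .define,
   .define,
   .loop (some (20, 7)) [.fwd 4436, .fwd 4421, .fwd 4456, .fwd 4457, .fwd 4458, .fwd 4459, .fwd 4460, .fwd 4461],
   .define,
   .loop (some (6, 2)) [.fwd 4448, .bwd 4436, .fwd 4463],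
   .loop (some (19, 0)) [.fwd 4379, .fwd 1012, .fwd 252, .bwd 2574, .bwd 888, .bwd 21, .bwd 20, .bwd 497, .fwd 257],
   .loop none [.bwd 4465],
   .loop none [.bwd 4379, .bwd 4466],
   .loop none [.fwd 4448, .fwd 4466, .bwd 4378],
   .loop none [.fwd 4468],
   .loop none [.bwd 4421, .fwd 4466, .bwd 4431],
   .loop none [.fwd 4470],
   .loop none [.fwd 4377, .bwd 4469],
   .loop none [.bwd 4407, .bwd 4471],
   .loop none [.fwd 264, .fwd 4471, .bwd 4406],
   .loop none [.fwd 4474],
   .loop none [.bwd 2589, .fwd 4471, .fwd 4428],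
   .loop none [.fwd 4476],
   .loop none [.bwd 4456, .fwd 4471, .bwd 4433],
   .loop none [.bwd 4478],
   .loop none [.fwd 4471, .bwd 4430, .bwd 4471],
   .loop none [.fwd 4405, .bwd 4475],
   .loop none [.fwd 594, .fwd 4477, .fwd 4429],
   .loop none [.bwd 4482],
   .loop none [.bwd 4457, .bwd 4479],
   .loop none [.fwd 4456, .bwd 4479],
   .loop none [.bwd 594, .bwd 4483],
   .loop none [.bwd 546, .fwd 4483, .bwd 2639],
   .loop none [.bwd 4487],
   .loop none [.fwd 4347, .fwd 4488, .fwd 547],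
   .loop none [.bwd 4489],
   .loop none [.fwd 546, .bwd 4488],
   .loop none [.bwd 4347, .bwd 4490],
   .loop none [.bwd 548, .fwd 4490, .bwd 4346],
   .loop none [.fwd 4493],
   .loop none [.fwd 2733, .bwd 4494],
   .loop none [.fwd 3346, .bwd 4494],
   .loop none [.fwd 3348, .bwd 4494],
   .loop none [.fwd 4349, .bwd 4494],
   .loop none [.fwd 4494, .bwd 4348, .bwd 4494]]

theorem just17_len : just17.length = 250 := by decide +kernel

theorem just17_ok : cert.okFacts 4250 just17 = true := by decide +kernel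

/-- justifications -/
noncomputable def just18 : List Cert.Just :=
  [.loop (some (2, 2)) [.bwd 2625, .bwd 258, .bwd 4448, .bwd 262],
   .loop none [.bwd 4500],
   .loop none [.fwd 4216, .bwd 4501],
   .loop none [.fwd 2625, .bwd 4501],
   .loop (some (5, 1)) [.bwd 1014, .bwd 4467, .bwd 4436],
   .loop (some (8, 1)) [.bwd 2628, .bwd 258, .fwd 4453],
   .define,
   .loop (some (18, 3)) [.fwd 4461, .fwd 4462, .fwd 4436, .fwd 4453, .bwd 4455, .fwd 4506],
   .loop (some (10, 2)) [.fwd 4448, .bwd 4439, .bwd 4448],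
   .define,
   .define,
   .define,
   .define,
   .define,
   .define,
   .define,
   .define,
   .define,
   .define,
   .define,
   .define,
   .define,
   .define,
   .define,
   .define,
   .define,
   .define,
   .define,
   .define,
   .define,
   .define,
   .define,
   .define,
   .define,
   .loop (some (21, 27)) [.fwd 435, .fwd 4486, .bwd 2589, .bwd 4421, .bwd 4448, .fwd 4449, .fwd 4509, .fwd 4510, .fwd 4511, .fwd 4512, .fwd 4513, .fwd 4514, .fwd 4515, .fwd 4516, .fwd 4517, .fwd 4518, .fwd 4519, .fwd 4520, .fwd 4521, .fwd 4522, .fwd 4523, .fwd 4524, .fwd 4525, .fwd 4526, .fwd 4527, .fwd 4528, .fwd 4529, .fwd 4530, .fwd 4531, .fwd 4532, .fwd 4533],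
   .loop (some (3, 3)) [.bwd 259, .bwd 4503, .fwd 4452, .fwd 3181],
   .loop none [.fwd 4535],
   .loop none [.bwd 260, .fwd 4536, .bwd 3181],
   .loop none [.fwd 4537],
   .loop none [.fwd 4492, .fwd 4536, .fwd 3182],
   .loop none [.fwd 4539],
   .loop none [.fwd 4452, .bwd 4538],
   .loop none [.bwd 548, .fwd 4540, .fwd 3183],
   .loop none [.fwd 4542],
   .loop none [.bwd 4497, .fwd 4543, .fwd 3184],
   .loop none [.fwd 4544],
   .loop none [.fwd 4496, .fwd 4545, .fwd 3185],
   .loop none [.fwd 4546],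
   .loop none [.bwd 549, .fwd 4547, .fwd 3186],
   .loop none [.fwd 4548],
   .loop none [.fwd 258, .fwd 4549, .fwd 3187],
   .loop none [.fwd 4550],
   .loop none [.bwd 4421, .fwd 4551, .fwd 3188],
   .loop none [.fwd 4552],
   .loop none [.fwd 264, .fwd 4553, .fwd 3189],
   .loop none [.fwd 4554],
   .loop none [.bwd 4392, .fwd 4555, .fwd 3190],
   .loop none [.fwd 4556],
   .loop none [.bwd 3191, .bwd 4557],
   .define,
   .define,
   .loop (some (14, 3)) [.bwd 4559, .bwd 2629, .fwd 4559, .fwd 4560],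
   .define,
   .define,
   .define,
   .define,
   .define,
   .loop (some (20, 7)) [.bwd 2628, .fwd 259, .fwd 2640, .fwd 4562, .fwd 4563, .fwd 4564, .fwd 4565, .fwd 4566],
   .define,
   .loop (some (6, 2)) [.fwd 4503, .fwd 2628, .fwd 4568],
   .loop (some (8, 1)) [.fwd 4436, .fwd 258, .fwd 4559],
   .loop (some (7, 1)) [.bwd 4498, .fwd 549, .fwd 2628],
   .define,
   .loop (some (18, 3)) [.fwd 4566, .fwd 4567, .bwd 2628, .fwd 4559, .bwd 4561, .fwd 4572],
   .loop (some (10, 2)) [.fwd 4503, .bwd 2629, .bwd 4503],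
   .define,
   .define,
   .define,
   .define,
   .define,
   .define,
   .define,
   .define,
   .define,
   .define,
   .define,
   .define,
   .define,
   .define,
   .define,
   .define,
   .define,
   .define,
   .define,
   .define,
   .define,
   .define,
   .define,
   .define,
   .define,
   .loop (some (21, 27)) [.fwd 501, .bwd 4486, .bwd 4491, .bwd 259, .bwd 4503, .bwd 261, .fwd 4575, .fwd 4576, .fwd 4577, .fwd 4578, .fwd 4579, .fwd 4580, .fwd 4581, .fwd 4582, .fwd 4583, .fwd 4584, .fwd 4585, .fwd 4586, .fwd 4587, .fwd 4588, .fwd 4589, .fwd 4590, .fwd 4591, .fwd 4592, .fwd 4593, .fwd 4594, .fwd 4595, .fwd 4596, .fwd 4597, .fwd 4598, .fwd 4599],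
   .define,
   .define,
   .loop (some (14, 3)) [.bwd 4601, .bwd 2641, .fwd 4601, .fwd 4602],
   .define,
   .define,
   .define,
   .define,
   .define,
   .loop (some (20, 7)) [.bwd 2640, .bwd 259, .fwd 2628, .fwd 4604, .fwd 4605, .fwd 4606, .fwd 4607, .fwd 4608],
   .define,
   .loop (some (6, 2)) [.bwd 260, .fwd 2640, .fwd 4610],
   .loop (some (2, 2)) [.fwd 435, .bwd 4491, .fwd 260, .fwd 4575],
   .loop none [.fwd 4612],
   .loop none [.fwd 4575, .bwd 4613],
   .loop (some (8, 1)) [.fwd 552, .bwd 4491, .fwd 4601],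
   .loop (some (7, 1)) [.fwd 3350, .fwd 4492, .fwd 2640],
   .define,
   .loop (some (18, 3)) [.fwd 4608, .fwd 4609, .bwd 2640, .fwd 4601, .bwd 4603, .fwd 4617],
   .loop (some (10, 2)) [.bwd 260, .bwd 2641, .fwd 260],
   .define,
   .define,
   .loop (some (14, 3)) [.bwd 4620, .bwd 4619, .fwd 4620, .fwd 4621],
   .define,
   .define,
   .define,
   .define,
   .define,
   .loop (some (20, 7)) [.fwd 4611, .fwd 4541, .bwd 4569, .fwd 4623, .fwd 4624, .fwd 4625, .fwd 4626, .fwd 4627],
   .define,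
   .define,
   .loop (some (19, 4)) [.bwd 4509, .bwd 4449, .bwd 262, .bwd 261, .fwd 2654, .fwd 4215, .fwd 4629, .fwd 4630],
   .loop (some (9, 2)) [.bwd 2654, .bwd 4619, .fwd 2654],
   .loop (some (1, 2)) [.bwd 4502, .bwd 4541, .fwd 2654, .bwd 3192],
   .loop none [.fwd 4633],
   .loop none [.bwd 455, .fwd 4634, .bwd 4558],
   .loop none [.bwd 4635],
   .loop none [.bwd 4218, .fwd 4634, .fwd 3192],
   .loop none [.bwd 4637],
   .loop none [.fwd 455, .bwd 4636],
   .loop none [.fwd 407, .fwd 4636, .fwd 456],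
   .loop none [.fwd 4640],
   .loop none [.bwd 4215, .fwd 4638, .bwd 1480],
   .loop none [.bwd 4642],
   .loop none [.fwd 4218, .bwd 4638],
   .loop none [.bwd 457, .bwd 4641],
   .loop none [.fwd 1479, .fwd 4643, .fwd 4629],
   .loop none [.fwd 4646],
   .loop none [.fwd 4215, .bwd 4643],
   .loop none [.bwd 1536, .bwd 4643],
   .loop none [.bwd 4630, .bwd 4647],
   .define,
   .loop (some (5, 2)) [.bwd 2654, .bwd 4611, .fwd 4651],
   .define,
   .loop (some (8, 2)) [.fwd 4614, .fwd 4620, .fwd 4653],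
   .loop (some (7, 1)) [.fwd 4569, .bwd 261, .bwd 4611],
   .define,
   .loop (some (18, 3)) [.fwd 4627, .fwd 4628, .fwd 4611, .fwd 4620, .bwd 4622, .fwd 4656],
   .loop (some (17, 3)) [.bwd 263, .bwd 262, .bwd 4541, .bwd 4614, .bwd 4534, .bwd 4533],
   .loop none [.fwd 4658],
   .loop none [.fwd 4446, .fwd 4659, .fwd 4533],
   .loop none [.fwd 4660],
   .loop none [.bwd 4447, .fwd 4661, .fwd 4534],
   .loop none [.bwd 4662],
   .loop none [.bwd 435, .fwd 4663, .fwd 1334],
   .loop none [.fwd 4664],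
   .loop none [.fwd 4447, .bwd 4663],
   .loop none [.bwd 4486, .fwd 4665, .fwd 1335],
   .loop none [.fwd 4667],
   .loop none [.fwd 2589, .fwd 4668, .fwd 1336],
   .loop none [.fwd 4669],
   .loop none [.fwd 4421, .fwd 4670, .fwd 1337],
   .loop none [.fwd 4671],
   .loop none [.fwd 4448, .fwd 4672, .fwd 1338],
   .loop none [.fwd 4673],
   .loop none [.bwd 4449, .fwd 4674, .fwd 1339],
   .loop none [.fwd 4675],
   .loop none [.bwd 4509, .fwd 4676, .fwd 1340],
   .loop none [.bwd 4677],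
   .loop none [.fwd 4631, .bwd 4678],
   .loop none [.fwd 4509, .bwd 4678],
   .loop (some (12, 2)) [.fwd 4614, .bwd 4619, .bwd 4614],
   .define,
   .define,
   .loop (some (14, 3)) [.bwd 4682, .bwd 4574, .fwd 4682, .fwd 4683],
   .define,
   .define,
   .define,
   .define,
   .define,
   .loop (some (20, 7)) [.fwd 4569, .bwd 4541, .bwd 4611, .fwd 4685, .fwd 4686, .fwd 4687, .fwd 4688, .fwd 4689],
   .loop (some (19, 5)) [.bwd 575, .bwd 3485, .fwd 4614, .fwd 261, .fwd 4502, .bwd 4639, .bwd 4392, .bwd 4446, .bwd 578],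
   .loop none [.fwd 4691],
   .loop none [.bwd 578, .bwd 4692],
   .loop (some (9, 2)) [.bwd 4502, .bwd 4574, .fwd 4502],
   .define,
   .loop (some (5, 2)) [.bwd 4502, .bwd 4569, .fwd 4695],
   .loop (some (8, 1)) [.fwd 4464, .bwd 262, .fwd 4682],
   .define,
   .loop (some (18, 3)) [.fwd 4689, .fwd 4690, .fwd 4569, .fwd 4682, .bwd 4684, .fwd 4698],
   .define,
   .define,
   .define,
   .define,
   .define,
   .loop (some (14, 3)) [.bwd 4703, .bwd 4508, .fwd 4703, .fwd 4704],
   .loop (some (4, 2)) [.bwd 4392, .bwd 263, .fwd 4449, .bwd 472],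
   .loop none [.fwd 4706],
   .loop none [.fwd 407, .fwd 4707, .fwd 472],
   .loop none [.fwd 4708],
   .loop none [.fwd 4481, .bwd 4709],
   .loop none [.bwd 4645, .fwd 4709, .fwd 473],
   .loop none [.fwd 4711],
   .loop none [.fwd 4449, .bwd 4709],
   .loop none [.fwd 406, .fwd 4709, .bwd 4680],
   .loop none [.fwd 4714],
   .loop none [.fwd 3467, .bwd 4712],
   .loop none [.fwd 4365, .bwd 4712],
   .loop none [.fwd 4409, .bwd 4712],
   .loop none [.fwd 4712, .bwd 4404, .bwd 4712],
   .loop none [.fwd 405, .fwd 4715, .fwd 4679],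
   .loop none [.fwd 4720],
   .loop none [.fwd 2725, .bwd 4715],
   .loop none [.fwd 4650, .bwd 4721],
   .define,
   .define,
   .define,
   .define,
   .define,
   .define,
   .loop (some (20, 7)) [.fwd 4464, .fwd 263, .fwd 4724, .fwd 4725, .fwd 4726, .fwd 4727, .fwd 4728, .fwd 4729],
   .loop (some (9, 2)) [.bwd 4472, .bwd 4508, .fwd 4472],
   .define,
   .loop (some (5, 2)) [.bwd 4472, .bwd 4464, .fwd 4732],
   .loop (some (8, 1)) [.fwd 4569, .fwd 262, .fwd 4703],
   .define,
   .loop (some (7, 2)) [.fwd 4713, .bwd 4464, .fwd 4735],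
   .define,
   .loop (some (18, 3)) [.fwd 4729, .fwd 4730, .fwd 4464, .fwd 4703, .bwd 4705, .fwd 4737],
   .loop (some (11, 2)) [.fwd 4713, .bwd 4508, .bwd 4713],
   .loop (some (13, 2)) [.bwd 263, .bwd 4508, .fwd 263],
   .define,
   .define,
   .loop (some (14, 3)) [.bwd 4741, .bwd 4740, .fwd 4741, .fwd 4742],
   .define,
   .define,
   .define,
   .define,
   .define,
   .loop (some (20, 7)) [.bwd 4724, .bwd 263, .bwd 4464, .fwd 4744, .fwd 4745, .fwd 4746, .fwd 4747, .fwd 4748]]

theorem just18_len : just18.length = 250 := by decide +kernel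

theorem just18_ok : cert.okFacts 4500 just18 = true := by decide +kernel

/-- justifications -/
noncomputable def just19 : List Cert.Just :=
  [.loop (some (6, 1)) [.fwd 4485, .bwd 264, .fwd 4724],
   .loop (some (2, 3)) [.fwd 4446, .fwd 264, .fwd 2589, .bwd 501],
   .loop none [.bwd 4751],
   .loop none [.bwd 4700, .fwd 4752, .bwd 4693],
   .loop none [.bwd 4753],
   .loop none [.bwd 4446, .bwd 4752],
   .loop none [.fwd 4600, .fwd 4752, .bwd 4666],
   .loop none [.bwd 4756],
   .loop none [.fwd 4700, .bwd 4754],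
   .loop none [.fwd 575, .fwd 4754, .fwd 4701],
   .loop none [.fwd 4759],
   .loop none [.bwd 4600, .bwd 4757],
   .loop none [.bwd 4702, .bwd 4760],
   .loop (some (5, 1)) [.fwd 4736, .fwd 4710, .fwd 4724],
   .define,
   .loop (some (8, 2)) [.fwd 4755, .fwd 4741, .fwd 4764],
   .loop (some (7, 1)) [.fwd 4733, .bwd 4392, .fwd 4724],
   .define,
   .loop (some (18, 3)) [.fwd 4748, .fwd 4749, .bwd 4724, .fwd 4741, .bwd 4743, .fwd 4767],
   .define,
   .define,
   .loop (some (14, 3)) [.bwd 4769, .bwd 4480, .fwd 4769, .fwd 4770],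
   .define,
   .define,
   .define,
   .define,
   .define,
   .loop (some (20, 7)) [.fwd 4485, .bwd 4421, .bwd 4436, .fwd 4772, .fwd 4773, .fwd 4774, .fwd 4775, .fwd 4776],
   .loop (some (8, 1)) [.fwd 529, .bwd 2589, .fwd 4769],
   .loop (some (7, 1)) [.bwd 1014, .bwd 265, .bwd 4485],
   .define,
   .loop (some (18, 3)) [.fwd 4776, .fwd 4777, .fwd 4485, .fwd 4769, .bwd 4771, .fwd 4780],
   .define,
   .define,
   .loop (some (14, 3)) [.bwd 4782, .bwd 1015, .fwd 4782, .fwd 4783],
   .define,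
   .define,
   .define,
   .define,
   .define,
   .loop (some (20, 7)) [.bwd 1014, .fwd 1013, .bwd 531, .fwd 4785, .fwd 4786, .fwd 4787, .fwd 4788, .fwd 4789],
   .loop (some (8, 1)) [.bwd 4257, .bwd 586, .bwd 1012, .fwd 4782],
   .loop none [.fwd 4791],
   .loop none [.fwd 4784, .bwd 4792],
   .loop none [.fwd 4782, .bwd 4792],
   .loop none [.bwd 4783, .bwd 4792],
   .define,
   .loop (some (18, 3)) [.fwd 4789, .fwd 4790, .bwd 1014, .bwd 4794, .fwd 4793, .fwd 4796],
   .define,
   .loop (some (3, 2)) [.bwd 3216, .bwd 3213, .fwd 4798],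
   .loop (some (4, 2)) [.bwd 3216, .fwd 1995, .fwd 4173],
   .define,
   .define,
   .define,
   .loop (some (20, 4)) [.fwd 4109, .fwd 291, .bwd 225, .fwd 283, .fwd 3216, .fwd 4801, .fwd 4802, .fwd 4803],
   .loop (some (10, 2)) [.fwd 3213, .bwd 3982, .fwd 4049],
   .loop (some (16, 1)) [.fwd 4082, .bwd 4242, .fwd 4251, .bwd 1995, .bwd 3213],
   .define,
   .define,
   .define,
   .define,
   .define,
   .define,
   .define,
   .define,
   .define,
   .define,
   .define,
   .define,
   .define,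
   .define,
   .define,
   .define,
   .define,
   .define,
   .define,
   .define,
   .define,
   .define,
   .define,
   .define,
   .define,
   .define,
   .define,
   .loop (some (21, 29)) [.bwd 3217, .bwd 3216, .bwd 3213, .fwd 4806, .fwd 4807, .fwd 4808, .fwd 4809, .fwd 4810, .fwd 4811, .fwd 4812, .fwd 4813, .fwd 4814, .fwd 4815, .fwd 4816, .fwd 4817, .fwd 4818, .fwd 4819, .fwd 4820, .fwd 4821, .fwd 4822, .fwd 4823, .fwd 4824, .fwd 4825, .fwd 4826, .fwd 4827, .fwd 4828, .fwd 4829, .fwd 4830, .fwd 4831, .fwd 4832, .fwd 4833],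
   .loop (some (13, 2)) [.bwd 3216, .bwd 3982, .bwd 289],
   .define,
   .loop (some (3, 2)) [.bwd 3687, .fwd 3689, .fwd 4836],
   .define,
   .loop (some (4, 2)) [.bwd 3687, .fwd 3685, .fwd 4838],
   .loop (some (6, 3)) [.bwd 3689, .fwd 285, .bwd 3213, .bwd 319],
   .loop none [.bwd 4840],
   .loop none [.bwd 3690, .bwd 4841],
   .loop none [.fwd 3689, .bwd 4841],
   .loop none [.bwd 4836, .bwd 4841],
   .loop (some (2, 1)) [.fwd 3209, .bwd 3686, .bwd 4843],
   .loop (some (7, 3)) [.bwd 3685, .fwd 285, .fwd 1995, .fwd 2739],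
   .loop none [.fwd 4846],
   .loop none [.bwd 2742, .bwd 4847],
   .loop none [.fwd 2739, .bwd 4847],
   .loop none [.fwd 2741, .bwd 4847],
   .define,
   .define,
   .define,
   .loop (some (16, 4)) [.bwd 3685, .bwd 4843, .fwd 4851, .fwd 4852, .fwd 4853],
   .define,
   .define,
   .define,
   .define,
   .define,
   .define,
   .define,
   .define,
   .define,
   .define,
   .define,
   .define,
   .define,
   .define,
   .define,
   .define,
   .define,
   .define,
   .define,
   .define,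
   .define,
   .define,
   .define,
   .define,
   .define,
   .define,
   .loop (some (21, 28)) [.bwd 4008, .bwd 4026, .bwd 3687, .bwd 4843, .fwd 4851, .fwd 4855, .fwd 4856, .fwd 4857, .fwd 4858, .fwd 4859, .fwd 4860, .fwd 4861, .fwd 4862, .fwd 4863, .fwd 4864, .fwd 4865, .fwd 4866, .fwd 4867, .fwd 4868, .fwd 4869, .fwd 4870, .fwd 4871, .fwd 4872, .fwd 4873, .fwd 4874, .fwd 4875, .fwd 4876, .fwd 4877, .fwd 4878, .fwd 4879, .fwd 4880],
   .loop (some (13, 2)) [.bwd 3687, .bwd 284, .fwd 3216],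
   .loop (some (14, 2)) [.fwd 3673, .fwd 3674, .bwd 3305, .bwd 3259],
   .loop (some (20, 5)) [.bwd 3975, .bwd 288, .bwd 287, .bwd 286, .bwd 231, .fwd 2959, .fwd 4098, .fwd 3861],
   .loop (some (6, 2)) [.bwd 322, .fwd 3251, .fwd 287, .bwd 4000],
   .loop none [.fwd 4885],
   .loop none [.bwd 3999, .bwd 4886],
   .loop none [.bwd 4000, .bwd 4886],
   .loop none [.fwd 3879, .bwd 4886],
   .define,
   .define,
   .loop (some (19, 5)) [.fwd 4284, .bwd 3256, .fwd 3255, .bwd 3268, .bwd 3970, .fwd 3969, .fwd 4890, .fwd 4891],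
   .loop (some (8, 1)) [.fwd 3796, .fwd 3001, .bwd 3674],
   .loop (some (7, 1)) [.bwd 2553, .fwd 3255, .fwd 287],
   .define,
   .loop (some (18, 3)) [.bwd 3975, .bwd 288, .bwd 287, .bwd 3674, .bwd 3673, .fwd 4895],
   .define,
   .loop (some (16, 3)) [.fwd 4237, .fwd 3255, .bwd 3251, .bwd 4152, .fwd 4897],
   .loop (some (3, 2)) [.bwd 3257, .bwd 4888, .fwd 4154],
   .define,
   .loop (some (14, 2)) [.fwd 3674, .fwd 287, .bwd 3876, .fwd 4900],
   .loop (some (4, 2)) [.bwd 3257, .fwd 4894, .fwd 4243],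
   .define,
   .define,
   .define,
   .loop (some (20, 5)) [.fwd 4896, .bwd 3975, .bwd 288, .fwd 3257, .fwd 3258, .fwd 4903, .fwd 4904, .fwd 4905],
   .loop (some (6, 2)) [.bwd 323, .fwd 4888, .fwd 288, .fwd 3968],
   .loop none [.fwd 4907],
   .loop none [.bwd 4029, .bwd 4908],
   .loop none [.fwd 3968, .bwd 4908],
   .loop none [.fwd 3806, .bwd 4908],
   .define,
   .define,
   .define,
   .loop (some (0, 1)) [.fwd 3876, .fwd 4914],
   .loop (some (7, 2)) [.bwd 2554, .bwd 4894, .fwd 288, .fwd 3969],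
   .loop none [.fwd 4916],
   .loop none [.fwd 3774, .bwd 4917],
   .loop none [.fwd 3969, .bwd 4917],
   .loop none [.bwd 4890, .bwd 4917],
   .define,
   .loop (some (10, 2)) [.fwd 4888, .bwd 3876, .fwd 4921],
   .define,
   .loop (some (11, 2)) [.bwd 4894, .bwd 3876, .fwd 4923],
   .define,
   .define,
   .define,
   .loop (some (16, 4)) [.bwd 4894, .bwd 4888, .fwd 4925, .fwd 4926, .fwd 4927],
   .define,
   .define,
   .define,
   .define,
   .define,
   .define,
   .define,
   .define,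
   .define,
   .define,
   .define,
   .define,
   .define,
   .define,
   .define,
   .define,
   .define,
   .define,
   .define,
   .define,
   .define,
   .define,
   .define,
   .define,
   .define,
   .define,
   .define,
   .loop (some (21, 29)) [.bwd 4004, .bwd 3257, .bwd 4888, .fwd 4925, .fwd 4929, .fwd 4930, .fwd 4931, .fwd 4932, .fwd 4933, .fwd 4934, .fwd 4935, .fwd 4936, .fwd 4937, .fwd 4938, .fwd 4939, .fwd 4940, .fwd 4941, .fwd 4942, .fwd 4943, .fwd 4944, .fwd 4945, .fwd 4946, .fwd 4947, .fwd 4948, .fwd 4949, .fwd 4950, .fwd 4951, .fwd 4952, .fwd 4953, .fwd 4954, .fwd 4955],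
   .define,
   .loop (some (13, 2)) [.bwd 3257, .bwd 3876, .fwd 4957],
   .loop (some (3, 2)) [.bwd 4049, .bwd 289, .bwd 4910, .fwd 324],
   .loop none [.bwd 4959],
   .loop none [.bwd 4050, .bwd 4960],
   .loop none [.fwd 4049, .bwd 4960],
   .loop none [.bwd 4805, .bwd 4960],
   .loop (some (4, 2)) [.bwd 3978, .bwd 289, .bwd 4919, .fwd 2555],
   .loop none [.fwd 4964],
   .loop none [.fwd 2555, .bwd 4965],
   .loop none [.fwd 4108, .bwd 4965],
   .loop none [.fwd 2743, .bwd 4965],
   .define,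
   .loop (some (6, 2)) [.fwd 4910, .fwd 3975, .fwd 4969],
   .define,
   .loop (some (7, 2)) [.fwd 4919, .fwd 3975, .fwd 4971],
   .loop (some (10, 2)) [.fwd 4910, .bwd 4027, .bwd 4837],
   .loop (some (11, 2)) [.fwd 4919, .bwd 4027, .bwd 4839],
   .define,
   .define,
   .loop (some (16, 3)) [.bwd 4918, .fwd 4919, .bwd 4910, .fwd 4975, .fwd 4976],
   .define,
   .define,
   .define,
   .define,
   .define,
   .define,
   .define,
   .define,
   .define,
   .define,
   .define,
   .define,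
   .define,
   .define,
   .define,
   .define,
   .define,
   .define,
   .define,
   .define,
   .define,
   .define]

theorem just19_len : just19.length = 250 := by decide +kernel

theorem just19_ok : cert.okFacts 4750 just19 = true := by decide +kernel

/-- justifications -/
noncomputable def just20 : List Cert.Just :=
  [.define,
   .define,
   .define,
   .loop (some (21, 27)) [.bwd 2772, .bwd 3100, .bwd 3979, .bwd 289, .bwd 4910, .fwd 4975, .fwd 4978, .fwd 4979, .fwd 4980, .fwd 4981, .fwd 4982, .fwd 4983, .fwd 4984, .fwd 4985, .fwd 4986, .fwd 4987, .fwd 4988, .fwd 4989, .fwd 4990, .fwd 4991, .fwd 4992, .fwd 4993, .fwd 4994, .fwd 4995, .fwd 4996, .fwd 4997, .fwd 4998, .fwd 4999, .fwd 5000, .fwd 5001, .fwd 5002],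
   .loop (some (20, 4)) [.bwd 3216, .bwd 285, .fwd 309, .fwd 310, .bwd 289, .fwd 3975, .bwd 4884, .fwd 3862],
   .loop (some (6, 2)) [.fwd 342, .fwd 4962, .bwd 310, .fwd 3992],
   .loop none [.fwd 5005],
   .loop none [.bwd 4307, .bwd 5006],
   .loop none [.fwd 3992, .bwd 5006],
   .loop none [.bwd 3744, .bwd 5006],
   .loop (some (2, 1)) [.bwd 3214, .bwd 3979, .bwd 4962],
   .loop (some (7, 2)) [.bwd 4968, .bwd 3978, .bwd 310, .fwd 3993],
   .loop none [.fwd 5011],
   .loop none [.fwd 4248, .bwd 5012],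
   .loop none [.fwd 3993, .bwd 5012],
   .loop none [.fwd 3959, .bwd 5012],
   .loop none [.bwd 3785, .bwd 5012],
   .loop (some (10, 2)) [.fwd 4962, .bwd 4048, .bwd 4843],
   .loop (some (11, 2)) [.bwd 3978, .bwd 4048, .fwd 3685],
   .define,
   .define,
   .define,
   .loop (some (16, 4)) [.bwd 3978, .bwd 4962, .fwd 5019, .fwd 5020, .fwd 5021],
   .define,
   .define,
   .define,
   .define,
   .define,
   .define,
   .define,
   .define,
   .define,
   .define,
   .define,
   .define,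
   .define,
   .define,
   .define,
   .define,
   .define,
   .define,
   .define,
   .define,
   .define,
   .define,
   .define,
   .define,
   .define,
   .loop (some (21, 27)) [.fwd 3824, .fwd 3730, .bwd 3970, .fwd 289, .bwd 4962, .fwd 5019, .fwd 5023, .fwd 5024, .fwd 5025, .fwd 5026, .fwd 5027, .fwd 5028, .fwd 5029, .fwd 5030, .fwd 5031, .fwd 5032, .fwd 5033, .fwd 5034, .fwd 5035, .fwd 5036, .fwd 5037, .fwd 5038, .fwd 5039, .fwd 5040, .fwd 5041, .fwd 5042, .fwd 5043, .fwd 5044, .fwd 5045, .fwd 5046, .fwd 5047],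
   .define,
   .loop (some (3, 2)) [.fwd 4109, .fwd 3735, .fwd 5049],
   .loop (some (4, 1)) [.fwd 4834, .fwd 4109, .bwd 4106],
   .loop (some (20, 2)) [.bwd 4903, .fwd 3259, .bwd 4305, .bwd 3687, .fwd 309, .fwd 310, .fwd 290, .bwd 4109, .fwd 4110],
   .loop none [.bwd 5052],
   .loop none [.fwd 4903, .bwd 5053],
   .loop none [.bwd 3794, .fwd 5053, .fwd 4904],
   .loop none [.fwd 5055],
   .loop none [.bwd 4039, .fwd 5056, .fwd 4905],
   .loop none [.fwd 5057],
   .loop none [.bwd 4906, .bwd 5058],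
   .loop (some (2, 1)) [.fwd 3205, .bwd 4103, .fwd 3735],
   .loop (some (10, 2)) [.bwd 3735, .fwd 4114, .fwd 292],
   .loop (some (11, 2)) [.fwd 4106, .fwd 4114, .fwd 307],
   .define,
   .define,
   .loop (some (16, 3)) [.fwd 3244, .fwd 4106, .fwd 3735, .fwd 5063, .fwd 5064],
   .define,
   .define,
   .define,
   .define,
   .define,
   .define,
   .define,
   .define,
   .define,
   .define,
   .define,
   .define,
   .define,
   .define,
   .define,
   .define,
   .define,
   .define,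
   .define,
   .define,
   .define,
   .define,
   .define,
   .define,
   .define,
   .loop (some (21, 27)) [.bwd 4174, .fwd 4800, .fwd 3217, .fwd 4109, .fwd 3735, .fwd 5063, .fwd 5066, .fwd 5067, .fwd 5068, .fwd 5069, .fwd 5070, .fwd 5071, .fwd 5072, .fwd 5073, .fwd 5074, .fwd 5075, .fwd 5076, .fwd 5077, .fwd 5078, .fwd 5079, .fwd 5080, .fwd 5081, .fwd 5082, .fwd 5083, .fwd 5084, .fwd 5085, .fwd 5086, .fwd 5087, .fwd 5088, .fwd 5089, .fwd 5090],
   .loop (some (13, 3)) [.fwd 4109, .fwd 4114, .fwd 226, .fwd 3804],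
   .loop none [.fwd 5092],
   .loop none [.fwd 4014, .bwd 5093],
   .loop none [.fwd 3804, .bwd 5093],
   .loop (some (4, 2)) [.bwd 3821, .bwd 704, .fwd 339, .fwd 656],
   .loop none [.bwd 5096],
   .loop none [.bwd 3822, .bwd 5097],
   .loop none [.fwd 3821, .bwd 5097],
   .loop none [.bwd 3825, .bwd 5097],
   .define,
   .define,
   .loop (some (20, 5)) [.fwd 342, .fwd 325, .fwd 326, .fwd 704, .fwd 705, .fwd 3853, .fwd 5101, .fwd 5102],
   .define,
   .define,
   .define,
   .define,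
   .loop (some (19, 6)) [.fwd 439, .bwd 339, .fwd 335, .bwd 3172, .fwd 5104, .fwd 5105, .fwd 5106, .fwd 5107],
   .loop (some (9, 2)) [.bwd 335, .bwd 5009, .fwd 5007],
   .loop (some (0, 1)) [.fwd 5009, .fwd 5061],
   .loop (some (1, 2)) [.fwd 3810, .bwd 704, .fwd 335, .fwd 4222],
   .loop none [.fwd 5111],
   .loop none [.fwd 4222, .bwd 5112],
   .loop none [.bwd 4223, .bwd 5112],
   .loop (some (5, 2)) [.fwd 4206, .bwd 335, .bwd 326, .fwd 4116],
   .loop none [.bwd 5115],
   .loop none [.bwd 4206, .bwd 5116],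
   .loop none [.fwd 4205, .bwd 5116],
   .loop (some (7, 2)) [.fwd 359, .bwd 339, .bwd 326, .fwd 5063],
   .loop none [.fwd 5119],
   .loop none [.bwd 5064, .bwd 5120],
   .loop none [.fwd 5063, .bwd 5120],
   .loop none [.bwd 5066, .bwd 5120],
   .define,
   .loop (some (11, 2)) [.bwd 339, .bwd 5009, .fwd 5124],
   .loop (some (17, 1)) [.bwd 5010, .bwd 324, .fwd 4911, .bwd 704, .bwd 2053],
   .define,
   .define,
   .define,
   .define,
   .define,
   .define,
   .define,
   .define,
   .define,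
   .define,
   .define,
   .define,
   .define,
   .define,
   .define,
   .define,
   .define,
   .define,
   .define,
   .define,
   .define,
   .define,
   .loop (some (21, 27)) [.bwd 4976, .bwd 4975, .fwd 4911, .bwd 704, .bwd 292, .fwd 307, .bwd 2951, .fwd 3623, .bwd 4148, .fwd 5127, .fwd 5128, .fwd 5129, .fwd 5130, .fwd 5131, .fwd 5132, .fwd 5133, .fwd 5134, .fwd 5135, .fwd 5136, .fwd 5137, .fwd 5138, .fwd 5139, .fwd 5140, .fwd 5141, .fwd 5142, .fwd 5143, .fwd 5144, .fwd 5145, .fwd 5146, .fwd 5147, .fwd 5148],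
   .define,
   .loop (some (12, 2)) [.fwd 2053, .bwd 5009, .fwd 5150],
   .loop (some (13, 2)) [.fwd 3818, .bwd 704, .bwd 5009, .bwd 5103],
   .loop none [.fwd 5152],
   .loop none [.bwd 5103, .bwd 5153],
   .loop none [.fwd 5102, .bwd 5153],
   .loop (some (3, 2)) [.fwd 3824, .bwd 2747, .fwd 2558, .fwd 4341],
   .loop none [.fwd 5156],
   .loop none [.fwd 5048, .fwd 5157, .bwd 4341],
   .loop none [.bwd 5158],
   .loop none [.bwd 4342, .bwd 5157],
   .loop none [.fwd 4350, .fwd 5159, .bwd 5047],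
   .loop none [.fwd 5161],
   .loop none [.bwd 5048, .bwd 5159],
   .loop none [.fwd 5046, .bwd 5162],
   .define,
   .define,
   .loop (some (20, 5)) [.bwd 4968, .fwd 4967, .fwd 4107, .fwd 2747, .fwd 2748, .fwd 3858, .fwd 5165, .fwd 5166],
   .loop (some (6, 2)) [.fwd 3342, .bwd 2558, .bwd 4107, .bwd 3244],
   .loop none [.bwd 5168],
   .loop none [.bwd 3342, .bwd 5169],
   .loop none [.fwd 3341, .bwd 5169],
   .loop (some (0, 1)) [.fwd 5016, .fwd 5062],
   .loop (some (2, 2)) [.fwd 3027, .fwd 2951, .fwd 2558, .bwd 4350],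
   .loop none [.fwd 5173],
   .loop none [.fwd 3635, .fwd 5174, .fwd 5164],
   .loop none [.fwd 5175],
   .loop none [.bwd 4350, .bwd 5174],
   .loop none [.fwd 4340, .bwd 5174],
   .loop none [.fwd 4338, .bwd 5174],
   .loop none [.bwd 2545, .fwd 5176, .bwd 5045],
   .loop none [.fwd 5180],
   .loop none [.fwd 5044, .bwd 5181],
   .define,
   .loop (some (10, 2)) [.bwd 2558, .bwd 5016, .fwd 5183],
   .loop (some (17, 4)) [.fwd 3802, .bwd 2747, .bwd 2951, .fwd 3623, .fwd 2852, .fwd 2853],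
   .loop none [.bwd 5185],
   .loop none [.fwd 3801, .bwd 5186],
   .loop none [.bwd 3802, .bwd 5186],
   .define,
   .define,
   .define,
   .define,
   .define,
   .define,
   .define,
   .define,
   .define,
   .define,
   .define,
   .define,
   .define,
   .define,
   .define,
   .define,
   .define,
   .define,
   .define,
   .define,
   .define,
   .define,
   .define,
   .define,
   .define,
   .loop (some (21, 28)) [.bwd 5187, .fwd 5188, .bwd 2747, .fwd 2558, .bwd 601, .bwd 553, .fwd 5189, .fwd 5190, .fwd 5191, .fwd 5192, .fwd 5193, .fwd 5194, .fwd 5195, .fwd 5196, .fwd 5197, .fwd 5198, .fwd 5199, .fwd 5200, .fwd 5201, .fwd 5202, .fwd 5203, .fwd 5204, .fwd 5205, .fwd 5206, .fwd 5207, .fwd 5208, .fwd 5209, .fwd 5210, .fwd 5211, .fwd 5212, .fwd 5213],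
   .loop (some (13, 2)) [.fwd 3820, .bwd 2747, .bwd 5016, .bwd 5167],
   .loop none [.fwd 5215],
   .loop none [.bwd 5167, .bwd 5216],
   .loop none [.fwd 5166, .bwd 5216],
   .loop (some (2, 2)) [.bwd 3093, .bwd 3994, .bwd 5008, .fwd 5150],
   .loop none [.fwd 5219],
   .loop none [.fwd 5150, .bwd 5220],
   .loop none [.bwd 5151, .bwd 5220],
   .define,
   .loop (some (16, 3)) [.bwd 5183, .fwd 5014, .bwd 5008, .fwd 5124, .fwd 5223],
   .define,
   .define,
   .define,
   .define,
   .define,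
   .define,
   .define,
   .define,
   .define,
   .define,
   .define,
   .define,
   .define,
   .define,
   .define,
   .define,
   .define,
   .define,
   .define,
   .define,
   .define,
   .define,
   .define,
   .define,
   .define]

theorem just20_len : just20.length = 250 := by decide +kernel

theorem just20_ok : cert.okFacts 5000 just20 = true := by decide +kernel

/-- justifications -/
noncomputable def just21 : List Cert.Just :=
  [.define,
   .loop (some (21, 28)) [.fwd 4839, .fwd 4026, .fwd 3734, .bwd 5008, .fwd 5124, .fwd 5225, .fwd 5226, .fwd 5227, .fwd 5228, .fwd 5229, .fwd 5230, .fwd 5231, .fwd 5232, .fwd 5233, .fwd 5234, .fwd 5235, .fwd 5236, .fwd 5237, .fwd 5238, .fwd 5239, .fwd 5240, .fwd 5241, .fwd 5242, .fwd 5243, .fwd 5244, .fwd 5245, .fwd 5246, .fwd 5247, .fwd 5248, .fwd 5249, .fwd 5250],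
   .loop (some (4, 2)) [.bwd 4798, .fwd 4806, .bwd 4081],
   .define,
   .define,
   .define,
   .loop (some (20, 4)) [.bwd 5049, .fwd 326, .fwd 293, .fwd 317, .fwd 4798, .fwd 5253, .fwd 5254, .fwd 5255],
   .define,
   .define,
   .define,
   .define,
   .define,
   .loop (some (19, 6)) [.bwd 4807, .bwd 4806, .fwd 3631, .fwd 5257, .fwd 5258, .fwd 5259, .fwd 5260, .fwd 5261],
   .loop (some (9, 2)) [.bwd 3631, .bwd 4963, .fwd 4961],
   .define,
   .loop (some (1, 2)) [.bwd 4798, .fwd 3631, .fwd 5264],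
   .loop (some (5, 3)) [.bwd 3631, .bwd 317, .bwd 928, .fwd 4199],
   .loop none [.fwd 5266],
   .loop none [.bwd 5257, .fwd 5267, .fwd 4207],
   .loop none [.bwd 5268],
   .loop none [.fwd 4201, .bwd 5267],
   .loop none [.fwd 4199, .bwd 5267],
   .loop none [.bwd 4200, .bwd 5267],
   .loop none [.bwd 3173, .fwd 5269, .fwd 5258],
   .loop none [.fwd 5273],
   .loop none [.fwd 5257, .bwd 5269],
   .loop none [.bwd 5259, .bwd 5274],
   .loop (some (7, 3)) [.bwd 4806, .bwd 317, .fwd 16, .fwd 350],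
   .loop none [.bwd 5277],
   .loop none [.bwd 4082, .bwd 5278],
   .loop none [.fwd 4806, .bwd 5278],
   .loop none [.bwd 376, .fwd 5278, .fwd 4807],
   .loop none [.fwd 5281],
   .loop none [.fwd 4081, .bwd 5278],
   .loop none [.bwd 440, .fwd 5282, .bwd 5262],
   .loop none [.fwd 5284],
   .loop none [.bwd 479, .fwd 5282, .fwd 4808],
   .loop none [.fwd 5286],
   .loop none [.fwd 5261, .bwd 5285],
   .loop none [.bwd 4809, .bwd 5287],
   .loop (some (11, 2)) [.fwd 5280, .bwd 4963, .fwd 5019],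
   .loop (some (17, 4)) [.bwd 4798, .fwd 337, .fwd 2450, .bwd 5060, .fwd 5049],
   .define,
   .define,
   .define,
   .define,
   .define,
   .define,
   .define,
   .define,
   .define,
   .define,
   .define,
   .define,
   .define,
   .define,
   .define,
   .define,
   .define,
   .define,
   .define,
   .define,
   .define,
   .define,
   .define,
   .loop (some (21, 29)) [.fwd 5291, .bwd 4798, .fwd 3213, .fwd 1995, .fwd 1996, .fwd 2552, .bwd 4237, .bwd 4898, .fwd 5292, .fwd 5293, .fwd 5294, .fwd 5295, .fwd 5296, .fwd 5297, .fwd 5298, .fwd 5299, .fwd 5300, .fwd 5301, .fwd 5302, .fwd 5303, .fwd 5304, .fwd 5305, .fwd 5306, .fwd 5307, .fwd 5308, .fwd 5309, .fwd 5310, .fwd 5311, .fwd 5312, .fwd 5313, .fwd 5314],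
   .loop (some (13, 2)) [.bwd 4798, .bwd 4963, .bwd 324],
   .define,
   .loop (some (4, 2)) [.bwd 4844, .fwd 4851, .fwd 5317],
   .define,
   .define,
   .define,
   .loop (some (20, 4)) [.bwd 704, .fwd 293, .fwd 317, .bwd 319, .fwd 4844, .fwd 5319, .fwd 5320, .fwd 5321],
   .define,
   .define,
   .define,
   .define,
   .define,
   .loop (some (19, 6)) [.bwd 4855, .bwd 4851, .fwd 4842, .fwd 5323, .fwd 5324, .fwd 5325, .fwd 5326, .fwd 5327],
   .loop (some (9, 3)) [.bwd 4842, .bwd 318, .fwd 3631, .fwd 5272],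
   .loop none [.fwd 5329],
   .loop none [.bwd 4209, .bwd 5330],
   .loop none [.fwd 5270, .bwd 5330],
   .loop none [.fwd 5272, .bwd 5330],
   .define,
   .loop (some (1, 2)) [.bwd 4844, .fwd 4842, .fwd 5334],
   .loop (some (8, 2)) [.fwd 2044, .bwd 4845, .fwd 341, .bwd 5221],
   .loop none [.fwd 5336],
   .loop none [.bwd 3094, .bwd 5337],
   .loop none [.fwd 3093, .bwd 5337],
   .loop none [.bwd 3212, .fwd 5337, .fwd 5221],
   .loop none [.bwd 5340],
   .loop none [.bwd 5222, .bwd 5337],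
   .loop none [.bwd 5124, .fwd 5341, .bwd 2800],
   .loop none [.bwd 5343],
   .loop none [.fwd 3212, .bwd 5341],
   .loop none [.fwd 2799, .fwd 5344, .fwd 5223],
   .loop none [.fwd 5346],
   .loop none [.fwd 5124, .bwd 5344],
   .loop none [.bwd 5225, .bwd 5344],
   .loop none [.bwd 5125, .bwd 5344],
   .loop none [.bwd 5224, .bwd 5347],
   .loop (some (7, 3)) [.bwd 4851, .fwd 319, .bwd 5280, .bwd 352],
   .loop none [.bwd 5352],
   .loop none [.bwd 4852, .bwd 5353],
   .loop none [.fwd 4851, .bwd 5353],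
   .loop none [.bwd 4855, .bwd 5353],
   .loop none [.bwd 5317, .bwd 5353],
   .loop (some (17, 4)) [.bwd 4844, .fwd 4845, .fwd 2043, .bwd 5345, .bwd 5154],
   .define,
   .define,
   .define,
   .define,
   .define,
   .define,
   .define,
   .define,
   .define,
   .define,
   .define,
   .define,
   .define,
   .define,
   .define,
   .define,
   .define,
   .define,
   .define,
   .define,
   .define,
   .define,
   .define,
   .define,
   .loop (some (21, 29)) [.fwd 5358, .bwd 4844, .fwd 4843, .fwd 3685, .fwd 1934, .fwd 4097, .fwd 4095, .fwd 5359, .fwd 5360, .fwd 5361, .fwd 5362, .fwd 5363, .fwd 5364, .fwd 5365, .fwd 5366, .fwd 5367, .fwd 5368, .fwd 5369, .fwd 5370, .fwd 5371, .fwd 5372, .fwd 5373, .fwd 5374, .fwd 5375, .fwd 5376, .fwd 5377, .fwd 5378, .fwd 5379, .fwd 5380, .fwd 5381, .fwd 5382],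
   .loop (some (12, 2)) [.bwd 4845, .bwd 318, .fwd 337],
   .loop (some (13, 2)) [.bwd 4844, .bwd 318, .fwd 4798],
   .define,
   .define,
   .loop (some (14, 4)) [.bwd 4295, .fwd 4294, .fwd 5386, .fwd 5387],
   .define,
   .define,
   .loop (some (20, 5)) [.fwd 4970, .bwd 323, .bwd 322, .bwd 321, .bwd 709, .bwd 4094, .fwd 5389, .fwd 5390],
   .define,
   .define,
   .define,
   .define,
   .define,
   .loop (some (19, 6)) [.bwd 4153, .fwd 4152, .fwd 3808, .fwd 5392, .fwd 5393, .fwd 5394, .fwd 5395, .fwd 5396],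
   .define,
   .loop (some (9, 2)) [.bwd 3808, .bwd 4295, .fwd 5398],
   .define,
   .loop (some (0, 1)) [.fwd 4295, .fwd 5400],
   .loop (some (5, 2)) [.bwd 4202, .bwd 3808, .fwd 322, .fwd 4887],
   .loop none [.bwd 5402],
   .loop none [.fwd 4202, .bwd 5403],
   .loop none [.bwd 4203, .bwd 5403],
   .loop (some (8, 1)) [.fwd 3965, .fwd 4028, .bwd 5388],
   .loop (some (7, 2)) [.bwd 355, .fwd 4152, .fwd 322, .fwd 4925],
   .loop none [.fwd 5407],
   .loop none [.bwd 4926, .bwd 5408],
   .loop none [.fwd 4925, .bwd 5408],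
   .loop none [.bwd 4929, .bwd 5408],
   .define,
   .loop (some (18, 3)) [.fwd 4970, .bwd 323, .bwd 322, .bwd 5388, .bwd 5387, .fwd 5412],
   .loop (some (11, 2)) [.fwd 4152, .bwd 4295, .fwd 2526],
   .loop (some (12, 1)) [.fwd 4035, .fwd 4028, .bwd 4295],
   .define,
   .loop (some (14, 2)) [.fwd 5388, .fwd 322, .bwd 4922, .fwd 5416],
   .define,
   .loop (some (4, 2)) [.bwd 4154, .bwd 5410, .fwd 5418],
   .define,
   .define,
   .define,
   .loop (some (20, 5)) [.fwd 5413, .fwd 4970, .bwd 323, .fwd 4154, .fwd 4155, .fwd 5420, .fwd 5421, .fwd 5422],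
   .define,
   .define,
   .define,
   .define,
   .define,
   .loop (some (19, 6)) [.bwd 5411, .fwd 5410, .fwd 4887, .fwd 5424, .fwd 5425, .fwd 5426, .fwd 5427, .fwd 5428],
   .define,
   .loop (some (9, 2)) [.bwd 4887, .bwd 4922, .fwd 5430],
   .define,
   .loop (some (0, 1)) [.fwd 4922, .fwd 5432],
   .define,
   .loop (some (1, 2)) [.bwd 4154, .fwd 4887, .fwd 5434],
   .loop (some (5, 2)) [.bwd 5405, .bwd 4887, .fwd 323, .fwd 4909],
   .loop none [.bwd 5436],
   .loop none [.bwd 4204, .bwd 5437],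
   .loop none [.fwd 5405, .bwd 5437],
   .loop (some (7, 2)) [.bwd 356, .fwd 5410, .fwd 323, .fwd 4975],
   .loop none [.fwd 5440],
   .loop none [.bwd 4976, .bwd 5441],
   .loop none [.fwd 4975, .bwd 5441],
   .loop none [.bwd 4978, .bwd 5441],
   .define,
   .loop (some (11, 2)) [.fwd 5410, .bwd 4922, .fwd 5445],
   .define,
   .define,
   .loop (some (17, 4)) [.bwd 4154, .fwd 4889, .fwd 3853, .fwd 5447, .fwd 5448],
   .define,
   .define,
   .define,
   .define,
   .define,
   .define,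
   .define,
   .define,
   .define,
   .define,
   .define,
   .define,
   .define,
   .define,
   .define,
   .define,
   .define,
   .define,
   .define,
   .define,
   .define,
   .define,
   .define,
   .define,
   .define,
   .define,
   .loop (some (21, 29)) [.fwd 5449, .bwd 4154, .fwd 4888, .fwd 4894, .fwd 4912, .fwd 5450, .fwd 5451, .fwd 5452, .fwd 5453, .fwd 5454, .fwd 5455, .fwd 5456, .fwd 5457, .fwd 5458, .fwd 5459, .fwd 5460, .fwd 5461, .fwd 5462, .fwd 5463, .fwd 5464, .fwd 5465, .fwd 5466, .fwd 5467, .fwd 5468, .fwd 5469, .fwd 5470, .fwd 5471, .fwd 5472, .fwd 5473, .fwd 5474, .fwd 5475],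
   .loop (some (12, 1)) [.fwd 3894, .bwd 4889, .bwd 4922],
   .define,
   .loop (some (13, 2)) [.bwd 4154, .bwd 4922, .fwd 5478],
   .loop (some (14, 1)) [.fwd 4295, .fwd 322, .fwd 323, .bwd 4973],
   .loop (some (4, 2)) [.bwd 5019, .bwd 324, .bwd 5443, .fwd 357],
   .loop none [.bwd 5481],
   .loop none [.bwd 5020, .bwd 5482],
   .loop none [.fwd 5019, .bwd 5482],
   .loop none [.bwd 5023, .bwd 5482],
   .loop none [.bwd 5290, .bwd 5482],
   .define,
   .define,
   .loop (some (20, 5)) [.fwd 5412, .fwd 5413, .fwd 4970, .fwd 324, .bwd 342, .bwd 5154, .fwd 5487, .fwd 5488],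
   .define,
   .define,
   .define,
   .define,
   .define,
   .loop (some (19, 6)) [.bwd 5444, .fwd 5443, .fwd 4909, .fwd 5490, .fwd 5491, .fwd 5492, .fwd 5493, .fwd 5494],
   .loop (some (9, 2)) [.bwd 4909, .bwd 4973, .bwd 5335],
   .loop (some (1, 2)) [.bwd 4961, .bwd 324, .fwd 4909, .fwd 5438],
   .loop none [.fwd 5497],
   .loop none [.fwd 5438, .bwd 5498]]

theorem just21_len : just21.length = 250 := by decide +kernel

theorem just21_ok : cert.okFacts 5250 just21 = true := by decide +kernel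

/-- justifications -/
noncomputable def just22 : List Cert.Just :=
  [.loop none [.fwd 5118, .bwd 5498],
   .loop none [.fwd 4210, .bwd 5498],
   .define,
   .loop (some (5, 2)) [.bwd 4909, .bwd 4970, .fwd 5502],
   .define,
   .loop (some (7, 2)) [.fwd 5443, .bwd 4970, .fwd 5504],
   .loop (some (11, 2)) [.fwd 5443, .bwd 4973, .bwd 5318],
   .define,
   .define,
   .define,
   .define,
   .define,
   .define,
   .define,
   .define,
   .define,
   .define,
   .define,
   .define,
   .define,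
   .define,
   .define,
   .define,
   .define,
   .define,
   .define,
   .define,
   .define,
   .define,
   .define,
   .define,
   .define,
   .define,
   .loop (some (21, 29)) [.bwd 5010, .bwd 324, .fwd 4910, .bwd 4919, .fwd 4920, .fwd 5507, .fwd 5508, .fwd 5509, .fwd 5510, .fwd 5511, .fwd 5512, .fwd 5513, .fwd 5514, .fwd 5515, .fwd 5516, .fwd 5517, .fwd 5518, .fwd 5519, .fwd 5520, .fwd 5521, .fwd 5522, .fwd 5523, .fwd 5524, .fwd 5525, .fwd 5526, .fwd 5527, .fwd 5528, .fwd 5529, .fwd 5530, .fwd 5531, .fwd 5532],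
   .define,
   .loop (some (20, 4)) [.bwd 4798, .bwd 319, .fwd 341, .fwd 342, .bwd 324, .bwd 4970, .bwd 5391, .fwd 5534],
   .define,
   .define,
   .define,
   .define,
   .define,
   .loop (some (19, 6)) [.bwd 5485, .fwd 5484, .fwd 4961, .fwd 5536, .fwd 5537, .fwd 5538, .fwd 5539, .fwd 5540],
   .loop (some (9, 2)) [.bwd 4961, .bwd 5017, .fwd 4842],
   .loop (some (5, 2)) [.bwd 5501, .bwd 4961, .bwd 342, .fwd 5007],
   .loop none [.fwd 5543],
   .loop none [.fwd 5007, .bwd 5544],
   .loop none [.bwd 4308, .bwd 5544],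
   .loop none [.bwd 5109, .bwd 5544],
   .loop (some (8, 3)) [.bwd 5010, .fwd 325, .fwd 5060, .fwd 2054],
   .loop none [.bwd 5548],
   .loop none [.bwd 3307, .bwd 5549],
   .loop none [.fwd 3214, .bwd 5549],
   .loop none [.fwd 5533, .bwd 5549],
   .loop none [.fwd 5010, .bwd 5549],
   .loop none [.fwd 5126, .bwd 5549],
   .loop none [.bwd 3215, .bwd 5549],
   .loop (some (7, 2)) [.fwd 379, .fwd 5484, .bwd 342, .bwd 5348],
   .loop none [.fwd 5556],
   .loop none [.fwd 2799, .bwd 5557],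
   .loop none [.bwd 5348, .bwd 5557],
   .loop none [.bwd 5349, .bwd 5557],
   .loop none [.bwd 5350, .bwd 5557],
   .loop (some (11, 2)) [.fwd 5484, .bwd 5017, .bwd 5355],
   .define,
   .define,
   .define,
   .define,
   .define,
   .define,
   .define,
   .define,
   .define,
   .define,
   .define,
   .define,
   .define,
   .define,
   .define,
   .define,
   .define,
   .define,
   .define,
   .define,
   .define,
   .define,
   .loop (some (21, 27)) [.bwd 5098, .fwd 5099, .bwd 4911, .fwd 324, .fwd 4962, .fwd 3978, .fwd 2505, .bwd 4300, .fwd 4296, .fwd 5563, .fwd 5564, .fwd 5565, .fwd 5566, .fwd 5567, .fwd 5568, .fwd 5569, .fwd 5570, .fwd 5571, .fwd 5572, .fwd 5573, .fwd 5574, .fwd 5575, .fwd 5576, .fwd 5577, .fwd 5578, .fwd 5579, .fwd 5580, .fwd 5581, .fwd 5582, .fwd 5583, .fwd 5584],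
   .loop (some (4, 1)) [.fwd 5315, .bwd 5049, .bwd 5122],
   .loop (some (20, 1)) [.bwd 5420, .bwd 4294, .bwd 5480, .bwd 4844, .fwd 341, .fwd 342, .fwd 325, .fwd 5049],
   .define,
   .define,
   .define,
   .define,
   .define,
   .loop (some (19, 6)) [.bwd 5123, .fwd 5122, .fwd 4116, .fwd 5588, .fwd 5589, .fwd 5590, .fwd 5591, .fwd 5592],
   .loop (some (9, 2)) [.bwd 4116, .bwd 5061, .fwd 335],
   .define,
   .loop (some (11, 2)) [.fwd 5122, .bwd 5061, .fwd 339],
   .define,
   .define,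
   .define,
   .define,
   .define,
   .define,
   .define,
   .define,
   .define,
   .define,
   .define,
   .define,
   .define,
   .define,
   .define,
   .define,
   .define,
   .define,
   .define,
   .define,
   .define,
   .define,
   .define,
   .loop (some (21, 28)) [.fwd 5252, .bwd 5291, .bwd 5049, .bwd 3735, .bwd 4106, .fwd 2463, .fwd 3670, .bwd 4336, .fwd 5597, .fwd 5598, .fwd 5599, .fwd 5600, .fwd 5601, .fwd 5602, .fwd 5603, .fwd 5604, .fwd 5605, .fwd 5606, .fwd 5607, .fwd 5608, .fwd 5609, .fwd 5610, .fwd 5611, .fwd 5612, .fwd 5613, .fwd 5614, .fwd 5615, .fwd 5616, .fwd 5617, .fwd 5618, .fwd 5619],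
   .loop (some (13, 2)) [.bwd 5049, .bwd 5061, .fwd 704],
   .define,
   .define,
   .loop (some (14, 3)) [.bwd 5622, .bwd 1768, .fwd 5622, .fwd 5623],
   .define,
   .define,
   .loop (some (20, 6)) [.bwd 5625, .fwd 1772, .bwd 1789, .bwd 1832, .fwd 1789, .bwd 1772, .fwd 5625, .fwd 5626],
   .loop (some (8, 1)) [.bwd 2650, .bwd 329, .fwd 5622],
   .define,
   .loop (some (18, 3)) [.fwd 5627, .bwd 5625, .fwd 1772, .fwd 5622, .bwd 5624, .fwd 5629],
   .define,
   .define,
   .loop (some (14, 3)) [.bwd 5631, .bwd 2651, .fwd 5631, .fwd 5632],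
   .define,
   .define,
   .define,
   .define,
   .define,
   .loop (some (20, 7)) [.bwd 2650, .bwd 3435, .fwd 3436, .fwd 5634, .fwd 5635, .fwd 5636, .fwd 5637, .fwd 5638],
   .loop (some (6, 1)) [.bwd 2650, .fwd 2661, .fwd 2650],
   .loop (some (8, 1)) [.bwd 5276, .fwd 1772, .fwd 329, .fwd 5631],
   .loop none [.fwd 5641],
   .loop none [.fwd 5633, .bwd 5642],
   .loop none [.fwd 5631, .bwd 5642],
   .loop none [.bwd 5632, .bwd 5642],
   .loop (some (7, 1)) [.fwd 1706, .bwd 330, .fwd 2650],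
   .define,
   .loop (some (18, 3)) [.fwd 5638, .fwd 5639, .bwd 2650, .bwd 5644, .fwd 5643, .fwd 5647],
   .define,
   .define,
   .loop (some (14, 3)) [.bwd 5649, .bwd 1704, .fwd 5649, .fwd 5650],
   .define,
   .define,
   .define,
   .define,
   .define,
   .loop (some (20, 7)) [.fwd 1706, .bwd 3404, .fwd 3405, .fwd 5652, .fwd 5653, .fwd 5654, .fwd 5655, .fwd 5656],
   .loop (some (8, 1)) [.bwd 5288, .fwd 441, .bwd 331, .fwd 5649],
   .loop none [.fwd 5658],
   .loop none [.fwd 5651, .bwd 5659],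
   .loop none [.fwd 5649, .bwd 5659],
   .loop none [.bwd 5650, .bwd 5659],
   .define,
   .loop (some (18, 3)) [.fwd 5656, .fwd 5657, .fwd 1706, .bwd 5661, .fwd 5660, .fwd 5663],
   .define,
   .define,
   .loop (some (14, 3)) [.bwd 5665, .bwd 445, .fwd 5665, .fwd 5666],
   .define,
   .define,
   .define,
   .define,
   .define,
   .loop (some (20, 7)) [.fwd 441, .bwd 919, .fwd 920, .fwd 5668, .fwd 5669, .fwd 5670, .fwd 5671, .fwd 5672],
   .loop (some (5, 1)) [.fwd 1708, .fwd 3419, .bwd 441],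
   .loop (some (8, 1)) [.fwd 1706, .fwd 331, .fwd 5665],
   .define,
   .loop (some (18, 3)) [.fwd 5672, .fwd 5673, .fwd 441, .fwd 5665, .bwd 5667, .fwd 5676],
   .define,
   .loop (some (4, 2)) [.fwd 5113, .fwd 4208, .fwd 5678],
   .define,
   .define,
   .define,
   .loop (some (20, 5)) [.bwd 5501, .fwd 5500, .fwd 5117, .bwd 5113, .fwd 5114, .fwd 5680, .fwd 5681, .fwd 5682],
   .define,
   .define,
   .define,
   .define,
   .define,
   .loop (some (19, 7)) [.bwd 4208, .bwd 335, .bwd 2053, .fwd 5684, .fwd 5685, .fwd 5686, .fwd 5687, .fwd 5688],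
   .loop (some (0, 1)) [.fwd 5547, .fwd 5594],
   .loop (some (2, 2)) [.fwd 3172, .fwd 3269, .bwd 3198],
   .define,
   .loop (some (7, 2)) [.bwd 4208, .bwd 5117, .fwd 5692],
   .define,
   .loop (some (11, 2)) [.bwd 4208, .bwd 5547, .fwd 5694],
   .define,
   .define,
   .loop (some (16, 4)) [.bwd 4208, .fwd 3269, .fwd 4232, .fwd 5696, .fwd 5697],
   .define,
   .define,
   .define,
   .loop (some (17, 4)) [.fwd 5113, .bwd 3172, .fwd 5699, .fwd 5700, .fwd 5701],
   .define,
   .define,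
   .define,
   .define,
   .define,
   .define,
   .define,
   .define,
   .define,
   .define,
   .define,
   .define,
   .define,
   .define,
   .define,
   .define,
   .define,
   .define,
   .define,
   .define,
   .define,
   .define,
   .define,
   .define,
   .define,
   .define,
   .define,
   .loop (some (21, 29)) [.fwd 5702, .fwd 5113, .fwd 3269, .fwd 4232, .fwd 5703, .fwd 5704, .fwd 5705, .fwd 5706, .fwd 5707, .fwd 5708, .fwd 5709, .fwd 5710, .fwd 5711, .fwd 5712, .fwd 5713, .fwd 5714, .fwd 5715, .fwd 5716, .fwd 5717, .fwd 5718, .fwd 5719, .fwd 5720, .fwd 5721, .fwd 5722, .fwd 5723, .fwd 5724, .fwd 5725, .fwd 5726, .fwd 5727, .fwd 5728, .fwd 5729],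
   .define,
   .loop (some (12, 2)) [.fwd 3172, .bwd 5547, .fwd 5731],
   .loop (some (4, 2)) [.bwd 2450, .bwd 1774, .bwd 1861],
   .define,
   .define,
   .define,
   .define,
   .loop (some (19, 6)) [.fwd 1751, .fwd 1774, .fwd 2051, .fwd 5275, .fwd 5734, .fwd 5735, .fwd 5736, .fwd 5737],
   .loop (some (9, 2)) [.bwd 2051, .bwd 5555, .fwd 5550],
   .loop (some (1, 1)) [.bwd 3204, .bwd 2450, .fwd 2051],
   .loop (some (5, 2)) [.bwd 3162, .bwd 2051, .fwd 2042, .fwd 3208],
   .loop none [.bwd 5741],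
   .loop none [.bwd 3163, .bwd 5742],
   .loop none [.fwd 3162, .bwd 5742],
   .loop none [.fwd 3164, .bwd 5742],
   .loop (some (7, 1)) [.fwd 1852, .fwd 1774, .fwd 2042],
   .loop (some (11, 2)) [.fwd 1774, .bwd 5555, .fwd 5552],
   .define,
   .define]

theorem just22_len : just22.length = 250 := by decide +kernel

theorem just22_ok : cert.okFacts 5500 just22 = true := by decide +kernel

/-- justifications -/
noncomputable def just23 : List Cert.Just :=
  [.define,
   .define,
   .define,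
   .define,
   .define,
   .define,
   .define,
   .define,
   .define,
   .define,
   .define,
   .define,
   .define,
   .define,
   .define,
   .define,
   .define,
   .define,
   .define,
   .define,
   .loop (some (21, 27)) [.bwd 5121, .fwd 5122, .fwd 5060, .bwd 2450, .bwd 2035, .bwd 1067, .bwd 1066, .bwd 2514, .fwd 2772, .fwd 5748, .fwd 5749, .fwd 5750, .fwd 5751, .fwd 5752, .fwd 5753, .fwd 5754, .fwd 5755, .fwd 5756, .fwd 5757, .fwd 5758, .fwd 5759, .fwd 5760, .fwd 5761, .fwd 5762, .fwd 5763, .fwd 5764, .fwd 5765, .fwd 5766, .fwd 5767, .fwd 5768, .fwd 5769],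
   .loop (some (3, 2)) [.bwd 5098, .bwd 656, .fwd 360, .fwd 619],
   .loop none [.bwd 5771],
   .loop none [.fwd 5098, .bwd 5772],
   .loop none [.bwd 3823, .bwd 5772],
   .loop none [.fwd 619, .fwd 5772, .bwd 5585],
   .loop none [.fwd 5775],
   .loop none [.fwd 553, .fwd 5776, .bwd 5584],
   .loop none [.fwd 5777],
   .loop none [.fwd 5583, .bwd 5778],
   .loop (some (6, 2)) [.fwd 592, .bwd 360, .bwd 359, .fwd 5121],
   .loop none [.fwd 5780],
   .loop none [.fwd 5121, .bwd 5781],
   .loop none [.bwd 5065, .bwd 5781],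
   .loop none [.fwd 5770, .bwd 5781],
   .loop (some (9, 1)) [.fwd 5695, .bwd 374, .bwd 5561],
   .loop (some (0, 1)) [.fwd 5561, .fwd 5596],
   .loop (some (1, 2)) [.bwd 656, .fwd 374, .fwd 5678],
   .loop (some (2, 2)) [.fwd 439, .fwd 360, .bwd 553],
   .loop (some (15, 2)) [.bwd 4651, .bwd 4610, .bwd 598, .bwd 360, .fwd 374, .bwd 5698],
   .loop none [.fwd 5789],
   .loop none [.bwd 5698, .bwd 5790],
   .loop none [.fwd 5697, .bwd 5790],
   .loop (some (5, 1)) [.fwd 5693, .bwd 374, .bwd 359],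
   .loop (some (10, 2)) [.bwd 360, .bwd 5561, .fwd 5558],
   .loop (some (17, 2)) [.bwd 3826, .bwd 5100, .bwd 656, .bwd 439, .fwd 3749],
   .loop (some (12, 2)) [.fwd 439, .bwd 5561, .fwd 5560],
   .loop (some (4, 1)) [.fwd 5383, .fwd 5154, .bwd 5559],
   .loop (some (20, 2)) [.bwd 3680, .fwd 703, .bwd 701, .bwd 220, .fwd 317, .bwd 319, .fwd 341, .bwd 5154, .fwd 5487],
   .loop none [.fwd 5798],
   .loop none [.fwd 5487, .bwd 5799],
   .loop none [.bwd 5488, .bwd 5799],
   .loop (some (1, 2)) [.fwd 5154, .bwd 5545, .bwd 5683],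
   .loop (some (12, 2)) [.bwd 5345, .bwd 5110, .fwd 5060],
   .loop (some (13, 2)) [.fwd 5154, .bwd 5110, .fwd 5049],
   .loop (some (3, 1)) [.fwd 5619, .fwd 5620, .bwd 5283, .fwd 5279],
   .loop none [.bwd 5805],
   .loop none [.fwd 5618, .bwd 5806],
   .loop none [.bwd 5619, .bwd 5806],
   .loop (some (6, 3)) [.bwd 5279, .bwd 350, .bwd 348, .fwd 582],
   .loop none [.bwd 5809],
   .loop none [.fwd 5279, .bwd 5810],
   .loop none [.fwd 4242, .bwd 5810],
   .loop none [.bwd 600, .fwd 5810, .fwd 5807],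
   .loop none [.fwd 5813],
   .loop none [.bwd 5808, .bwd 5810],
   .loop none [.fwd 532, .fwd 5814, .bwd 5617],
   .loop none [.fwd 5816],
   .loop none [.fwd 485, .fwd 5817, .bwd 5616],
   .loop none [.fwd 5818],
   .loop none [.bwd 419, .fwd 5819, .bwd 5615],
   .loop none [.fwd 5820],
   .loop none [.fwd 5614, .bwd 5821],
   .loop (some (19, 0)) [.fwd 5735, .fwd 5736, .fwd 5737, .fwd 5738, .fwd 1751, .fwd 1774, .bwd 337, .bwd 5280],
   .loop (some (5, 2)) [.bwd 5823, .bwd 350, .fwd 362],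
   .loop (some (8, 2)) [.fwd 424, .bwd 376, .bwd 352, .fwd 5356],
   .loop none [.fwd 5825],
   .loop none [.fwd 5328, .bwd 5826],
   .loop none [.fwd 5356, .bwd 5826],
   .loop none [.bwd 4856, .bwd 5826],
   .loop (some (10, 2)) [.fwd 5811, .bwd 5486, .fwd 5483],
   .loop (some (12, 2)) [.bwd 376, .bwd 5486, .fwd 5485],
   .loop (some (13, 2)) [.bwd 5283, .bwd 5486, .bwd 357],
   .loop (some (6, 3)) [.bwd 5354, .fwd 352, .bwd 5811, .bwd 584],
   .loop none [.bwd 5833],
   .loop none [.fwd 5354, .bwd 5834],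
   .loop none [.bwd 4853, .bwd 5834],
   .loop (some (8, 2)) [.fwd 423, .fwd 5828, .fwd 378, .fwd 5560],
   .loop none [.fwd 5837],
   .loop none [.fwd 5560, .bwd 5838],
   .loop none [.fwd 422, .fwd 5838, .fwd 5226],
   .loop none [.fwd 5840],
   .loop none [.bwd 5796, .bwd 5838],
   .loop none [.bwd 5227, .bwd 5841],
   .loop (some (12, 2)) [.fwd 5828, .bwd 351, .fwd 376],
   .loop (some (13, 2)) [.bwd 5357, .bwd 351, .fwd 5283],
   .loop (some (3, 2)) [.bwd 4897, .bwd 354, .bwd 625, .fwd 587],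
   .loop none [.bwd 5846],
   .loop none [.fwd 4897, .bwd 5847],
   .loop none [.bwd 4898, .bwd 5847],
   .loop none [.bwd 2929, .fwd 5847, .fwd 5292],
   .loop none [.fwd 5850],
   .loop none [.bwd 5293, .bwd 5851],
   .loop (some (6, 2)) [.fwd 624, .fwd 625, .bwd 661, .fwd 4169],
   .loop none [.fwd 5853],
   .loop none [.fwd 4169, .bwd 5854],
   .loop none [.bwd 4121, .bwd 5854],
   .loop none [.fwd 2904, .bwd 5854],
   .loop (some (19, 2)) [.fwd 4161, .bwd 3277, .fwd 675, .bwd 765, .fwd 2919, .fwd 765, .bwd 675, .fwd 671, .fwd 5703],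
   .loop none [.fwd 5858],
   .loop none [.fwd 4160, .fwd 5859, .bwd 5703],
   .loop none [.bwd 5860],
   .loop none [.bwd 5704, .bwd 5859],
   .loop none [.fwd 4232, .fwd 5861, .bwd 4159],
   .loop none [.fwd 5863],
   .loop none [.bwd 4160, .bwd 5861],
   .loop none [.fwd 3198, .fwd 5864, .bwd 4158],
   .loop none [.fwd 5866],
   .loop none [.fwd 4157, .bwd 5867],
   .loop (some (2, 2)) [.bwd 3277, .bwd 625, .fwd 4257],
   .loop (some (15, 2)) [.bwd 4695, .bwd 4568, .bwd 643, .fwd 625, .fwd 671, .fwd 5696],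
   .loop none [.fwd 5870],
   .loop none [.fwd 5696, .bwd 5871],
   .loop none [.fwd 5792, .bwd 5871],
   .loop (some (10, 2)) [.fwd 625, .bwd 4172, .bwd 1916],
   .loop (some (17, 2)) [.bwd 2009, .bwd 4153, .bwd 354, .fwd 3277, .fwd 3278],
   .loop (some (12, 2)) [.bwd 3277, .bwd 4172, .fwd 4310],
   .loop (some (13, 1)) [.fwd 5414, .bwd 354, .bwd 4172],
   .loop (some (6, 2)) [.bwd 588, .fwd 5848, .fwd 355, .fwd 5409],
   .loop none [.fwd 5878],
   .loop none [.fwd 5409, .bwd 5879],
   .loop none [.bwd 4927, .bwd 5879],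
   .loop (some (2, 2)) [.bwd 4153, .bwd 5848, .fwd 2929],
   .loop (some (12, 2)) [.bwd 4153, .bwd 5414, .fwd 2527],
   .loop (some (6, 2)) [.bwd 589, .fwd 5880, .fwd 356, .fwd 5442],
   .loop none [.fwd 5884],
   .loop none [.fwd 5442, .bwd 5885],
   .loop none [.bwd 4977, .bwd 5885],
   .loop none [.bwd 590, .fwd 5885, .bwd 5149],
   .loop none [.fwd 5888],
   .loop none [.fwd 5148, .bwd 5889],
   .loop (some (8, 2)) [.bwd 5411, .bwd 355, .fwd 4153],
   .loop (some (3, 2)) [.bwd 5483, .bwd 357, .bwd 5886, .fwd 590],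
   .loop none [.bwd 5892],
   .loop none [.fwd 5483, .bwd 5893],
   .loop none [.bwd 5021, .bwd 5893],
   .loop none [.bwd 5830, .bwd 5893],
   .loop (some (14, 1)) [.fwd 5414, .fwd 355, .fwd 356, .bwd 5506],
   .loop (some (8, 2)) [.bwd 5444, .bwd 356, .fwd 5411],
   .loop (some (17, 2)) [.bwd 5024, .bwd 5485, .bwd 357, .fwd 5444, .fwd 4979],
   .loop (some (6, 2)) [.fwd 604, .fwd 5894, .bwd 379, .fwd 5558],
   .loop none [.fwd 5900],
   .loop none [.fwd 5558, .bwd 5901],
   .loop none [.bwd 5351, .bwd 5901],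
   .loop none [.fwd 2798, .bwd 5901],
   .loop none [.bwd 5794, .bwd 5901],
   .loop (some (2, 2)) [.bwd 5485, .bwd 5894, .fwd 5890],
   .loop (some (8, 2)) [.bwd 5485, .fwd 358, .fwd 5123],
   .loop (some (10, 2)) [.fwd 5894, .bwd 5562, .bwd 5835],
   .loop (some (12, 2)) [.bwd 5485, .bwd 5562, .bwd 5828],
   .loop (some (3, 2)) [.fwd 5314, .bwd 5586, .bwd 5782, .fwd 5784],
   .loop none [.fwd 5910],
   .loop none [.fwd 5769, .bwd 5911],
   .loop none [.fwd 5313, .fwd 5911, .bwd 5784],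
   .loop none [.bwd 5913],
   .loop none [.fwd 5312, .bwd 5914],
   .loop none [.bwd 5313, .bwd 5914],
   .loop (some (2, 2)) [.bwd 5123, .bwd 5782, .fwd 5915],
   .loop (some (8, 3)) [.bwd 5123, .fwd 359, .bwd 439, .bwd 415],
   .loop none [.bwd 5918],
   .loop none [.fwd 5917, .bwd 5919],
   .loop none [.fwd 5593, .bwd 5919],
   .loop none [.fwd 5123, .bwd 5919],
   .loop none [.bwd 5067, .bwd 5919],
   .loop none [.bwd 442, .fwd 5919, .fwd 5907],
   .loop none [.fwd 5924],
   .loop none [.fwd 5906, .bwd 5925],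
   .loop none [.fwd 5541, .bwd 5925],
   .loop none [.fwd 5485, .bwd 5925],
   .loop none [.bwd 5024, .bwd 5925],
   .loop none [.bwd 5831, .bwd 5925],
   .loop none [.fwd 5909, .bwd 5925],
   .loop (some (10, 2)) [.fwd 5782, .bwd 5596, .fwd 360],
   .loop (some (13, 2)) [.bwd 5586, .bwd 5596, .fwd 656],
   .loop (some (0, 1)) [.fwd 5905, .fwd 5932],
   .loop (some (1, 2)) [.bwd 619, .fwd 598, .fwd 4562],
   .loop (some (5, 1)) [.fwd 4609, .bwd 598, .bwd 592],
   .loop (some (13, 2)) [.bwd 619, .bwd 5905, .fwd 5904],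
   .loop (some (2, 2)) [.fwd 2724, .bwd 363, .fwd 370, .bwd 4648],
   .loop none [.fwd 5938],
   .loop none [.bwd 3476, .fwd 5939, .bwd 1479],
   .loop none [.fwd 5940],
   .loop none [.bwd 4648, .bwd 5939],
   .loop none [.fwd 4722, .fwd 5939, .fwd 4649],
   .loop none [.fwd 5943],
   .loop none [.fwd 1478, .bwd 5941],
   .loop none [.bwd 731, .fwd 5941, .bwd 4723],
   .loop none [.bwd 5946],
   .loop none [.bwd 1537, .bwd 5944],
   .loop none [.fwd 731, .bwd 5947],
   .loop none [.bwd 732, .bwd 5947],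
   .loop (some (8, 2)) [.bwd 2713, .bwd 363, .fwd 5824, .fwd 5735],
   .loop none [.fwd 5951],
   .loop none [.bwd 5736, .bwd 5952],
   .loop none [.fwd 5735, .bwd 5952],
   .loop (some (3, 3)) [.bwd 2712, .bwd 2724, .bwd 4722, .fwd 5948],
   .loop none [.fwd 5955],
   .loop none [.bwd 499, .fwd 5956, .bwd 5948],
   .loop none [.bwd 5957],
   .loop none [.fwd 499, .bwd 5958],
   .loop none [.fwd 405, .fwd 5958, .fwd 2388],
   .loop none [.fwd 5960],
   .loop none [.bwd 5949, .fwd 5961, .fwd 1612],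
   .loop none [.fwd 5962],
   .loop none [.bwd 1613, .bwd 5963],
   .loop (some (8, 0)) [.fwd 5689, .fwd 375, .fwd 363],
   .loop (some (7, 2)) [.fwd 1708, .bwd 364, .fwd 2713, .fwd 5953],
   .loop none [.fwd 5966],
   .loop none [.fwd 5953, .bwd 5967],
   .loop none [.fwd 1707, .fwd 5967, .fwd 5737],
   .loop none [.fwd 5969],
   .loop none [.bwd 5738, .bwd 5970],
   .loop (some (16, 3)) [.fwd 2695, .fwd 1812, .bwd 364, .bwd 2724, .fwd 3476, .fwd 5945],
   .loop none [.fwd 5972],
   .loop none [.bwd 2694, .fwd 5973, .bwd 5945],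
   .loop none [.bwd 5974],
   .loop none [.bwd 403, .fwd 5973, .bwd 2707],
   .loop none [.bwd 5976],
   .loop none [.fwd 2694, .bwd 5975],
   .loop none [.bwd 5964, .fwd 5975, .bwd 5950],
   .loop none [.bwd 5979],
   .loop none [.fwd 403, .bwd 5977],
   .loop none [.fwd 2704, .bwd 5980],
   .loop none [.fwd 5964, .bwd 5980],
   .loop (some (6, 1)) [.bwd 1815, .fwd 1812, .bwd 1708],
   .loop (some (3, 2)) [.bwd 5289, .bwd 479, .fwd 425, .fwd 517],
   .loop none [.bwd 5985],
   .loop none [.fwd 5289, .bwd 5986],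
   .loop none [.bwd 4810, .bwd 5986],
   .loop (some (4, 2)) [.bwd 479, .fwd 440, .fwd 3357],
   .loop (some (6, 1)) [.fwd 545, .bwd 425, .bwd 424],
   .loop (some (7, 2)) [.fwd 5673, .bwd 440, .bwd 424, .fwd 5827],
   .loop none [.bwd 5991],
   .loop none [.bwd 5673, .bwd 5992],
   .loop none [.fwd 5672, .bwd 5992],
   .loop (some (10, 2)) [.bwd 425, .bwd 5930, .fwd 5926],
   .loop (some (11, 2)) [.bwd 440, .bwd 5930, .fwd 5927],
   .loop (some (13, 2)) [.bwd 479, .bwd 5930, .fwd 5929],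
   .loop (some (3, 2)) [.fwd 5382, .bwd 5797, .bwd 5902, .fwd 5904],
   .loop none [.bwd 5998]]

theorem just23_len : just23.length = 250 := by decide +kernel

theorem just23_ok : cert.okFacts 5750 just23 = true := by decide +kernel


end CfsgLib.ThCent.DK
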