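import Cfsg.Agent.Lib.ThCent.DKData

/-!
Justifications of the side facts (generated data).
-/

namespace CfsgLib.ThCent.DK

open CfsgLib.PresCert

set_option maxRecDepth 100000

/-- justifications -/
noncomputable def just24 : List Cert.Just :=
  [.loop none [.bwd 5382, .bwd 5999],
   .loop none [.fwd 5904, .fwd 5999, .bwd 5381],
   .loop none [.fwd 6001],
   .loop none [.fwd 5380, .bwd 6002],
   .loop (some (2, 2)) [.fwd 5839, .bwd 5902, .fwd 6003],
   .loop (some (12, 2)) [.fwd 5839, .bwd 5786, .bwd 5922],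
   .loop (some (13, 2)) [.bwd 5797, .bwd 5786, .fwd 5586],
   .loop (some (6, 1)) [.bwd 2672, .bwd 392, .fwd 2660],
   .loop (some (8, 1)) [.fwd 1220, .bwd 2658, .bwd 3615],
   .loop (some (7, 1)) [.bwd 2672, .fwd 2687, .fwd 2672],
   .loop (some (6, 1)) [.bwd 2719, .bwd 400, .fwd 2730],
   .loop (some (7, 1)) [.fwd 504, .fwd 3466, .fwd 2730],
   .loop (some (5, 1)) [.bwd 1815, .bwd 3420, .fwd 2719],
   .loop (some (11, 2)) [.bwd 401, .bwd 2720, .fwd 401],
   .loop (some (19, 0)) [.bwd 402, .bwd 401, .fwd 2717, .fwd 70, .fwd 2231, .bwd 70, .bwd 2717, .fwd 401],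
   .loop (some (9, 2)) [.bwd 6014, .bwd 6013, .fwd 6014],
   .loop (some (10, 2)) [.fwd 5982, .bwd 6013, .bwd 5982],
   .loop (some (10, 2)) [.fwd 5978, .bwd 6015, .bwd 5978],
   .loop (some (19, 0)) [.bwd 575, .bwd 3485, .fwd 4614, .fwd 261, .fwd 262, .bwd 4713, .bwd 406, .bwd 405],
   .loop (some (1, 2)) [.bwd 5983, .fwd 6018, .fwd 576],
   .loop (some (11, 2)) [.bwd 405, .bwd 6016, .fwd 405],
   .loop (some (6, 1)) [.bwd 4718, .bwd 4645, .bwd 4736],
   .loop (some (6, 1)) [.fwd 4381, .bwd 408, .bwd 4733],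
   .loop (some (8, 0)) [.bwd 5865, .fwd 672, .fwd 664],
   .loop (some (3, 3)) [.bwd 3749, .bwd 5788, .fwd 5189, .fwd 5190],
   .loop none [.fwd 6024],
   .loop none [.bwd 3750, .fwd 6025, .bwd 5190],
   .loop none [.fwd 6026],
   .loop none [.bwd 5191, .bwd 6025],
   .loop none [.fwd 5189, .bwd 6027],
   .loop (some (4, 1)) [.bwd 6028, .bwd 3749, .bwd 5108],
   .loop (some (19, 0)) [.fwd 5689, .bwd 4208, .bwd 3172, .fwd 5104, .fwd 5105, .fwd 5106, .fwd 5107, .fwd 5108],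
   .loop (some (7, 3)) [.fwd 5108, .bwd 413, .bwd 332, .fwd 5665],
   .loop none [.fwd 6032],
   .loop none [.fwd 5107, .fwd 6033, .fwd 5675],
   .loop none [.bwd 6034],
   .loop none [.fwd 5667, .bwd 6033],
   .loop none [.fwd 5665, .bwd 6033],
   .loop none [.fwd 5646, .fwd 6035, .bwd 5106],
   .loop none [.fwd 6038],
   .loop none [.bwd 5107, .bwd 6035],
   .loop none [.fwd 5628, .fwd 6039, .bwd 5105],
   .loop none [.bwd 6041],
   .loop none [.bwd 5628, .bwd 6042],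
   .loop none [.fwd 5624, .bwd 6042],
   .loop none [.fwd 5622, .bwd 6042],
   .loop none [.bwd 5623, .bwd 6042],
   .loop (some (10, 2)) [.fwd 5788, .bwd 5842, .bwd 6004],
   .loop (some (13, 2)) [.bwd 3749, .bwd 5842, .bwd 422],
   .loop (some (3, 1)) [.bwd 5068, .bwd 5923, .fwd 5920],
   .loop (some (6, 3)) [.bwd 5920, .fwd 415, .bwd 5788, .bwd 539],
   .loop none [.bwd 6050],
   .loop none [.fwd 5920, .bwd 6051],
   .loop none [.fwd 5311, .bwd 6051],
   .loop none [.fwd 5915, .bwd 6051],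
   .loop none [.bwd 6049, .bwd 6051],
   .loop (some (7, 3)) [.bwd 5921, .fwd 415, .bwd 5108, .fwd 6036],
   .loop none [.fwd 6056],
   .loop none [.bwd 5676, .bwd 6057],
   .loop none [.fwd 6036, .bwd 6057],
   .loop (some (13, 2)) [.bwd 5923, .bwd 414, .fwd 3749],
   .loop (some (3, 2)) [.bwd 419, .fwd 485, .fwd 540],
   .loop (some (4, 2)) [.bwd 419, .fwd 507, .fwd 5668],
   .loop (some (6, 1)) [.fwd 522, .bwd 485, .bwd 484],
   .loop (some (2, 2)) [.fwd 4410, .fwd 485, .bwd 4434],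
   .loop (some (7, 1)) [.fwd 3362, .bwd 507, .bwd 484],
   .loop (some (6, 1)) [.bwd 541, .fwd 6061, .fwd 420],
   .loop (some (7, 1)) [.bwd 5669, .fwd 6062, .fwd 420],
   .loop (some (6, 2)) [.bwd 542, .bwd 6066, .fwd 421, .fwd 5843],
   .loop none [.fwd 6068],
   .loop none [.fwd 5843, .bwd 6069],
   .loop none [.bwd 5228, .bwd 6069],
   .loop (some (7, 1)) [.bwd 5670, .bwd 6067, .fwd 421],
   .loop (some (3, 2)) [.fwd 6004, .bwd 422, .bwd 6070, .fwd 543],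
   .loop none [.bwd 6073],
   .loop none [.bwd 6004, .bwd 6074],
   .loop none [.fwd 5379, .bwd 6074],
   .loop none [.fwd 6003, .bwd 6074],
   .loop none [.bwd 6047, .bwd 6074],
   .loop (some (4, 2)) [.bwd 422, .fwd 6072, .fwd 5671],
   .loop (some (0, 2)) [.fwd 6048, .fwd 6060],
   .loop (some (10, 2)) [.fwd 6070, .bwd 6080, .fwd 5068],
   .loop (some (6, 2)) [.fwd 555, .fwd 6075, .bwd 443, .fwd 5926],
   .loop none [.fwd 6082],
   .loop none [.fwd 5926, .bwd 6083],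
   .loop none [.fwd 5147, .bwd 6083],
   .loop none [.fwd 5890, .bwd 6083],
   .loop none [.bwd 5995, .bwd 6083],
   .loop (some (7, 2)) [.fwd 5677, .fwd 6079, .bwd 443, .fwd 5927],
   .loop none [.bwd 6088],
   .loop none [.bwd 5677, .bwd 6089],
   .loop none [.fwd 6058, .bwd 6089],
   .loop (some (10, 2)) [.fwd 6075, .bwd 6005, .bwd 6052],
   .loop (some (3, 1)) [.bwd 4857, .bwd 5829, .fwd 5990],
   .loop (some (2, 1)) [.fwd 5835, .bwd 5828, .fwd 5990],
   .loop (some (10, 2)) [.bwd 5990, .bwd 5844, .fwd 425],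
   .loop (some (13, 2)) [.bwd 5829, .bwd 5844, .fwd 479],
   .loop (some (4, 2)) [.bwd 5988, .bwd 517, .bwd 532, .fwd 540],
   .loop none [.bwd 6097],
   .loop none [.fwd 5988, .bwd 6098],
   .loop none [.bwd 4811, .bwd 6098],
   .loop (some (0, 1)) [.fwd 6087, .fwd 6095],
   .loop (some (7, 1)) [.fwd 522, .fwd 532, .bwd 545],
   .loop (some (11, 2)) [.fwd 532, .bwd 6087, .fwd 6085],
   .loop (some (4, 2)) [.fwd 4758, .bwd 4761, .fwd 3485, .fwd 4762],
   .loop none [.fwd 6104],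
   .loop none [.bwd 576, .fwd 6105, .bwd 4762],
   .loop none [.bwd 6106],
   .loop none [.bwd 6019, .bwd 6107],
   .loop none [.fwd 576, .bwd 6107],
   .loop (some (6, 1)) [.fwd 552, .bwd 435, .bwd 4654],
   .loop (some (11, 2)) [.bwd 3485, .bwd 4681, .fwd 3485],
   .loop (some (7, 1)) [.fwd 529, .bwd 4486, .bwd 552],
   .loop (some (3, 2)) [.bwd 3357, .bwd 3363, .fwd 5668],
   .loop (some (14, 2)) [.fwd 6037, .bwd 441, .bwd 5996, .fwd 6090],
   .loop (some (6, 1)) [.fwd 3362, .fwd 3363, .bwd 5993],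
   .loop (some (2, 2)) [.bwd 5288, .bwd 3363, .bwd 3493],
   .loop (some (12, 2)) [.bwd 5288, .bwd 5996, .bwd 5540],
   .loop (some (3, 1)) [.bwd 5025, .bwd 5929, .bwd 6084],
   .loop (some (13, 2)) [.bwd 5929, .fwd 5931, .fwd 5829],
   .loop (some (6, 3)) [.bwd 476, .fwd 19, .fwd 514],
   .loop (some (8, 1)) [.fwd 4402, .bwd 505, .bwd 478],
   .loop (some (7, 3)) [.bwd 476, .bwd 916, .fwd 3354],
   .loop (some (14, 2)) [.bwd 510, .bwd 509, .bwd 477, .bwd 478],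
   .loop (some (6, 3)) [.fwd 478, .bwd 6120, .bwd 516],
   .loop (some (0, 1)) [.fwd 477, .fwd 6123],
   .loop (some (8, 1)) [.fwd 4401, .bwd 6121, .fwd 509],
   .loop (some (7, 3)) [.fwd 478, .bwd 6122, .bwd 3356],
   .loop (some (12, 2)) [.bwd 6121, .bwd 477, .fwd 505],
   .loop (some (6, 1)) [.bwd 518, .fwd 5987, .fwd 480],
   .loop (some (7, 1)) [.bwd 3358, .fwd 5989, .fwd 480],
   .loop (some (10, 2)) [.fwd 5987, .bwd 5997, .fwd 5025],
   .loop (some (6, 1)) [.bwd 519, .bwd 6129, .fwd 481],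
   .loop (some (7, 1)) [.bwd 3359, .bwd 6130, .fwd 481],
   .loop (some (3, 2)) [.bwd 482, .fwd 6132, .fwd 520],
   .loop (some (4, 2)) [.bwd 482, .fwd 6133, .fwd 3360],
   .loop (some (14, 2)) [.bwd 484, .bwd 483, .bwd 6123, .fwd 509],
   .loop (some (6, 1)) [.fwd 534, .fwd 6134, .bwd 510],
   .loop (some (7, 1)) [.fwd 3424, .fwd 6135, .bwd 510],
   .loop (some (10, 2)) [.fwd 6134, .bwd 6123, .bwd 6124],
   .loop (some (11, 2)) [.fwd 6135, .bwd 6123, .bwd 6127],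
   .loop (some (14, 0)) [.bwd 418, .fwd 475, .fwd 418, .bwd 484],
   .loop (some (0, 0)) [.fwd 6136, .bwd 6141],
   .loop (some (8, 3)) [.fwd 484, .bwd 4410, .bwd 4396],
   .loop (some (10, 2)) [.bwd 6063, .fwd 6141, .fwd 485],
   .loop (some (11, 2)) [.bwd 6065, .fwd 6141, .fwd 507],
   .loop (some (19, 2)) [.bwd 4257, .fwd 647, .bwd 3351, .bwd 5812, .fwd 600, .bwd 532, .fwd 528, .bwd 4778],
   .loop (some (0, 1)) [.fwd 6103, .fwd 6144],
   .loop (some (10, 2)) [.fwd 6136, .fwd 485, .bwd 6103, .bwd 5146],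
   .loop none [.fwd 6148],
   .loop none [.bwd 6137, .fwd 6149, .fwd 5146],
   .loop none [.fwd 6150],
   .loop none [.fwd 5145, .bwd 6149],
   .loop none [.fwd 6085, .bwd 6151],
   .loop none [.bwd 6103, .bwd 6151],
   .loop none [.fwd 6147, .bwd 6151],
   .loop (some (6, 1)) [.fwd 529, .bwd 501, .bwd 4765],
   .loop (some (3, 2)) [.bwd 4367, .fwd 4403, .fwd 4785],
   .loop (some (6, 1)) [.fwd 4427, .bwd 4403, .bwd 4402],
   .loop (some (11, 0)) [.bwd 6138, .fwd 6136, .fwd 507],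
   .loop (some (20, 1)) [.bwd 5923, .fwd 415, .bwd 413, .fwd 18, .fwd 476, .bwd 478, .fwd 509, .fwd 6152],
   .loop (some (8, 1)) [.fwd 4413, .bwd 6126, .fwd 510],
   .loop (some (11, 2)) [.bwd 6138, .bwd 6142, .fwd 6065],
   .loop (some (16, 4)) [.bwd 6138, .fwd 6137, .fwd 6153, .fwd 6084, .fwd 5927],
   .loop (some (12, 2)) [.bwd 6126, .bwd 6142, .bwd 6143],
   .loop (some (14, 0)) [.fwd 521, .bwd 6155, .bwd 533, .fwd 516],
   .loop (some (8, 1)) [.fwd 4427, .bwd 530, .bwd 516],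
   .loop (some (7, 4)) [.bwd 514, .fwd 20, .fwd 537, .fwd 5779],
   .loop none [.fwd 6167],
   .loop none [.bwd 6120, .fwd 6168, .bwd 5582],
   .loop none [.fwd 6169],
   .loop none [.fwd 5779, .bwd 6168],
   .loop none [.fwd 5581, .bwd 6170],
   .loop (some (11, 1)) [.bwd 6076, .fwd 6078, .bwd 6171, .fwd 6165],
   .loop none [.bwd 6173],
   .loop none [.bwd 6134, .fwd 6174, .bwd 5378],
   .loop none [.fwd 6175],
   .loop none [.fwd 6076, .bwd 6174],
   .loop none [.fwd 482, .fwd 6176, .bwd 5377],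
   .loop none [.fwd 6178],
   .loop none [.fwd 5376, .bwd 6179],
   .loop (some (16, 2)) [.fwd 5108, .bwd 5788, .bwd 6171, .fwd 6120, .bwd 6122],
   .loop (some (8, 1)) [.fwd 4426, .bwd 6166, .fwd 533],
   .loop (some (7, 4)) [.fwd 516, .fwd 6171, .bwd 539, .fwd 6053],
   .loop none [.fwd 6183],
   .loop none [.bwd 6124, .fwd 6184, .bwd 5310],
   .loop none [.fwd 6185],
   .loop none [.fwd 6053, .bwd 6184],
   .loop none [.fwd 5309, .bwd 6186],
   .loop (some (16, 2)) [.bwd 5921, .bwd 6052, .bwd 6187, .fwd 6124, .bwd 6127],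
   .loop (some (12, 2)) [.bwd 6166, .bwd 515, .fwd 530],
   .loop (some (7, 1)) [.bwd 541, .fwd 6099, .fwd 518],
   .loop (some (11, 2)) [.fwd 6099, .bwd 6131, .fwd 5026],
   .loop (some (7, 1)) [.bwd 6071, .bwd 542, .bwd 6191, .fwd 519],
   .loop none [.bwd 6193],
   .loop none [.fwd 6071, .bwd 6194],
   .loop none [.bwd 5229, .bwd 6194],
   .loop (some (16, 2)) [.bwd 6067, .fwd 6066, .bwd 6191, .bwd 6129, .fwd 6130],
   .loop (some (2, 2)) [.bwd 6196, .bwd 6132, .fwd 6180],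
   .loop (some (11, 0)) [.bwd 5069, .fwd 6081, .bwd 6195],
   .loop (some (16, 2)) [.bwd 6072, .bwd 6070, .bwd 6195, .bwd 6132, .fwd 6133],
   .loop (some (12, 2)) [.bwd 6196, .fwd 6199, .fwd 5070],
   .loop (some (13, 1)) [.fwd 6139, .bwd 520, .fwd 6199],
   .loop (some (16, 2)) [.fwd 6079, .bwd 6075, .bwd 6177, .fwd 6134, .bwd 6135],
   .loop (some (4, 3)) [.bwd 6102, .fwd 6093, .fwd 4858],
   .loop (some (8, 3)) [.fwd 522, .bwd 4434, .bwd 4420],
   .loop (some (13, 2)) [.fwd 6204, .bwd 6144, .fwd 540],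
   .loop (some (2, 2)) [.fwd 4778, .bwd 6156, .bwd 4764],
   .loop (some (4, 2)) [.bwd 4785, .fwd 4435, .fwd 4772],
   .loop (some (1, 2)) [.bwd 4785, .fwd 4432, .fwd 4484],
   .loop (some (5, 1)) [.fwd 4777, .bwd 4432, .bwd 4427],
   .loop (some (7, 1)) [.fwd 4462, .bwd 4435, .bwd 4427],
   .loop (some (4, 3)) [.fwd 6153, .fwd 6118, .fwd 5026],
   .loop (some (20, 1)) [.bwd 6055, .fwd 539, .bwd 537, .fwd 412, .fwd 514, .bwd 516, .fwd 533, .bwd 6212],
   .loop (some (2, 2)) [.bwd 6182, .bwd 6137, .fwd 6126],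
   .loop (some (8, 1)) [.fwd 4438, .bwd 6182, .fwd 534],
   .loop (some (17, 2)) [.bwd 5028, .bwd 5027, .fwd 6212, .fwd 6182, .bwd 4425],
   .loop (some (12, 2)) [.bwd 6182, .fwd 6155, .bwd 6205],
   .loop (some (13, 2)) [.fwd 6212, .fwd 6155, .bwd 6204],
   .loop (some (4, 1)) [.bwd 3751, .fwd 6029, .bwd 6171],
   .loop (some (13, 2)) [.fwd 6029, .bwd 6078, .bwd 543],
   .loop (some (13, 2)) [.bwd 6055, .bwd 538, .bwd 6029],
   .loop (some (2, 2)) [.bwd 6100, .fwd 6061, .fwd 5822],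
   .loop (some (12, 2)) [.bwd 6100, .bwd 6192, .fwd 5027],
   .loop (some (13, 2)) [.bwd 6093, .bwd 6095, .fwd 517],
   .loop (some (2, 2)) [.fwd 4615, .bwd 6110, .bwd 4653],
   .loop (some (20, 1)) [.fwd 6202, .fwd 516, .bwd 514, .bwd 412, .fwd 537, .bwd 539, .fwd 554, .fwd 6118],
   .loop (some (13, 2)) [.bwd 6118, .bwd 6101, .fwd 6093],
   .loop (some (19, 0)) [.fwd 4615, .fwd 6112, .bwd 4778, .fwd 6146, .bwd 4257, .fwd 647, .bwd 3351, .bwd 5812],
   .loop (some (11, 2)) [.bwd 5812, .bwd 5896, .fwd 5895],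
   .loop (some (13, 2)) [.bwd 5815, .bwd 5896, .bwd 590],
   .loop (some (9, 3)) [.bwd 583, .fwd 6228, .fwd 4602],
   .loop (some (7, 3)) [.bwd 5836, .fwd 584, .fwd 5812, .bwd 3337],
   .loop none [.bwd 6232],
   .loop none [.bwd 4854, .bwd 6233],
   .loop none [.fwd 5836, .bwd 6233],
   .loop (some (19, 2)) [.fwd 4434, .fwd 532, .bwd 600, .fwd 5812, .fwd 3351, .bwd 647, .fwd 643, .bwd 4505],
   .loop (some (1, 2)) [.bwd 587, .fwd 643, .fwd 4604],
   .loop (some (5, 1)) [.fwd 4567, .bwd 643, .bwd 624],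
   .loop (some (17, 2)) [.bwd 5852, .bwd 2929, .bwd 587, .fwd 4257, .fwd 4258],
   .loop (some (13, 2)) [.bwd 587, .bwd 5874, .bwd 1915],
   .loop (some (5, 1)) [.bwd 4605, .fwd 6237, .fwd 588],
   .loop (some (7, 2)) [.bwd 3338, .bwd 5849, .fwd 588, .fwd 5881],
   .loop none [.fwd 6242],
   .loop none [.bwd 4928, .bwd 6243],
   .loop none [.fwd 5881, .bwd 6243],
   .loop (some (10, 1)) [.fwd 5414, .bwd 5848, .bwd 6240],
   .loop (some (12, 2)) [.bwd 2929, .bwd 6240, .bwd 1914],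
   .loop (some (5, 1)) [.bwd 4606, .bwd 6241, .fwd 589],
   .loop (some (7, 2)) [.bwd 3339, .fwd 6245, .fwd 589, .fwd 5887]]

theorem just24_len : just24.length = 250 := by decide +kernel

theorem just24_ok : cert.okFacts 6000 just24 = true := by decide +kernel

/-- justifications -/
noncomputable def just25 : List Cert.Just :=
  [.loop none [.fwd 6249],
   .loop none [.fwd 4918, .bwd 6250],
   .loop none [.fwd 5887, .bwd 6250],
   .loop none [.bwd 3340, .fwd 6250, .bwd 3773],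
   .loop none [.fwd 6253],
   .loop none [.fwd 3772, .bwd 6254],
   .loop (some (4, 2)) [.bwd 5895, .bwd 590, .bwd 6252, .fwd 3340],
   .loop none [.bwd 6256],
   .loop none [.bwd 5022, .bwd 6257],
   .loop none [.fwd 5895, .bwd 6257],
   .loop none [.bwd 6229, .bwd 6257],
   .loop (some (1, 2)) [.bwd 590, .fwd 6248, .fwd 4607],
   .loop (some (9, 2)) [.fwd 6261, .bwd 5908, .bwd 6231],
   .loop (some (5, 1)) [.fwd 4618, .fwd 6261, .bwd 604],
   .loop (some (7, 2)) [.fwd 3353, .fwd 6259, .bwd 604, .fwd 5903],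
   .loop none [.fwd 6264],
   .loop none [.fwd 5183, .bwd 6265],
   .loop none [.fwd 5903, .bwd 6265],
   .loop none [.bwd 5184, .bwd 6265],
   .loop (some (11, 2)) [.fwd 6259, .bwd 5908, .bwd 6235],
   .loop (some (4, 2)) [.bwd 5916, .fwd 5783, .bwd 3243],
   .loop (some (9, 2)) [.bwd 5936, .bwd 5932, .fwd 598],
   .loop (some (11, 2)) [.bwd 5783, .bwd 5932, .fwd 601],
   .loop (some (13, 2)) [.bwd 5916, .bwd 5932, .fwd 619],
   .loop (some (3, 2)) [.bwd 4562, .fwd 4610, .fwd 4685],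
   .loop (some (6, 1)) [.fwd 4628, .bwd 4610, .bwd 4609],
   .loop (some (9, 0)) [.bwd 6263, .fwd 5905, .fwd 598],
   .loop (some (0, 1)) [.bwd 6276, .fwd 6271],
   .loop (some (0, 1)) [.fwd 6268, .fwd 6272],
   .loop (some (13, 2)) [.bwd 5904, .bwd 5934, .fwd 5916],
   .loop (some (6, 3)) [.bwd 616, .fwd 23, .fwd 653],
   .loop (some (5, 3)) [.bwd 616, .bwd 2624, .fwd 4559],
   .loop (some (8, 1)) [.fwd 4790, .bwd 645, .bwd 618],
   .loop (some (7, 4)) [.bwd 616, .fwd 252, .bwd 5179, .bwd 3635],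
   .loop none [.fwd 6283],
   .loop none [.fwd 6280, .fwd 6284, .fwd 2545],
   .loop none [.fwd 6285],
   .loop none [.bwd 3635, .bwd 6284],
   .loop none [.fwd 2544, .bwd 6284],
   .loop none [.fwd 2834, .bwd 6286],
   .loop none [.bwd 673, .fwd 6286, .bwd 3143],
   .loop none [.fwd 6290],
   .loop none [.bwd 5182, .bwd 6286],
   .loop none [.bwd 4387, .fwd 6291, .bwd 3142],
   .loop none [.bwd 6293],
   .loop none [.bwd 4397, .fwd 6291, .fwd 3636],
   .loop none [.bwd 6295],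
   .loop none [.fwd 4380, .bwd 6294],
   .loop none [.fwd 6022, .bwd 6294],
   .loop none [.fwd 4387, .bwd 6294],
   .loop none [.bwd 4381, .bwd 6294],
   .loop none [.fwd 4397, .bwd 6296],
   .loop none [.bwd 4398, .bwd 6296],
   .loop (some (14, 2)) [.bwd 650, .bwd 649, .bwd 617, .bwd 618],
   .loop (some (6, 3)) [.fwd 618, .bwd 6280, .bwd 655],
   .loop (some (9, 3)) [.bwd 617, .bwd 6281, .fwd 4560],
   .loop (some (0, 1)) [.fwd 617, .fwd 6303],
   .loop (some (8, 1)) [.fwd 4789, .bwd 6282, .fwd 649],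
   .loop (some (7, 3)) [.fwd 618, .fwd 6287, .fwd 5178],
   .loop (some (12, 2)) [.bwd 6282, .bwd 617, .fwd 645],
   .loop (some (6, 1)) [.bwd 657, .bwd 5773, .fwd 620],
   .loop (some (5, 1)) [.bwd 4563, .fwd 5935, .fwd 620],
   .loop (some (7, 1)) [.bwd 5160, .bwd 5774, .fwd 620],
   .loop (some (10, 2)) [.bwd 5773, .bwd 5937, .fwd 6000],
   .loop (some (6, 1)) [.bwd 658, .bwd 6310, .fwd 621],
   .loop (some (5, 1)) [.bwd 4564, .bwd 6311, .fwd 621],
   .loop (some (7, 1)) [.bwd 4343, .bwd 6312, .fwd 621],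
   .loop (some (3, 2)) [.bwd 622, .fwd 6314, .fwd 659],
   .loop (some (4, 2)) [.bwd 622, .fwd 6316, .fwd 4344],
   .loop (some (1, 2)) [.bwd 622, .fwd 6315, .fwd 4565],
   .loop (some (14, 2)) [.fwd 5874, .bwd 624, .bwd 623, .bwd 6303, .fwd 649],
   .loop none [.bwd 6320],
   .loop none [.bwd 1916, .bwd 6321],
   .loop none [.bwd 4309, .bwd 6321],
   .loop none [.fwd 1915, .bwd 6321],
   .loop none [.bwd 5874, .bwd 6321],
   .loop (some (6, 2)) [.fwd 677, .fwd 6317, .bwd 650, .fwd 6322],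
   .loop none [.fwd 6326],
   .loop none [.fwd 6322, .bwd 6327],
   .loop none [.fwd 4044, .bwd 6327],
   .loop none [.bwd 4310, .bwd 6327],
   .loop none [.bwd 5877, .bwd 6327],
   .loop none [.bwd 4172, .bwd 6327],
   .loop (some (9, 2)) [.fwd 6319, .bwd 6303, .bwd 6305],
   .loop (some (5, 1)) [.fwd 4573, .fwd 6319, .bwd 650],
   .loop (some (7, 2)) [.fwd 4352, .fwd 6318, .bwd 650, .fwd 6323],
   .loop none [.bwd 6335],
   .loop none [.bwd 4352, .bwd 6336],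
   .loop none [.fwd 4351, .bwd 6336],
   .loop (some (10, 2)) [.fwd 6317, .bwd 6303, .bwd 6304],
   .loop (some (11, 2)) [.fwd 6318, .bwd 6303, .bwd 6308],
   .loop (some (14, 0)) [.bwd 586, .fwd 615, .fwd 586, .bwd 624],
   .loop (some (4, 2)) [.bwd 5857, .fwd 5856, .bwd 2873],
   .loop (some (9, 2)) [.bwd 6238, .fwd 6341, .fwd 643],
   .loop (some (0, 0)) [.fwd 6325, .bwd 6341],
   .loop (some (8, 3)) [.fwd 624, .fwd 4257, .fwd 4793],
   .loop (some (10, 2)) [.bwd 5855, .fwd 6341, .fwd 625],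
   .loop (some (11, 2)) [.bwd 5856, .fwd 6341, .fwd 647],
   .loop (some (13, 2)) [.bwd 5857, .fwd 6341, .fwd 587],
   .loop (some (3, 2)) [.bwd 4604, .fwd 4568, .fwd 4623],
   .loop (some (6, 1)) [.fwd 4690, .bwd 4568, .bwd 4567],
   .loop (some (9, 0)) [.bwd 6334, .fwd 6325, .fwd 643],
   .loop (some (0, 1)) [.bwd 6351, .fwd 6343],
   .loop (some (2, 2)) [.fwd 4505, .fwd 4568, .bwd 4734],
   .loop (some (3, 3)) [.bwd 4422, .bwd 4373, .bwd 6301, .fwd 3637],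
   .loop none [.bwd 6354],
   .loop none [.fwd 4422, .bwd 6355],
   .loop none [.bwd 4423, .bwd 6355],
   .loop (some (4, 2)) [.bwd 3638, .fwd 6356, .bwd 4779, .fwd 4484],
   .loop none [.fwd 6358],
   .loop none [.bwd 6209, .bwd 6359],
   .loop none [.fwd 4484, .bwd 6359],
   .loop none [.bwd 4458, .bwd 6359],
   .loop (some (6, 1)) [.fwd 4372, .fwd 4373, .bwd 4790],
   .loop (some (1, 2)) [.fwd 6356, .bwd 4504, .fwd 4772],
   .loop (some (7, 1)) [.fwd 4777, .fwd 4779, .bwd 4790],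
   .loop (some (14, 2)) [.fwd 5179, .bwd 648, .bwd 4255, .fwd 6337],
   .loop (some (0, 1)) [.fwd 4255, .fwd 6347],
   .loop (some (12, 1)) [.bwd 6255, .fwd 6260, .fwd 3351, .bwd 4255],
   .loop none [.bwd 6368],
   .loop none [.fwd 6323, .fwd 6369, .bwd 3771],
   .loop none [.fwd 6370],
   .loop none [.fwd 6255, .bwd 6369],
   .loop none [.fwd 6328, .fwd 6371, .bwd 3770],
   .loop none [.fwd 6373],
   .loop none [.bwd 6331, .fwd 6374, .bwd 3769],
   .loop none [.fwd 6375],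
   .loop none [.bwd 2527, .fwd 6376, .bwd 3768],
   .loop none [.fwd 6377],
   .loop none [.fwd 3767, .bwd 6378],
   .loop (some (13, 2)) [.fwd 3333, .bwd 4255, .bwd 3078],
   .loop (some (4, 2)) [.bwd 6324, .fwd 6323, .bwd 3078],
   .loop (some (2, 2)) [.bwd 6307, .bwd 6328, .fwd 6330],
   .loop (some (8, 1)) [.fwd 4797, .bwd 6307, .fwd 650],
   .loop (some (10, 2)) [.fwd 6328, .bwd 6344, .fwd 5855],
   .loop (some (12, 2)) [.bwd 6307, .bwd 6344, .bwd 6345],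
   .loop (some (13, 2)) [.bwd 6324, .bwd 6344, .fwd 5857],
   .loop (some (3, 2)) [.bwd 6292, .fwd 6280, .fwd 6288],
   .loop (some (14, 0)) [.fwd 660, .fwd 6384, .bwd 676, .fwd 655],
   .loop (some (4, 3)) [.bwd 6292, .fwd 6289, .bwd 3622, .fwd 1897],
   .loop none [.bwd 6389],
   .loop none [.fwd 6387, .bwd 6390],
   .loop none [.bwd 1898, .fwd 6390, .bwd 5043],
   .loop none [.fwd 6392],
   .loop none [.fwd 6292, .bwd 6390],
   .loop none [.fwd 5042, .bwd 6393],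
   .loop (some (19, 0)) [.fwd 3141, .fwd 6299, .bwd 673, .fwd 6289, .fwd 717, .fwd 766, .bwd 717, .bwd 6289],
   .loop (some (5, 2)) [.bwd 6396, .bwd 653, .bwd 368],
   .loop (some (8, 1)) [.fwd 4372, .bwd 673, .bwd 655],
   .loop (some (11, 1)) [.bwd 3940, .fwd 3944, .bwd 6289, .fwd 6388],
   .loop none [.bwd 6399],
   .loop none [.bwd 6317, .fwd 6400, .bwd 1985],
   .loop none [.fwd 6401],
   .loop none [.fwd 3940, .bwd 6400],
   .loop none [.bwd 4060, .bwd 6400],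
   .loop none [.fwd 6318, .fwd 6402, .fwd 4059],
   .loop none [.bwd 6405],
   .loop none [.fwd 622, .fwd 6402, .bwd 1984],
   .loop none [.fwd 6407],
   .loop none [.bwd 6318, .bwd 6406],
   .loop none [.fwd 2985, .fwd 6406, .bwd 4344],
   .loop none [.fwd 6410],
   .loop none [.bwd 4345, .bwd 6406],
   .loop none [.fwd 6337, .bwd 6406],
   .loop none [.bwd 6366, .bwd 6406],
   .loop none [.fwd 6340, .bwd 6406],
   .loop none [.fwd 1983, .bwd 6408],
   .loop none [.fwd 6316, .bwd 6411],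
   .loop none [.fwd 4343, .bwd 6411],
   .loop (some (17, 2)) [.bwd 1899, .bwd 1898, .fwd 6394, .fwd 673, .bwd 6301],
   .loop (some (12, 2)) [.bwd 673, .fwd 6388, .fwd 6404],
   .loop (some (13, 2)) [.fwd 6394, .fwd 6388, .bwd 659],
   .loop (some (8, 2)) [.fwd 4371, .bwd 6398, .fwd 676, .fwd 6330],
   .loop none [.bwd 6422],
   .loop none [.bwd 4311, .fwd 6423, .bwd 4370],
   .loop none [.fwd 6424],
   .loop none [.bwd 4371, .bwd 6423],
   .loop none [.fwd 4389, .bwd 6423],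
   .loop none [.fwd 4369, .bwd 6425],
   .loop (some (7, 4)) [.fwd 655, .fwd 6289, .bwd 703, .fwd 3678],
   .loop none [.fwd 6429],
   .loop none [.bwd 6304, .fwd 6430, .bwd 2026],
   .loop none [.fwd 6431],
   .loop none [.fwd 3678, .bwd 6430],
   .loop none [.bwd 6398, .fwd 6430, .fwd 3699],
   .loop none [.bwd 6434],
   .loop none [.fwd 6308, .fwd 6432, .fwd 3698],
   .loop none [.bwd 6436],
   .loop none [.fwd 2025, .bwd 6432],
   .loop none [.fwd 6363, .bwd 6435],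
   .loop none [.fwd 6398, .bwd 6435],
   .loop none [.bwd 4372, .bwd 6435],
   .loop none [.fwd 6426, .bwd 6435],
   .loop none [.bwd 6308, .bwd 6437],
   .loop none [.fwd 6338, .bwd 6437],
   .loop none [.fwd 5178, .bwd 6437],
   .loop none [.fwd 6415, .bwd 6437],
   .loop (some (12, 2)) [.fwd 6440, .bwd 654, .fwd 673],
   .loop (some (19, 1)) [.fwd 5492, .fwd 5493, .fwd 5494, .fwd 5495, .bwd 5444, .fwd 5443, .fwd 4911, .bwd 5099, .bwd 5787],
   .loop none [.fwd 6448],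
   .loop none [.bwd 5787, .bwd 6449],
   .loop none [.fwd 5491, .fwd 6449, .fwd 5679],
   .loop none [.bwd 6451],
   .loop none [.fwd 5678, .bwd 6449],
   .loop none [.bwd 5491, .bwd 6452],
   .loop none [.fwd 5702, .fwd 6452, .bwd 5490],
   .loop none [.bwd 6455],
   .loop none [.fwd 5730, .bwd 6456],
   .loop none [.bwd 5702, .bwd 6456],
   .loop none [.fwd 5499, .fwd 6456, .bwd 5701],
   .loop none [.fwd 6459],
   .loop none [.bwd 5536, .fwd 6460, .bwd 5700],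
   .loop none [.fwd 6461],
   .loop none [.fwd 5699, .bwd 6462],
   .loop (some (7, 1)) [.bwd 3897, .bwd 705, .bwd 5099, .fwd 657],
   .loop none [.bwd 6464],
   .loop none [.fwd 6310, .fwd 6465, .fwd 3898],
   .loop none [.fwd 6466],
   .loop none [.fwd 3897, .bwd 6465],
   .loop none [.bwd 3905, .bwd 6465],
   .loop none [.bwd 6312, .fwd 6467, .fwd 3899],
   .loop none [.bwd 6470],
   .loop none [.fwd 6312, .bwd 6471],
   .loop none [.fwd 5160, .bwd 6471],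
   .loop none [.fwd 6418, .bwd 6471],
   .loop (some (19, 0)) [.fwd 5426, .fwd 5427, .fwd 5428, .fwd 5429, .bwd 5411, .fwd 5410, .fwd 4889, .bwd 6468],
   .loop (some (8, 2)) [.bwd 6469, .bwd 657, .fwd 5100],
   .loop (some (7, 1)) [.bwd 3867, .bwd 706, .bwd 6468, .fwd 658],
   .loop none [.bwd 6477],
   .loop none [.fwd 6314, .fwd 6478, .fwd 4037],
   .loop none [.fwd 6479],
   .loop none [.fwd 3867, .bwd 6478],
   .loop none [.bwd 2887, .bwd 6478],
   .loop none [.fwd 6417, .fwd 6480, .fwd 4038],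
   .loop none [.fwd 6483],
   .loop none [.bwd 622, .fwd 6480, .bwd 4197],
   .loop none [.fwd 6485],
   .loop none [.fwd 3890, .bwd 6484],
   .loop none [.bwd 2985, .fwd 6484, .bwd 3302],
   .loop none [.fwd 6488],
   .loop none [.bwd 6383, .fwd 6486, .bwd 4196],
   .loop none [.bwd 6490],
   .loop none [.fwd 3301, .bwd 6489],
   .loop none [.fwd 6383, .bwd 6491],
   .loop none [.bwd 4797, .bwd 6491],
   .loop none [.fwd 4796, .bwd 6491],
   .loop (some (19, 0)) [.fwd 5394, .fwd 5395, .fwd 5396, .fwd 5397, .bwd 4153, .fwd 4152, .bwd 4028, .bwd 6481],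
   .loop (some (2, 2)) [.bwd 6482, .bwd 6314, .fwd 6416],
   .loop (some (8, 2)) [.bwd 6482, .bwd 658, .fwd 6469],
   .loop (some (11, 0)) [.bwd 2477, .fwd 4035, .bwd 6481]]

theorem just25_len : just25.length = 250 := by decide +kernel

theorem just25_ok : cert.okFacts 6250 just25 = true := by decide +kernel

/-- justifications -/
noncomputable def just26 : List Cert.Just :=
  [.loop (some (17, 2)) [.bwd 4061, .bwd 6404, .bwd 659, .fwd 6482, .fwd 2888],
   .loop (some (12, 2)) [.bwd 6482, .fwd 6499, .fwd 2478],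
   .loop (some (13, 1)) [.fwd 6339, .bwd 659, .fwd 6499],
   .loop (some (2, 2)) [.bwd 6404, .fwd 6317, .bwd 6493],
   .loop (some (8, 2)) [.bwd 6404, .fwd 660, .fwd 4171],
   .loop (some (12, 2)) [.bwd 6404, .bwd 6339, .bwd 6440],
   .loop (some (4, 3)) [.fwd 4170, .bwd 4094, .fwd 1966],
   .loop (some (2, 2)) [.bwd 4171, .bwd 5855, .bwd 6345],
   .loop (some (8, 3)) [.bwd 4171, .fwd 661, .fwd 3277, .fwd 4384],
   .loop none [.fwd 6508],
   .loop none [.bwd 6504, .fwd 6509, .fwd 4388],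
   .loop none [.fwd 6510],
   .loop none [.fwd 4384, .bwd 6509],
   .loop none [.fwd 4386, .bwd 6509],
   .loop none [.fwd 6427, .bwd 6511],
   .loop (some (17, 2)) [.bwd 1968, .bwd 1967, .fwd 6506, .fwd 4171, .fwd 4123],
   .loop (some (13, 2)) [.fwd 6506, .bwd 6346, .fwd 354],
   .loop (some (10, 2)) [.bwd 4373, .bwd 6420, .bwd 6503],
   .loop (some (13, 2)) [.fwd 6301, .bwd 6420, .fwd 4061],
   .loop (some (17, 2)) [.bwd 2528, .bwd 2527, .bwd 6331, .fwd 6330, .fwd 4311],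
   .loop (some (12, 2)) [.bwd 6330, .bwd 6384, .fwd 4171],
   .loop (some (13, 2)) [.bwd 6331, .bwd 6384, .bwd 6506],
   .loop (some (19, 1)) [.bwd 3139, .fwd 3199, .fwd 3139, .fwd 3140, .fwd 3141, .fwd 6299, .bwd 673, .fwd 6289, .bwd 3633],
   .loop none [.fwd 6522],
   .loop none [.bwd 3633, .bwd 6523],
   .loop none [.fwd 3632, .bwd 6523],
   .loop (some (9, 2)) [.fwd 6524, .bwd 3944, .bwd 4052],
   .loop (some (13, 2)) [.fwd 3622, .bwd 3944, .bwd 707],
   .loop (some (9, 3)) [.fwd 3692, .bwd 702, .bwd 6524, .fwd 4231],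
   .loop none [.fwd 6528],
   .loop none [.fwd 4229, .bwd 6529],
   .loop (some (13, 2)) [.bwd 3680, .bwd 702, .bwd 3622],
   .loop (some (14, 2)) [.fwd 5321, .fwd 5322, .bwd 3818, .fwd 5155],
   .loop (some (20, 5)) [.fwd 3965, .bwd 706, .bwd 705, .bwd 704, .bwd 326, .fwd 5049, .fwd 5587, .fwd 5421],
   .loop (some (5, 2)) [.bwd 5114, .fwd 3810, .fwd 705, .bwd 3885],
   .loop none [.bwd 6534],
   .loop none [.bwd 5680, .bwd 6535],
   .loop none [.fwd 5114, .bwd 6535],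
   .loop none [.bwd 4224, .bwd 6535],
   .loop (some (8, 1)) [.fwd 4970, .fwd 4911, .bwd 5322],
   .loop (some (1, 2)) [.bwd 3853, .bwd 3885, .fwd 6536],
   .loop (some (5, 2)) [.bwd 6538, .fwd 3885, .fwd 706, .bwd 4031],
   .loop none [.bwd 6541],
   .loop none [.bwd 4225, .bwd 6542],
   .loop none [.fwd 6538, .bwd 6542],
   .loop (some (1, 2)) [.fwd 4052, .bwd 707, .bwd 4031, .fwd 6543],
   .loop none [.fwd 6545],
   .loop none [.fwd 6543, .bwd 6546],
   .loop none [.bwd 4226, .bwd 6546],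
   .loop none [.fwd 4234, .bwd 6546],
   .loop (some (20, 4)) [.fwd 3622, .bwd 703, .fwd 718, .fwd 719, .bwd 707, .bwd 3965, .bwd 6533, .fwd 5422],
   .loop (some (5, 2)) [.bwd 6549, .fwd 4052, .bwd 719, .fwd 4162],
   .loop none [.bwd 6551],
   .loop none [.fwd 6549, .bwd 6552],
   .loop (some (20, 2)) [.bwd 5155, .bwd 5800, .bwd 3680, .fwd 718, .fwd 719, .fwd 708, .bwd 4094, .fwd 5389],
   .loop (some (13, 3)) [.fwd 4094, .bwd 4119, .fwd 321, .fwd 5400],
   .loop none [.fwd 6555],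
   .loop none [.bwd 5401, .bwd 6556],
   .loop none [.fwd 5400, .bwd 6556],
   .loop (some (13, 1)) [.fwd 5399, .bwd 4165, .bwd 4163],
   .loop (some (19, 1)) [.fwd 3198, .fwd 4232, .fwd 5865, .fwd 4161, .bwd 3277, .fwd 675, .bwd 765, .fwd 2919, .bwd 2937],
   .loop none [.bwd 6560],
   .loop none [.fwd 2936, .fwd 6561, .fwd 5691],
   .loop none [.fwd 6562],
   .loop none [.fwd 6561, .fwd 5868, .bwd 6561],
   .loop none [.bwd 3198, .bwd 6561],
   .loop none [.fwd 3195, .bwd 6561],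
   .loop none [.fwd 3193, .bwd 6561],
   .loop none [.bwd 3194, .bwd 6561],
   .loop none [.bwd 3172, .bwd 6563],
   .loop none [.fwd 6463, .bwd 6563],
   .loop none [.fwd 3153, .bwd 6563],
   .loop none [.fwd 3151, .bwd 6563],
   .loop none [.bwd 3152, .bwd 6563],
   .loop none [.fwd 5732, .bwd 6563],
   .loop (some (9, 2)) [.fwd 2937, .bwd 3035, .bwd 3096],
   .loop (some (1, 1)) [.bwd 3144, .fwd 3085, .bwd 2937],
   .loop (some (9, 3)) [.fwd 2992, .bwd 747, .bwd 2937, .fwd 6568],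
   .loop none [.fwd 6577],
   .loop none [.bwd 3200, .bwd 6578],
   .loop none [.fwd 6566, .bwd 6578],
   .loop none [.fwd 6568, .bwd 6578],
   .loop (some (9, 2)) [.fwd 3045, .bwd 3052, .fwd 763],
   .loop (some (1, 2)) [.fwd 3096, .bwd 753, .bwd 3045, .fwd 3196],
   .loop none [.fwd 6583],
   .loop none [.fwd 3196, .bwd 6584],
   .loop none [.bwd 3197, .bwd 6584],
   .loop none [.fwd 3201, .bwd 6584],
   .loop (some (9, 2)) [.fwd 3096, .bwd 3111, .bwd 2992],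
   .loop (some (5, 2)) [.bwd 6587, .fwd 3096, .bwd 768, .fwd 3144],
   .loop none [.bwd 6589],
   .loop none [.fwd 6587, .bwd 6590],
   .loop none [.fwd 6579, .bwd 6590],
   .loop (some (4, 2)) [.bwd 3147, .bwd 3199, .fwd 3147],
   .loop (some (0, 1)) [.fwd 3145, .fwd 6582],
   .loop (some (7, 1)) [.fwd 3148, .fwd 3199, .bwd 3148],
   .loop (some (11, 1)) [.fwd 3145, .fwd 3199, .bwd 3145],
   .loop (some (12, 1)) [.fwd 6526, .bwd 3139, .bwd 3145],
   .loop (some (20, 3)) [.bwd 6571, .fwd 6572, .bwd 3159, .fwd 3160, .fwd 3160, .fwd 3160, .fwd 3159, .bwd 2052, .fwd 5740],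
   .loop none [.bwd 6598],
   .loop none [.bwd 3174, .bwd 6599],
   .loop none [.fwd 6571, .bwd 6599],
   .loop none [.fwd 6573, .bwd 6599],
   .loop (some (20, 2)) [.bwd 6044, .fwd 6045, .bwd 1789, .fwd 1832, .fwd 1832, .fwd 1832, .fwd 1789, .bwd 1772],
   .loop (some (2, 1)) [.fwd 2765, .bwd 2824, .bwd 2760],
   .loop (some (3, 2)) [.bwd 2772, .fwd 2514, .bwd 2770, .bwd 3850],
   .loop none [.fwd 6605],
   .loop none [.fwd 3849, .bwd 6606],
   .loop none [.fwd 5003, .fwd 6606, .fwd 3850],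
   .loop none [.bwd 6608],
   .loop none [.bwd 1101, .fwd 6609, .bwd 5002],
   .loop none [.fwd 6610],
   .loop none [.bwd 5003, .bwd 6609],
   .loop none [.bwd 1102, .fwd 6611, .bwd 5001],
   .loop none [.fwd 6613],
   .loop none [.bwd 1136, .fwd 6614, .bwd 5000],
   .loop none [.fwd 6615],
   .loop none [.fwd 1861, .fwd 6616, .bwd 4999],
   .loop none [.fwd 6617],
   .loop none [.fwd 4998, .bwd 6618],
   .loop (some (10, 2)) [.fwd 2770, .bwd 2470, .fwd 2509],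
   .loop (some (3, 2)) [.bwd 2509, .bwd 1062, .bwd 2765, .fwd 1097],
   .loop none [.bwd 6621],
   .loop none [.fwd 6622, .fwd 2510, .bwd 6622],
   .loop none [.fwd 2509, .bwd 6622],
   .loop none [.bwd 6620, .bwd 6622],
   .loop (some (10, 2)) [.fwd 2765, .bwd 2466, .fwd 1064],
   .loop (some (6, 2)) [.fwd 1105, .fwd 6624, .bwd 1069, .fwd 2772],
   .loop none [.fwd 6627],
   .loop none [.fwd 6628, .fwd 2882, .bwd 6628],
   .loop none [.fwd 2772, .bwd 6628],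
   .loop none [.bwd 5748, .bwd 6628],
   .loop none [.bwd 6607, .bwd 6628],
   .loop none [.fwd 6612, .bwd 6628],
   .loop none [.bwd 2773, .bwd 6628],
   .loop (some (2, 1)) [.bwd 6632, .fwd 6630, .fwd 2812, .bwd 6624],
   .loop none [.bwd 6635],
   .loop none [.fwd 3848, .bwd 6636],
   .loop none [.fwd 6632, .bwd 6636],
   .loop (some (10, 2)) [.fwd 6624, .bwd 2508, .bwd 2760],
   .loop (some (16, 3)) [.fwd 5339, .fwd 3089, .bwd 6624, .fwd 6637, .bwd 3847],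
   .loop (some (4, 2)) [.bwd 1865, .fwd 1102, .fwd 1863],
   .loop (some (0, 1)) [.fwd 6634, .fwd 6626],
   .loop (some (7, 1)) [.fwd 1855, .bwd 1102, .fwd 1096],
   .loop (some (11, 2)) [.bwd 1102, .bwd 6634, .fwd 6631],
   .loop (some (16, 2)) [.fwd 5532, .bwd 5552, .fwd 5551, .fwd 3100, .bwd 6630, .fwd 6631],
   .loop none [.fwd 6645],
   .loop none [.fwd 6631, .bwd 6646],
   .loop none [.bwd 5749, .bwd 6646],
   .loop none [.bwd 6644, .bwd 6646],
   .loop (some (4, 0)) [.fwd 5531, .fwd 6647, .fwd 6633],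
   .loop (some (7, 3)) [.bwd 6650, .bwd 1078, .fwd 62, .fwd 1126],
   .loop none [.bwd 6651],
   .loop none [.fwd 6650, .bwd 6652],
   .loop none [.bwd 1143, .fwd 6652, .bwd 5530],
   .loop none [.fwd 6654],
   .loop none [.bwd 5531, .bwd 6652],
   .loop none [.bwd 1175, .fwd 6655, .bwd 5529],
   .loop none [.fwd 6657],
   .loop none [.fwd 2434, .fwd 6658, .bwd 5528],
   .loop none [.fwd 6659],
   .loop none [.bwd 2417, .fwd 6660, .bwd 5527],
   .loop none [.fwd 6661],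
   .loop none [.fwd 5526, .bwd 6662],
   .loop (some (11, 2)) [.fwd 6653, .bwd 6625, .fwd 6637],
   .loop (some (16, 4)) [.fwd 6653, .fwd 2770, .bwd 2942, .bwd 3741, .fwd 5684],
   .loop (some (16, 4)) [.fwd 6641, .fwd 2760, .bwd 2761, .bwd 3205, .bwd 5733],
   .loop (some (4, 2)) [.bwd 6637, .bwd 1097, .fwd 6643, .fwd 1133],
   .loop none [.bwd 6667],
   .loop none [.fwd 3847, .bwd 6668],
   .loop none [.fwd 6637, .bwd 6668],
   .loop none [.bwd 6664, .bwd 6668],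
   .loop (some (11, 2)) [.bwd 6643, .bwd 6626, .fwd 1102],
   .loop (some (16, 4)) [.bwd 6643, .fwd 2765, .bwd 2819, .bwd 3209, .fwd 5746],
   .loop (some (7, 2)) [.fwd 1146, .fwd 6670, .bwd 1105, .bwd 6647],
   .loop none [.fwd 6674],
   .loop none [.bwd 5532, .bwd 6675],
   .loop none [.bwd 6647, .bwd 6675],
   .loop none [.bwd 6648, .bwd 6675],
   .loop none [.fwd 6656, .bwd 6675],
   .loop none [.bwd 6649, .bwd 6675],
   .loop (some (11, 2)) [.fwd 6670, .bwd 6639, .bwd 6641],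
   .loop (some (19, 2)) [.fwd 2447, .bwd 1175, .bwd 1143, .fwd 6653, .fwd 1101, .fwd 1102, .bwd 1142, .bwd 1174],
   .loop (some (9, 1)) [.fwd 6680, .fwd 1142, .bwd 6680],
   .loop (some (0, 1)) [.fwd 6680, .fwd 6672],
   .loop (some (1, 2)) [.bwd 1863, .bwd 1142, .fwd 1863],
   .loop (some (2, 2)) [.fwd 1174, .fwd 1136, .bwd 1751],
   .loop (some (5, 1)) [.fwd 1855, .fwd 1142, .bwd 1855],
   .loop (some (12, 2)) [.fwd 1174, .bwd 6680, .fwd 6678],
   .loop (some (3, 1)) [.bwd 6676, .fwd 6679, .bwd 6665],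
   .loop (some (6, 3)) [.fwd 6665, .bwd 1126, .bwd 1117, .fwd 1754],
   .loop none [.bwd 6690],
   .loop none [.bwd 6665, .bwd 6691],
   .loop none [.fwd 5684, .bwd 6691],
   .loop none [.bwd 1773, .fwd 6691, .fwd 5685],
   .loop none [.fwd 6694],
   .loop none [.bwd 6689, .bwd 6691],
   .loop none [.fwd 1709, .fwd 6695, .fwd 5686],
   .loop none [.fwd 6697],
   .loop none [.bwd 5687, .bwd 6698],
   .loop (some (19, 0)) [.fwd 1143, .fwd 1175, .bwd 2447, .bwd 6682, .fwd 1174, .bwd 1102, .bwd 1101, .bwd 6653],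
   .loop (some (9, 1)) [.fwd 6671, .fwd 6700, .bwd 6671],
   .loop (some (8, 1)) [.fwd 1166, .bwd 1143, .bwd 1128],
   .loop (some (10, 2)) [.fwd 6692, .bwd 6671, .fwd 6669],
   .loop (some (17, 2)) [.bwd 5750, .bwd 6678, .fwd 6679, .fwd 1143, .fwd 1213],
   .loop (some (2, 2)) [.bwd 6702, .bwd 6666, .fwd 6619],
   .loop (some (8, 2)) [.fwd 1165, .bwd 6702, .fwd 1145, .fwd 6678],
   .loop none [.fwd 6706],
   .loop none [.fwd 6678, .bwd 6707],
   .loop none [.fwd 1164, .fwd 6707, .fwd 5750],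
   .loop none [.fwd 6709],
   .loop none [.bwd 6688, .bwd 6707],
   .loop none [.bwd 5751, .bwd 6710],
   .loop none [.fwd 6704, .bwd 6710],
   .loop (some (12, 2)) [.bwd 6702, .bwd 1127, .fwd 1143],
   .loop (some (3, 2)) [.bwd 6669, .bwd 1133, .bwd 6673, .fwd 1761],
   .loop none [.bwd 6715],
   .loop none [.fwd 6669, .bwd 6716],
   .loop none [.bwd 6640, .bwd 6716],
   .loop none [.fwd 1761, .fwd 6716, .bwd 3846],
   .loop none [.fwd 6719],
   .loop none [.bwd 6703, .bwd 6716],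
   .loop none [.fwd 3845, .bwd 6720],
   .loop (some (8, 3)) [.fwd 1855, .bwd 1174, .bwd 1158],
   .loop (some (10, 2)) [.fwd 6673, .bwd 6672, .fwd 1136],
   .loop (some (6, 2)) [.fwd 1776, .fwd 6717, .bwd 1146, .fwd 6676],
   .loop none [.fwd 6725],
   .loop none [.fwd 6676, .bwd 6726],
   .loop none [.fwd 5552, .bwd 6726],
   .loop none [.fwd 6696, .bwd 6726],
   .loop none [.bwd 5747, .bwd 6726],
   .loop (some (8, 3)) [.bwd 1856, .bwd 6723, .fwd 1177],
   .loop (some (12, 2)) [.fwd 6731, .bwd 6681, .fwd 6702],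
   .loop (some (1, 2)) [.fwd 1861, .fwd 1771, .fwd 6603],
   .loop (some (5, 1)) [.bwd 5625, .bwd 1771, .bwd 1852],
   .loop (some (3, 2)) [.bwd 1213, .fwd 1167, .fwd 1245],
   .loop (some (14, 0)) [.fwd 1178, .fwd 6711, .bwd 1156, .bwd 1144],
   .loop (some (4, 2)) [.bwd 1213, .fwd 1175, .fwd 2059],
   .loop (some (6, 2)) [.fwd 1743, .bwd 1167, .bwd 1166, .bwd 6705],
   .loop none [.fwd 6738],
   .loop none [.bwd 6705, .bwd 6739],
   .loop none [.fwd 4997, .bwd 6739],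
   .loop none [.fwd 6619, .bwd 6739],
   .loop (some (1, 2)) [.bwd 1213, .bwd 1173, .fwd 1213],
   .loop (some (5, 1)) [.fwd 1166, .fwd 1173, .bwd 1166],
   .loop (some (7, 1)) [.fwd 2446, .bwd 1175, .bwd 1166],
   .loop (some (3, 3)) [.bwd 2778, .bwd 6686, .fwd 3219, .fwd 3220],
   .loop none [.fwd 6746],
   .loop none [.bwd 2779, .fwd 6747, .bwd 3220],
   .loop none [.fwd 6748]]

theorem just26_len : just26.length = 250 := by decide +kernel

theorem just26_ok : cert.okFacts 6500 just26 = true := by decide +kernel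

/-- justifications -/
noncomputable def just27 : List Cert.Just :=
  [.loop none [.bwd 3221, .bwd 6747],
   .loop none [.fwd 3219, .bwd 6749],
   .loop (some (4, 1)) [.bwd 6750, .bwd 2778, .fwd 6682],
   .loop (some (19, 0)) [.fwd 1174, .bwd 1102, .bwd 1101, .bwd 6653, .fwd 1143, .fwd 1175, .bwd 2447, .bwd 6682],
   .loop (some (13, 2)) [.bwd 2778, .bwd 6711, .bwd 1164],
   .loop (some (6, 3)) [.fwd 1158, .bwd 6686, .bwd 1737],
   .loop (some (2, 1)) [.bwd 6722, .fwd 6673, .bwd 6723, .bwd 6755],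
   .loop none [.bwd 6756],
   .loop none [.fwd 3844, .bwd 6757],
   .loop none [.fwd 6722, .bwd 6757],
   .loop (some (3, 2)) [.bwd 1161, .fwd 1219, .fwd 1738],
   .loop (some (4, 2)) [.bwd 1161, .fwd 1231, .fwd 2441],
   .loop (some (6, 1)) [.fwd 1250, .bwd 1219, .bwd 1218],
   .loop (some (5, 1)) [.fwd 1218, .fwd 1228, .bwd 1218],
   .loop (some (7, 1)) [.fwd 2064, .bwd 1231, .bwd 1218],
   .loop (some (6, 1)) [.bwd 1739, .fwd 6760, .fwd 1162],
   .loop (some (7, 1)) [.bwd 2442, .fwd 6761, .fwd 1162],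
   .loop (some (6, 2)) [.bwd 1740, .bwd 6765, .fwd 1163, .fwd 6712],
   .loop none [.fwd 6767],
   .loop none [.fwd 6712, .bwd 6768],
   .loop none [.bwd 5752, .bwd 6768],
   .loop (some (7, 1)) [.bwd 2443, .bwd 6766, .fwd 1163],
   .loop (some (3, 2)) [.bwd 1164, .bwd 6769, .fwd 1741],
   .loop (some (4, 2)) [.bwd 1164, .fwd 6771, .fwd 2444],
   .loop (some (2, 1)) [.fwd 6735, .bwd 6713, .bwd 6769],
   .loop (some (8, 1)) [.bwd 1214, .bwd 6713, .bwd 1163],
   .loop (some (6, 1)) [.fwd 1753, .fwd 6772, .bwd 1178],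
   .loop (some (2, 1)) [.fwd 6727, .bwd 6708, .bwd 6772],
   .loop (some (7, 1)) [.fwd 2449, .fwd 6773, .bwd 1178],
   .loop (some (10, 2)) [.fwd 6740, .bwd 6714, .fwd 1167],
   .loop (some (4, 2)) [.bwd 1245, .bwd 1709, .fwd 1287],
   .loop (some (1, 2)) [.bwd 1245, .fwd 1749, .fwd 3527],
   .loop (some (5, 1)) [.fwd 5639, .bwd 1749, .bwd 1743],
   .loop (some (7, 2)) [.fwd 1691, .fwd 1709, .bwd 1743, .fwd 6741],
   .loop none [.fwd 6783],
   .loop none [.fwd 4996, .bwd 6784],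
   .loop none [.fwd 6741, .bwd 6784],
   .loop (some (10, 0)) [.bwd 6776, .bwd 6736, .fwd 1167],
   .loop (some (12, 1)) [.fwd 6721, .fwd 1773, .fwd 6787],
   .loop (some (3, 2)) [.bwd 2059, .bwd 2434, .fwd 2417],
   .loop (some (6, 1)) [.fwd 2433, .fwd 2434, .bwd 2446],
   .loop (some (2, 2)) [.fwd 2447, .bwd 2434, .bwd 2435],
   .loop (some (11, 0)) [.bwd 6778, .bwd 6736, .fwd 1175],
   .loop (some (17, 4)) [.bwd 2059, .bwd 2447, .fwd 6752, .fwd 3222, .fwd 3223],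
   .loop (some (10, 2)) [.bwd 6776, .bwd 6732, .bwd 6740],
   .loop (some (6, 3)) [.bwd 1210, .fwd 65, .fwd 1241],
   .loop (some (7, 3)) [.bwd 1210, .fwd 1154, .fwd 2056],
   .loop (some (14, 2)) [.bwd 1234, .bwd 1233, .bwd 1211, .bwd 1212],
   .loop (some (6, 3)) [.fwd 1212, .bwd 6795, .bwd 1243],
   .loop (some (7, 3)) [.fwd 1212, .bwd 6796, .bwd 2058],
   .loop (some (6, 1)) [.bwd 1246, .fwd 6735, .fwd 1214],
   .loop (some (15, 3)) [.fwd 6781, .fwd 6735, .bwd 6743, .bwd 6735, .bwd 6781],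
   .loop (some (5, 1)) [.bwd 1214, .fwd 6743, .fwd 1214],
   .loop (some (7, 1)) [.bwd 2060, .fwd 6737, .fwd 1214],
   .loop (some (6, 1)) [.bwd 1247, .bwd 6800, .fwd 1215],
   .loop (some (7, 1)) [.bwd 2061, .bwd 6803, .fwd 1215],
   .loop (some (3, 2)) [.bwd 1216, .fwd 6804, .fwd 1248],
   .loop (some (4, 2)) [.bwd 1216, .fwd 6805, .fwd 2062],
   .loop (some (8, 3)) [.bwd 1215, .bwd 6775, .bwd 1162],
   .loop (some (14, 2)) [.bwd 1218, .bwd 1217, .bwd 6797, .fwd 1233],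
   .loop (some (6, 1)) [.fwd 1266, .fwd 6806, .bwd 1234],
   .loop (some (7, 1)) [.fwd 2073, .fwd 6807, .bwd 1234],
   .loop (some (10, 2)) [.fwd 6806, .bwd 6797, .bwd 6798],
   .loop (some (14, 0)) [.bwd 1160, .fwd 1209, .fwd 1160, .bwd 1218],
   .loop (some (0, 0)) [.fwd 6809, .bwd 6813],
   .loop (some (10, 2)) [.bwd 6762, .fwd 6813, .fwd 1219],
   .loop (some (4, 2)) [.bwd 1738, .fwd 1263, .fwd 1686],
   .loop (some (1, 2)) [.bwd 1738, .fwd 1259, .fwd 5634],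
   .loop (some (5, 1)) [.fwd 3532, .bwd 1259, .bwd 1250],
   .loop (some (7, 1)) [.fwd 1292, .bwd 1263, .bwd 1250],
   .loop (some (10, 0)) [.bwd 6810, .fwd 6809, .fwd 1219],
   .loop (some (6, 1)) [.fwd 2422, .fwd 2250, .bwd 2064],
   .loop (some (11, 0)) [.bwd 6811, .fwd 6809, .fwd 1231],
   .loop (some (10, 2)) [.bwd 6810, .bwd 6814, .fwd 6762],
   .loop (some (5, 3)) [.bwd 1241, .bwd 3431, .fwd 3524],
   .loop (some (7, 3)) [.bwd 1241, .fwd 66, .fwd 1283],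
   .loop (some (9, 3)) [.bwd 1242, .bwd 6824, .fwd 3525],
   .loop (some (7, 3)) [.fwd 1243, .bwd 6825, .bwd 1285],
   .loop (some (5, 1)) [.bwd 3528, .fwd 6781, .fwd 1246],
   .loop (some (7, 1)) [.bwd 1288, .fwd 6780, .fwd 1246],
   .loop (some (15, 1)) [.bwd 6828, .bwd 6800, .fwd 6802, .fwd 6800, .fwd 6828],
   .loop (some (5, 1)) [.bwd 3529, .bwd 6828, .fwd 1247],
   .loop (some (7, 1)) [.bwd 1289, .bwd 6829, .fwd 1247],
   .loop (some (4, 2)) [.bwd 1248, .fwd 6832, .fwd 1290],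
   .loop (some (1, 2)) [.bwd 1248, .fwd 6831, .fwd 3530],
   .loop (some (2, 3)) [.bwd 6804, .bwd 6808, .bwd 6760],
   .loop (some (9, 2)) [.fwd 6834, .bwd 6812, .bwd 6826],
   .loop (some (5, 1)) [.fwd 3543, .fwd 6834, .bwd 1266],
   .loop (some (7, 1)) [.fwd 1313, .fwd 6833, .bwd 1266],
   .loop (some (9, 2)) [.bwd 6818, .bwd 6815, .fwd 1259],
   .loop (some (15, 1)) [.bwd 6818, .bwd 6762, .fwd 6763, .fwd 6762, .fwd 6818],
   .loop (some (8, 3)) [.fwd 1250, .bwd 6008, .bwd 3614],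
   .loop (some (11, 2)) [.bwd 6819, .bwd 6815, .fwd 1263],
   .loop (some (4, 2)) [.bwd 5634, .bwd 3521, .fwd 5652],
   .loop (some (9, 0)) [.bwd 6837, .bwd 6820, .fwd 1259],
   .loop (some (0, 1)) [.bwd 6844, .fwd 6839],
   .loop (some (7, 1)) [.fwd 3519, .fwd 3521, .bwd 3532],
   .loop (some (10, 1)) [.bwd 6844, .fwd 3533, .fwd 6844],
   .loop (some (4, 2)) [.bwd 3613, .bwd 3578, .bwd 3612],
   .loop (some (3, 2)) [.bwd 1686, .fwd 1293, .fwd 1649],
   .loop (some (6, 1)) [.fwd 1634, .bwd 1293, .bwd 1292],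
   .loop (some (1, 2)) [.bwd 1686, .fwd 1308, .fwd 5652],
   .loop (some (2, 2)) [.fwd 1372, .fwd 1293, .bwd 1586],
   .loop (some (5, 1)) [.fwd 3519, .bwd 1308, .bwd 1292],
   .loop (some (11, 0)) [.bwd 6838, .bwd 6820, .fwd 1263],
   .loop (some (11, 2)) [.bwd 6838, .bwd 6823, .fwd 6819],
   .loop (some (14, 0)) [.fwd 1291, .fwd 6855, .bwd 1312, .fwd 1285],
   .loop (some (6, 3)) [.bwd 1283, .bwd 1281, .fwd 1615],
   .loop (some (5, 3)) [.bwd 1283, .bwd 3402, .fwd 3511],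
   .loop (some (8, 1)) [.fwd 1357, .bwd 1310, .bwd 1285],
   .loop (some (6, 3)) [.fwd 1285, .bwd 6857, .bwd 1617],
   .loop (some (9, 3)) [.bwd 1284, .bwd 6858, .fwd 3512],
   .loop (some (8, 1)) [.fwd 1356, .bwd 6859, .fwd 1312],
   .loop (some (12, 2)) [.bwd 6859, .bwd 1284, .fwd 1310],
   .loop (some (3, 2)) [.bwd 1287, .bwd 2299, .fwd 2301],
   .loop (some (6, 2)) [.bwd 2303, .fwd 2299, .bwd 1691, .fwd 6785],
   .loop none [.fwd 6865],
   .loop none [.fwd 6785, .bwd 6866],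
   .loop none [.fwd 4995, .bwd 6866],
   .loop (some (1, 2)) [.bwd 1287, .fwd 1705, .fwd 3514],
   .loop (some (5, 1)) [.fwd 5657, .bwd 1705, .bwd 1691],
   .loop (some (8, 2)) [.bwd 6699, .bwd 1286, .fwd 1125],
   .loop (some (6, 1)) [.bwd 1630, .fwd 6864, .fwd 1288],
   .loop (some (5, 1)) [.bwd 3515, .fwd 6869, .fwd 1288],
   .loop (some (16, 1)) [.fwd 6789, .fwd 6737, .bwd 6735, .bwd 6780, .bwd 6864],
   .loop (some (6, 1)) [.bwd 1631, .bwd 6872, .fwd 1289],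
   .loop (some (5, 1)) [.bwd 3516, .bwd 6873, .fwd 1289],
   .loop (some (3, 2)) [.bwd 1290, .fwd 6875, .fwd 1632],
   .loop (some (1, 2)) [.bwd 1290, .fwd 6876, .fwd 3517],
   .loop (some (6, 1)) [.fwd 1642, .fwd 6877, .bwd 1313],
   .loop (some (5, 1)) [.fwd 3523, .fwd 6878, .bwd 1313],
   .loop (some (9, 2)) [.bwd 6853, .bwd 6842, .fwd 1308],
   .loop (some (8, 3)) [.fwd 1292, .bwd 1372, .bwd 1348],
   .loop (some (16, 1)) [.bwd 6821, .bwd 6764, .fwd 6762, .fwd 6819, .fwd 6850],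
   .loop (some (4, 2)) [.bwd 1649, .bwd 2251, .fwd 2428],
   .loop (some (1, 2)) [.bwd 1649, .fwd 2272, .fwd 1449],
   .loop (some (10, 0)) [.bwd 6879, .bwd 6854, .fwd 1293],
   .loop (some (3, 2)) [.bwd 5652, .bwd 3506, .fwd 3486],
   .loop (some (6, 1)) [.fwd 3505, .fwd 3506, .bwd 3519],
   .loop (some (9, 0)) [.bwd 6880, .bwd 6854, .fwd 1308],
   .loop (some (0, 1)) [.bwd 6889, .fwd 6881],
   .loop (some (2, 2)) [.fwd 3507, .bwd 3506, .bwd 3520],
   .loop (some (11, 1)) [.bwd 6844, .bwd 3521, .fwd 6889],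
   .loop (some (3, 2)) [.bwd 1412, .fwd 1358, .fwd 1449],
   .loop (some (4, 2)) [.bwd 1412, .bwd 2291, .fwd 1412],
   .loop (some (19, 2)) [.fwd 3540, .fwd 3578, .bwd 1261, .bwd 6825, .fwd 1310, .fwd 2291, .fwd 1370, .bwd 3520],
   .loop (some (1, 2)) [.bwd 1412, .fwd 1370, .fwd 3486],
   .loop (some (5, 1)) [.fwd 3505, .bwd 1370, .bwd 1357],
   .loop (some (8, 1)) [.fwd 1376, .bwd 6862, .fwd 1313],
   .loop (some (10, 2)) [.bwd 6879, .bwd 6855, .fwd 6850],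
   .loop (some (12, 2)) [.bwd 6862, .bwd 6855, .bwd 6882],
   .loop (some (0, 2)) [.fwd 1347, .fwd 6900],
   .loop (some (5, 3)) [.bwd 1346, .bwd 3391, .fwd 3497],
   .loop (some (7, 3)) [.bwd 1346, .bwd 2253, .fwd 1346],
   .loop (some (11, 1)) [.fwd 6901, .fwd 6903, .bwd 6901],
   .loop (some (6, 3)) [.fwd 1348, .bwd 6852, .bwd 1577],
   .loop (some (9, 3)) [.bwd 1347, .bwd 6902, .fwd 3498],
   .loop (some (7, 3)) [.fwd 1348, .bwd 6903, .bwd 1348],
   .loop (some (3, 2)) [.bwd 1352, .fwd 1418, .fwd 1578],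
   .loop (some (4, 2)) [.bwd 1352, .bwd 2315, .fwd 1352],
   .loop (some (6, 1)) [.fwd 1454, .bwd 1418, .bwd 1417],
   .loop (some (1, 2)) [.bwd 1352, .fwd 1433, .fwd 3500],
   .loop (some (5, 1)) [.fwd 3491, .bwd 1433, .bwd 1417],
   .loop (some (6, 1)) [.bwd 1579, .fwd 6908, .fwd 1353],
   .loop (some (5, 1)) [.bwd 3501, .fwd 6911, .fwd 1353],
   .loop (some (7, 1)) [.bwd 1353, .fwd 6909, .fwd 1353],
   .loop (some (6, 1)) [.bwd 1580, .bwd 6913, .fwd 1354],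
   .loop (some (5, 1)) [.bwd 3502, .bwd 6914, .fwd 1354],
   .loop (some (3, 2)) [.bwd 1355, .fwd 6916, .fwd 1581],
   .loop (some (1, 2)) [.bwd 1355, .fwd 6917, .fwd 3503],
   .loop (some (14, 2)) [.bwd 1357, .bwd 1356, .bwd 6900, .fwd 1375],
   .loop (some (6, 1)) [.fwd 1588, .fwd 6918, .bwd 1376],
   .loop (some (5, 1)) [.fwd 3510, .fwd 6919, .bwd 1376],
   .loop (some (7, 1)) [.fwd 1376, .fwd 6904, .bwd 1376],
   .loop (some (9, 2)) [.bwd 6897, .bwd 6863, .fwd 1370],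
   .loop (some (4, 2)) [.bwd 1449, .bwd 1574, .fwd 1503],
   .loop (some (10, 0)) [.bwd 6921, .fwd 6920, .fwd 1358],
   .loop (some (4, 2)) [.bwd 3486, .bwd 3508, .fwd 3486],
   .loop (some (9, 0)) [.bwd 6922, .fwd 6920, .fwd 1370],
   .loop (some (0, 1)) [.bwd 6928, .fwd 6924],
   .loop (some (10, 1)) [.bwd 6889, .bwd 3506, .fwd 6928],
   .loop (some (2, 1)) [.fwd 6877, .fwd 6898, .fwd 6921],
   .loop (some (6, 3)) [.bwd 1409, .fwd 69, .fwd 1445],
   .loop (some (5, 3)) [.bwd 1409, .bwd 3379, .fwd 3442],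
   .loop (some (7, 3)) [.bwd 1409, .bwd 2286, .fwd 1409],
   .loop (some (14, 2)) [.bwd 1440, .bwd 1439, .bwd 1410, .bwd 1411],
   .loop (some (6, 3)) [.fwd 1411, .bwd 6932, .bwd 1447],
   .loop (some (9, 3)) [.bwd 1410, .bwd 6933, .fwd 3443],
   .loop (some (0, 1)) [.fwd 1410, .fwd 6935],
   .loop (some (6, 1)) [.bwd 1450, .fwd 6893, .fwd 1413],
   .loop (some (5, 1)) [.bwd 3487, .fwd 6896, .fwd 1413],
   .loop (some (7, 1)) [.bwd 1413, .fwd 6894, .fwd 1413],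
   .loop (some (6, 1)) [.bwd 1451, .bwd 6939, .fwd 1414],
   .loop (some (5, 1)) [.bwd 3488, .bwd 6940, .fwd 1414],
   .loop (some (7, 1)) [.bwd 1414, .fwd 6941, .fwd 1414],
   .loop (some (3, 2)) [.bwd 1415, .fwd 6942, .fwd 1452],
   .loop (some (4, 2)) [.bwd 1415, .bwd 6944, .fwd 1415],
   .loop (some (1, 2)) [.bwd 1415, .fwd 6943, .fwd 3489],
   .loop (some (14, 2)) [.bwd 1417, .bwd 1416, .bwd 6935, .fwd 1439],
   .loop (some (6, 1)) [.fwd 1469, .fwd 6945, .bwd 1440],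
   .loop (some (5, 1)) [.fwd 3496, .fwd 6947, .bwd 1440],
   .loop (some (7, 1)) [.fwd 1440, .fwd 6946, .bwd 1440],
   .loop (some (10, 2)) [.fwd 6945, .bwd 6935, .bwd 6936],
   .loop (some (14, 0)) [.bwd 1351, .fwd 1408, .fwd 1351, .bwd 1417],
   .loop (some (9, 2)) [.bwd 6912, .fwd 6953, .fwd 1433],
   .loop (some (0, 0)) [.fwd 6948, .bwd 6953],
   .loop (some (10, 2)) [.bwd 6910, .fwd 6953, .fwd 1418],
   .loop (some (4, 2)) [.bwd 1578, .fwd 1466, .bwd 2296],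
   .loop (some (1, 2)) [.bwd 1578, .fwd 1462, .fwd 2301],
   .loop (some (5, 1)) [.bwd 2303, .bwd 1462, .bwd 1454],
   .loop (some (7, 1)) [.fwd 1508, .bwd 1466, .bwd 1454],
   .loop (some (10, 0)) [.bwd 6949, .fwd 6948, .fwd 1418],
   .loop (some (3, 2)) [.bwd 3500, .fwd 3492, .fwd 3514],
   .loop (some (4, 2)) [.bwd 3500, .bwd 3494, .fwd 3500],
   .loop (some (6, 1)) [.fwd 5657, .bwd 3492, .bwd 3491],
   .loop (some (9, 0)) [.bwd 6950, .fwd 6948, .fwd 1433],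
   .loop (some (0, 1)) [.bwd 6965, .fwd 6954],
   .loop (some (7, 1)) [.fwd 3491, .fwd 3494, .bwd 3491],
   .loop (some (11, 1)) [.bwd 6965, .fwd 3494, .fwd 6965],
   .loop (some (10, 2)) [.bwd 6949, .bwd 6955, .fwd 6910],
   .loop (some (5, 3)) [.bwd 1445, .bwd 2267, .fwd 1646],
   .loop (some (7, 3)) [.bwd 1445, .fwd 70, .fwd 1499],
   .loop (some (9, 3)) [.bwd 1446, .bwd 6970, .fwd 1647],
   .loop (some (5, 1)) [.bwd 1650, .bwd 6885, .fwd 1450],
   .loop (some (7, 1)) [.bwd 1504, .fwd 6925, .fwd 1450],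
   .loop (some (5, 1)) [.bwd 1651, .bwd 6973, .fwd 1451],
   .loop (some (7, 1)) [.bwd 1505, .bwd 6974, .fwd 1451],
   .loop (some (4, 2)) [.bwd 1452, .fwd 6976, .fwd 1506],
   .loop (some (1, 2)) [.bwd 1452, .fwd 6975, .fwd 1652],
   .loop (some (9, 2)) [.fwd 6978, .bwd 6952, .bwd 6972],
   .loop (some (5, 1)) [.fwd 1680, .fwd 6978, .bwd 1469],
   .loop (some (7, 1)) [.fwd 1526, .fwd 6977, .bwd 1469],
   .loop (some (9, 2)) [.bwd 6959, .bwd 6956, .fwd 1462],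
   .loop (some (11, 2)) [.bwd 6960, .bwd 6956, .fwd 1466],
   .loop (some (9, 0)) [.bwd 6980, .bwd 6961, .fwd 1462],
   .loop (some (0, 1)) [.bwd 6984, .fwd 6982],
   .loop (some (3, 2)) [.fwd 2296, .bwd 2262, .bwd 2296],
   .loop (some (1, 2)) [.fwd 2296, .fwd 1522, .fwd 2417],
   .loop (some (5, 1)) [.fwd 2433, .bwd 1522, .bwd 1508],
   .loop (some (11, 0)) [.bwd 6981, .bwd 6961, .fwd 1466],
   .loop (some (11, 2)) [.bwd 6981, .bwd 6969, .fwd 6960],
   .loop (some (14, 0)) [.fwd 1507, .fwd 6990, .bwd 1525, .fwd 1501],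
   .loop (some (12, 1)) [.bwd 6989, .fwd 2263, .fwd 6991],
   .loop (some (1, 2)) [.bwd 1503, .bwd 2249, .fwd 2428],
   .loop (some (5, 1)) [.fwd 2422, .fwd 2249, .bwd 2266],
   .loop (some (5, 1)) [.bwd 2429, .fwd 6993, .fwd 1504],
   .loop (some (5, 1)) [.bwd 2430, .bwd 6995, .fwd 1505],
   .loop (some (1, 2)) [.bwd 1506, .fwd 6996, .fwd 2431],
   .loop (some (5, 1)) [.fwd 2437, .fwd 6997, .bwd 1526],
   .loop (some (9, 2)) [.bwd 6988, .bwd 6983, .fwd 1522]]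

theorem just27_len : just27.length = 250 := by decide +kernel

theorem just27_ok : cert.okFacts 6750 just27 = true := by decide +kernel

/-- justifications -/
noncomputable def just28 : List Cert.Just :=
  [.loop (some (9, 0)) [.bwd 6998, .bwd 6989, .fwd 1522],
   .loop (some (0, 1)) [.bwd 7000, .fwd 6999],
   .loop (some (10, 1)) [.bwd 6792, .bwd 2434, .fwd 7000],
   .loop (some (11, 1)) [.bwd 6984, .fwd 2300, .fwd 7000],
   .loop (some (14, 2)) [.bwd 1561, .bwd 1560, .bwd 1550, .bwd 1551],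
   .loop (some (6, 1)) [.bwd 1553, .fwd 6986, .fwd 1553],
   .loop (some (5, 1)) [.bwd 2418, .fwd 6987, .fwd 1553],
   .loop (some (7, 1)) [.bwd 1579, .bwd 6957, .fwd 1553],
   .loop (some (6, 1)) [.bwd 1554, .fwd 7005, .fwd 1554],
   .loop (some (5, 1)) [.bwd 2419, .bwd 7006, .fwd 1554],
   .loop (some (7, 1)) [.bwd 1580, .bwd 7007, .fwd 1554],
   .loop (some (3, 2)) [.bwd 1555, .bwd 7008, .fwd 1555],
   .loop (some (4, 2)) [.bwd 1555, .fwd 7010, .fwd 1581],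
   .loop (some (1, 2)) [.bwd 1555, .fwd 7009, .fwd 2420],
   .loop (some (14, 2)) [.bwd 2266, .bwd 1556, .bwd 7004, .fwd 1560],
   .loop (some (6, 1)) [.fwd 1561, .fwd 7011, .bwd 1561],
   .loop (some (5, 1)) [.fwd 2424, .fwd 7013, .bwd 1561],
   .loop (some (7, 1)) [.fwd 1588, .fwd 7012, .bwd 1561],
   .loop (some (14, 0)) [.fwd 2234, .fwd 1548, .bwd 2234, .bwd 2266],
   .loop (some (9, 2)) [.bwd 6994, .fwd 7018, .bwd 2249],
   .loop (some (9, 0)) [.bwd 7016, .fwd 7014, .bwd 2249],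
   .loop (some (0, 1)) [.bwd 7020, .fwd 7019],
   .loop (some (10, 1)) [.bwd 6822, .bwd 2250, .fwd 7020],
   .loop (some (11, 1)) [.bwd 6886, .bwd 2251, .fwd 7020],
   .loop (some (15, 0)) [.fwd 6857, .bwd 6858, .fwd 6891, .fwd 6902, .bwd 6852],
   .loop (some (9, 3)) [.bwd 1576, .fwd 7024, .fwd 1616],
   .loop (some (15, 3)) [.fwd 6906, .bwd 6905, .bwd 7025, .fwd 6860, .bwd 6861],
   .loop (some (5, 1)) [.bwd 1630, .fwd 6958, .fwd 1579],
   .loop (some (15, 3)) [.bwd 6914, .fwd 6913, .fwd 7027, .bwd 6872, .fwd 6873],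
   .loop (some (5, 1)) [.bwd 1631, .bwd 7027, .fwd 1580],
   .loop (some (1, 2)) [.bwd 1581, .fwd 7029, .fwd 1632],
   .loop (some (15, 3)) [.bwd 6917, .fwd 6916, .fwd 7029, .bwd 6875, .fwd 6876],
   .loop (some (15, 3)) [.fwd 6919, .bwd 6918, .bwd 7030, .fwd 6877, .bwd 6878],
   .loop (some (7, 3)) [.bwd 1615, .bwd 1621, .fwd 2414],
   .loop (some (7, 3)) [.fwd 1617, .bwd 7033, .bwd 2416],
   .loop (some (16, 4)) [.fwd 7034, .fwd 6860, .fwd 6827, .fwd 6798, .bwd 6799],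
   .loop (some (7, 1)) [.bwd 2418, .bwd 6874, .fwd 1630],
   .loop (some (7, 1)) [.bwd 2419, .bwd 7036, .fwd 1631],
   .loop (some (4, 2)) [.bwd 1632, .fwd 7037, .fwd 2420],
   .loop (some (16, 4)) [.bwd 7037, .bwd 6875, .bwd 6832, .bwd 6804, .fwd 6805],
   .loop (some (14, 0)) [.fwd 1653, .fwd 6985, .bwd 1679, .fwd 1648],
   .loop (some (6, 3)) [.bwd 1646, .fwd 77, .fwd 1683],
   .loop (some (15, 4)) [.fwd 7041, .fwd 6970, .fwd 6932, .bwd 6933, .fwd 6116],
   .loop (some (7, 3)) [.bwd 1646, .fwd 1181, .fwd 2425],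
   .loop (some (6, 3)) [.fwd 1648, .bwd 7041, .bwd 1685],
   .loop (some (7, 3)) [.fwd 1648, .bwd 7043, .bwd 2427],
   .loop (some (6, 1)) [.bwd 1687, .bwd 6849, .fwd 1650],
   .loop (some (7, 1)) [.bwd 2429, .fwd 6884, .fwd 1650],
   .loop (some (6, 1)) [.bwd 1688, .bwd 7046, .fwd 1651],
   .loop (some (7, 1)) [.bwd 2430, .bwd 7047, .fwd 1651],
   .loop (some (3, 2)) [.bwd 1652, .fwd 7048, .fwd 1689],
   .loop (some (4, 2)) [.bwd 1652, .fwd 7049, .fwd 2431],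
   .loop (some (6, 1)) [.fwd 1711, .fwd 7050, .bwd 1680],
   .loop (some (10, 2)) [.fwd 7050, .bwd 6979, .bwd 7044],
   .loop (some (10, 2)) [.bwd 6867, .bwd 6982, .fwd 2299],
   .loop (some (13, 2)) [.bwd 6868, .bwd 6982, .fwd 2301],
   .loop (some (10, 2)) [.bwd 7052, .bwd 6985, .fwd 6867],
   .loop (some (16, 1)) [.bwd 6776, .fwd 6778, .bwd 7002, .fwd 7003, .fwd 7052],
   .loop (some (14, 0)) [.fwd 1690, .fwd 7056, .bwd 1710, .fwd 1685],
   .loop (some (4, 3)) [.fwd 5971, .bwd 6751, .fwd 2780],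
   .loop (some (9, 1)) [.fwd 6117, .fwd 7042, .fwd 7058],
   .loop (some (13, 2)) [.fwd 7059, .fwd 7058, .bwd 1689],
   .loop (some (9, 3)) [.bwd 1684, .bwd 7042, .fwd 5662],
   .loop (some (15, 1)) [.fwd 6937, .bwd 6936, .bwd 6972, .bwd 7044, .bwd 7062],
   .loop (some (7, 4)) [.fwd 1685, .fwd 5971, .bwd 1737, .fwd 6758],
   .loop none [.fwd 7064],
   .loop none [.bwd 7044, .fwd 7065, .bwd 3843],
   .loop none [.fwd 7066],
   .loop none [.fwd 6758, .bwd 7065],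
   .loop none [.fwd 3842, .bwd 7067],
   .loop (some (5, 1)) [.bwd 5653, .fwd 6851, .fwd 1687],
   .loop (some (7, 1)) [.bwd 1739, .bwd 6816, .fwd 1687],
   .loop (some (15, 1)) [.bwd 6940, .fwd 6939, .fwd 6973, .fwd 7046, .fwd 7070],
   .loop (some (5, 1)) [.bwd 5654, .bwd 7070, .fwd 1688],
   .loop (some (7, 1)) [.bwd 6770, .bwd 1740, .bwd 7071, .fwd 1688],
   .loop none [.bwd 7074],
   .loop none [.fwd 6770, .bwd 7075],
   .loop none [.bwd 5753, .bwd 7075],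
   .loop (some (4, 2)) [.bwd 1689, .fwd 7076, .fwd 1741],
   .loop (some (1, 2)) [.bwd 7060, .bwd 1689, .fwd 7073, .fwd 5655],
   .loop none [.fwd 7079],
   .loop none [.fwd 5655, .bwd 7080],
   .loop none [.bwd 5656, .bwd 7080],
   .loop none [.fwd 5664, .bwd 7080],
   .loop (some (15, 1)) [.bwd 6943, .fwd 6942, .fwd 6975, .fwd 7048, .fwd 7073],
   .loop (some (14, 2)) [.bwd 1691, .bwd 1690, .bwd 7053, .fwd 1710],
   .loop (some (15, 1)) [.fwd 6947, .bwd 6945, .bwd 6978, .bwd 7050, .fwd 7060],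
   .loop (some (16, 2)) [.fwd 6773, .bwd 6772, .fwd 7078, .fwd 7050, .bwd 7051],
   .loop (some (19, 1)) [.fwd 5592, .bwd 5921, .fwd 5922, .fwd 5122, .fwd 5060, .bwd 5733, .bwd 6742, .bwd 6786, .fwd 6870],
   .loop none [.fwd 7088],
   .loop none [.fwd 6870, .bwd 7089],
   .loop none [.fwd 6964, .bwd 7089],
   .loop none [.bwd 5657, .bwd 7089],
   .loop none [.fwd 7082, .bwd 7089],
   .loop (some (9, 2)) [.fwd 7090, .bwd 7054, .fwd 1705],
   .loop (some (14, 0)) [.bwd 7083, .fwd 6117, .fwd 5661, .bwd 1706],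
   .loop (some (4, 2)) [.bwd 3514, .bwd 5646, .fwd 3527],
   .loop (some (0, 1)) [.bwd 7095, .fwd 7094],
   .loop (some (7, 2)) [.fwd 5639, .fwd 5646, .bwd 7092, .bwd 5591],
   .loop none [.bwd 7098],
   .loop none [.fwd 6782, .bwd 7099],
   .loop none [.bwd 5639, .bwd 7099],
   .loop none [.fwd 5638, .bwd 7099],
   .loop (some (10, 1)) [.bwd 6965, .fwd 3492, .fwd 7095],
   .loop (some (17, 4)) [.bwd 3514, .fwd 6040, .fwd 6030, .fwd 5192, .fwd 5193],
   .loop (some (12, 1)) [.fwd 6114, .bwd 6040, .fwd 7095],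
   .loop (some (14, 0)) [.fwd 1742, .fwd 6794, .bwd 1752, .fwd 1737],
   .loop (some (19, 0)) [.bwd 5276, .bwd 3173, .fwd 5275, .fwd 5734, .bwd 5954, .bwd 5968, .bwd 1707, .fwd 5971],
   .loop (some (15, 1)) [.bwd 7107, .fwd 6686, .fwd 6753, .bwd 6686, .fwd 7107],
   .loop (some (9, 3)) [.bwd 1736, .fwd 7107, .fwd 5645],
   .loop (some (5, 1)) [.bwd 5635, .fwd 6817, .fwd 1739],
   .loop (some (5, 1)) [.bwd 5636, .bwd 7110, .fwd 1740],
   .loop (some (1, 2)) [.bwd 1741, .fwd 7111, .fwd 5637],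
   .loop (some (5, 1)) [.fwd 5648, .fwd 7112, .bwd 1753],
   .loop (some (9, 2)) [.fwd 7100, .bwd 6779, .fwd 1749],
   .loop (some (15, 1)) [.fwd 7100, .fwd 6740, .fwd 6744, .bwd 6740, .bwd 7100],
   .loop (some (9, 0)) [.bwd 7113, .bwd 6787, .fwd 1749],
   .loop (some (0, 1)) [.bwd 7116, .fwd 7114],
   .loop (some (10, 1)) [.bwd 7116, .fwd 5640, .fwd 7116],
   .loop (some (11, 1)) [.bwd 7095, .bwd 5646, .fwd 7116],
   .loop (some (19, 0)) [.fwd 6043, .fwd 5646, .fwd 6040, .fwd 5108, .fwd 439, .bwd 339, .bwd 2053, .bwd 6693],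
   .loop (some (19, 1)) [.fwd 5590, .fwd 5591, .fwd 5592, .bwd 5921, .fwd 5922, .fwd 5122, .fwd 5060, .bwd 5733, .bwd 6733],
   .loop none [.fwd 7121],
   .loop none [.fwd 6603, .bwd 7122],
   .loop none [.bwd 5629, .bwd 7122],
   .loop none [.fwd 6044, .bwd 7122],
   .loop none [.fwd 6046, .bwd 7122],
   .loop (some (19, 1)) [.fwd 5325, .fwd 5326, .fwd 5327, .bwd 5827, .fwd 5828, .fwd 5355, .fwd 4845, .fwd 5746, .fwd 6734],
   .loop none [.fwd 7127],
   .loop none [.fwd 6734, .bwd 7128],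
   .loop none [.bwd 5626, .bwd 7128],
   .loop none [.fwd 5625, .bwd 7128],
   .loop none [.fwd 5627, .bwd 7128],
   .loop (some (9, 2)) [.fwd 7129, .bwd 6724, .fwd 1771],
   .loop (some (1, 2)) [.bwd 1761, .bwd 7129, .fwd 7130],
   .loop (some (19, 1)) [.fwd 7119, .fwd 7105, .fwd 6079, .fwd 5839, .fwd 5559, .fwd 5345, .bwd 6718, .bwd 7134],
   .loop (some (5, 1)) [.fwd 5630, .fwd 7134, .bwd 1776],
   .loop (some (4, 2)) [.fwd 5589, .fwd 7123, .bwd 3173, .fwd 5740],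
   .loop none [.bwd 7137],
   .loop none [.bwd 5589, .bwd 7138],
   .loop none [.fwd 5588, .bwd 7138],
   .loop (some (9, 0)) [.bwd 7136, .fwd 6730, .fwd 1771],
   .loop (some (0, 1)) [.bwd 7141, .fwd 7133],
   .loop (some (7, 2)) [.fwd 5744, .fwd 3173, .bwd 7131, .bwd 5324],
   .loop none [.fwd 7143],
   .loop none [.bwd 5324, .bwd 7144],
   .loop none [.fwd 5323, .bwd 7144],
   .loop (some (11, 1)) [.fwd 5739, .fwd 3173, .fwd 7141],
   .loop (some (13, 1)) [.bwd 7126, .fwd 7123, .fwd 7141],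
   .loop (some (19, 1)) [.fwd 5538, .fwd 5539, .fwd 5540, .bwd 5927, .fwd 5928, .fwd 5484, .bwd 5553, .bwd 6728, .fwd 7136],
   .loop none [.fwd 7149],
   .loop none [.fwd 7136, .bwd 7150],
   .loop none [.fwd 5537, .fwd 7150, .fwd 7147],
   .loop none [.bwd 7152],
   .loop none [.bwd 7148, .bwd 7150],
   .loop none [.fwd 7124, .bwd 7150],
   .loop none [.fwd 7142, .bwd 7150],
   .loop none [.bwd 5537, .bwd 7153],
   .loop none [.fwd 5536, .bwd 7153],
   .loop none [.fwd 6570, .bwd 7153],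
   .loop (some (3, 2)) [.fwd 4148, .bwd 3623, .bwd 3027, .bwd 3026],
   .loop none [.bwd 7160],
   .loop none [.bwd 4148, .bwd 7161],
   .loop none [.bwd 5127, .bwd 7161],
   .loop none [.bwd 3026, .fwd 7161, .bwd 4147],
   .loop none [.fwd 7164],
   .loop none [.bwd 5177, .fwd 7165, .bwd 4146],
   .loop none [.fwd 7166],
   .loop none [.fwd 601, .fwd 7167, .bwd 4145],
   .loop none [.fwd 7168],
   .loop none [.fwd 360, .fwd 7169, .bwd 4144],
   .loop none [.fwd 7170],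
   .loop none [.bwd 656, .fwd 7171, .bwd 4143],
   .loop none [.fwd 7172],
   .loop none [.bwd 5100, .fwd 7173, .bwd 4142],
   .loop none [.fwd 7174],
   .loop none [.fwd 4141, .bwd 7175],
   .loop (some (19, 0)) [.fwd 1996, .bwd 246, .bwd 183, .bwd 1961, .fwd 151, .fwd 152, .bwd 245, .bwd 1880],
   .loop (some (9, 1)) [.fwd 4285, .bwd 7177, .bwd 3960],
   .loop (some (1, 2)) [.bwd 3623, .fwd 7177, .fwd 4173],
   .loop (some (13, 2)) [.bwd 3623, .bwd 3960, .bwd 2750],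
   .loop (some (14, 3)) [.fwd 4039, .fwd 4040, .bwd 3663, .bwd 228, .fwd 3877],
   .loop none [.fwd 7181],
   .loop none [.fwd 3877, .bwd 7182],
   .loop (some (20, 8)) [.bwd 3624, .bwd 1895, .bwd 221, .fwd 14, .fwd 225, .bwd 291, .bwd 4109, .bwd 4804, .bwd 4803],
   .loop none [.fwd 7184],
   .loop none [.bwd 3625, .fwd 7185, .bwd 4802],
   .loop none [.fwd 7186],
   .loop none [.bwd 4803, .bwd 7185],
   .loop none [.fwd 4801, .bwd 7187],
   .loop (some (5, 1)) [.fwd 7189, .fwd 3630, .fwd 3624],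
   .loop (some (8, 1)) [.bwd 4098, .bwd 2848, .bwd 4040],
   .loop (some (16, 3)) [.bwd 7163, .fwd 7162, .bwd 3620, .fwd 1896, .fwd 1897, .fwd 6391],
   .loop none [.bwd 7192],
   .loop none [.fwd 7163, .bwd 7193],
   .loop none [.fwd 2543, .fwd 7193, .fwd 5128],
   .loop none [.fwd 7195],
   .loop none [.bwd 5129, .bwd 7196],
   .loop (some (14, 2)) [.fwd 5422, .fwd 6550, .bwd 6527, .bwd 706],
   .loop (some (20, 8)) [.fwd 3622, .bwd 701, .bwd 220, .bwd 293, .bwd 326, .fwd 5049, .bwd 5256, .bwd 5255],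
   .loop (some (6, 1)) [.bwd 3624, .fwd 1896, .bwd 7199],
   .loop (some (8, 1)) [.bwd 5389, .fwd 4093, .bwd 6550],
   .loop (some (0, 0)) [.bwd 6499, .fwd 6421],
   .loop (some (2, 2)) [.bwd 1898, .fwd 6391, .bwd 2543],
   .loop (some (10, 2)) [.bwd 6391, .bwd 6421, .bwd 6314],
   .loop (some (12, 2)) [.bwd 1898, .bwd 6421, .fwd 6482],
   .loop (some (3, 3)) [.bwd 1899, .bwd 7203, .fwd 7197, .fwd 5130],
   .loop none [.fwd 7206],
   .loop none [.bwd 1900, .fwd 7207, .bwd 5130],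
   .loop none [.fwd 7208],
   .loop none [.bwd 5131, .bwd 7207],
   .loop none [.fwd 7197, .bwd 7209],
   .loop (some (4, 1)) [.bwd 7210, .bwd 1899, .fwd 6395],
   .loop (some (0, 0)) [.fwd 6501, .fwd 7205],
   .loop (some (10, 2)) [.fwd 7203, .bwd 7205, .bwd 6497],
   .loop (some (16, 3)) [.fwd 5041, .bwd 6395, .bwd 7203, .bwd 2542, .bwd 2541],
   .loop (some (13, 2)) [.bwd 1899, .bwd 7205, .fwd 2888],
   .loop (some (2, 1)) [.bwd 3637, .fwd 6419, .fwd 1900],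
   .loop (some (10, 2)) [.bwd 1900, .bwd 7216, .fwd 2889],
   .loop (some (4, 1)) [.fwd 2542, .bwd 7211, .fwd 1901],
   .loop (some (11, 2)) [.bwd 1901, .bwd 7218, .fwd 2890],
   .loop (some (13, 1)) [.fwd 7214, .bwd 7211, .bwd 7218],
   .loop (some (3, 0)) [.fwd 2540, .fwd 2541, .bwd 7219],
   .loop (some (2, 2)) [.bwd 1902, .fwd 7222, .bwd 2539],
   .loop (some (12, 2)) [.bwd 1902, .bwd 7220, .fwd 2891],
   .loop (some (3, 1)) [.bwd 1904, .bwd 1903, .bwd 7223],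
   .loop (some (13, 2)) [.bwd 1903, .bwd 7224, .fwd 2892],
   .loop (some (10, 2)) [.bwd 1904, .bwd 7226, .fwd 2893],
   .loop (some (4, 1)) [.fwd 2538, .fwd 7225, .fwd 1905],
   .loop (some (11, 2)) [.bwd 1905, .bwd 7227, .fwd 2894],
   .loop (some (3, 0)) [.fwd 2536, .fwd 2537, .bwd 7228],
   .loop (some (2, 2)) [.bwd 1906, .fwd 7230, .bwd 2535],
   .loop (some (12, 2)) [.bwd 1906, .bwd 7229, .fwd 2895],
   .loop (some (3, 1)) [.bwd 1908, .bwd 1907, .bwd 7231],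
   .loop (some (13, 2)) [.bwd 1907, .bwd 7232, .fwd 2896],
   .loop (some (10, 2)) [.bwd 1908, .bwd 7234, .fwd 2897],
   .loop (some (4, 1)) [.fwd 2534, .fwd 7233, .fwd 1909],
   .loop (some (11, 2)) [.bwd 1909, .bwd 7235, .fwd 2898],
   .loop (some (3, 0)) [.fwd 2532, .fwd 2533, .bwd 7236],
   .loop (some (2, 2)) [.bwd 1910, .fwd 7238, .bwd 2531],
   .loop (some (12, 2)) [.bwd 1910, .bwd 7237, .fwd 2899],
   .loop (some (3, 1)) [.bwd 1912, .bwd 1911, .bwd 7239],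
   .loop (some (13, 2)) [.bwd 1911, .bwd 7240, .fwd 2900],
   .loop (some (10, 2)) [.bwd 1912, .bwd 7242, .fwd 2901],
   .loop (some (4, 1)) [.fwd 2530, .fwd 7241, .fwd 1913],
   .loop (some (11, 2)) [.bwd 1913, .bwd 7243, .fwd 2902],
   .loop (some (3, 0)) [.fwd 2528, .fwd 2529, .bwd 7244],
   .loop (some (0, 1)) [.fwd 7245, .fwd 6247],
   .loop (some (16, 3)) [.fwd 1912, .fwd 1913, .fwd 7246, .fwd 6379, .bwd 3766],
   .loop (some (17, 4)) [.bwd 7244, .fwd 1914, .bwd 6324, .fwd 6307, .bwd 4788]]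

theorem just28_len : just28.length = 250 := by decide +kernel

theorem just28_ok : cert.okFacts 7000 just28 = true := by decide +kernel

/-- justifications -/
noncomputable def just29 : List Cert.Just :=
  [.loop (some (10, 1)) [.fwd 6521, .bwd 6246, .bwd 6386],
   .loop (some (11, 2)) [.fwd 6381, .bwd 6386, .bwd 6342],
   .loop (some (16, 6)) [.fwd 6246, .bwd 2526, .bwd 2525, .bwd 4297, .fwd 4296, .fwd 5563],
   .loop none [.fwd 7252],
   .loop none [.fwd 6381, .fwd 7253, .bwd 5563],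
   .loop none [.fwd 7254],
   .loop none [.fwd 1914, .fwd 7253, .fwd 5564],
   .loop none [.fwd 7256],
   .loop none [.fwd 4296, .bwd 7255],
   .loop none [.bwd 3078, .fwd 7255, .bwd 3724],
   .loop none [.fwd 7259],
   .loop none [.bwd 7244, .fwd 7257, .fwd 5565],
   .loop none [.fwd 7261],
   .loop none [.bwd 6372, .fwd 7260, .bwd 3723],
   .loop none [.fwd 7263],
   .loop none [.fwd 2529, .fwd 7262, .fwd 5566],
   .loop none [.fwd 7265],
   .loop none [.bwd 6259, .fwd 7264, .bwd 3722],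
   .loop none [.fwd 7267],
   .loop none [.bwd 5567, .bwd 7266],
   .loop none [.bwd 5894, .fwd 7268, .bwd 3721],
   .loop none [.fwd 7270],
   .loop none [.fwd 357, .fwd 7271, .bwd 3720],
   .loop none [.fwd 7272],
   .loop none [.bwd 5444, .fwd 7273, .bwd 3719],
   .loop none [.bwd 7274],
   .loop none [.fwd 3718, .fwd 7275, .bwd 5495],
   .loop none [.fwd 7276],
   .loop none [.fwd 5444, .bwd 7275],
   .loop none [.bwd 4979, .bwd 7275],
   .loop none [.fwd 5898, .bwd 7275],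
   .loop none [.fwd 5494, .bwd 7277],
   .loop (some (3, 1)) [.fwd 5250, .fwd 5251, .bwd 4838, .bwd 6234],
   .loop none [.bwd 7282],
   .loop none [.fwd 5249, .bwd 7283],
   .loop none [.bwd 5250, .bwd 7283],
   .loop (some (19, 0)) [.bwd 2463, .fwd 4106, .fwd 4103, .fwd 2761, .fwd 2824, .bwd 2819, .bwd 3686, .fwd 3685],
   .loop (some (1, 2)) [.bwd 4838, .fwd 7286, .fwd 3670],
   .loop (some (2, 2)) [.fwd 2874, .bwd 1934, .bwd 6234, .fwd 7284],
   .loop none [.fwd 7288],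
   .loop none [.fwd 5856, .fwd 7289, .bwd 5248],
   .loop none [.fwd 7290],
   .loop none [.fwd 7284, .bwd 7289],
   .loop none [.bwd 5855, .fwd 7291, .bwd 5247],
   .loop none [.fwd 7293],
   .loop none [.fwd 6506, .fwd 7294, .bwd 5246],
   .loop none [.fwd 7295],
   .loop none [.bwd 1967, .fwd 7296, .bwd 5245],
   .loop none [.fwd 7297],
   .loop none [.fwd 5244, .bwd 7298],
   .loop (some (17, 4)) [.bwd 4838, .fwd 1934, .fwd 4097, .fwd 3005, .fwd 3006],
   .loop (some (13, 2)) [.bwd 4838, .fwd 4850, .fwd 4173],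
   .loop (some (3, 2)) [.bwd 4095, .bwd 4097, .bwd 2874, .bwd 2873],
   .loop none [.bwd 7302],
   .loop none [.fwd 4095, .bwd 7303],
   .loop none [.bwd 6342, .fwd 7303, .fwd 5359],
   .loop none [.fwd 7305],
   .loop none [.bwd 2873, .fwd 7303, .bwd 3660],
   .loop none [.fwd 7307],
   .loop none [.fwd 2903, .fwd 7306, .fwd 5360],
   .loop none [.fwd 7309],
   .loop none [.bwd 7292, .fwd 7308, .bwd 3659],
   .loop none [.fwd 7311],
   .loop none [.bwd 5361, .bwd 7310],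
   .loop none [.bwd 6235, .fwd 7312, .bwd 3658],
   .loop none [.fwd 7314],
   .loop none [.bwd 5835, .fwd 7315, .bwd 3657],
   .loop none [.fwd 7316],
   .loop none [.bwd 5357, .fwd 7317, .bwd 3656],
   .loop none [.bwd 7318],
   .loop none [.bwd 5318, .bwd 7319],
   .loop none [.fwd 5357, .bwd 7319],
   .loop none [.bwd 5897, .bwd 7319],
   .loop none [.bwd 5506, .bwd 7319],
   .loop none [.fwd 5845, .bwd 7319],
   .loop (some (1, 2)) [.bwd 4097, .fwd 4254, .fwd 5051],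
   .loop (some (13, 2)) [.bwd 4097, .bwd 4120, .fwd 2552],
   .loop (some (14, 2)) [.fwd 3626, .fwd 3627, .bwd 4149, .bwd 3674],
   .loop (some (6, 1)) [.bwd 5389, .bwd 1965, .fwd 4098],
   .loop (some (5, 1)) [.bwd 4110, .fwd 4115, .fwd 4098],
   .loop (some (8, 1)) [.bwd 3624, .fwd 2848, .bwd 3627],
   .loop (some (2, 2)) [.bwd 1967, .bwd 7250, .bwd 2903],
   .loop (some (12, 2)) [.bwd 1967, .bwd 6516, .fwd 4153],
   .loop (some (3, 3)) [.bwd 1968, .bwd 7331, .fwd 7313, .fwd 5362],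
   .loop none [.fwd 7333],
   .loop none [.bwd 1969, .fwd 7334, .bwd 5362],
   .loop none [.fwd 7335],
   .loop none [.bwd 5363, .bwd 7334],
   .loop none [.fwd 7313, .bwd 7336],
   .loop (some (4, 1)) [.bwd 7337, .bwd 1968, .fwd 7299],
   .loop (some (0, 0)) [.fwd 5883, .fwd 7332],
   .loop (some (16, 3)) [.fwd 5243, .bwd 7299, .bwd 7331, .bwd 2902, .bwd 2901],
   .loop (some (13, 2)) [.bwd 1968, .bwd 7332, .fwd 2009],
   .loop (some (2, 1)) [.bwd 4124, .fwd 6515, .fwd 1969],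
   .loop (some (10, 2)) [.bwd 1969, .bwd 7342, .fwd 2010],
   .loop (some (12, 2)) [.fwd 6515, .bwd 7342, .bwd 5875],
   .loop (some (4, 1)) [.fwd 2902, .bwd 7338, .fwd 1970],
   .loop (some (11, 2)) [.bwd 1970, .bwd 7344, .fwd 2011],
   .loop (some (17, 1)) [.fwd 6345, .fwd 5857, .bwd 2903, .bwd 7338, .fwd 7343],
   .loop (some (13, 1)) [.bwd 5852, .fwd 7247, .bwd 7338, .bwd 7344],
   .loop none [.bwd 7349],
   .loop none [.fwd 2010, .fwd 7350, .fwd 5294],
   .loop none [.fwd 7351],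
   .loop none [.fwd 6239, .bwd 7350],
   .loop none [.fwd 5852, .bwd 7350],
   .loop none [.bwd 5295, .bwd 7352],
   .loop (some (3, 0)) [.fwd 2900, .fwd 2901, .bwd 7346],
   .loop (some (2, 2)) [.bwd 1971, .fwd 7356, .bwd 2899],
   .loop (some (12, 2)) [.bwd 1971, .bwd 7347, .fwd 2012],
   .loop (some (3, 1)) [.bwd 1973, .bwd 1972, .bwd 7357],
   .loop (some (13, 2)) [.bwd 1972, .bwd 7358, .fwd 2013],
   .loop (some (10, 2)) [.bwd 1973, .bwd 7360, .fwd 2014],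
   .loop (some (4, 1)) [.fwd 2898, .fwd 7359, .fwd 1974],
   .loop (some (11, 2)) [.bwd 1974, .bwd 7361, .fwd 2015],
   .loop (some (3, 0)) [.fwd 2896, .fwd 2897, .bwd 7362],
   .loop (some (2, 2)) [.bwd 1975, .fwd 7364, .bwd 2895],
   .loop (some (12, 2)) [.bwd 1975, .bwd 7363, .fwd 2016],
   .loop (some (3, 1)) [.bwd 1977, .bwd 1976, .bwd 7365],
   .loop (some (13, 2)) [.bwd 1976, .bwd 7366, .fwd 2017],
   .loop (some (10, 2)) [.bwd 1977, .bwd 7368, .fwd 2018],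
   .loop (some (4, 1)) [.fwd 2894, .fwd 7367, .fwd 1978],
   .loop (some (11, 2)) [.bwd 1978, .bwd 7369, .fwd 2019],
   .loop (some (3, 0)) [.fwd 2892, .fwd 2893, .bwd 7370],
   .loop (some (2, 2)) [.bwd 1979, .fwd 7372, .bwd 2891],
   .loop (some (12, 2)) [.bwd 1979, .bwd 7371, .fwd 2020],
   .loop (some (3, 1)) [.bwd 1981, .bwd 1980, .bwd 7373],
   .loop (some (13, 2)) [.bwd 1980, .bwd 7374, .fwd 2021],
   .loop (some (10, 2)) [.bwd 1981, .bwd 7376, .fwd 2022],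
   .loop (some (11, 2)) [.bwd 1982, .bwd 7377, .fwd 2023],
   .loop (some (0, 1)) [.fwd 7378, .fwd 7214],
   .loop (some (10, 1)) [.fwd 6501, .bwd 6497, .bwd 7378],
   .loop (some (12, 2)) [.fwd 6416, .bwd 7378, .fwd 2024],
   .loop (some (3, 1)) [.fwd 5091, .bwd 4174, .bwd 4173, .bwd 4251],
   .loop none [.bwd 7382],
   .loop none [.bwd 3351, .fwd 7383, .bwd 5090],
   .loop none [.fwd 7384],
   .loop none [.bwd 5091, .bwd 7383],
   .loop none [.fwd 647, .fwd 7385, .bwd 5089],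
   .loop none [.fwd 7387],
   .loop none [.bwd 625, .fwd 7388, .bwd 5088],
   .loop none [.fwd 7389],
   .loop none [.bwd 354, .fwd 7390, .bwd 5087],
   .loop none [.fwd 7391],
   .loop none [.bwd 4153, .fwd 7392, .bwd 5086],
   .loop none [.fwd 7393],
   .loop none [.fwd 5397, .fwd 7394, .bwd 5085],
   .loop none [.bwd 7395],
   .loop none [.bwd 5397, .bwd 7396],
   .loop none [.fwd 5396, .bwd 7396],
   .loop (some (13, 2)) [.bwd 4173, .bwd 4285, .fwd 4966],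
   .loop (some (16, 3)) [.fwd 5084, .fwd 7397, .bwd 5882, .bwd 2493, .bwd 2492],
   .loop (some (13, 2)) [.bwd 2009, .bwd 5883, .fwd 2528],
   .loop (some (0, 1)) [.fwd 7401, .fwd 7342],
   .loop (some (2, 3)) [.fwd 5875, .fwd 2010, .fwd 7353, .fwd 4259],
   .loop none [.fwd 7403],
   .loop none [.bwd 3279, .fwd 7404, .bwd 4259],
   .loop none [.fwd 7405],
   .loop none [.bwd 4260, .bwd 7404],
   .loop none [.fwd 7353, .bwd 7406],
   .loop none [.fwd 4258, .bwd 7406],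
   .loop (some (10, 2)) [.bwd 2010, .bwd 7401, .fwd 2529],
   .loop (some (12, 2)) [.fwd 5875, .bwd 7401, .bwd 6519],
   .loop (some (4, 1)) [.fwd 2493, .bwd 7354, .fwd 2011],
   .loop (some (0, 1)) [.fwd 7410, .fwd 7344],
   .loop (some (11, 2)) [.bwd 2011, .bwd 7410, .fwd 2530],
   .loop (some (12, 2)) [.fwd 7408, .bwd 7410, .bwd 7249],
   .loop (some (3, 0)) [.fwd 2491, .fwd 2492, .bwd 7412],
   .loop (some (2, 2)) [.bwd 2012, .fwd 7416, .bwd 2490],
   .loop (some (10, 2)) [.bwd 7416, .bwd 7414, .fwd 7239],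
   .loop (some (12, 2)) [.bwd 2012, .bwd 7414, .fwd 2531],
   .loop (some (13, 2)) [.bwd 7412, .bwd 7414, .fwd 7241],
   .loop (some (3, 1)) [.bwd 2014, .bwd 2013, .bwd 7417],
   .loop (some (0, 1)) [.fwd 7419, .fwd 7358],
   .loop (some (13, 2)) [.bwd 2013, .bwd 7419, .fwd 2532],
   .loop (some (0, 1)) [.fwd 7423, .fwd 7360],
   .loop (some (10, 2)) [.bwd 2014, .bwd 7423, .fwd 2533],
   .loop (some (4, 1)) [.fwd 2489, .fwd 7421, .fwd 2015],
   .loop (some (0, 1)) [.fwd 7425, .fwd 7361],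
   .loop (some (11, 2)) [.bwd 2015, .bwd 7425, .fwd 2534],
   .loop (some (3, 0)) [.fwd 2487, .fwd 2488, .bwd 7426],
   .loop (some (0, 1)) [.fwd 7428, .fwd 7363],
   .loop (some (2, 2)) [.bwd 2016, .fwd 7429, .bwd 2486],
   .loop (some (10, 2)) [.bwd 7429, .bwd 7428, .fwd 7231],
   .loop (some (12, 2)) [.bwd 2016, .bwd 7428, .fwd 2535],
   .loop (some (3, 1)) [.bwd 2018, .bwd 2017, .bwd 7431],
   .loop (some (0, 1)) [.fwd 7433, .fwd 7366],
   .loop (some (10, 2)) [.fwd 7431, .bwd 7433, .bwd 7230],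
   .loop (some (13, 2)) [.bwd 2017, .bwd 7433, .fwd 2536],
   .loop (some (10, 2)) [.bwd 2018, .bwd 7437, .fwd 2537],
   .loop (some (4, 1)) [.fwd 2485, .fwd 7434, .fwd 2019],
   .loop (some (11, 2)) [.bwd 2019, .bwd 7438, .fwd 2538],
   .loop (some (3, 0)) [.fwd 2483, .fwd 2484, .bwd 7439],
   .loop (some (0, 1)) [.fwd 7440, .fwd 7371],
   .loop (some (2, 2)) [.bwd 2020, .fwd 7441, .bwd 2482],
   .loop (some (10, 2)) [.bwd 7441, .bwd 7440, .fwd 7223],
   .loop (some (12, 2)) [.bwd 2020, .bwd 7440, .fwd 2539],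
   .loop (some (13, 2)) [.bwd 7439, .bwd 7440, .fwd 7225],
   .loop (some (3, 1)) [.bwd 2022, .bwd 2021, .bwd 7443],
   .loop (some (0, 1)) [.fwd 7445, .fwd 7374],
   .loop (some (10, 2)) [.fwd 7443, .bwd 7445, .bwd 7222],
   .loop (some (13, 2)) [.bwd 2021, .bwd 7445, .fwd 2540],
   .loop (some (0, 1)) [.fwd 7450, .fwd 7376],
   .loop (some (10, 2)) [.bwd 2022, .bwd 7450, .fwd 2541],
   .loop (some (4, 1)) [.fwd 2481, .fwd 7447, .fwd 2023],
   .loop (some (0, 1)) [.fwd 7452, .fwd 7377],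
   .loop (some (2, 2)) [.bwd 2024, .fwd 7380, .bwd 2478],
   .loop (some (13, 2)) [.bwd 7453, .bwd 7379, .bwd 7211],
   .loop (some (4, 0)) [.fwd 3136, .fwd 6443, .fwd 6438],
   .loop (some (16, 6)) [.bwd 7455, .bwd 2477, .bwd 2476, .fwd 3668, .bwd 4336, .fwd 5597],
   .loop none [.fwd 7458],
   .loop none [.bwd 7457, .fwd 7459, .bwd 5597],
   .loop none [.fwd 7460],
   .loop none [.fwd 2024, .fwd 7459, .fwd 5598],
   .loop none [.fwd 7462],
   .loop none [.bwd 4336, .bwd 7461],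
   .loop none [.bwd 3136, .fwd 7461, .bwd 4335],
   .loop none [.fwd 7465],
   .loop none [.bwd 7453, .fwd 7463, .fwd 5599],
   .loop none [.fwd 7467],
   .loop none [.fwd 4334, .bwd 7466],
   .loop none [.fwd 2480, .fwd 7468, .fwd 5600],
   .loop none [.fwd 7470],
   .loop none [.bwd 5601, .bwd 7471],
   .loop (some (9, 2)) [.bwd 6574, .bwd 3740, .bwd 5342, .fwd 5338],
   .loop none [.bwd 7473],
   .loop none [.fwd 5731, .bwd 7474],
   .loop none [.fwd 6574, .bwd 7474],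
   .loop (some (9, 2)) [.bwd 3208, .bwd 5384, .fwd 2051],
   .loop (some (1, 2)) [.bwd 5338, .bwd 2043, .fwd 3208, .fwd 5743],
   .loop none [.fwd 7478],
   .loop none [.fwd 5743, .bwd 7479],
   .loop none [.fwd 5745, .bwd 7479],
   .loop none [.fwd 3175, .bwd 7479],
   .loop (some (9, 2)) [.bwd 5338, .bwd 5803, .fwd 3204],
   .loop (some (5, 2)) [.bwd 7482, .bwd 5338, .bwd 2055, .fwd 5550],
   .loop none [.fwd 7484],
   .loop none [.fwd 5550, .bwd 7485],
   .loop none [.bwd 3308, .bwd 7485],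
   .loop none [.bwd 7157, .bwd 7485],
   .loop none [.bwd 7158, .bwd 7485],
   .loop none [.bwd 7159, .bwd 7485],
   .loop none [.bwd 5739, .bwd 7485],
   .loop (some (0, 1)) [.fwd 7491, .fwd 7477],
   .loop (some (8, 1)) [.fwd 2104, .bwd 2070, .bwd 2058],
   .loop (some (8, 1)) [.fwd 2103, .bwd 7493, .fwd 2072],
   .loop (some (2, 2)) [.bwd 3224, .fwd 6793, .bwd 6789, .fwd 6663],
   .loop none [.fwd 7495],
   .loop none [.bwd 3225, .fwd 7496, .bwd 5525],
   .loop none [.fwd 7497],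
   .loop none [.fwd 6663, .bwd 7496]]

theorem just29_len : just29.length = 250 := by decide +kernel

theorem just29_ok : cert.okFacts 7250 just29 = true := by decide +kernel

/-- justifications -/
noncomputable def just30 : List Cert.Just :=
  [.loop none [.fwd 5524, .bwd 7498],
   .loop (some (3, 2)) [.bwd 2099, .fwd 2105, .fwd 2110],
   .loop (some (7, 3)) [.bwd 2098, .bwd 2171, .fwd 2098],
   .loop (some (6, 1)) [.bwd 2111, .fwd 7501, .fwd 2100],
   .loop (some (6, 1)) [.bwd 2112, .bwd 7503, .fwd 2101],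
   .loop (some (4, 2)) [.bwd 2110, .fwd 2113, .fwd 2160],
   .loop (some (7, 1)) [.bwd 2161, .fwd 7505, .fwd 2111],
   .loop (some (7, 1)) [.bwd 2162, .bwd 7506, .fwd 2112],
   .loop (some (14, 0)) [.fwd 2432, .fwd 7001, .bwd 2436, .fwd 2427],
   .loop (some (8, 1)) [.fwd 2433, .bwd 2435, .bwd 2427],
   .loop (some (10, 2)) [.bwd 6791, .fwd 7508, .fwd 7087],
   .loop (some (13, 2)) [.bwd 6752, .bwd 7510, .bwd 2444],
   .loop (some (3, 2)) [.fwd 4833, .bwd 5051, .bwd 3244, .bwd 3243],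
   .loop none [.bwd 7512],
   .loop none [.bwd 4833, .bwd 7513],
   .loop none [.bwd 3243, .fwd 7513, .bwd 4832],
   .loop none [.fwd 7515],
   .loop none [.fwd 4831, .bwd 7516],
   .loop (some (2, 2)) [.fwd 3137, .bwd 2463, .bwd 3244, .fwd 7517],
   .loop none [.fwd 7518],
   .loop none [.bwd 6443, .fwd 7519, .bwd 4830],
   .loop none [.fwd 7520],
   .loop none [.bwd 7469, .fwd 7519, .bwd 7517],
   .loop none [.bwd 7522],
   .loop none [.fwd 6304, .fwd 7521, .bwd 4829],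
   .loop none [.fwd 7524],
   .loop none [.fwd 5783, .fwd 7523, .bwd 4333],
   .loop none [.fwd 7526],
   .loop none [.fwd 7469, .bwd 7523],
   .loop none [.fwd 6502, .fwd 7525, .bwd 4828],
   .loop none [.fwd 7529],
   .loop none [.bwd 5782, .fwd 7527, .bwd 4332],
   .loop none [.fwd 7531],
   .loop none [.bwd 2478, .fwd 7530, .bwd 4827],
   .loop none [.fwd 7533],
   .loop none [.bwd 5586, .fwd 7532, .bwd 4331],
   .loop none [.bwd 7535],
   .loop none [.fwd 4826, .bwd 7534],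
   .loop none [.fwd 5314, .bwd 7536],
   .loop none [.bwd 5315, .bwd 7536],
   .loop none [.fwd 5586, .bwd 7536],
   .loop none [.bwd 6006, .bwd 7536],
   .loop none [.fwd 5933, .bwd 7536],
   .loop (some (17, 4)) [.bwd 5051, .fwd 2463, .fwd 3670, .fwd 3057, .fwd 3058],
   .loop (some (14, 2)) [.fwd 3733, .bwd 4024, .bwd 3727, .bwd 4040],
   .loop (some (6, 1)) [.bwd 5801, .bwd 2476, .fwd 3671],
   .loop (some (5, 1)) [.bwd 4306, .fwd 3688, .fwd 3671],
   .loop (some (14, 2)) [.bwd 5155, .bwd 5800, .bwd 6531, .bwd 6550],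
   .loop (some (17, 2)) [.bwd 3700, .fwd 6440, .bwd 6502, .fwd 2478, .fwd 2479],
   .loop (some (4, 1)) [.bwd 7472, .bwd 2479, .fwd 7537],
   .loop (some (11, 2)) [.bwd 7537, .bwd 7213, .fwd 6395],
   .loop (some (16, 3)) [.fwd 4825, .bwd 7537, .bwd 7380, .bwd 2023, .bwd 2022],
   .loop (some (13, 2)) [.bwd 2479, .bwd 7213, .fwd 1899],
   .loop (some (0, 0)) [.fwd 7216, .fwd 7552],
   .loop (some (2, 1)) [.bwd 3701, .bwd 7548, .fwd 2480],
   .loop (some (11, 2)) [.bwd 7472, .bwd 7552, .fwd 7210],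
   .loop (some (0, 0)) [.fwd 7218, .fwd 7456],
   .loop (some (17, 1)) [.bwd 6282, .fwd 6438, .bwd 2024, .fwd 7453, .fwd 7554],
   .loop (some (12, 2)) [.bwd 7554, .bwd 7456, .fwd 7217],
   .loop (some (0, 0)) [.fwd 7220, .fwd 7449],
   .loop (some (0, 0)) [.fwd 7224, .fwd 7444],
   .loop (some (13, 2)) [.bwd 2483, .bwd 7444, .fwd 1903],
   .loop (some (0, 0)) [.fwd 7226, .fwd 7561],
   .loop (some (0, 0)) [.fwd 7227, .fwd 7446],
   .loop (some (0, 0)) [.fwd 7229, .fwd 7436],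
   .loop (some (0, 0)) [.fwd 7232, .fwd 7432],
   .loop (some (4, 0)) [.fwd 5083, .bwd 7400, .bwd 2491],
   .loop (some (0, 0)) [.fwd 7240, .fwd 7418],
   .loop (some (16, 4)) [.bwd 7566, .bwd 7416, .bwd 2011, .bwd 2010, .fwd 7355],
   .loop (some (13, 2)) [.bwd 2491, .bwd 7418, .fwd 1911],
   .loop (some (0, 0)) [.fwd 7242, .fwd 7569],
   .loop (some (0, 0)) [.fwd 7243, .fwd 7420],
   .loop (some (1, 2)) [.bwd 4966, .bwd 7178, .bwd 2750],
   .loop (some (17, 4)) [.bwd 4920, .bwd 4966, .fwd 2505, .bwd 4300, .fwd 3115, .fwd 3116],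
   .loop none [.bwd 7573],
   .loop none [.bwd 4891, .bwd 7574],
   .loop none [.fwd 4920, .bwd 7574],
   .loop none [.fwd 3116, .fwd 7574, .fwd 5507],
   .loop none [.fwd 7577],
   .loop none [.bwd 5508, .bwd 7578],
   .loop (some (20, 1)) [.bwd 4838, .fwd 4849, .fwd 2740, .fwd 872, .bwd 2953, .bwd 3696, .bwd 4056, .bwd 4300],
   .loop (some (1, 2)) [.fwd 4300, .bwd 5013, .bwd 5217],
   .loop (some (13, 2)) [.fwd 4300, .bwd 4249, .fwd 4097],
   .loop (some (14, 2)) [.fwd 4958, .fwd 3258, .fwd 3259, .bwd 4337, .bwd 3627],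
   .loop none [.bwd 7583],
   .loop none [.fwd 4957, .bwd 7584],
   .loop none [.bwd 4958, .bwd 7584],
   .loop (some (8, 1)) [.bwd 3671, .fwd 3053, .bwd 3259],
   .loop (some (14, 1)) [.fwd 5479, .fwd 4155, .bwd 4294, .bwd 6557],
   .loop (some (5, 2)) [.bwd 5398, .bwd 5480, .bwd 5335],
   .loop (some (4, 1)) [.bwd 7269, .bwd 2528, .fwd 6379],
   .loop (some (8, 0)) [.fwd 3655, .fwd 7322, .fwd 2527],
   .loop (some (11, 2)) [.bwd 6379, .bwd 7340, .fwd 7299],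
   .loop (some (2, 2)) [.bwd 4312, .fwd 6519, .fwd 2529, .bwd 7249],
   .loop none [.fwd 7593],
   .loop none [.bwd 7249, .bwd 7594],
   .loop none [.bwd 4788, .bwd 7594],
   .loop none [.fwd 4787, .bwd 7594],
   .loop none [.bwd 7415, .bwd 7594],
   .loop (some (12, 2)) [.fwd 6519, .bwd 7402, .bwd 6515],
   .loop (some (12, 2)) [.fwd 7595, .bwd 7413, .fwd 7343],
   .loop (some (4, 0)) [.fwd 5040, .bwd 7215, .bwd 2540],
   .loop (some (16, 4)) [.bwd 7601, .bwd 7222, .bwd 1901, .bwd 1900, .fwd 7210],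
   .loop (some (2, 2)) [.bwd 3256, .bwd 4237, .bwd 3332],
   .loop (some (5, 1)) [.bwd 2748, .fwd 4250, .fwd 2553],
   .loop (some (12, 2)) [.bwd 3256, .bwd 4302, .fwd 3115],
   .loop (some (9, 1)) [.fwd 3896, .bwd 7604, .bwd 4924],
   .loop (some (1, 2)) [.bwd 4243, .fwd 7604, .fwd 3858],
   .loop (some (8, 2)) [.bwd 4912, .bwd 2553, .fwd 3256],
   .loop (some (2, 1)) [.bwd 3117, .fwd 7576, .bwd 6251],
   .loop (some (5, 1)) [.fwd 4034, .fwd 7572, .bwd 4972],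
   .loop (some (8, 2)) [.fwd 7576, .bwd 2554, .fwd 4912],
   .loop (some (10, 2)) [.fwd 6251, .bwd 4974, .bwd 5251],
   .loop (some (12, 2)) [.fwd 7576, .bwd 4974, .bwd 7300],
   .loop (some (3, 1)) [.fwd 4880, .fwd 4881, .fwd 5217, .bwd 6266],
   .loop none [.bwd 7614],
   .loop none [.fwd 4879, .bwd 7615],
   .loop none [.bwd 4880, .bwd 7615],
   .loop (some (20, 1)) [.bwd 3670, .fwd 3696, .fwd 2953, .bwd 872, .bwd 2740, .bwd 4849, .fwd 4848, .bwd 5217],
   .loop (some (2, 2)) [.bwd 3957, .bwd 5015, .bwd 6266, .fwd 7616],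
   .loop none [.fwd 7619],
   .loop none [.bwd 6409, .fwd 7620, .bwd 4878],
   .loop none [.fwd 7621],
   .loop none [.bwd 6492, .fwd 7620, .bwd 7616],
   .loop none [.fwd 7623],
   .loop none [.fwd 6317, .fwd 7622, .bwd 4877],
   .loop none [.fwd 7625],
   .loop none [.bwd 6266, .bwd 7624],
   .loop none [.fwd 3300, .fwd 7624, .fwd 6267],
   .loop none [.bwd 7628],
   .loop none [.bwd 7617, .bwd 7624],
   .loop none [.bwd 3353, .bwd 7624],
   .loop none [.fwd 3352, .bwd 7624],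
   .loop none [.bwd 6268, .bwd 7624],
   .loop none [.fwd 6278, .bwd 7624],
   .loop none [.fwd 659, .fwd 7626, .bwd 4876],
   .loop none [.fwd 7635],
   .loop none [.bwd 5902, .fwd 7629, .bwd 3299],
   .loop none [.fwd 7637],
   .loop none [.bwd 3300, .bwd 7629],
   .loop none [.bwd 6482, .fwd 7636, .bwd 4875],
   .loop none [.fwd 7640],
   .loop none [.bwd 5797, .fwd 7638, .bwd 3298],
   .loop none [.bwd 7642],
   .loop none [.fwd 4874, .bwd 7641],
   .loop none [.fwd 6000, .bwd 7643],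
   .loop none [.bwd 5383, .bwd 7643],
   .loop none [.fwd 5797, .bwd 7643],
   .loop none [.bwd 6313, .bwd 7643],
   .loop none [.fwd 7541, .bwd 7643],
   .loop (some (17, 4)) [.fwd 5217, .fwd 5015, .bwd 2750, .bwd 3952, .fwd 3313],
   .loop (some (13, 2)) [.fwd 5217, .bwd 5172, .fwd 5051],
   .loop (some (2, 1)) [.bwd 2854, .fwd 5188, .bwd 3824],
   .loop (some (10, 2)) [.fwd 3824, .bwd 3820, .bwd 4881],
   .loop (some (12, 2)) [.fwd 5188, .bwd 3820, .bwd 7650],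
   .loop (some (8, 2)) [.fwd 4018, .bwd 2748, .bwd 5188],
   .loop (some (2, 2)) [.fwd 3952, .bwd 6487, .bwd 2984],
   .loop (some (8, 2)) [.fwd 3952, .bwd 2749, .bwd 4018],
   .loop (some (10, 2)) [.fwd 6487, .bwd 4036, .bwd 7464],
   .loop (some (12, 2)) [.fwd 3952, .bwd 4036, .fwd 3057],
   .loop (some (12, 2)) [.bwd 2781, .bwd 7061, .fwd 7077],
   .loop (some (13, 2)) [.bwd 2782, .bwd 7660, .fwd 5754],
   .loop (some (10, 2)) [.bwd 2783, .bwd 7661, .fwd 5755],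
   .loop (some (11, 2)) [.bwd 2784, .bwd 7662, .fwd 5756],
   .loop (some (12, 2)) [.bwd 2785, .bwd 7663, .fwd 5757],
   .loop (some (13, 2)) [.bwd 2786, .bwd 7664, .fwd 5758],
   .loop (some (10, 2)) [.bwd 2787, .bwd 7665, .fwd 5759],
   .loop (some (11, 2)) [.bwd 2788, .bwd 7666, .fwd 5760],
   .loop (some (12, 2)) [.bwd 2789, .bwd 7667, .fwd 5761],
   .loop (some (13, 2)) [.bwd 2790, .bwd 7668, .fwd 5762],
   .loop (some (10, 2)) [.bwd 2791, .bwd 7669, .fwd 5763],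
   .loop (some (11, 2)) [.bwd 2792, .bwd 7670, .fwd 5764],
   .loop (some (12, 2)) [.bwd 2793, .bwd 7671, .fwd 5765],
   .loop (some (13, 2)) [.bwd 2794, .bwd 7672, .fwd 5766],
   .loop (some (10, 2)) [.bwd 2795, .bwd 7673, .fwd 5767],
   .loop (some (11, 2)) [.bwd 2796, .bwd 7674, .fwd 5768],
   .loop (some (2, 0)) [.fwd 3297, .fwd 7645, .bwd 2797],
   .loop (some (16, 3)) [.fwd 2795, .fwd 2796, .fwd 7676, .bwd 3296, .bwd 3295],
   .loop (some (4, 0)) [.bwd 7630, .bwd 7639, .fwd 5904],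
   .loop (some (11, 2)) [.bwd 7678, .bwd 6279, .bwd 6270],
   .loop (some (2, 2)) [.bwd 2852, .bwd 7162, .bwd 3025],
   .loop (some (12, 2)) [.bwd 2852, .bwd 7180, .bwd 3952],
   .loop (some (3, 1)) [.bwd 2854, .bwd 2853, .bwd 7680],
   .loop (some (0, 0)) [.fwd 7659, .fwd 7681],
   .loop (some (10, 2)) [.fwd 7680, .bwd 7681, .bwd 7656],
   .loop (some (14, 1)) [.fwd 7659, .bwd 7657, .bwd 7655, .bwd 7654],
   .loop (some (19, 0)) [.bwd 3256, .fwd 3255, .bwd 3001, .bwd 3891, .bwd 3952, .fwd 3951, .fwd 3800, .bwd 5187],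
   .loop (some (9, 1)) [.fwd 7605, .bwd 7686, .bwd 7654],
   .loop (some (1, 2)) [.fwd 2853, .fwd 7686, .fwd 2965],
   .loop (some (10, 2)) [.bwd 2854, .bwd 7654, .fwd 3314],
   .loop (some (4, 1)) [.fwd 3024, .fwd 7682, .fwd 2855],
   .loop (some (11, 2)) [.bwd 2855, .bwd 7689, .fwd 3315],
   .loop (some (12, 1)) [.fwd 7653, .fwd 7652, .bwd 7689],
   .loop (some (13, 1)) [.fwd 7684, .fwd 7682, .bwd 7689],
   .loop (some (3, 0)) [.fwd 3022, .fwd 3023, .bwd 7690],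
   .loop (some (2, 2)) [.bwd 2856, .fwd 7694, .bwd 3021],
   .loop (some (16, 1)) [.fwd 5214, .bwd 5187, .fwd 2854, .fwd 2855, .fwd 7694],
   .loop (some (12, 2)) [.bwd 2856, .bwd 7691, .fwd 3316],
   .loop (some (3, 1)) [.bwd 2858, .bwd 2857, .bwd 7695],
   .loop (some (13, 2)) [.bwd 2857, .bwd 7697, .fwd 3317],
   .loop (some (10, 2)) [.bwd 2858, .bwd 7699, .fwd 3318],
   .loop (some (4, 1)) [.fwd 3020, .fwd 7698, .fwd 2859],
   .loop (some (11, 2)) [.bwd 2859, .bwd 7700, .fwd 3319],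
   .loop (some (3, 0)) [.fwd 3018, .fwd 3019, .bwd 7701],
   .loop (some (2, 2)) [.bwd 2860, .fwd 7703, .bwd 3017],
   .loop (some (12, 2)) [.bwd 2860, .bwd 7702, .fwd 3320],
   .loop (some (3, 1)) [.bwd 2862, .bwd 2861, .bwd 7704],
   .loop (some (13, 2)) [.bwd 2861, .bwd 7705, .fwd 3321],
   .loop (some (10, 2)) [.bwd 2862, .bwd 7707, .fwd 3322],
   .loop (some (4, 1)) [.fwd 3016, .fwd 7706, .fwd 2863],
   .loop (some (11, 2)) [.bwd 2863, .bwd 7708, .fwd 3323],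
   .loop (some (3, 0)) [.fwd 3014, .fwd 3015, .bwd 7709],
   .loop (some (2, 2)) [.bwd 2864, .fwd 7711, .bwd 3013],
   .loop (some (12, 2)) [.bwd 2864, .bwd 7710, .fwd 3324],
   .loop (some (3, 1)) [.bwd 2866, .bwd 2865, .bwd 7712],
   .loop (some (13, 2)) [.bwd 2865, .bwd 7713, .fwd 3325],
   .loop (some (10, 2)) [.bwd 2866, .bwd 7715, .fwd 3326],
   .loop (some (4, 1)) [.fwd 3012, .fwd 7714, .fwd 2867],
   .loop (some (11, 2)) [.bwd 2867, .bwd 7716, .fwd 3327],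
   .loop (some (3, 0)) [.fwd 3010, .fwd 3011, .bwd 7717],
   .loop (some (2, 2)) [.bwd 2868, .fwd 7719, .bwd 3009],
   .loop (some (12, 2)) [.bwd 2868, .bwd 7718, .fwd 3328],
   .loop (some (3, 1)) [.bwd 2870, .bwd 2869, .bwd 7720],
   .loop (some (13, 2)) [.bwd 2869, .bwd 7721, .fwd 3329],
   .loop (some (10, 2)) [.bwd 2870, .bwd 7723, .fwd 3330],
   .loop (some (4, 1)) [.fwd 3008, .fwd 7722, .fwd 2871],
   .loop (some (11, 2)) [.bwd 2871, .bwd 7724, .fwd 3331],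
   .loop (some (3, 0)) [.fwd 3006, .fwd 3007, .bwd 7725],
   .loop (some (10, 2)) [.bwd 7727, .bwd 7726, .fwd 7603],
   .loop (some (17, 4)) [.bwd 7725, .fwd 2872, .fwd 2873, .fwd 7292, .fwd 7285],
   .loop (some (12, 2)) [.bwd 2872, .bwd 7726, .fwd 3332],
   .loop (some (11, 2)) [.bwd 7644, .bwd 6501, .fwd 7537],
   .loop (some (16, 3)) [.fwd 4873, .bwd 7644, .bwd 6497, .bwd 1982, .bwd 1981],
   .loop (some (2, 1)) [.bwd 4062, .bwd 6500, .fwd 2889],
   .loop (some (12, 2)) [.bwd 6500, .bwd 7553, .fwd 7548],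
   .loop (some (17, 1)) [.fwd 6493, .bwd 622, .fwd 6416, .bwd 7221, .fwd 7733],
   .loop (some (12, 2)) [.bwd 7733, .bwd 7556, .fwd 7554],
   .loop (some (4, 0)) [.fwd 5242, .bwd 7341, .bwd 2900],
   .loop (some (11, 2)) [.bwd 7737, .bwd 7567, .fwd 7566],
   .loop (some (16, 4)) [.bwd 7737, .bwd 7356, .bwd 1970, .bwd 1969, .fwd 7337],
   .loop (some (8, 1)) [.fwd 4166, .bwd 6565, .bwd 6580],
   .loop (some (11, 1)) [.fwd 6575, .fwd 6564, .bwd 6575],
   .loop (some (17, 3)) [.bwd 6547, .bwd 6597, .bwd 6576, .fwd 6565, .fwd 4165, .fwd 5392],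
   .loop none [.fwd 7742],
   .loop none [.bwd 5393, .bwd 7743],
   .loop none [.fwd 5392, .bwd 7743],
   .loop (some (12, 1)) [.fwd 4163, .bwd 6565, .bwd 6575],
   .loop (some (3, 1)) [.bwd 2966, .bwd 2965, .bwd 7603],
   .loop (some (14, 1)) [.fwd 7613, .bwd 7611, .bwd 7608, .bwd 7605],
   .loop (some (0, 1)) [.fwd 7605, .fwd 7728]]

theorem just30_len : just30.length = 250 := by decide +kernel

theorem just30_ok : cert.okFacts 7500 just30 = true := by decide +kernel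

/-- justifications -/
noncomputable def just31 : List Cert.Just :=
  [.loop (some (10, 2)) [.fwd 7603, .bwd 7605, .fwd 7579],
   .loop (some (16, 3)) [.fwd 4283, .fwd 4284, .bwd 7603, .bwd 3331, .bwd 3330],
   .loop (some (13, 2)) [.bwd 2965, .bwd 7605, .fwd 3116],
   .loop (some (9, 1)) [.fwd 7681, .bwd 7688, .bwd 7752],
   .loop (some (0, 0)) [.fwd 7613, .fwd 7752],
   .loop (some (2, 1)) [.bwd 4174, .fwd 4256, .fwd 2966],
   .loop (some (10, 2)) [.bwd 2966, .bwd 7752, .fwd 3117],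
   .loop (some (4, 1)) [.fwd 3331, .fwd 7747, .fwd 2967],
   .loop (some (11, 2)) [.bwd 2967, .bwd 7756, .fwd 3118],
   .loop (some (13, 1)) [.fwd 7750, .fwd 7747, .bwd 7756],
   .loop (some (3, 0)) [.fwd 3329, .fwd 3330, .bwd 7757],
   .loop (some (2, 2)) [.bwd 2968, .fwd 7760, .bwd 3328],
   .loop (some (12, 2)) [.bwd 2968, .bwd 7758, .fwd 3119],
   .loop (some (3, 1)) [.bwd 2970, .bwd 2969, .bwd 7761],
   .loop (some (13, 2)) [.bwd 2969, .bwd 7762, .fwd 3120],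
   .loop (some (10, 2)) [.bwd 2970, .bwd 7764, .fwd 3121],
   .loop (some (4, 1)) [.fwd 3327, .fwd 7763, .fwd 2971],
   .loop (some (11, 2)) [.bwd 2971, .bwd 7765, .fwd 3122],
   .loop (some (3, 0)) [.fwd 3325, .fwd 3326, .bwd 7766],
   .loop (some (2, 2)) [.bwd 2972, .fwd 7768, .bwd 3324],
   .loop (some (12, 2)) [.bwd 2972, .bwd 7767, .fwd 3123],
   .loop (some (3, 1)) [.bwd 2974, .bwd 2973, .bwd 7769],
   .loop (some (13, 2)) [.bwd 2973, .bwd 7770, .fwd 3124],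
   .loop (some (10, 2)) [.bwd 2974, .bwd 7772, .fwd 3125],
   .loop (some (4, 1)) [.fwd 3323, .fwd 7771, .fwd 2975],
   .loop (some (11, 2)) [.bwd 2975, .bwd 7773, .fwd 3126],
   .loop (some (3, 0)) [.fwd 3321, .fwd 3322, .bwd 7774],
   .loop (some (2, 2)) [.bwd 2976, .fwd 7776, .bwd 3320],
   .loop (some (12, 2)) [.bwd 2976, .bwd 7775, .fwd 3127],
   .loop (some (3, 1)) [.bwd 2978, .bwd 2977, .bwd 7777],
   .loop (some (13, 2)) [.bwd 2977, .bwd 7778, .fwd 3128],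
   .loop (some (10, 2)) [.bwd 2978, .bwd 7780, .fwd 3129],
   .loop (some (4, 1)) [.fwd 3319, .fwd 7779, .fwd 2979],
   .loop (some (11, 2)) [.bwd 2979, .bwd 7781, .fwd 3130],
   .loop (some (3, 0)) [.fwd 3317, .fwd 3318, .bwd 7782],
   .loop (some (2, 2)) [.bwd 2980, .fwd 7784, .bwd 3316],
   .loop (some (12, 2)) [.bwd 2980, .bwd 7783, .fwd 3131],
   .loop (some (3, 1)) [.bwd 2982, .bwd 2981, .bwd 7785],
   .loop (some (13, 2)) [.bwd 2981, .bwd 7786, .fwd 3132],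
   .loop (some (10, 2)) [.bwd 2982, .bwd 7788, .fwd 3133],
   .loop (some (11, 2)) [.bwd 2983, .bwd 7789, .fwd 3134],
   .loop (some (0, 1)) [.fwd 7790, .fwd 7684],
   .loop (some (10, 1)) [.fwd 7659, .bwd 7656, .bwd 7790],
   .loop (some (14, 1)) [.fwd 7653, .bwd 6473, .fwd 6474, .bwd 7658],
   .loop (some (6, 2)) [.bwd 3007, .bwd 7748, .fwd 7579],
   .loop (some (9, 3)) [.bwd 7754, .fwd 7688, .fwd 7683],
   .loop (some (1, 2)) [.fwd 3006, .bwd 7795, .fwd 3058],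
   .loop (some (10, 2)) [.bwd 3007, .bwd 7754, .fwd 2966],
   .loop (some (0, 0)) [.fwd 7756, .fwd 7797],
   .loop (some (7, 2)) [.bwd 3008, .bwd 7794, .fwd 5509],
   .loop (some (11, 2)) [.bwd 3008, .bwd 7797, .fwd 2967],
   .loop (some (12, 2)) [.fwd 7729, .bwd 7797, .fwd 7755],
   .loop (some (0, 0)) [.fwd 7758, .fwd 7800],
   .loop (some (12, 2)) [.bwd 3009, .bwd 7800, .fwd 2968],
   .loop (some (0, 0)) [.fwd 7762, .fwd 7803],
   .loop (some (8, 0)) [.bwd 5510, .fwd 7799, .fwd 3009],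
   .loop (some (13, 2)) [.bwd 3010, .bwd 7803, .fwd 2969],
   .loop (some (0, 0)) [.fwd 7764, .fwd 7806],
   .loop (some (10, 2)) [.bwd 3011, .bwd 7806, .fwd 2970],
   .loop (some (0, 0)) [.fwd 7765, .fwd 7808],
   .loop (some (11, 2)) [.bwd 3012, .bwd 7808, .fwd 2971],
   .loop (some (0, 0)) [.fwd 7767, .fwd 7810],
   .loop (some (12, 2)) [.bwd 3013, .bwd 7810, .fwd 2972],
   .loop (some (0, 0)) [.fwd 7770, .fwd 7812],
   .loop (some (13, 2)) [.bwd 3014, .bwd 7812, .fwd 2973],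
   .loop (some (0, 0)) [.fwd 7772, .fwd 7814],
   .loop (some (10, 2)) [.bwd 3015, .bwd 7814, .fwd 2974],
   .loop (some (0, 0)) [.fwd 7773, .fwd 7816],
   .loop (some (11, 2)) [.bwd 3016, .bwd 7816, .fwd 2975],
   .loop (some (0, 0)) [.fwd 7775, .fwd 7818],
   .loop (some (12, 2)) [.bwd 3017, .bwd 7818, .fwd 2976],
   .loop (some (0, 0)) [.fwd 7778, .fwd 7820],
   .loop (some (13, 2)) [.bwd 3018, .bwd 7820, .fwd 2977],
   .loop (some (0, 0)) [.fwd 7780, .fwd 7822],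
   .loop (some (10, 2)) [.bwd 3019, .bwd 7822, .fwd 2978],
   .loop (some (0, 0)) [.fwd 7781, .fwd 7824],
   .loop (some (11, 2)) [.bwd 3020, .bwd 7824, .fwd 2979],
   .loop (some (0, 0)) [.fwd 7783, .fwd 7826],
   .loop (some (12, 2)) [.bwd 3021, .bwd 7826, .fwd 2980],
   .loop (some (4, 2)) [.bwd 3022, .fwd 7696, .bwd 5213],
   .loop (some (0, 0)) [.fwd 7786, .fwd 7828],
   .loop (some (13, 2)) [.bwd 3022, .bwd 7828, .fwd 2981],
   .loop (some (0, 0)) [.fwd 7788, .fwd 7831],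
   .loop (some (10, 2)) [.bwd 3023, .bwd 7831, .fwd 2982],
   .loop (some (0, 0)) [.fwd 7789, .fwd 7833],
   .loop (some (4, 2)) [.fwd 7480, .fwd 7145, .fwd 7130],
   .loop (some (2, 1)) [.bwd 3691, .bwd 7146, .fwd 3044],
   .loop (some (3, 1)) [.bwd 3059, .bwd 3058, .bwd 7792],
   .loop (some (6, 2)) [.fwd 7792, .bwd 7685, .fwd 3314],
   .loop (some (13, 2)) [.bwd 3058, .bwd 7683, .fwd 2853],
   .loop (some (0, 0)) [.fwd 7654, .fwd 7839],
   .loop (some (2, 1)) [.fwd 3242, .fwd 7514, .bwd 7543, .fwd 3059],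
   .loop none [.bwd 7841],
   .loop none [.bwd 3060, .fwd 7842, .bwd 3241],
   .loop none [.fwd 7843],
   .loop none [.bwd 3242, .bwd 7842],
   .loop none [.fwd 3240, .bwd 7844],
   .loop (some (10, 2)) [.bwd 3059, .bwd 7839, .fwd 2854],
   .loop (some (4, 1)) [.fwd 3134, .fwd 7837, .fwd 3060],
   .loop (some (0, 0)) [.fwd 7689, .fwd 7847],
   .loop (some (11, 2)) [.bwd 3060, .bwd 7847, .fwd 2855],
   .loop (some (3, 2)) [.fwd 3133, .bwd 7848, .fwd 7846, .bwd 3239],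
   .loop none [.fwd 7851],
   .loop none [.fwd 3238, .bwd 7852],
   .loop none [.fwd 3132, .fwd 7852, .fwd 3239],
   .loop none [.fwd 7854],
   .loop none [.fwd 7846, .bwd 7855],
   .loop (some (0, 0)) [.fwd 7691, .fwd 7850],
   .loop (some (2, 2)) [.bwd 3061, .bwd 7856, .bwd 3131],
   .loop (some (12, 2)) [.bwd 3061, .bwd 7850, .fwd 2856],
   .loop (some (3, 1)) [.bwd 3063, .bwd 3062, .bwd 7858],
   .loop (some (0, 0)) [.fwd 7697, .fwd 7859],
   .loop (some (13, 2)) [.bwd 3062, .bwd 7859, .fwd 2857],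
   .loop (some (0, 0)) [.fwd 7699, .fwd 7862],
   .loop (some (10, 2)) [.bwd 3063, .bwd 7862, .fwd 2858],
   .loop (some (4, 1)) [.fwd 3130, .fwd 7860, .fwd 3064],
   .loop (some (0, 0)) [.fwd 7700, .fwd 7864],
   .loop (some (11, 2)) [.bwd 3064, .bwd 7864, .fwd 2859],
   .loop (some (3, 0)) [.fwd 3128, .fwd 3129, .bwd 7865],
   .loop (some (0, 0)) [.fwd 7702, .fwd 7867],
   .loop (some (2, 2)) [.bwd 3065, .fwd 7868, .bwd 3127],
   .loop (some (12, 2)) [.bwd 3065, .bwd 7867, .fwd 2860],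
   .loop (some (3, 1)) [.bwd 3067, .bwd 3066, .bwd 7870],
   .loop (some (0, 0)) [.fwd 7705, .fwd 7871],
   .loop (some (13, 2)) [.bwd 3066, .bwd 7871, .fwd 2861],
   .loop (some (0, 0)) [.fwd 7707, .fwd 7874],
   .loop (some (10, 2)) [.bwd 3067, .bwd 7874, .fwd 2862],
   .loop (some (4, 1)) [.fwd 3126, .fwd 7872, .fwd 3068],
   .loop (some (0, 0)) [.fwd 7708, .fwd 7876],
   .loop (some (11, 2)) [.bwd 3068, .bwd 7876, .fwd 2863],
   .loop (some (3, 0)) [.fwd 3124, .fwd 3125, .bwd 7877],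
   .loop (some (0, 0)) [.fwd 7710, .fwd 7879],
   .loop (some (2, 2)) [.bwd 3069, .fwd 7880, .bwd 3123],
   .loop (some (12, 2)) [.bwd 3069, .bwd 7879, .fwd 2864],
   .loop (some (3, 1)) [.bwd 3071, .bwd 3070, .bwd 7882],
   .loop (some (0, 0)) [.fwd 7713, .fwd 7883],
   .loop (some (13, 2)) [.bwd 3070, .bwd 7883, .fwd 2865],
   .loop (some (0, 0)) [.fwd 7715, .fwd 7886],
   .loop (some (10, 2)) [.bwd 3071, .bwd 7886, .fwd 2866],
   .loop (some (4, 1)) [.fwd 3122, .fwd 7884, .fwd 3072],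
   .loop (some (11, 2)) [.bwd 3072, .bwd 7888, .fwd 2867],
   .loop (some (3, 0)) [.fwd 3120, .fwd 3121, .bwd 7889],
   .loop (some (0, 0)) [.fwd 7718, .fwd 7890],
   .loop (some (2, 2)) [.bwd 3073, .fwd 7891, .bwd 3119],
   .loop (some (12, 2)) [.bwd 3073, .bwd 7890, .fwd 2868],
   .loop (some (3, 1)) [.bwd 3075, .bwd 3074, .bwd 7893],
   .loop (some (0, 0)) [.fwd 7721, .fwd 7894],
   .loop (some (13, 2)) [.bwd 3074, .bwd 7894, .fwd 2869],
   .loop (some (0, 0)) [.fwd 7723, .fwd 7897],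
   .loop (some (10, 2)) [.bwd 3075, .bwd 7897, .fwd 2870],
   .loop (some (4, 1)) [.bwd 7759, .fwd 3118, .fwd 7895, .fwd 3076],
   .loop none [.bwd 7900],
   .loop none [.fwd 7579, .bwd 7901],
   .loop none [.fwd 3076, .fwd 7901, .fwd 5509],
   .loop none [.fwd 7903],
   .loop none [.fwd 7759, .bwd 7901],
   .loop none [.bwd 7794, .bwd 7901],
   .loop none [.bwd 7750, .bwd 7901],
   .loop none [.bwd 5510, .bwd 7904],
   .loop none [.bwd 7799, .bwd 7904],
   .loop (some (0, 0)) [.fwd 7724, .fwd 7899],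
   .loop (some (11, 2)) [.bwd 3076, .bwd 7899, .fwd 2871],
   .loop (some (17, 2)) [.bwd 3120, .bwd 3119, .fwd 7895, .fwd 7908, .fwd 5511],
   .loop (some (8, 2)) [.bwd 3077, .fwd 7906, .bwd 7729],
   .loop (some (7, 2)) [.bwd 7575, .bwd 7611, .fwd 4913],
   .loop (some (2, 1)) [.bwd 5512, .fwd 7912, .fwd 3121],
   .loop (some (7, 0)) [.bwd 3315, .fwd 7838, .bwd 3134],
   .loop (some (14, 3)) [.fwd 3862, .fwd 5004, .bwd 4835, .bwd 288, .fwd 4914],
   .loop none [.fwd 7917],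
   .loop none [.bwd 4915, .bwd 7918],
   .loop none [.fwd 4914, .bwd 7918],
   .loop (some (6, 1)) [.bwd 5253, .fwd 4799, .bwd 7189],
   .loop (some (8, 1)) [.bwd 4110, .bwd 3217, .bwd 5004],
   .loop (some (16, 3)) [.bwd 4175, .bwd 4174, .fwd 4800, .bwd 4799, .bwd 5252, .bwd 5620],
   .loop none [.fwd 7923],
   .loop none [.bwd 5620, .bwd 7924],
   .loop none [.fwd 5815, .bwd 7924],
   .loop none [.fwd 6230, .bwd 7924],
   .loop (some (14, 2)) [.fwd 7188, .fwd 4804, .fwd 5095, .bwd 3791],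
   .loop (some (6, 1)) [.bwd 5587, .fwd 5050, .fwd 4110],
   .loop (some (8, 1)) [.fwd 7189, .fwd 3217, .bwd 4804],
   .loop (some (6, 1)) [.bwd 4155, .fwd 4899, .fwd 3258],
   .loop (some (9, 1)) [.fwd 3936, .bwd 3878, .bwd 7586],
   .loop (some (2, 2)) [.bwd 4004, .bwd 4899, .bwd 5449],
   .loop (some (15, 3)) [.fwd 5435, .fwd 4899, .fwd 3878, .bwd 3854, .bwd 6540],
   .loop (some (5, 1)) [.bwd 3732, .bwd 3878, .fwd 3258],
   .loop (some (7, 1)) [.bwd 4244, .fwd 4902, .fwd 3258],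
   .loop (some (10, 1)) [.fwd 5479, .fwd 4899, .bwd 7586],
   .loop (some (12, 2)) [.bwd 4004, .bwd 7586, .fwd 7330],
   .loop (some (8, 2)) [.bwd 7587, .bwd 3258, .fwd 4004],
   .loop (some (17, 2)) [.bwd 3863, .fwd 7922, .fwd 5054, .fwd 7587, .fwd 3672],
   .loop (some (4, 2)) [.bwd 7407, .bwd 3278, .bwd 4161, .fwd 5862],
   .loop none [.fwd 7941],
   .loop none [.bwd 5705, .bwd 7942],
   .loop none [.fwd 5862, .bwd 7942],
   .loop (some (19, 0)) [.bwd 5865, .bwd 4232, .bwd 6565, .fwd 6564, .fwd 6565, .fwd 4232, .fwd 5865, .fwd 4161],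
   .loop (some (1, 2)) [.bwd 3278, .fwd 7945, .bwd 7944],
   .loop (some (10, 2)) [.fwd 5869, .bwd 5876, .fwd 6382],
   .loop (some (16, 2)) [.bwd 5706, .bwd 7943, .bwd 7407, .fwd 3279, .fwd 3280],
   .loop (some (4, 1)) [.fwd 6146, .bwd 7409, .fwd 3280],
   .loop (some (0, 0)) [.fwd 7600, .fwd 7598],
   .loop (some (11, 2)) [.bwd 3280, .bwd 7598, .fwd 4313],
   .loop (some (3, 1)) [.fwd 6207, .bwd 7949, .fwd 7948],
   .loop (some (2, 2)) [.bwd 3281, .fwd 7948, .fwd 5707],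
   .loop (some (12, 2)) [.bwd 3281, .bwd 7951, .fwd 4314],
   .loop (some (3, 3)) [.bwd 3282, .bwd 7953, .fwd 5708, .fwd 5709],
   .loop none [.fwd 7955],
   .loop none [.bwd 3283, .fwd 7956, .bwd 5709],
   .loop none [.fwd 7957],
   .loop none [.bwd 5710, .bwd 7956],
   .loop none [.fwd 5708, .bwd 7958],
   .loop (some (13, 2)) [.bwd 3282, .bwd 7954, .fwd 4315],
   .loop (some (10, 2)) [.bwd 3283, .bwd 7961, .fwd 4316],
   .loop (some (11, 2)) [.bwd 3284, .bwd 7962, .fwd 4317],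
   .loop (some (12, 2)) [.bwd 3285, .bwd 7963, .fwd 4318],
   .loop (some (13, 2)) [.bwd 3286, .bwd 7964, .fwd 4319],
   .loop (some (10, 2)) [.bwd 3287, .bwd 7965, .fwd 4320],
   .loop (some (11, 2)) [.bwd 3288, .bwd 7966, .fwd 4321],
   .loop (some (12, 2)) [.bwd 3289, .bwd 7967, .fwd 4322],
   .loop (some (13, 2)) [.bwd 3290, .bwd 7968, .fwd 4323],
   .loop (some (10, 2)) [.bwd 3291, .bwd 7969, .fwd 4324],
   .loop (some (11, 2)) [.bwd 3292, .bwd 7970, .fwd 4325],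
   .loop (some (12, 2)) [.bwd 3293, .bwd 7971, .fwd 4326],
   .loop (some (4, 0)) [.fwd 2794, .bwd 7677, .bwd 3294],
   .loop (some (11, 1)) [.fwd 7672, .bwd 7973, .bwd 7972],
   .loop (some (13, 2)) [.bwd 3294, .bwd 7972, .fwd 4327],
   .loop (some (10, 2)) [.bwd 3295, .bwd 7975, .fwd 4328],
   .loop (some (11, 1)) [.fwd 7673, .bwd 7677, .bwd 7975],
   .loop (some (11, 2)) [.bwd 3296, .bwd 7976, .fwd 4329],
   .loop (some (10, 1)) [.fwd 7675, .fwd 7676, .bwd 7978],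
   .loop (some (7, 0)) [.bwd 2477, .fwd 5800, .bwd 7646],
   .loop (some (4, 0)) [.fwd 4282, .bwd 7751, .bwd 3329],
   .loop (some (14, 0)) [.fwd 3361, .fwd 6162, .bwd 3423, .fwd 3356],
   .loop (some (8, 1)) [.fwd 3491, .bwd 3422, .bwd 3356],
   .loop (some (12, 1)) [.bwd 6965, .bwd 3422, .fwd 7982],
   .loop (some (8, 1)) [.fwd 3490, .bwd 7983, .fwd 3423],
   .loop (some (8, 1)) [.fwd 3495, .bwd 7984, .fwd 3361],
   .loop (some (2, 2)) [.fwd 7063, .bwd 7986, .bwd 6115, .bwd 5327],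
   .loop none [.bwd 7987],
   .loop none [.bwd 7063, .bwd 7988],
   .loop none [.bwd 5663, .bwd 7988],
   .loop none [.fwd 5660, .bwd 7988],
   .loop none [.fwd 5662, .bwd 7988],
   .loop (some (14, 0)) [.fwd 3490, .fwd 6966, .bwd 3495, .fwd 3444],
   .loop (some (7, 3)) [.bwd 3442, .bwd 3447, .fwd 3442],
   .loop (some (11, 1)) [.bwd 7993, .fwd 7994, .fwd 7993],
   .loop (some (7, 3)) [.fwd 3444, .bwd 7994, .bwd 3444],
   .loop (some (16, 2)) [.fwd 5326, .fwd 7989, .fwd 7996, .bwd 7989, .bwd 5326],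
   .loop (some (7, 1)) [.bwd 3487, .fwd 6927, .fwd 3487],
   .loop (some (7, 1)) [.bwd 3488, .fwd 7998, .fwd 3488]]

theorem just31_len : just31.length = 250 := by decide +kernel

theorem just31_ok : cert.okFacts 7750 just31 = true := by decide +kernel

/-- justifications -/
noncomputable def just32 : List Cert.Just :=
  [.loop (some (16, 2)) [.fwd 5539, .fwd 7086, .fwd 7995, .bwd 7086, .bwd 5539],
   .loop (some (14, 0)) [.fwd 3504, .fwd 6929, .bwd 3509, .fwd 3499],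
   .loop (some (8, 1)) [.fwd 3519, .bwd 3507, .bwd 3499],
   .loop (some (7, 3)) [.bwd 3497, .bwd 3438, .fwd 3497],
   .loop (some (10, 2)) [.fwd 6891, .fwd 8001, .bwd 7032],
   .loop (some (16, 2)) [.bwd 6895, .fwd 6891, .fwd 8003, .bwd 6891, .fwd 6895],
   .loop (some (12, 1)) [.bwd 6889, .bwd 3507, .fwd 8001],
   .loop (some (2, 3)) [.bwd 6962, .bwd 7104, .fwd 5194],
   .loop (some (7, 3)) [.fwd 3513, .fwd 6895, .bwd 3526],
   .loop (some (7, 1)) [.bwd 3528, .fwd 7096, .fwd 3515],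
   .loop (some (7, 1)) [.bwd 3529, .bwd 8009, .fwd 3516],
   .loop (some (19, 7)) [.fwd 6846, .bwd 6853, .bwd 6882, .bwd 6907, .fwd 6882, .bwd 6819, .bwd 6841, .bwd 6848],
   .loop (some (8, 1)) [.fwd 3604, .bwd 3540, .bwd 3526],
   .loop (some (8, 1)) [.bwd 3605, .bwd 8012, .fwd 3542],
   .loop (some (12, 2)) [.bwd 8012, .bwd 3525, .fwd 3540],
   .loop (some (8, 3)) [.fwd 3531, .bwd 8011, .fwd 3579],
   .loop (some (12, 2)) [.fwd 8015, .bwd 6836, .fwd 8012],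
   .loop (some (0, 2)) [.fwd 8014, .fwd 8016],
   .loop (some (10, 1)) [.fwd 8017, .fwd 3573, .bwd 8017],
   .loop (some (13, 1)) [.fwd 3564, .fwd 3612, .bwd 8017],
   .loop (some (17, 2)) [.fwd 3530, .bwd 8015, .fwd 8019, .fwd 3577, .fwd 5634],
   .loop (some (14, 2)) [.fwd 4040, .fwd 3624, .bwd 7928, .bwd 3790],
   .loop (some (20, 3)) [.fwd 3258, .bwd 5054, .bwd 4110, .bwd 4804, .bwd 7188, .fwd 3625, .fwd 3626, .fwd 7585],
   .loop (some (6, 1)) [.bwd 5255, .fwd 7200, .fwd 7188],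
   .loop (some (9, 1)) [.fwd 7327, .bwd 7190, .bwd 7928],
   .loop (some (0, 1)) [.fwd 3857, .fwd 7928, .fwd 7938],
   .loop none [.fwd 8025],
   .loop none [.fwd 7933, .bwd 8026],
   .loop none [.fwd 4956, .bwd 8026],
   .loop none [.fwd 4004, .bwd 8026],
   .loop none [.bwd 3903, .bwd 8026],
   .loop none [.bwd 7939, .bwd 8026],
   .loop none [.fwd 7938, .bwd 8026],
   .loop (some (2, 1)) [.bwd 7937, .fwd 7330, .bwd 7200],
   .loop (some (5, 1)) [.bwd 7932, .bwd 3626, .bwd 7190, .fwd 7188],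
   .loop none [.fwd 8034],
   .loop none [.bwd 8023, .bwd 8035],
   .loop none [.bwd 7930, .bwd 8035],
   .loop none [.fwd 7188, .bwd 8035],
   .loop none [.bwd 4804, .bwd 8035],
   .loop (some (12, 2)) [.fwd 7330, .bwd 7928, .fwd 3812],
   .loop (some (13, 1)) [.fwd 7327, .bwd 3625, .bwd 7928],
   .loop (some (14, 2)) [.fwd 5004, .bwd 7189, .bwd 7327, .bwd 3673],
   .loop (some (6, 2)) [.bwd 7921, .fwd 3626, .fwd 7937],
   .loop (some (12, 2)) [.fwd 8037, .bwd 7327, .fwd 4893],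
   .loop (some (0, 1)) [.fwd 8040, .fwd 7586],
   .loop (some (10, 2)) [.bwd 7937, .bwd 8040, .fwd 4969],
   .loop (some (13, 2)) [.bwd 5264, .bwd 5263, .fwd 5499],
   .loop (some (6, 1)) [.bwd 6357, .bwd 3637, .fwd 6302],
   .loop (some (10, 2)) [.bwd 3637, .bwd 6518, .fwd 4062],
   .loop (some (5, 1)) [.bwd 4773, .fwd 6364, .fwd 6357],
   .loop (some (7, 1)) [.bwd 6362, .bwd 3638, .fwd 6357],
   .loop (some (11, 2)) [.bwd 3638, .bwd 8049, .fwd 4063],
   .loop (some (3, 0)) [.bwd 4725, .fwd 4750, .bwd 6361],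
   .loop (some (6, 1)) [.bwd 4726, .bwd 8053, .fwd 6362],
   .loop (some (5, 1)) [.bwd 4786, .bwd 6360, .fwd 6362],
   .loop (some (12, 2)) [.bwd 3639, .bwd 8052, .fwd 4064],
   .loop (some (13, 2)) [.bwd 3640, .bwd 8056, .fwd 4065],
   .loop (some (10, 2)) [.bwd 3641, .bwd 8057, .fwd 4066],
   .loop (some (11, 2)) [.bwd 3642, .bwd 8058, .fwd 4067],
   .loop (some (12, 2)) [.bwd 3643, .bwd 8059, .fwd 4068],
   .loop (some (13, 2)) [.bwd 3644, .bwd 8060, .fwd 4069],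
   .loop (some (10, 2)) [.bwd 3645, .bwd 8061, .fwd 4070],
   .loop (some (11, 2)) [.bwd 3646, .bwd 8062, .fwd 4071],
   .loop (some (12, 2)) [.bwd 3647, .bwd 8063, .fwd 4072],
   .loop (some (13, 2)) [.bwd 3648, .bwd 8064, .fwd 4073],
   .loop (some (10, 2)) [.bwd 3649, .bwd 8065, .fwd 4074],
   .loop (some (11, 2)) [.bwd 3650, .bwd 8066, .fwd 4075],
   .loop (some (12, 2)) [.bwd 3651, .bwd 8067, .fwd 4076],
   .loop (some (13, 2)) [.bwd 3652, .bwd 8068, .fwd 4077],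
   .loop (some (10, 2)) [.bwd 3653, .bwd 8069, .fwd 4078],
   .loop (some (7, 0)) [.bwd 6379, .fwd 7591, .bwd 3654],
   .loop (some (11, 2)) [.bwd 3654, .bwd 8070, .fwd 4079],
   .loop (some (3, 2)) [.bwd 3672, .fwd 7545, .fwd 5489],
   .loop (some (14, 0)) [.bwd 4110, .fwd 5094, .bwd 4024, .fwd 3671],
   .loop (some (6, 2)) [.bwd 7545, .bwd 8031, .fwd 8027],
   .loop (some (9, 2)) [.bwd 7546, .fwd 8074, .bwd 7329],
   .loop (some (1, 2)) [.bwd 3672, .fwd 7546, .fwd 3963],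
   .loop (some (12, 2)) [.fwd 7587, .fwd 8074, .bwd 7922],
   .loop (some (20, 3)) [.bwd 4900, .fwd 8022, .bwd 3257, .bwd 287, .bwd 3674, .bwd 3673, .bwd 3672, .bwd 8031, .fwd 8030],
   .loop none [.bwd 8079],
   .loop none [.fwd 4900, .bwd 8080],
   .loop none [.bwd 4901, .bwd 8080],
   .loop (some (6, 1)) [.bwd 5387, .fwd 8073, .fwd 3673],
   .loop (some (8, 1)) [.fwd 3815, .bwd 7940, .fwd 4895],
   .loop (some (9, 1)) [.fwd 3857, .fwd 8024, .bwd 8082],
   .loop (some (10, 1)) [.fwd 5417, .bwd 8083, .bwd 8082],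
   .loop (some (17, 2)) [.fwd 4884, .bwd 3812, .fwd 8041, .fwd 4893, .bwd 3795],
   .loop (some (12, 2)) [.bwd 4893, .bwd 8082, .fwd 3904],
   .loop (some (20, 7)) [.bwd 4306, .bwd 3687, .fwd 285, .fwd 3216, .bwd 7189, .fwd 3626, .fwd 7585, .bwd 8081],
   .loop (some (6, 1)) [.bwd 5319, .fwd 4837, .fwd 4306],
   .loop (some (4, 1)) [.bwd 6365, .bwd 7557, .fwd 3702],
   .loop (some (11, 2)) [.bwd 3702, .bwd 7558, .fwd 3638],
   .loop (some (0, 0)) [.fwd 8052, .fwd 8092],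
   .loop (some (12, 2)) [.bwd 3703, .bwd 8092, .fwd 3639],
   .loop (some (13, 2)) [.bwd 8091, .bwd 8092, .fwd 6361],
   .loop (some (0, 0)) [.fwd 8056, .fwd 8094],
   .loop (some (13, 2)) [.bwd 3704, .bwd 8094, .fwd 3640],
   .loop (some (0, 0)) [.fwd 8057, .fwd 8097],
   .loop (some (10, 2)) [.bwd 3705, .bwd 8097, .fwd 3641],
   .loop (some (0, 0)) [.fwd 8058, .fwd 8099],
   .loop (some (11, 2)) [.bwd 3706, .bwd 8099, .fwd 3642],
   .loop (some (0, 0)) [.fwd 8059, .fwd 8101],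
   .loop (some (12, 2)) [.bwd 3707, .bwd 8101, .fwd 3643],
   .loop (some (0, 0)) [.fwd 8060, .fwd 8103],
   .loop (some (13, 2)) [.bwd 3708, .bwd 8103, .fwd 3644],
   .loop (some (0, 0)) [.fwd 8061, .fwd 8105],
   .loop (some (10, 2)) [.bwd 3709, .bwd 8105, .fwd 3645],
   .loop (some (0, 0)) [.fwd 8062, .fwd 8107],
   .loop (some (11, 2)) [.bwd 3710, .bwd 8107, .fwd 3646],
   .loop (some (0, 0)) [.fwd 8063, .fwd 8109],
   .loop (some (12, 2)) [.bwd 3711, .bwd 8109, .fwd 3647],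
   .loop (some (0, 0)) [.fwd 8064, .fwd 8111],
   .loop (some (13, 2)) [.bwd 3712, .bwd 8111, .fwd 3648],
   .loop (some (0, 0)) [.fwd 8065, .fwd 8113],
   .loop (some (10, 2)) [.bwd 3713, .bwd 8113, .fwd 3649],
   .loop (some (0, 0)) [.fwd 8066, .fwd 8115],
   .loop (some (11, 2)) [.bwd 3714, .bwd 8115, .fwd 3650],
   .loop (some (0, 0)) [.fwd 8067, .fwd 8117],
   .loop (some (12, 2)) [.bwd 3715, .bwd 8117, .fwd 3651],
   .loop (some (0, 0)) [.fwd 8068, .fwd 8119],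
   .loop (some (13, 2)) [.bwd 3716, .bwd 8119, .fwd 3652],
   .loop (some (10, 2)) [.bwd 3717, .bwd 8121, .fwd 3653],
   .loop (some (0, 0)) [.fwd 8070, .fwd 8122],
   .loop (some (7, 0)) [.fwd 5429, .bwd 7280, .bwd 3718],
   .loop (some (11, 2)) [.bwd 3718, .bwd 8122, .fwd 3654],
   .loop (some (0, 0)) [.fwd 8072, .fwd 8125],
   .loop (some (6, 1)) [.bwd 5101, .fwd 3854, .fwd 3732],
   .loop (some (2, 2)) [.bwd 8086, .fwd 3904, .bwd 3854, .fwd 5447],
   .loop none [.fwd 8128],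
   .loop none [.fwd 5447, .bwd 8129],
   .loop none [.bwd 5448, .bwd 8129],
   .loop (some (7, 1)) [.bwd 5165, .fwd 3859, .fwd 3732],
   .loop (some (10, 2)) [.fwd 3854, .bwd 3936, .fwd 8036],
   .loop (some (9, 1)) [.fwd 8078, .fwd 7935, .bwd 7544],
   .loop (some (8, 3)) [.bwd 3732, .bwd 3904, .fwd 8089],
   .loop (some (10, 1)) [.fwd 7547, .bwd 8127, .bwd 7544],
   .loop (some (13, 2)) [.bwd 3860, .bwd 7544, .fwd 5059],
   .loop (some (2, 1)) [.bwd 3827, .bwd 5795, .fwd 3750],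
   .loop (some (11, 2)) [.bwd 6028, .bwd 6048, .fwd 6072],
   .loop (some (11, 2)) [.bwd 3751, .bwd 6220, .bwd 6195],
   .loop (some (3, 0)) [.bwd 6172, .bwd 6120, .fwd 6219],
   .loop (some (0, 0)) [.bwd 6199, .fwd 8140],
   .loop (some (2, 2)) [.bwd 3752, .fwd 8141, .bwd 5580],
   .loop (some (10, 2)) [.bwd 8141, .bwd 8140, .bwd 6132],
   .loop (some (17, 2)) [.bwd 4785, .bwd 530, .fwd 6219, .fwd 3752, .fwd 3753],
   .loop (some (12, 2)) [.bwd 3752, .bwd 8140, .fwd 6196],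
   .loop (some (3, 1)) [.bwd 3754, .bwd 3753, .bwd 8143],
   .loop (some (0, 0)) [.fwd 6201, .fwd 8146],
   .loop (some (10, 2)) [.fwd 8143, .bwd 8146, .bwd 6198],
   .loop (some (13, 2)) [.bwd 3753, .bwd 8146, .fwd 5230],
   .loop (some (2, 1)) [.bwd 6157, .bwd 8145, .fwd 3754],
   .loop (some (10, 2)) [.bwd 3754, .bwd 8150, .fwd 5231],
   .loop (some (4, 1)) [.fwd 5579, .fwd 8147, .fwd 3755],
   .loop (some (11, 2)) [.bwd 3755, .bwd 8152, .fwd 5232],
   .loop (some (13, 1)) [.fwd 8149, .fwd 8147, .bwd 8152],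
   .loop (some (3, 0)) [.fwd 5577, .fwd 5578, .bwd 8153],
   .loop (some (2, 2)) [.bwd 3756, .fwd 8156, .bwd 5576],
   .loop (some (12, 2)) [.bwd 3756, .bwd 8154, .fwd 5233],
   .loop (some (3, 1)) [.bwd 3758, .bwd 3757, .bwd 8157],
   .loop (some (13, 2)) [.bwd 3757, .bwd 8158, .fwd 5234],
   .loop (some (10, 2)) [.bwd 3758, .bwd 8160, .fwd 5235],
   .loop (some (4, 1)) [.fwd 5575, .fwd 8159, .fwd 3759],
   .loop (some (11, 2)) [.bwd 3759, .bwd 8161, .fwd 5236],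
   .loop (some (3, 0)) [.fwd 5573, .fwd 5574, .bwd 8162],
   .loop (some (2, 2)) [.bwd 3760, .fwd 8164, .bwd 5572],
   .loop (some (12, 2)) [.bwd 3760, .bwd 8163, .fwd 5237],
   .loop (some (3, 1)) [.bwd 3762, .bwd 3761, .bwd 8165],
   .loop (some (13, 2)) [.bwd 3761, .bwd 8166, .fwd 5238],
   .loop (some (10, 2)) [.bwd 3762, .bwd 8168, .fwd 5239],
   .loop (some (4, 1)) [.fwd 5571, .fwd 8167, .fwd 3763],
   .loop (some (11, 2)) [.bwd 3763, .bwd 8169, .fwd 5240],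
   .loop (some (3, 0)) [.fwd 5569, .fwd 5570, .bwd 8170],
   .loop (some (12, 2)) [.bwd 3764, .bwd 8171, .fwd 5241],
   .loop (some (4, 0)) [.fwd 1911, .bwd 7248, .bwd 3765],
   .loop (some (0, 0)) [.fwd 7738, .fwd 8173],
   .loop (some (3, 0)) [.bwd 5320, .bwd 8090, .fwd 3963],
   .loop (some (6, 1)) [.bwd 5321, .bwd 8176, .fwd 3790],
   .loop (some (12, 2)) [.fwd 8084, .bwd 4017, .bwd 8135],
   .loop (some (3, 1)) [.bwd 8083, .bwd 8041, .fwd 8177],
   .loop (some (10, 2)) [.bwd 8177, .bwd 3857, .fwd 8027],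
   .loop (some (14, 0)) [.fwd 3816, .fwd 8044, .fwd 8039, .fwd 4110],
   .loop (some (6, 1)) [.bwd 5421, .bwd 7929, .fwd 3794],
   .loop (some (9, 1)) [.fwd 8137, .fwd 7329, .fwd 8181],
   .loop (some (5, 1)) [.bwd 3861, .fwd 7329, .fwd 3794],
   .loop (some (10, 2)) [.bwd 3964, .bwd 8088, .bwd 3854],
   .loop (some (19, 0)) [.fwd 4892, .fwd 4284, .bwd 3256, .fwd 3255, .bwd 3001, .bwd 3891, .bwd 3952, .fwd 3951],
   .loop (some (19, 0)) [.bwd 4892, .bwd 7575, .fwd 7576, .fwd 4919, .fwd 3970, .bwd 3730, .bwd 5188, .fwd 5187],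
   .loop (some (3, 2)) [.fwd 4884, .fwd 4969, .bwd 5391],
   .loop (some (6, 1)) [.fwd 5413, .bwd 4969, .bwd 4896],
   .loop (some (10, 2)) [.bwd 4969, .bwd 8045, .bwd 4899],
   .loop (some (20, 4)) [.fwd 8131, .fwd 8075, .bwd 5801, .fwd 5800, .fwd 5154, .bwd 341, .fwd 4844, .fwd 5319],
   .loop (some (8, 1)) [.bwd 5319, .bwd 5358, .fwd 5155],
   .loop (some (12, 0)) [.fwd 3297, .fwd 7648, .fwd 5100],
   .loop (some (0, 1)) [.fwd 8133, .fwd 8185],
   .loop (some (5, 1)) [.bwd 5681, .fwd 6540, .fwd 5101],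
   .loop (some (8, 0)) [.bwd 5477, .fwd 5416, .fwd 8130],
   .loop (some (18, 1)) [.fwd 8075, .bwd 5801, .fwd 5800, .fwd 5155, .bwd 5101, .fwd 8196],
   .loop (some (4, 1)) [.fwd 3932, .bwd 8030, .fwd 8028],
   .loop (some (7, 2)) [.bwd 8028, .bwd 3856, .fwd 3895],
   .loop (some (10, 2)) [.bwd 8027, .fwd 8032, .bwd 7200],
   .loop (some (16, 3)) [.fwd 4955, .bwd 8028, .fwd 8027, .bwd 5476, .bwd 5475],
   .loop (some (5, 1)) [.bwd 4244, .bwd 7607, .fwd 5165],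
   .loop (some (10, 2)) [.bwd 7328, .bwd 8137, .fwd 8189],
   .loop (some (6, 1)) [.bwd 5534, .fwd 8188, .fwd 3862],
   .loop (some (2, 1)) [.bwd 8182, .fwd 8087, .bwd 8188],
   .loop (some (10, 3)) [.fwd 8188, .fwd 7920, .bwd 4888, .fwd 5432],
   .loop none [.fwd 8206],
   .loop none [.bwd 5433, .bwd 8207],
   .loop none [.fwd 5432, .bwd 8207],
   .loop (some (2, 1)) [.bwd 7929, .bwd 7922, .fwd 8204],
   .loop (some (10, 2)) [.bwd 8204, .bwd 8042, .bwd 8073],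
   .loop (some (6, 2)) [.bwd 4921, .fwd 8022, .bwd 4899],
   .loop (some (7, 2)) [.bwd 4923, .fwd 8022, .bwd 4902],
   .loop (some (8, 3)) [.bwd 5424, .fwd 5404, .bwd 7745, .fwd 6544],
   .loop none [.bwd 8214],
   .loop none [.bwd 5425, .bwd 8215],
   .loop none [.fwd 5424, .bwd 8215],
   .loop (some (7, 2)) [.bwd 8216, .bwd 6544, .fwd 7744],
   .loop (some (7, 2)) [.fwd 3932, .fwd 8081, .fwd 4923],
   .loop (some (3, 0)) [.fwd 4955, .fwd 8198, .bwd 3931, .bwd 3930],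
   .loop none [.bwd 8220],
   .loop none [.bwd 4955, .bwd 8221],
   .loop none [.fwd 8201, .bwd 8221],
   .loop none [.bwd 3930, .fwd 8221, .bwd 4954],
   .loop none [.fwd 8224],
   .loop none [.fwd 4953, .bwd 8225],
   .loop (some (4, 2)) [.bwd 3930, .fwd 8223, .bwd 5474],
   .loop (some (5, 3)) [.bwd 8219, .fwd 7606, .fwd 8199],
   .loop (some (10, 2)) [.bwd 8090, .bwd 8076, .fwd 7328],
   .loop (some (10, 2)) [.bwd 8136, .bwd 8021, .fwd 8176],
   .loop (some (10, 2)) [.fwd 6503, .bwd 6505, .fwd 6439],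
   .loop (some (4, 1)) [.fwd 4195, .bwd 7735, .fwd 4063],
   .loop (some (3, 0)) [.fwd 4193, .fwd 4194, .bwd 8232],
   .loop (some (2, 2)) [.bwd 4064, .fwd 8233, .bwd 4192],
   .loop (some (13, 2)) [.bwd 8232, .bwd 8093, .fwd 8091],
   .loop (some (3, 1)) [.bwd 4066, .bwd 4065, .bwd 8234],
   .loop (some (4, 1)) [.fwd 4191, .fwd 8236, .fwd 4067],
   .loop (some (3, 0)) [.fwd 4189, .fwd 4190, .bwd 8237],
   .loop (some (2, 2)) [.bwd 4068, .fwd 8238, .bwd 4188],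
   .loop (some (3, 1)) [.bwd 4070, .bwd 4069, .bwd 8239],
   .loop (some (4, 1)) [.fwd 4187, .fwd 8240, .fwd 4071],
   .loop (some (3, 0)) [.fwd 4185, .fwd 4186, .bwd 8241],
   .loop (some (2, 2)) [.bwd 4072, .fwd 8242, .bwd 4184],
   .loop (some (3, 1)) [.bwd 4074, .bwd 4073, .bwd 8243],
   .loop (some (4, 1)) [.fwd 4183, .fwd 8244, .fwd 4075],
   .loop (some (3, 0)) [.fwd 4181, .fwd 4182, .bwd 8245],
   .loop (some (2, 2)) [.bwd 4076, .fwd 8246, .bwd 4180],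
   .loop (some (3, 1)) [.bwd 4078, .bwd 4077, .bwd 8247],
   .loop (some (4, 1)) [.fwd 4179, .fwd 8248, .fwd 4079]]

theorem just32_len : just32.length = 250 := by decide +kernel

theorem just32_ok : cert.okFacts 8000 just32 = true := by decide +kernel

/-- justifications -/
noncomputable def just33 : List Cert.Just :=
  [.loop (some (3, 0)) [.fwd 4177, .fwd 4178, .bwd 8249],
   .loop (some (17, 4)) [.bwd 8249, .fwd 4080, .bwd 5283, .fwd 376, .fwd 479],
   .loop (some (13, 2)) [.bwd 8249, .bwd 8126, .fwd 7279],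
   .loop (some (11, 2)) [.bwd 4125, .bwd 7950, .fwd 3280],
   .loop (some (0, 0)) [.fwd 7951, .fwd 8253],
   .loop (some (12, 2)) [.bwd 4126, .bwd 8253, .fwd 3281],
   .loop (some (13, 3)) [.bwd 8253, .fwd 7949, .fwd 4770],
   .loop (some (0, 0)) [.fwd 7954, .fwd 8255],
   .loop (some (13, 2)) [.bwd 4127, .bwd 8255, .fwd 3282],
   .loop (some (0, 0)) [.fwd 7961, .fwd 8258],
   .loop (some (10, 2)) [.bwd 4128, .bwd 8258, .fwd 3283],
   .loop (some (0, 0)) [.fwd 7962, .fwd 8260],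
   .loop (some (11, 2)) [.bwd 4129, .bwd 8260, .fwd 3284],
   .loop (some (0, 0)) [.fwd 7963, .fwd 8262],
   .loop (some (12, 2)) [.bwd 4130, .bwd 8262, .fwd 3285],
   .loop (some (0, 0)) [.fwd 7964, .fwd 8264],
   .loop (some (13, 2)) [.bwd 4131, .bwd 8264, .fwd 3286],
   .loop (some (0, 0)) [.fwd 7965, .fwd 8266],
   .loop (some (10, 2)) [.bwd 4132, .bwd 8266, .fwd 3287],
   .loop (some (0, 0)) [.fwd 7966, .fwd 8268],
   .loop (some (11, 2)) [.bwd 4133, .bwd 8268, .fwd 3288],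
   .loop (some (0, 0)) [.fwd 7967, .fwd 8270],
   .loop (some (12, 2)) [.bwd 4134, .bwd 8270, .fwd 3289],
   .loop (some (0, 0)) [.fwd 7968, .fwd 8272],
   .loop (some (13, 2)) [.bwd 4135, .bwd 8272, .fwd 3290],
   .loop (some (0, 0)) [.fwd 7969, .fwd 8274],
   .loop (some (10, 2)) [.bwd 4136, .bwd 8274, .fwd 3291],
   .loop (some (11, 2)) [.bwd 4137, .bwd 8276, .fwd 3292],
   .loop (some (0, 0)) [.fwd 7971, .fwd 8277],
   .loop (some (12, 2)) [.bwd 4138, .bwd 8277, .fwd 3293],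
   .loop (some (0, 0)) [.fwd 7972, .fwd 8279],
   .loop (some (13, 2)) [.bwd 4139, .bwd 8279, .fwd 3294],
   .loop (some (0, 0)) [.fwd 7975, .fwd 8281],
   .loop (some (10, 2)) [.bwd 4140, .bwd 8281, .fwd 3295],
   .loop (some (0, 0)) [.fwd 7976, .fwd 8283],
   .loop (some (14, 0)) [.bwd 5534, .fwd 8208, .bwd 8212, .fwd 4155],
   .loop (some (17, 2)) [.bwd 517, .bwd 600, .bwd 7926, .fwd 4176, .fwd 4177],
   .loop (some (10, 0)) [.bwd 4980, .fwd 8252, .bwd 4178],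
   .loop (some (12, 1)) [.fwd 6131, .bwd 8286, .fwd 8287],
   .loop (some (14, 5)) [.bwd 8235, .fwd 4777, .fwd 8095, .bwd 4776, .bwd 4781],
   .loop none [.fwd 8289],
   .loop none [.bwd 4781, .bwd 8290],
   .loop none [.fwd 4780, .bwd 8290],
   .loop (some (19, 0)) [.bwd 6215, .fwd 6177, .fwd 6077, .fwd 7639, .bwd 6492, .fwd 6409, .bwd 6493, .bwd 4195],
   .loop (some (9, 2)) [.bwd 8293, .bwd 8235, .bwd 6210],
   .loop (some (0, 0)) [.fwd 8095, .fwd 8235],
   .loop (some (5, 1)) [.fwd 4437, .bwd 8293, .fwd 8292],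
   .loop (some (7, 1)) [.bwd 6495, .bwd 4195, .fwd 8292],
   .loop (some (5, 3)) [.fwd 4794, .bwd 4467, .fwd 4453],
   .loop (some (19, 4)) [.bwd 5296, .bwd 7355, .bwd 5875, .fwd 7407, .fwd 7946, .fwd 5875, .fwd 7355, .fwd 5296],
   .loop (some (11, 2)) [.bwd 4329, .bwd 8284, .bwd 7176],
   .loop (some (6, 1)) [.bwd 4786, .fwd 6157, .fwd 4368],
   .loop (some (0, 2)) [.fwd 4395, .fwd 6164],
   .loop (some (6, 3)) [.fwd 4396, .bwd 6064, .bwd 4420],
   .loop (some (6, 1)) [.bwd 4424, .bwd 8048, .fwd 4399],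
   .loop (some (2, 3)) [.fwd 8304, .fwd 6216, .fwd 5029],
   .loop (some (17, 1)) [.fwd 5144, .bwd 6152, .fwd 6126, .bwd 4400, .bwd 8305],
   .loop (some (14, 2)) [.bwd 4402, .bwd 4401, .bwd 6164, .fwd 4412],
   .loop (some (6, 1)) [.fwd 4438, .bwd 6214, .bwd 4413],
   .loop (some (0, 0)) [.fwd 8307, .fwd 6128],
   .loop (some (5, 3)) [.bwd 4418, .bwd 4473, .fwd 4769],
   .loop (some (7, 3)) [.fwd 4420, .bwd 6236, .bwd 4455],
   .loop (some (5, 1)) [.bwd 4774, .bwd 8050, .fwd 4424],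
   .loop (some (7, 1)) [.bwd 4459, .bwd 8051, .fwd 4424],
   .loop (some (4, 2)) [.bwd 4425, .fwd 8313, .fwd 4460],
   .loop (some (14, 2)) [.bwd 4427, .bwd 4426, .bwd 6217, .fwd 4437],
   .loop (some (7, 1)) [.fwd 4507, .fwd 8314, .bwd 4438],
   .loop (some (11, 2)) [.fwd 8314, .bwd 6217, .bwd 8311],
   .loop (some (11, 2)) [.bwd 6211, .bwd 6190, .fwd 4435],
   .loop (some (14, 2)) [.bwd 4769, .bwd 4485, .bwd 8295, .fwd 8291],
   .loop (some (6, 1)) [.fwd 4749, .fwd 4750, .bwd 4777],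
   .loop (some (10, 2)) [.fwd 4750, .bwd 8295, .bwd 4194],
   .loop (some (3, 2)) [.bwd 4772, .fwd 4463, .fwd 4744],
   .loop (some (6, 1)) [.fwd 4730, .bwd 4463, .bwd 4462],
   .loop (some (2, 2)) [.fwd 4570, .fwd 4463, .bwd 4697],
   .loop (some (11, 0)) [.bwd 8316, .fwd 8315, .fwd 4435],
   .loop (some (11, 2)) [.bwd 8316, .bwd 8294, .fwd 6211],
   .loop (some (14, 0)) [.fwd 4461, .fwd 8326, .bwd 4506, .fwd 4455],
   .loop (some (9, 1)) [.fwd 7947, .bwd 8298, .fwd 8327],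
   .loop (some (8, 1)) [.fwd 4567, .bwd 4505, .bwd 4455],
   .loop (some (12, 1)) [.bwd 6351, .bwd 4505, .fwd 8327],
   .loop (some (6, 3)) [.fwd 4455, .bwd 6353, .bwd 4705],
   .loop (some (19, 0)) [.fwd 6345, .fwd 5856, .fwd 7292, .fwd 6235, .bwd 6094, .fwd 6102, .bwd 6205, .bwd 8311],
   .loop (some (2, 1)) [.bwd 6350, .bwd 8329, .bwd 8331],
   .loop (some (8, 1)) [.fwd 4566, .bwd 8329, .fwd 4506],
   .loop (some (6, 1)) [.bwd 4727, .bwd 8054, .fwd 4459],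
   .loop (some (5, 1)) [.fwd 7597, .bwd 8055, .fwd 4459],
   .loop (some (3, 2)) [.bwd 4460, .fwd 8335, .fwd 4728],
   .loop (some (6, 1)) [.fwd 4738, .fwd 8337, .bwd 4507],
   .loop (some (5, 1)) [.fwd 6494, .bwd 8328, .bwd 4507],
   .loop (some (8, 1)) [.fwd 4572, .bwd 8330, .fwd 4461],
   .loop (some (10, 2)) [.fwd 8337, .bwd 8317, .bwd 8331],
   .loop (some (10, 0)) [.bwd 8338, .bwd 8325, .fwd 4463],
   .loop (some (10, 2)) [.bwd 8338, .bwd 8326, .fwd 8323],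
   .loop (some (14, 0)) [.fwd 4566, .fwd 6352, .bwd 4572, .fwd 4561],
   .loop (some (6, 3)) [.fwd 4561, .bwd 8324, .bwd 4684],
   .loop (some (2, 1)) [.bwd 8323, .fwd 8340, .bwd 8345],
   .loop (some (6, 1)) [.bwd 4686, .fwd 6274, .fwd 4563],
   .loop (some (6, 1)) [.bwd 4687, .bwd 8347, .fwd 4564],
   .loop (some (3, 2)) [.bwd 4565, .fwd 8348, .fwd 4688],
   .loop (some (6, 1)) [.fwd 4699, .fwd 8349, .bwd 4573],
   .loop (some (2, 1)) [.bwd 8338, .fwd 8334, .bwd 8349],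
   .loop (some (10, 2)) [.fwd 8349, .bwd 6333, .bwd 8345],
   .loop (some (4, 2)) [.bwd 4623, .bwd 4655, .fwd 4685],
   .loop (some (7, 1)) [.fwd 4628, .fwd 4655, .bwd 4690],
   .loop (some (10, 0)) [.bwd 8350, .bwd 6351, .fwd 4568],
   .loop (some (2, 1)) [.fwd 8337, .fwd 8330, .fwd 8350],
   .loop (some (10, 2)) [.bwd 8350, .bwd 6352, .fwd 6350],
   .loop (some (14, 0)) [.fwd 4608, .fwd 6277, .bwd 4617, .fwd 4603],
   .loop (some (6, 3)) [.fwd 4603, .bwd 6225, .bwd 4622],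
   .loop (some (6, 1)) [.bwd 4624, .fwd 6349, .fwd 4605],
   .loop (some (6, 1)) [.bwd 4625, .bwd 8360, .fwd 4606],
   .loop (some (3, 2)) [.bwd 4607, .fwd 8361, .fwd 4626],
   .loop (some (6, 1)) [.fwd 4657, .fwd 8362, .bwd 4618],
   .loop (some (10, 2)) [.fwd 8362, .bwd 6262, .bwd 8359],
   .loop (some (10, 2)) [.bwd 6275, .bwd 6271, .fwd 4610],
   .loop (some (10, 0)) [.bwd 8363, .bwd 6276, .fwd 4610],
   .loop (some (11, 1)) [.bwd 8355, .bwd 4655, .fwd 8366],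
   .loop (some (10, 2)) [.bwd 8363, .bwd 6277, .fwd 6275],
   .loop (some (14, 0)) [.fwd 4627, .fwd 8368, .bwd 4656, .fwd 4622],
   .loop (some (7, 3)) [.bwd 4620, .fwd 261, .fwd 4682],
   .loop (some (7, 1)) [.bwd 4686, .fwd 8353, .fwd 4624],
   .loop (some (7, 1)) [.bwd 4687, .bwd 8371, .fwd 4625],
   .loop (some (4, 2)) [.bwd 4626, .fwd 8372, .fwd 4688],
   .loop (some (14, 0)) [.fwd 4689, .fwd 8357, .bwd 4698, .fwd 4684],
   .loop (some (13, 2)) [.bwd 4725, .bwd 8321, .bwd 4193],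
   .loop (some (14, 2)) [.bwd 4768, .bwd 4767, .bwd 4742, .bwd 4743],
   .loop (some (6, 3)) [.fwd 4743, .fwd 6207, .bwd 4771],
   .loop (some (6, 1)) [.bwd 4773, .bwd 8322, .fwd 4745],
   .loop (some (6, 1)) [.bwd 4774, .bwd 8378, .fwd 4746],
   .loop (some (3, 2)) [.bwd 4747, .fwd 8379, .fwd 4775],
   .loop (some (14, 2)) [.fwd 8321, .bwd 4749, .bwd 4748, .bwd 8376, .fwd 4767],
   .loop none [.fwd 8381],
   .loop none [.bwd 4768, .bwd 8382],
   .loop (some (11, 1)) [.fwd 7947, .bwd 6146, .bwd 8319],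
   .loop (some (13, 2)) [.fwd 7951, .fwd 7949, .bwd 8319, .bwd 4775],
   .loop none [.fwd 8385],
   .loop none [.fwd 8312, .bwd 8386],
   .loop none [.fwd 8379, .bwd 8386],
   .loop none [.bwd 4775, .bwd 8386],
   .loop none [.fwd 4774, .bwd 8386],
   .loop (some (7, 1)) [.bwd 4786, .bwd 6208, .fwd 4773],
   .loop (some (3, 1)) [.bwd 4813, .bwd 4812, .bwd 6222],
   .loop (some (13, 2)) [.bwd 4812, .bwd 6223, .fwd 5028],
   .loop (some (10, 2)) [.bwd 4813, .bwd 8393, .fwd 5029],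
   .loop (some (4, 1)) [.fwd 5613, .fwd 8392, .fwd 4814],
   .loop (some (11, 2)) [.bwd 4814, .bwd 8394, .fwd 5030],
   .loop (some (13, 2)) [.fwd 8392, .bwd 8394, .fwd 8306],
   .loop (some (3, 0)) [.fwd 5611, .fwd 5612, .bwd 8395],
   .loop (some (2, 2)) [.bwd 4815, .fwd 8398, .bwd 5610],
   .loop (some (12, 2)) [.bwd 4815, .bwd 8396, .fwd 5031],
   .loop (some (3, 1)) [.bwd 4817, .bwd 4816, .bwd 8399],
   .loop (some (13, 2)) [.bwd 4816, .bwd 8400, .fwd 5032],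
   .loop (some (10, 2)) [.bwd 4817, .bwd 8402, .fwd 5033],
   .loop (some (4, 1)) [.fwd 5609, .fwd 8401, .fwd 4818],
   .loop (some (11, 2)) [.bwd 4818, .bwd 8403, .fwd 5034],
   .loop (some (3, 0)) [.fwd 5607, .fwd 5608, .bwd 8404],
   .loop (some (2, 2)) [.bwd 4819, .fwd 8406, .bwd 5606],
   .loop (some (12, 2)) [.bwd 4819, .bwd 8405, .fwd 5035],
   .loop (some (3, 1)) [.bwd 4821, .bwd 4820, .bwd 8407],
   .loop (some (13, 2)) [.bwd 4820, .bwd 8408, .fwd 5036],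
   .loop (some (10, 2)) [.bwd 4821, .bwd 8410, .fwd 5037],
   .loop (some (4, 1)) [.fwd 5605, .fwd 8409, .fwd 4822],
   .loop (some (11, 2)) [.bwd 4822, .bwd 8411, .fwd 5038],
   .loop (some (3, 0)) [.fwd 5603, .fwd 5604, .bwd 8412],
   .loop (some (2, 2)) [.bwd 4823, .fwd 8414, .bwd 5602],
   .loop (some (12, 2)) [.bwd 4823, .bwd 8413, .fwd 5039],
   .loop (some (4, 0)) [.fwd 2021, .fwd 7551, .bwd 4824],
   .loop (some (13, 2)) [.bwd 4824, .bwd 8416, .fwd 5040],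
   .loop (some (0, 1)) [.fwd 7550, .fwd 7731],
   .loop (some (12, 2)) [.bwd 4859, .bwd 6206, .fwd 6100],
   .loop (some (0, 0)) [.fwd 6223, .fwd 8420],
   .loop (some (13, 2)) [.bwd 4860, .bwd 8420, .fwd 4812],
   .loop (some (0, 0)) [.fwd 8393, .fwd 8422],
   .loop (some (10, 2)) [.bwd 4861, .bwd 8422, .fwd 4813],
   .loop (some (0, 0)) [.fwd 8394, .fwd 8424],
   .loop (some (11, 2)) [.bwd 4862, .bwd 8424, .fwd 4814],
   .loop (some (0, 0)) [.fwd 8396, .fwd 8426],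
   .loop (some (12, 2)) [.bwd 4863, .bwd 8426, .fwd 4815],
   .loop (some (0, 0)) [.fwd 8400, .fwd 8428],
   .loop (some (13, 2)) [.bwd 4864, .bwd 8428, .fwd 4816],
   .loop (some (10, 2)) [.bwd 4865, .bwd 8430, .fwd 4817],
   .loop (some (11, 2)) [.bwd 4866, .bwd 8431, .fwd 4818],
   .loop (some (0, 0)) [.fwd 8405, .fwd 8432],
   .loop (some (12, 2)) [.bwd 4867, .bwd 8432, .fwd 4819],
   .loop (some (0, 0)) [.fwd 8408, .fwd 8434],
   .loop (some (13, 2)) [.bwd 4868, .bwd 8434, .fwd 4820],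
   .loop (some (10, 2)) [.bwd 4869, .bwd 8436, .fwd 4821],
   .loop (some (11, 2)) [.bwd 4870, .bwd 8437, .fwd 4822],
   .loop (some (0, 0)) [.fwd 8413, .fwd 8438],
   .loop (some (12, 2)) [.bwd 4871, .bwd 8438, .fwd 4823],
   .loop (some (4, 0)) [.fwd 1980, .fwd 7732, .bwd 4872],
   .loop (some (13, 2)) [.bwd 4872, .bwd 8440, .fwd 4824],
   .loop (some (0, 0)) [.fwd 8418, .fwd 8442],
   .loop (some (19, 0)) [.bwd 7398, .fwd 7397, .bwd 4153, .fwd 4152, .bwd 4028, .bwd 6481, .fwd 6482, .fwd 7644],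
   .loop (some (7, 2)) [.fwd 7678, .bwd 7793, .bwd 7457],
   .loop (some (2, 1)) [.bwd 8176, .bwd 8084, .fwd 8189],
   .loop (some (10, 2)) [.bwd 8189, .bwd 8178, .fwd 8090],
   .loop (some (5, 2)) [.bwd 5430, .bwd 8212, .bwd 5435],
   .loop (some (7, 2)) [.bwd 5445, .bwd 8212, .bwd 5419],
   .loop (some (7, 2)) [.fwd 5429, .bwd 5891, .bwd 7397],
   .loop (some (9, 2)) [.bwd 5502, .bwd 8190, .bwd 5435],
   .loop (some (11, 2)) [.bwd 5504, .bwd 8190, .bwd 5419],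
   .loop (some (8, 0)) [.bwd 5070, .bwd 6226, .bwd 8288],
   .loop (some (3, 0)) [.bwd 6152, .fwd 6137, .bwd 6212],
   .loop (some (2, 2)) [.bwd 5027, .fwd 8454, .bwd 5144],
   .loop (some (4, 1)) [.fwd 5143, .bwd 8306, .fwd 5030],
   .loop (some (3, 0)) [.fwd 5141, .fwd 5142, .bwd 8456],
   .loop (some (2, 2)) [.bwd 5031, .fwd 8457, .bwd 5140],
   .loop (some (3, 1)) [.bwd 5033, .bwd 5032, .bwd 8458],
   .loop (some (4, 1)) [.fwd 5139, .fwd 8459, .fwd 5034],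
   .loop (some (3, 0)) [.fwd 5137, .fwd 5138, .bwd 8460],
   .loop (some (2, 2)) [.bwd 5035, .fwd 8461, .bwd 5136],
   .loop (some (3, 1)) [.bwd 5037, .bwd 5036, .bwd 8462],
   .loop (some (4, 1)) [.fwd 5135, .fwd 8463, .fwd 5038],
   .loop (some (3, 0)) [.fwd 5133, .fwd 5134, .bwd 8464],
   .loop (some (14, 2)) [.fwd 5255, .fwd 5256, .bwd 5621, .bwd 5322],
   .loop (some (3, 0)) [.bwd 6188, .bwd 6124, .bwd 6202],
   .loop (some (2, 2)) [.bwd 5070, .fwd 8467, .bwd 5308],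
   .loop (some (10, 2)) [.bwd 8467, .bwd 8142, .fwd 8141],
   .loop (some (3, 1)) [.bwd 5072, .bwd 5071, .bwd 8468],
   .loop (some (6, 2)) [.fwd 8468, .bwd 8453, .bwd 4980],
   .loop (some (10, 2)) [.fwd 8468, .bwd 8148, .bwd 8143],
   .loop (some (13, 2)) [.bwd 5071, .bwd 8148, .fwd 3753],
   .loop (some (10, 2)) [.bwd 5072, .bwd 8473, .fwd 3754],
   .loop (some (4, 1)) [.fwd 5307, .fwd 8470, .fwd 5073],
   .loop (some (0, 0)) [.fwd 8152, .fwd 8474],
   .loop (some (11, 2)) [.bwd 5073, .bwd 8474, .fwd 3755],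
   .loop (some (3, 0)) [.fwd 5305, .fwd 5306, .bwd 8475],
   .loop (some (0, 0)) [.fwd 8154, .fwd 8477],
   .loop (some (2, 2)) [.bwd 5074, .fwd 8478, .bwd 5304],
   .loop (some (10, 2)) [.bwd 8478, .bwd 8477, .fwd 8156],
   .loop (some (12, 2)) [.bwd 5074, .bwd 8477, .fwd 3756],
   .loop (some (13, 2)) [.bwd 8475, .bwd 8477, .fwd 8153],
   .loop (some (3, 1)) [.bwd 5076, .bwd 5075, .bwd 8480],
   .loop (some (0, 0)) [.fwd 8158, .fwd 8482],
   .loop (some (10, 2)) [.fwd 8480, .bwd 8482, .bwd 8157],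
   .loop (some (13, 2)) [.bwd 5075, .bwd 8482, .fwd 3757],
   .loop (some (0, 0)) [.fwd 8160, .fwd 8487],
   .loop (some (10, 2)) [.bwd 5076, .bwd 8487, .fwd 3758],
   .loop (some (4, 1)) [.fwd 5303, .fwd 8484, .fwd 5077],
   .loop (some (11, 2)) [.bwd 5077, .bwd 8489, .fwd 3759],
   .loop (some (3, 0)) [.fwd 5301, .fwd 5302, .bwd 8490],
   .loop (some (0, 0)) [.fwd 8163, .fwd 8491],
   .loop (some (2, 2)) [.bwd 5078, .fwd 8492, .bwd 5300],
   .loop (some (10, 2)) [.bwd 8492, .bwd 8491, .fwd 8164],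
   .loop (some (12, 2)) [.bwd 5078, .bwd 8491, .fwd 3760],
   .loop (some (13, 2)) [.bwd 8490, .bwd 8491, .fwd 8162],
   .loop (some (3, 1)) [.bwd 5080, .bwd 5079, .bwd 8494],
   .loop (some (0, 0)) [.fwd 8166, .fwd 8496]]

theorem just33_len : just33.length = 250 := by decide +kernel

theorem just33_ok : cert.okFacts 8250 just33 = true := by decide +kernel

/-- justifications -/
noncomputable def just34 : List Cert.Just :=
  [.loop (some (10, 2)) [.fwd 8494, .bwd 8496, .bwd 8165],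
   .loop (some (13, 2)) [.bwd 5079, .bwd 8496, .fwd 3761],
   .loop (some (0, 0)) [.fwd 8168, .fwd 8501],
   .loop (some (10, 2)) [.bwd 5080, .bwd 8501, .fwd 3762],
   .loop (some (4, 1)) [.fwd 5299, .fwd 8498, .fwd 5081],
   .loop (some (0, 0)) [.fwd 8169, .fwd 8503],
   .loop (some (11, 2)) [.bwd 5081, .bwd 8503, .fwd 3763],
   .loop (some (3, 0)) [.fwd 5297, .fwd 5298, .bwd 8504],
   .loop (some (0, 0)) [.fwd 8171, .fwd 8506],
   .loop (some (10, 2)) [.bwd 8507, .bwd 8506, .fwd 8172],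
   .loop (some (16, 5)) [.fwd 5081, .fwd 8507, .bwd 8299, .bwd 8507, .bwd 5081, .bwd 5080],
   .loop none [.bwd 8510],
   .loop none [.fwd 5079, .fwd 8511, .bwd 8498],
   .loop none [.fwd 8512],
   .loop none [.bwd 8502, .fwd 8511, .fwd 8505],
   .loop none [.fwd 8514],
   .loop none [.fwd 8501, .fwd 8511, .bwd 8503],
   .loop none [.fwd 8516],
   .loop none [.bwd 8494, .bwd 8513],
   .loop none [.fwd 5299, .bwd 8513],
   .loop none [.fwd 5078, .fwd 8513, .fwd 5300],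
   .loop none [.fwd 8520],
   .loop none [.fwd 8496, .fwd 8513, .bwd 8500],
   .loop none [.fwd 8522],
   .loop none [.fwd 5239, .bwd 8515],
   .loop none [.bwd 5240, .bwd 8515],
   .loop none [.fwd 3762, .bwd 8517],
   .loop none [.bwd 3763, .bwd 8517],
   .loop none [.fwd 8492, .bwd 8521],
   .loop none [.bwd 8490, .fwd 8521, .fwd 5301],
   .loop none [.bwd 8529],
   .loop none [.fwd 8491, .fwd 8521, .bwd 8495],
   .loop none [.fwd 8531],
   .loop none [.bwd 8165, .bwd 8523],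
   .loop none [.fwd 5302, .bwd 8530],
   .loop none [.bwd 5303, .bwd 8530],
   .loop none [.fwd 8490, .bwd 8530],
   .loop none [.fwd 8497, .bwd 8530],
   .loop none [.bwd 8162, .fwd 8532, .fwd 5573],
   .loop none [.bwd 8538],
   .loop none [.fwd 5574, .bwd 8539],
   .loop none [.bwd 5575, .bwd 8539],
   .loop none [.fwd 8162, .bwd 8539],
   .loop none [.fwd 8537, .bwd 8539],
   .loop (some (13, 2)) [.bwd 8504, .bwd 8506, .fwd 8170],
   .loop (some (8, 2)) [.bwd 7398, .fwd 8450, .bwd 5428],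
   .loop (some (14, 0)) [.bwd 7132, .bwd 7156, .fwd 7155, .fwd 7125],
   .loop (some (10, 2)) [.fwd 6198, .bwd 6201, .bwd 8468],
   .loop (some (4, 1)) [.fwd 5375, .bwd 8155, .fwd 5232],
   .loop (some (3, 0)) [.fwd 5373, .fwd 5374, .bwd 8548],
   .loop (some (2, 2)) [.bwd 5233, .fwd 8549, .bwd 5372],
   .loop (some (10, 2)) [.bwd 8549, .bwd 8479, .fwd 8478],
   .loop (some (13, 2)) [.bwd 8548, .bwd 8479, .fwd 8475],
   .loop (some (3, 1)) [.bwd 5235, .bwd 5234, .bwd 8550],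
   .loop (some (10, 2)) [.fwd 8550, .bwd 8485, .bwd 8480],
   .loop (some (4, 1)) [.fwd 5371, .fwd 8553, .fwd 5236],
   .loop (some (3, 0)) [.fwd 5369, .fwd 5370, .bwd 8555],
   .loop (some (10, 4)) [.bwd 8493, .bwd 8528, .fwd 8493, .fwd 8556],
   .loop none [.fwd 8557],
   .loop none [.bwd 5237, .fwd 8558, .bwd 5368],
   .loop none [.fwd 8559],
   .loop none [.bwd 8555, .fwd 8558, .fwd 5369],
   .loop none [.bwd 8561],
   .loop none [.fwd 5367, .bwd 8560],
   .loop none [.fwd 5370, .bwd 8562],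
   .loop none [.bwd 5371, .bwd 8562],
   .loop none [.fwd 8555, .bwd 8562],
   .loop (some (13, 2)) [.fwd 8566, .bwd 8493, .bwd 8536],
   .loop (some (4, 1)) [.bwd 8525, .bwd 5238, .fwd 8563],
   .loop (some (11, 2)) [.bwd 8563, .bwd 8499, .fwd 8519],
   .loop (some (3, 0)) [.fwd 5365, .fwd 5366, .fwd 8568],
   .loop (some (10, 2)) [.bwd 8570, .bwd 8508, .fwd 8507],
   .loop (some (16, 1)) [.bwd 8570, .bwd 8525, .fwd 8524, .fwd 8525, .fwd 8570],
   .loop (some (14, 0)) [.bwd 5387, .fwd 8211, .fwd 5535, .fwd 5253],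
   .loop (some (14, 0)) [.bwd 7102, .fwd 7117, .bwd 5647, .bwd 5643],
   .loop (some (8, 1)) [.bwd 5325, .fwd 7131, .fwd 5276, .fwd 5643],
   .loop none [.fwd 8575],
   .loop none [.bwd 7109, .bwd 8576],
   .loop none [.fwd 5645, .bwd 8576],
   .loop (some (11, 1)) [.fwd 5539, .fwd 6117, .bwd 5260, .fwd 8574],
   .loop none [.fwd 8579],
   .loop none [.bwd 7112, .bwd 8580],
   .loop none [.fwd 5637, .bwd 8580],
   .loop none [.fwd 8574, .bwd 8580],
   .loop (some (0, 1)) [.fwd 8509, .fwd 8571],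
   .loop (some (0, 1)) [.fwd 8544, .fwd 8569],
   .loop (some (0, 1)) [.fwd 8543, .fwd 8567],
   .loop (some (16, 3)) [.bwd 8480, .bwd 8535, .bwd 8534, .fwd 8535, .fwd 8480],
   .loop (some (0, 1)) [.fwd 8486, .fwd 8554],
   .loop (some (0, 1)) [.fwd 8481, .fwd 8551],
   .loop (some (13, 2)) [.bwd 5305, .bwd 8481, .fwd 5577],
   .loop (some (0, 1)) [.fwd 8483, .fwd 8552],
   .loop (some (0, 0)) [.fwd 8144, .fwd 8469],
   .loop (some (8, 0)) [.bwd 5899, .fwd 8471, .fwd 5308],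
   .loop (some (16, 3)) [.bwd 8550, .bwd 8565, .bwd 8564, .fwd 8565, .fwd 8550],
   .loop (some (13, 2)) [.bwd 5373, .bwd 8551, .fwd 5305],
   .loop (some (0, 0)) [.fwd 8590, .fwd 8595],
   .loop (some (8, 2)) [.bwd 5394, .fwd 8218, .fwd 5426],
   .loop (some (19, 0)) [.bwd 6482, .fwd 6481, .fwd 4028, .bwd 4152, .fwd 4153, .bwd 7397, .fwd 7398, .bwd 5395],
   .loop (some (5, 1)) [.fwd 6498, .bwd 8598, .bwd 8597],
   .loop (some (8, 2)) [.fwd 5428, .bwd 8124, .fwd 7281],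
   .loop (some (5, 0)) [.bwd 6475, .bwd 657, .bwd 6450],
   .loop (some (8, 0)) [.bwd 5426, .bwd 8601, .fwd 5492],
   .loop (some (17, 2)) [.bwd 3527, .bwd 6043, .bwd 7154, .fwd 5538, .fwd 8582],
   .loop (some (4, 2)) [.bwd 8582, .fwd 5539, .fwd 7081],
   .loop (some (16, 3)) [.bwd 8157, .bwd 8541, .bwd 8540, .fwd 8541, .fwd 8157],
   .loop (some (12, 2)) [.bwd 5602, .bwd 7555, .fwd 5132],
   .loop (some (13, 2)) [.bwd 5603, .bwd 8606, .fwd 5133],
   .loop (some (10, 2)) [.bwd 5604, .bwd 8607, .fwd 5134],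
   .loop (some (11, 2)) [.bwd 5605, .bwd 8608, .fwd 5135],
   .loop (some (12, 2)) [.bwd 5606, .bwd 8609, .fwd 5136],
   .loop (some (13, 2)) [.bwd 5607, .bwd 8610, .fwd 5137],
   .loop (some (10, 2)) [.bwd 5608, .bwd 8611, .fwd 5138],
   .loop (some (11, 2)) [.bwd 5609, .bwd 8612, .fwd 5139],
   .loop (some (12, 2)) [.bwd 5610, .bwd 8613, .fwd 5140],
   .loop (some (13, 2)) [.bwd 5611, .bwd 8614, .fwd 5141],
   .loop (some (12, 2)) [.fwd 5822, .bwd 8397, .fwd 5144],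
   .loop (some (7, 1)) [.bwd 5653, .fwd 6843, .fwd 5635],
   .loop (some (8, 3)) [.bwd 5635, .fwd 8020, .bwd 3529],
   .loop (some (10, 0)) [.bwd 8388, .fwd 7951, .fwd 7948],
   .loop (some (19, 0)) [.bwd 7278, .bwd 3718, .fwd 7281, .bwd 5493, .bwd 5492, .bwd 6454, .bwd 6458, .fwd 6457],
   .loop (some (15, 4)) [.fwd 5729, .fwd 8620, .bwd 5886, .fwd 6248, .fwd 8361],
   .define,
   .define,
   .loop (some (20, 4)) [.fwd 7647, .fwd 379, .fwd 358, .fwd 359, .fwd 656, .fwd 657, .fwd 8622, .fwd 8623],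
   .define,
   .define,
   .define,
   .define,
   .define,
   .define,
   .define,
   .define,
   .define,
   .define,
   .define,
   .define,
   .define,
   .define,
   .define,
   .define,
   .define,
   .define,
   .define,
   .loop (some (21, 28)) [.fwd 7320, .bwd 5358, .fwd 5154, .fwd 5008, .bwd 5014, .fwd 5015, .bwd 2750, .bwd 6487, .fwd 6417, .fwd 6416, .bwd 7221, .bwd 2889, .fwd 8625, .fwd 8626, .fwd 8627, .fwd 8628, .fwd 8629, .fwd 8630, .fwd 8631, .fwd 8632, .fwd 8633, .fwd 8634, .fwd 8635, .fwd 8636, .fwd 8637, .fwd 8638, .fwd 8639, .fwd 8640, .fwd 8641, .fwd 8642, .fwd 8643],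
   .define,
   .define,
   .define,
   .loop (some (20, 4)) [.fwd 7540, .fwd 359, .fwd 340, .fwd 350, .fwd 5283, .fwd 8645, .fwd 8646, .fwd 8647],
   .define,
   .loop (some (9, 2)) [.bwd 5823, .bwd 5486, .fwd 8649],
   .define,
   .loop (some (1, 2)) [.bwd 5283, .fwd 5823, .fwd 8651],
   .define,
   .loop (some (15, 2)) [.fwd 6225, .bwd 6228, .fwd 5811, .fwd 5823, .fwd 8653],
   .loop (some (3, 1)) [.fwd 8643, .fwd 8644, .fwd 7321, .bwd 5835],
   .loop none [.bwd 8655],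
   .loop none [.fwd 6094, .fwd 8656, .bwd 8642],
   .loop none [.fwd 8657],
   .loop none [.bwd 8643, .bwd 8656],
   .loop none [.bwd 6102, .fwd 8658, .bwd 8641],
   .loop none [.fwd 8660],
   .loop none [.fwd 6063, .fwd 8661, .bwd 8640],
   .loop none [.fwd 8662],
   .loop none [.fwd 8639, .bwd 8663],
   .define,
   .define,
   .define,
   .loop (some (20, 4)) [.bwd 656, .fwd 340, .fwd 350, .bwd 352, .bwd 7321, .fwd 8665, .fwd 8666, .fwd 8667],
   .define,
   .define,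
   .define,
   .loop (some (19, 3)) [.fwd 7068, .fwd 6759, .bwd 5746, .bwd 4845, .bwd 5355, .fwd 8669, .fwd 8670, .fwd 8671],
   .define,
   .loop (some (1, 2)) [.fwd 7321, .fwd 8669, .fwd 8673],
   .loop (some (5, 2)) [.bwd 8669, .fwd 352, .fwd 5823],
   .define,
   .loop (some (17, 3)) [.fwd 3655, .fwd 7321, .bwd 5828, .fwd 5829, .fwd 8676],
   .define,
   .loop (some (20, 4)) [.bwd 6331, .fwd 677, .fwd 660, .fwd 661, .fwd 354, .fwd 355, .fwd 5418, .fwd 8678],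
   .define,
   .loop (some (9, 2)) [.bwd 671, .bwd 6332, .fwd 8680],
   .define,
   .loop (some (1, 2)) [.bwd 354, .fwd 671, .fwd 8682],
   .define,
   .loop (some (5, 2)) [.bwd 671, .bwd 661, .fwd 8684],
   .define,
   .define,
   .loop (some (14, 4)) [.bwd 5414, .bwd 8679, .fwd 8686, .fwd 8687],
   .define,
   .define,
   .loop (some (20, 5)) [.fwd 5505, .bwd 356, .bwd 355, .bwd 354, .bwd 661, .bwd 6506, .fwd 8689, .fwd 8690],
   .define,
   .define,
   .loop (some (19, 3)) [.bwd 7644, .bwd 6482, .fwd 6481, .fwd 4028, .bwd 4152, .bwd 8683, .fwd 8692, .fwd 8693],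
   .define,
   .loop (some (9, 2)) [.fwd 8683, .bwd 5414, .fwd 8695],
   .define,
   .loop (some (15, 2)) [.fwd 6349, .fwd 6237, .fwd 5848, .bwd 8683, .fwd 8697],
   .define,
   .loop (some (5, 2)) [.fwd 8683, .fwd 355, .fwd 8699],
   .define,
   .loop (some (18, 3)) [.fwd 5505, .bwd 356, .bwd 355, .bwd 8688, .bwd 8687, .fwd 8701],
   .define,
   .define,
   .define,
   .define,
   .define,
   .define,
   .define,
   .define,
   .define,
   .define,
   .define,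
   .define,
   .define,
   .define,
   .define,
   .define,
   .define,
   .define,
   .define,
   .define,
   .define,
   .define,
   .define,
   .loop (some (21, 28)) [.fwd 4161, .bwd 3277, .fwd 354, .bwd 5848, .fwd 5849, .bwd 3332, .fwd 7747, .bwd 2966, .fwd 8703, .fwd 8704, .fwd 8705, .fwd 8706, .fwd 8707, .fwd 8708, .fwd 8709, .fwd 8710, .fwd 8711, .fwd 8712, .fwd 8713, .fwd 8714, .fwd 8715, .fwd 8716, .fwd 8717, .fwd 8718, .fwd 8719, .fwd 8720, .fwd 8721, .fwd 8722, .fwd 8723, .fwd 8724, .fwd 8725],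
   .define,
   .loop (some (3, 2)) [.bwd 5418, .bwd 5880, .fwd 8727],
   .define,
   .loop (some (14, 2)) [.fwd 8688, .fwd 355, .bwd 5446, .fwd 8729],
   .define,
   .define,
   .define,
   .define,
   .define,
   .define,
   .loop (some (19, 4)) [.bwd 6469, .fwd 6468, .bwd 4889, .bwd 5410, .fwd 8699, .fwd 8734, .fwd 8735, .fwd 8736],
   .define,
   .loop (some (9, 2)) [.bwd 8699, .bwd 5446, .fwd 8738],
   .define,
   .loop (some (0, 1)) [.fwd 5446, .fwd 8740],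
   .define,
   .loop (some (1, 2)) [.bwd 5418, .fwd 8699, .fwd 8742],
   .define,
   .loop (some (2, 2)) [.bwd 5411, .bwd 5880, .fwd 8744],
   .define,
   .loop (some (15, 2)) [.bwd 8360, .bwd 6241, .fwd 5880, .fwd 8699, .fwd 8746],
   .define,
   .loop (some (10, 2)) [.fwd 5880, .bwd 5446, .fwd 8748]]

theorem just34_len : just34.length = 250 := by decide +kernel

theorem just34_ok : cert.okFacts 8500 just34 = true := by decide +kernel

/-- justifications -/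
noncomputable def just35 : List Cert.Just :=
  [.define,
   .define,
   .loop (some (17, 4)) [.bwd 5418, .fwd 5411, .fwd 4930, .fwd 8750, .fwd 8751],
   .define,
   .define,
   .define,
   .define,
   .loop (some (12, 2)) [.bwd 5411, .bwd 5446, .fwd 8756],
   .define,
   .loop (some (13, 2)) [.bwd 5418, .bwd 5446, .fwd 8758],
   .define,
   .loop (some (20, 5)) [.fwd 8701, .fwd 8702, .fwd 5505, .fwd 357, .bwd 379, .bwd 7647, .fwd 7980, .fwd 8760],
   .define,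
   .loop (some (6, 2)) [.fwd 5886, .bwd 5505, .fwd 8762],
   .define,
   .define,
   .loop (some (19, 3)) [.bwd 7176, .bwd 5100, .fwd 5099, .bwd 4911, .bwd 5443, .bwd 8620, .fwd 8764, .fwd 8765],
   .loop (some (9, 2)) [.fwd 8620, .bwd 7323, .bwd 8674],
   .define,
   .loop (some (2, 2)) [.fwd 7278, .bwd 5886, .fwd 8768],
   .define,
   .loop (some (5, 2)) [.fwd 8620, .bwd 5505, .fwd 8770],
   .loop (some (10, 2)) [.fwd 5886, .bwd 7323, .bwd 8644],
   .define,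
   .define,
   .define,
   .define,
   .define,
   .define,
   .define,
   .define,
   .define,
   .define,
   .define,
   .define,
   .define,
   .define,
   .define,
   .define,
   .define,
   .define,
   .define,
   .define,
   .define,
   .define,
   .loop (some (21, 27)) [.bwd 6163, .bwd 5927, .fwd 5928, .bwd 357, .bwd 5886, .bwd 6252, .fwd 7609, .bwd 7905, .fwd 7902, .fwd 8773, .fwd 8774, .fwd 8775, .fwd 8776, .fwd 8777, .fwd 8778, .fwd 8779, .fwd 8780, .fwd 8781, .fwd 8782, .fwd 8783, .fwd 8784, .fwd 8785, .fwd 8786, .fwd 8787, .fwd 8788, .fwd 8789, .fwd 8790, .fwd 8791, .fwd 8792, .fwd 8793, .fwd 8794],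
   .define,
   .loop (some (20, 4)) [.bwd 5283, .bwd 352, .fwd 378, .fwd 379, .bwd 357, .bwd 5505, .bwd 8691, .fwd 8796],
   .define,
   .define,
   .loop (some (19, 3)) [.bwd 7078, .fwd 6777, .fwd 6728, .fwd 5553, .bwd 5484, .fwd 8649, .fwd 8798, .fwd 8799],
   .define,
   .loop (some (15, 2)) [.fwd 8362, .fwd 6261, .fwd 5894, .fwd 8649, .fwd 8801],
   .loop (some (5, 2)) [.bwd 8649, .bwd 379, .fwd 5785],
   .loop (some (20, 1)) [.bwd 8731, .fwd 8679, .bwd 7322, .fwd 7321, .fwd 378, .fwd 379, .fwd 358, .bwd 7540],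
   .define,
   .define,
   .loop (some (19, 3)) [.fwd 6786, .fwd 6742, .fwd 5733, .bwd 5060, .bwd 5122, .fwd 5793, .fwd 8805, .fwd 8806],
   .define,
   .loop (some (15, 2)) [.bwd 6275, .bwd 5936, .fwd 5782, .fwd 5793, .fwd 8808],
   .loop (some (5, 2)) [.bwd 5793, .bwd 358, .fwd 8649],
   .define,
   .loop (some (17, 3)) [.fwd 4330, .fwd 7540, .bwd 5922, .fwd 5923, .fwd 8811],
   .define,
   .define,
   .loop (some (20, 4)) [.bwd 5904, .fwd 604, .fwd 591, .fwd 592, .fwd 619, .fwd 620, .fwd 8813, .fwd 8814],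
   .define,
   .define,
   .loop (some (19, 3)) [.fwd 4779, .bwd 645, .fwd 6287, .fwd 5177, .bwd 601, .fwd 598, .fwd 8816, .fwd 8817],
   .define,
   .loop (some (17, 4)) [.bwd 619, .bwd 553, .bwd 6029, .fwd 8138, .fwd 8819],
   .define,
   .define,
   .define,
   .define,
   .define,
   .define,
   .define,
   .define,
   .define,
   .define,
   .define,
   .define,
   .define,
   .define,
   .define,
   .define,
   .define,
   .define,
   .loop (some (21, 29)) [.fwd 8820, .bwd 619, .bwd 360, .bwd 339, .bwd 2053, .bwd 5554, .fwd 5551, .fwd 3100, .fwd 2812, .bwd 1062, .bwd 2765, .fwd 6643, .bwd 6723, .fwd 8821, .fwd 8822, .fwd 8823, .fwd 8824, .fwd 8825, .fwd 8826, .fwd 8827, .fwd 8828, .fwd 8829, .fwd 8830, .fwd 8831, .fwd 8832, .fwd 8833, .fwd 8834, .fwd 8835, .fwd 8836, .fwd 8837, .fwd 8838],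
   .loop (some (18, 2)) [.fwd 8803, .fwd 8810, .fwd 5693, .fwd 375, .fwd 5824, .fwd 8675],
   .define,
   .loop (some (14, 3)) [.bwd 5965, .bwd 2714, .fwd 5965, .fwd 8841],
   .define,
   .define,
   .define,
   .define,
   .define,
   .loop (some (20, 7)) [.bwd 2713, .fwd 2712, .bwd 504, .fwd 8843, .fwd 8844, .fwd 8845, .fwd 8846, .fwd 8847],
   .define,
   .loop (some (6, 2)) [.fwd 2724, .fwd 2713, .fwd 8849],
   .define,
   .loop (some (18, 3)) [.fwd 8847, .fwd 8848, .bwd 2713, .fwd 5965, .bwd 8842, .fwd 8851],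
   .define,
   .loop (some (14, 3)) [.bwd 6871, .bwd 1734, .fwd 6871, .fwd 8853],
   .define,
   .define,
   .define,
   .define,
   .define,
   .loop (some (20, 7)) [.fwd 1708, .fwd 2732, .fwd 2730, .fwd 8855, .fwd 8856, .fwd 8857, .fwd 8858, .fwd 8859],
   .define,
   .loop (some (14, 3)) [.bwd 6397, .bwd 670, .fwd 6397, .fwd 8861],
   .define,
   .loop (some (20, 6)) [.fwd 8685, .fwd 672, .bwd 367, .bwd 375, .bwd 6453, .fwd 8601, .bwd 8218, .fwd 8863],
   .define,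
   .loop (some (18, 3)) [.fwd 8864, .fwd 8685, .fwd 672, .fwd 6397, .bwd 8862, .fwd 8865],
   .define,
   .define,
   .loop (some (14, 3)) [.bwd 8867, .bwd 4632, .fwd 8867, .fwd 8868],
   .define,
   .define,
   .define,
   .define,
   .define,
   .loop (some (20, 7)) [.fwd 4652, .fwd 4644, .bwd 4696, .fwd 8870, .fwd 8871, .fwd 8872, .fwd 8873, .fwd 8874],
   .loop (some (8, 1)) [.fwd 8850, .fwd 5942, .fwd 8867],
   .define,
   .loop (some (18, 3)) [.fwd 8874, .fwd 8875, .fwd 4652, .fwd 8867, .bwd 8869, .fwd 8877],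
   .define,
   .loop (some (3, 2)) [.fwd 6453, .bwd 5791, .fwd 8879],
   .define,
   .define,
   .define,
   .loop (some (20, 5)) [.fwd 8803, .fwd 8810, .fwd 5693, .bwd 6453, .fwd 8601, .fwd 8881, .fwd 8882, .fwd 8883],
   .define,
   .loop (some (2, 2)) [.fwd 5689, .bwd 5791, .fwd 8885],
   .define,
   .define,
   .define,
   .define,
   .define,
   .define,
   .define,
   .define,
   .define,
   .define,
   .define,
   .define,
   .define,
   .define,
   .define,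
   .define,
   .define,
   .define,
   .define,
   .define,
   .define,
   .define,
   .define,
   .define,
   .define,
   .define,
   .define,
   .define,
   .loop (some (21, 28)) [.bwd 5493, .bwd 5492, .fwd 6453, .bwd 5791, .bwd 5873, .fwd 8889, .fwd 8890, .fwd 8891, .fwd 8892, .fwd 8893, .fwd 8894, .fwd 8895, .fwd 8896, .fwd 8897, .fwd 8898, .fwd 8899, .fwd 8900, .fwd 8901, .fwd 8902, .fwd 8903, .fwd 8904, .fwd 8905, .fwd 8906, .fwd 8907, .fwd 8908, .fwd 8909, .fwd 8910, .fwd 8911, .fwd 8912, .fwd 8913, .fwd 8914],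
   .define,
   .loop (some (12, 2)) [.fwd 5689, .bwd 5695, .fwd 8916],
   .loop (some (13, 2)) [.fwd 6453, .bwd 5695, .bwd 8884],
   .define,
   .define,
   .loop (some (20, 4)) [.bwd 5929, .fwd 443, .fwd 423, .fwd 424, .fwd 479, .fwd 480, .fwd 8919, .fwd 8920],
   .define,
   .loop (some (9, 2)) [.bwd 437, .bwd 5930, .fwd 8922],
   .define,
   .loop (some (1, 2)) [.bwd 479, .fwd 437, .fwd 8924],
   .loop (some (15, 2)) [.fwd 6110, .bwd 551, .bwd 425, .fwd 437, .fwd 8849],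
   .loop (some (5, 1)) [.fwd 8848, .bwd 437, .bwd 424],
   .define,
   .define,
   .define,
   .define,
   .define,
   .define,
   .define,
   .define,
   .define,
   .define,
   .define,
   .define,
   .define,
   .define,
   .define,
   .define,
   .define,
   .define,
   .define,
   .define,
   .define,
   .define,
   .define,
   .loop (some (21, 26)) [.bwd 4077, .bwd 8247, .bwd 4179, .bwd 8251, .bwd 479, .fwd 425, .bwd 532, .bwd 4434, .fwd 8928, .fwd 8929, .fwd 8930, .fwd 8931, .fwd 8932, .fwd 8933, .fwd 8934, .fwd 8935, .fwd 8936, .fwd 8937, .fwd 8938, .fwd 8939, .fwd 8940, .fwd 8941, .fwd 8942, .fwd 8943, .fwd 8944, .fwd 8945, .fwd 8946, .fwd 8947, .fwd 8948, .fwd 8949, .fwd 8950],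
   .define,
   .loop (some (19, 3)) [.fwd 7057, .fwd 6788, .fwd 6718, .bwd 5345, .bwd 5559, .fwd 5785, .fwd 8916, .fwd 8952],
   .loop (some (15, 2)) [.bwd 8363, .bwd 6263, .fwd 5902, .fwd 5785, .fwd 8887],
   .define,
   .loop (some (17, 3)) [.fwd 3297, .fwd 7647, .bwd 5839, .bwd 422, .fwd 8955],
   .define,
   .define,
   .loop (some (20, 6)) [.bwd 8957, .bwd 2660, .fwd 2659, .bwd 1846, .bwd 2659, .fwd 2660, .fwd 8957, .fwd 8958],
   .define,
   .loop (some (18, 3)) [.fwd 8959, .bwd 8957, .bwd 2660, .bwd 3615, .bwd 3614, .fwd 8960],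
   .define,
   .define,
   .loop (some (14, 3)) [.bwd 8962, .bwd 2673, .fwd 8962, .fwd 8963],
   .define,
   .define,
   .loop (some (20, 6)) [.bwd 8965, .bwd 2672, .bwd 2722, .bwd 2723, .fwd 2722, .fwd 2672, .fwd 8965, .fwd 8966],
   .loop (some (8, 1)) [.bwd 1160, .bwd 2670, .fwd 8962],
   .define,
   .loop (some (18, 3)) [.fwd 8967, .bwd 8965, .bwd 2672, .fwd 8962, .bwd 8964, .fwd 8969],
   .define,
   .define,
   .loop (some (14, 3)) [.bwd 8971, .bwd 2731, .fwd 8971, .fwd 8972],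
   .define,
   .define,
   .define,
   .define,
   .define,
   .loop (some (20, 7)) [.bwd 2730, .bwd 2732, .bwd 1708, .fwd 8974, .fwd 8975, .fwd 8976, .fwd 8977, .fwd 8978],
   .loop (some (8, 1)) [.bwd 1351, .bwd 2727, .fwd 8971],
   .define,
   .loop (some (18, 3)) [.fwd 8978, .fwd 8979, .bwd 2730, .fwd 8971, .bwd 8973, .fwd 8981],
   .define,
   .define,
   .loop (some (14, 3)) [.bwd 8983, .bwd 2720, .fwd 8983, .fwd 8984],
   .define,
   .define,
   .define,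
   .define,
   .define,
   .loop (some (20, 7)) [.bwd 2719, .fwd 2718, .fwd 1815, .fwd 8986, .fwd 8987, .fwd 8988, .fwd 8989, .fwd 8990],
   .loop (some (8, 1)) [.fwd 1419, .bwd 2717, .fwd 8983],
   .define,
   .loop (some (7, 2)) [.bwd 401, .fwd 2719, .fwd 8993],
   .define,
   .loop (some (18, 3)) [.fwd 8990, .fwd 8991, .bwd 2719, .fwd 8983, .bwd 8985, .fwd 8995],
   .define,
   .define,
   .loop (some (14, 3)) [.bwd 8997, .bwd 6013, .fwd 8997, .fwd 8998]]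

theorem just35_len : just35.length = 250 := by decide +kernel

theorem just35_ok : cert.okFacts 8750 just35 = true := by decide +kernel


end CfsgLib.ThCent.DK
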