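import Cfsg.Agent.Lib.ThCent.DKData

/-!
Justifications of the side facts (generated data).
-/

namespace CfsgLib.ThCent.DK

open CfsgLib.PresCert

set_option maxRecDepth 100000

/-- justifications -/
noncomputable def just36 : List Cert.Just :=
  [.define,
   .define,
   .define,
   .define,
   .define,
   .define,
   .loop (some (20, 7)) [.fwd 8994, .fwd 5981, .fwd 9000, .fwd 9001, .fwd 9002, .fwd 9003, .fwd 9004, .fwd 9005],
   .define,
   .loop (some (6, 2)) [.fwd 5982, .bwd 8994, .fwd 9007],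
   .loop (some (5, 1)) [.bwd 9000, .bwd 6014, .bwd 8994],
   .loop (some (8, 1)) [.bwd 9000, .bwd 402, .fwd 8997],
   .define,
   .loop (some (18, 3)) [.fwd 9005, .fwd 9006, .fwd 8994, .fwd 8997, .bwd 8999, .fwd 9011],
   .define,
   .define,
   .loop (some (14, 3)) [.bwd 9013, .bwd 6015, .fwd 9013, .fwd 9014],
   .define,
   .define,
   .define,
   .define,
   .define,
   .loop (some (20, 7)) [.bwd 9000, .bwd 5981, .bwd 8994, .fwd 9016, .fwd 9017, .fwd 9018, .fwd 9019, .fwd 9020],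
   .define,
   .loop (some (6, 2)) [.fwd 5978, .fwd 9000, .fwd 9022],
   .loop (some (8, 1)) [.fwd 8994, .fwd 402, .fwd 9013],
   .loop (some (7, 1)) [.bwd 1815, .bwd 2695, .fwd 9000],
   .define,
   .loop (some (18, 3)) [.fwd 9020, .fwd 9021, .bwd 9000, .fwd 9013, .bwd 9015, .fwd 9026],
   .define,
   .define,
   .loop (some (14, 3)) [.bwd 9028, .bwd 6016, .fwd 9028, .fwd 9029],
   .define,
   .define,
   .define,
   .define,
   .define,
   .loop (some (20, 7)) [.fwd 9008, .fwd 5983, .bwd 9023, .fwd 9031, .fwd 9032, .fwd 9033, .fwd 9034, .fwd 9035],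
   .define,
   .loop (some (5, 2)) [.bwd 6018, .bwd 9008, .fwd 9037],
   .loop (some (8, 1)) [.fwd 9023, .bwd 5949, .fwd 9028],
   .define,
   .loop (some (7, 2)) [.bwd 405, .bwd 9008, .fwd 9040],
   .define,
   .loop (some (18, 3)) [.fwd 9035, .fwd 9036, .fwd 9008, .fwd 9028, .bwd 9030, .fwd 9042],
   .define,
   .define,
   .loop (some (14, 3)) [.bwd 9044, .bwd 6020, .fwd 9044, .fwd 9045],
   .define,
   .define,
   .define,
   .define,
   .define,
   .loop (some (20, 7)) [.fwd 9041, .fwd 4722, .bwd 8850, .fwd 9047, .fwd 9048, .fwd 9049, .fwd 9050, .fwd 9051],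
   .loop (some (6, 1)) [.fwd 504, .bwd 5959, .bwd 9041],
   .loop (some (8, 1)) [.fwd 4736, .bwd 406, .fwd 9044],
   .define,
   .loop (some (18, 3)) [.fwd 9051, .fwd 9052, .fwd 9041, .fwd 9044, .bwd 9046, .fwd 9055],
   .define,
   .define,
   .loop (some (14, 3)) [.bwd 9057, .bwd 4739, .fwd 9057, .fwd 9058],
   .define,
   .define,
   .define,
   .define,
   .define,
   .loop (some (20, 7)) [.fwd 4736, .fwd 407, .bwd 4733, .fwd 9060, .fwd 9061, .fwd 9062, .fwd 9063, .fwd 9064],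
   .loop (some (8, 1)) [.fwd 9041, .fwd 406, .fwd 9057],
   .define,
   .loop (some (18, 3)) [.fwd 9064, .fwd 9065, .fwd 4736, .fwd 9057, .bwd 9059, .fwd 9067],
   .define,
   .define,
   .loop (some (14, 3)) [.bwd 9069, .bwd 4731, .fwd 9069, .fwd 9070],
   .define,
   .define,
   .define,
   .define,
   .define,
   .loop (some (20, 7)) [.fwd 4733, .bwd 407, .bwd 4736, .fwd 9072, .fwd 9073, .fwd 9074, .fwd 9075, .fwd 9076],
   .loop (some (8, 1)) [.bwd 8889, .fwd 4696, .bwd 4639, .fwd 9069],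
   .loop none [.fwd 9078],
   .loop none [.fwd 9071, .bwd 9079],
   .loop none [.fwd 9069, .bwd 9079],
   .define,
   .loop (some (18, 3)) [.fwd 9076, .fwd 9077, .fwd 4733, .bwd 9081, .fwd 9080, .fwd 9082],
   .define,
   .loop (some (14, 3)) [.bwd 6023, .bwd 4375, .fwd 6023, .fwd 9084],
   .define,
   .define,
   .define,
   .define,
   .define,
   .loop (some (20, 7)) [.fwd 6300, .bwd 4717, .fwd 4718, .fwd 9086, .fwd 9087, .fwd 9088, .fwd 9089, .fwd 9090],
   .define,
   .loop (some (18, 3)) [.fwd 9090, .fwd 9091, .fwd 6300, .fwd 6023, .bwd 9085, .fwd 9092],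
   .define,
   .define,
   .define,
   .loop (some (20, 4)) [.bwd 5829, .fwd 424, .fwd 377, .fwd 413, .fwd 3749, .fwd 9094, .fwd 9095, .fwd 9096],
   .loop (some (9, 1)) [.fwd 8917, .bwd 6031, .bwd 5842],
   .loop (some (1, 2)) [.bwd 3749, .fwd 6031, .fwd 8888],
   .define,
   .define,
   .loop (some (15, 4)) [.fwd 5788, .fwd 6031, .bwd 8886, .fwd 9100, .fwd 9101],
   .define,
   .define,
   .define,
   .define,
   .define,
   .define,
   .define,
   .define,
   .define,
   .define,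
   .define,
   .define,
   .define,
   .define,
   .define,
   .define,
   .define,
   .define,
   .define,
   .define,
   .define,
   .define,
   .define,
   .define,
   .loop (some (21, 29)) [.bwd 5795, .bwd 3749, .bwd 5788, .bwd 6171, .fwd 530, .fwd 4785, .fwd 6157, .fwd 9103, .fwd 9104, .fwd 9105, .fwd 9106, .fwd 9107, .fwd 9108, .fwd 9109, .fwd 9110, .fwd 9111, .fwd 9112, .fwd 9113, .fwd 9114, .fwd 9115, .fwd 9116, .fwd 9117, .fwd 9118, .fwd 9119, .fwd 9120, .fwd 9121, .fwd 9122, .fwd 9123, .fwd 9124, .fwd 9125, .fwd 9126],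
   .define,
   .loop (some (4, 2)) [.bwd 5923, .fwd 5921, .fwd 9128],
   .define,
   .define,
   .define,
   .loop (some (20, 4)) [.bwd 479, .fwd 377, .fwd 413, .bwd 415, .fwd 5923, .fwd 9130, .fwd 9131, .fwd 9132],
   .loop (some (19, 0)) [.bwd 8805, .bwd 5692, .bwd 7140, .fwd 7139, .fwd 5590, .fwd 5591, .fwd 5592, .bwd 5921],
   .define,
   .define,
   .define,
   .loop (some (15, 4)) [.fwd 6052, .fwd 9134, .fwd 9135, .fwd 9136, .fwd 9137],
   .define,
   .define,
   .define,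
   .define,
   .define,
   .define,
   .define,
   .define,
   .define,
   .define,
   .define,
   .define,
   .define,
   .define,
   .define,
   .define,
   .define,
   .define,
   .define,
   .define,
   .define,
   .define,
   .define,
   .define,
   .define,
   .define,
   .loop (some (21, 29)) [.bwd 8811, .bwd 5923, .bwd 6052, .bwd 6187, .fwd 6166, .fwd 9139, .fwd 9140, .fwd 9141, .fwd 9142, .fwd 9143, .fwd 9144, .fwd 9145, .fwd 9146, .fwd 9147, .fwd 9148, .fwd 9149, .fwd 9150, .fwd 9151, .fwd 9152, .fwd 9153, .fwd 9154, .fwd 9155, .fwd 9156, .fwd 9157, .fwd 9158, .fwd 9159, .fwd 9160, .fwd 9161, .fwd 9162, .fwd 9163, .fwd 9164],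
   .define,
   .define,
   .loop (some (20, 4)) [.bwd 6152, .fwd 510, .fwd 483, .fwd 484, .fwd 419, .fwd 420, .fwd 9166, .fwd 9167],
   .define,
   .loop (some (19, 2)) [.fwd 4410, .fwd 507, .bwd 3493, .fwd 7994, .fwd 3493, .bwd 507, .fwd 503, .fwd 9169],
   .define,
   .loop (some (9, 2)) [.bwd 503, .bwd 6136, .fwd 9171],
   .loop (some (1, 2)) [.bwd 419, .fwd 503, .fwd 8843],
   .define,
   .loop (some (5, 2)) [.bwd 503, .bwd 484, .fwd 9174],
   .define,
   .loop (some (17, 2)) [.bwd 8392, .bwd 5822, .bwd 419, .bwd 4410, .fwd 9176],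
   .define,
   .define,
   .loop (some (14, 4)) [.bwd 8616, .bwd 9168, .fwd 9178, .fwd 9179],
   .define,
   .define,
   .define,
   .loop (some (20, 6)) [.bwd 421, .bwd 420, .bwd 419, .bwd 484, .fwd 8664, .fwd 9181, .fwd 9182, .fwd 9183],
   .define,
   .define,
   .define,
   .define,
   .define,
   .define,
   .loop (some (19, 7)) [.fwd 6062, .bwd 9173, .fwd 9185, .fwd 9186, .fwd 9187, .fwd 9188, .fwd 9189, .fwd 9190],
   .define,
   .loop (some (9, 2)) [.fwd 9173, .bwd 8616, .fwd 9192],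
   .define,
   .loop (some (0, 1)) [.fwd 8616, .fwd 9194],
   .define,
   .define,
   .define,
   .loop (some (15, 4)) [.fwd 6061, .bwd 9173, .fwd 9196, .fwd 9197, .fwd 9198],
   .loop (some (5, 1)) [.bwd 8844, .fwd 9173, .fwd 420],
   .define,
   .loop (some (18, 3)) [.fwd 9184, .bwd 421, .bwd 420, .bwd 9180, .bwd 9179, .fwd 9201],
   .define,
   .loop (some (11, 2)) [.fwd 6062, .bwd 8616, .fwd 9203],
   .define,
   .define,
   .define,
   .define,
   .define,
   .define,
   .define,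
   .define,
   .define,
   .define,
   .define,
   .define,
   .define,
   .define,
   .define,
   .define,
   .define,
   .define,
   .define,
   .define,
   .define,
   .define,
   .loop (some (21, 28)) [.fwd 9170, .fwd 4410, .fwd 419, .bwd 6061, .fwd 6099, .bwd 8286, .bwd 4177, .bwd 8250, .bwd 4079, .fwd 9205, .fwd 9206, .fwd 9207, .fwd 9208, .fwd 9209, .fwd 9210, .fwd 9211, .fwd 9212, .fwd 9213, .fwd 9214, .fwd 9215, .fwd 9216, .fwd 9217, .fwd 9218, .fwd 9219, .fwd 9220, .fwd 9221, .fwd 9222, .fwd 9223, .fwd 9224, .fwd 9225, .fwd 9226],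
   .define,
   .loop (some (3, 2)) [.bwd 9166, .fwd 6066, .fwd 9228],
   .define,
   .define,
   .loop (some (14, 2)) [.fwd 9180, .fwd 420, .fwd 9230, .fwd 9231],
   .define,
   .loop (some (4, 2)) [.bwd 9166, .fwd 6067, .fwd 9233],
   .define,
   .define,
   .define,
   .loop (some (20, 5)) [.fwd 9202, .fwd 9184, .bwd 421, .fwd 9166, .fwd 9167, .fwd 9235, .fwd 9236, .fwd 9237],
   .define,
   .define,
   .define,
   .define,
   .define,
   .define,
   .loop (some (19, 7)) [.bwd 6067, .fwd 9200, .fwd 9239, .fwd 9240, .fwd 9241, .fwd 9242, .fwd 9243, .fwd 9244],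
   .define,
   .loop (some (0, 1)) [.bwd 9230, .fwd 9246],
   .define,
   .loop (some (1, 2)) [.bwd 9166, .fwd 9200, .fwd 9248]]

theorem just36_len : just36.length = 250 := by decide +kernel

theorem just36_ok : cert.okFacts 9000 just36 = true := by decide +kernel

/-- justifications -/
noncomputable def just37 : List Cert.Just :=
  [.define,
   .define,
   .loop (some (2, 3)) [.fwd 6066, .fwd 9250, .fwd 9251],
   .define,
   .define,
   .define,
   .loop (some (15, 4)) [.bwd 6066, .fwd 9200, .fwd 9253, .fwd 9254, .fwd 9255],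
   .loop (some (5, 1)) [.bwd 8845, .bwd 9200, .fwd 421],
   .define,
   .loop (some (10, 2)) [.bwd 6066, .fwd 9230, .fwd 9258],
   .define,
   .loop (some (11, 2)) [.bwd 6067, .fwd 9230, .fwd 9260],
   .define,
   .define,
   .define,
   .loop (some (17, 4)) [.bwd 9166, .bwd 9252, .fwd 9262, .fwd 9263, .fwd 9264],
   .define,
   .define,
   .define,
   .define,
   .define,
   .define,
   .define,
   .define,
   .define,
   .define,
   .define,
   .define,
   .define,
   .define,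
   .define,
   .define,
   .define,
   .define,
   .define,
   .define,
   .define,
   .define,
   .define,
   .define,
   .define,
   .define,
   .define,
   .loop (some (21, 29)) [.fwd 9265, .bwd 9166, .fwd 6066, .bwd 6191, .fwd 9266, .fwd 9267, .fwd 9268, .fwd 9269, .fwd 9270, .fwd 9271, .fwd 9272, .fwd 9273, .fwd 9274, .fwd 9275, .fwd 9276, .fwd 9277, .fwd 9278, .fwd 9279, .fwd 9280, .fwd 9281, .fwd 9282, .fwd 9283, .fwd 9284, .fwd 9285, .fwd 9286, .fwd 9287, .fwd 9288, .fwd 9289, .fwd 9290, .fwd 9291, .fwd 9292],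
   .define,
   .loop (some (12, 2)) [.fwd 9252, .fwd 9230, .fwd 9294],
   .define,
   .loop (some (13, 2)) [.bwd 9166, .fwd 9230, .fwd 9296],
   .define,
   .loop (some (20, 5)) [.fwd 9201, .fwd 9202, .fwd 9184, .fwd 422, .bwd 443, .fwd 5929, .bwd 8593, .fwd 9298],
   .define,
   .loop (some (6, 2)) [.fwd 6070, .bwd 9184, .fwd 9300],
   .define,
   .define,
   .define,
   .define,
   .define,
   .define,
   .loop (some (19, 7)) [.bwd 6072, .fwd 9257, .fwd 9302, .fwd 9303, .fwd 9304, .fwd 9305, .fwd 9306, .fwd 9307],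
   .loop (some (1, 2)) [.bwd 9098, .bwd 422, .fwd 9257, .fwd 8846],
   .loop none [.bwd 9309],
   .loop none [.fwd 9098, .bwd 9310],
   .loop none [.bwd 8952, .bwd 9310],
   .define,
   .loop (some (2, 2)) [.bwd 8955, .bwd 6070, .fwd 9313],
   .define,
   .define,
   .define,
   .loop (some (15, 4)) [.fwd 6070, .fwd 9257, .fwd 9315, .fwd 9316, .fwd 9317],
   .define,
   .loop (some (7, 2)) [.bwd 6072, .bwd 9184, .fwd 9319],
   .loop (some (11, 2)) [.bwd 6072, .bwd 6080, .bwd 9129],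
   .loop (some (12, 2)) [.bwd 8955, .bwd 6080, .fwd 8811],
   .define,
   .loop (some (20, 4)) [.bwd 3749, .bwd 415, .fwd 442, .fwd 443, .bwd 422, .bwd 9184, .bwd 9183, .fwd 9323],
   .define,
   .define,
   .define,
   .loop (some (15, 4)) [.fwd 6075, .bwd 9311, .fwd 9325, .fwd 9326, .fwd 9327],
   .loop (some (5, 2)) [.fwd 8852, .fwd 9311, .bwd 443, .fwd 8922],
   .loop none [.fwd 9329],
   .loop none [.fwd 8922, .bwd 9330],
   .loop none [.bwd 8923, .bwd 9330],
   .define,
   .define,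
   .define,
   .define,
   .define,
   .define,
   .define,
   .define,
   .define,
   .define,
   .define,
   .define,
   .define,
   .define,
   .define,
   .define,
   .define,
   .define,
   .define,
   .define,
   .define,
   .define,
   .define,
   .define,
   .define,
   .define,
   .loop (some (21, 29)) [.bwd 8955, .fwd 422, .bwd 6075, .bwd 6177, .fwd 6215, .fwd 9333, .fwd 9334, .fwd 9335, .fwd 9336, .fwd 9337, .fwd 9338, .fwd 9339, .fwd 9340, .fwd 9341, .fwd 9342, .fwd 9343, .fwd 9344, .fwd 9345, .fwd 9346, .fwd 9347, .fwd 9348, .fwd 9349, .fwd 9350, .fwd 9351, .fwd 9352, .fwd 9353, .fwd 9354, .fwd 9355, .fwd 9356, .fwd 9357, .fwd 9358],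
   .define,
   .loop (some (4, 2)) [.bwd 5829, .fwd 5827, .fwd 9360],
   .loop (some (20, 1)) [.bwd 9235, .fwd 9168, .fwd 6160, .bwd 5923, .fwd 442, .fwd 443, .fwd 423, .fwd 5829],
   .define,
   .loop (some (19, 2)) [.bwd 7146, .fwd 7145, .fwd 5325, .fwd 5326, .fwd 5327, .bwd 5827, .fwd 8927, .fwd 9363],
   .define,
   .loop (some (1, 2)) [.bwd 5829, .fwd 8927, .fwd 9365],
   .define,
   .define,
   .define,
   .loop (some (15, 4)) [.bwd 5990, .fwd 8927, .fwd 9367, .fwd 9368, .fwd 9369],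
   .define,
   .define,
   .define,
   .define,
   .define,
   .define,
   .define,
   .define,
   .define,
   .define,
   .define,
   .define,
   .define,
   .define,
   .define,
   .define,
   .define,
   .define,
   .define,
   .define,
   .define,
   .define,
   .define,
   .define,
   .define,
   .define,
   .loop (some (21, 29)) [.bwd 8676, .bwd 5829, .fwd 5990, .fwd 6102, .bwd 6205, .fwd 9371, .fwd 9372, .fwd 9373, .fwd 9374, .fwd 9375, .fwd 9376, .fwd 9377, .fwd 9378, .fwd 9379, .fwd 9380, .fwd 9381, .fwd 9382, .fwd 9383, .fwd 9384, .fwd 9385, .fwd 9386, .fwd 9387, .fwd 9388, .fwd 9389, .fwd 9390, .fwd 9391, .fwd 9392, .fwd 9393, .fwd 9394, .fwd 9395, .fwd 9396],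
   .define,
   .define,
   .loop (some (20, 4)) [.bwd 6118, .fwd 555, .fwd 544, .fwd 545, .fwd 517, .fwd 518, .fwd 9398, .fwd 9399],
   .define,
   .loop (some (19, 3)) [.bwd 4571, .bwd 4505, .fwd 6236, .fwd 4434, .fwd 532, .fwd 551, .bwd 4615, .fwd 9401],
   .define,
   .loop (some (9, 2)) [.bwd 551, .bwd 6087, .fwd 9403],
   .define,
   .loop (some (1, 2)) [.bwd 517, .fwd 551, .fwd 9405],
   .loop (some (5, 2)) [.bwd 551, .bwd 545, .bwd 9370],
   .define,
   .define,
   .define,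
   .define,
   .define,
   .define,
   .define,
   .define,
   .define,
   .define,
   .define,
   .define,
   .define,
   .define,
   .define,
   .define,
   .define,
   .define,
   .define,
   .define,
   .define,
   .define,
   .define,
   .define,
   .define,
   .define,
   .loop (some (21, 29)) [.fwd 8286, .bwd 517, .bwd 425, .fwd 440, .fwd 5288, .fwd 9408, .fwd 9409, .fwd 9410, .fwd 9411, .fwd 9412, .fwd 9413, .fwd 9414, .fwd 9415, .fwd 9416, .fwd 9417, .fwd 9418, .fwd 9419, .fwd 9420, .fwd 9421, .fwd 9422, .fwd 9423, .fwd 9424, .fwd 9425, .fwd 9426, .fwd 9427, .fwd 9428, .fwd 9429, .fwd 9430, .fwd 9431, .fwd 9432, .fwd 9433],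
   .define,
   .define,
   .loop (some (14, 3)) [.bwd 9435, .bwd 494, .fwd 9435, .fwd 9436],
   .define,
   .define,
   .define,
   .loop (some (20, 6)) [.fwd 9175, .fwd 504, .bwd 2712, .fwd 2713, .fwd 8924, .fwd 9438, .fwd 9439, .fwd 9440],
   .loop (some (8, 1)) [.bwd 4718, .fwd 4716, .fwd 9435],
   .define,
   .loop (some (18, 3)) [.fwd 9441, .fwd 9175, .fwd 504, .fwd 9435, .bwd 9437, .fwd 9443],
   .define,
   .define,
   .define,
   .loop (some (7, 1)) [.fwd 9023, .bwd 3476, .bwd 8850],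
   .define,
   .define,
   .loop (some (14, 3)) [.bwd 9449, .bwd 4681, .fwd 9449, .fwd 9450],
   .define,
   .define,
   .define,
   .define,
   .define,
   .loop (some (20, 7)) [.fwd 4654, .fwd 4761, .bwd 4765, .fwd 9452, .fwd 9453, .fwd 9454, .fwd 9455, .fwd 9456],
   .loop (some (8, 1)) [.fwd 4611, .bwd 4614, .fwd 9449],
   .define,
   .loop (some (7, 2)) [.bwd 3485, .bwd 4654, .fwd 9459],
   .define,
   .loop (some (18, 3)) [.fwd 9456, .fwd 9457, .fwd 4654, .fwd 9449, .bwd 9451, .fwd 9461],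
   .define,
   .define,
   .loop (some (14, 3)) [.bwd 9463, .bwd 550, .fwd 9463, .fwd 9464],
   .define,
   .define,
   .define,
   .define,
   .loop (some (20, 6)) [.fwd 9407, .fwd 552, .bwd 527, .bwd 529, .fwd 9466, .fwd 9467, .fwd 9468, .fwd 9469],
   .loop (some (8, 1)) [.bwd 8816, .bwd 2640, .fwd 4491, .fwd 9463],
   .loop none [.fwd 9471],
   .loop none [.fwd 9465, .bwd 9472],
   .loop none [.fwd 9463, .bwd 9472],
   .loop none [.bwd 9464, .bwd 9472],
   .define,
   .loop (some (18, 3)) [.fwd 9470, .fwd 9407, .fwd 552, .bwd 9474, .fwd 9473, .fwd 9476],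
   .loop (some (3, 2)) [.bwd 8924, .fwd 8849, .fwd 9047],
   .loop (some (4, 2)) [.bwd 8924, .bwd 5968, .fwd 8974],
   .define,
   .define,
   .define,
   .loop (some (20, 5)) [.fwd 8852, .fwd 8847, .fwd 8848, .fwd 8924, .fwd 9438, .fwd 9480, .fwd 9481, .fwd 9482],
   .loop (some (2, 2)) [.bwd 8653, .bwd 5954, .fwd 8849, .bwd 8876],
   .loop none [.fwd 9484],
   .loop none [.bwd 8876, .bwd 9485],
   .loop (some (7, 1)) [.fwd 8860, .fwd 5968, .bwd 8848],
   .define,
   .loop (some (10, 2)) [.bwd 8849, .bwd 9332, .fwd 9488],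
   .define,
   .loop (some (11, 2)) [.fwd 5968, .bwd 9332, .fwd 9490],
   .define,
   .define,
   .loop (some (17, 4)) [.bwd 8924, .fwd 5954, .fwd 8651, .fwd 9492, .fwd 9493],
   .define,
   .define,
   .define,
   .define,
   .define]

theorem just37_len : just37.length = 250 := by decide +kernel

theorem just37_ok : cert.okFacts 9250 just37 = true := by decide +kernel

/-- justifications -/
noncomputable def just38 : List Cert.Just :=
  [.define,
   .define,
   .define,
   .define,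
   .define,
   .define,
   .define,
   .define,
   .define,
   .define,
   .define,
   .define,
   .define,
   .define,
   .define,
   .define,
   .define,
   .define,
   .define,
   .define,
   .define,
   .loop (some (21, 29)) [.fwd 9494, .bwd 8924, .fwd 8849, .fwd 9448, .bwd 9039, .fwd 9495, .fwd 9496, .fwd 9497, .fwd 9498, .fwd 9499, .fwd 9500, .fwd 9501, .fwd 9502, .fwd 9503, .fwd 9504, .fwd 9505, .fwd 9506, .fwd 9507, .fwd 9508, .fwd 9509, .fwd 9510, .fwd 9511, .fwd 9512, .fwd 9513, .fwd 9514, .fwd 9515, .fwd 9516, .fwd 9517, .fwd 9518, .fwd 9519, .fwd 9520],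
   .loop (some (12, 1)) [.bwd 8798, .fwd 8650, .bwd 5954, .bwd 9332],
   .loop none [.fwd 9522],
   .loop none [.bwd 9331, .bwd 9523],
   .loop none [.bwd 9488, .bwd 9523],
   .loop none [.bwd 8799, .fwd 9523, .fwd 9490],
   .loop none [.fwd 9526],
   .loop none [.fwd 9483, .bwd 9523],
   .loop none [.bwd 9491, .bwd 9527],
   .define,
   .define,
   .define,
   .loop (some (20, 5)) [.fwd 6090, .bwd 5994, .fwd 5993, .fwd 3357, .fwd 3358, .fwd 9530, .fwd 9531, .fwd 9532],
   .loop (some (9, 1)) [.fwd 9529, .bwd 5674, .bwd 5996],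
   .loop (some (1, 2)) [.bwd 3357, .fwd 5674, .fwd 8974],
   .define,
   .define,
   .loop (some (17, 4)) [.bwd 3357, .fwd 5288, .fwd 9408, .fwd 9536, .fwd 9537],
   .define,
   .define,
   .define,
   .define,
   .define,
   .define,
   .define,
   .define,
   .define,
   .define,
   .define,
   .define,
   .define,
   .define,
   .define,
   .define,
   .define,
   .define,
   .define,
   .define,
   .define,
   .define,
   .define,
   .define,
   .define,
   .loop (some (21, 29)) [.fwd 9538, .bwd 3357, .bwd 3363, .bwd 507, .bwd 4410, .fwd 9176, .fwd 9539, .fwd 9540, .fwd 9541, .fwd 9542, .fwd 9543, .fwd 9544, .fwd 9545, .fwd 9546, .fwd 9547, .fwd 9548, .fwd 9549, .fwd 9550, .fwd 9551, .fwd 9552, .fwd 9553, .fwd 9554, .fwd 9555, .fwd 9556, .fwd 9557, .fwd 9558, .fwd 9559, .fwd 9560, .fwd 9561, .fwd 9562, .fwd 9563],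
   .loop (some (13, 2)) [.bwd 3357, .bwd 5996, .bwd 9533],
   .loop (some (4, 2)) [.bwd 5929, .fwd 5927, .bwd 9533],
   .loop (some (19, 2)) [.bwd 7489, .fwd 7488, .fwd 5538, .fwd 5539, .fwd 5540, .bwd 5927, .bwd 9524, .bwd 8798],
   .loop (some (1, 2)) [.bwd 5929, .bwd 9524, .fwd 9528],
   .define,
   .loop (some (15, 3)) [.bwd 9403, .fwd 6084, .bwd 9524, .fwd 9525, .fwd 9569],
   .define,
   .define,
   .define,
   .define,
   .define,
   .define,
   .define,
   .define,
   .define,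
   .define,
   .define,
   .define,
   .define,
   .define,
   .define,
   .define,
   .define,
   .define,
   .define,
   .define,
   .define,
   .define,
   .define,
   .define,
   .loop (some (21, 29)) [.fwd 5899, .bwd 5929, .bwd 6084, .bwd 6153, .fwd 6182, .bwd 4425, .bwd 8304, .fwd 9571, .fwd 9572, .fwd 9573, .fwd 9574, .fwd 9575, .fwd 9576, .fwd 9577, .fwd 9578, .fwd 9579, .fwd 9580, .fwd 9581, .fwd 9582, .fwd 9583, .fwd 9584, .fwd 9585, .fwd 9586, .fwd 9587, .fwd 9588, .fwd 9589, .fwd 9590, .fwd 9591, .fwd 9592, .fwd 9593, .fwd 9594],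
   .define,
   .define,
   .loop (some (14, 3)) [.bwd 9596, .bwd 4694, .fwd 9596, .fwd 9597],
   .define,
   .define,
   .define,
   .define,
   .loop (some (20, 7)) [.fwd 4696, .bwd 4644, .bwd 4652, .fwd 8879, .fwd 9599, .fwd 9600, .fwd 9601, .fwd 9602],
   .loop (some (8, 1)) [.fwd 4733, .fwd 4639, .fwd 9596],
   .define,
   .loop (some (18, 3)) [.fwd 9602, .fwd 9603, .fwd 4696, .fwd 9596, .bwd 9598, .fwd 9605],
   .define,
   .define,
   .loop (some (14, 3)) [.bwd 9607, .bwd 4719, .fwd 9607, .fwd 9608],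
   .define,
   .define,
   .define,
   .define,
   .define,
   .loop (some (20, 7)) [.bwd 4718, .fwd 4717, .bwd 6300, .fwd 9610, .fwd 9611, .fwd 9612, .fwd 9613, .fwd 9614],
   .loop (some (8, 1)) [.bwd 9169, .fwd 504, .bwd 4716, .fwd 9607],
   .loop none [.fwd 9616],
   .loop none [.fwd 9609, .bwd 9617],
   .loop none [.fwd 9607, .bwd 9617],
   .define,
   .loop (some (18, 3)) [.fwd 9614, .fwd 9615, .bwd 4718, .bwd 9619, .fwd 9618, .fwd 9620],
   .define,
   .loop (some (4, 2)) [.bwd 6172, .bwd 6122, .fwd 9622],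
   .define,
   .define,
   .define,
   .loop (some (20, 4)) [.bwd 8664, .fwd 484, .bwd 418, .fwd 476, .fwd 6172, .fwd 9624, .fwd 9625, .fwd 9626],
   .loop (some (19, 0)) [.fwd 9442, .bwd 4411, .bwd 505, .bwd 6122, .fwd 3422, .fwd 3494, .bwd 3422, .fwd 6122],
   .define,
   .define,
   .loop (some (1, 2)) [.bwd 6172, .fwd 9628, .fwd 9630],
   .define,
   .define,
   .define,
   .loop (some (15, 4)) [.fwd 6120, .fwd 9628, .fwd 9632, .fwd 9633, .fwd 9634],
   .define,
   .loop (some (4, 2)) [.bwd 6188, .bwd 6127, .fwd 9636],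
   .define,
   .define,
   .loop (some (19, 2)) [.bwd 6121, .bwd 6127, .fwd 7983, .fwd 6967, .bwd 7983, .fwd 6127, .fwd 9638, .fwd 9639],
   .loop (some (9, 3)) [.bwd 9638, .bwd 477, .fwd 9628, .fwd 9436],
   .loop none [.bwd 9641],
   .loop none [.fwd 9638, .bwd 9642],
   .loop none [.bwd 9639, .bwd 9642],
   .define,
   .loop (some (1, 2)) [.bwd 6188, .bwd 9643, .fwd 9645],
   .define,
   .define,
   .define,
   .loop (some (15, 4)) [.fwd 6124, .bwd 9643, .fwd 9647, .fwd 9648, .fwd 9649],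
   .define,
   .loop (some (17, 2)) [.bwd 8470, .fwd 5308, .bwd 6188, .fwd 6121, .fwd 9651],
   .define,
   .loop (some (20, 6)) [.bwd 481, .bwd 480, .bwd 479, .bwd 424, .fwd 5829, .fwd 9362, .fwd 9236, .fwd 9653],
   .define,
   .define,
   .loop (some (19, 5)) [.fwd 9564, .fwd 9538, .fwd 5989, .bwd 8925, .bwd 9494, .bwd 9521, .fwd 9655, .fwd 9656],
   .define,
   .loop (some (15, 3)) [.fwd 9406, .fwd 5987, .bwd 8925, .bwd 9478, .fwd 9658],
   .loop (some (5, 1)) [.bwd 9438, .fwd 8925, .fwd 480],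
   .define,
   .loop (some (8, 2)) [.bwd 8251, .bwd 9133, .fwd 9661],
   .define,
   .loop (some (18, 3)) [.fwd 9654, .bwd 481, .bwd 480, .bwd 9133, .bwd 9132, .fwd 9663],
   .loop (some (3, 2)) [.bwd 8919, .fwd 6129, .fwd 9398],
   .define,
   .define,
   .loop (some (14, 2)) [.fwd 9133, .fwd 480, .fwd 9666, .fwd 9667],
   .define,
   .define,
   .define,
   .loop (some (20, 5)) [.fwd 9664, .fwd 9654, .bwd 481, .fwd 8919, .fwd 8920, .fwd 9669, .fwd 9670, .fwd 9671],
   .define,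
   .define,
   .define,
   .define,
   .define,
   .define,
   .loop (some (19, 7)) [.bwd 6130, .fwd 9660, .fwd 9673, .fwd 9674, .fwd 9675, .fwd 9676, .fwd 9677, .fwd 9678],
   .define,
   .loop (some (9, 2)) [.bwd 9660, .fwd 9666, .fwd 9680],
   .define,
   .loop (some (0, 1)) [.bwd 9666, .fwd 9682],
   .define,
   .loop (some (2, 3)) [.fwd 6129, .fwd 9266, .fwd 9684],
   .define,
   .define,
   .define,
   .loop (some (15, 4)) [.bwd 6129, .fwd 9660, .fwd 9686, .fwd 9687, .fwd 9688],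
   .loop (some (5, 1)) [.bwd 9439, .bwd 9660, .fwd 481],
   .loop (some (8, 2)) [.fwd 9685, .bwd 480, .fwd 8251],
   .define,
   .loop (some (10, 2)) [.bwd 6129, .fwd 9666, .fwd 9692],
   .define,
   .loop (some (11, 2)) [.bwd 6130, .fwd 9666, .fwd 9694],
   .define,
   .define,
   .define,
   .loop (some (17, 4)) [.bwd 8919, .bwd 9685, .fwd 9696, .fwd 9697, .fwd 9698],
   .define,
   .define,
   .define,
   .define,
   .define,
   .define,
   .define,
   .define,
   .define,
   .define,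
   .define,
   .define,
   .define,
   .define,
   .define,
   .define,
   .define,
   .define,
   .define,
   .define,
   .define,
   .define,
   .define,
   .define,
   .define,
   .define,
   .loop (some (21, 29)) [.fwd 9699, .bwd 8919, .fwd 6129, .fwd 6191, .fwd 9250, .fwd 9700, .fwd 9701, .fwd 9702, .fwd 9703, .fwd 9704, .fwd 9705, .fwd 9706, .fwd 9707, .fwd 9708, .fwd 9709, .fwd 9710, .fwd 9711, .fwd 9712, .fwd 9713, .fwd 9714, .fwd 9715, .fwd 9716, .fwd 9717, .fwd 9718, .fwd 9719, .fwd 9720, .fwd 9721, .fwd 9722, .fwd 9723, .fwd 9724, .fwd 9725],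
   .define,
   .loop (some (12, 2)) [.fwd 9685, .fwd 9666, .fwd 9727],
   .define,
   .loop (some (13, 2)) [.bwd 8919, .fwd 9666, .fwd 9729],
   .define,
   .loop (some (6, 2)) [.bwd 6132, .bwd 9654, .fwd 9731],
   .define,
   .define,
   .define,
   .define,
   .define,
   .define,
   .loop (some (19, 7)) [.bwd 6133, .fwd 9690, .fwd 9733, .fwd 9734, .fwd 9735, .fwd 9736, .fwd 9737, .fwd 9738],
   .loop (some (1, 2)) [.bwd 9629, .bwd 482, .fwd 9690, .fwd 9440],
   .loop none [.bwd 9740],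
   .loop none [.fwd 9629, .bwd 9741],
   .define,
   .define,
   .define,
   .loop (some (15, 4)) [.bwd 6132, .fwd 9690, .fwd 9743, .fwd 9744, .fwd 9745],
   .define,
   .loop (some (5, 2)) [.bwd 9690, .bwd 9654, .fwd 9747],
   .define]

theorem just38_len : just38.length = 250 := by decide +kernel

theorem just38_ok : cert.okFacts 9500 just38 = true := by decide +kernel

/-- justifications -/
noncomputable def just39 : List Cert.Just :=
  [.loop (some (7, 2)) [.bwd 6133, .bwd 9654, .fwd 9749],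
   .define,
   .loop (some (17, 3)) [.bwd 6161, .bwd 482, .fwd 6180, .bwd 8155, .fwd 9751],
   .define,
   .define,
   .define,
   .define,
   .define,
   .define,
   .define,
   .define,
   .define,
   .define,
   .define,
   .define,
   .define,
   .define,
   .define,
   .define,
   .define,
   .define,
   .define,
   .define,
   .define,
   .define,
   .define,
   .define,
   .define,
   .define,
   .loop (some (21, 29)) [.bwd 6161, .bwd 482, .fwd 6132, .fwd 6195, .fwd 9313, .fwd 9753, .fwd 9754, .fwd 9755, .fwd 9756, .fwd 9757, .fwd 9758, .fwd 9759, .fwd 9760, .fwd 9761, .fwd 9762, .fwd 9763, .fwd 9764, .fwd 9765, .fwd 9766, .fwd 9767, .fwd 9768, .fwd 9769, .fwd 9770, .fwd 9771, .fwd 9772, .fwd 9773, .fwd 9774, .fwd 9775, .fwd 9776, .fwd 9777, .fwd 9778],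
   .loop (some (20, 4)) [.bwd 6172, .bwd 478, .fwd 509, .fwd 510, .bwd 482, .bwd 9654, .bwd 9653, .fwd 9237],
   .loop (some (19, 1)) [.fwd 9779, .bwd 6161, .bwd 6135, .fwd 7984, .fwd 6968, .bwd 7984, .fwd 6135, .bwd 9742],
   .loop (some (5, 2)) [.fwd 9444, .fwd 9742, .bwd 510, .fwd 9171],
   .loop none [.bwd 9782],
   .loop none [.bwd 9444, .bwd 9783],
   .loop (some (3, 2)) [.bwd 8664, .fwd 6063, .bwd 6204],
   .loop (some (20, 2)) [.bwd 9669, .fwd 8921, .bwd 8593, .bwd 6188, .fwd 509, .fwd 510, .fwd 483, .fwd 8664, .fwd 9181],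
   .loop none [.bwd 9786],
   .loop none [.fwd 9669, .bwd 9787],
   .loop none [.bwd 9182, .fwd 9787, .fwd 9670],
   .loop none [.fwd 9789],
   .loop none [.bwd 9323, .fwd 9790, .fwd 9671],
   .loop none [.fwd 9791],
   .loop none [.bwd 9672, .bwd 9792],
   .loop (some (13, 3)) [.bwd 8664, .fwd 6141, .fwd 419, .fwd 9194],
   .loop none [.fwd 9794],
   .loop none [.bwd 9195, .bwd 9795],
   .loop none [.fwd 9194, .bwd 9795],
   .loop (some (1, 2)) [.fwd 9199, .bwd 540, .fwd 528, .fwd 9466],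
   .loop none [.fwd 9798],
   .loop none [.fwd 9466, .bwd 9799],
   .loop none [.bwd 9467, .bwd 9799],
   .loop (some (17, 2)) [.bwd 4812, .bwd 6100, .bwd 540, .bwd 4434, .fwd 8928],
   .loop (some (7, 1)) [.fwd 9038, .fwd 4758, .bwd 4765],
   .loop (some (8, 0)) [.fwd 8818, .fwd 4485, .fwd 2589],
   .loop (some (3, 2)) [.bwd 9196, .bwd 8843, .bwd 9053, .fwd 9445],
   .loop none [.fwd 9805],
   .loop none [.fwd 9445, .bwd 9806],
   .loop none [.bwd 9446, .bwd 9806],
   .loop (some (4, 2)) [.bwd 8843, .bwd 6011, .fwd 8855],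
   .loop (some (6, 1)) [.fwd 9052, .fwd 9053, .bwd 9175],
   .loop (some (2, 2)) [.fwd 9227, .bwd 9169, .bwd 9053, .bwd 9066],
   .loop none [.bwd 9811],
   .loop none [.bwd 9227, .bwd 9812],
   .loop none [.fwd 9226, .bwd 9812],
   .loop (some (7, 1)) [.fwd 8979, .fwd 6011, .bwd 9175],
   .loop (some (13, 1)) [.fwd 9193, .bwd 8843, .bwd 9172],
   .loop (some (4, 2)) [.bwd 9103, .bwd 4367, .fwd 4411, .fwd 9086],
   .loop none [.bwd 9817],
   .loop none [.fwd 9103, .bwd 9818],
   .loop none [.bwd 9104, .bwd 9818],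
   .loop (some (5, 1)) [.fwd 9615, .bwd 4408, .bwd 4402],
   .loop (some (7, 2)) [.fwd 9615, .bwd 4411, .bwd 4402, .bwd 9640],
   .loop none [.fwd 9822],
   .loop none [.bwd 9640, .bwd 9823],
   .loop none [.fwd 9644, .bwd 9823],
   .loop (some (11, 2)) [.bwd 4411, .bwd 8307, .bwd 9779],
   .loop (some (13, 2)) [.bwd 4367, .bwd 8307, .bwd 9752],
   .loop (some (1, 2)) [.bwd 5668, .fwd 3421, .fwd 8855],
   .loop (some (5, 1)) [.fwd 8979, .bwd 3421, .bwd 3362],
   .loop (some (13, 2)) [.fwd 9204, .bwd 5668, .fwd 6159, .bwd 8795],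
   .loop none [.bwd 9830],
   .loop none [.fwd 9203, .bwd 9831],
   .loop none [.bwd 9204, .bwd 9831],
   .loop (some (19, 1)) [.fwd 8818, .fwd 4779, .bwd 645, .fwd 6287, .fwd 5177, .bwd 601, .bwd 553, .bwd 6171, .bwd 9635],
   .loop none [.fwd 9834],
   .loop none [.bwd 9635, .bwd 9835],
   .loop none [.fwd 9634, .bwd 9835],
   .loop (some (19, 1)) [.bwd 6365, .bwd 6282, .bwd 6443, .bwd 7528, .bwd 5783, .bwd 6054, .bwd 6187, .bwd 9650],
   .loop (some (5, 2)) [.fwd 9650, .fwd 516, .bwd 9836],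
   .loop (some (5, 2)) [.fwd 9406, .fwd 518, .bwd 9689],
   .loop (some (4, 2)) [.bwd 9398, .fwd 6191, .fwd 9228],
   .loop (some (5, 2)) [.fwd 9689, .fwd 519, .bwd 9746],
   .loop (some (8, 2)) [.bwd 9266, .bwd 518, .bwd 8286],
   .loop (some (11, 1)) [.fwd 9259, .bwd 6191, .bwd 9693],
   .loop (some (8, 2)) [.bwd 6196, .bwd 519, .fwd 9266],
   .loop (some (7, 1)) [.fwd 9301, .bwd 6195, .bwd 9732],
   .loop (some (17, 2)) [.bwd 9333, .bwd 6215, .bwd 520, .fwd 6196, .fwd 5230],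
   .loop (some (17, 2)) [.bwd 4860, .bwd 4859, .fwd 6204, .bwd 6205, .fwd 9371],
   .loop (some (3, 2)) [.fwd 9198, .fwd 9800, .bwd 6156, .fwd 9452],
   .loop none [.fwd 9849],
   .loop none [.fwd 9452, .bwd 9850],
   .loop none [.bwd 9453, .bwd 9850],
   .loop (some (4, 2)) [.fwd 9800, .bwd 6112, .fwd 9405],
   .loop (some (17, 4)) [.fwd 9800, .bwd 4778, .bwd 7949, .fwd 3281, .fwd 3282],
   .loop (some (13, 2)) [.bwd 4785, .bwd 8315, .fwd 9333],
   .loop (some (9, 2)) [.fwd 9102, .bwd 6078, .bwd 9328],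
   .loop (some (5, 3)) [.fwd 9102, .bwd 537, .bwd 436, .bwd 9474],
   .loop none [.bwd 9857],
   .loop none [.bwd 9102, .bwd 9858],
   .loop none [.fwd 9101, .bwd 9858],
   .loop none [.fwd 9856, .bwd 9858],
   .loop (some (9, 3)) [.fwd 9138, .bwd 538, .bwd 9859, .fwd 9475],
   .loop none [.fwd 9862],
   .loop none [.bwd 9476, .bwd 9863],
   .loop (some (5, 2)) [.bwd 9801, .fwd 9199, .fwd 541, .bwd 9256],
   .loop none [.bwd 9865],
   .loop none [.fwd 9801, .bwd 9866],
   .loop none [.bwd 9468, .bwd 9866],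
   .loop (some (5, 2)) [.bwd 9868, .fwd 9256, .fwd 542, .bwd 9318],
   .loop none [.bwd 9869],
   .loop none [.bwd 9469, .bwd 9870],
   .loop none [.fwd 9868, .bwd 9870],
   .loop (some (8, 2)) [.bwd 9250, .bwd 541, .fwd 6100],
   .loop (some (1, 2)) [.fwd 9328, .bwd 543, .bwd 9318, .fwd 9871],
   .loop none [.fwd 9874],
   .loop none [.bwd 9470, .bwd 9875],
   .loop none [.fwd 9477, .bwd 9875],
   .loop (some (8, 2)) [.bwd 9313, .bwd 542, .fwd 9250],
   .loop (some (17, 2)) [.fwd 2797, .bwd 5904, .bwd 6077, .bwd 543, .fwd 9313, .fwd 9753],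
   .loop none [.fwd 9879],
   .loop none [.bwd 7676, .fwd 9880, .fwd 9754],
   .loop none [.fwd 9881],
   .loop none [.fwd 9753, .bwd 9880],
   .loop none [.fwd 3296, .fwd 9882, .fwd 9755],
   .loop none [.fwd 9884],
   .loop none [.bwd 9756, .bwd 9885],
   .loop (some (5, 2)) [.bwd 9877, .fwd 9328, .bwd 555, .fwd 9403],
   .loop none [.bwd 9887],
   .loop none [.fwd 9877, .bwd 9888],
   .loop none [.fwd 9864, .bwd 9888],
   .loop (some (8, 0)) [.fwd 9402, .bwd 4498, .bwd 548],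
   .loop (some (3, 1)) [.fwd 9659, .bwd 9405, .bwd 6110],
   .loop (some (6, 2)) [.fwd 9457, .fwd 6110, .bwd 9407, .bwd 9369],
   .loop none [.bwd 9893],
   .loop none [.bwd 9457, .bwd 9894],
   .loop none [.fwd 9456, .bwd 9894],
   .loop (some (12, 1)) [.bwd 8358, .fwd 4615, .bwd 9404],
   .loop (some (17, 3)) [.fwd 8288, .bwd 6118, .fwd 6086, .bwd 590, .fwd 8768],
   .loop (some (5, 1)) [.fwd 9023, .bwd 6108, .bwd 9460],
   .loop (some (4, 2)) [.bwd 8659, .bwd 6235, .fwd 7285],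
   .loop (some (13, 2)) [.bwd 8659, .bwd 583, .bwd 7926],
   .loop (some (8, 2)) [.bwd 8744, .bwd 588, .fwd 2929],
   .loop (some (14, 1)) [.fwd 6240, .fwd 588, .fwd 589, .bwd 8772],
   .loop (some (8, 2)) [.bwd 8768, .bwd 589, .fwd 8744],
   .loop (some (2, 2)) [.bwd 9860, .bwd 8816, .fwd 4610, .bwd 9458],
   .loop none [.fwd 9905],
   .loop none [.bwd 9458, .bwd 9906],
   .loop none [.fwd 9451, .bwd 9906],
   .loop (some (12, 1)) [.bwd 9861, .bwd 8816, .fwd 6276],
   .loop (some (2, 2)) [.fwd 8820, .fwd 5773, .fwd 5100],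
   .loop (some (15, 2)) [.fwd 8880, .fwd 6450, .bwd 5773, .bwd 5935, .bwd 6274],
   .loop (some (12, 2)) [.fwd 8820, .bwd 5937, .bwd 2797],
   .loop (some (3, 2)) [.bwd 8813, .fwd 6310, .fwd 8622],
   .loop (some (9, 3)) [.bwd 654, .fwd 6396, .fwd 8861],
   .loop (some (4, 2)) [.bwd 8622, .fwd 6468, .fwd 3853],
   .loop (some (1, 2)) [.bwd 8622, .fwd 6475, .fwd 8881],
   .loop (some (1, 2)) [.bwd 659, .fwd 6496, .fwd 8863],
   .loop (some (5, 2)) [.fwd 8866, .fwd 9917, .bwd 677, .fwd 8680],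
   .loop none [.bwd 9918],
   .loop none [.bwd 8866, .bwd 9919],
   .loop (some (20, 2)) [.fwd 8624, .fwd 7980, .fwd 6502, .fwd 676, .fwd 677, .fwd 660, .bwd 6506, .fwd 8689],
   .loop (some (3, 2)) [.bwd 8697, .bwd 8682, .bwd 5872, .fwd 8870],
   .loop none [.fwd 9922],
   .loop none [.bwd 8871, .bwd 9923],
   .loop (some (14, 2)) [.bwd 6397, .bwd 672, .bwd 8681, .fwd 9920],
   .loop (some (4, 2)) [.bwd 8682, .bwd 4232, .fwd 4165],
   .loop (some (6, 1)) [.fwd 9603, .fwd 5872, .bwd 8685],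
   .loop (some (2, 2)) [.fwd 8726, .bwd 5865, .bwd 5872, .fwd 8889],
   .loop none [.fwd 9928],
   .loop none [.fwd 8889, .bwd 9929],
   .loop none [.fwd 8725, .fwd 9929, .fwd 8890],
   .loop none [.fwd 9931],
   .loop none [.bwd 8891, .bwd 9932],
   .loop (some (7, 1)) [.fwd 4166, .fwd 4232, .bwd 8685],
   .loop (some (11, 1)) [.fwd 4163, .fwd 4232, .bwd 8681],
   .loop (some (17, 4)) [.bwd 8692, .bwd 8682, .fwd 5865, .bwd 7944, .fwd 4261, .fwd 4262],
   .loop none [.bwd 9936],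
   .loop none [.bwd 8693, .bwd 9937],
   .loop none [.fwd 8692, .bwd 9937],
   .loop (some (13, 1)) [.fwd 8696, .bwd 8682, .bwd 8681],
   .loop (some (4, 2)) [.fwd 6301, .bwd 6299, .fwd 9610],
   .loop (some (1, 2)) [.fwd 6301, .bwd 6297, .fwd 9610],
   .loop (some (5, 1)) [.fwd 9091, .fwd 6297, .bwd 6441],
   .loop (some (7, 1)) [.fwd 9091, .fwd 6299, .bwd 6441],
   .loop (some (20, 2)) [.fwd 8964, .bwd 8962, .bwd 2722, .fwd 2723, .fwd 2723, .fwd 2723, .fwd 2722, .fwd 2672],
   .loop (some (19, 2)) [.fwd 8734, .fwd 8735, .fwd 8736, .fwd 8737, .bwd 6469, .fwd 6468, .bwd 3885, .fwd 8217],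
   .loop (some (3, 1)) [.bwd 8822, .bwd 8821, .bwd 6755],
   .loop (some (13, 2)) [.bwd 8821, .bwd 1157, .fwd 2778],
   .loop (some (19, 2)) [.fwd 8968, .fwd 1231, .bwd 2106, .fwd 7502, .fwd 2106, .bwd 1231, .bwd 1228, .bwd 8968],
   .loop (some (2, 2)) [.fwd 8968, .fwd 1219, .bwd 6008],
   .loop (some (0, 2)) [.fwd 6754, .fwd 9948],
   .loop (some (10, 2)) [.fwd 6769, .bwd 9951, .fwd 8822],
   .loop (some (8, 1)) [.bwd 8965, .bwd 1229, .bwd 1212],
   .loop (some (8, 1)) [.fwd 8967, .bwd 9953, .fwd 1233],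
   .loop (some (8, 3)) [.fwd 1218, .bwd 8968, .bwd 8964],
   .loop (some (8, 1)) [.fwd 8970, .bwd 9954, .fwd 1234],
   .loop (some (8, 1)) [.bwd 8957, .bwd 1261, .bwd 1243],
   .loop (some (8, 1)) [.fwd 8959, .bwd 9957, .fwd 1265],
   .loop (some (12, 2)) [.bwd 9957, .bwd 1242, .fwd 1261],
   .loop (some (8, 3)) [.fwd 1249, .bwd 6841, .fwd 8960],
   .loop (some (17, 1)) [.fwd 6008, .fwd 1738, .fwd 6835, .fwd 1248, .bwd 9960],
   .loop (some (12, 2)) [.fwd 9960, .bwd 6812, .fwd 9957],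
   .loop (some (0, 2)) [.fwd 9959, .fwd 9962],
   .loop (some (11, 1)) [.fwd 8017, .fwd 3578, .bwd 9963],
   .loop (some (12, 2)) [.bwd 6699, .bwd 7085, .bwd 8953],
   .loop (some (19, 6)) [.fwd 8980, .fwd 2315, .fwd 1433, .bwd 3422, .fwd 6122, .fwd 505, .fwd 4411, .bwd 9442],
   .loop (some (2, 2)) [.fwd 8980, .fwd 1418, .bwd 8992],
   .loop (some (8, 1)) [.fwd 8979, .bwd 1435, .bwd 1411],
   .loop (some (8, 1)) [.fwd 8978, .bwd 9968, .fwd 1439],
   .loop (some (8, 3)) [.fwd 1417, .bwd 8980, .bwd 8973],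
   .loop (some (6, 1)) [.fwd 8991, .bwd 6010, .bwd 8979],
   .loop (some (19, 6)) [.bwd 9969, .fwd 6951, .fwd 6950, .bwd 7984, .fwd 6135, .fwd 6161, .bwd 9779, .bwd 9781],
   .loop (some (12, 2)) [.bwd 9969, .bwd 6955, .bwd 9970],
   .loop (some (19, 4)) [.fwd 8992, .fwd 1466, .fwd 2263, .fwd 6971, .bwd 6970, .fwd 1675, .bwd 9025, .bwd 9010],
   .loop (some (8, 1)) [.fwd 8991, .bwd 1464, .bwd 1447],
   .loop (some (8, 1)) [.fwd 8990, .bwd 9975, .fwd 1468],
   .loop (some (8, 3)) [.fwd 1454, .bwd 8992, .bwd 8985],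
   .loop (some (7, 1)) [.fwd 9006, .bwd 8993, .bwd 8991],
   .loop (some (2, 2)) [.bwd 9976, .bwd 6949, .fwd 9969],
   .loop (some (8, 1)) [.fwd 8996, .bwd 9976, .fwd 1469],
   .loop (some (12, 2)) [.bwd 9976, .bwd 6969, .bwd 9977],
   .loop (some (13, 0)) [.bwd 7069, .fwd 6979, .bwd 1652],
   .loop (some (3, 2)) [.bwd 8986, .bwd 5984, .fwd 8974],
   .loop (some (4, 2)) [.bwd 8986, .bwd 9025, .fwd 9001],
   .loop (some (1, 2)) [.fwd 7059, .bwd 7042, .fwd 9408],
   .loop (some (8, 2)) [.fwd 8860, .bwd 1707, .bwd 1685, .bwd 8672],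
   .loop none [.bwd 9986],
   .loop none [.fwd 8671, .fwd 9987, .bwd 9487],
   .loop none [.fwd 9988],
   .loop none [.fwd 8859, .bwd 9987],
   .loop none [.fwd 8927, .bwd 9989],
   .loop none [.fwd 8670, .fwd 9989, .fwd 9363],
   .loop none [.fwd 9992],
   .loop none [.bwd 9365, .bwd 9989],
   .loop none [.bwd 9364, .bwd 9993],
   .loop (some (17, 2)) [.bwd 2782, .bwd 2781, .fwd 7059, .fwd 1707, .fwd 8974],
   .loop (some (4, 3)) [.fwd 7068, .fwd 9947, .fwd 8823],
   .loop (some (8, 2)) [.bwd 9990, .fwd 8672, .fwd 1710, .bwd 8953],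
   .loop none [.fwd 9998]]

theorem just39_len : just39.length = 250 := by decide +kernel

theorem just39_ok : cert.okFacts 9750 just39 = true := by decide +kernel

/-- justifications -/
noncomputable def just40 : List Cert.Just :=
  [.loop none [.fwd 9312, .bwd 9999],
   .loop none [.bwd 8953, .bwd 9999],
   .loop none [.bwd 9965, .bwd 9999],
   .loop (some (13, 2)) [.fwd 9997, .bwd 1684, .bwd 7059],
   .loop (some (0, 2)) [.fwd 7061, .fwd 10003],
   .loop (some (12, 2)) [.bwd 7077, .bwd 10004, .fwd 8824],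
   .loop (some (8, 2)) [.fwd 8800, .fwd 1690, .bwd 8807],
   .loop (some (8, 3)) [.fwd 8807, .fwd 1691, .fwd 6699, .bwd 8854],
   .loop none [.fwd 10007],
   .loop none [.fwd 8853, .bwd 10008],
   .loop (some (13, 2)) [.bwd 9947, .bwd 1736, .bwd 6751],
   .loop (some (20, 8)) [.fwd 6394, .bwd 653, .bwd 320, .bwd 340, .bwd 359, .bwd 7540, .bwd 8648, .bwd 8647],
   .loop (some (7, 1)) [.fwd 7199, .fwd 1897, .bwd 10011],
   .loop (some (18, 0)) [.bwd 8733, .bwd 8732, .bwd 8804, .bwd 8648, .bwd 8647, .fwd 10011],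
   .loop (some (19, 6)) [.bwd 3005, .fwd 4096, .bwd 4115, .bwd 3217, .bwd 4800, .fwd 4256, .fwd 8703, .fwd 8704],
   .loop (some (7, 1)) [.bwd 8689, .bwd 1966, .fwd 5389],
   .loop (some (16, 4)) [.fwd 8441, .bwd 7373, .bwd 2890, .bwd 2889, .fwd 8625],
   .loop (some (8, 2)) [.fwd 2024, .fwd 8445, .bwd 2797],
   .loop (some (7, 1)) [.bwd 8760, .bwd 2477, .fwd 5801],
   .loop (some (14, 2)) [.fwd 8624, .fwd 7980, .bwd 7202, .fwd 10013],
   .loop (some (8, 2)) [.bwd 2478, .bwd 7980, .bwd 3297],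
   .loop (some (7, 2)) [.bwd 7537, .bwd 10020, .bwd 3296],
   .loop (some (19, 4)) [.bwd 8774, .bwd 8773, .bwd 3115, .fwd 4297, .bwd 4006, .bwd 4026, .bwd 4839, .bwd 7300],
   .loop (some (14, 1)) [.fwd 8759, .fwd 8678, .fwd 8679, .bwd 6521],
   .loop (some (18, 4)) [.bwd 8665, .fwd 7322, .bwd 8679, .bwd 8678, .fwd 8449, .fwd 8729],
   .loop (some (2, 2)) [.bwd 4912, .bwd 6244, .fwd 8753],
   .loop (some (0, 0)) [.fwd 10005, .fwd 7660],
   .loop (some (2, 1)) [.bwd 9983, .fwd 9996, .fwd 2783],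
   .loop (some (0, 1)) [.fwd 7675, .fwd 9912],
   .loop (some (6, 0)) [.fwd 3075, .fwd 7909, .fwd 7720],
   .loop (some (4, 1)) [.bwd 8625, .bwd 2888, .fwd 7644],
   .loop (some (7, 2)) [.bwd 7644, .bwd 6498, .bwd 8737],
   .loop (some (11, 2)) [.bwd 8625, .bwd 7553, .fwd 7472],
   .loop (some (4, 1)) [.bwd 8703, .bwd 2965, .bwd 4284],
   .loop (some (11, 2)) [.fwd 4284, .bwd 7605, .fwd 8773],
   .loop (some (11, 2)) [.bwd 8703, .bwd 7752, .fwd 7575],
   .loop (some (16, 4)) [.bwd 8703, .fwd 2966, .fwd 2967, .fwd 7760, .fwd 7981],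
   .loop (some (4, 2)) [.bwd 10022, .bwd 3006, .bwd 10014, .fwd 8705],
   .loop none [.bwd 10037],
   .loop none [.fwd 10022, .bwd 10038],
   .loop none [.fwd 8774, .bwd 10038],
   .loop none [.fwd 8705, .fwd 10038, .fwd 8775],
   .loop none [.fwd 10041],
   .loop none [.bwd 8776, .bwd 10042],
   .loop (some (11, 2)) [.fwd 10014, .bwd 7728, .bwd 4284],
   .loop (some (16, 3)) [.bwd 8777, .bwd 10043, .fwd 10014, .bwd 7727, .bwd 2871, .bwd 2870],
   .loop none [.bwd 10045],
   .loop none [.fwd 8777, .bwd 10046],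
   .loop none [.bwd 8778, .bwd 10046],
   .loop (some (7, 2)) [.fwd 10039, .bwd 7748, .fwd 8773],
   .loop (some (11, 2)) [.fwd 10039, .bwd 7754, .fwd 8703],
   .loop (some (16, 3)) [.bwd 8707, .bwd 8706, .fwd 10039, .fwd 3007, .fwd 3008, .fwd 7720],
   .loop none [.bwd 10051],
   .loop none [.fwd 8707, .bwd 10052],
   .loop none [.fwd 2868, .fwd 10052, .fwd 8708],
   .loop none [.fwd 10054],
   .loop none [.bwd 7717, .fwd 10055, .fwd 8709],
   .loop none [.fwd 10056],
   .loop none [.fwd 3011, .fwd 10057, .fwd 8710],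
   .loop none [.fwd 10058],
   .loop none [.bwd 8711, .bwd 10059],
   .loop (some (17, 0)) [.bwd 8779, .bwd 10048, .bwd 2869, .bwd 2868, .fwd 7717],
   .loop (some (4, 1)) [.bwd 7575, .bwd 3116, .fwd 8773],
   .loop (some (11, 2)) [.bwd 8773, .bwd 7749, .bwd 10014],
   .loop (some (6, 2)) [.bwd 3117, .bwd 7611, .bwd 10025],
   .loop (some (11, 2)) [.bwd 7575, .bwd 7613, .bwd 10039],
   .loop (some (12, 2)) [.bwd 7915, .bwd 7809, .fwd 10061],
   .loop (some (6, 0)) [.bwd 7785, .bwd 7916, .bwd 3133],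
   .loop (some (11, 1)) [.fwd 9925, .bwd 3140, .bwd 6526],
   .loop (some (6, 3)) [.bwd 6397, .bwd 4217, .fwd 9596],
   .loop (some (15, 4)) [.fwd 10069, .bwd 6396, .fwd 6280, .bwd 6281, .bwd 8324],
   .loop (some (8, 1)) [.fwd 9091, .bwd 3141, .bwd 8862],
   .loop (some (16, 1)) [.bwd 8653, .bwd 5734, .bwd 6525, .fwd 3140, .bwd 10069],
   .loop (some (3, 2)) [.bwd 9610, .fwd 6298, .fwd 9060],
   .loop (some (6, 1)) [.fwd 9077, .bwd 6298, .bwd 9091],
   .loop (some (8, 0)) [.fwd 2980, .bwd 10067, .fwd 7853],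
   .loop (some (16, 3)) [.fwd 8726, .fwd 4161, .bwd 5869, .bwd 6146, .bwd 6207],
   .loop (some (1, 0)) [.bwd 8928, .bwd 8310, .bwd 7949],
   .loop (some (2, 1)) [.fwd 9198, .bwd 9854, .fwd 3283],
   .loop (some (4, 3)) [.fwd 3296, .bwd 8956, .bwd 9359],
   .loop (some (14, 2)) [.fwd 8623, .fwd 8624, .fwd 7649, .bwd 8648],
   .loop (some (14, 4)) [.bwd 7907, .fwd 7906, .fwd 7798, .bwd 10064],
   .loop (some (19, 0)) [.fwd 9402, .bwd 4571, .bwd 4505, .fwd 6236, .fwd 4434, .fwd 532, .bwd 600, .fwd 5812],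
   .loop (some (3, 2)) [.bwd 9622, .fwd 6181, .fwd 6030],
   .loop (some (19, 0)) [.fwd 8980, .fwd 2315, .bwd 8980, .bwd 9966, .fwd 9442, .bwd 4411, .bwd 505, .bwd 6122],
   .loop (some (13, 2)) [.bwd 9622, .fwd 7982, .bwd 3360],
   .loop (some (3, 2)) [.bwd 9636, .fwd 6189, .fwd 9128],
   .loop (some (9, 3)) [.bwd 3355, .fwd 10084, .fwd 8972],
   .loop (some (13, 2)) [.bwd 9636, .bwd 3355, .fwd 9622],
   .loop (some (2, 2)) [.fwd 9538, .bwd 6113, .bwd 9191],
   .loop (some (5, 1)) [.bwd 8975, .fwd 9535, .fwd 3358],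
   .loop (some (10, 1)) [.fwd 9833, .fwd 6113, .bwd 9565],
   .loop (some (3, 2)) [.bwd 9530, .fwd 6197, .fwd 9233],
   .loop (some (2, 2)) [.fwd 9679, .fwd 6197, .bwd 9245],
   .loop (some (5, 1)) [.bwd 8976, .bwd 10090, .fwd 3359],
   .loop (some (10, 1)) [.fwd 9261, .bwd 6197, .bwd 9695],
   .loop (some (6, 1)) [.fwd 9320, .bwd 6200, .bwd 9750],
   .loop (some (1, 2)) [.bwd 3360, .fwd 10094, .fwd 8977],
   .loop (some (2, 2)) [.fwd 9739, .fwd 6200, .bwd 9308],
   .loop (some (8, 2)) [.fwd 9739, .bwd 3359, .bwd 9679],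
   .loop (some (5, 1)) [.fwd 8982, .fwd 10097, .bwd 3424],
   .loop (some (20, 1)) [.bwd 9128, .fwd 6059, .fwd 6037, .bwd 919, .fwd 3354, .bwd 3356, .fwd 3423, .bwd 8795],
   .loop (some (9, 2)) [.bwd 10100, .bwd 6162, .fwd 9829],
   .loop (some (3, 3)) [.fwd 6116, .fwd 9408, .fwd 9409],
   .loop (some (4, 3)) [.fwd 10103, .bwd 7994, .bwd 10103, .fwd 9410],
   .loop none [.fwd 10104],
   .loop none [.bwd 9411, .bwd 10105],
   .loop (some (17, 3)) [.bwd 9412, .bwd 10106, .fwd 10103, .fwd 3493, .fwd 5668, .bwd 9191],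
   .loop none [.bwd 10107],
   .loop none [.bwd 10089, .fwd 10108, .fwd 9413],
   .loop none [.bwd 10109],
   .loop none [.fwd 9412, .bwd 10108],
   .loop none [.fwd 10089, .bwd 10110],
   .loop none [.bwd 9414, .fwd 10110, .bwd 9564],
   .loop none [.fwd 10113],
   .loop none [.bwd 9538, .bwd 10110],
   .loop none [.fwd 9537, .bwd 10110],
   .loop none [.fwd 9563, .bwd 10114],
   .loop none [.bwd 9415, .fwd 10114, .bwd 9657],
   .loop none [.fwd 10118],
   .loop none [.fwd 9656, .bwd 10119],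
   .loop (some (13, 2)) [.fwd 10103, .fwd 7993, .bwd 3489],
   .loop (some (19, 2)) [.bwd 9825, .fwd 9824, .bwd 6121, .bwd 6127, .fwd 7983, .fwd 6967, .bwd 6912, .bwd 9970],
   .loop (some (4, 2)) [.bwd 5264, .fwd 5734, .fwd 8651],
   .loop (some (5, 1)) [.bwd 9611, .fwd 9942, .fwd 6302],
   .loop (some (7, 1)) [.bwd 9611, .fwd 9941, .fwd 6302],
   .loop (some (16, 3)) [.fwd 10073, .fwd 9941, .fwd 3637, .fwd 3638, .fwd 8053],
   .loop (some (9, 1)) [.fwd 9855, .bwd 6360, .bwd 8052],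
   .loop (some (6, 0)) [.fwd 3766, .bwd 8071, .bwd 3653],
   .loop (some (4, 3)) [.fwd 3654, .bwd 8677, .bwd 9397],
   .loop (some (19, 0)) [.bwd 9886, .fwd 3296, .fwd 3297, .fwd 7646, .fwd 5358, .bwd 7320, .bwd 3655, .bwd 3654],
   .loop (some (1, 2)) [.fwd 10129, .fwd 10130, .fwd 9757],
   .loop (some (13, 2)) [.fwd 10129, .bwd 8070, .bwd 8248],
   .loop (some (13, 2)) [.fwd 8677, .bwd 8072, .fwd 8249],
   .loop (some (14, 2)) [.fwd 8679, .bwd 7322, .fwd 7324, .bwd 8797],
   .loop (some (20, 4)) [.bwd 8758, .fwd 8729, .fwd 10024, .bwd 8665, .fwd 7321, .fwd 352, .fwd 5283, .fwd 8645],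
   .loop (some (7, 1)) [.bwd 5319, .bwd 7320, .fwd 8665],
   .loop (some (19, 8)) [.fwd 3692, .fwd 3679, .bwd 2838, .bwd 3679, .bwd 6433, .bwd 6440, .fwd 9944, .bwd 10071],
   .loop (some (5, 1)) [.fwd 9090, .bwd 9943, .fwd 6442],
   .loop (some (7, 1)) [.fwd 9090, .bwd 9944, .fwd 6442],
   .loop (some (16, 3)) [.bwd 10074, .bwd 9944, .fwd 6439, .fwd 6365, .fwd 8320],
   .loop (some (1, 0)) [.bwd 9139, .fwd 6210, .bwd 8091],
   .loop (some (2, 3)) [.fwd 3717, .fwd 7281, .bwd 8915],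
   .loop (some (17, 3)) [.fwd 3715, .fwd 3716, .bwd 10142, .bwd 8914, .bwd 8913],
   .loop (some (4, 3)) [.fwd 3718, .fwd 7279, .bwd 9595],
   .loop (some (19, 0)) [.fwd 8766, .bwd 7176, .bwd 5100, .fwd 5099, .bwd 4911, .bwd 5443, .bwd 7278, .bwd 3718],
   .loop (some (9, 2)) [.bwd 10145, .bwd 8122, .fwd 10130],
   .loop (some (19, 0)) [.bwd 8764, .bwd 6457, .fwd 6458, .fwd 6454, .fwd 5492, .fwd 5493, .bwd 7281, .fwd 3718],
   .loop (some (13, 2)) [.bwd 7279, .bwd 8125, .bwd 8677],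
   .loop (some (14, 3)) [.fwd 9323, .fwd 9324, .bwd 6048, .bwd 421, .fwd 9246],
   .loop none [.fwd 10149],
   .loop none [.bwd 9247, .bwd 10150],
   .loop none [.fwd 9246, .bwd 10150],
   .loop (some (20, 8)) [.bwd 9094, .bwd 3749, .bwd 413, .fwd 18, .fwd 418, .bwd 484, .fwd 8664, .bwd 9627, .bwd 9626],
   .loop none [.fwd 10153],
   .loop none [.bwd 9095, .fwd 10154, .bwd 9625],
   .loop none [.fwd 10155],
   .loop none [.bwd 9626, .bwd 10154],
   .loop none [.fwd 9624, .bwd 10156],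
   .loop (some (9, 2)) [.fwd 9099, .bwd 6048, .fwd 9257],
   .loop (some (12, 2)) [.bwd 5795, .bwd 6048, .fwd 8955],
   .loop (some (12, 2)) [.bwd 8138, .bwd 6220, .fwd 9313],
   .loop (some (19, 0)) [.bwd 9820, .fwd 9819, .bwd 8151, .fwd 3755, .fwd 3756, .fwd 8605, .bwd 3756, .bwd 3755],
   .loop (some (1, 2)) [.fwd 8147, .fwd 10162, .fwd 9105],
   .loop (some (4, 1)) [.fwd 9127, .bwd 3826, .fwd 7176],
   .loop (some (16, 3)) [.fwd 4140, .bwd 7176, .fwd 9910, .bwd 8839, .bwd 8838],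
   .loop (some (11, 2)) [.fwd 9127, .bwd 10160, .bwd 9359],
   .loop (some (4, 1)) [.fwd 8839, .bwd 8819, .fwd 3828],
   .loop (some (3, 0)) [.fwd 8837, .fwd 8838, .bwd 10167],
   .loop (some (2, 2)) [.bwd 3829, .fwd 10168, .bwd 8836],
   .loop (some (16, 1)) [.fwd 9126, .fwd 9127, .fwd 3827, .fwd 3828, .fwd 10168],
   .loop (some (3, 1)) [.bwd 3831, .bwd 3830, .bwd 10169],
   .loop (some (4, 1)) [.fwd 8835, .fwd 10171, .fwd 3832],
   .loop (some (3, 0)) [.fwd 8833, .fwd 8834, .bwd 10172],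
   .loop (some (2, 2)) [.bwd 3833, .fwd 10173, .bwd 8832],
   .loop (some (3, 1)) [.bwd 3835, .bwd 3834, .bwd 10174],
   .loop (some (4, 1)) [.fwd 8831, .fwd 10175, .fwd 3836],
   .loop (some (3, 0)) [.fwd 8829, .fwd 8830, .bwd 10176],
   .loop (some (2, 2)) [.bwd 3837, .fwd 10177, .bwd 8828],
   .loop (some (7, 1)) [.bwd 8623, .bwd 9915, .fwd 5101],
   .loop (some (11, 1)) [.fwd 10080, .bwd 9915, .bwd 8133],
   .loop (some (4, 2)) [.bwd 5434, .fwd 9946, .fwd 8742],
   .loop (some (11, 1)) [.fwd 8739, .bwd 9946, .bwd 5431],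
   .loop (some (4, 2)) [.bwd 6536, .fwd 8216, .fwd 8881],
   .loop (some (7, 2)) [.fwd 8737, .bwd 6476, .fwd 7176],
   .loop (some (7, 1)) [.fwd 8771, .bwd 6457, .bwd 5503],
   .loop (some (9, 2)) [.bwd 10127, .bwd 8093, .fwd 10141],
   .loop (some (13, 2)) [.bwd 8245, .bwd 8118, .bwd 10143],
   .loop (some (16, 5)) [.bwd 8247, .bwd 4179, .bwd 4178, .bwd 9434, .bwd 9433],
   .loop (some (4, 0)) [.fwd 9432, .fwd 10188, .fwd 4077],
   .loop (some (2, 2)) [.fwd 8951, .fwd 4078, .fwd 9205],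
   .loop (some (17, 2)) [.bwd 4181, .bwd 4180, .fwd 8248, .fwd 9205, .fwd 9206],
   .loop (some (12, 2)) [.bwd 9205, .bwd 8123, .fwd 7281],
   .loop (some (13, 2)) [.fwd 8248, .bwd 8123, .bwd 10144],
   .loop (some (10, 2)) [.bwd 8250, .bwd 8126, .bwd 8769],
   .loop (some (14, 3)) [.fwd 8796, .fwd 8797, .bwd 5832, .bwd 356, .fwd 8740],
   .loop none [.fwd 10195],
   .loop none [.bwd 8741, .bwd 10196],
   .loop none [.fwd 8740, .bwd 10196],
   .loop (some (9, 2)) [.fwd 8652, .bwd 5832, .bwd 8620],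
   .loop (some (1, 0)) [.bwd 9371, .bwd 8296, .fwd 8256],
   .loop (some (3, 0)) [.fwd 9126, .bwd 10164, .bwd 4140, .bwd 4139],
   .loop none [.bwd 10201],
   .loop none [.bwd 9126, .bwd 10202],
   .loop none [.fwd 10170, .bwd 10202],
   .loop none [.bwd 4139, .fwd 10202, .bwd 9125],
   .loop none [.fwd 10205],
   .loop none [.fwd 9124, .bwd 10206],
   .loop (some (10, 1)) [.fwd 9358, .fwd 10166, .bwd 10203, .bwd 8279],
   .loop none [.bwd 10208],
   .loop none [.bwd 9358, .bwd 10209],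
   .loop none [.bwd 3294, .fwd 10209, .bwd 9357],
   .loop none [.fwd 10211],
   .loop none [.fwd 9356, .bwd 10212],
   .loop (some (11, 2)) [.bwd 10204, .bwd 8279, .fwd 7973],
   .loop (some (2, 2)) [.bwd 10207, .fwd 4140, .bwd 8766],
   .loop (some (11, 2)) [.fwd 10165, .bwd 8281, .fwd 7677],
   .loop (some (12, 2)) [.bwd 10207, .bwd 8281, .fwd 10213],
   .loop (some (8, 2)) [.fwd 8766, .fwd 10184, .bwd 8736],
   .loop (some (7, 1)) [.bwd 8678, .fwd 5419, .fwd 4155],
   .loop (some (11, 1)) [.fwd 8759, .fwd 5419, .bwd 5479],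
   .loop (some (4, 2)) [.bwd 5420, .fwd 10219, .fwd 8731],
   .loop (some (11, 1)) [.fwd 10134, .bwd 10219, .fwd 8285],
   .loop (some (3, 3)) [.fwd 7944, .bwd 8726, .bwd 8725, .fwd 9933],
   .loop none [.fwd 10223],
   .loop none [.bwd 7943, .fwd 10224, .bwd 9933],
   .loop none [.fwd 10225],
   .loop none [.fwd 7407, .fwd 10224, .fwd 8892],
   .loop none [.fwd 10227],
   .loop none [.fwd 8724, .bwd 10226],
   .loop none [.bwd 5875, .fwd 10228, .fwd 8893],
   .loop none [.fwd 10230],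
   .loop none [.fwd 2009, .fwd 10231, .fwd 8894],
   .loop none [.fwd 10232],
   .loop none [.fwd 5882, .fwd 10233, .fwd 8895],
   .loop none [.fwd 10234],
   .loop none [.fwd 2493, .fwd 10235, .fwd 8896],
   .loop none [.fwd 10236],
   .loop none [.bwd 8897, .bwd 10237],
   .loop (some (9, 0)) [.bwd 10138, .fwd 5876, .fwd 7945],
   .loop (some (12, 1)) [.fwd 8681, .fwd 5865, .fwd 10239],
   .loop (some (13, 2)) [.fwd 7944, .fwd 10239, .bwd 9089],
   .loop (some (11, 2)) [.fwd 9434, .fwd 8287, .fwd 4981],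
   .loop (some (19, 0)) [.fwd 9655, .bwd 10120, .bwd 9415, .bwd 9414, .fwd 10115, .fwd 5989, .fwd 8251, .fwd 4179],
   .loop (some (10, 2)) [.fwd 8120, .bwd 8247, .bwd 10193, .bwd 9594],
   .loop none [.fwd 10244],
   .loop none [.bwd 9594, .bwd 10245],
   .loop none [.bwd 3716, .fwd 10245, .bwd 9593],
   .loop none [.fwd 10247],
   .loop none [.fwd 10142, .fwd 10248, .bwd 9592]]

theorem just40_len : just40.length = 250 := by decide +kernel

theorem just40_ok : cert.okFacts 10000 just40 = true := by decide +kernel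

/-- justifications -/
noncomputable def just41 : List Cert.Just :=
  [.loop none [.fwd 10249],
   .loop none [.fwd 9591, .bwd 10250],
   .loop (some (2, 1)) [.bwd 9207, .fwd 10191, .fwd 4182],
   .loop (some (11, 2)) [.bwd 4183, .bwd 10187, .bwd 8912],
   .loop (some (17, 1)) [.fwd 8951, .bwd 4077, .bwd 4076, .fwd 8245, .fwd 10252],
   .loop (some (10, 2)) [.fwd 8112, .bwd 8243, .bwd 10253, .bwd 8911],
   .loop none [.fwd 10255],
   .loop none [.bwd 8911, .bwd 10256],
   .loop none [.bwd 3712, .fwd 10256, .bwd 8910],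
   .loop none [.fwd 10258],
   .loop none [.fwd 8909, .bwd 10259],
   .loop (some (13, 1)) [.fwd 8116, .bwd 8244, .bwd 10253],
   .loop (some (20, 1)) [.bwd 9371, .fwd 4420, .bwd 4418, .bwd 1013, .bwd 4794, .fwd 4793, .bwd 6495, .bwd 7735],
   .loop (some (9, 1)) [.fwd 7411, .bwd 7946, .bwd 10241],
   .loop (some (2, 2)) [.bwd 4261, .fwd 7943, .fwd 10229],
   .loop (some (3, 1)) [.bwd 4263, .bwd 4262, .bwd 10264],
   .loop (some (2, 1)) [.bwd 8697, .bwd 9939, .fwd 4263],
   .loop (some (8, 0)) [.bwd 8734, .fwd 8700, .bwd 9939],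
   .loop (some (4, 1)) [.fwd 8723, .fwd 10265, .fwd 4264],
   .loop (some (3, 0)) [.fwd 8721, .fwd 8722, .bwd 10268],
   .loop (some (2, 2)) [.bwd 4265, .fwd 10269, .bwd 8720],
   .loop (some (3, 1)) [.bwd 4267, .bwd 4266, .bwd 10270],
   .loop (some (4, 1)) [.fwd 8719, .fwd 10271, .fwd 4268],
   .loop (some (3, 0)) [.fwd 8717, .fwd 8718, .bwd 10272],
   .loop (some (2, 2)) [.bwd 4269, .fwd 10273, .bwd 8716],
   .loop (some (3, 1)) [.bwd 4271, .bwd 4270, .bwd 10274],
   .loop (some (4, 1)) [.fwd 8715, .fwd 10275, .fwd 4272],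
   .loop (some (3, 0)) [.fwd 8713, .fwd 8714, .bwd 10276],
   .loop (some (2, 2)) [.bwd 4273, .fwd 10277, .bwd 8712],
   .loop (some (3, 1)) [.bwd 4275, .bwd 4274, .bwd 10278],
   .loop (some (16, 5)) [.bwd 10278, .bwd 10060, .fwd 3011, .fwd 3012, .fwd 7712],
   .loop (some (4, 0)) [.bwd 2865, .fwd 10280, .fwd 4274],
   .loop (some (16, 2)) [.bwd 7719, .bwd 2867, .bwd 2866, .bwd 10281, .fwd 4275, .fwd 4276],
   .loop none [.fwd 10282],
   .loop none [.fwd 4276, .bwd 10283],
   .loop none [.fwd 3009, .fwd 10283, .fwd 4277],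
   .loop none [.fwd 10285],
   .loop none [.bwd 7722, .fwd 10286, .fwd 4278],
   .loop none [.fwd 10287],
   .loop none [.fwd 2870, .fwd 10288, .fwd 4279],
   .loop none [.fwd 10289],
   .loop none [.bwd 10047, .fwd 10290, .fwd 4280],
   .loop none [.bwd 10291],
   .loop none [.fwd 10043, .bwd 10292],
   .loop none [.fwd 10047, .bwd 10292],
   .loop (some (3, 3)) [.fwd 10293, .fwd 8705, .fwd 8706],
   .loop (some (10, 0)) [.fwd 4283, .fwd 10044, .bwd 10293],
   .loop (some (13, 2)) [.fwd 10295, .fwd 10296, .bwd 4282],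
   .loop (some (5, 1)) [.fwd 9093, .bwd 10138, .bwd 6514],
   .loop (some (7, 1)) [.fwd 9093, .bwd 10139, .bwd 6514],
   .loop (some (14, 1)) [.fwd 9827, .fwd 4368, .bwd 6428, .bwd 7599],
   .loop (some (14, 1)) [.fwd 9855, .fwd 4786, .bwd 7597, .bwd 7600],
   .loop (some (9, 2)) [.bwd 8387, .bwd 8254, .fwd 10200],
   .loop (some (11, 2)) [.bwd 7974, .bwd 8280, .fwd 10204],
   .loop (some (11, 2)) [.bwd 7977, .bwd 8282, .bwd 10165],
   .loop (some (4, 3)) [.fwd 4329, .bwd 8812, .bwd 9165],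
   .loop (some (19, 0)) [.bwd 9205, .fwd 4079, .fwd 4080, .fwd 5252, .bwd 5291, .bwd 7539, .bwd 4330, .bwd 4329],
   .loop (some (1, 2)) [.fwd 10305, .fwd 10306, .fwd 9206],
   .loop (some (14, 2)) [.fwd 8647, .fwd 8648, .fwd 7542, .bwd 8668],
   .loop (some (10, 1)) [.bwd 9334, .fwd 9855, .fwd 6157, .bwd 9827],
   .loop none [.fwd 10309],
   .loop none [.fwd 9751, .bwd 10310],
   .loop none [.bwd 9752, .bwd 10310],
   .loop none [.fwd 10300, .bwd 10310],
   .loop none [.bwd 9827, .bwd 10310],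
   .loop (some (11, 2)) [.fwd 9819, .bwd 10314, .fwd 9335],
   .loop (some (3, 3)) [.bwd 9176, .bwd 6064, .fwd 8928, .fwd 8929],
   .loop none [.bwd 10316],
   .loop none [.fwd 8929, .fwd 10317, .fwd 9539],
   .loop none [.fwd 10318],
   .loop none [.bwd 9177, .bwd 10317],
   .loop none [.fwd 9176, .bwd 10317],
   .loop none [.bwd 9540, .bwd 10319],
   .loop (some (4, 1)) [.bwd 8930, .fwd 10321, .bwd 9170],
   .loop (some (19, 0)) [.bwd 9169, .bwd 6011, .bwd 1435, .fwd 6934, .fwd 1435, .fwd 6011, .fwd 9169, .fwd 9170],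
   .loop (some (1, 2)) [.fwd 10321, .fwd 10324, .fwd 10323],
   .loop (some (15, 2)) [.fwd 6207, .fwd 8310, .fwd 6064, .fwd 10324, .bwd 9813],
   .loop (some (16, 3)) [.fwd 9813, .fwd 9170, .bwd 6064, .bwd 6236, .bwd 6353],
   .loop (some (13, 2)) [.fwd 10321, .bwd 8302, .bwd 4400],
   .loop (some (3, 3)) [.bwd 8303, .fwd 9371, .fwd 9372],
   .loop (some (7, 3)) [.fwd 4396, .bwd 9170, .fwd 9618],
   .loop (some (13, 2)) [.fwd 10329, .bwd 4395, .bwd 10321],
   .loop (some (5, 1)) [.bwd 9612, .bwd 10124, .fwd 4399],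
   .loop (some (7, 2)) [.bwd 9612, .bwd 10125, .fwd 4399, .fwd 9571],
   .loop none [.bwd 10333],
   .loop none [.fwd 10332, .bwd 10334],
   .loop none [.bwd 9613, .bwd 10334],
   .loop none [.fwd 9612, .bwd 10334],
   .loop (some (4, 2)) [.bwd 4400, .fwd 9571, .fwd 10336],
   .loop (some (0, 2)) [.fwd 10328, .fwd 10331],
   .loop (some (1, 2)) [.bwd 4400, .bwd 10335, .fwd 10336],
   .loop (some (11, 2)) [.bwd 9571, .bwd 10339, .fwd 9373],
   .loop (some (12, 1)) [.fwd 8425, .fwd 8305, .bwd 10339],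
   .loop (some (5, 1)) [.fwd 9621, .fwd 10340, .bwd 4413],
   .loop (some (7, 2)) [.fwd 9621, .fwd 10338, .bwd 4413, .bwd 9779],
   .loop none [.fwd 10344],
   .loop none [.fwd 9778, .bwd 10345],
   .loop none [.bwd 9779, .bwd 10345],
   .loop none [.fwd 9781, .bwd 10345],
   .loop none [.bwd 9826, .bwd 10345],
   .loop (some (3, 3)) [.bwd 9651, .fwd 6158, .fwd 9139, .fwd 9140],
   .loop none [.bwd 10350],
   .loop none [.bwd 9652, .bwd 10351],
   .loop none [.fwd 9651, .bwd 10351],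
   .loop (some (4, 1)) [.bwd 9141, .fwd 10353, .bwd 9824],
   .loop (some (1, 2)) [.fwd 10353, .fwd 9821, .fwd 10354],
   .loop (some (2, 2)) [.bwd 9632, .fwd 9442, .bwd 6021, .bwd 9054],
   .loop none [.bwd 10356],
   .loop none [.fwd 9632, .bwd 10357],
   .loop (some (10, 2)) [.fwd 6021, .bwd 10349, .fwd 10346],
   .loop (some (17, 2)) [.bwd 9105, .bwd 9820, .bwd 9086, .bwd 9442, .fwd 9630],
   .loop (some (13, 1)) [.fwd 10315, .bwd 9086, .bwd 10349],
   .loop (some (15, 2)) [.fwd 4194, .fwd 8293, .bwd 8308, .fwd 10343, .fwd 10346],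
   .loop (some (16, 3)) [.bwd 10346, .fwd 10347, .fwd 8308, .fwd 8316, .fwd 8338],
   .loop (some (13, 2)) [.fwd 10312, .bwd 8309, .bwd 10353],
   .loop (some (4, 1)) [.bwd 10322, .bwd 8928, .bwd 6236],
   .loop (some (2, 1)) [.bwd 9837, .fwd 8818, .bwd 4750],
   .loop (some (1, 2)) [.bwd 10365, .fwd 8298, .bwd 7409],
   .loop (some (17, 2)) [.bwd 9542, .bwd 9541, .bwd 10365, .fwd 4505, .fwd 4604],
   .loop (some (4, 2)) [.bwd 4744, .fwd 4735, .fwd 9072],
   .loop (some (19, 6)) [.fwd 9054, .bwd 4735, .fwd 4732, .bwd 9604, .fwd 10072, .fwd 9486, .fwd 9448, .bwd 9039],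
   .loop (some (15, 4)) [.bwd 6350, .bwd 6238, .fwd 5855, .fwd 8684, .fwd 9927],
   .loop (some (8, 1)) [.fwd 9407, .bwd 4615, .bwd 4603],
   .loop (some (2, 1)) [.fwd 9369, .bwd 10372, .bwd 8359],
   .loop (some (2, 1)) [.bwd 9543, .bwd 10368, .bwd 6349],
   .loop (some (2, 1)) [.fwd 9570, .fwd 9897, .bwd 8362],
   .loop (some (8, 1)) [.bwd 9890, .fwd 9897, .fwd 4608],
   .loop (some (2, 1)) [.fwd 9137, .bwd 10376, .fwd 6275],
   .loop (some (2, 1)) [.fwd 9327, .bwd 9909, .fwd 8363],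
   .loop (some (8, 2)) [.bwd 9896, .bwd 10373, .fwd 4656, .fwd 10378],
   .loop none [.bwd 10379],
   .loop none [.fwd 9455, .bwd 10380],
   .loop none [.fwd 9462, .bwd 10380],
   .loop (some (5, 2)) [.bwd 9924, .fwd 8698, .fwd 4624, .bwd 8747],
   .loop none [.bwd 10383],
   .loop none [.bwd 8872, .bwd 10384],
   .loop (some (5, 2)) [.bwd 10385, .fwd 8747, .fwd 4625, .fwd 8621],
   .loop none [.bwd 10386],
   .loop none [.fwd 5728, .fwd 10387, .fwd 8873],
   .loop none [.fwd 10388],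
   .loop none [.fwd 8878, .bwd 10389],
   .loop (some (1, 2)) [.fwd 8802, .bwd 4626, .fwd 8621, .bwd 5728],
   .loop none [.bwd 10391],
   .loop none [.bwd 8802, .bwd 10392],
   .loop none [.fwd 8801, .bwd 10392],
   .loop (some (5, 2)) [.bwd 10390, .fwd 10393, .bwd 4657, .bwd 8954],
   .loop none [.fwd 10395],
   .loop none [.bwd 8954, .bwd 10396],
   .loop none [.fwd 8887, .bwd 10396],
   .loop (some (8, 2)) [.bwd 10375, .fwd 4627, .fwd 10377],
   .loop (some (12, 2)) [.bwd 10375, .bwd 8364, .fwd 10373],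
   .loop (some (8, 3)) [.bwd 10377, .fwd 4628, .bwd 9907, .fwd 9908],
   .loop none [.fwd 10401],
   .loop none [.bwd 10399, .fwd 10402, .fwd 9461],
   .loop none [.bwd 10403],
   .loop none [.fwd 10400, .bwd 10404],
   .loop (some (9, 3)) [.bwd 4683, .fwd 10070, .fwd 9597],
   .loop (some (15, 1)) [.fwd 9914, .fwd 6304, .bwd 6305, .bwd 8345, .bwd 10406],
   .loop (some (5, 1)) [.bwd 9599, .bwd 9911, .fwd 4686],
   .loop (some (5, 1)) [.bwd 9600, .bwd 10408, .fwd 4687],
   .loop (some (1, 2)) [.bwd 4688, .fwd 10409, .fwd 9601],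
   .loop (some (15, 1)) [.bwd 6496, .bwd 6314, .fwd 6315, .fwd 8348, .fwd 10409],
   .loop (some (15, 1)) [.fwd 9917, .fwd 6317, .bwd 6319, .bwd 8349, .bwd 10410],
   .loop (some (5, 1)) [.fwd 9606, .fwd 10410, .bwd 4699],
   .loop (some (9, 0)) [.bwd 10413, .bwd 8355, .fwd 4695],
   .loop (some (10, 1)) [.fwd 8681, .bwd 5872, .fwd 10414],
   .loop (some (7, 3)) [.fwd 4705, .fwd 10327, .bwd 9059],
   .loop (some (1, 2)) [.bwd 4725, .fwd 4763, .fwd 9072],
   .loop (some (8, 2)) [.bwd 10366, .bwd 4724, .bwd 4755],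
   .loop (some (5, 1)) [.bwd 9073, .fwd 10417, .fwd 4726],
   .loop (some (7, 1)) [.bwd 9061, .bwd 10126, .fwd 4726],
   .loop (some (5, 1)) [.bwd 9074, .bwd 10419, .fwd 4727],
   .loop (some (7, 1)) [.bwd 9062, .bwd 10420, .fwd 4727],
   .loop (some (4, 2)) [.bwd 4728, .fwd 10422, .fwd 9063],
   .loop (some (1, 2)) [.bwd 4728, .fwd 10421, .fwd 9075],
   .loop (some (15, 1)) [.fwd 10263, .fwd 4312, .bwd 8336, .fwd 8335, .fwd 10421],
   .loop (some (15, 1)) [.bwd 10138, .fwd 6382, .bwd 8328, .bwd 8337, .bwd 10424],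
   .loop (some (5, 1)) [.fwd 9083, .fwd 10424, .bwd 4738],
   .loop (some (7, 2)) [.fwd 9068, .fwd 10423, .bwd 4738, .fwd 10363],
   .loop none [.fwd 10428],
   .loop none [.bwd 10362, .bwd 10429],
   .loop none [.fwd 10346, .bwd 10429],
   .loop none [.fwd 9777, .bwd 10429],
   .loop none [.bwd 10359, .bwd 10429],
   .loop (some (9, 0)) [.bwd 10427, .bwd 8342, .fwd 4732],
   .loop (some (11, 1)) [.fwd 8321, .fwd 4766, .fwd 10434],
   .loop (some (15, 1)) [.bwd 10298, .bwd 6503, .bwd 8339, .fwd 8338, .fwd 10427],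
   .loop (some (1, 2)) [.fwd 7952, .bwd 10326, .fwd 9814],
   .loop (some (7, 1)) [.bwd 9073, .fwd 10369, .fwd 4745],
   .loop (some (7, 1)) [.bwd 9074, .bwd 10438, .fwd 4746],
   .loop (some (4, 2)) [.bwd 4747, .fwd 10439, .fwd 9075],
   .loop (some (6, 0)) [.fwd 3295, .fwd 10021, .bwd 4825],
   .loop (some (7, 2)) [.fwd 7551, .fwd 10441, .fwd 7677],
   .loop (some (14, 2)) [.fwd 9096, .fwd 9097, .bwd 6096, .bwd 9133],
   .loop (some (11, 2)) [.fwd 9361, .bwd 6096, .bwd 5989],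
   .loop (some (2, 2)) [.bwd 4859, .fwd 9785, .bwd 8638],
   .loop (some (3, 1)) [.bwd 4861, .bwd 4860, .bwd 10445],
   .loop (some (10, 2)) [.fwd 10445, .bwd 8420, .bwd 6222],
   .loop (some (4, 1)) [.fwd 8637, .fwd 10446, .fwd 4862],
   .loop (some (3, 0)) [.fwd 8635, .fwd 8636, .bwd 10448],
   .loop (some (2, 2)) [.bwd 4863, .fwd 10449, .bwd 8634],
   .loop (some (10, 2)) [.bwd 10449, .bwd 8426, .fwd 8398],
   .loop (some (3, 1)) [.bwd 4865, .bwd 4864, .bwd 10450],
   .loop (some (4, 1)) [.fwd 8633, .fwd 10452, .fwd 4866],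
   .loop (some (3, 0)) [.fwd 8631, .fwd 8632, .bwd 10453],
   .loop (some (2, 2)) [.bwd 4867, .fwd 10454, .bwd 8630],
   .loop (some (13, 2)) [.bwd 10453, .bwd 8432, .fwd 8404],
   .loop (some (3, 1)) [.bwd 4869, .bwd 4868, .bwd 10455],
   .loop (some (10, 2)) [.fwd 10455, .bwd 8434, .bwd 8407],
   .loop (some (4, 1)) [.fwd 8629, .fwd 10457, .fwd 4870],
   .loop (some (3, 0)) [.fwd 8627, .fwd 8628, .bwd 10459],
   .loop (some (10, 2)) [.bwd 10460, .bwd 8438, .fwd 8414],
   .loop (some (5, 1)) [.fwd 8545, .bwd 8444, .bwd 10031],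
   .loop (some (3, 3)) [.bwd 5450, .bwd 10025, .fwd 8754, .fwd 8755],
   .loop none [.fwd 10463],
   .loop none [.bwd 5451, .fwd 10464, .bwd 8755],
   .loop none [.fwd 10465],
   .loop none [.fwd 8754, .bwd 10466],
   .loop (some (11, 1)) [.fwd 10197, .bwd 5445, .bwd 8208],
   .loop (some (3, 1)) [.bwd 4931, .bwd 4930, .bwd 8745],
   .loop (some (19, 0)) [.bwd 8734, .bwd 9946, .bwd 8217, .fwd 8216, .fwd 5426, .fwd 5427, .fwd 5428, .fwd 5429],
   .loop (some (7, 1)) [.fwd 8702, .bwd 5504, .bwd 5413],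
   .loop (some (14, 2)) [.fwd 9730, .fwd 8920, .fwd 8921, .bwd 6119, .bwd 9097],
   .loop none [.bwd 10472],
   .loop none [.fwd 9729, .bwd 10473],
   .loop none [.bwd 9730, .bwd 10473],
   .loop (some (5, 2)) [.fwd 9568, .bwd 8593, .bwd 9646],
   .loop (some (10, 2)) [.bwd 8457, .bwd 8427, .fwd 10449],
   .loop (some (13, 2)) [.bwd 8456, .bwd 8427, .fwd 10448],
   .loop (some (10, 2)) [.bwd 8461, .bwd 8433, .fwd 10454],
   .loop (some (10, 2)) [.bwd 8465, .bwd 8439, .fwd 10460],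
   .loop (some (14, 2)) [.fwd 9168, .fwd 6160, .bwd 6060, .bwd 9324],
   .loop (some (8, 2)) [.bwd 8811, .bwd 6160, .bwd 5144],
   .loop (some (11, 2)) [.fwd 9129, .bwd 6060, .fwd 6028],
   .loop (some (19, 0)) [.bwd 9142, .bwd 9141, .fwd 10352, .fwd 5073, .fwd 5074, .fwd 8587, .bwd 5074, .bwd 5073],
   .loop (some (1, 2)) [.fwd 8470, .fwd 10484, .fwd 9143],
   .loop (some (11, 1)) [.fwd 10019, .bwd 10179, .bwd 7547],
   .loop (some (13, 2)) [.bwd 5137, .bwd 10479, .fwd 8631],
   .loop (some (0, 1)) [.fwd 10487, .fwd 8611],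
   .loop (some (13, 2)) [.bwd 5141, .bwd 10477, .fwd 8635],
   .loop (some (0, 1)) [.fwd 10489, .fwd 8615],
   .loop (some (14, 2)) [.fwd 9297, .fwd 9167, .fwd 9168, .bwd 9796, .bwd 9627],
   .loop none [.fwd 10491],
   .loop none [.fwd 10157, .bwd 10492],
   .loop none [.bwd 9627, .bwd 10492],
   .loop (some (12, 2)) [.bwd 5192, .bwd 8139, .bwd 9308],
   .loop (some (8, 0)) [.fwd 7343, .fwd 10301, .bwd 9847],
   .loop (some (19, 0)) [.bwd 9336, .bwd 9335, .fwd 10311, .fwd 5232, .fwd 5233, .fwd 8594, .bwd 5233, .bwd 5232],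
   .loop (some (1, 2)) [.bwd 8155, .fwd 10497, .fwd 9337],
   .loop (some (8, 0)) [.bwd 6515, .bwd 10313, .fwd 10311]]

theorem just41_len : just41.length = 250 := by decide +kernel

theorem just41_ok : cert.okFacts 10250 just41 = true := by decide +kernel

/-- justifications -/
noncomputable def just42 : List Cert.Just :=
  [.loop (some (11, 1)) [.fwd 10308, .fwd 10012, .bwd 8466],
   .loop (some (7, 0)) [.fwd 9595, .fwd 8471, .bwd 5307],
   .loop (some (9, 2)) [.fwd 10485, .bwd 8472, .bwd 10163],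
   .loop (some (14, 2)) [.fwd 8921, .bwd 8593, .bwd 8469, .bwd 9780],
   .loop (some (20, 7)) [.bwd 9298, .bwd 6188, .fwd 478, .fwd 6172, .bwd 10158, .fwd 9096, .fwd 10474, .fwd 9667],
   .loop (some (18, 3)) [.fwd 9667, .fwd 10504, .bwd 9298, .fwd 8593, .bwd 8921, .bwd 8920],
   .loop (some (4, 2)) [.bwd 5320, .bwd 10136, .fwd 8666],
   .loop (some (7, 1)) [.fwd 10024, .fwd 10136, .fwd 8191],
   .loop (some (11, 2)) [.fwd 10136, .bwd 8229, .fwd 10015],
   .loop (some (11, 2)) [.bwd 10500, .bwd 8180, .bwd 5476],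
   .loop (some (7, 0)) [.bwd 5232, .fwd 10499, .fwd 7337],
   .loop (some (8, 0)) [.bwd 5233, .bwd 10510, .fwd 5364],
   .loop (some (6, 0)) [.fwd 8570, .fwd 10511, .bwd 8550],
   .loop (some (7, 2)) [.fwd 8565, .fwd 10512, .bwd 8525],
   .loop (some (8, 0)) [.bwd 5241, .bwd 10512, .fwd 5372],
   .loop (some (4, 0)) [.bwd 8761, .bwd 10018, .fwd 5489],
   .loop (some (7, 1)) [.bwd 8687, .bwd 10515, .fwd 5387],
   .loop (some (4, 1)) [.bwd 10500, .fwd 8179, .fwd 10516],
   .loop (some (11, 2)) [.bwd 10015, .bwd 8203, .fwd 10471],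
   .loop (some (11, 2)) [.bwd 10471, .bwd 8447, .bwd 10136],
   .loop (some (16, 4)) [.bwd 10507, .bwd 8086, .bwd 3932, .bwd 3931, .bwd 8227],
   .loop (some (0, 1)) [.fwd 8759, .fwd 8452],
   .loop (some (8, 2)) [.fwd 8752, .fwd 8449, .fwd 8756],
   .loop (some (7, 1)) [.bwd 8732, .fwd 10221, .fwd 5421],
   .loop (some (11, 2)) [.bwd 10523, .bwd 7198, .bwd 6468],
   .loop (some (19, 0)) [.fwd 8736, .fwd 8737, .bwd 6469, .fwd 6468, .bwd 4889, .bwd 5410, .fwd 5411, .bwd 5429],
   .loop (some (7, 2)) [.bwd 10182, .bwd 8448, .bwd 10181],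
   .loop (some (6, 2)) [.bwd 8748, .bwd 8449, .bwd 8728],
   .loop (some (11, 2)) [.fwd 5476, .bwd 8200, .bwd 10012],
   .loop (some (6, 0)) [.bwd 8748, .fwd 8729, .bwd 10520],
   .loop (some (14, 4)) [.bwd 10528, .fwd 10011, .fwd 7202, .fwd 8760],
   .loop (some (11, 2)) [.bwd 10185, .bwd 8451, .bwd 10181],
   .loop (some (10, 2)) [.bwd 8762, .bwd 8452, .bwd 8728],
   .loop (some (10, 0)) [.bwd 8780, .fwd 10066, .bwd 5512],
   .loop (some (12, 1)) [.fwd 7807, .bwd 7912, .fwd 10533],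
   .loop (some (11, 2)) [.bwd 10222, .bwd 8211, .fwd 10515],
   .loop (some (5, 1)) [.fwd 10006, .bwd 9534, .fwd 6091],
   .loop (some (9, 2)) [.fwd 10163, .bwd 8149, .bwd 10498],
   .loop (some (14, 3)) [.fwd 9237, .fwd 9780, .bwd 8144, .bwd 481, .fwd 9682],
   .loop none [.fwd 10538],
   .loop none [.bwd 9683, .bwd 10539],
   .loop none [.fwd 9682, .bwd 10539],
   .loop (some (9, 2)) [.fwd 9631, .bwd 8144, .fwd 9690],
   .loop (some (5, 1)) [.bwd 8856, .fwd 9828, .fwd 5669],
   .loop (some (12, 2)) [.fwd 9191, .bwd 9833, .bwd 8794],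
   .loop (some (5, 1)) [.bwd 8857, .bwd 10543, .fwd 5670],
   .loop (some (8, 2)) [.fwd 9245, .bwd 5669, .bwd 9191],
   .loop (some (8, 2)) [.fwd 9308, .bwd 5670, .bwd 9245],
   .loop (some (10, 0)) [.fwd 10425, .fwd 10241, .fwd 7943],
   .loop (some (15, 1)) [.fwd 10325, .bwd 8929, .bwd 10077, .fwd 7948, .bwd 10437],
   .loop (some (2, 0)) [.bwd 9525, .bwd 8798, .bwd 10394, .bwd 5727],
   .loop none [.bwd 10550],
   .loop none [.bwd 9489, .bwd 10551],
   .loop (some (13, 2)) [.bwd 5754, .bwd 10005, .fwd 8825],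
   .loop (some (0, 1)) [.fwd 10553, .fwd 7661],
   .loop (some (10, 2)) [.bwd 5755, .bwd 10553, .fwd 8826],
   .loop (some (11, 2)) [.bwd 5756, .bwd 10555, .fwd 8827],
   .loop (some (12, 2)) [.bwd 5757, .bwd 10556, .fwd 8828],
   .loop (some (13, 2)) [.bwd 5758, .bwd 10557, .fwd 8829],
   .loop (some (10, 2)) [.bwd 5759, .bwd 10558, .fwd 8830],
   .loop (some (11, 2)) [.bwd 5760, .bwd 10559, .fwd 8831],
   .loop (some (12, 2)) [.bwd 5761, .bwd 10560, .fwd 8832],
   .loop (some (0, 1)) [.fwd 10561, .fwd 7668],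
   .loop (some (13, 2)) [.bwd 5762, .bwd 10561, .fwd 8833],
   .loop (some (0, 1)) [.fwd 10563, .fwd 7669],
   .loop (some (10, 2)) [.bwd 5763, .bwd 10563, .fwd 8834],
   .loop (some (0, 1)) [.fwd 10565, .fwd 7670],
   .loop (some (11, 2)) [.bwd 5764, .bwd 10565, .fwd 8835],
   .loop (some (0, 1)) [.fwd 10567, .fwd 7671],
   .loop (some (10, 2)) [.bwd 5767, .bwd 10304, .fwd 8838],
   .loop (some (6, 1)) [.bwd 8814, .bwd 9913, .fwd 8623],
   .loop (some (5, 1)) [.bwd 8882, .fwd 9916, .fwd 8623],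
   .loop (some (14, 2)) [.bwd 10493, .fwd 10494, .fwd 9797, .bwd 9180],
   .loop (some (14, 0)) [.bwd 8687, .fwd 10535, .fwd 8797, .fwd 8645],
   .loop (some (12, 2)) [.bwd 9492, .bwd 10199, .fwd 8764],
   .loop (some (2, 1)) [.fwd 10426, .fwd 10240, .bwd 10415],
   .loop (some (8, 1)) [.fwd 9093, .fwd 10240, .fwd 9920],
   .loop (some (10, 1)) [.fwd 10217, .bwd 10215, .bwd 10146],
   .loop (some (7, 2)) [.fwd 9165, .bwd 10482, .bwd 5143],
   .loop (some (6, 2)) [.bwd 9808, .bwd 9196, .fwd 8844, .fwd 9253],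
   .loop none [.bwd 10579],
   .loop none [.fwd 9808, .bwd 10580],
   .loop none [.bwd 9447, .bwd 10580],
   .loop (some (7, 1)) [.bwd 8856, .fwd 9809, .fwd 8844],
   .loop (some (17, 1)) [.bwd 8932, .bwd 8931, .bwd 10323, .bwd 9169, .fwd 8843, .fwd 9185],
   .loop none [.fwd 10584],
   .loop none [.bwd 9186, .bwd 10585],
   .loop none [.fwd 9185, .bwd 10585],
   .loop (some (6, 2)) [.bwd 10582, .bwd 9253, .fwd 8845, .fwd 9315],
   .loop none [.bwd 10588],
   .loop none [.fwd 10582, .bwd 10589],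
   .loop (some (7, 1)) [.bwd 8857, .bwd 10583, .fwd 8845],
   .loop (some (8, 2)) [.bwd 9302, .bwd 8845, .fwd 9239],
   .loop (some (4, 2)) [.bwd 9047, .fwd 9448, .fwd 9031],
   .loop (some (11, 2)) [.bwd 9448, .bwd 10552, .bwd 5726],
   .loop (some (2, 1)) [.bwd 10074, .bwd 10071, .bwd 10407],
   .loop (some (2, 1)) [.fwd 10436, .bwd 10576, .bwd 10412],
   .loop (some (17, 4)) [.bwd 8898, .bwd 10238, .bwd 7412, .fwd 2012, .fwd 2013],
   .loop (some (2, 1)) [.bwd 2014, .fwd 10597, .fwd 8899],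
   .loop (some (6, 1)) [.bwd 9399, .fwd 9665, .fwd 8920],
   .loop (some (13, 2)) [.fwd 9788, .bwd 10503, .fwd 9238],
   .loop (some (6, 2)) [.bwd 9048, .fwd 9478, .fwd 9438, .fwd 9686],
   .loop none [.fwd 10601],
   .loop none [.bwd 9687, .bwd 10602],
   .loop none [.fwd 9686, .bwd 10602],
   .loop (some (7, 1)) [.bwd 8975, .fwd 9479, .fwd 9438],
   .loop (some (16, 2)) [.fwd 9984, .bwd 9983, .fwd 9479, .bwd 9478, .bwd 10593],
   .loop (some (9, 2)) [.fwd 10325, .bwd 10328, .bwd 10335],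
   .loop (some (19, 4)) [.bwd 4815, .bwd 4814, .bwd 10320, .fwd 8930, .fwd 10325, .fwd 10320, .fwd 4814, .fwd 4815],
   .loop (some (0, 0)) [.fwd 10341, .fwd 10607],
   .loop (some (2, 2)) [.bwd 8931, .bwd 10549, .bwd 9225],
   .loop (some (12, 2)) [.bwd 8931, .bwd 10607, .fwd 9572],
   .loop (some (3, 1)) [.bwd 8933, .bwd 8932, .bwd 10610],
   .loop (some (13, 2)) [.bwd 8932, .bwd 10611, .fwd 9573],
   .loop (some (19, 0)) [.bwd 5822, .bwd 6062, .bwd 9191, .bwd 9190, .bwd 9189, .bwd 9188, .bwd 9187, .bwd 10586],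
   .loop (some (1, 2)) [.fwd 8932, .fwd 10614, .fwd 8392],
   .loop (some (2, 1)) [.bwd 9196, .bwd 10587, .fwd 8933],
   .loop (some (10, 2)) [.bwd 8933, .bwd 10613, .fwd 9574],
   .loop (some (12, 1)) [.fwd 9193, .bwd 10587, .bwd 10613],
   .loop (some (4, 1)) [.fwd 9224, .fwd 10612, .fwd 8934],
   .loop (some (11, 2)) [.bwd 8934, .bwd 10617, .fwd 9575],
   .loop (some (3, 0)) [.fwd 9222, .fwd 9223, .bwd 10619],
   .loop (some (2, 2)) [.bwd 8935, .fwd 10621, .bwd 9221],
   .loop (some (12, 2)) [.bwd 8935, .bwd 10620, .fwd 9576],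
   .loop (some (3, 1)) [.bwd 8937, .bwd 8936, .bwd 10622],
   .loop (some (13, 2)) [.bwd 8936, .bwd 10623, .fwd 9577],
   .loop (some (10, 2)) [.bwd 8937, .bwd 10625, .fwd 9578],
   .loop (some (4, 1)) [.fwd 9220, .fwd 10624, .fwd 8938],
   .loop (some (11, 2)) [.bwd 8938, .bwd 10626, .fwd 9579],
   .loop (some (3, 0)) [.fwd 9218, .fwd 9219, .bwd 10627],
   .loop (some (2, 2)) [.bwd 8939, .fwd 10629, .bwd 9217],
   .loop (some (12, 2)) [.bwd 8939, .bwd 10628, .fwd 9580],
   .loop (some (3, 1)) [.bwd 8941, .bwd 8940, .bwd 10630],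
   .loop (some (13, 2)) [.bwd 8940, .bwd 10631, .fwd 9581],
   .loop (some (10, 2)) [.bwd 8941, .bwd 10633, .fwd 9582],
   .loop (some (4, 1)) [.fwd 9216, .fwd 10632, .fwd 8942],
   .loop (some (11, 2)) [.bwd 8942, .bwd 10634, .fwd 9583],
   .loop (some (3, 0)) [.fwd 9214, .fwd 9215, .bwd 10635],
   .loop (some (2, 2)) [.bwd 8943, .fwd 10637, .bwd 9213],
   .loop (some (12, 2)) [.bwd 8943, .bwd 10636, .fwd 9584],
   .loop (some (3, 1)) [.bwd 8945, .bwd 8944, .bwd 10638],
   .loop (some (13, 2)) [.bwd 8944, .bwd 10639, .fwd 9585],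
   .loop (some (10, 2)) [.bwd 8945, .bwd 10641, .fwd 9586],
   .loop (some (4, 1)) [.fwd 9212, .fwd 10640, .fwd 8946],
   .loop (some (11, 2)) [.bwd 8946, .bwd 10642, .fwd 9587],
   .loop (some (3, 0)) [.fwd 9210, .fwd 9211, .bwd 10643],
   .loop (some (2, 2)) [.bwd 8947, .fwd 10645, .bwd 9209],
   .loop (some (11, 2)) [.fwd 9359, .bwd 9322, .bwd 9165],
   .loop (some (16, 2)) [.fwd 10370, .fwd 10358, .fwd 9966, .bwd 9967, .bwd 9974],
   .loop (some (6, 1)) [.bwd 8987, .bwd 9983, .fwd 8975],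
   .loop (some (6, 1)) [.bwd 8988, .bwd 10649, .fwd 8976],
   .loop (some (7, 1)) [.bwd 9439, .fwd 10605, .fwd 8976],
   .loop (some (14, 2)) [.bwd 8979, .bwd 8978, .bwd 9973, .fwd 8981],
   .loop (some (6, 1)) [.fwd 8996, .bwd 9979, .bwd 8982],
   .loop (some (7, 1)) [.fwd 9784, .fwd 9972, .bwd 8982],
   .loop (some (19, 7)) [.fwd 9815, .bwd 9829, .fwd 7986, .bwd 7996, .bwd 7986, .bwd 6065, .bwd 6143, .bwd 10330],
   .loop (some (19, 7)) [.bwd 10654, .bwd 10100, .fwd 7985, .bwd 7995, .bwd 7985, .bwd 6138, .fwd 6126, .bwd 10338],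
   .loop (some (10, 2)) [.bwd 10653, .bwd 10102, .fwd 9971],
   .loop (some (7, 3)) [.fwd 8985, .bwd 9974, .bwd 8999],
   .loop (some (7, 1)) [.bwd 9002, .fwd 9984, .fwd 8987],
   .loop (some (7, 1)) [.bwd 9003, .bwd 10659, .fwd 8988],
   .loop (some (4, 2)) [.bwd 8989, .fwd 10660, .fwd 9004],
   .loop (some (7, 1)) [.fwd 9012, .fwd 10661, .bwd 8996],
   .loop (some (11, 2)) [.fwd 10661, .bwd 9981, .bwd 10658],
   .loop (some (6, 1)) [.fwd 9036, .bwd 9007, .bwd 9006],
   .loop (some (1, 2)) [.bwd 9016, .fwd 9009, .fwd 9001],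
   .loop (some (11, 2)) [.bwd 10662, .bwd 10657, .fwd 9978],
   .loop (some (3, 3)) [.fwd 10648, .fwd 9495, .fwd 9496],
   .loop (some (14, 0)) [.fwd 9005, .fwd 10666, .bwd 9011, .fwd 8999],
   .loop (some (4, 1)) [.bwd 9497, .fwd 10667, .fwd 9974],
   .loop (some (19, 0)) [.fwd 9024, .bwd 8993, .bwd 1464, .bwd 6971, .bwd 2263, .bwd 1466, .bwd 8992, .bwd 9974],
   .loop (some (8, 1)) [.fwd 9021, .bwd 9010, .bwd 8999],
   .loop (some (10, 0)) [.fwd 5725, .fwd 10594, .bwd 9022],
   .loop (some (12, 1)) [.bwd 10668, .fwd 9010, .fwd 10672],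
   .loop (some (6, 1)) [.bwd 9032, .fwd 10606, .fwd 9002],
   .loop (some (5, 1)) [.bwd 9017, .bwd 10665, .fwd 9002],
   .loop (some (6, 1)) [.bwd 9033, .bwd 10674, .fwd 9003],
   .loop (some (5, 1)) [.bwd 9018, .bwd 10675, .fwd 9003],
   .loop (some (16, 1)) [.fwd 10604, .fwd 10605, .fwd 10649, .fwd 10659, .fwd 10674],
   .loop (some (3, 2)) [.bwd 9004, .fwd 10676, .fwd 9034],
   .loop (some (1, 2)) [.bwd 9004, .fwd 10677, .fwd 9019],
   .loop (some (16, 1)) [.bwd 9743, .bwd 10651, .fwd 10650, .fwd 10660, .fwd 10676],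
   .loop (some (6, 1)) [.fwd 9043, .fwd 10679, .bwd 9012],
   .loop (some (5, 1)) [.fwd 9027, .fwd 10680, .bwd 9012],
   .loop (some (12, 2)) [.fwd 10673, .bwd 10663, .fwd 10671],
   .loop (some (16, 1)) [.bwd 9810, .fwd 9815, .fwd 9971, .fwd 9978, .fwd 10664],
   .loop (some (19, 1)) [.fwd 10673, .fwd 10661, .bwd 9976, .fwd 6981, .bwd 6992, .fwd 6977, .fwd 9980, .fwd 10662, .fwd 10683],
   .loop none [.fwd 10686],
   .loop none [.bwd 9027, .bwd 10687],
   .loop none [.fwd 9026, .bwd 10687],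
   .loop (some (10, 2)) [.bwd 10682, .bwd 10666, .fwd 10664],
   .loop (some (14, 0)) [.fwd 9020, .fwd 10684, .fwd 10689, .fwd 9015],
   .loop (some (7, 2)) [.bwd 9049, .bwd 10678, .fwd 9033, .fwd 10681],
   .loop none [.fwd 10692],
   .loop none [.bwd 9744, .bwd 10693],
   .loop none [.fwd 9743, .bwd 10693],
   .loop none [.fwd 10681, .bwd 10693],
   .loop (some (4, 2)) [.bwd 9034, .bwd 10696, .fwd 9050],
   .loop (some (7, 1)) [.fwd 9056, .fwd 10697, .bwd 9043],
   .loop (some (16, 4)) [.fwd 10697, .fwd 10679, .fwd 10661, .bwd 9979, .bwd 9972],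
   .loop (some (11, 2)) [.bwd 10698, .bwd 10690, .fwd 10685],
   .loop (some (14, 0)) [.fwd 9051, .fwd 10700, .bwd 9055, .fwd 9046],
   .loop (some (12, 1)) [.fwd 10433, .bwd 9054, .fwd 10701],
   .loop (some (5, 2)) [.bwd 9658, .fwd 9048, .fwd 10603],
   .loop (some (5, 2)) [.bwd 10603, .fwd 9049, .fwd 10694],
   .loop (some (8, 1)) [.fwd 9067, .bwd 10702, .fwd 9051],
   .loop (some (3, 2)) [.bwd 10432, .fwd 10431, .fwd 10361],
   .loop (some (1, 2)) [.bwd 10432, .fwd 10430, .bwd 4193],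
   .loop (some (0, 0)) [.fwd 9232, .fwd 10572],
   .loop (some (13, 1)) [.fwd 10443, .bwd 9095, .bwd 10572],
   .loop (some (20, 3)) [.fwd 9167, .fwd 9235, .bwd 9362, .bwd 9097, .bwd 9096, .bwd 9095, .bwd 10493, .bwd 9296],
   .loop (some (14, 0)) [.fwd 9654, .fwd 8144, .bwd 10158, .fwd 9096],
   .loop (some (10, 2)) [.bwd 9106, .bwd 10537, .fwd 9338],
   .loop (some (12, 1)) [.bwd 9733, .fwd 10542, .fwd 10360, .bwd 10537],
   .loop none [.bwd 10713],
   .loop none [.bwd 9734, .bwd 10714],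
   .loop none [.fwd 9733, .bwd 10714],
   .loop (some (11, 2)) [.bwd 9107, .bwd 10712, .fwd 9339],
   .loop (some (12, 2)) [.bwd 9108, .bwd 10717, .fwd 9340],
   .loop (some (13, 2)) [.bwd 9109, .bwd 10718, .fwd 9341],
   .loop (some (10, 2)) [.bwd 9110, .bwd 10719, .fwd 9342],
   .loop (some (11, 2)) [.bwd 9111, .bwd 10720, .fwd 9343],
   .loop (some (12, 2)) [.bwd 9112, .bwd 10721, .fwd 9344],
   .loop (some (13, 2)) [.bwd 9113, .bwd 10722, .fwd 9345],
   .loop (some (10, 2)) [.bwd 9114, .bwd 10723, .fwd 9346],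
   .loop (some (11, 2)) [.bwd 9115, .bwd 10724, .fwd 9347],
   .loop (some (12, 2)) [.bwd 9116, .bwd 10725, .fwd 9348],
   .loop (some (13, 2)) [.bwd 9117, .bwd 10726, .fwd 9349],
   .loop (some (10, 2)) [.bwd 9118, .bwd 10727, .fwd 9350],
   .loop (some (11, 2)) [.bwd 9119, .bwd 10728, .fwd 9351],
   .loop (some (14, 0)) [.bwd 9181, .fwd 9796, .fwd 6160, .fwd 9130],
   .loop (some (20, 8)) [.fwd 9131, .fwd 9132, .bwd 10709, .fwd 9180, .fwd 420, .fwd 9166, .bwd 10710, .fwd 9231],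
   .loop (some (20, 2)) [.bwd 9667, .bwd 10505, .bwd 8919, .bwd 480, .bwd 9133, .bwd 9132, .bwd 9131, .bwd 10731],
   .loop (some (19, 8)) [.fwd 9138, .fwd 6054, .fwd 5783, .fwd 7528, .fwd 6443, .fwd 6282, .fwd 6365, .bwd 9838],
   .loop (some (17, 2)) [.bwd 9645, .bwd 9825, .fwd 10354, .fwd 9142, .fwd 9143],
   .loop (some (10, 2)) [.bwd 9144, .bwd 10502, .fwd 9106],
   .loop (some (0, 0)) [.fwd 10712, .fwd 10735],
   .loop (some (11, 2)) [.bwd 9145, .bwd 10735, .fwd 9107],
   .loop (some (12, 2)) [.bwd 9146, .bwd 10737, .fwd 9108],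
   .loop (some (0, 0)) [.fwd 10718, .fwd 10738],
   .loop (some (13, 2)) [.bwd 9147, .bwd 10738, .fwd 9109],
   .loop (some (0, 0)) [.fwd 10719, .fwd 10740],
   .loop (some (10, 2)) [.bwd 9148, .bwd 10740, .fwd 9110],
   .loop (some (11, 2)) [.bwd 9149, .bwd 10742, .fwd 9111],
   .loop (some (0, 0)) [.fwd 10721, .fwd 10743],
   .loop (some (12, 2)) [.bwd 9150, .bwd 10743, .fwd 9112],
   .loop (some (13, 2)) [.bwd 9151, .bwd 10745, .fwd 9113],
   .loop (some (10, 2)) [.bwd 9152, .bwd 10746, .fwd 9114],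
   .loop (some (11, 2)) [.bwd 9153, .bwd 10747, .fwd 9115],
   .loop (some (12, 2)) [.bwd 9154, .bwd 10748, .fwd 9116]]

theorem just42_len : just42.length = 250 := by decide +kernel

theorem just42_ok : cert.okFacts 10500 just42 = true := by decide +kernel

/-- justifications -/
noncomputable def just43 : List Cert.Just :=
  [.loop (some (13, 2)) [.bwd 9155, .bwd 10749, .fwd 9117],
   .loop (some (10, 2)) [.bwd 9156, .bwd 10750, .fwd 9118],
   .loop (some (11, 2)) [.bwd 9157, .bwd 10751, .fwd 9119],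
   .loop (some (0, 0)) [.fwd 10729, .fwd 10752],
   .loop (some (12, 2)) [.bwd 9158, .bwd 10752, .fwd 9120],
   .loop (some (13, 2)) [.bwd 9159, .bwd 10754, .fwd 9121],
   .loop (some (10, 2)) [.bwd 9160, .bwd 10755, .fwd 9122],
   .loop (some (11, 2)) [.bwd 9161, .bwd 10756, .fwd 9123],
   .loop (some (0, 0)) [.fwd 10217, .fwd 10757],
   .loop (some (12, 3)) [.bwd 9162, .bwd 10757, .bwd 10207, .fwd 8282],
   .loop none [.bwd 10759],
   .loop none [.fwd 9162, .bwd 10760],
   .loop none [.fwd 4327, .fwd 10760, .fwd 9163],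
   .loop none [.fwd 10762],
   .loop none [.bwd 9164, .bwd 10763],
   .loop (some (6, 2)) [.fwd 10764, .bwd 10578, .bwd 5142],
   .loop (some (8, 2)) [.fwd 9265, .bwd 10710, .fwd 9294],
   .loop (some (13, 2)) [.bwd 9235, .bwd 10481, .fwd 9793],
   .loop (some (14, 2)) [.bwd 9202, .bwd 9201, .bwd 9178, .bwd 9167],
   .loop (some (14, 2)) [.fwd 10494, .fwd 9181, .bwd 10600, .fwd 9202],
   .loop (some (10, 2)) [.bwd 9300, .bwd 10768, .bwd 9229],
   .loop (some (11, 2)) [.bwd 9319, .bwd 10768, .bwd 9234],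
   .loop (some (3, 2)) [.bwd 10111, .bwd 10112, .fwd 10116],
   .loop (some (5, 2)) [.bwd 9852, .bwd 9197, .bwd 10581, .fwd 9254],
   .loop none [.bwd 10773],
   .loop none [.fwd 9852, .bwd 10774],
   .loop none [.bwd 9454, .bwd 10774],
   .loop (some (7, 1)) [.fwd 9840, .fwd 9853, .bwd 9867],
   .loop (some (6, 2)) [.bwd 9258, .fwd 10710, .bwd 9229],
   .loop (some (3, 2)) [.bwd 9701, .bwd 9700, .fwd 9251, .fwd 9262],
   .loop none [.bwd 10779],
   .loop none [.fwd 9701, .bwd 10780],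
   .loop none [.bwd 9702, .bwd 10780],
   .loop (some (5, 2)) [.bwd 10776, .bwd 9254, .bwd 10590, .fwd 9316],
   .loop none [.bwd 10783],
   .loop none [.fwd 10381, .bwd 10784],
   .loop none [.fwd 10776, .bwd 10784],
   .loop (some (7, 1)) [.fwd 9842, .bwd 10777, .bwd 9872],
   .loop (some (7, 2)) [.fwd 9844, .bwd 10778, .fwd 9841],
   .loop (some (3, 2)) [.bwd 9268, .bwd 9267, .fwd 9684, .fwd 9696],
   .loop none [.fwd 10789],
   .loop none [.bwd 9697, .bwd 10790],
   .loop none [.fwd 9696, .bwd 10790],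
   .loop (some (11, 2)) [.fwd 9846, .bwd 10770, .fwd 9841],
   .loop (some (7, 2)) [.bwd 9303, .bwd 10592, .fwd 9240],
   .loop (some (8, 0)) [.bwd 9241, .fwd 10794, .fwd 9304],
   .loop (some (7, 0)) [.fwd 9244, .fwd 10547, .bwd 9307],
   .loop (some (10, 2)) [.fwd 10096, .bwd 10771, .fwd 10092],
   .loop (some (2, 2)) [.bwd 9336, .fwd 10706, .bwd 9776],
   .loop (some (3, 1)) [.bwd 9338, .bwd 9337, .bwd 10798],
   .loop (some (2, 1)) [.fwd 10695, .bwd 10716, .fwd 9338],
   .loop (some (4, 1)) [.fwd 9775, .fwd 10799, .fwd 9339],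
   .loop (some (3, 0)) [.fwd 9773, .fwd 9774, .bwd 10801],
   .loop (some (2, 2)) [.bwd 9340, .fwd 10802, .bwd 9772],
   .loop (some (3, 1)) [.bwd 9342, .bwd 9341, .bwd 10803],
   .loop (some (4, 1)) [.fwd 9771, .fwd 10804, .fwd 9343],
   .loop (some (3, 0)) [.fwd 9769, .fwd 9770, .bwd 10805],
   .loop (some (2, 2)) [.bwd 9344, .fwd 10806, .bwd 9768],
   .loop (some (3, 1)) [.bwd 9346, .bwd 9345, .bwd 10807],
   .loop (some (4, 1)) [.fwd 9767, .fwd 10808, .fwd 9347],
   .loop (some (3, 0)) [.fwd 9765, .fwd 9766, .bwd 10809],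
   .loop (some (2, 2)) [.bwd 9348, .fwd 10810, .bwd 9764],
   .loop (some (3, 1)) [.bwd 9350, .bwd 9349, .bwd 10811],
   .loop (some (4, 1)) [.fwd 9763, .fwd 10812, .fwd 9351],
   .loop (some (3, 0)) [.fwd 9761, .fwd 9762, .bwd 10813],
   .loop (some (2, 2)) [.bwd 9352, .fwd 10814, .bwd 9760],
   .loop (some (3, 1)) [.bwd 9354, .bwd 9353, .bwd 10815],
   .loop (some (4, 1)) [.fwd 9759, .fwd 10816, .fwd 9355],
   .loop (some (19, 0)) [.fwd 9304, .fwd 9305, .fwd 9306, .fwd 9307, .fwd 9308, .bwd 6072, .fwd 8955, .bwd 9359],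
   .loop (some (9, 2)) [.bwd 10818, .bwd 10647, .bwd 10307],
   .loop (some (8, 2)) [.bwd 9848, .bwd 10262, .bwd 7733],
   .loop (some (4, 1)) [.fwd 10330, .bwd 10329, .fwd 9373],
   .loop (some (9, 3)) [.bwd 10331, .bwd 10325, .fwd 10609],
   .loop (some (19, 4)) [.bwd 4863, .bwd 4862, .bwd 10342, .fwd 9373, .fwd 10822, .fwd 10342, .fwd 4862, .fwd 4863],
   .loop (some (12, 2)) [.bwd 9374, .bwd 10609, .fwd 8931],
   .loop (some (9, 3)) [.bwd 10824, .bwd 10615, .fwd 8424],
   .loop (some (1, 2)) [.bwd 9375, .bwd 10825, .bwd 10446],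
   .loop (some (13, 2)) [.bwd 9375, .bwd 10824, .fwd 8932],
   .loop (some (10, 2)) [.bwd 9376, .bwd 10827, .fwd 8933],
   .loop (some (11, 2)) [.bwd 9377, .bwd 10828, .fwd 8934],
   .loop (some (12, 2)) [.bwd 9378, .bwd 10829, .fwd 8935],
   .loop (some (0, 0)) [.fwd 10623, .fwd 10830],
   .loop (some (13, 2)) [.bwd 9379, .bwd 10830, .fwd 8936],
   .loop (some (0, 0)) [.fwd 10625, .fwd 10832],
   .loop (some (10, 2)) [.bwd 9380, .bwd 10832, .fwd 8937],
   .loop (some (11, 2)) [.bwd 9381, .bwd 10834, .fwd 8938],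
   .loop (some (12, 2)) [.bwd 9382, .bwd 10835, .fwd 8939],
   .loop (some (13, 2)) [.bwd 9383, .bwd 10836, .fwd 8940],
   .loop (some (10, 2)) [.bwd 9384, .bwd 10837, .fwd 8941],
   .loop (some (11, 2)) [.bwd 9385, .bwd 10838, .fwd 8942],
   .loop (some (12, 2)) [.bwd 9386, .bwd 10839, .fwd 8943],
   .loop (some (0, 0)) [.fwd 10639, .fwd 10840],
   .loop (some (13, 2)) [.bwd 9387, .bwd 10840, .fwd 8944],
   .loop (some (10, 2)) [.bwd 9388, .bwd 10842, .fwd 8945],
   .loop (some (0, 0)) [.fwd 10642, .fwd 10843],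
   .loop (some (11, 2)) [.bwd 9389, .bwd 10843, .fwd 8946],
   .loop (some (0, 0)) [.fwd 10644, .fwd 10845],
   .loop (some (12, 2)) [.bwd 9390, .bwd 10845, .fwd 8947],
   .loop (some (13, 2)) [.bwd 9391, .bwd 10847, .fwd 8948],
   .loop (some (10, 2)) [.bwd 9392, .bwd 10848, .fwd 8949],
   .loop (some (11, 2)) [.bwd 9393, .bwd 10849, .fwd 8950],
   .loop (some (12, 3)) [.bwd 9394, .bwd 10850, .fwd 8951, .fwd 8069],
   .loop none [.bwd 10851],
   .loop none [.fwd 3652, .fwd 10852, .fwd 9395],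
   .loop none [.fwd 10853],
   .loop none [.bwd 9396, .bwd 10854],
   .loop (some (9, 2)) [.fwd 10131, .bwd 10132, .fwd 10243],
   .loop (some (19, 0)) [.bwd 9996, .fwd 9479, .bwd 9494, .bwd 9521, .fwd 9655, .bwd 10120, .bwd 9415, .bwd 9414],
   .loop (some (8, 2)) [.fwd 10716, .bwd 9439, .fwd 9673],
   .loop (some (9, 3)) [.bwd 10574, .bwd 10147, .fwd 8126],
   .loop (some (1, 2)) [.bwd 9493, .bwd 10859, .fwd 8249],
   .loop (some (17, 2)) [.bwd 1578, .bwd 8992, .fwd 10669, .fwd 9498, .fwd 9499],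
   .loop (some (2, 1)) [.bwd 6908, .bwd 10861, .fwd 9500],
   .loop (some (19, 0)) [.bwd 4180, .bwd 4179, .bwd 8251, .bwd 5989, .bwd 10115, .fwd 9414, .fwd 9415, .fwd 10120],
   .loop (some (7, 0)) [.bwd 9674, .fwd 10858, .fwd 10715],
   .loop (some (8, 0)) [.bwd 9675, .bwd 10864, .fwd 9735],
   .loop (some (7, 0)) [.fwd 9678, .fwd 10099, .bwd 9738],
   .loop (some (10, 2)) [.bwd 9758, .bwd 10856, .bwd 9520],
   .loop (some (13, 2)) [.fwd 10758, .fwd 10817, .bwd 10867, .bwd 9519],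
   .loop none [.fwd 10868],
   .loop none [.fwd 10761, .fwd 10869, .bwd 9518],
   .loop none [.fwd 10870],
   .loop none [.bwd 9519, .bwd 10869],
   .loop none [.bwd 7977, .fwd 10871, .bwd 9517],
   .loop none [.fwd 10873],
   .loop none [.bwd 5767, .fwd 10874, .bwd 9516],
   .loop none [.fwd 10875],
   .loop none [.fwd 9515, .bwd 10876],
   .define,
   .define,
   .loop (some (15, 4)) [.fwd 6134, .bwd 9742, .fwd 10699, .fwd 10878, .fwd 10879],
   .define,
   .loop (some (4, 2)) [.bwd 8664, .fwd 6065, .fwd 10881],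
   .define,
   .define,
   .define,
   .loop (some (15, 4)) [.bwd 6063, .fwd 9174, .fwd 9810, .fwd 10884, .fwd 10885],
   .define,
   .loop (some (20, 4)) [.fwd 6212, .fwd 534, .fwd 521, .fwd 522, .fwd 540, .fwd 541, .fwd 9228, .fwd 10887],
   .define,
   .loop (some (9, 2)) [.bwd 528, .bwd 6154, .fwd 10889],
   .loop (some (5, 2)) [.bwd 528, .bwd 522, .bwd 10886],
   .define,
   .define,
   .define,
   .define,
   .define,
   .define,
   .define,
   .define,
   .define,
   .define,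
   .define,
   .define,
   .define,
   .define,
   .define,
   .define,
   .define,
   .define,
   .define,
   .define,
   .define,
   .define,
   .define,
   .define,
   .loop (some (21, 29)) [.bwd 6100, .bwd 540, .bwd 485, .fwd 507, .bwd 3493, .bwd 10103, .bwd 9409, .fwd 10892, .fwd 10893, .fwd 10894, .fwd 10895, .fwd 10896, .fwd 10897, .fwd 10898, .fwd 10899, .fwd 10900, .fwd 10901, .fwd 10902, .fwd 10903, .fwd 10904, .fwd 10905, .fwd 10906, .fwd 10907, .fwd 10908, .fwd 10909, .fwd 10910, .fwd 10911, .fwd 10912, .fwd 10913, .fwd 10914, .fwd 10915],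
   .define,
   .define,
   .loop (some (20, 7)) [.fwd 4765, .bwd 4761, .bwd 4654, .fwd 9892, .bwd 10703, .bwd 10704, .fwd 10917, .fwd 10918],
   .define,
   .loop (some (20, 6)) [.fwd 10891, .fwd 529, .fwd 527, .bwd 552, .fwd 9405, .bwd 9840, .bwd 9842, .fwd 10920],
   .define,
   .loop (some (18, 3)) [.fwd 10921, .fwd 10891, .fwd 529, .fwd 9804, .fwd 9839, .fwd 10922],
   .define,
   .loop (some (20, 4)) [.bwd 9816, .fwd 9784, .fwd 9441, .fwd 9175, .fwd 8843, .fwd 8844, .fwd 9248, .fwd 10924],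
   .define,
   .define,
   .define,
   .define,
   .define,
   .define,
   .define,
   .define,
   .define,
   .loop (some (20, 4)) [.fwd 10312, .fwd 4413, .fwd 4401, .fwd 4402, .fwd 4367, .fwd 4368, .fwd 10933, .fwd 10934],
   .define,
   .define,
   .define,
   .define,
   .define,
   .define,
   .define,
   .define,
   .define,
   .define,
   .define,
   .define,
   .define,
   .define,
   .define,
   .define,
   .define,
   .define,
   .define,
   .define,
   .define,
   .define,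
   .define,
   .loop (some (21, 26)) [.bwd 5577, .bwd 8156, .bwd 3755, .fwd 8151, .bwd 4367, .fwd 4403, .fwd 4435, .bwd 4570, .fwd 10936, .fwd 10937, .fwd 10938, .fwd 10939, .fwd 10940, .fwd 10941, .fwd 10942, .fwd 10943, .fwd 10944, .fwd 10945, .fwd 10946, .fwd 10947, .fwd 10948, .fwd 10949, .fwd 10950, .fwd 10951, .fwd 10952, .fwd 10953, .fwd 10954, .fwd 10955, .fwd 10956, .fwd 10957, .fwd 10958],
   .define,
   .loop (some (20, 4)) [.fwd 8795, .fwd 3424, .fwd 3361, .fwd 3362, .fwd 5668, .fwd 5669, .fwd 9233, .fwd 10960],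
   .define,
   .define,
   .define,
   .define,
   .define,
   .define,
   .define,
   .define,
   .define,
   .define,
   .define,
   .define,
   .define,
   .define,
   .define,
   .define,
   .loop (some (21, 28)) [.fwd 9190, .fwd 9191, .bwd 5668, .fwd 3363, .bwd 440, .bwd 376, .fwd 5283, .bwd 7925, .bwd 4175, .bwd 7755, .bwd 7747, .fwd 7603, .bwd 4284, .bwd 4892, .bwd 10062, .fwd 10962, .fwd 10963, .fwd 10964, .fwd 10965, .fwd 10966, .fwd 10967, .fwd 10968, .fwd 10969, .fwd 10970, .fwd 10971, .fwd 10972, .fwd 10973, .fwd 10974, .fwd 10975, .fwd 10976, .fwd 10977],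
   .define,
   .define,
   .define,
   .loop (some (20, 4)) [.fwd 6204, .fwd 522, .fwd 486, .fwd 514, .fwd 6219, .fwd 10979, .fwd 10980, .fwd 10981],
   .define,
   .loop (some (1, 2)) [.bwd 6219, .bwd 9836, .fwd 10983],
   .define,
   .define,
   .define,
   .define,
   .define,
   .define,
   .define,
   .define,
   .define,
   .define,
   .define,
   .define,
   .loop (some (21, 29)) [.bwd 3752, .bwd 6219, .fwd 6120, .bwd 6122, .fwd 3422, .fwd 3500, .bwd 6962, .bwd 7096, .bwd 8603, .bwd 8582, .bwd 8000, .fwd 5539, .fwd 5540, .bwd 9533, .fwd 10091, .fwd 9832, .bwd 5144, .bwd 8306, .bwd 5029, .fwd 10985, .fwd 10986, .fwd 10987, .fwd 10988, .fwd 10989, .fwd 10990, .fwd 10991, .fwd 10992, .fwd 10993, .fwd 10994, .fwd 10995, .fwd 10996],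
   .define,
   .define]

theorem just43_len : just43.length = 250 := by decide +kernel

theorem just43_ok : cert.okFacts 10750 just43 = true := by decide +kernel

/-- justifications -/
noncomputable def just44 : List Cert.Just :=
  [.define,
   .loop (some (20, 4)) [.bwd 540, .fwd 486, .fwd 514, .bwd 516, .bwd 6202, .fwd 10998, .fwd 10999, .fwd 11000],
   .define,
   .loop (some (1, 2)) [.fwd 6202, .bwd 9650, .fwd 11002],
   .define,
   .define,
   .define,
   .define,
   .define,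
   .define,
   .define,
   .define,
   .define,
   .define,
   .define,
   .define,
   .define,
   .define,
   .define,
   .define,
   .define,
   .define,
   .define,
   .define,
   .define,
   .define,
   .define,
   .define,
   .define,
   .define,
   .loop (some (21, 29)) [.bwd 5070, .fwd 6202, .fwd 6124, .bwd 6127, .fwd 7983, .fwd 11004, .fwd 11005, .fwd 11006, .fwd 11007, .fwd 11008, .fwd 11009, .fwd 11010, .fwd 11011, .fwd 11012, .fwd 11013, .fwd 11014, .fwd 11015, .fwd 11016, .fwd 11017, .fwd 11018, .fwd 11019, .fwd 11020, .fwd 11021, .fwd 11022, .fwd 11023, .fwd 11024, .fwd 11025, .fwd 11026, .fwd 11027, .fwd 11028, .fwd 11029],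
   .define,
   .define,
   .loop (some (14, 4)) [.bwd 6131, .bwd 9400, .fwd 11031, .fwd 11032],
   .define,
   .define,
   .loop (some (20, 5)) [.fwd 9732, .bwd 519, .bwd 518, .bwd 517, .bwd 545, .fwd 6093, .fwd 11034, .fwd 11035],
   .define,
   .define,
   .define,
   .define,
   .loop (some (19, 5)) [.fwd 10916, .bwd 6100, .fwd 6099, .bwd 9406, .fwd 11037, .fwd 11038, .fwd 11039, .fwd 11040],
   .define,
   .loop (some (9, 2)) [.fwd 9406, .bwd 6131, .fwd 11042],
   .define,
   .loop (some (8, 2)) [.fwd 8286, .bwd 11033, .fwd 11044],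
   .define,
   .loop (some (18, 3)) [.fwd 9732, .bwd 519, .bwd 518, .bwd 11033, .bwd 11032, .fwd 11046],
   .define,
   .define,
   .define,
   .define,
   .define,
   .define,
   .define,
   .define,
   .define,
   .define,
   .define,
   .define,
   .define,
   .define,
   .define,
   .define,
   .define,
   .loop (some (21, 22)) [.bwd 4282, .fwd 10036, .bwd 8703, .bwd 4256, .bwd 4173, .bwd 4251, .bwd 5812, .fwd 600, .fwd 517, .fwd 5987, .bwd 5989, .bwd 10115, .fwd 10116, .fwd 10772, .fwd 11048, .fwd 11049, .fwd 11050, .fwd 11051, .fwd 11052, .fwd 11053, .fwd 11054, .fwd 11055, .fwd 11056, .fwd 11057, .fwd 11058, .fwd 11059, .fwd 11060, .fwd 11061, .fwd 11062, .fwd 11063, .fwd 11064],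
   .define,
   .loop (some (14, 2)) [.fwd 11033, .fwd 518, .bwd 9693, .fwd 11066],
   .define,
   .define,
   .define,
   .loop (some (20, 5)) [.fwd 11047, .fwd 9732, .bwd 519, .fwd 9398, .fwd 9399, .fwd 11068, .fwd 11069, .fwd 11070],
   .define,
   .define,
   .define,
   .define,
   .define,
   .loop (some (19, 6)) [.bwd 9250, .bwd 6191, .bwd 9689, .fwd 11072, .fwd 11073, .fwd 11074, .fwd 11075, .fwd 11076],
   .define,
   .loop (some (9, 2)) [.fwd 9689, .bwd 9693, .fwd 11078],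
   .define,
   .loop (some (0, 1)) [.fwd 9693, .fwd 11080],
   .define,
   .loop (some (1, 2)) [.bwd 9398, .bwd 9689, .fwd 11082],
   .define,
   .define,
   .loop (some (17, 4)) [.bwd 9398, .fwd 9266, .fwd 9267, .fwd 11084, .fwd 11085],
   .define,
   .define,
   .define,
   .define,
   .define,
   .define,
   .define,
   .define,
   .define,
   .define,
   .define,
   .define,
   .define,
   .define,
   .define,
   .define,
   .define,
   .define,
   .define,
   .define,
   .define,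
   .define,
   .define,
   .define,
   .define,
   .define,
   .loop (some (21, 29)) [.fwd 11086, .bwd 9398, .bwd 6129, .fwd 6130, .bwd 9679, .fwd 11087, .fwd 11088, .fwd 11089, .fwd 11090, .fwd 11091, .fwd 11092, .fwd 11093, .fwd 11094, .fwd 11095, .fwd 11096, .fwd 11097, .fwd 11098, .fwd 11099, .fwd 11100, .fwd 11101, .fwd 11102, .fwd 11103, .fwd 11104, .fwd 11105, .fwd 11106, .fwd 11107, .fwd 11108, .fwd 11109, .fwd 11110, .fwd 11111, .fwd 11112],
   .define,
   .loop (some (12, 2)) [.bwd 9266, .bwd 9693, .fwd 11114],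
   .define,
   .loop (some (13, 2)) [.bwd 9398, .bwd 9693, .fwd 11116],
   .define,
   .loop (some (20, 5)) [.fwd 11046, .fwd 11047, .fwd 9732, .fwd 520, .bwd 534, .bwd 6212, .fwd 6213, .fwd 11118],
   .define,
   .define,
   .define,
   .define,
   .define,
   .loop (some (19, 6)) [.bwd 9313, .bwd 6195, .bwd 9746, .fwd 11120, .fwd 11121, .fwd 11122, .fwd 11123, .fwd 11124],
   .loop (some (9, 2)) [.fwd 9746, .fwd 6199, .bwd 11003],
   .loop (some (1, 2)) [.fwd 10880, .bwd 520, .bwd 9746, .fwd 10920],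
   .loop none [.fwd 11127],
   .loop none [.fwd 10920, .bwd 11128],
   .loop none [.bwd 10921, .bwd 11128],
   .loop none [.fwd 10923, .bwd 11128],
   .define,
   .loop (some (5, 2)) [.fwd 9746, .bwd 9732, .fwd 11132],
   .define,
   .define,
   .define,
   .define,
   .define,
   .define,
   .define,
   .define,
   .define,
   .define,
   .define,
   .define,
   .define,
   .define,
   .define,
   .define,
   .define,
   .define,
   .define,
   .define,
   .define,
   .define,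
   .define,
   .define,
   .loop (some (21, 27)) [.bwd 8338, .bwd 8316, .bwd 6215, .bwd 520, .bwd 6132, .fwd 6133, .bwd 9739, .fwd 11134, .fwd 11135, .fwd 11136, .fwd 11137, .fwd 11138, .fwd 11139, .fwd 11140, .fwd 11141, .fwd 11142, .fwd 11143, .fwd 11144, .fwd 11145, .fwd 11146, .fwd 11147, .fwd 11148, .fwd 11149, .fwd 11150, .fwd 11151, .fwd 11152, .fwd 11153, .fwd 11154, .fwd 11155, .fwd 11156, .fwd 11157],
   .define,
   .loop (some (20, 4)) [.bwd 6219, .bwd 516, .fwd 533, .fwd 534, .bwd 520, .bwd 9732, .bwd 11036, .fwd 11159],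
   .loop (some (19, 1)) [.fwd 4195, .fwd 6493, .bwd 6409, .fwd 6492, .bwd 7639, .bwd 6077, .bwd 6177, .bwd 10880],
   .loop (some (5, 2)) [.bwd 11131, .fwd 10880, .bwd 534, .fwd 10889],
   .loop none [.bwd 11162],
   .loop none [.fwd 11131, .bwd 11163],
   .define,
   .define,
   .define,
   .define,
   .define,
   .define,
   .define,
   .define,
   .define,
   .define,
   .define,
   .define,
   .define,
   .define,
   .define,
   .define,
   .define,
   .define,
   .define,
   .define,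
   .define,
   .define,
   .define,
   .define,
   .define,
   .define,
   .loop (some (21, 29)) [.bwd 6196, .fwd 520, .fwd 6134, .bwd 6135, .fwd 7984, .fwd 11165, .fwd 11166, .fwd 11167, .fwd 11168, .fwd 11169, .fwd 11170, .fwd 11171, .fwd 11172, .fwd 11173, .fwd 11174, .fwd 11175, .fwd 11176, .fwd 11177, .fwd 11178, .fwd 11179, .fwd 11180, .fwd 11181, .fwd 11182, .fwd 11183, .fwd 11184, .fwd 11185, .fwd 11186, .fwd 11187, .fwd 11188, .fwd 11189, .fwd 11190],
   .loop (some (20, 1)) [.bwd 11068, .fwd 9400, .fwd 6226, .fwd 6202, .fwd 533, .fwd 534, .fwd 521, .bwd 6204],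
   .loop (some (19, 1)) [.fwd 8297, .fwd 6345, .fwd 5856, .fwd 7292, .fwd 6235, .bwd 6094, .fwd 6102, .bwd 10886],
   .loop (some (9, 2)) [.fwd 10886, .bwd 6144, .fwd 528],
   .define,
   .define,
   .define,
   .define,
   .define,
   .define,
   .define,
   .define,
   .define,
   .define,
   .define,
   .define,
   .define,
   .define,
   .define,
   .define,
   .define,
   .define,
   .define,
   .define,
   .define,
   .define,
   .define,
   .define,
   .define,
   .define,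
   .define,
   .loop (some (21, 29)) [.bwd 4859, .fwd 6204, .bwd 6063, .fwd 6065, .fwd 7986, .fwd 11196, .fwd 11197, .fwd 11198, .fwd 11199, .fwd 11200, .fwd 11201, .fwd 11202, .fwd 11203, .fwd 11204, .fwd 11205, .fwd 11206, .fwd 11207, .fwd 11208, .fwd 11209, .fwd 11210, .fwd 11211, .fwd 11212, .fwd 11213, .fwd 11214, .fwd 11215, .fwd 11216, .fwd 11217, .fwd 11218, .fwd 11219, .fwd 11220, .fwd 11221],
   .define,
   .define,
   .define,
   .loop (some (20, 5)) [.fwd 11164, .fwd 11130, .fwd 10891, .bwd 9800, .bwd 9867, .fwd 11223, .fwd 11224, .fwd 11225],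
   .loop (some (6, 2)) [.fwd 10919, .fwd 6156, .bwd 10891, .bwd 10885],
   .loop none [.bwd 11227],
   .loop none [.bwd 10919, .bwd 11228],
   .define,
   .define,
   .define,
   .define,
   .define,
   .define,
   .define,
   .define,
   .define,
   .define,
   .define,
   .define,
   .define,
   .define,
   .define,
   .define,
   .define,
   .define,
   .define,
   .define]

theorem just44_len : just44.length = 250 := by decide +kernel

theorem just44_ok : cert.okFacts 11000 just44 = true := by decide +kernel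

/-- justifications -/
noncomputable def just45 : List Cert.Just :=
  [.define,
   .define,
   .define,
   .define,
   .define,
   .define,
   .loop (some (21, 28)) [.bwd 7959, .fwd 9854, .fwd 9800, .bwd 6156, .fwd 9803, .fwd 11230, .fwd 11231, .fwd 11232, .fwd 11233, .fwd 11234, .fwd 11235, .fwd 11236, .fwd 11237, .fwd 11238, .fwd 11239, .fwd 11240, .fwd 11241, .fwd 11242, .fwd 11243, .fwd 11244, .fwd 11245, .fwd 11246, .fwd 11247, .fwd 11248, .fwd 11249, .fwd 11250, .fwd 11251, .fwd 11252, .fwd 11253, .fwd 11254, .fwd 11255],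
   .loop (some (12, 1)) [.fwd 8319, .fwd 4778, .bwd 10890],
   .loop (some (13, 2)) [.fwd 9800, .bwd 10890, .bwd 11226],
   .define,
   .define,
   .loop (some (20, 4)) [.bwd 9333, .fwd 4438, .fwd 4426, .fwd 4427, .fwd 4785, .fwd 4786, .fwd 11259, .fwd 11260],
   .define,
   .loop (some (19, 6)) [.fwd 4570, .bwd 4435, .fwd 4432, .bwd 8818, .bwd 8817, .bwd 8816, .fwd 4616, .fwd 11262],
   .define,
   .define,
   .define,
   .define,
   .define,
   .define,
   .define,
   .define,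
   .define,
   .define,
   .define,
   .define,
   .define,
   .define,
   .define,
   .define,
   .define,
   .define,
   .define,
   .define,
   .define,
   .define,
   .define,
   .define,
   .define,
   .loop (some (21, 29)) [.fwd 8145, .bwd 4785, .bwd 4403, .fwd 4411, .bwd 9442, .fwd 9630, .fwd 11264, .fwd 11265, .fwd 11266, .fwd 11267, .fwd 11268, .fwd 11269, .fwd 11270, .fwd 11271, .fwd 11272, .fwd 11273, .fwd 11274, .fwd 11275, .fwd 11276, .fwd 11277, .fwd 11278, .fwd 11279, .fwd 11280, .fwd 11281, .fwd 11282, .fwd 11283, .fwd 11284, .fwd 11285, .fwd 11286, .fwd 11287, .fwd 11288],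
   .loop (some (1, 2)) [.fwd 6212, .fwd 10889, .bwd 11226],
   .define,
   .define,
   .define,
   .define,
   .define,
   .define,
   .define,
   .define,
   .define,
   .define,
   .define,
   .loop (some (21, 29)) [.bwd 5027, .fwd 6212, .bwd 6137, .fwd 6138, .fwd 7985, .bwd 3489, .bwd 7084, .fwd 8604, .fwd 8603, .bwd 3527, .bwd 5640, .fwd 5646, .fwd 6040, .fwd 6030, .fwd 10083, .fwd 9623, .bwd 5580, .fwd 8147, .bwd 3754, .bwd 11289, .fwd 11291, .fwd 11292, .fwd 11293, .fwd 11294, .fwd 11295, .fwd 11296, .fwd 11297, .fwd 11298, .fwd 11299, .fwd 11300, .fwd 11301],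
   .define,
   .define,
   .define,
   .loop (some (20, 4)) [.bwd 6093, .fwd 545, .fwd 426, .fwd 537, .bwd 6029, .fwd 11303, .fwd 11304, .fwd 11305],
   .define,
   .loop (some (1, 2)) [.fwd 6029, .bwd 9859, .fwd 11307],
   .define,
   .define,
   .define,
   .define,
   .define,
   .define,
   .define,
   .define,
   .define,
   .define,
   .define,
   .define,
   .define,
   .define,
   .define,
   .define,
   .define,
   .define,
   .define,
   .loop (some (21, 26)) [.bwd 8837, .bwd 10168, .bwd 3828, .bwd 8138, .fwd 6029, .fwd 5788, .bwd 5108, .bwd 6040, .fwd 3514, .fwd 6962, .bwd 6963, .bwd 8007, .fwd 11309, .fwd 11310, .fwd 11311, .fwd 11312, .fwd 11313, .fwd 11314, .fwd 11315, .fwd 11316, .fwd 11317, .fwd 11318, .fwd 11319, .fwd 11320, .fwd 11321, .fwd 11322, .fwd 11323, .fwd 11324, .fwd 11325, .fwd 11326, .fwd 11327],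
   .define,
   .define,
   .loop (some (19, 4)) [.bwd 8340, .bwd 6211, .bwd 6166, .fwd 6187, .bwd 9138, .bwd 10376, .fwd 11329, .fwd 11330],
   .define,
   .loop (some (1, 2)) [.bwd 6055, .bwd 9138, .fwd 11332],
   .define,
   .loop (some (17, 4)) [.bwd 6055, .fwd 6054, .fwd 5916, .fwd 5912, .fwd 11334],
   .define,
   .define,
   .define,
   .define,
   .define,
   .define,
   .define,
   .define,
   .define,
   .define,
   .define,
   .define,
   .define,
   .define,
   .define,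
   .define,
   .define,
   .define,
   .define,
   .define,
   .define,
   .define,
   .define,
   .define,
   .define,
   .define,
   .loop (some (21, 29)) [.fwd 11335, .bwd 6055, .fwd 6052, .fwd 5921, .bwd 5592, .fwd 11336, .fwd 11337, .fwd 11338, .fwd 11339, .fwd 11340, .fwd 11341, .fwd 11342, .fwd 11343, .fwd 11344, .fwd 11345, .fwd 11346, .fwd 11347, .fwd 11348, .fwd 11349, .fwd 11350, .fwd 11351, .fwd 11352, .fwd 11353, .fwd 11354, .fwd 11355, .fwd 11356, .fwd 11357, .fwd 11358, .fwd 11359, .fwd 11360, .fwd 11361],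
   .loop (some (20, 5)) [.fwd 9301, .bwd 542, .bwd 541, .bwd 540, .bwd 522, .bwd 6204, .fwd 11192, .fwd 11069],
   .define,
   .loop (some (19, 5)) [.fwd 9434, .fwd 8286, .bwd 6099, .bwd 9199, .bwd 9854, .fwd 7959, .fwd 5711, .fwd 11364],
   .define,
   .loop (some (18, 3)) [.fwd 9301, .bwd 542, .bwd 541, .bwd 11001, .bwd 11000, .fwd 11366],
   .define,
   .define,
   .define,
   .define,
   .define,
   .define,
   .define,
   .define,
   .define,
   .define,
   .define,
   .define,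
   .define,
   .define,
   .define,
   .define,
   .define,
   .define,
   .define,
   .define,
   .define,
   .define,
   .loop (some (21, 27)) [.fwd 6353, .fwd 6236, .fwd 4434, .fwd 540, .fwd 6061, .bwd 6062, .bwd 9191, .fwd 10111, .bwd 10772, .fwd 11368, .fwd 11369, .fwd 11370, .fwd 11371, .fwd 11372, .fwd 11373, .fwd 11374, .fwd 11375, .fwd 11376, .fwd 11377, .fwd 11378, .fwd 11379, .fwd 11380, .fwd 11381, .fwd 11382, .fwd 11383, .fwd 11384, .fwd 11385, .fwd 11386, .fwd 11387, .fwd 11388, .fwd 11389],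
   .define,
   .loop (some (14, 2)) [.fwd 11001, .fwd 541, .bwd 9259, .fwd 11391],
   .define,
   .define,
   .define,
   .loop (some (20, 5)) [.fwd 11367, .fwd 9301, .bwd 542, .fwd 9228, .fwd 10887, .fwd 11393, .fwd 11394, .fwd 11395],
   .define,
   .define,
   .define,
   .define,
   .define,
   .loop (some (19, 6)) [.bwd 9266, .fwd 6191, .bwd 9256, .fwd 11397, .fwd 11398, .fwd 11399, .fwd 11400, .fwd 11401],
   .define,
   .define,
   .loop (some (0, 1)) [.fwd 9259, .fwd 11404],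
   .loop (some (1, 2)) [.bwd 9228, .bwd 9256, .fwd 11223],
   .define,
   .define,
   .loop (some (17, 4)) [.bwd 9228, .fwd 9250, .fwd 9700, .fwd 11407, .fwd 11408],
   .define,
   .define,
   .define,
   .define,
   .define,
   .define,
   .define,
   .define,
   .define,
   .define,
   .define,
   .define,
   .define,
   .define,
   .define,
   .define,
   .define,
   .define,
   .define,
   .define,
   .define,
   .define,
   .define,
   .define,
   .define,
   .define,
   .loop (some (21, 29)) [.fwd 11409, .bwd 9228, .bwd 6066, .fwd 6067, .bwd 9245, .fwd 11410, .fwd 11411, .fwd 11412, .fwd 11413, .fwd 11414, .fwd 11415, .fwd 11416, .fwd 11417, .fwd 11418, .fwd 11419, .fwd 11420, .fwd 11421, .fwd 11422, .fwd 11423, .fwd 11424, .fwd 11425, .fwd 11426, .fwd 11427, .fwd 11428, .fwd 11429, .fwd 11430, .fwd 11431, .fwd 11432, .fwd 11433, .fwd 11434, .fwd 11435],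
   .define,
   .loop (some (12, 2)) [.bwd 9250, .bwd 9259, .fwd 11437],
   .define,
   .loop (some (13, 2)) [.bwd 9228, .bwd 9259, .fwd 11439],
   .define,
   .define,
   .define,
   .define,
   .loop (some (19, 5)) [.fwd 11191, .bwd 6196, .fwd 6195, .bwd 9318, .fwd 11441, .fwd 11442, .fwd 11443, .fwd 11444],
   .loop (some (9, 2)) [.fwd 9318, .bwd 6081, .bwd 11333],
   .define,
   .loop (some (5, 2)) [.fwd 9318, .bwd 9301, .fwd 11447],
   .define,
   .define,
   .define,
   .define,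
   .define,
   .define,
   .define,
   .define,
   .define,
   .define,
   .define,
   .define,
   .define,
   .define,
   .define,
   .define,
   .define,
   .define,
   .define,
   .define,
   .define,
   .define,
   .loop (some (21, 25)) [.fwd 7650, .fwd 5217, .bwd 7627, .bwd 7639, .bwd 6077, .bwd 543, .fwd 6070, .fwd 6072, .bwd 9308, .fwd 11449, .fwd 11450, .fwd 11451, .fwd 11452, .fwd 11453, .fwd 11454, .fwd 11455, .fwd 11456, .fwd 11457, .fwd 11458, .fwd 11459, .fwd 11460, .fwd 11461, .fwd 11462, .fwd 11463, .fwd 11464, .fwd 11465, .fwd 11466, .fwd 11467, .fwd 11468, .fwd 11469, .fwd 11470],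
   .loop (some (12, 2)) [.bwd 9313, .bwd 6081, .bwd 11335],
   .loop (some (20, 4)) [.fwd 6029, .bwd 539, .fwd 554, .fwd 555, .bwd 543, .bwd 9301, .bwd 11363, .fwd 11070],
   .define,
   .define,
   .loop (some (19, 4)) [.bwd 8334, .bwd 8316, .bwd 6215, .fwd 6177, .bwd 9328, .bwd 9909, .fwd 11474, .fwd 11475],
   .define,
   .define,
   .define,
   .define,
   .define,
   .define,
   .define,
   .define,
   .define,
   .define,
   .define,
   .define,
   .define,
   .define,
   .define,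
   .define,
   .define,
   .define,
   .define,
   .define,
   .define,
   .define,
   .define]

theorem just45_len : just45.length = 250 := by decide +kernel

theorem just45_ok : cert.okFacts 11250 just45 = true := by decide +kernel

/-- justifications -/
noncomputable def just46 : List Cert.Just :=
  [.define,
   .define,
   .loop (some (21, 28)) [.fwd 11125, .bwd 9313, .fwd 543, .fwd 6075, .bwd 6079, .bwd 7105, .fwd 11477, .fwd 11478, .fwd 11479, .fwd 11480, .fwd 11481, .fwd 11482, .fwd 11483, .fwd 11484, .fwd 11485, .fwd 11486, .fwd 11487, .fwd 11488, .fwd 11489, .fwd 11490, .fwd 11491, .fwd 11492, .fwd 11493, .fwd 11494, .fwd 11495, .fwd 11496, .fwd 11497, .fwd 11498, .fwd 11499, .fwd 11500, .fwd 11501],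
   .loop (some (20, 2)) [.bwd 11393, .fwd 10888, .fwd 6213, .bwd 6055, .fwd 554, .fwd 555, .fwd 544, .fwd 6093, .fwd 11034],
   .loop none [.bwd 11503],
   .loop none [.fwd 11393, .bwd 11504],
   .loop none [.bwd 11035, .fwd 11504, .fwd 11394],
   .loop none [.fwd 11506],
   .loop none [.bwd 11159, .fwd 11507, .fwd 11395],
   .loop none [.fwd 11508],
   .loop none [.bwd 11396, .bwd 11509],
   .define,
   .define,
   .loop (some (19, 4)) [.bwd 8329, .fwd 8311, .fwd 6205, .bwd 6102, .bwd 9370, .bwd 10372, .fwd 11511, .fwd 11512],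
   .define,
   .loop (some (1, 2)) [.bwd 6093, .bwd 9370, .fwd 11514],
   .define,
   .define,
   .loop (some (17, 4)) [.bwd 6093, .fwd 6094, .fwd 8659, .fwd 11516, .fwd 11517],
   .define,
   .define,
   .define,
   .define,
   .define,
   .define,
   .define,
   .define,
   .define,
   .define,
   .define,
   .define,
   .define,
   .define,
   .define,
   .define,
   .define,
   .define,
   .define,
   .define,
   .define,
   .define,
   .define,
   .define,
   .define,
   .define,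
   .loop (some (21, 29)) [.fwd 11518, .bwd 6093, .bwd 5990, .fwd 5827, .bwd 5327, .fwd 11519, .fwd 11520, .fwd 11521, .fwd 11522, .fwd 11523, .fwd 11524, .fwd 11525, .fwd 11526, .fwd 11527, .fwd 11528, .fwd 11529, .fwd 11530, .fwd 11531, .fwd 11532, .fwd 11533, .fwd 11534, .fwd 11535, .fwd 11536, .fwd 11537, .fwd 11538, .fwd 11539, .fwd 11540, .fwd 11541, .fwd 11542, .fwd 11543, .fwd 11544],
   .define,
   .loop (some (14, 3)) [.bwd 9891, .bwd 3347, .fwd 9891, .fwd 11546],
   .define,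
   .define,
   .define,
   .define,
   .define,
   .loop (some (20, 7)) [.fwd 3350, .bwd 4497, .fwd 4498, .fwd 11548, .fwd 11549, .fwd 11550, .fwd 11551, .fwd 11552],
   .define,
   .loop (some (18, 3)) [.fwd 11552, .fwd 11553, .fwd 3350, .fwd 9891, .bwd 11547, .fwd 11554],
   .define,
   .define,
   .loop (some (14, 3)) [.bwd 11556, .bwd 4499, .fwd 11556, .fwd 11557],
   .define,
   .define,
   .define,
   .define,
   .define,
   .loop (some (20, 7)) [.bwd 4498, .fwd 4497, .bwd 3350, .fwd 11559, .fwd 11560, .fwd 11561, .fwd 11562, .fwd 11563],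
   .loop (some (8, 1)) [.bwd 11262, .fwd 3350, .fwd 548, .fwd 11556],
   .loop none [.fwd 11565],
   .loop none [.fwd 11558, .bwd 11566],
   .loop none [.fwd 11556, .bwd 11566],
   .define,
   .loop (some (18, 3)) [.fwd 11563, .fwd 11564, .bwd 4498, .bwd 11568, .fwd 11567, .fwd 11569],
   .define,
   .define,
   .loop (some (20, 5)) [.fwd 9889, .fwd 9876, .fwd 9407, .fwd 9405, .bwd 9840, .fwd 11082, .fwd 11571, .fwd 11572],
   .define,
   .define,
   .loop (some (17, 3)) [.bwd 11037, .bwd 9405, .bwd 4615, .fwd 11574, .fwd 11575],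
   .define,
   .define,
   .define,
   .define,
   .define,
   .define,
   .define,
   .define,
   .define,
   .define,
   .define,
   .define,
   .define,
   .define,
   .define,
   .define,
   .define,
   .define,
   .define,
   .define,
   .define,
   .define,
   .define,
   .define,
   .define,
   .define,
   .loop (some (21, 28)) [.bwd 11038, .bwd 11037, .bwd 9405, .bwd 6110, .fwd 9459, .fwd 11577, .fwd 11578, .fwd 11579, .fwd 11580, .fwd 11581, .fwd 11582, .fwd 11583, .fwd 11584, .fwd 11585, .fwd 11586, .fwd 11587, .fwd 11588, .fwd 11589, .fwd 11590, .fwd 11591, .fwd 11592, .fwd 11593, .fwd 11594, .fwd 11595, .fwd 11596, .fwd 11597, .fwd 11598, .fwd 11599, .fwd 11600, .fwd 11601, .fwd 11602],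
   .loop (some (13, 2)) [.fwd 11043, .bwd 9405, .bwd 9404, .bwd 11573],
   .loop none [.fwd 11604],
   .loop none [.bwd 11573, .bwd 11605],
   .loop none [.fwd 11572, .bwd 11605],
   .define,
   .define,
   .loop (some (19, 4)) [.bwd 8330, .fwd 8314, .bwd 6182, .fwd 6153, .fwd 9403, .fwd 9897, .fwd 11608, .fwd 11609],
   .define,
   .define,
   .define,
   .define,
   .define,
   .define,
   .define,
   .define,
   .define,
   .define,
   .define,
   .define,
   .define,
   .define,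
   .define,
   .define,
   .define,
   .define,
   .define,
   .define,
   .define,
   .define,
   .loop (some (21, 28)) [.bwd 4981, .fwd 8288, .bwd 6118, .fwd 6084, .fwd 5927, .bwd 5540, .fwd 7081, .fwd 7084, .bwd 7999, .fwd 11611, .fwd 11612, .fwd 11613, .fwd 11614, .fwd 11615, .fwd 11616, .fwd 11617, .fwd 11618, .fwd 11619, .fwd 11620, .fwd 11621, .fwd 11622, .fwd 11623, .fwd 11624, .fwd 11625, .fwd 11626, .fwd 11627, .fwd 11628, .fwd 11629, .fwd 11630, .fwd 11631, .fwd 11632],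
   .define,
   .define,
   .loop (some (14, 3)) [.bwd 11634, .bwd 6111, .fwd 11634, .fwd 11635],
   .define,
   .define,
   .define,
   .define,
   .define,
   .loop (some (20, 7)) [.fwd 9460, .fwd 6109, .bwd 9038, .fwd 11637, .fwd 11638, .fwd 11639, .fwd 11640, .fwd 11641],
   .loop (some (8, 1)) [.bwd 11230, .fwd 9038, .bwd 575, .fwd 11634],
   .loop none [.fwd 11643],
   .loop none [.fwd 11636, .bwd 11644],
   .loop none [.fwd 11634, .bwd 11644],
   .define,
   .loop (some (18, 3)) [.fwd 11641, .fwd 11642, .fwd 9460, .bwd 11646, .fwd 11645, .fwd 11647],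
   .define,
   .define,
   .define,
   .define,
   .loop (some (20, 4)) [.bwd 5916, .fwd 592, .fwd 361, .fwd 582, .bwd 7926, .fwd 11650, .fwd 11651, .fwd 11652],
   .loop (some (1, 2)) [.fwd 7926, .fwd 6228, .fwd 11574],
   .define,
   .define,
   .define,
   .define,
   .define,
   .define,
   .define,
   .define,
   .define,
   .define,
   .define,
   .define,
   .define,
   .define,
   .define,
   .define,
   .define,
   .define,
   .loop (some (21, 29)) [.bwd 4176, .fwd 7926, .fwd 5811, .fwd 5280, .fwd 337, .fwd 2450, .fwd 3205, .fwd 2761, .fwd 2824, .fwd 1062, .bwd 6624, .bwd 6670, .bwd 6731, .fwd 11655, .fwd 11656, .fwd 11657, .fwd 11658, .fwd 11659, .fwd 11660, .fwd 11661, .fwd 11662, .fwd 11663, .fwd 11664, .fwd 11665, .fwd 11666, .fwd 11667, .fwd 11668, .fwd 11669, .fwd 11670, .fwd 11671, .fwd 11672],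
   .define,
   .define,
   .define,
   .loop (some (20, 4)) [.bwd 619, .fwd 361, .fwd 582, .bwd 584, .fwd 8659, .fwd 11674, .fwd 11675, .fwd 11676],
   .define,
   .loop (some (1, 2)) [.bwd 8659, .bwd 6231, .fwd 11678],
   .define,
   .define,
   .define,
   .define,
   .define,
   .define,
   .define,
   .define,
   .define,
   .define,
   .define,
   .define,
   .define,
   .define,
   .define,
   .loop (some (21, 29)) [.bwd 11516, .bwd 8659, .fwd 5835, .fwd 5355, .fwd 4845, .fwd 2043, .fwd 5339, .fwd 3089, .bwd 2812, .fwd 2514, .bwd 2770, .bwd 6653, .fwd 1143, .fwd 1213, .bwd 6735, .bwd 6780, .fwd 11680, .fwd 11681, .fwd 11682, .fwd 11683, .fwd 11684, .fwd 11685, .fwd 11686, .fwd 11687, .fwd 11688, .fwd 11689, .fwd 11690, .fwd 11691, .fwd 11692, .fwd 11693, .fwd 11694],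
   .define,
   .loop (some (20, 4)) [.bwd 6324, .fwd 650, .fwd 623, .fwd 624, .fwd 587, .fwd 588, .fwd 8727, .fwd 11696],
   .define,
   .define,
   .loop (some (14, 4)) [.bwd 6240, .bwd 11697, .fwd 11698, .fwd 11699],
   .define,
   .define,
   .loop (some (20, 5)) [.fwd 8763, .bwd 589, .bwd 588, .bwd 587, .bwd 624, .fwd 5857, .fwd 11701, .fwd 11702],
   .define,
   .define,
   .define,
   .loop (some (19, 5)) [.fwd 3331, .fwd 3332, .bwd 5849, .bwd 6237, .fwd 10368, .fwd 11704, .fwd 11705, .fwd 11706],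
   .define,
   .loop (some (9, 2)) [.fwd 6237, .bwd 6240, .fwd 11708],
   .define,
   .loop (some (8, 2)) [.bwd 2929, .bwd 11700, .fwd 11710],
   .define,
   .loop (some (18, 3)) [.fwd 8763, .bwd 589, .bwd 588, .bwd 11700, .bwd 11699, .fwd 11712],
   .define,
   .define,
   .define,
   .define,
   .define,
   .define,
   .define,
   .define,
   .define,
   .define,
   .define,
   .loop (some (21, 25)) [.bwd 5707, .fwd 7952, .fwd 6207, .fwd 6146, .bwd 4257, .fwd 587, .fwd 5848, .fwd 4152, .bwd 4028, .fwd 707, .fwd 3939, .bwd 3958, .bwd 5015, .bwd 5217, .bwd 4881, .bwd 7678, .bwd 2797, .fwd 9883, .fwd 9314, .bwd 9359, .fwd 11714, .fwd 11715, .fwd 11716, .fwd 11717, .fwd 11718, .fwd 11719, .fwd 11720, .fwd 11721, .fwd 11722, .fwd 11723, .fwd 11724],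
   .loop (some (14, 2)) [.fwd 11700, .fwd 588, .bwd 8749, .bwd 10529],
   .define,
   .loop (some (4, 2)) [.bwd 8727, .bwd 6245, .fwd 11727],
   .define,
   .define,
   .define,
   .loop (some (20, 5)) [.fwd 11713, .fwd 8763, .bwd 589, .fwd 8727, .fwd 11696, .fwd 11729, .fwd 11730, .fwd 11731],
   .define,
   .define,
   .define,
   .define,
   .define,
   .loop (some (19, 6)) [.bwd 8753, .fwd 6245, .fwd 6241, .fwd 11733, .fwd 11734, .fwd 11735, .fwd 11736, .fwd 11737],
   .define,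
   .define,
   .loop (some (0, 1)) [.fwd 8749, .fwd 11740],
   .define,
   .loop (some (1, 2)) [.bwd 8727, .fwd 6241, .fwd 11742],
   .define,
   .loop (some (11, 2)) [.fwd 6245, .bwd 8749, .fwd 11744],
   .define,
   .define,
   .loop (some (17, 4)) [.bwd 8727, .fwd 8744, .fwd 10469, .fwd 11746, .fwd 11747],
   .define]

theorem just46_len : just46.length = 250 := by decide +kernel

theorem just46_ok : cert.okFacts 11500 just46 = true := by decide +kernel

/-- justifications -/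
noncomputable def just47 : List Cert.Just :=
  [.loop (some (12, 2)) [.bwd 8744, .bwd 8749, .fwd 11749],
   .define,
   .loop (some (13, 2)) [.bwd 8727, .bwd 8749, .fwd 11751],
   .define,
   .loop (some (20, 5)) [.fwd 11712, .fwd 11713, .fwd 8763, .fwd 590, .bwd 604, .fwd 5904, .bwd 8445, .fwd 11753],
   .define,
   .define,
   .define,
   .loop (some (19, 4)) [.bwd 3119, .bwd 3118, .bwd 7609, .fwd 6252, .fwd 6248, .fwd 11755, .fwd 11756, .fwd 11757],
   .loop (some (9, 2)) [.bwd 6248, .bwd 8772, .bwd 11679],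
   .define,
   .loop (some (5, 2)) [.bwd 6248, .bwd 8763, .fwd 11760],
   .define,
   .loop (some (7, 2)) [.fwd 6252, .bwd 8763, .fwd 11762],
   .define,
   .loop (some (20, 4)) [.fwd 7926, .bwd 584, .fwd 603, .fwd 604, .bwd 590, .bwd 8763, .bwd 11703, .fwd 11764],
   .define,
   .define,
   .define,
   .define,
   .define,
   .define,
   .define,
   .define,
   .define,
   .define,
   .define,
   .define,
   .define,
   .define,
   .define,
   .define,
   .define,
   .define,
   .loop (some (21, 29)) [.bwd 8768, .fwd 590, .fwd 5894, .fwd 5484, .bwd 5553, .fwd 5554, .fwd 3741, .fwd 2942, .fwd 1066, .fwd 1016, .bwd 2760, .bwd 6641, .fwd 6702, .fwd 11766, .fwd 11767, .fwd 11768, .fwd 11769, .fwd 11770, .fwd 11771, .fwd 11772, .fwd 11773, .fwd 11774, .fwd 11775, .fwd 11776, .fwd 11777, .fwd 11778, .fwd 11779, .fwd 11780, .fwd 11781, .fwd 11782, .fwd 11783],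
   .loop (some (20, 1)) [.bwd 11729, .fwd 11697, .bwd 9903, .bwd 8659, .fwd 603, .fwd 604, .fwd 591, .fwd 5916],
   .define,
   .loop (some (1, 2)) [.bwd 5916, .fwd 5936, .fwd 11786],
   .loop (some (4, 2)) [.bwd 4562, .fwd 4616, .fwd 11559],
   .define,
   .define,
   .define,
   .loop (some (20, 5)) [.fwd 4618, .fwd 4608, .fwd 4609, .fwd 4562, .fwd 4563, .fwd 11789, .fwd 11790, .fwd 11791],
   .loop (some (7, 2)) [.fwd 11553, .bwd 4616, .bwd 4609, .fwd 11329],
   .loop none [.bwd 11793],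
   .loop none [.bwd 11553, .bwd 11794],
   .loop none [.fwd 11552, .bwd 11794],
   .loop (some (11, 2)) [.bwd 4616, .fwd 6276, .fwd 11474],
   .define,
   .define,
   .loop (some (17, 4)) [.bwd 4562, .fwd 8816, .fwd 11307, .fwd 11798, .fwd 11799],
   .define,
   .define,
   .define,
   .define,
   .define,
   .define,
   .define,
   .define,
   .define,
   .define,
   .define,
   .define,
   .define,
   .define,
   .define,
   .define,
   .define,
   .define,
   .define,
   .define,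
   .define,
   .define,
   .define,
   .define,
   .define,
   .loop (some (21, 29)) [.fwd 11800, .bwd 4562, .fwd 4610, .fwd 4655, .bwd 4734, .bwd 11390, .fwd 11801, .fwd 11802, .fwd 11803, .fwd 11804, .fwd 11805, .fwd 11806, .fwd 11807, .fwd 11808, .fwd 11809, .fwd 11810, .fwd 11811, .fwd 11812, .fwd 11813, .fwd 11814, .fwd 11815, .fwd 11816, .fwd 11817, .fwd 11818, .fwd 11819, .fwd 11820, .fwd 11821, .fwd 11822, .fwd 11823, .fwd 11824, .fwd 11825],
   .loop (some (13, 2)) [.bwd 4562, .fwd 6276, .bwd 11792],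
   .define,
   .define,
   .loop (some (20, 4)) [.bwd 7630, .fwd 7631, .bwd 5171, .fwd 5170, .fwd 5163, .bwd 6473, .fwd 11828, .fwd 11829],
   .loop (some (9, 1)) [.fwd 11797, .bwd 3349, .bwd 7633],
   .loop (some (1, 2)) [.bwd 5163, .fwd 3349, .fwd 11559],
   .loop (some (5, 1)) [.fwd 11795, .bwd 3349, .bwd 5170],
   .define,
   .define,
   .define,
   .define,
   .define,
   .define,
   .define,
   .define,
   .define,
   .define,
   .define,
   .define,
   .define,
   .define,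
   .define,
   .define,
   .loop (some (21, 26)) [.bwd 3022, .bwd 7694, .bwd 2855, .bwd 7652, .bwd 5163, .bwd 2558, .bwd 307, .bwd 2036, .bwd 3102, .bwd 5551, .bwd 6728, .bwd 6777, .bwd 1741, .fwd 6769, .fwd 6771, .fwd 11834, .fwd 11835, .fwd 11836, .fwd 11837, .fwd 11838, .fwd 11839, .fwd 11840, .fwd 11841, .fwd 11842, .fwd 11843, .fwd 11844, .fwd 11845, .fwd 11846, .fwd 11847, .fwd 11848, .fwd 11849],
   .loop (some (19, 2)) [.fwd 11161, .fwd 4195, .fwd 6493, .bwd 6409, .fwd 6492, .bwd 7639, .fwd 6263, .fwd 9909],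
   .loop (some (1, 2)) [.bwd 5904, .fwd 6263, .bwd 11792],
   .define,
   .define,
   .define,
   .loop (some (20, 4)) [.bwd 5857, .fwd 624, .bwd 586, .fwd 616, .fwd 6288, .fwd 11853, .fwd 11854, .fwd 11855],
   .loop (some (1, 2)) [.bwd 6288, .bwd 6281, .fwd 10936],
   .define,
   .loop (some (1, 2)) [.bwd 6438, .bwd 6305, .fwd 11858],
   .define,
   .loop (some (20, 6)) [.bwd 621, .bwd 620, .bwd 619, .bwd 592, .fwd 5916, .fwd 11785, .fwd 11730, .fwd 11860],
   .define,
   .loop (some (19, 4)) [.bwd 2856, .bwd 2855, .bwd 7652, .bwd 5774, .bwd 5935, .bwd 11800, .bwd 11826, .fwd 11862],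
   .define,
   .loop (some (8, 2)) [.fwd 8820, .bwd 11677, .fwd 11864],
   .define,
   .loop (some (18, 3)) [.fwd 11861, .bwd 621, .bwd 620, .bwd 11677, .bwd 11676, .fwd 11866],
   .define,
   .define,
   .loop (some (14, 2)) [.fwd 11677, .fwd 620, .fwd 11868, .fwd 11869],
   .loop (some (4, 2)) [.bwd 8813, .bwd 6472, .fwd 11828],
   .define,
   .define,
   .define,
   .loop (some (20, 5)) [.fwd 11867, .fwd 11861, .bwd 621, .fwd 8813, .fwd 8814, .fwd 11872, .fwd 11873, .fwd 11874],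
   .define,
   .define,
   .define,
   .define,
   .define,
   .define,
   .loop (some (19, 7)) [.fwd 6472, .fwd 6311, .fwd 11876, .fwd 11877, .fwd 11878, .fwd 11879, .fwd 11880, .fwd 11881],
   .define,
   .loop (some (9, 2)) [.bwd 6311, .fwd 11868, .fwd 11883],
   .define,
   .loop (some (0, 1)) [.bwd 11868, .fwd 11885],
   .loop (some (1, 2)) [.bwd 8813, .fwd 6311, .fwd 11789],
   .define,
   .loop (some (2, 3)) [.fwd 6310, .fwd 6469, .fwd 11888],
   .loop (some (8, 2)) [.fwd 11889, .bwd 620, .bwd 8820],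
   .define,
   .loop (some (10, 2)) [.bwd 6310, .fwd 11868, .fwd 11891],
   .define,
   .loop (some (11, 2)) [.fwd 6472, .fwd 11868, .fwd 11893],
   .define,
   .define,
   .define,
   .loop (some (17, 4)) [.bwd 8813, .bwd 11889, .fwd 11895, .fwd 11896, .fwd 11897],
   .define,
   .define,
   .define,
   .loop (some (12, 2)) [.fwd 11889, .fwd 11868, .fwd 11901],
   .define,
   .loop (some (13, 2)) [.bwd 8813, .fwd 11868, .fwd 11903],
   .define,
   .loop (some (6, 2)) [.bwd 6314, .bwd 11861, .fwd 11905],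
   .define,
   .define,
   .define,
   .define,
   .loop (some (19, 5)) [.fwd 2983, .fwd 2984, .fwd 6417, .fwd 6315, .fwd 11907, .fwd 11908, .fwd 11909, .fwd 11910],
   .loop (some (9, 2)) [.bwd 6315, .bwd 7381, .bwd 11859],
   .define,
   .loop (some (5, 2)) [.bwd 6315, .bwd 11861, .fwd 11913],
   .loop (some (8, 2)) [.bwd 6416, .bwd 621, .bwd 11889],
   .define,
   .loop (some (7, 2)) [.fwd 6417, .bwd 11861, .fwd 11916],
   .loop (some (20, 4)) [.bwd 6288, .bwd 618, .fwd 649, .fwd 650, .bwd 622, .bwd 11861, .bwd 11860, .fwd 11731],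
   .loop (some (20, 2)) [.bwd 11872, .fwd 8815, .bwd 8445, .bwd 6438, .fwd 649, .fwd 650, .fwd 623, .fwd 5857, .fwd 11701],
   .loop none [.bwd 11919],
   .loop none [.bwd 11702, .fwd 11920, .fwd 11873],
   .loop none [.fwd 11921],
   .loop none [.bwd 11764, .fwd 11922, .fwd 11874],
   .loop none [.fwd 11923],
   .loop none [.bwd 11875, .bwd 11924],
   .define,
   .loop (some (1, 2)) [.bwd 5857, .fwd 6238, .fwd 11926],
   .loop (some (4, 2)) [.bwd 4604, .fwd 4571, .fwd 11548],
   .define,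
   .define,
   .loop (some (20, 5)) [.fwd 4573, .fwd 4566, .fwd 4567, .fwd 4604, .fwd 4605, .fwd 11742, .fwd 11929, .fwd 11930],
   .loop (some (7, 2)) [.fwd 11564, .bwd 4571, .bwd 4567, .bwd 11513],
   .loop none [.bwd 11932],
   .loop none [.bwd 11564, .bwd 11933],
   .loop none [.fwd 11563, .bwd 11933],
   .loop (some (11, 2)) [.bwd 4571, .fwd 6351, .bwd 11610],
   .define,
   .define,
   .define,
   .define,
   .define,
   .define,
   .define,
   .define,
   .define,
   .define,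
   .define,
   .define,
   .define,
   .define,
   .define,
   .define,
   .define,
   .define,
   .define,
   .define,
   .define,
   .define,
   .define,
   .define,
   .define,
   .loop (some (21, 28)) [.bwd 11704, .bwd 10368, .bwd 4604, .fwd 4568, .bwd 4655, .bwd 9907, .fwd 11937, .fwd 11938, .fwd 11939, .fwd 11940, .fwd 11941, .fwd 11942, .fwd 11943, .fwd 11944, .fwd 11945, .fwd 11946, .fwd 11947, .fwd 11948, .fwd 11949, .fwd 11950, .fwd 11951, .fwd 11952, .fwd 11953, .fwd 11954, .fwd 11955, .fwd 11956, .fwd 11957, .fwd 11958, .fwd 11959, .fwd 11960, .fwd 11961],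
   .loop (some (13, 2)) [.fwd 11709, .bwd 4604, .fwd 6351, .bwd 11931],
   .loop none [.fwd 11963],
   .loop none [.bwd 11931, .bwd 11964],
   .loop none [.fwd 11930, .bwd 11964],
   .define,
   .define,
   .loop (some (20, 4)) [.fwd 7735, .fwd 6494, .fwd 4789, .fwd 4790, .bwd 6356, .fwd 6357, .fwd 11967, .fwd 11968],
   .define,
   .define,
   .define,
   .define,
   .define,
   .define,
   .define,
   .define,
   .define,
   .define,
   .define,
   .define,
   .define,
   .define,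
   .define,
   .define,
   .define,
   .define,
   .define,
   .define,
   .define,
   .define,
   .define,
   .loop (some (21, 26)) [.bwd 2540, .bwd 7222, .bwd 1901, .fwd 7217, .fwd 6356, .bwd 4373, .bwd 6299, .bwd 3141, .fwd 11970, .fwd 11971, .fwd 11972, .fwd 11973, .fwd 11974, .fwd 11975, .fwd 11976, .fwd 11977, .fwd 11978, .fwd 11979, .fwd 11980, .fwd 11981, .fwd 11982, .fwd 11983, .fwd 11984, .fwd 11985, .fwd 11986, .fwd 11987, .fwd 11988, .fwd 11989, .fwd 11990, .fwd 11991, .fwd 11992],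
   .define,
   .loop (some (20, 4)) [.fwd 3078, .bwd 6413, .fwd 6412, .fwd 4247, .bwd 3333, .fwd 3338, .fwd 11727, .fwd 11994],
   .loop (some (9, 1)) [.fwd 11936, .fwd 4253, .bwd 4255],
   .loop (some (1, 2)) [.fwd 3333, .bwd 4253, .fwd 11548],
   .loop (some (5, 1)) [.fwd 11934, .fwd 4253, .bwd 4247],
   .loop (some (1, 2)) [.fwd 6394, .fwd 6396, .fwd 11970]]

theorem just47_len : just47.length = 250 := by decide +kernel

theorem just47_ok : cert.okFacts 11750 just47 = true := by decide +kernel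


end CfsgLib.ThCent.DK
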