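import Cfsg.Agent.Lib.ThCent.DKData

/-!
Justifications of the side facts (generated data).
-/

namespace CfsgLib.ThCent.DK

open CfsgLib.PresCert

set_option maxRecDepth 100000

/-- justifications -/
noncomputable def just48 : List Cert.Just :=
  [.define,
   .loop (some (1, 2)) [.fwd 6502, .bwd 9914, .fwd 12000],
   .loop (some (20, 5)) [.fwd 11906, .bwd 658, .bwd 657, .bwd 656, .bwd 359, .bwd 7540, .fwd 8804, .fwd 8732],
   .define,
   .loop (some (8, 2)) [.bwd 5100, .bwd 8668, .fwd 12003],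
   .define,
   .loop (some (18, 3)) [.fwd 11906, .bwd 658, .bwd 657, .bwd 8668, .bwd 8667, .fwd 12005],
   .define,
   .define,
   .define,
   .define,
   .define,
   .define,
   .define,
   .define,
   .define,
   .define,
   .define,
   .define,
   .define,
   .define,
   .define,
   .define,
   .define,
   .define,
   .define,
   .define,
   .define,
   .loop (some (21, 26)) [.bwd 9622, .fwd 6181, .fwd 5108, .fwd 439, .fwd 656, .bwd 5773, .fwd 5774, .fwd 7652, .bwd 7682, .fwd 7680, .fwd 12007, .fwd 12008, .fwd 12009, .fwd 12010, .fwd 12011, .fwd 12012, .fwd 12013, .fwd 12014, .fwd 12015, .fwd 12016, .fwd 12017, .fwd 12018, .fwd 12019, .fwd 12020, .fwd 12021, .fwd 12022, .fwd 12023, .fwd 12024, .fwd 12025, .fwd 12026, .fwd 12027],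
   .loop (some (14, 1)) [.fwd 10509, .fwd 8668, .fwd 657, .bwd 11892],
   .loop (some (20, 5)) [.fwd 12006, .fwd 11906, .bwd 658, .fwd 8622, .fwd 8623, .bwd 9921, .fwd 8690, .fwd 8796],
   .define,
   .loop (some (9, 2)) [.bwd 6475, .bwd 11892, .fwd 12031],
   .loop (some (0, 1)) [.fwd 11892, .fwd 10524],
   .define,
   .define,
   .loop (some (17, 4)) [.bwd 8622, .fwd 6469, .fwd 3906, .fwd 12034, .fwd 12035],
   .define,
   .loop (some (12, 2)) [.bwd 6469, .bwd 11892, .fwd 12037],
   .loop (some (13, 1)) [.fwd 10080, .bwd 8622, .bwd 11892],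
   .define,
   .loop (some (5, 2)) [.bwd 6496, .bwd 11906, .fwd 12040],
   .loop (some (7, 1)) [.fwd 3965, .bwd 6481, .bwd 11906],
   .define,
   .define,
   .define,
   .define,
   .define,
   .define,
   .define,
   .define,
   .define,
   .define,
   .define,
   .define,
   .define,
   .define,
   .define,
   .define,
   .define,
   .define,
   .define,
   .define,
   .define,
   .loop (some (21, 27)) [.fwd 10436, .bwd 10299, .bwd 6404, .bwd 659, .bwd 6314, .bwd 6417, .bwd 2984, .bwd 7693, .bwd 3314, .bwd 11471, .fwd 12043, .fwd 12044, .fwd 12045, .fwd 12046, .fwd 12047, .fwd 12048, .fwd 12049, .fwd 12050, .fwd 12051, .fwd 12052, .fwd 12053, .fwd 12054, .fwd 12055, .fwd 12056, .fwd 12057, .fwd 12058, .fwd 12059, .fwd 12060, .fwd 12061, .fwd 12062, .fwd 12063],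
   .define,
   .loop (some (20, 4)) [.bwd 9940, .fwd 9920, .fwd 8864, .fwd 8685, .fwd 8682, .bwd 8700, .fwd 8742, .fwd 12065],
   .define,
   .define,
   .define,
   .define,
   .define,
   .define,
   .define,
   .define,
   .define,
   .define,
   .define,
   .define,
   .define,
   .define,
   .define,
   .define,
   .define,
   .define,
   .define,
   .define,
   .define,
   .define,
   .define,
   .define,
   .define,
   .loop (some (21, 28)) [.bwd 9938, .fwd 9939, .bwd 8682, .bwd 5872, .fwd 5873, .fwd 8885, .fwd 12067, .fwd 12068, .fwd 12069, .fwd 12070, .fwd 12071, .fwd 12072, .fwd 12073, .fwd 12074, .fwd 12075, .fwd 12076, .fwd 12077, .fwd 12078, .fwd 12079, .fwd 12080, .fwd 12081, .fwd 12082, .fwd 12083, .fwd 12084, .fwd 12085, .fwd 12086, .fwd 12087, .fwd 12088, .fwd 12089, .fwd 12090, .fwd 12091],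
   .define,
   .define,
   .loop (some (20, 4)) [.bwd 4061, .fwd 6514, .bwd 6442, .fwd 6441, .bwd 6301, .fwd 6302, .fwd 12093, .fwd 12094],
   .define,
   .define,
   .define,
   .define,
   .define,
   .define,
   .define,
   .define,
   .define,
   .define,
   .define,
   .define,
   .define,
   .define,
   .define,
   .define,
   .define,
   .define,
   .define,
   .define,
   .define,
   .define,
   .loop (some (21, 26)) [.bwd 5040, .bwd 7602, .bwd 7210, .bwd 6419, .fwd 6301, .fwd 4373, .bwd 4779, .bwd 8818, .fwd 10983, .fwd 12096, .fwd 12097, .fwd 12098, .fwd 12099, .fwd 12100, .fwd 12101, .fwd 12102, .fwd 12103, .fwd 12104, .fwd 12105, .fwd 12106, .fwd 12107, .fwd 12108, .fwd 12109, .fwd 12110, .fwd 12111, .fwd 12112, .fwd 12113, .fwd 12114, .fwd 12115, .fwd 12116, .fwd 12117],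
   .define,
   .loop (some (1, 2)) [.fwd 3622, .bwd 6524, .fwd 12119],
   .define,
   .define,
   .define,
   .define,
   .define,
   .define,
   .define,
   .define,
   .define,
   .define,
   .define,
   .define,
   .define,
   .loop (some (21, 23)) [.bwd 8377, .fwd 8297, .fwd 6345, .fwd 5857, .fwd 7250, .bwd 1966, .fwd 4093, .fwd 3622, .fwd 2845, .bwd 1880, .fwd 2951, .fwd 2747, .bwd 3824, .bwd 5774, .bwd 8820, .bwd 8819, .bwd 3827, .bwd 9127, .fwd 12121, .fwd 12122, .fwd 12123, .fwd 12124, .fwd 12125, .fwd 12126, .fwd 12127, .fwd 12128, .fwd 12129, .fwd 12130, .fwd 12131, .fwd 12132, .fwd 12133],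
   .define,
   .loop (some (1, 2)) [.bwd 3680, .bwd 3692, .fwd 12135],
   .define,
   .define,
   .define,
   .define,
   .define,
   .define,
   .define,
   .define,
   .define,
   .define,
   .define,
   .define,
   .define,
   .define,
   .loop (some (21, 22)) [.fwd 4747, .bwd 8380, .fwd 8384, .bwd 6307, .fwd 6324, .fwd 6246, .bwd 2526, .fwd 5415, .bwd 3680, .fwd 3677, .fwd 3049, .bwd 2463, .fwd 5051, .bwd 7514, .fwd 6270, .fwd 5912, .fwd 11334, .fwd 12137, .fwd 12138, .fwd 12139, .fwd 12140, .fwd 12141, .fwd 12142, .fwd 12143, .fwd 12144, .fwd 12145, .fwd 12146, .fwd 12147, .fwd 12148, .fwd 12149, .fwd 12150],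
   .define,
   .loop (some (18, 3)) [.fwd 3965, .bwd 706, .bwd 705, .bwd 5322, .bwd 5321, .fwd 12152],
   .define,
   .define,
   .define,
   .loop (some (20, 5)) [.fwd 12153, .fwd 3965, .bwd 706, .fwd 3853, .fwd 5101, .bwd 6554, .fwd 5390, .fwd 5534],
   .define,
   .loop (some (9, 2)) [.fwd 3885, .bwd 3894, .fwd 12158],
   .define,
   .define,
   .define,
   .define,
   .define,
   .define,
   .define,
   .define,
   .define,
   .define,
   .define,
   .define,
   .define,
   .define,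
   .define,
   .define,
   .define,
   .define,
   .define,
   .define,
   .define,
   .define,
   .define,
   .loop (some (21, 26)) [.bwd 5474, .fwd 10520, .bwd 10507, .fwd 8130, .bwd 3853, .bwd 3797, .fwd 3814, .bwd 4018, .fwd 12160, .fwd 12161, .fwd 12162, .fwd 12163, .fwd 12164, .fwd 12165, .fwd 12166, .fwd 12167, .fwd 12168, .fwd 12169, .fwd 12170, .fwd 12171, .fwd 12172, .fwd 12173, .fwd 12174, .fwd 12175, .fwd 12176, .fwd 12177, .fwd 12178, .fwd 12179, .fwd 12180, .fwd 12181, .fwd 12182],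
   .define,
   .loop (some (5, 2)) [.fwd 4031, .bwd 3965, .fwd 12184],
   .define,
   .loop (some (1, 2)) [.fwd 4094, .bwd 4118, .fwd 12186],
   .define,
   .define,
   .define,
   .define,
   .define,
   .define,
   .define,
   .define,
   .define,
   .define,
   .define,
   .define,
   .define,
   .define,
   .loop (some (21, 22)) [.bwd 4725, .fwd 4750, .fwd 4779, .bwd 645, .fwd 6288, .bwd 6391, .bwd 1897, .bwd 4093, .fwd 4094, .fwd 3262, .fwd 2957, .bwd 1934, .fwd 4838, .bwd 5251, .fwd 9900, .fwd 11516, .fwd 11517, .fwd 12188, .fwd 12189, .fwd 12190, .fwd 12191, .fwd 12192, .fwd 12193, .fwd 12194, .fwd 12195, .fwd 12196, .fwd 12197, .fwd 12198, .fwd 12199, .fwd 12200, .fwd 12201],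
   .define,
   .loop (some (20, 4)) [.bwd 6559, .fwd 6553, .fwd 6548, .fwd 4166, .fwd 4165, .bwd 5404, .fwd 5434, .fwd 12203],
   .define,
   .define,
   .define,
   .define,
   .define,
   .define,
   .define,
   .define,
   .define,
   .define,
   .define,
   .define,
   .define,
   .define,
   .define,
   .define,
   .define,
   .loop (some (21, 21)) [.bwd 4064, .fwd 8232, .bwd 4194, .bwd 10435, .bwd 10596, .bwd 9601, .fwd 10411, .bwd 7744, .fwd 7745, .bwd 4165, .bwd 3269, .fwd 4208, .bwd 5689, .fwd 8888, .fwd 12205, .fwd 12206, .fwd 12207, .fwd 12208, .fwd 12209, .fwd 12210, .fwd 12211, .fwd 12212, .fwd 12213, .fwd 12214, .fwd 12215, .fwd 12216, .fwd 12217, .fwd 12218, .fwd 12219, .fwd 12220, .fwd 12221],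
   .define,
   .define,
   .define,
   .define,
   .define,
   .define,
   .define,
   .define,
   .define,
   .define,
   .define,
   .define,
   .define,
   .loop (some (21, 23)) [.bwd 8320, .bwd 6365, .bwd 6282, .fwd 6438, .bwd 7455, .bwd 2477, .bwd 5415, .fwd 4293, .fwd 4043, .fwd 3107, .bwd 2505, .fwd 4966, .bwd 6251, .fwd 6252, .fwd 8768, .fwd 9898, .bwd 4980, .bwd 9595, .fwd 12223, .fwd 12224, .fwd 12225, .fwd 12226, .fwd 12227, .fwd 12228, .fwd 12229, .fwd 12230, .fwd 12231, .fwd 12232, .fwd 12233, .fwd 12234, .fwd 12235],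
   .define,
   .define,
   .loop (some (14, 3)) [.bwd 12237, .bwd 6017, .fwd 12237, .fwd 12238],
   .define,
   .define,
   .define,
   .define,
   .define,
   .loop (some (20, 7)) [.fwd 9023, .bwd 5983, .bwd 9008, .fwd 12240, .fwd 12241, .fwd 12242, .fwd 12243, .fwd 12244],
   .loop (some (8, 1)) [.bwd 10926, .fwd 9008, .fwd 5949, .fwd 12237],
   .loop none [.fwd 12246],
   .loop none [.fwd 12239, .bwd 12247],
   .loop none [.fwd 12237, .bwd 12247]]

theorem just48_len : just48.length = 250 := by decide +kernel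

theorem just48_ok : cert.okFacts 12000 just48 = true := by decide +kernel

/-- justifications -/
noncomputable def just49 : List Cert.Just :=
  [.define,
   .loop (some (18, 3)) [.fwd 12244, .fwd 12245, .fwd 9023, .bwd 12249, .fwd 12248, .fwd 12250],
   .define,
   .define,
   .loop (some (14, 3)) [.bwd 12252, .bwd 1816, .fwd 12252, .fwd 12253],
   .define,
   .define,
   .define,
   .define,
   .define,
   .loop (some (20, 7)) [.bwd 1815, .bwd 2718, .fwd 2719, .fwd 12255, .fwd 12256, .fwd 12257, .fwd 12258, .fwd 12259],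
   .loop (some (8, 1)) [.fwd 2302, .bwd 1813, .fwd 12252],
   .define,
   .loop (some (18, 3)) [.fwd 12259, .fwd 12260, .bwd 1815, .fwd 12252, .bwd 12254, .fwd 12262],
   .loop (some (17, 2)) [.bwd 11766, .bwd 6702, .bwd 1863, .bwd 1174, .fwd 2778],
   .loop (some (13, 2)) [.bwd 1213, .fwd 6736, .fwd 11655],
   .loop (some (3, 1)) [.bwd 11767, .bwd 11766, .bwd 6740],
   .loop (some (3, 1)) [.bwd 11656, .bwd 11655, .fwd 6776],
   .loop (some (10, 2)) [.fwd 6735, .bwd 12265, .fwd 11656],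
   .loop (some (11, 2)) [.fwd 6780, .bwd 12268, .fwd 11657],
   .loop (some (2, 2)) [.bwd 6699, .bwd 2299, .bwd 12261],
   .loop (some (13, 1)) [.fwd 12269, .bwd 1287, .bwd 7085],
   .loop (some (12, 2)) [.bwd 11680, .bwd 12269, .fwd 11658],
   .loop (some (19, 4)) [.bwd 9502, .bwd 9501, .fwd 10862, .fwd 6909, .bwd 6911, .bwd 8007, .fwd 5195, .fwd 5196],
   .loop (some (19, 2)) [.fwd 9024, .bwd 8993, .bwd 1464, .bwd 6971, .bwd 2263, .bwd 1466, .fwd 1462, .bwd 12261],
   .loop (some (17, 3)) [.bwd 11309, .fwd 8007, .bwd 3500, .bwd 3422, .fwd 9622, .bwd 12028],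
   .loop none [.fwd 12275],
   .loop none [.fwd 12027, .bwd 12276],
   .loop none [.bwd 12028, .bwd 12276],
   .loop (some (13, 2)) [.bwd 3500, .fwd 6965, .fwd 11165],
   .loop (some (3, 2)) [.bwd 8855, .fwd 6010, .fwd 12255],
   .loop (some (4, 2)) [.bwd 12255, .fwd 8993, .fwd 9016],
   .loop (some (1, 2)) [.bwd 12255, .fwd 6012, .fwd 8986],
   .loop (some (8, 1)) [.fwd 12260, .bwd 1675, .bwd 1648],
   .loop (some (8, 1)) [.fwd 12259, .bwd 12283, .fwd 1679],
   .loop (some (8, 3)) [.bwd 2303, .bwd 12261, .bwd 12254],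
   .loop (some (2, 2)) [.bwd 12284, .fwd 7052, .bwd 10001],
   .loop (some (8, 1)) [.fwd 12263, .bwd 12284, .fwd 1680],
   .loop (some (2, 2)) [.fwd 8800, .fwd 7050, .fwd 12287],
   .loop (some (4, 3)) [.fwd 6786, .fwd 12266, .fwd 11768],
   .loop (some (13, 2)) [.fwd 12289, .bwd 7054, .fwd 1287],
   .loop (some (13, 2)) [.bwd 3514, .fwd 7095, .fwd 11477],
   .loop (some (10, 2)) [.bwd 5984, .bwd 9529, .bwd 12288],
   .loop (some (17, 2)) [.bwd 11659, .bwd 11658, .bwd 12271, .bwd 10001, .bwd 8858],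
   .loop (some (13, 2)) [.bwd 12271, .bwd 7056, .bwd 12289],
   .loop (some (17, 4)) [.fwd 6751, .fwd 1751, .bwd 1861, .bwd 6742, .fwd 12266],
   .loop (some (13, 2)) [.bwd 12266, .bwd 6779, .fwd 1245],
   .loop (some (13, 2)) [.bwd 12267, .bwd 6794, .fwd 12266],
   .loop (some (19, 4)) [.bwd 12008, .bwd 12007, .bwd 2852, .bwd 3620, .bwd 3630, .fwd 3217, .bwd 4834, .bwd 7543],
   .loop (some (15, 3)) [.fwd 12120, .bwd 1896, .bwd 3630, .bwd 4799, .bwd 5265],
   .loop (some (6, 1)) [.bwd 11853, .bwd 6391, .bwd 10011],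
   .loop (some (8, 0)) [.bwd 11516, .fwd 9903, .bwd 1914],
   .loop (some (14, 2)) [.fwd 11752, .fwd 11696, .fwd 11697, .bwd 6386, .bwd 11856],
   .loop none [.fwd 12302],
   .loop none [.fwd 11855, .bwd 12303],
   .loop none [.bwd 11856, .bwd 12303],
   .loop (some (5, 2)) [.bwd 11708, .bwd 9903, .bwd 11679],
   .loop (some (18, 4)) [.bwd 11674, .fwd 9903, .bwd 11697, .bwd 11696, .fwd 10527, .bwd 10529],
   .loop (some (15, 3)) [.bwd 11998, .fwd 2874, .fwd 4254, .bwd 3244, .fwd 11833],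
   .loop (some (9, 2)) [.fwd 12187, .fwd 6558, .fwd 3808],
   .loop (some (6, 1)) [.bwd 11701, .fwd 7250, .fwd 8689],
   .loop (some (19, 0)) [.fwd 11909, .fwd 11910, .fwd 11911, .fwd 2983, .fwd 2984, .fwd 6417, .fwd 6416, .bwd 1982],
   .loop (some (6, 2)) [.bwd 2022, .bwd 10442, .fwd 2795],
   .loop (some (6, 1)) [.bwd 8760, .fwd 7455, .fwd 11753],
   .loop (some (19, 6)) [.bwd 12287, .bwd 7051, .fwd 6997, .fwd 6992, .bwd 6981, .fwd 9976, .bwd 10661, .bwd 10673],
   .loop (some (19, 6)) [.bwd 3057, .bwd 3668, .bwd 3688, .fwd 4026, .fwd 4008, .bwd 7650, .bwd 11471, .fwd 12043],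
   .loop (some (9, 2)) [.fwd 12136, .bwd 6531, .bwd 12120],
   .loop (some (9, 2)) [.fwd 12001, .bwd 7202, .bwd 11999],
   .loop (some (18, 3)) [.fwd 12029, .bwd 10530, .bwd 8760, .bwd 7980, .bwd 8624, .bwd 8623],
   .loop (some (19, 0)) [.fwd 11705, .fwd 11706, .fwd 11707, .fwd 3331, .fwd 3332, .bwd 5849, .fwd 2929, .bwd 2493],
   .loop (some (15, 3)) [.bwd 11996, .fwd 3079, .bwd 5013, .bwd 7627, .fwd 11831],
   .loop (some (14, 3)) [.fwd 11731, .fwd 11918, .bwd 7204, .bwd 621, .fwd 11885],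
   .loop none [.fwd 12321],
   .loop none [.bwd 11886, .bwd 12322],
   .loop none [.fwd 11885, .bwd 12322],
   .loop (some (20, 8)) [.bwd 11853, .bwd 6288, .bwd 616, .bwd 22, .bwd 361, .bwd 592, .fwd 5916, .bwd 11653, .bwd 11652],
   .loop none [.bwd 12325],
   .loop none [.fwd 12300, .bwd 12326],
   .loop none [.fwd 11651, .fwd 12326, .fwd 11854],
   .loop none [.fwd 12328],
   .loop none [.fwd 11853, .bwd 12326],
   .loop none [.fwd 12304, .bwd 12329],
   .loop (some (9, 2)) [.fwd 11857, .bwd 7204, .fwd 6315],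
   .loop (some (3, 2)) [.bwd 4243, .bwd 6244, .fwd 11727],
   .loop (some (10, 1)) [.fwd 11745, .fwd 6244, .bwd 4924],
   .loop (some (17, 2)) [.bwd 11900, .bwd 11899, .bwd 4243, .fwd 4912, .fwd 5450],
   .loop (some (6, 1)) [.fwd 11763, .fwd 6251, .bwd 4972],
   .loop (some (3, 2)) [.bwd 3858, .bwd 3900, .fwd 11828],
   .loop (some (2, 2)) [.fwd 4018, .bwd 3900, .bwd 11882],
   .loop (some (10, 1)) [.fwd 11894, .fwd 3900, .bwd 3896],
   .loop (some (6, 1)) [.fwd 11917, .fwd 6487, .bwd 4034],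
   .loop (some (19, 4)) [.bwd 11769, .bwd 11768, .fwd 12295, .fwd 2780, .bwd 9985, .fwd 9536, .fwd 11368, .fwd 11369],
   .loop (some (16, 0)) [.fwd 11502, .fwd 11125, .fwd 9314, .bwd 9359, .bwd 10210, .fwd 7973],
   .loop none [.bwd 12342],
   .loop none [.bwd 11502, .bwd 12343],
   .loop none [.bwd 2794, .fwd 12343, .bwd 11501],
   .loop none [.fwd 12345],
   .loop none [.fwd 11500, .bwd 12346],
   .loop (some (3, 1)) [.bwd 12344, .fwd 2794, .fwd 2795],
   .loop (some (13, 2)) [.bwd 12348, .bwd 7674, .fwd 10877],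
   .loop (some (14, 2)) [.fwd 11904, .fwd 8814, .fwd 8815, .bwd 6279, .bwd 11653],
   .loop none [.bwd 12350],
   .loop none [.fwd 11903, .bwd 12351],
   .loop none [.bwd 11904, .bwd 12351],
   .loop (some (20, 6)) [.bwd 11753, .fwd 8445, .bwd 5904, .bwd 603, .fwd 8659, .fwd 11674, .bwd 12307, .fwd 5474],
   .loop (some (9, 2)) [.fwd 11852, .bwd 6279, .bwd 11787],
   .loop (some (5, 2)) [.fwd 11852, .bwd 8445, .bwd 11859],
   .loop (some (4, 1)) [.bwd 5187, .bwd 2853, .fwd 12007],
   .loop (some (11, 2)) [.bwd 12007, .bwd 7681, .fwd 3951],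
   .loop (some (11, 2)) [.bwd 5187, .bwd 7654, .bwd 11471],
   .loop (some (8, 0)) [.fwd 11882, .fwd 6473, .fwd 7652],
   .loop (some (17, 2)) [.bwd 12155, .bwd 12154, .bwd 7690, .fwd 2856, .fwd 2857],
   .loop (some (2, 1)) [.bwd 12156, .bwd 12361, .fwd 2858],
   .loop (some (17, 1)) [.fwd 11850, .bwd 3022, .bwd 3021, .fwd 7698, .fwd 12362],
   .loop (some (9, 2)) [.bwd 11998, .bwd 6347, .bwd 4253],
   .loop (some (5, 1)) [.bwd 11935, .bwd 11998, .bwd 6412],
   .loop (some (14, 2)) [.fwd 12331, .fwd 12305, .bwd 6348, .bwd 11700],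
   .loop (some (9, 2)) [.fwd 11927, .bwd 6348, .bwd 6237],
   .loop (some (7, 0)) [.fwd 3237, .fwd 10075, .bwd 2979],
   .loop (some (16, 5)) [.bwd 7785, .bwd 3315, .bwd 3314, .bwd 11471, .bwd 11470],
   .loop (some (4, 0)) [.fwd 11469, .fwd 12369, .fwd 2981],
   .loop (some (16, 4)) [.bwd 12370, .fwd 2982, .fwd 2983, .fwd 7656, .fwd 3951],
   .loop (some (6, 0)) [.fwd 12338, .fwd 7657, .bwd 7656],
   .loop (some (7, 2)) [.fwd 2983, .fwd 12372, .bwd 11881],
   .loop (some (1, 0)) [.fwd 11562, .bwd 12365, .bwd 2985],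
   .loop (some (19, 1)) [.bwd 11475, .bwd 11474, .fwd 9909, .fwd 11851, .fwd 11161, .fwd 4195, .fwd 6493, .bwd 6409, .fwd 12365],
   .loop none [.fwd 12375],
   .loop none [.fwd 12365, .bwd 12376],
   .loop none [.fwd 11562, .bwd 12376],
   .loop none [.fwd 11935, .bwd 12376],
   .loop none [.fwd 11570, .bwd 12376],
   .loop (some (5, 2)) [.bwd 12380, .fwd 12377, .fwd 6413, .fwd 11996],
   .loop none [.fwd 12381],
   .loop none [.fwd 11996, .bwd 12382],
   .loop none [.fwd 12320, .bwd 12382],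
   .loop none [.bwd 11610, .bwd 12382],
   .loop none [.fwd 11609, .bwd 12382],
   .loop none [.bwd 11936, .bwd 12382],
   .loop (some (11, 2)) [.bwd 7696, .bwd 7828, .bwd 12369],
   .loop (some (2, 2)) [.fwd 11850, .fwd 3023, .fwd 12154],
   .loop (some (11, 2)) [.fwd 7829, .bwd 7831, .fwd 12370],
   .loop (some (12, 2)) [.bwd 12154, .bwd 7833, .bwd 11911],
   .loop (some (19, 0)) [.bwd 11262, .bwd 4616, .fwd 8816, .fwd 8817, .fwd 8818, .fwd 4779, .bwd 645, .fwd 6287],
   .loop (some (9, 2)) [.bwd 12392, .bwd 6414, .bwd 12377],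
   .loop (some (4, 2)) [.bwd 12298, .bwd 3058, .bwd 12315, .fwd 12044],
   .loop none [.fwd 12394],
   .loop none [.bwd 12045, .bwd 12395],
   .loop none [.bwd 12009, .fwd 12395, .bwd 12044],
   .loop none [.fwd 12397],
   .loop none [.bwd 12315, .bwd 12398],
   .loop none [.fwd 12043, .bwd 12398],
   .loop (some (7, 2)) [.fwd 12399, .bwd 7685, .bwd 11471],
   .loop (some (16, 3)) [.bwd 12011, .bwd 12010, .fwd 12399, .bwd 7792, .bwd 3134, .bwd 3133],
   .loop none [.bwd 12402],
   .loop none [.fwd 12011, .bwd 12403],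
   .loop none [.bwd 7853, .fwd 12403, .fwd 12012],
   .loop none [.fwd 12405],
   .loop none [.bwd 12013, .bwd 12406],
   .loop (some (11, 2)) [.bwd 12298, .bwd 7839, .fwd 5187],
   .loop (some (16, 3)) [.bwd 12046, .bwd 12396, .bwd 12298, .fwd 3059, .fwd 3060, .bwd 7856],
   .loop none [.bwd 12409],
   .loop none [.fwd 12046, .bwd 12410],
   .loop none [.fwd 3131, .fwd 12410, .fwd 12047],
   .loop none [.fwd 12412],
   .loop none [.bwd 7860, .fwd 12413, .fwd 12048],
   .loop none [.fwd 12414],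
   .loop none [.fwd 3063, .fwd 12415, .fwd 12049],
   .loop none [.fwd 12416],
   .loop none [.bwd 12050, .bwd 12417],
   .loop (some (17, 0)) [.bwd 12407, .bwd 7853, .bwd 3132, .bwd 3131, .fwd 7860],
   .loop (some (16, 6)) [.fwd 3075, .fwd 3076, .fwd 7902, .fwd 8773, .fwd 10962, .fwd 10963],
   .loop none [.fwd 12420],
   .loop none [.fwd 10963, .bwd 12421],
   .loop none [.bwd 10964, .bwd 12421],
   .loop (some (17, 2)) [.bwd 7915, .bwd 7889, .fwd 3073, .fwd 3074, .fwd 12423, .fwd 10965],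
   .loop none [.fwd 12424],
   .loop none [.fwd 5512, .fwd 12425, .fwd 10966],
   .loop none [.fwd 12426],
   .loop none [.fwd 10965, .bwd 12425],
   .loop none [.bwd 10967, .bwd 12427],
   .loop (some (12, 2)) [.bwd 12423, .bwd 7897, .fwd 10048],
   .loop (some (2, 2)) [.bwd 7908, .bwd 3075, .fwd 12423],
   .loop (some (9, 2)) [.fwd 12383, .bwd 6367, .fwd 11998],
   .loop (some (5, 1)) [.fwd 11569, .fwd 12383, .bwd 6444],
   .loop (some (7, 2)) [.bwd 3118, .bwd 10064, .bwd 11738],
   .loop (some (8, 0)) [.fwd 11737, .fwd 12434, .fwd 3119],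
   .loop (some (11, 2)) [.fwd 11758, .bwd 7804, .fwd 10284],
   .loop (some (4, 1)) [.bwd 12404, .bwd 3132, .fwd 12411],
   .loop (some (11, 2)) [.bwd 12411, .bwd 7830, .fwd 7696],
   .loop (some (7, 2)) [.bwd 12404, .fwd 10067, .bwd 12369],
   .loop (some (19, 1)) [.bwd 11330, .bwd 11329, .fwd 10376, .bwd 10733, .fwd 9838, .bwd 6365, .bwd 6282, .bwd 6443, .fwd 12433],
   .loop none [.fwd 12440],
   .loop none [.fwd 12433, .bwd 12441],
   .loop none [.bwd 11569, .bwd 12441],
   .loop none [.fwd 11567, .bwd 12441],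
   .loop (some (4, 2)) [.bwd 12119, .fwd 3140, .fwd 11970],
   .loop (some (12, 2)) [.bwd 3222, .bwd 7511, .fwd 11834],
   .loop (some (13, 2)) [.bwd 3223, .bwd 12446, .fwd 11835],
   .loop (some (10, 2)) [.bwd 3224, .bwd 12447, .fwd 11836],
   .loop (some (11, 2)) [.bwd 3225, .bwd 12448, .fwd 11837],
   .loop (some (12, 2)) [.bwd 3226, .bwd 12449, .fwd 11838],
   .loop (some (13, 2)) [.bwd 3227, .bwd 12450, .fwd 11839],
   .loop (some (10, 2)) [.bwd 3228, .bwd 12451, .fwd 11840],
   .loop (some (11, 2)) [.bwd 3229, .bwd 12452, .fwd 11841],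
   .loop (some (12, 2)) [.bwd 3230, .bwd 12453, .fwd 11842],
   .loop (some (13, 2)) [.bwd 3231, .bwd 12454, .fwd 11843],
   .loop (some (10, 2)) [.bwd 3232, .bwd 12455, .fwd 11844],
   .loop (some (11, 2)) [.bwd 3233, .bwd 12456, .fwd 11845],
   .loop (some (12, 2)) [.bwd 3234, .bwd 12457, .fwd 11846],
   .loop (some (13, 2)) [.bwd 3235, .bwd 12458, .fwd 11847],
   .loop (some (9, 2)) [.bwd 11833, .bwd 6272, .fwd 3349],
   .loop (some (5, 1)) [.bwd 11796, .bwd 11833, .fwd 5171],
   .loop (some (19, 0)) [.bwd 6100, .fwd 6099, .bwd 8286, .bwd 9434, .bwd 11365, .bwd 11364, .bwd 5711, .bwd 7959],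
   .loop (some (1, 2)) [.fwd 3282, .fwd 12462, .fwd 4812],
   .loop (some (15, 4)) [.bwd 3283, .fwd 12462, .bwd 6222, .bwd 10614, .fwd 8933],
   .loop (some (8, 0)) [.bwd 11397, .fwd 9867, .bwd 9854],
   .loop (some (12, 1)) [.fwd 11258, .bwd 9854, .bwd 7961],
   .loop (some (4, 1)) [.fwd 11725, .bwd 7960, .fwd 3284],
   .loop (some (9, 1)) [.fwd 10617, .fwd 12464, .bwd 7962],
   .loop (some (3, 0)) [.fwd 11723, .fwd 11724, .bwd 12467],
   .loop (some (2, 2)) [.bwd 3285, .fwd 12469, .bwd 11722],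
   .loop (some (3, 1)) [.bwd 3287, .bwd 3286, .bwd 12470],
   .loop (some (4, 1)) [.fwd 11721, .fwd 12471, .fwd 3288],
   .loop (some (3, 0)) [.fwd 11719, .fwd 11720, .bwd 12472],
   .loop (some (2, 2)) [.bwd 3289, .fwd 12473, .bwd 11718],
   .loop (some (3, 1)) [.bwd 3291, .bwd 3290, .bwd 12474],
   .loop (some (4, 1)) [.fwd 11717, .fwd 12475, .fwd 3292],
   .loop (some (3, 0)) [.fwd 11715, .fwd 11716, .bwd 12476],
   .loop (some (17, 4)) [.bwd 12476, .fwd 3293, .fwd 3294, .fwd 10213, .fwd 10817],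
   .loop (some (17, 2)) [.bwd 11715, .bwd 11714, .fwd 10079, .fwd 9886, .fwd 9757],
   .loop (some (9, 2)) [.bwd 11831, .fwd 7634, .fwd 11833],
   .loop (some (4, 1)) [.fwd 11471, .bwd 3313, .fwd 3951],
   .loop (some (11, 2)) [.bwd 3951, .bwd 7659, .bwd 12399],
   .loop (some (11, 2)) [.fwd 11471, .bwd 7840, .fwd 12298],
   .loop (some (11, 2)) [.bwd 7751, .bwd 7898, .fwd 12422],
   .loop (some (14, 4)) [.bwd 7910, .fwd 7909, .fwd 7802, .bwd 12434],
   .loop (some (8, 2)) [.fwd 11707, .bwd 12485, .bwd 11737],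
   .loop (some (12, 2)) [.fwd 11707, .bwd 7910, .fwd 7908],
   .loop (some (5, 1)) [.bwd 11549, .fwd 11997, .fwd 3338],
   .loop (some (9, 2)) [.bwd 10082, .bwd 6260, .fwd 12461],
   .loop (some (19, 0)) [.fwd 11512, .fwd 11513, .bwd 8329, .fwd 8311, .fwd 6205, .bwd 6102, .fwd 6094, .bwd 6235],
   .loop (some (9, 3)) [.bwd 12490, .bwd 3336, .fwd 10082, .fwd 11546],
   .loop none [.fwd 12491],
   .loop none [.bwd 11554, .bwd 12492],
   .loop none [.bwd 11547, .bwd 12492],
   .loop none [.fwd 11546, .bwd 12492],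
   .loop (some (15, 1)) [.fwd 12442, .fwd 3137, .bwd 7286, .bwd 6234, .fwd 12490],
   .loop (some (5, 1)) [.bwd 11550, .bwd 12488, .fwd 3339],
   .loop (some (15, 1)) [.bwd 12374, .fwd 6487, .fwd 7572, .bwd 6251, .fwd 12497],
   .loop (some (19, 1)) [.bwd 12386, .fwd 12385, .bwd 8330, .fwd 8314, .bwd 6182, .fwd 6153, .fwd 6086, .bwd 6259, .fwd 12461]]

theorem just49_len : just49.length = 250 := by decide +kernel

theorem just49_ok : cert.okFacts 12250 just49 = true := by decide +kernel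

/-- justifications -/
noncomputable def just50 : List Cert.Just :=
  [.loop none [.bwd 12499],
   .loop none [.fwd 11608, .bwd 12500],
   .loop none [.fwd 12386, .bwd 12500],
   .loop (some (9, 2)) [.bwd 12461, .bwd 6269, .fwd 12490],
   .loop (some (15, 1)) [.fwd 12377, .bwd 3957, .fwd 7178, .bwd 6258, .fwd 12461],
   .loop (some (5, 2)) [.fwd 11555, .bwd 12461, .bwd 7631, .fwd 11831],
   .loop none [.bwd 12505],
   .loop none [.bwd 11555, .bwd 12506],
   .loop none [.fwd 12493, .bwd 12506],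
   .loop (some (17, 2)) [.bwd 11165, .bwd 7984, .bwd 3360, .bwd 9739, .fwd 11134],
   .loop (some (3, 2)) [.bwd 10881, .bwd 6115, .fwd 9360],
   .loop (some (17, 4)) [.fwd 8794, .fwd 8795, .fwd 7985, .bwd 3489, .fwd 11611, .fwd 11612],
   .loop none [.fwd 12511],
   .loop none [.bwd 11613, .bwd 12512],
   .loop none [.fwd 11612, .bwd 12512],
   .loop (some (13, 2)) [.fwd 8795, .bwd 6162, .fwd 10881],
   .loop (some (3, 3)) [.bwd 11196, .bwd 7989, .fwd 11519, .fwd 11520],
   .loop none [.fwd 12516],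
   .loop none [.bwd 11197, .fwd 12517, .bwd 11520],
   .loop none [.fwd 12518],
   .loop none [.bwd 11521, .bwd 12517],
   .loop none [.fwd 11519, .bwd 12519],
   .loop (some (4, 3)) [.bwd 11196, .bwd 7996, .fwd 11196, .fwd 12520],
   .loop none [.fwd 12522],
   .loop none [.bwd 11522, .bwd 12523],
   .loop (some (17, 2)) [.bwd 11523, .bwd 12524, .bwd 11196, .bwd 7986, .fwd 10881],
   .loop (some (13, 2)) [.bwd 11196, .bwd 3443, .bwd 10103],
   .loop (some (0, 2)) [.fwd 10121, .fwd 12526],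
   .loop (some (12, 2)) [.bwd 11611, .bwd 12527, .fwd 12524],
   .loop (some (3, 3)) [.bwd 11004, .bwd 7091, .fwd 11336, .fwd 11337],
   .loop none [.fwd 12529],
   .loop none [.bwd 11005, .fwd 12530, .bwd 11337],
   .loop none [.fwd 12531],
   .loop none [.bwd 11338, .bwd 12530],
   .loop none [.fwd 11336, .bwd 12532],
   .loop (some (4, 3)) [.bwd 11004, .bwd 6967, .fwd 11004, .fwd 12533],
   .loop none [.fwd 12535],
   .loop none [.bwd 11339, .bwd 12536],
   .loop (some (17, 2)) [.bwd 11340, .bwd 12537, .bwd 11004, .bwd 7983, .fwd 9636],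
   .loop (some (3, 3)) [.bwd 11165, .bwd 7103, .fwd 11477, .fwd 11478],
   .loop none [.fwd 12539],
   .loop none [.bwd 11166, .fwd 12540, .bwd 11478],
   .loop none [.fwd 12541],
   .loop none [.bwd 11479, .bwd 12540],
   .loop none [.fwd 11477, .bwd 12542],
   .loop none [.bwd 12291, .bwd 12542],
   .loop (some (4, 3)) [.bwd 11165, .bwd 6968, .fwd 11165, .fwd 12543],
   .loop none [.fwd 12546],
   .loop none [.fwd 12509, .fwd 12547, .fwd 11480],
   .loop none [.fwd 12548],
   .loop none [.fwd 11134, .fwd 12549, .fwd 11481],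
   .loop none [.fwd 12550],
   .loop none [.fwd 10098, .fwd 12551, .fwd 11482],
   .loop none [.fwd 12552],
   .loop none [.fwd 9307, .fwd 12553, .fwd 11483],
   .loop none [.fwd 12554],
   .loop none [.fwd 9306, .fwd 12555, .fwd 11484],
   .loop none [.fwd 12556],
   .loop none [.bwd 11485, .bwd 12557],
   .loop (some (13, 2)) [.bwd 11165, .bwd 6966, .fwd 11004],
   .loop (some (12, 2)) [.fwd 8007, .bwd 12279, .bwd 12509],
   .loop (some (11, 2)) [.fwd 7096, .bwd 12545, .fwd 11167],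
   .loop (some (12, 2)) [.fwd 8603, .bwd 12561, .fwd 11168],
   .loop (some (13, 1)) [.bwd 7116, .fwd 3527, .bwd 12561],
   .loop (some (19, 4)) [.bwd 1902, .bwd 1901, .fwd 7217, .fwd 3638, .fwd 6360, .bwd 8145, .bwd 11289, .fwd 11291],
   .loop (some (2, 2)) [.bwd 3639, .fwd 8053, .bwd 12202],
   .loop (some (17, 2)) [.bwd 10983, .fwd 8818, .bwd 6361, .fwd 3639, .fwd 3640],
   .loop (some (3, 1)) [.bwd 3641, .bwd 3640, .bwd 12565],
   .loop (some (10, 2)) [.fwd 12565, .bwd 8056, .bwd 8234],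
   .loop (some (2, 1)) [.bwd 12096, .bwd 12566, .fwd 3641],
   .loop (some (4, 1)) [.fwd 12201, .fwd 12567, .fwd 3642],
   .loop (some (17, 1)) [.bwd 10366, .fwd 4725, .bwd 12202, .fwd 12567, .fwd 12569],
   .loop (some (3, 0)) [.fwd 12199, .fwd 12200, .bwd 12570],
   .loop (some (2, 2)) [.bwd 3643, .fwd 12572, .bwd 12198],
   .loop (some (10, 2)) [.bwd 12572, .bwd 8059, .fwd 8238],
   .loop (some (13, 2)) [.bwd 12570, .bwd 8059, .fwd 8237],
   .loop (some (3, 1)) [.bwd 3645, .bwd 3644, .bwd 12573],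
   .loop (some (10, 2)) [.fwd 12573, .bwd 8060, .bwd 8239],
   .loop (some (4, 1)) [.fwd 12197, .fwd 12576, .fwd 3646],
   .loop (some (3, 0)) [.fwd 12195, .fwd 12196, .bwd 12578],
   .loop (some (2, 2)) [.bwd 3647, .fwd 12579, .bwd 12194],
   .loop (some (10, 2)) [.bwd 12579, .bwd 8063, .fwd 8242],
   .loop (some (13, 2)) [.bwd 12578, .bwd 8063, .fwd 8241],
   .loop (some (3, 1)) [.bwd 3649, .bwd 3648, .bwd 12580],
   .loop (some (10, 2)) [.fwd 12580, .bwd 8064, .bwd 8243],
   .loop (some (4, 1)) [.fwd 12193, .fwd 12583, .fwd 3650],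
   .loop (some (3, 0)) [.fwd 12191, .fwd 12192, .bwd 12585],
   .loop (some (2, 2)) [.bwd 10855, .bwd 3651, .fwd 12586, .bwd 12190],
   .loop none [.fwd 12587],
   .loop none [.bwd 9397, .fwd 12588, .bwd 12189],
   .loop none [.fwd 12589],
   .loop none [.bwd 12190, .bwd 12588],
   .loop none [.fwd 12188, .bwd 12590],
   .loop (some (13, 2)) [.bwd 12585, .bwd 8067, .fwd 8245],
   .loop (some (16, 5)) [.fwd 10855, .fwd 9397, .fwd 12592, .bwd 11545, .bwd 11544],
   .loop (some (4, 0)) [.fwd 11543, .fwd 12594, .fwd 3652],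
   .loop (some (7, 2)) [.bwd 12595, .fwd 10128, .fwd 7248],
   .loop (some (11, 2)) [.bwd 12595, .bwd 8069, .fwd 10189],
   .loop (some (3, 0)) [.fwd 11517, .bwd 12592, .fwd 8677],
   .loop (some (10, 2)) [.bwd 12598, .bwd 8072, .fwd 8250],
   .loop (some (16, 3)) [.bwd 12595, .fwd 3653, .fwd 3654, .fwd 12598, .bwd 11695, .bwd 11694],
   .loop none [.fwd 12600],
   .loop none [.bwd 11543, .fwd 12601, .bwd 11693],
   .loop none [.fwd 12602],
   .loop none [.fwd 11692, .bwd 12603],
   .loop (some (6, 1)) [.bwd 11674, .fwd 8644, .fwd 8665],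
   .loop (some (3, 0)) [.fwd 12236, .bwd 8320, .bwd 8091],
   .loop (some (2, 2)) [.bwd 3703, .fwd 12606, .bwd 12235],
   .loop (some (17, 2)) [.bwd 11002, .fwd 9838, .bwd 8091, .fwd 3703, .fwd 3704],
   .loop (some (3, 1)) [.bwd 3705, .bwd 3704, .bwd 12607],
   .loop (some (4, 1)) [.fwd 12234, .fwd 12609, .fwd 3706],
   .loop (some (3, 0)) [.fwd 12232, .fwd 12233, .bwd 12610],
   .loop (some (2, 2)) [.bwd 3707, .fwd 12611, .bwd 12231],
   .loop (some (10, 2)) [.bwd 12611, .bwd 8101, .fwd 12572],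
   .loop (some (13, 2)) [.bwd 12610, .bwd 8101, .fwd 12570],
   .loop (some (3, 1)) [.bwd 3709, .bwd 3708, .bwd 12612],
   .loop (some (10, 2)) [.fwd 12612, .bwd 8103, .bwd 12573],
   .loop (some (4, 1)) [.fwd 12230, .fwd 12615, .fwd 3710],
   .loop (some (3, 0)) [.fwd 12228, .fwd 12229, .bwd 12617],
   .loop (some (2, 2)) [.bwd 10257, .bwd 3711, .fwd 12618, .bwd 12227],
   .loop none [.fwd 12619],
   .loop none [.bwd 8912, .fwd 12620, .bwd 12226],
   .loop none [.fwd 12621],
   .loop none [.bwd 12227, .bwd 12620],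
   .loop none [.fwd 12225, .bwd 12622],
   .loop (some (10, 2)) [.bwd 10257, .bwd 8111, .bwd 12580],
   .loop (some (3, 0)) [.fwd 12224, .bwd 12624, .fwd 10143],
   .loop (some (10, 2)) [.bwd 12626, .bwd 8117, .fwd 12586],
   .loop (some (13, 2)) [.fwd 10143, .bwd 8117, .fwd 12585],
   .loop (some (16, 5)) [.fwd 10246, .fwd 9595, .fwd 4980, .fwd 4981, .bwd 11633],
   .loop (some (4, 0)) [.fwd 11632, .fwd 12629, .fwd 3716],
   .loop (some (16, 5)) [.bwd 12630, .fwd 3717, .fwd 3718, .bwd 8769, .bwd 11784, .bwd 11783],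
   .loop none [.fwd 12631],
   .loop none [.bwd 11632, .fwd 12632, .bwd 11782],
   .loop none [.fwd 12633],
   .loop none [.fwd 11781, .bwd 12634],
   .loop (some (6, 1)) [.bwd 11303, .bwd 3750, .fwd 9094],
   .loop (some (14, 3)) [.fwd 11070, .fwd 11473, .bwd 6220, .bwd 542, .fwd 11404],
   .loop none [.fwd 12637],
   .loop none [.bwd 11405, .bwd 12638],
   .loop none [.fwd 11404, .bwd 12638],
   .loop (some (20, 8)) [.bwd 11303, .fwd 6029, .bwd 537, .fwd 412, .bwd 486, .bwd 522, .bwd 6204, .bwd 10982, .bwd 10981],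
   .loop none [.bwd 12641],
   .loop none [.fwd 12636, .bwd 12642],
   .loop none [.fwd 10980, .fwd 12642, .fwd 11304],
   .loop none [.fwd 12644],
   .loop none [.fwd 11303, .bwd 12642],
   .loop none [.bwd 11305, .bwd 12645],
   .loop (some (9, 2)) [.fwd 11308, .bwd 6220, .bwd 9318],
   .loop (some (7, 1)) [.bwd 10979, .bwd 3751, .bwd 12646],
   .loop (some (14, 3)) [.fwd 11159, .fwd 11160, .bwd 8140, .bwd 519, .fwd 11080],
   .loop none [.fwd 12650],
   .loop none [.bwd 11081, .bwd 12651],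
   .loop none [.fwd 11080, .bwd 12651],
   .loop (some (6, 1)) [.fwd 10158, .bwd 8141, .fwd 10979],
   .loop (some (4, 1)) [.fwd 11289, .bwd 3753, .bwd 10997],
   .loop (some (11, 2)) [.fwd 10997, .bwd 8146, .bwd 11191],
   .loop (some (16, 3)) [.fwd 10996, .fwd 10997, .bwd 8143, .bwd 5579, .bwd 5578],
   .loop (some (19, 0)) [.bwd 3639, .bwd 3638, .bwd 7217, .fwd 1901, .fwd 1902, .bwd 12564, .bwd 11291, .fwd 11289],
   .loop (some (9, 1)) [.fwd 8056, .bwd 12658, .bwd 8150],
   .loop (some (1, 2)) [.fwd 3753, .fwd 12658, .fwd 3640],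
   .loop (some (16, 3)) [.fwd 11288, .fwd 11289, .fwd 3754, .fwd 3755, .fwd 8156],
   .loop (some (6, 1)) [.fwd 12153, .bwd 3964, .bwd 3816],
   .loop (some (15, 3)) [.bwd 12184, .bwd 3964, .fwd 4032, .fwd 4969, .fwd 5502],
   .loop (some (9, 1)) [.fwd 10065, .bwd 8186, .bwd 12482],
   .loop (some (1, 2)) [.bwd 12481, .fwd 8186, .bwd 10062],
   .loop (some (2, 2)) [.fwd 5214, .bwd 3800, .fwd 12371, .bwd 11468],
   .loop none [.fwd 12666],
   .loop none [.fwd 7696, .fwd 12667, .bwd 11467],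
   .loop none [.fwd 12668],
   .loop none [.bwd 11468, .bwd 12667],
   .loop none [.fwd 7694, .fwd 12669, .bwd 11466],
   .loop none [.fwd 12671],
   .loop none [.bwd 7690, .fwd 12672, .bwd 11465],
   .loop none [.fwd 12673],
   .loop none [.bwd 12154, .fwd 12674, .bwd 11464],
   .loop none [.bwd 12675],
   .loop none [.bwd 12389, .bwd 12676],
   .loop none [.fwd 12154, .bwd 12676],
   .loop none [.bwd 12155, .bwd 12676],
   .loop none [.fwd 12391, .bwd 12676],
   .loop (some (10, 2)) [.bwd 12371, .bwd 12482, .fwd 12010],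
   .loop (some (1, 2)) [.fwd 12357, .fwd 8187, .fwd 10033],
   .loop (some (5, 2)) [.fwd 5802, .bwd 5800, .bwd 12136],
   .loop (some (0, 0)) [.fwd 11472, .fwd 10161],
   .loop (some (11, 2)) [.bwd 3828, .bwd 10161, .bwd 11125],
   .loop (some (0, 0)) [.fwd 12349, .fwd 12685],
   .loop (some (12, 2)) [.bwd 3829, .bwd 12685, .bwd 11124],
   .loop (some (10, 1)) [.fwd 10568, .fwd 10169, .bwd 12687],
   .loop (some (6, 1)) [.bwd 11829, .fwd 12337, .fwd 5165],
   .loop (some (12, 1)) [.fwd 12159, .fwd 8217, .bwd 5431],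
   .loop (some (5, 2)) [.bwd 12158, .bwd 8196, .bwd 6540],
   .loop (some (3, 2)) [.bwd 3907, .bwd 3906, .fwd 11888, .fwd 11895],
   .loop none [.fwd 12692],
   .loop none [.bwd 11896, .bwd 12693],
   .loop none [.fwd 11895, .bwd 12693],
   .loop (some (6, 0)) [.bwd 12339, .fwd 8199, .bwd 8222],
   .loop (some (7, 3)) [.bwd 8223, .fwd 12696, .bwd 11893, .fwd 11869],
   .loop none [.fwd 12697],
   .loop none [.fwd 11869, .bwd 12698],
   .loop none [.bwd 11870, .bwd 12698],
   .loop (some (6, 0)) [.bwd 12334, .fwd 8219, .bwd 3931],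
   .loop (some (7, 1)) [.fwd 12006, .fwd 12042, .bwd 12153],
   .loop (some (11, 2)) [.fwd 12042, .bwd 8185, .fwd 9915],
   .loop (some (20, 1)) [.fwd 10329, .fwd 4396, .bwd 4394, .bwd 255, .bwd 4385, .bwd 6512, .fwd 6504, .fwd 4061],
   .loop (some (10, 2)) [.bwd 8233, .bwd 8093, .fwd 12606],
   .loop (some (17, 2)) [.bwd 11120, .bwd 11129, .fwd 11161, .bwd 8232, .fwd 4064, .fwd 4065],
   .loop none [.bwd 12706],
   .loop none [.bwd 11121, .bwd 12707],
   .loop none [.fwd 11120, .bwd 12707],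
   .loop (some (4, 1)) [.bwd 12708, .bwd 4065, .bwd 12222],
   .loop (some (1, 2)) [.bwd 4065, .bwd 12659, .bwd 5230],
   .loop (some (10, 2)) [.fwd 8234, .bwd 8096, .bwd 12607],
   .loop (some (16, 3)) [.fwd 12221, .fwd 12222, .bwd 8234, .bwd 4191, .bwd 4190],
   .loop (some (2, 1)) [.fwd 9745, .bwd 12709, .fwd 4066],
   .loop (some (15, 4)) [.bwd 4066, .bwd 12711, .bwd 6198, .bwd 10498, .fwd 9338],
   .loop (some (9, 1)) [.fwd 10736, .fwd 12715, .bwd 8100],
   .loop (some (17, 2)) [.bwd 4193, .bwd 4192, .fwd 8236, .fwd 12714, .fwd 10917],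
   .loop (some (10, 2)) [.bwd 8238, .bwd 8102, .fwd 12611],
   .loop (some (13, 2)) [.bwd 8237, .bwd 8102, .fwd 12610],
   .loop (some (10, 2)) [.bwd 8242, .bwd 8110, .fwd 12618],
   .loop (some (10, 2)) [.bwd 8246, .bwd 8118, .fwd 12626],
   .loop (some (11, 2)) [.fwd 10188, .bwd 8120, .bwd 12629],
   .loop (some (16, 5)) [.bwd 10189, .fwd 4078, .fwd 4079, .fwd 8250, .bwd 11673, .bwd 11672],
   .loop none [.fwd 12723],
   .loop none [.bwd 11672, .bwd 12724],
   .loop none [.bwd 9432, .fwd 12724, .bwd 11671],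
   .loop none [.fwd 12726],
   .loop none [.fwd 11670, .bwd 12727],
   .loop (some (6, 1)) [.bwd 11650, .fwd 7925, .fwd 8645],
   .loop (some (3, 0)) [.fwd 12134, .bwd 8377, .fwd 8256],
   .loop (some (2, 2)) [.bwd 4126, .fwd 12730, .bwd 12133],
   .loop (some (10, 2)) [.bwd 12730, .bwd 8253, .fwd 7948],
   .loop (some (17, 2)) [.bwd 11195, .fwd 11193, .fwd 8256, .fwd 4126, .fwd 4127],
   .loop (some (3, 1)) [.bwd 4128, .bwd 4127, .bwd 12731],
   .loop (some (9, 3)) [.bwd 8255, .bwd 12463, .fwd 8422],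
   .loop (some (1, 2)) [.bwd 4127, .bwd 12735, .bwd 4860],
   .loop (some (15, 4)) [.bwd 4128, .bwd 12736, .bwd 10445, .fwd 10826, .fwd 9376],
   .loop (some (12, 2)) [.bwd 12733, .bwd 8258, .fwd 9854],
   .loop (some (4, 1)) [.fwd 12132, .fwd 12734, .fwd 4129],
   .loop (some (3, 0)) [.fwd 12130, .fwd 12131, .bwd 12739],
   .loop (some (2, 2)) [.bwd 4130, .fwd 12740, .bwd 12129],
   .loop (some (3, 1)) [.bwd 4132, .bwd 4131, .bwd 12741],
   .loop (some (10, 2)) [.fwd 12741, .bwd 8264, .bwd 12470],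
   .loop (some (4, 1)) [.fwd 12128, .fwd 12742, .fwd 4133],
   .loop (some (3, 0)) [.fwd 12126, .fwd 12127, .bwd 12744],
   .loop (some (2, 2)) [.bwd 4134, .fwd 12745, .bwd 12125],
   .loop (some (13, 2)) [.bwd 12744, .bwd 8270, .fwd 12472],
   .loop (some (3, 1)) [.bwd 4136, .bwd 4135, .bwd 12746],
   .loop (some (4, 1)) [.fwd 12124, .fwd 12748, .fwd 4137]]

theorem just50_len : just50.length = 250 := by decide +kernel

theorem just50_ok : cert.okFacts 12500 just50 = true := by decide +kernel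

/-- justifications -/
noncomputable def just51 : List Cert.Just :=
  [.loop (some (3, 0)) [.fwd 12122, .fwd 12123, .bwd 12749],
   .loop (some (13, 2)) [.bwd 5420, .fwd 8285, .fwd 12157],
   .loop (some (14, 3)) [.fwd 11764, .fwd 11765, .fwd 7927, .bwd 589, .fwd 11740],
   .loop none [.fwd 12752],
   .loop none [.bwd 11741, .bwd 12753],
   .loop none [.fwd 11740, .bwd 12753],
   .loop (some (9, 2)) [.fwd 11654, .fwd 7927, .fwd 6248],
   .loop (some (4, 1)) [.fwd 9434, .bwd 4177, .bwd 11673],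
   .loop (some (11, 2)) [.fwd 11673, .bwd 10194, .bwd 11784],
   .loop (some (19, 0)) [.bwd 11037, .fwd 9853, .bwd 9854, .fwd 7959, .fwd 5711, .fwd 11364, .fwd 11365, .fwd 9434],
   .loop (some (1, 2)) [.fwd 4177, .fwd 12759, .bwd 11576],
   .loop (some (13, 2)) [.bwd 4181, .bwd 12721, .fwd 12224],
   .loop (some (13, 2)) [.bwd 4185, .bwd 12720, .fwd 12228],
   .loop (some (4, 0)) [.fwd 12220, .bwd 12713, .bwd 4189],
   .loop (some (16, 4)) [.bwd 12763, .bwd 8238, .bwd 4067, .bwd 4066, .fwd 12708],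
   .loop (some (13, 2)) [.bwd 4189, .bwd 12718, .fwd 12232],
   .loop (some (4, 0)) [.fwd 12064, .fwd 10435, .bwd 4193],
   .loop (some (2, 3)) [.fwd 12717, .fwd 4194, .bwd 11161, .bwd 10879],
   .loop none [.bwd 12767],
   .loop none [.fwd 10917, .bwd 12768],
   .loop (some (16, 3)) [.fwd 12092, .bwd 9938, .fwd 4263, .fwd 4264, .fwd 10269],
   .loop (some (0, 0)) [.fwd 12484, .bwd 10296],
   .loop (some (12, 2)) [.bwd 4281, .fwd 10296, .bwd 11065],
   .loop (some (0, 1)) [.fwd 12772, .fwd 10297],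
   .loop (some (11, 2)) [.fwd 7896, .fwd 7981, .bwd 12772, .bwd 11064],
   .loop none [.fwd 12774],
   .loop none [.fwd 7893, .fwd 12775, .bwd 11063],
   .loop none [.fwd 12776],
   .loop none [.bwd 7895, .fwd 12777, .bwd 11062],
   .loop none [.fwd 12778],
   .loop none [.bwd 7908, .fwd 12779, .bwd 11061],
   .loop none [.fwd 12780],
   .loop none [.fwd 11060, .bwd 12781],
   .loop (some (13, 1)) [.fwd 12484, .bwd 4282, .bwd 12772],
   .loop (some (17, 2)) [.fwd 10295, .fwd 4281, .fwd 4282, .bwd 11065, .fwd 12783],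
   .loop (some (19, 4)) [.bwd 2531, .bwd 2530, .bwd 7595, .fwd 4313, .fwd 8387, .fwd 6216, .fwd 10985, .fwd 10986],
   .loop (some (2, 2)) [.bwd 4314, .fwd 8388, .bwd 12151],
   .loop (some (10, 2)) [.bwd 8388, .bwd 8254, .fwd 12730],
   .loop (some (3, 1)) [.bwd 4316, .bwd 4315, .bwd 12786],
   .loop (some (9, 3)) [.bwd 8257, .bwd 12735, .fwd 8423],
   .loop (some (10, 2)) [.fwd 12786, .bwd 8257, .bwd 12731],
   .loop (some (12, 2)) [.bwd 12466, .bwd 8259, .fwd 12733],
   .loop (some (4, 1)) [.fwd 12150, .fwd 12788, .fwd 4317],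
   .loop (some (3, 0)) [.fwd 12148, .fwd 12149, .bwd 12792],
   .loop (some (2, 2)) [.bwd 4318, .fwd 12793, .bwd 12147],
   .loop (some (10, 2)) [.bwd 12793, .bwd 8263, .fwd 12740],
   .loop (some (3, 1)) [.bwd 4320, .bwd 4319, .bwd 12794],
   .loop (some (10, 2)) [.fwd 12794, .bwd 8265, .bwd 12741],
   .loop (some (4, 1)) [.fwd 12146, .fwd 12796, .fwd 4321],
   .loop (some (3, 0)) [.fwd 12144, .fwd 12145, .bwd 12798],
   .loop (some (2, 2)) [.bwd 4322, .fwd 12799, .bwd 12143],
   .loop (some (10, 2)) [.bwd 12799, .bwd 8271, .fwd 12745],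
   .loop (some (13, 2)) [.bwd 12798, .bwd 8271, .fwd 12744],
   .loop (some (3, 1)) [.bwd 4324, .bwd 4323, .bwd 12800],
   .loop (some (10, 2)) [.fwd 12800, .bwd 8273, .bwd 12746],
   .loop (some (4, 1)) [.fwd 12142, .fwd 12803, .fwd 4325],
   .loop (some (3, 0)) [.fwd 12140, .fwd 12141, .bwd 12805],
   .loop (some (2, 2)) [.bwd 10764, .bwd 4326, .fwd 12806, .bwd 12139],
   .loop none [.fwd 12807],
   .loop none [.bwd 9165, .fwd 12808, .bwd 12138],
   .loop none [.fwd 12809],
   .loop none [.fwd 12137, .bwd 12810],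
   .loop (some (10, 2)) [.bwd 12806, .bwd 8278, .fwd 12750],
   .loop (some (17, 4)) [.bwd 12805, .fwd 4326, .fwd 4327, .fwd 10761, .fwd 10872],
   .loop (some (13, 2)) [.bwd 12805, .bwd 8278, .fwd 12749],
   .loop (some (16, 5)) [.bwd 7974, .fwd 10764, .fwd 9165, .fwd 12811, .bwd 11362, .bwd 11361],
   .loop none [.fwd 12815],
   .loop none [.bwd 11361, .bwd 12816],
   .loop none [.bwd 5766, .fwd 12816, .bwd 11360],
   .loop none [.fwd 12818],
   .loop none [.fwd 11359, .bwd 12819],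
   .loop (some (3, 3)) [.bwd 10365, .bwd 6353, .bwd 11390, .fwd 11801],
   .loop none [.fwd 12821],
   .loop none [.fwd 10322, .fwd 12822, .fwd 11802],
   .loop none [.fwd 12823],
   .loop none [.bwd 9802, .fwd 12824, .fwd 11803],
   .loop none [.fwd 12825],
   .loop none [.fwd 4812, .fwd 12826, .fwd 11804],
   .loop none [.fwd 12827],
   .loop none [.fwd 6222, .fwd 12828, .fwd 11805],
   .loop none [.fwd 12829],
   .loop none [.fwd 5613, .fwd 12830, .fwd 11806],
   .loop none [.fwd 12831],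
   .loop none [.bwd 11807, .bwd 12832],
   .loop (some (3, 1)) [.bwd 10937, .bwd 10936, .bwd 8324],
   .loop (some (0, 0)) [.fwd 12355, .fwd 11827],
   .loop (some (7, 1)) [.bwd 11560, .fwd 11788, .fwd 4563],
   .loop (some (8, 2)) [.bwd 11876, .bwd 4563, .bwd 11800],
   .loop (some (7, 1)) [.bwd 11561, .bwd 12836, .fwd 4564],
   .loop (some (8, 2)) [.bwd 11907, .bwd 4564, .fwd 11876],
   .loop (some (16, 3)) [.fwd 12498, .bwd 12838, .fwd 8348, .bwd 8372, .bwd 8361],
   .loop (some (11, 2)) [.fwd 11476, .bwd 6333, .bwd 11331],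
   .loop (some (19, 6)) [.fwd 9907, .fwd 4655, .fwd 4695, .bwd 9930, .bwd 10076, .fwd 4764, .fwd 9803, .fwd 11230],
   .loop (some (17, 3)) [.bwd 10374, .bwd 4623, .bwd 4734, .bwd 11390, .bwd 11389],
   .loop (some (13, 2)) [.bwd 11678, .bwd 4602, .fwd 11574],
   .loop (some (8, 2)) [.bwd 11733, .bwd 4605, .fwd 10368],
   .loop (some (8, 2)) [.bwd 11755, .bwd 4606, .fwd 11733],
   .loop (some (19, 2)) [.bwd 10926, .fwd 9040, .bwd 9066, .bwd 10327, .fwd 4734, .bwd 4655, .fwd 4651, .fwd 8885],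
   .loop (some (4, 3)) [.bwd 8370, .fwd 12834, .fwd 10938],
   .loop (some (17, 2)) [.bwd 10940, .bwd 10939, .fwd 12848, .fwd 4653, .fwd 9892],
   .loop (some (13, 2)) [.fwd 12848, .fwd 8369, .bwd 4626],
   .loop (some (19, 6)) [.bwd 11577, .bwd 9459, .bwd 8926, .bwd 9486, .bwd 10072, .fwd 9604, .bwd 4766, .fwd 10366],
   .loop (some (7, 1)) [.fwd 11642, .bwd 9459, .bwd 9895],
   .loop (some (13, 2)) [.bwd 12834, .fwd 8374, .bwd 4688],
   .loop (some (20, 1)) [.fwd 12134, .fwd 4743, .bwd 4741, .bwd 263, .fwd 4703, .bwd 4705, .fwd 4737, .bwd 11158],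
   .loop (some (8, 1)) [.fwd 11229, .bwd 4764, .bwd 4743],
   .loop (some (4, 2)) [.fwd 9851, .fwd 9803, .fwd 11637],
   .loop (some (14, 1)) [.fwd 11472, .bwd 9878, .bwd 9873, .bwd 6223],
   .loop (some (16, 3)) [.fwd 10915, .fwd 10916, .bwd 6222, .bwd 5613, .bwd 5612],
   .loop (some (17, 2)) [.bwd 11808, .bwd 12833, .bwd 8395, .fwd 4815, .fwd 4816],
   .loop (some (16, 3)) [.fwd 5609, .fwd 8399, .fwd 10608, .bwd 8399, .bwd 5609, .bwd 5608],
   .loop none [.bwd 12860],
   .loop none [.bwd 5609, .bwd 12861],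
   .loop none [.fwd 5607, .fwd 12861, .bwd 8404],
   .loop none [.bwd 12863],
   .loop none [.bwd 10488, .fwd 12861, .fwd 10456],
   .loop none [.fwd 12865],
   .loop none [.fwd 8611, .fwd 12861, .bwd 8612],
   .loop none [.fwd 12867],
   .loop none [.bwd 4819, .fwd 12864, .bwd 5606],
   .loop none [.fwd 12869],
   .loop none [.bwd 8633, .bwd 12866],
   .loop none [.bwd 5139, .bwd 12868],
   .loop none [.bwd 4820, .fwd 12870, .fwd 8409],
   .loop none [.fwd 12873],
   .loop none [.bwd 8434, .fwd 12870, .fwd 10458],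
   .loop none [.fwd 12875],
   .loop none [.bwd 4822, .bwd 12874],
   .loop none [.bwd 8436, .fwd 12874, .fwd 8437],
   .loop none [.fwd 12878],
   .loop none [.fwd 8629, .bwd 12876],
   .loop none [.bwd 4870, .bwd 12879],
   .loop (some (2, 1)) [.bwd 11809, .bwd 12859, .fwd 4817],
   .loop (some (6, 1)) [.bwd 11034, .bwd 4857, .fwd 9362],
   .loop (some (14, 2)) [.fwd 12647, .fwd 11306, .bwd 6224, .bwd 11033],
   .loop (some (9, 2)) [.fwd 11515, .bwd 6224, .bwd 9406],
   .loop (some (12, 2)) [.fwd 11518, .bwd 6224, .bwd 8286],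
   .loop (some (14, 2)) [.fwd 10981, .fwd 10982, .bwd 6206, .bwd 11001],
   .loop (some (6, 1)) [.bwd 9181, .bwd 9785, .fwd 11192],
   .loop (some (11, 2)) [.fwd 11222, .bwd 8420, .bwd 10916],
   .loop (some (16, 3)) [.fwd 11221, .fwd 11222, .bwd 10445, .bwd 8637, .bwd 8636],
   .loop (some (6, 2)) [.bwd 4861, .bwd 10820, .bwd 2889],
   .loop (some (7, 2)) [.bwd 4862, .bwd 12891, .fwd 8625],
   .loop (some (6, 2)) [.bwd 10449, .bwd 12892, .fwd 10016],
   .loop (some (4, 2)) [.bwd 4864, .bwd 10823, .fwd 4864],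
   .loop (some (8, 0)) [.bwd 8626, .fwd 12892, .fwd 4863],
   .loop (some (6, 0)) [.fwd 10450, .fwd 12895, .bwd 10460],
   .loop (some (7, 2)) [.fwd 12881, .fwd 12896, .bwd 12871],
   .loop (some (2, 3)) [.fwd 4873, .bwd 8694, .bwd 12092],
   .loop (some (17, 3)) [.bwd 10459, .fwd 4871, .fwd 4872, .bwd 12898, .bwd 12091, .bwd 12090],
   .loop none [.fwd 12899],
   .loop none [.bwd 12090, .bwd 12900],
   .loop (some (6, 2)) [.bwd 12334, .bwd 8213, .bwd 12333],
   .loop (some (10, 2)) [.bwd 4980, .bwd 10148, .fwd 12592],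
   .loop (some (11, 2)) [.bwd 4981, .bwd 12903, .bwd 11545],
   .loop (some (0, 1)) [.fwd 12904, .fwd 10242],
   .loop (some (2, 2)) [.bwd 4982, .bwd 11633, .fwd 12635],
   .loop (some (10, 2)) [.fwd 11633, .bwd 12904, .bwd 11544],
   .loop (some (3, 1)) [.bwd 4984, .bwd 4983, .bwd 12906],
   .loop (some (4, 1)) [.fwd 11780, .fwd 12908, .fwd 4985],
   .loop (some (3, 0)) [.fwd 11778, .fwd 11779, .bwd 12909],
   .loop (some (2, 2)) [.bwd 4986, .fwd 12910, .bwd 11777],
   .loop (some (3, 1)) [.bwd 4988, .bwd 4987, .bwd 12911],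
   .loop (some (4, 1)) [.fwd 11776, .fwd 12912, .fwd 4989],
   .loop (some (3, 0)) [.fwd 11774, .fwd 11775, .bwd 12913],
   .loop (some (2, 2)) [.bwd 4990, .fwd 12914, .bwd 11773],
   .loop (some (3, 1)) [.bwd 4992, .bwd 4991, .bwd 12915],
   .loop (some (4, 1)) [.fwd 11772, .fwd 12916, .fwd 4993],
   .loop (some (3, 0)) [.fwd 11770, .fwd 11771, .bwd 12917],
   .loop (some (14, 2)) [.fwd 11117, .fwd 9399, .fwd 9400, .bwd 6227, .bwd 11306],
   .loop none [.fwd 12919],
   .loop none [.fwd 12647, .bwd 12920],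
   .loop none [.bwd 11306, .bwd 12920],
   .loop (some (5, 2)) [.bwd 11042, .fwd 6226, .bwd 11003],
   .loop (some (18, 4)) [.bwd 10998, .bwd 6226, .bwd 9400, .bwd 9399, .fwd 10788, .fwd 11066],
   .loop (some (14, 2)) [.fwd 11440, .fwd 10887, .fwd 10888, .bwd 6218, .bwd 10982],
   .loop none [.bwd 12925],
   .loop none [.fwd 11439, .bwd 12926],
   .loop none [.bwd 11440, .bwd 12926],
   .loop (some (5, 2)) [.fwd 11290, .fwd 6213, .bwd 11333],
   .loop (some (18, 4)) [.bwd 11118, .bwd 6213, .bwd 10888, .bwd 10887, .fwd 10778, .fwd 11391],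
   .loop (some (4, 1)) [.bwd 10985, .bwd 5028, .bwd 11302],
   .loop (some (11, 2)) [.fwd 11302, .bwd 8421, .bwd 11222],
   .loop (some (16, 3)) [.fwd 11301, .fwd 11302, .bwd 8455, .bwd 5143, .bwd 5142],
   .loop (some (12, 2)) [.fwd 12118, .bwd 8443, .bwd 12898],
   .loop (some (6, 1)) [.bwd 11118, .bwd 5068, .fwd 9130],
   .loop (some (14, 2)) [.fwd 10888, .fwd 6213, .bwd 6221, .bwd 11473],
   .loop (some (9, 2)) [.fwd 11333, .bwd 6221, .bwd 11308],
   .loop (some (14, 2)) [.fwd 9400, .fwd 6226, .bwd 8142, .bwd 11160],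
   .loop (some (7, 2)) [.fwd 11030, .bwd 8453, .fwd 4981],
   .loop (some (16, 3)) [.fwd 11029, .fwd 11030, .bwd 8468, .bwd 5307, .bwd 5306],
   .loop (some (4, 0)) [.fwd 11300, .bwd 12933, .bwd 5141],
   .loop (some (16, 4)) [.bwd 12941, .bwd 8457, .bwd 5030, .bwd 5029, .fwd 10985],
   .loop (some (2, 3)) [.bwd 5192, .fwd 10083, .bwd 12278, .fwd 11310],
   .loop none [.fwd 12943],
   .loop none [.fwd 11310, .bwd 12944],
   .loop none [.bwd 11311, .bwd 12944],
   .loop (some (10, 2)) [.bwd 12945, .bwd 10495, .fwd 10098],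
   .loop (some (11, 2)) [.bwd 12946, .bwd 10495, .bwd 9307],
   .loop (some (13, 2)) [.bwd 5193, .bwd 10495, .fwd 11449],
   .loop (some (10, 2)) [.fwd 12560, .bwd 5194, .bwd 12949, .fwd 11450],
   .loop none [.fwd 12950],
   .loop none [.bwd 11135, .fwd 12951, .bwd 11450],
   .loop none [.fwd 12952],
   .loop none [.bwd 11451, .bwd 12951],
   .loop none [.fwd 11449, .bwd 12953],
   .loop none [.bwd 12949, .bwd 12953],
   .loop (some (12, 1)) [.fwd 12545, .bwd 7104, .bwd 12956],
   .loop (some (4, 1)) [.bwd 12277, .bwd 11309, .fwd 5195],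
   .loop (some (11, 2)) [.bwd 5195, .bwd 12560, .fwd 12954],
   .loop (some (3, 0)) [.fwd 12025, .fwd 12026, .bwd 12958],
   .loop (some (2, 2)) [.bwd 5196, .fwd 12960, .bwd 12024],
   .loop (some (12, 2)) [.bwd 5196, .bwd 12959, .fwd 11452],
   .loop (some (3, 1)) [.bwd 5198, .bwd 5197, .bwd 12961],
   .loop (some (4, 2)) [.bwd 5197, .fwd 12273, .fwd 9503],
   .loop (some (19, 0)) [.bwd 9502, .bwd 9501, .fwd 10862, .fwd 6909, .bwd 10862, .fwd 9501, .fwd 9502, .bwd 12273],
   .loop (some (1, 2)) [.bwd 5197, .fwd 12965, .fwd 9503],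
   .loop (some (13, 2)) [.bwd 5197, .bwd 12962, .fwd 11453],
   .loop (some (10, 2)) [.bwd 5198, .bwd 12967, .fwd 11454],
   .loop (some (16, 2)) [.bwd 9505, .bwd 9504, .fwd 12964, .fwd 5198, .fwd 5199],
   .loop (some (4, 1)) [.fwd 12023, .fwd 12963, .fwd 5199],
   .loop (some (11, 2)) [.bwd 5199, .bwd 12968, .fwd 11455],
   .loop (some (3, 1)) [.fwd 12021, .fwd 12022, .bwd 12970, .fwd 12969],
   .loop none [.bwd 12972],
   .loop none [.bwd 9506, .fwd 12973, .bwd 12020],
   .loop none [.fwd 12974],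
   .loop none [.fwd 12019, .bwd 12975],
   .loop (some (2, 2)) [.bwd 5200, .fwd 12969, .fwd 9506],
   .loop (some (12, 2)) [.bwd 5200, .bwd 12971, .fwd 11456],
   .loop (some (3, 3)) [.bwd 5201, .bwd 12977, .fwd 9507, .fwd 9508],
   .loop none [.fwd 12979],
   .loop none [.bwd 5202, .fwd 12980, .bwd 9508],
   .loop none [.fwd 12981],
   .loop none [.fwd 9507, .bwd 12982],
   .loop (some (13, 2)) [.bwd 5201, .bwd 12978, .fwd 11457],
   .loop (some (10, 2)) [.bwd 5202, .bwd 12984, .fwd 11458],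
   .loop (some (4, 1)) [.bwd 12976, .bwd 12983, .fwd 5203],
   .loop (some (11, 2)) [.bwd 5203, .bwd 12985, .fwd 11459],
   .loop (some (3, 0)) [.fwd 12017, .fwd 12018, .bwd 12986],
   .loop (some (2, 2)) [.bwd 5204, .fwd 12988, .bwd 12016],
   .loop (some (12, 2)) [.bwd 5204, .bwd 12987, .fwd 11460],
   .loop (some (3, 1)) [.bwd 5206, .bwd 5205, .bwd 12989],
   .loop (some (13, 2)) [.bwd 5205, .bwd 12990, .fwd 11461],
   .loop (some (10, 2)) [.bwd 5206, .bwd 12992, .fwd 11462],
   .loop (some (4, 1)) [.fwd 12015, .fwd 12991, .fwd 5207],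
   .loop (some (11, 2)) [.bwd 5207, .bwd 12993, .fwd 11463],
   .loop (some (3, 0)) [.fwd 12407, .fwd 12014, .bwd 12994],
   .loop (some (0, 0)) [.bwd 12680, .fwd 12995],
   .loop (some (2, 3)) [.bwd 5208, .fwd 12996, .bwd 7853, .fwd 3133],
   .loop none [.bwd 12998]]

theorem just51_len : just51.length = 250 := by decide +kernel

theorem just51_ok : cert.okFacts 12750 just51 = true := by decide +kernel

/-- justifications -/
noncomputable def just52 : List Cert.Just :=
  [.loop none [.fwd 5208, .bwd 12999],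
   .loop none [.fwd 7848, .fwd 12999, .fwd 5209],
   .loop none [.fwd 13001],
   .loop none [.fwd 7856, .fwd 13002, .fwd 5210],
   .loop none [.fwd 13003],
   .loop none [.bwd 12411, .fwd 13004, .fwd 5211],
   .loop none [.bwd 13005],
   .loop none [.fwd 12411, .bwd 13006],
   .loop none [.bwd 12437, .bwd 13006],
   .loop none [.fwd 12438, .bwd 13006],
   .loop (some (8, 0)) [.bwd 3316, .bwd 7916, .fwd 13000],
   .loop (some (16, 3)) [.fwd 5206, .fwd 5207, .fwd 12996, .bwd 3237, .bwd 3236],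
   .loop (some (0, 0)) [.fwd 12388, .bwd 13009],
   .loop (some (17, 4)) [.bwd 13008, .fwd 5212, .fwd 5213, .fwd 12670, .fwd 11469],
   .loop (some (7, 2)) [.fwd 11191, .bwd 9845, .bwd 11402],
   .loop (some (11, 2)) [.fwd 11191, .bwd 6201, .bwd 11030],
   .loop (some (16, 3)) [.fwd 11190, .fwd 11191, .bwd 6198, .bwd 5375, .bwd 5374],
   .loop (some (11, 2)) [.bwd 10180, .bwd 8194, .bwd 12042],
   .loop (some (4, 3)) [.fwd 5260, .fwd 9408, .fwd 10892],
   .loop (some (17, 3)) [.bwd 10894, .bwd 10893, .fwd 13018, .bwd 5276, .bwd 7123, .fwd 5590],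
   .loop none [.bwd 13019],
   .loop none [.fwd 7115, .fwd 13020, .fwd 10895],
   .loop none [.fwd 13021],
   .loop none [.fwd 10894, .bwd 13020],
   .loop none [.bwd 5591, .fwd 13022, .fwd 10896],
   .loop none [.fwd 13024],
   .loop none [.bwd 5592, .fwd 13025, .fwd 10897],
   .loop none [.fwd 13026],
   .loop none [.bwd 9128, .fwd 13027, .fwd 10898],
   .loop none [.fwd 13028],
   .loop none [.bwd 10086, .fwd 13029, .fwd 10899],
   .loop none [.fwd 13030],
   .loop none [.bwd 9637, .fwd 13031, .fwd 10900],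
   .loop none [.fwd 13032],
   .loop none [.fwd 5308, .fwd 13033, .fwd 10901],
   .loop none [.fwd 13034],
   .loop none [.bwd 8470, .fwd 13035, .fwd 10902],
   .loop none [.fwd 13036],
   .loop none [.fwd 5072, .fwd 13037, .fwd 10903],
   .loop none [.fwd 13038],
   .loop none [.bwd 10904, .bwd 13039],
   .loop (some (16, 4)) [.fwd 10123, .fwd 12299, .bwd 12445, .fwd 11971, .fwd 11972],
   .loop (some (4, 0)) [.fwd 11028, .bwd 12940, .bwd 5305],
   .loop (some (11, 2)) [.bwd 13042, .bwd 8481, .fwd 12661],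
   .loop (some (16, 4)) [.bwd 13042, .bwd 8478, .bwd 5073, .bwd 5072, .fwd 13040],
   .loop (some (6, 0)) [.fwd 10246, .bwd 10501, .bwd 5306],
   .loop (some (7, 2)) [.bwd 12940, .fwd 13045, .bwd 12629],
   .loop (some (14, 2)) [.fwd 11652, .fwd 11653, .bwd 6273, .bwd 11677],
   .loop (some (17, 1)) [.bwd 11169, .bwd 11168, .fwd 12563, .bwd 7135, .bwd 7130, .fwd 5325],
   .loop none [.bwd 13048],
   .loop none [.fwd 7997, .fwd 13049, .fwd 11170],
   .loop none [.fwd 13050],
   .loop none [.fwd 11169, .bwd 13049],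
   .loop none [.bwd 5326, .fwd 13051, .fwd 11171],
   .loop none [.fwd 13053],
   .loop none [.bwd 5327, .fwd 13054, .fwd 11172],
   .loop none [.fwd 13055],
   .loop none [.bwd 9360, .fwd 13056, .fwd 11173],
   .loop none [.fwd 13057],
   .loop none [.bwd 12510, .fwd 13058, .fwd 11174],
   .loop none [.fwd 13059],
   .loop none [.bwd 10882, .fwd 13060, .fwd 11175],
   .loop none [.fwd 13061],
   .loop none [.fwd 8638, .fwd 13062, .fwd 11176],
   .loop none [.fwd 13063],
   .loop none [.bwd 10446, .fwd 13064, .fwd 11177],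
   .loop none [.fwd 13065],
   .loop none [.fwd 4861, .fwd 13066, .fwd 11178],
   .loop none [.fwd 13067],
   .loop none [.bwd 11179, .bwd 13068],
   .loop (some (4, 3)) [.bwd 13052, .fwd 5326, .bwd 12521, .fwd 11198],
   .loop none [.fwd 13070],
   .loop none [.fwd 11198, .bwd 13071],
   .loop none [.fwd 11168, .fwd 13071, .fwd 11199],
   .loop none [.fwd 13073],
   .loop none [.bwd 12563, .fwd 13074, .fwd 11200],
   .loop none [.fwd 13075],
   .loop none [.fwd 7118, .fwd 13076, .fwd 11201],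
   .loop none [.fwd 13077],
   .loop none [.bwd 7119, .fwd 13078, .fwd 11202],
   .loop none [.fwd 13079],
   .loop none [.bwd 7105, .fwd 13080, .fwd 11203],
   .loop none [.fwd 13081],
   .loop none [.fwd 5671, .fwd 13082, .fwd 11204],
   .loop none [.fwd 13083],
   .loop none [.fwd 6200, .fwd 13084, .fwd 11205],
   .loop none [.fwd 13085],
   .loop none [.fwd 6133, .fwd 13086, .fwd 11206],
   .loop none [.fwd 13087],
   .loop none [.bwd 6180, .fwd 13088, .fwd 11207],
   .loop none [.fwd 13089],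
   .loop none [.fwd 8155, .fwd 13090, .fwd 11208],
   .loop none [.fwd 13091],
   .loop none [.fwd 5231, .fwd 13092, .fwd 11209],
   .loop none [.fwd 13093],
   .loop none [.bwd 11210, .bwd 13094],
   .loop (some (1, 2)) [.bwd 13052, .fwd 8577, .fwd 9947],
   .loop (some (13, 2)) [.bwd 13052, .fwd 8578, .bwd 13018],
   .loop (some (13, 2)) [.fwd 12521, .fwd 7992, .fwd 9408],
   .loop (some (4, 0)) [.fwd 11189, .bwd 13016, .bwd 5373],
   .loop (some (16, 4)) [.bwd 13099, .bwd 8549, .bwd 5232, .bwd 5231, .fwd 13095],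
   .loop (some (11, 2)) [.bwd 13016, .bwd 8595, .fwd 12940],
   .loop (some (6, 1)) [.bwd 11696, .fwd 8728, .fwd 8678],
   .loop (some (10, 1)) [.fwd 11752, .fwd 8728, .bwd 8759],
   .loop (some (11, 2)) [.fwd 10221, .bwd 12751, .fwd 12702],
   .loop (some (10, 1)) [.fwd 12754, .bwd 8748, .bwd 10197],
   .loop (some (4, 1)) [.fwd 11738, .bwd 10467, .fwd 5452],
   .loop (some (6, 1)) [.fwd 11713, .bwd 8762, .bwd 8702],
   .loop (some (4, 1)) [.bwd 12429, .bwd 5511, .fwd 12782],
   .loop (some (6, 2)) [.fwd 12431, .bwd 7805, .bwd 7719],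
   .loop (some (7, 2)) [.bwd 12782, .bwd 7805, .fwd 10284],
   .loop (some (11, 2)) [.bwd 12429, .fwd 10533, .fwd 8781],
   .loop (some (4, 2)) [.bwd 12657, .bwd 5577, .fwd 12661, .bwd 11287],
   .loop none [.fwd 13112],
   .loop none [.fwd 10995, .fwd 13113, .fwd 11287],
   .loop none [.fwd 13114],
   .loop none [.bwd 11288, .bwd 13115],
   .loop none [.fwd 12661, .bwd 13115],
   .loop none [.bwd 13043, .bwd 13115],
   .loop (some (11, 2)) [.fwd 13117, .bwd 8589, .fwd 13099],
   .loop (some (15, 2)) [.bwd 3641, .fwd 12660, .bwd 8143, .bwd 10163, .fwd 9106],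
   .loop (some (4, 3)) [.bwd 13023, .fwd 5591, .bwd 12534, .fwd 11006],
   .loop none [.fwd 13121],
   .loop none [.fwd 10893, .fwd 13122, .fwd 11007],
   .loop none [.fwd 13123],
   .loop none [.bwd 13018, .fwd 13124, .fwd 11008],
   .loop none [.fwd 13125],
   .loop none [.fwd 7108, .fwd 13126, .fwd 11009],
   .loop none [.fwd 13127],
   .loop none [.bwd 5260, .fwd 13128, .fwd 11010],
   .loop none [.fwd 13129],
   .loop none [.fwd 5288, .fwd 13130, .fwd 11011],
   .loop none [.fwd 13131],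
   .loop none [.bwd 3357, .fwd 13132, .fwd 11012],
   .loop none [.fwd 13133],
   .loop none [.fwd 6113, .fwd 13134, .fwd 11013],
   .loop none [.fwd 13135],
   .loop none [.bwd 6062, .fwd 13136, .fwd 11014],
   .loop none [.fwd 13137],
   .loop none [.bwd 5822, .fwd 13138, .fwd 11015],
   .loop none [.fwd 13139],
   .loop none [.bwd 8392, .fwd 13140, .fwd 11016],
   .loop none [.fwd 13141],
   .loop none [.fwd 4813, .fwd 13142, .fwd 11017],
   .loop none [.fwd 13143],
   .loop none [.bwd 11018, .bwd 13144],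
   .loop (some (4, 0)) [.fwd 10914, .bwd 12858, .bwd 5611],
   .loop (some (11, 2)) [.bwd 13146, .bwd 8614, .fwd 12941],
   .loop (some (16, 4)) [.bwd 13146, .bwd 8398, .bwd 4814, .bwd 4813, .fwd 13145],
   .loop (some (13, 2)) [.fwd 12544, .bwd 7097, .bwd 12534],
   .loop (some (10, 2)) [.fwd 12270, .bwd 10002, .fwd 12286],
   .loop (some (16, 2)) [.bwd 12847, .fwd 8886, .bwd 5688, .bwd 12270, .fwd 12274],
   .loop (some (3, 3)) [.bwd 8888, .bwd 8886, .fwd 12067, .fwd 12068],
   .loop none [.fwd 13152],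
   .loop none [.bwd 12205, .fwd 13153, .bwd 12068],
   .loop none [.bwd 13154],
   .loop none [.bwd 12069, .bwd 13153],
   .loop none [.fwd 12205, .bwd 13155],
   .loop none [.bwd 12206, .bwd 13155],
   .loop (some (4, 1)) [.bwd 13156, .bwd 8888, .bwd 5688],
   .loop (some (19, 0)) [.bwd 11041, .bwd 11040, .bwd 11039, .bwd 11038, .bwd 11037, .fwd 9853, .bwd 9854, .fwd 7959],
   .loop (some (19, 0)) [.fwd 11041, .fwd 10916, .bwd 6100, .fwd 6099, .bwd 8286, .bwd 9434, .bwd 11365, .bwd 11364],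
   .loop (some (3, 1)) [.fwd 13041, .bwd 8651, .fwd 8653],
   .loop (some (3, 1)) [.bwd 10877, .bwd 5767, .bwd 5766, .fwd 12817],
   .loop none [.fwd 13163],
   .loop none [.fwd 12817, .bwd 13164],
   .loop none [.bwd 11362, .bwd 13164],
   .loop (some (2, 2)) [.fwd 5765, .bwd 13165, .bwd 9514],
   .loop (some (7, 0)) [.bwd 12933, .fwd 10765, .fwd 7974],
   .loop (some (12, 2)) [.bwd 12820, .bwd 10304, .bwd 11328],
   .loop (some (10, 1)) [.fwd 12353, .bwd 9913, .bwd 10080],
   .loop (some (4, 0)) [.fwd 11220, .bwd 12890, .bwd 8635],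
   .loop (some (7, 2)) [.bwd 13171, .bwd 12893, .fwd 8441],
   .loop (some (11, 2)) [.bwd 13171, .bwd 10451, .fwd 13146],
   .loop (some (16, 4)) [.bwd 13171, .bwd 10449, .bwd 4862, .bwd 4861, .fwd 13069],
   .loop (some (11, 2)) [.bwd 12890, .bwd 10490, .fwd 12858],
   .loop (some (14, 2)) [.fwd 11697, .bwd 9903, .bwd 9901, .bwd 11765],
   .loop (some (10, 1)) [.fwd 12366, .bwd 12729, .fwd 10573],
   .loop (some (10, 1)) [.fwd 13047, .fwd 12327, .bwd 10308],
   .loop (some (10, 2)) [.bwd 13170, .bwd 13017, .bwd 11905],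
   .loop (some (2, 2)) [.bwd 9492, .bwd 13041, .fwd 11973],
   .loop (some (1, 2)) [.bwd 13162, .fwd 8654, .bwd 12848],
   .loop (some (17, 2)) [.bwd 11974, .bwd 11973, .bwd 13162, .fwd 9486, .fwd 9047],
   .loop (some (3, 1)) [.bwd 13177, .fwd 10517, .fwd 13178],
   .loop (some (3, 0)) [.bwd 11754, .fwd 12313, .fwd 8761],
   .loop (some (10, 2)) [.bwd 12310, .bwd 10518, .fwd 13107],
   .loop (some (10, 2)) [.bwd 13107, .bwd 10519, .fwd 12605],
   .loop (some (19, 0)) [.bwd 12008, .bwd 12007, .bwd 2852, .bwd 3620, .fwd 2848, .bwd 4096, .fwd 3005, .bwd 10014],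
   .loop (some (6, 2)) [.bwd 8706, .bwd 10049, .fwd 10962],
   .loop (some (5, 1)) [.bwd 11929, .fwd 11743, .fwd 11696],
   .loop (some (8, 2)) [.fwd 11748, .fwd 10527, .fwd 11749],
   .loop (some (5, 2)) [.bwd 11739, .bwd 10527, .bwd 11743],
   .loop (some (9, 2)) [.bwd 11760, .bwd 10532, .bwd 11743],
   .loop (some (2, 1)) [.fwd 10091, .bwd 8794, .fwd 12513],
   .loop (some (12, 0)) [.bwd 12525, .fwd 12515, .bwd 8794],
   .loop (some (0, 0)) [.fwd 13179, .fwd 12353],
   .loop (some (5, 1)) [.bwd 11790, .fwd 11887, .fwd 8814],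
   .loop (some (3, 3)) [.bwd 11307, .fwd 9860, .fwd 11937, .fwd 11938],
   .loop none [.fwd 13197],
   .loop none [.fwd 11938, .bwd 13198],
   .loop none [.bwd 11939, .bwd 13198],
   .loop (some (4, 2)) [.bwd 13200, .bwd 11307, .fwd 8817, .fwd 10983],
   .loop none [.bwd 13201],
   .loop none [.fwd 13200, .bwd 13202],
   .loop none [.fwd 12566, .fwd 13202, .fwd 11940],
   .loop none [.fwd 13204],
   .loop none [.fwd 3640, .fwd 13205, .fwd 11941],
   .loop none [.fwd 13206],
   .loop none [.fwd 12565, .fwd 13207, .fwd 11942],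
   .loop none [.bwd 13208],
   .loop none [.bwd 12565, .bwd 13209],
   .loop none [.bwd 11943, .fwd 13209, .bwd 12201],
   .loop none [.fwd 13211],
   .loop none [.bwd 12567, .bwd 13209],
   .loop none [.fwd 12568, .bwd 13209],
   .loop none [.fwd 12200, .bwd 13212],
   .loop none [.fwd 12570, .bwd 13212],
   .loop none [.bwd 12614, .bwd 13212],
   .loop none [.fwd 12575, .bwd 13212],
   .loop (some (16, 2)) [.bwd 12851, .bwd 9837, .bwd 8817, .fwd 9860, .bwd 12842],
   .loop (some (19, 6)) [.bwd 8824, .bwd 8823, .fwd 13096, .bwd 11168, .bwd 11167, .bwd 12957, .fwd 11136, .fwd 11137],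
   .loop (some (4, 2)) [.bwd 8825, .bwd 13220, .fwd 11138],
   .loop (some (16, 3)) [.bwd 11140, .bwd 11139, .fwd 13221, .fwd 8826, .fwd 8827, .fwd 10178],
   .loop none [.bwd 13222],
   .loop none [.fwd 11140, .bwd 13223],
   .loop (some (12, 2)) [.fwd 11328, .bwd 10216, .fwd 12347],
   .loop (some (19, 0)) [.fwd 11862, .fwd 11863, .bwd 2856, .bwd 2855, .bwd 7652, .bwd 5774, .bwd 8820, .bwd 8839],
   .loop (some (6, 1)) [.bwd 12256, .fwd 12280, .fwd 8856],
   .loop (some (6, 1)) [.bwd 12257, .bwd 13227, .fwd 8857],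
   .loop (some (2, 1)) [.bwd 11660, .bwd 12293, .fwd 13228],
   .loop (some (4, 2)) [.bwd 13158, .bwd 12067, .fwd 12847, .fwd 10927],
   .loop none [.bwd 13230],
   .loop none [.fwd 13158, .bwd 13231],
   .loop none [.bwd 12207, .bwd 13231],
   .loop (some (1, 2)) [.bwd 12067, .fwd 9100, .fwd 11937],
   .loop (some (11, 2)) [.bwd 13156, .bwd 10159, .fwd 10591],
   .loop (some (16, 4)) [.bwd 13156, .bwd 13157, .bwd 13232, .fwd 10928, .fwd 10929],
   .loop (some (10, 2)) [.bwd 12624, .bwd 12628, .bwd 12192],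
   .loop (some (2, 2)) [.fwd 9699, .bwd 9665, .bwd 11086],
   .loop (some (10, 1)) [.fwd 11117, .fwd 9665, .bwd 10475],
   .loop (some (2, 3)) [.fwd 9494, .bwd 9478, .fwd 13182, .fwd 11975],
   .loop none [.fwd 13240],
   .loop none [.fwd 11975, .bwd 13241],
   .loop none [.fwd 9521, .fwd 13241, .fwd 11976],
   .loop none [.fwd 13243],
   .loop none [.bwd 9655, .fwd 13244, .fwd 11977],
   .loop none [.fwd 13245],
   .loop none [.bwd 11978, .bwd 13246],
   .loop (some (3, 2)) [.bwd 9016, .fwd 9007, .fwd 12240],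
   .loop (some (4, 2)) [.bwd 12240, .fwd 9040, .bwd 9807]]

theorem just52_len : just52.length = 250 := by decide +kernel

theorem just52_ok : cert.okFacts 13000 just52 = true := by decide +kernel

/-- justifications -/
noncomputable def just53 : List Cert.Just :=
  [.loop (some (1, 2)) [.bwd 12240, .fwd 9037, .fwd 11637],
   .loop (some (17, 4)) [.bwd 12240, .fwd 10926, .fwd 10927, .fwd 13233, .fwd 12208],
   .loop (some (3, 3)) [.fwd 13151, .fwd 10927, .fwd 10928],
   .loop (some (4, 1)) [.bwd 10929, .fwd 13252, .bwd 12274],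
   .loop (some (1, 2)) [.fwd 13252, .bwd 10670, .bwd 10667],
   .loop (some (13, 2)) [.fwd 13252, .fwd 10691, .bwd 9019],
   .loop (some (6, 1)) [.bwd 12241, .fwd 13248, .fwd 9017],
   .loop (some (2, 3)) [.bwd 13248, .bwd 13251, .fwd 12209],
   .loop (some (7, 1)) [.bwd 12256, .bwd 12281, .fwd 9017],
   .loop (some (6, 1)) [.bwd 12242, .bwd 13256, .fwd 9018],
   .loop (some (7, 1)) [.bwd 12257, .bwd 13258, .fwd 9018],
   .loop (some (3, 2)) [.bwd 9019, .fwd 13259, .fwd 12243],
   .loop (some (6, 2)) [.fwd 12251, .fwd 13261, .bwd 10688, .fwd 5725],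
   .loop none [.bwd 13262],
   .loop none [.bwd 12251, .bwd 13263],
   .loop (some (14, 2)) [.fwd 12249, .bwd 9023, .bwd 10594, .fwd 13264],
   .loop (some (1, 2)) [.bwd 9031, .bwd 9899, .fwd 11649],
   .loop (some (19, 0)) [.bwd 11577, .bwd 9459, .bwd 4653, .bwd 8370, .fwd 4697, .fwd 4735, .bwd 9054, .bwd 10370],
   .loop (some (1, 2)) [.bwd 9495, .fwd 13267, .fwd 11578],
   .loop (some (15, 2)) [.bwd 13151, .bwd 10670, .fwd 10648, .fwd 13267, .bwd 13219],
   .loop (some (15, 1)) [.fwd 13250, .fwd 13248, .bwd 10665, .bwd 10606, .bwd 13266],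
   .loop (some (3, 3)) [.fwd 10358, .fwd 9630, .fwd 11264],
   .loop (some (4, 2)) [.bwd 11265, .fwd 13271, .bwd 10370, .fwd 9495],
   .loop none [.bwd 13272],
   .loop none [.bwd 11266, .bwd 13273],
   .loop (some (6, 1)) [.bwd 10981, .fwd 12643, .bwd 10493],
   .loop (some (10, 1)) [.fwd 12887, .fwd 12643, .bwd 10572],
   .loop (some (10, 1)) [.fwd 12884, .fwd 12654, .bwd 10443],
   .loop (some (10, 2)) [.bwd 13239, .fwd 10711, .fwd 9731],
   .loop (some (4, 2)) [.bwd 11937, .bwd 12842, .fwd 11231],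
   .loop (some (2, 1)) [.bwd 11264, .fwd 10360, .fwd 9106],
   .loop (some (2, 3)) [.fwd 10086, .fwd 12538, .fwd 11341],
   .loop (some (8, 2)) [.fwd 13281, .bwd 10101, .bwd 8794],
   .loop (some (12, 2)) [.fwd 13281, .bwd 10483, .fwd 5192],
   .loop (some (6, 1)) [.fwd 12930, .bwd 12935, .bwd 10731],
   .loop (some (3, 1)) [.bwd 13276, .fwd 10709, .fwd 13277],
   .loop (some (10, 1)) [.fwd 11067, .bwd 13277, .bwd 9668],
   .loop (some (4, 2)) [.bwd 11332, .bwd 10733, .fwd 11002],
   .loop (some (19, 2)) [.bwd 11343, .bwd 11342, .fwd 13281, .fwd 9129, .fwd 8811, .bwd 9165, .bwd 10307, .fwd 10191],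
   .loop (some (6, 1)) [.bwd 10887, .fwd 9229, .fwd 9167],
   .loop (some (2, 2)) [.fwd 9265, .bwd 9229, .bwd 11409],
   .loop (some (5, 1)) [.bwd 10924, .fwd 9249, .fwd 9167],
   .loop (some (17, 4)) [.bwd 10883, .bwd 10655, .bwd 10821, .fwd 9374, .fwd 9375],
   .loop (some (6, 1)) [.bwd 11069, .fwd 12888, .fwd 9182],
   .loop (some (6, 1)) [.fwd 11367, .bwd 9300, .bwd 9202],
   .loop (some (16, 1)) [.bwd 10117, .bwd 9414, .fwd 10112, .bwd 9190, .bwd 10978],
   .loop (some (14, 2)) [.bwd 10547, .bwd 10546, .bwd 10544, .fwd 13282],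
   .loop (some (0, 0)) [.bwd 13194, .fwd 10544],
   .loop (some (10, 2)) [.fwd 10112, .bwd 10544, .fwd 12513],
   .loop (some (13, 2)) [.bwd 10111, .bwd 10544, .fwd 12514],
   .loop (some (7, 1)) [.bwd 11638, .fwd 12856, .bwd 10775],
   .loop (some (0, 1)) [.fwd 12928, .fwd 10770],
   .loop (some (5, 1)) [.bwd 11224, .fwd 11406, .fwd 10887],
   .loop (some (8, 2)) [.fwd 11409, .fwd 10778, .fwd 11437],
   .loop (some (11, 1)) [.fwd 11117, .bwd 9841, .bwd 12928],
   .loop (some (3, 1)) [.bwd 13286, .bwd 10732, .fwd 13284],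
   .loop (some (6, 1)) [.bwd 11035, .bwd 12883, .fwd 9236],
   .loop (some (7, 2)) [.bwd 9242, .bwd 10795, .fwd 9305],
   .loop (some (3, 3)) [.bwd 11410, .fwd 10093, .fwd 11087, .fwd 11088],
   .loop none [.bwd 13308],
   .loop none [.fwd 11088, .fwd 13309, .fwd 11411],
   .loop none [.fwd 13310],
   .loop none [.fwd 11410, .bwd 13309],
   .loop none [.bwd 11412, .bwd 13311],
   .loop (some (4, 1)) [.bwd 11089, .fwd 13312, .bwd 9244],
   .loop (some (19, 0)) [.bwd 11397, .fwd 10777, .fwd 11072, .fwd 11073, .fwd 11074, .fwd 11075, .fwd 11076, .fwd 11077],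
   .loop (some (7, 2)) [.fwd 11077, .bwd 9873, .bwd 10916],
   .loop (some (7, 1)) [.bwd 11639, .bwd 13300, .bwd 10786],
   .loop (some (4, 2)) [.bwd 11223, .fwd 10777, .fwd 11082],
   .loop (some (5, 2)) [.bwd 11403, .bwd 10778, .bwd 11406],
   .loop (some (11, 1)) [.fwd 12652, .fwd 9844, .bwd 12639],
   .loop (some (2, 2)) [.bwd 9263, .fwd 10781, .fwd 11407],
   .loop (some (16, 3)) [.fwd 9292, .fwd 9293, .bwd 13290, .bwd 11436, .bwd 11435],
   .loop (some (19, 0)) [.bwd 11072, .bwd 10777, .fwd 11397, .fwd 11398, .fwd 11399, .fwd 11400, .fwd 11401, .fwd 11402],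
   .loop (some (5, 2)) [.bwd 13323, .bwd 9843, .fwd 12759],
   .loop (some (7, 2)) [.fwd 11402, .bwd 9843, .bwd 9434],
   .loop (some (2, 2)) [.bwd 11084, .fwd 9268, .fwd 10791],
   .loop (some (4, 0)) [.fwd 11434, .fwd 13322, .bwd 9291],
   .loop (some (9, 2)) [.bwd 11447, .bwd 10770, .bwd 11406],
   .loop (some (12, 2)) [.bwd 9304, .bwd 10819, .fwd 10191],
   .loop (some (19, 0)) [.bwd 11714, .fwd 9359, .bwd 8955, .fwd 6072, .bwd 9308, .bwd 9307, .bwd 9306, .bwd 9305],
   .loop (some (0, 0)) [.fwd 13237, .fwd 12761, .fwd 13329],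
   .loop none [.bwd 13331],
   .loop none [.bwd 12192, .bwd 13332],
   .loop none [.fwd 12191, .bwd 13332],
   .loop none [.bwd 13237, .bwd 13332],
   .loop (some (1, 2)) [.bwd 13334, .fwd 13330, .fwd 11715],
   .loop (some (11, 2)) [.bwd 9305, .bwd 13329, .fwd 13288],
   .loop (some (4, 2)) [.bwd 12558, .bwd 9305, .fwd 13334],
   .loop (some (13, 2)) [.bwd 12558, .bwd 13337, .fwd 11344],
   .loop (some (4, 3)) [.fwd 9307, .bwd 12955, .fwd 11136],
   .loop (some (17, 2)) [.bwd 11138, .bwd 11137, .fwd 13340, .bwd 9306, .fwd 12558],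
   .loop (some (19, 0)) [.bwd 12293, .bwd 10591, .fwd 9302, .fwd 9303, .fwd 9304, .fwd 9305, .fwd 9306, .fwd 9307],
   .loop (some (1, 2)) [.fwd 12955, .fwd 13342, .bwd 11659],
   .loop (some (10, 2)) [.bwd 10098, .bwd 13296, .bwd 11341],
   .loop (some (19, 0)) [.bwd 11441, .fwd 10787, .bwd 12709, .fwd 12708, .fwd 11122, .fwd 11123, .fwd 11124, .fwd 11125],
   .loop (some (5, 2)) [.bwd 13345, .bwd 9878, .fwd 13315],
   .loop (some (7, 2)) [.fwd 11125, .bwd 9878, .bwd 11077],
   .loop (some (4, 2)) [.bwd 10785, .fwd 13317, .fwd 11640],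
   .loop (some (7, 1)) [.fwd 11648, .fwd 13348, .fwd 10382],
   .loop (some (2, 3)) [.fwd 12510, .fwd 12525, .fwd 11524],
   .loop (some (12, 2)) [.fwd 13350, .bwd 10444, .bwd 10115],
   .loop (some (19, 2)) [.bwd 11526, .bwd 11525, .fwd 13350, .fwd 9361, .fwd 8676, .bwd 9397, .bwd 10131, .fwd 12479],
   .loop (some (5, 1)) [.bwd 11571, .fwd 11083, .fwd 9399],
   .loop (some (13, 2)) [.bwd 11068, .bwd 12938, .fwd 11510],
   .loop (some (2, 3)) [.bwd 11037, .bwd 9659, .fwd 12849, .fwd 10941],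
   .loop none [.bwd 13355],
   .loop none [.fwd 12759, .bwd 13356],
   .loop none [.bwd 10942, .fwd 13356, .fwd 11038],
   .loop none [.fwd 13358],
   .loop none [.fwd 11037, .bwd 13356],
   .loop none [.bwd 13324, .bwd 13356],
   .loop none [.fwd 11603, .bwd 13359],
   .loop none [.bwd 10943, .fwd 13359, .fwd 11039],
   .loop none [.fwd 13363],
   .loop none [.bwd 11040, .bwd 13364],
   .loop (some (0, 0)) [.fwd 12528, .fwd 13299],
   .loop (some (4, 1)) [.bwd 11368, .bwd 10116, .fwd 9414],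
   .loop (some (11, 2)) [.bwd 9414, .bwd 13298, .fwd 11614],
   .loop (some (3, 2)) [.bwd 13367, .fwd 10117, .bwd 9562],
   .loop (some (17, 2)) [.bwd 11370, .bwd 11369, .bwd 13367, .fwd 9415, .fwd 9416],
   .loop (some (12, 2)) [.bwd 9415, .bwd 13368, .fwd 11615],
   .loop (some (4, 2)) [.bwd 9416, .fwd 10120, .fwd 13247],
   .loop (some (13, 2)) [.bwd 9416, .bwd 13371, .fwd 11616],
   .loop (some (2, 1)) [.bwd 11371, .bwd 13370, .fwd 9417],
   .loop (some (10, 2)) [.bwd 9417, .bwd 13373, .fwd 11617],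
   .loop (some (16, 2)) [.bwd 11980, .bwd 11979, .fwd 13372, .fwd 9417, .fwd 9418],
   .loop (some (11, 2)) [.bwd 9418, .bwd 13375, .fwd 11618],
   .loop (some (2, 2)) [.bwd 9419, .fwd 13376, .fwd 11981],
   .loop (some (12, 2)) [.bwd 9419, .bwd 13377, .fwd 11619],
   .loop (some (3, 3)) [.bwd 9420, .bwd 13378, .fwd 11982, .fwd 11983],
   .loop none [.fwd 13380],
   .loop none [.bwd 11984, .bwd 13381],
   .loop (some (13, 2)) [.bwd 9420, .bwd 13379, .fwd 11620],
   .loop (some (10, 2)) [.bwd 9421, .bwd 13383, .fwd 11621],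
   .loop (some (11, 2)) [.bwd 9422, .bwd 13384, .fwd 11622],
   .loop (some (12, 2)) [.bwd 9423, .bwd 13385, .fwd 11623],
   .loop (some (13, 2)) [.bwd 9424, .bwd 13386, .fwd 11624],
   .loop (some (10, 2)) [.bwd 9425, .bwd 13387, .fwd 11625],
   .loop (some (11, 2)) [.bwd 9426, .bwd 13388, .fwd 11626],
   .loop (some (12, 2)) [.bwd 9427, .bwd 13389, .fwd 11627],
   .loop (some (13, 2)) [.bwd 9428, .bwd 13390, .fwd 11628],
   .loop (some (10, 2)) [.bwd 9429, .bwd 13391, .fwd 11629],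
   .loop (some (11, 2)) [.bwd 9430, .bwd 13392, .fwd 11630],
   .loop (some (0, 0)) [.fwd 12907, .fwd 12722],
   .loop (some (12, 2)) [.bwd 12728, .bwd 12722, .fwd 12635],
   .loop (some (19, 0)) [.fwd 10943, .fwd 13365, .fwd 11041, .fwd 10916, .bwd 6100, .fwd 6099, .bwd 8286, .bwd 9434],
   .loop (some (8, 2)) [.fwd 11365, .fwd 13325, .bwd 11401],
   .loop (some (11, 2)) [.bwd 13349, .fwd 10405, .fwd 12852],
   .loop (some (15, 4)) [.bwd 13242, .bwd 10860, .bwd 4178, .bwd 13357, .bwd 10941],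
   .loop (some (15, 2)) [.fwd 10928, .bwd 13254, .bwd 9496, .bwd 13268, .fwd 11579],
   .loop (some (17, 2)) [.bwd 9031, .bwd 9039, .fwd 9495, .fwd 13274, .fwd 11267],
   .loop (some (16, 5)) [.fwd 9512, .fwd 9513, .fwd 13167, .bwd 5764, .bwd 5763],
   .loop (some (10, 0)) [.bwd 10169, .fwd 10567, .bwd 13167],
   .loop (some (6, 0)) [.bwd 11301, .bwd 13168, .bwd 13165],
   .loop (some (2, 2)) [.fwd 12141, .bwd 12813, .fwd 9520, .fwd 9655],
   .loop none [.bwd 13405],
   .loop none [.bwd 12141, .bwd 13406],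
   .loop none [.bwd 13247, .fwd 13406, .bwd 12140],
   .loop none [.fwd 13408],
   .loop none [.bwd 11979, .fwd 13409, .bwd 12806],
   .loop none [.bwd 13410],
   .loop none [.fwd 12812, .bwd 13409],
   .loop none [.fwd 11979, .bwd 13411],
   .loop none [.fwd 4325, .fwd 13411, .fwd 11980],
   .loop none [.fwd 13414],
   .loop none [.fwd 4324, .fwd 13415, .bwd 13376],
   .loop none [.fwd 13416],
   .loop none [.bwd 11981, .bwd 13415],
   .loop none [.fwd 9418, .bwd 13417],
   .loop none [.bwd 9419, .bwd 13417],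
   .loop none [.fwd 8275, .fwd 13417, .bwd 13377],
   .loop none [.fwd 13421],
   .loop none [.bwd 11619, .bwd 13422],
   .loop (some (19, 4)) [.bwd 11019, .bwd 13145, .bwd 9802, .fwd 10322, .bwd 10367, .fwd 7408, .fwd 2011, .fwd 2012],
   .loop (some (4, 1)) [.fwd 11388, .fwd 12843, .fwd 9544],
   .loop (some (3, 0)) [.fwd 11386, .fwd 11387, .bwd 13425],
   .loop (some (2, 2)) [.bwd 9545, .fwd 13426, .bwd 11385],
   .loop (some (3, 1)) [.bwd 9547, .bwd 9546, .bwd 13427],
   .loop (some (4, 1)) [.fwd 11384, .fwd 13428, .fwd 9548],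
   .loop (some (3, 0)) [.fwd 11382, .fwd 11383, .bwd 13429],
   .loop (some (2, 2)) [.bwd 9549, .fwd 13430, .bwd 11381],
   .loop (some (3, 1)) [.bwd 9551, .bwd 9550, .bwd 13431],
   .loop (some (4, 1)) [.fwd 11380, .fwd 13432, .fwd 9552],
   .loop (some (3, 0)) [.fwd 11378, .fwd 11379, .bwd 13433],
   .loop (some (2, 2)) [.bwd 9553, .fwd 13434, .bwd 11377],
   .loop (some (3, 1)) [.bwd 9555, .bwd 9554, .bwd 13435],
   .loop (some (4, 1)) [.fwd 11376, .fwd 13436, .fwd 9556],
   .loop (some (3, 0)) [.fwd 11374, .fwd 11375, .bwd 13437],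
   .loop (some (2, 2)) [.bwd 9557, .fwd 13438, .bwd 11373],
   .loop (some (3, 1)) [.bwd 9559, .bwd 9558, .bwd 13439],
   .loop (some (4, 1)) [.fwd 11372, .fwd 13440, .fwd 9560],
   .loop (some (3, 0)) [.fwd 11370, .fwd 11371, .bwd 13441],
   .loop (some (16, 5)) [.fwd 9560, .fwd 13442, .fwd 12341, .bwd 12918, .bwd 4993, .bwd 4992],
   .loop none [.bwd 13443],
   .loop none [.bwd 4992, .fwd 13444, .bwd 9559],
   .loop none [.fwd 13445],
   .loop none [.fwd 4991, .fwd 13444, .bwd 13440],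
   .loop none [.fwd 13447],
   .loop none [.fwd 12916, .fwd 13446, .bwd 9558],
   .loop none [.bwd 13449],
   .loop none [.fwd 4990, .fwd 13448, .fwd 11373],
   .loop none [.fwd 13451],
   .loop none [.fwd 11772, .bwd 13450],
   .loop none [.bwd 12913, .fwd 13452, .fwd 11374],
   .loop none [.bwd 13454],
   .loop none [.bwd 11776, .bwd 13455],
   .loop (some (4, 0)) [.fwd 10977, .fwd 13295, .bwd 9562],
   .loop (some (16, 4)) [.bwd 13457, .fwd 13369, .bwd 11368, .fwd 10772, .fwd 11048],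
   .loop (some (4, 2)) [.bwd 12097, .fwd 12571, .fwd 12851, .fwd 11578],
   .loop none [.bwd 13459],
   .loop none [.fwd 12097, .bwd 13460],
   .loop none [.bwd 12098, .bwd 13460],
   .loop (some (1, 2)) [.bwd 13247, .fwd 10863, .fwd 4181],
   .loop (some (10, 0)) [.fwd 12123, .fwd 12814, .bwd 13407],
   .loop (some (11, 1)) [.fwd 13371, .fwd 10120, .fwd 13464],
   .loop (some (7, 2)) [.bwd 9676, .bwd 10865, .fwd 9736],
   .loop (some (4, 3)) [.fwd 9678, .fwd 11087, .fwd 13313],
   .loop (some (16, 3)) [.fwd 9725, .fwd 9726, .bwd 13238, .bwd 11113, .bwd 11112],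
   .loop (some (4, 0)) [.fwd 11111, .fwd 13468, .bwd 9724],
   .loop (some (9, 2)) [.bwd 11132, .bwd 10793, .bwd 11083],
   .loop (some (4, 3)) [.fwd 9738, .fwd 11134, .fwd 12954],
   .loop (some (13, 2)) [.bwd 11134, .bwd 13344, .bwd 11340],
   .loop (some (8, 2)) [.fwd 12709, .fwd 9842, .fwd 11072],
   .loop (some (12, 2)) [.bwd 12478, .bwd 10867, .fwd 12813],
   .loop (some (13, 2)) [.fwd 11505, .bwd 12936, .fwd 11071],
   .loop (some (10, 0)) [.bwd 13116, .fwd 13118, .bwd 13044],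
   .loop (some (12, 2)) [.bwd 10905, .fwd 13476, .fwd 11291],
   .loop (some (11, 3)) [.bwd 13477, .fwd 12564, .fwd 7444],
   .loop (some (13, 2)) [.bwd 10906, .bwd 13477, .fwd 11292],
   .loop (some (4, 0)) [.bwd 2483, .fwd 13478, .fwd 10906],
   .loop (some (10, 2)) [.bwd 10907, .bwd 13479, .fwd 11293],
   .loop (some (16, 2)) [.bwd 7431, .bwd 2485, .bwd 2484, .bwd 13480, .fwd 10907, .fwd 10908],
   .loop none [.fwd 13482],
   .loop none [.fwd 10908, .bwd 13483],
   .loop (some (11, 2)) [.fwd 7433, .fwd 13484, .bwd 13481, .fwd 11294],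
   .loop none [.fwd 13485],
   .loop none [.fwd 2535, .fwd 13486, .fwd 11295],
   .loop none [.fwd 13487],
   .loop none [.bwd 7233, .fwd 13488, .fwd 11296],
   .loop none [.fwd 13489],
   .loop none [.fwd 1908, .fwd 13490, .fwd 11297],
   .loop none [.fwd 13491],
   .loop none [.bwd 11298, .bwd 13492],
   .loop (some (3, 1)) [.bwd 10915, .bwd 10914, .bwd 13148],
   .loop (some (0, 1)) [.fwd 13147, .fwd 13173],
   .loop (some (10, 2)) [.fwd 13148, .bwd 13147, .bwd 12942],
   .loop (some (8, 2)) [.fwd 11041, .fwd 13316, .bwd 11076],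
   .loop (some (1, 2)) [.fwd 13400, .bwd 10927, .bwd 13269, .fwd 11231],
   .loop none [.bwd 13498]]

theorem just53_len : just53.length = 250 := by decide +kernel

theorem just53_ok : cert.okFacts 13250 just53 = true := by decide +kernel

/-- justifications -/
noncomputable def just54 : List Cert.Just :=
  [.loop none [.bwd 13400, .bwd 13499],
   .loop none [.bwd 11232, .fwd 13499, .bwd 11579],
   .loop none [.fwd 13501],
   .loop none [.bwd 13279, .fwd 13499, .fwd 11580],
   .loop none [.bwd 13503],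
   .loop none [.bwd 11233, .fwd 13502, .fwd 13461],
   .loop none [.fwd 13505],
   .loop none [.bwd 13462, .bwd 13502],
   .loop none [.fwd 11578, .bwd 13502],
   .loop none [.bwd 13234, .bwd 13504],
   .loop none [.fwd 13199, .bwd 13504],
   .loop none [.fwd 13279, .bwd 13504],
   .loop none [.fwd 11937, .bwd 13504],
   .loop none [.bwd 11234, .fwd 13506, .bwd 12569],
   .loop none [.bwd 13513],
   .loop none [.bwd 12571, .bwd 13506],
   .loop none [.fwd 11234, .bwd 13514],
   .loop none [.fwd 13213, .fwd 13514, .fwd 11235],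
   .loop none [.bwd 13517],
   .loop none [.bwd 11236, .fwd 13518, .fwd 13210],
   .loop none [.bwd 13519],
   .loop none [.bwd 11943, .bwd 13518],
   .loop none [.bwd 13213, .bwd 13518],
   .loop none [.bwd 13214, .bwd 13518],
   .loop none [.fwd 11236, .bwd 13520],
   .loop none [.bwd 11237, .bwd 13520],
   .loop (some (13, 2)) [.bwd 10927, .bwd 13265, .bwd 12243],
   .loop (some (11, 2)) [.bwd 10929, .bwd 13255, .fwd 13260],
   .loop (some (2, 2)) [.bwd 10930, .fwd 13236, .fwd 12070],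
   .loop (some (17, 2)) [.bwd 2301, .bwd 12261, .fwd 13253, .fwd 10930, .fwd 10931],
   .loop (some (12, 2)) [.bwd 10930, .bwd 13527, .fwd 13229],
   .loop (some (3, 3)) [.bwd 10931, .bwd 13528, .fwd 12071, .fwd 12072],
   .loop none [.fwd 13531],
   .loop none [.bwd 10932, .fwd 13532, .bwd 12072],
   .loop none [.fwd 13533],
   .loop none [.bwd 12073, .bwd 13532],
   .loop none [.fwd 12071, .bwd 13534],
   .loop (some (2, 1)) [.bwd 11680, .bwd 6864, .bwd 13529, .fwd 10932],
   .loop none [.bwd 13537],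
   .loop none [.fwd 11680, .bwd 13538],
   .loop none [.bwd 13536, .fwd 13538, .fwd 11681],
   .loop none [.bwd 13540],
   .loop none [.fwd 12272, .bwd 13538],
   .loop none [.bwd 11682, .fwd 13541, .fwd 13528],
   .loop none [.bwd 13543],
   .loop none [.fwd 13536, .bwd 13541],
   .loop none [.bwd 11683, .bwd 13544],
   .loop (some (9, 3)) [.fwd 13542, .fwd 13343, .fwd 12956],
   .loop (some (1, 2)) [.fwd 13545, .bwd 13547, .bwd 5193],
   .loop (some (3, 0)) [.bwd 11574, .bwd 6225, .bwd 12848],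
   .loop (some (1, 0)) [.fwd 11974, .bwd 13399, .bwd 10940],
   .loop (some (19, 0)) [.fwd 11365, .fwd 9434, .fwd 8286, .bwd 6099, .fwd 6100, .bwd 10916, .bwd 11041, .bwd 13365],
   .loop (some (7, 0)) [.fwd 11075, .fwd 13497, .bwd 13365],
   .loop (some (3, 0)) [.fwd 11058, .fwd 11059, .fwd 13108],
   .loop (some (2, 2)) [.bwd 10968, .fwd 13553, .bwd 11057],
   .loop (some (12, 2)) [.bwd 10968, .bwd 13111, .fwd 8782],
   .loop (some (3, 1)) [.bwd 10970, .bwd 10969, .bwd 13554],
   .loop (some (13, 2)) [.bwd 10969, .bwd 13555, .fwd 8783],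
   .loop (some (10, 2)) [.bwd 10970, .bwd 13557, .fwd 8784],
   .loop (some (11, 2)) [.bwd 10971, .bwd 13558, .fwd 8785],
   .loop (some (11, 1)) [.fwd 12887, .fwd 12649, .bwd 12884],
   .loop (some (10, 0)) [.fwd 13174, .fwd 13495, .bwd 12942],
   .loop (some (12, 2)) [.bwd 10986, .fwd 13561, .fwd 11180],
   .loop (some (13, 1)) [.fwd 12932, .fwd 12931, .fwd 13561],
   .loop (some (4, 2)) [.bwd 10987, .fwd 12785, .fwd 2532],
   .loop (some (11, 1)) [.fwd 7422, .bwd 12785, .bwd 13562],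
   .loop (some (13, 2)) [.bwd 10987, .bwd 13562, .fwd 11181],
   .loop (some (10, 2)) [.bwd 10988, .bwd 13566, .fwd 11182],
   .loop (some (11, 1)) [.fwd 7424, .fwd 13564, .bwd 13566],
   .loop (some (16, 2)) [.bwd 7231, .bwd 2534, .bwd 2533, .fwd 13564, .fwd 10988, .fwd 10989],
   .loop none [.fwd 13569],
   .loop none [.fwd 10989, .bwd 13570],
   .loop (some (11, 2)) [.fwd 7232, .fwd 13571, .bwd 13567, .fwd 11183],
   .loop none [.fwd 13572],
   .loop none [.fwd 2895, .fwd 13573, .fwd 11184],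
   .loop none [.fwd 13574],
   .loop none [.bwd 7367, .fwd 13575, .fwd 11185],
   .loop none [.fwd 13576],
   .loop none [.fwd 1977, .fwd 13577, .fwd 11186],
   .loop none [.fwd 13578],
   .loop none [.bwd 11187, .bwd 13579],
   .loop (some (10, 2)) [.bwd 13116, .bwd 13119, .bwd 13100],
   .loop (some (13, 1)) [.fwd 13581, .bwd 12655, .bwd 12656],
   .loop (some (12, 2)) [.bwd 11019, .bwd 13496, .fwd 10986],
   .loop (some (4, 2)) [.bwd 11020, .bwd 13424, .fwd 2013],
   .loop (some (13, 2)) [.bwd 11020, .bwd 13583, .fwd 10987],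
   .loop (some (0, 0)) [.fwd 13566, .fwd 13585],
   .loop (some (6, 0)) [.fwd 4275, .fwd 13110, .bwd 11059],
   .loop (some (7, 2)) [.bwd 11073, .bwd 13361, .fwd 10942],
   .loop (some (19, 0)) [.bwd 11401, .bwd 11400, .bwd 11399, .bwd 11398, .bwd 11397, .fwd 10777, .fwd 11072, .fwd 11073],
   .loop (some (19, 0)) [.fwd 11401, .fwd 11402, .bwd 9266, .fwd 6191, .fwd 9250, .bwd 11077, .bwd 11076, .bwd 11075],
   .loop (some (19, 0)) [.bwd 11399, .bwd 11398, .bwd 11397, .fwd 10777, .fwd 11072, .fwd 11073, .fwd 11074, .fwd 11075],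
   .loop (some (19, 0)) [.fwd 11399, .fwd 11400, .fwd 11401, .fwd 11402, .bwd 9266, .fwd 6191, .fwd 9250, .bwd 11077],
   .loop (some (5, 2)) [.bwd 13592, .bwd 13316, .bwd 13160],
   .loop (some (8, 2)) [.fwd 11076, .fwd 13347, .bwd 11124],
   .loop (some (7, 1)) [.bwd 11224, .bwd 13318, .fwd 11571],
   .loop (some (19, 0)) [.bwd 11445, .bwd 11444, .bwd 11443, .bwd 11442, .bwd 11441, .fwd 10787, .bwd 12709, .fwd 12708],
   .loop (some (1, 2)) [.fwd 12710, .fwd 13596, .fwd 13582],
   .loop (some (2, 2)) [.bwd 11122, .fwd 12764, .bwd 12219],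
   .loop (some (5, 0)) [.fwd 13589, .fwd 13014, .bwd 13596],
   .loop (some (8, 0)) [.bwd 11074, .bwd 13599, .fwd 11122],
   .loop (some (16, 3)) [.fwd 2792, .bwd 12688, .bwd 11123, .bwd 13598, .bwd 12218, .bwd 12217],
   .loop none [.fwd 13601],
   .loop none [.fwd 2791, .fwd 13602, .fwd 12217],
   .loop none [.fwd 13603],
   .loop none [.fwd 12216, .bwd 13602],
   .loop none [.bwd 12218, .bwd 13604],
   .loop (some (19, 0)) [.fwd 11443, .fwd 11444, .fwd 11445, .fwd 11191, .bwd 6196, .fwd 6195, .fwd 9313, .bwd 11125],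
   .loop (some (5, 2)) [.bwd 13607, .bwd 13347, .fwd 13592],
   .loop (some (2, 1)) [.bwd 11486, .fwd 13341, .fwd 11139],
   .loop (some (8, 0)) [.fwd 12133, .bwd 12854, .bwd 11157],
   .loop (some (6, 0)) [.fwd 7373, .fwd 13172, .bwd 13174],
   .loop (some (2, 2)) [.bwd 11180, .fwd 13174, .bwd 11219],
   .loop (some (8, 0)) [.bwd 2891, .bwd 13611, .fwd 11180],
   .loop (some (2, 0)) [.bwd 11211, .fwd 13100, .bwd 11188],
   .loop (some (16, 1)) [.bwd 7372, .bwd 1978, .bwd 1977, .fwd 13580, .fwd 13614],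
   .loop (some (7, 0)) [.bwd 13565, .fwd 13613, .bwd 13615],
   .loop (some (8, 0)) [.fwd 1979, .fwd 13172, .bwd 11219],
   .loop (some (14, 0)) [.fwd 11641, .fwd 13398, .bwd 11647, .bwd 11645],
   .loop (some (13, 2)) [.bwd 11231, .fwd 13618, .bwd 11640],
   .loop (some (17, 2)) [.bwd 11649, .fwd 11577, .bwd 13508, .fwd 13507, .fwd 12099],
   .loop (some (19, 0)) [.fwd 11291, .fwd 12564, .bwd 1902, .bwd 1901, .fwd 7217, .fwd 3638, .fwd 3639, .fwd 13525],
   .loop (some (9, 0)) [.bwd 13597, .fwd 13581, .bwd 13621],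
   .loop (some (2, 1)) [.bwd 10606, .bwd 13401, .fwd 11268],
   .loop (some (2, 2)) [.bwd 11798, .bwd 13510, .fwd 11581],
   .loop (some (12, 2)) [.bwd 11798, .bwd 12648, .fwd 11441],
   .loop (some (12, 2)) [.bwd 11312, .bwd 12948, .bwd 9306],
   .loop (some (0, 0)) [.fwd 13337, .fwd 13626],
   .loop (some (11, 3)) [.bwd 13626, .bwd 9305, .fwd 13335],
   .loop (some (13, 2)) [.bwd 11313, .bwd 13626, .fwd 12558],
   .loop (some (4, 0)) [.fwd 12224, .fwd 13628, .fwd 11313],
   .loop (some (19, 0)) [.bwd 11615, .bwd 11614, .fwd 13193, .fwd 9566, .bwd 5899, .bwd 9595, .fwd 12223, .bwd 13630],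
   .loop (some (0, 0)) [.fwd 13339, .fwd 13629],
   .loop (some (1, 2)) [.fwd 11313, .fwd 13631, .fwd 11616],
   .loop (some (10, 2)) [.bwd 11314, .bwd 13629, .fwd 11486],
   .loop (some (16, 2)) [.fwd 3713, .fwd 3714, .fwd 12626, .bwd 13630, .fwd 11314, .fwd 11315],
   .loop none [.fwd 13635],
   .loop none [.fwd 11315, .bwd 13636],
   .loop none [.bwd 10260, .fwd 13636, .fwd 11316],
   .loop none [.fwd 13638],
   .loop none [.bwd 11317, .bwd 13639],
   .loop (some (11, 2)) [.fwd 8113, .fwd 13637, .bwd 13634, .fwd 11487],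
   .loop none [.fwd 13641],
   .loop none [.fwd 11487, .bwd 13642],
   .loop none [.bwd 11488, .bwd 13642],
   .loop (some (17, 0)) [.bwd 12617, .fwd 3711, .fwd 3712, .fwd 10260, .fwd 13640],
   .loop (some (11, 0)) [.fwd 11499, .fwd 13225, .bwd 11327],
   .loop (some (0, 1)) [.fwd 13225, .fwd 13169],
   .loop (some (4, 2)) [.bwd 11344, .bwd 13288, .bwd 4181],
   .loop (some (9, 3)) [.bwd 13627, .bwd 13633, .fwd 13373],
   .loop (some (1, 2)) [.bwd 11344, .bwd 13649, .bwd 9416],
   .loop (some (10, 2)) [.bwd 11345, .bwd 13632, .fwd 11314],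
   .loop (some (16, 2)) [.fwd 4074, .fwd 4075, .fwd 8246, .fwd 13648, .fwd 11345, .fwd 11346],
   .loop none [.fwd 13652],
   .loop none [.bwd 11347, .bwd 13653],
   .loop (some (0, 0)) [.fwd 13634, .fwd 13651],
   .loop (some (17, 4)) [.bwd 11348, .bwd 13654, .bwd 4073, .bwd 4072, .fwd 8241],
   .loop (some (12, 0)) [.bwd 10260, .fwd 8114, .fwd 13654],
   .loop (some (13, 2)) [.bwd 11348, .fwd 13657, .fwd 13640],
   .loop (some (2, 1)) [.fwd 4186, .fwd 13656, .fwd 11349],
   .loop (some (10, 2)) [.bwd 11349, .bwd 13658, .fwd 11318],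
   .loop (some (11, 2)) [.bwd 11350, .bwd 13660, .fwd 11319],
   .loop (some (12, 2)) [.bwd 11351, .bwd 13661, .fwd 11320],
   .loop (some (13, 2)) [.bwd 11352, .bwd 13662, .fwd 11321],
   .loop (some (10, 2)) [.bwd 11353, .bwd 13663, .fwd 11322],
   .loop (some (11, 2)) [.bwd 11354, .bwd 13664, .fwd 11323],
   .loop (some (12, 2)) [.bwd 11355, .bwd 13665, .fwd 11324],
   .loop (some (13, 2)) [.bwd 11356, .bwd 13666, .fwd 11325],
   .loop (some (10, 2)) [.bwd 11357, .bwd 13667, .fwd 11326],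
   .loop (some (0, 0)) [.bwd 13646, .fwd 13668],
   .loop (some (7, 2)) [.fwd 11364, .bwd 13397, .bwd 11400],
   .loop (some (4, 2)) [.bwd 11370, .fwd 12341, .fwd 11770],
   .loop (some (8, 2)) [.bwd 11399, .fwd 13608, .fwd 11443],
   .loop (some (7, 2)) [.bwd 11400, .bwd 13672, .fwd 11444],
   .loop (some (16, 5)) [.fwd 11462, .fwd 11463, .fwd 12677, .bwd 11849, .bwd 11848],
   .loop (some (11, 0)) [.fwd 11910, .bwd 12680, .bwd 11463],
   .loop (some (19, 0)) [.bwd 11526, .bwd 11525, .fwd 13350, .fwd 9361, .fwd 8676, .bwd 9397, .fwd 12591, .fwd 13338],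
   .loop (some (9, 2)) [.bwd 13676, .bwd 13339, .bwd 13650],
   .loop (some (1, 2)) [.fwd 12558, .fwd 13676, .fwd 11527],
   .loop (some (17, 4)) [.bwd 11489, .bwd 13644, .bwd 3648, .bwd 3647, .fwd 12578],
   .loop (some (12, 0)) [.bwd 13654, .fwd 8065, .fwd 13644],
   .loop (some (13, 2)) [.bwd 11489, .fwd 13680, .fwd 11348],
   .loop (some (2, 1)) [.fwd 12196, .fwd 13679, .fwd 11490],
   .loop (some (10, 2)) [.bwd 11490, .bwd 13681, .fwd 11349],
   .loop (some (11, 2)) [.bwd 11491, .bwd 13683, .fwd 11350],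
   .loop (some (12, 2)) [.bwd 13682, .bwd 13683, .fwd 13659],
   .loop (some (0, 0)) [.fwd 13661, .fwd 13684],
   .loop (some (12, 2)) [.bwd 11492, .bwd 13684, .fwd 11351],
   .loop (some (0, 0)) [.fwd 13662, .fwd 13687],
   .loop (some (13, 2)) [.bwd 11493, .bwd 13687, .fwd 11352],
   .loop (some (0, 0)) [.fwd 13663, .fwd 13689],
   .loop (some (10, 2)) [.bwd 11494, .bwd 13689, .fwd 11353],
   .loop (some (11, 2)) [.bwd 11495, .bwd 13691, .fwd 11354],
   .loop (some (12, 2)) [.bwd 11496, .bwd 13692, .fwd 11355],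
   .loop (some (7, 2)) [.fwd 11695, .bwd 12301, .bwd 1913],
   .loop (some (11, 2)) [.fwd 11695, .bwd 12599, .bwd 11673],
   .loop (some (9, 3)) [.bwd 13351, .fwd 10857, .fwd 10554],
   .loop (some (19, 0)) [.bwd 13341, .bwd 13338, .bwd 12591, .fwd 9397, .bwd 8676, .bwd 9361, .bwd 13350, .fwd 11525],
   .loop (some (4, 2)) [.bwd 11527, .bwd 13352, .bwd 11715],
   .loop (some (13, 2)) [.bwd 11527, .bwd 13677, .fwd 9416],
   .loop (some (0, 0)) [.fwd 13373, .fwd 13699],
   .loop (some (16, 2)) [.fwd 3291, .fwd 3292, .fwd 12477, .fwd 13698, .fwd 11528, .fwd 11529],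
   .loop none [.fwd 13701],
   .loop none [.fwd 11529, .bwd 13702],
   .loop none [.bwd 11530, .bwd 13702],
   .loop (some (17, 4)) [.bwd 11531, .bwd 13704, .bwd 3290, .bwd 3289, .fwd 12472],
   .loop (some (12, 0)) [.bwd 13420, .fwd 7969, .fwd 13704],
   .loop (some (13, 2)) [.bwd 11531, .fwd 13706, .fwd 9420],
   .loop (some (0, 0)) [.fwd 13383, .fwd 13707],
   .loop (some (2, 1)) [.fwd 11720, .fwd 13705, .fwd 11532],
   .loop (some (10, 2)) [.bwd 11532, .bwd 13707, .fwd 9421],
   .loop (some (0, 0)) [.fwd 13384, .fwd 13710],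
   .loop (some (11, 2)) [.bwd 11533, .bwd 13710, .fwd 9422],
   .loop (some (12, 2)) [.bwd 11534, .bwd 13712, .fwd 9423],
   .loop (some (13, 2)) [.bwd 11535, .bwd 13713, .fwd 9424],
   .loop (some (10, 2)) [.bwd 11536, .bwd 13714, .fwd 9425],
   .loop (some (11, 2)) [.bwd 11537, .bwd 13715, .fwd 9426],
   .loop (some (12, 2)) [.bwd 11538, .bwd 13716, .fwd 9427],
   .loop (some (0, 0)) [.fwd 13390, .fwd 13717],
   .loop (some (13, 2)) [.bwd 11539, .bwd 13717, .fwd 9428],
   .loop (some (0, 0)) [.fwd 13391, .fwd 13719],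
   .loop (some (10, 2)) [.bwd 11540, .bwd 13719, .fwd 9429],
   .loop (some (12, 2)) [.bwd 11575, .bwd 12756, .fwd 11755],
   .loop (some (17, 2)) [.bwd 4685, .bwd 9907, .bwd 13512, .fwd 11581, .fwd 11582],
   .loop (some (3, 2)) [.bwd 11583, .bwd 11582, .fwd 13624, .fwd 11799],
   .loop none [.fwd 13724],
   .loop none [.bwd 11584, .fwd 13725, .bwd 11826],
   .loop none [.fwd 13726],
   .loop none [.bwd 11800, .bwd 13725],
   .loop none [.fwd 11799, .bwd 13725],
   .loop none [.bwd 12837, .bwd 13725],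
   .loop none [.fwd 13226, .bwd 13727],
   .loop none [.bwd 11585, .fwd 13727, .fwd 11862],
   .loop none [.fwd 13732],
   .loop none [.bwd 11863, .bwd 13733],
   .loop (some (19, 0)) [.fwd 8820, .fwd 5774, .fwd 7652, .fwd 2855, .fwd 2856, .bwd 13734, .bwd 11585, .bwd 11584],
   .loop (some (1, 2)) [.bwd 13729, .fwd 13735, .bwd 8819],
   .loop (some (4, 2)) [.bwd 11586, .fwd 13734, .fwd 2857],
   .loop (some (16, 2)) [.bwd 7703, .bwd 2859, .bwd 2858, .fwd 13737, .fwd 11587, .fwd 11588],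
   .loop none [.fwd 13738],
   .loop none [.fwd 11588, .bwd 13739],
   .loop none [.fwd 3017, .fwd 13739, .fwd 11589],
   .loop none [.fwd 13741],
   .loop none [.bwd 7706, .fwd 13742, .fwd 11590],
   .loop none [.fwd 13743],
   .loop none [.fwd 2862, .fwd 13744, .fwd 11591],
   .loop none [.fwd 13745],
   .loop none [.bwd 11592, .bwd 13746],
   .loop (some (17, 4)) [.bwd 11620, .bwd 13423, .bwd 4135, .bwd 4134, .fwd 12744],
   .loop (some (2, 1)) [.fwd 12127, .fwd 13748, .fwd 11621]]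

theorem just54_len : just54.length = 250 := by decide +kernel

theorem just54_ok : cert.okFacts 13500 just54 = true := by decide +kernel

/-- justifications -/
noncomputable def just55 : List Cert.Just :=
  [.loop (some (12, 2)) [.bwd 13749, .bwd 13711, .fwd 13709],
   .loop (some (12, 2)) [.bwd 12635, .bwd 12907, .fwd 12604],
   .loop (some (2, 3)) [.bwd 13270, .bwd 13620, .fwd 12100],
   .loop (some (12, 2)) [.bwd 11658, .bwd 12294, .fwd 11769],
   .loop (some (13, 2)) [.bwd 11659, .bwd 13753, .fwd 11770],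
   .loop (some (10, 2)) [.bwd 11660, .bwd 13754, .fwd 11771],
   .loop (some (11, 2)) [.bwd 11661, .bwd 13755, .bwd 13453],
   .loop (some (12, 2)) [.bwd 11662, .bwd 13756, .bwd 9557],
   .loop (some (13, 2)) [.bwd 11663, .bwd 13757, .fwd 13437],
   .loop (some (10, 2)) [.bwd 11664, .bwd 13758, .bwd 11375],
   .loop (some (11, 2)) [.bwd 11665, .bwd 13759, .fwd 13456],
   .loop (some (12, 2)) [.bwd 11666, .bwd 13760, .fwd 11777],
   .loop (some (13, 2)) [.bwd 11667, .bwd 13761, .fwd 11778],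
   .loop (some (10, 2)) [.bwd 11668, .bwd 13762, .fwd 11779],
   .loop (some (12, 2)) [.bwd 11864, .bwd 12700, .bwd 12183],
   .loop (some (11, 0)) [.bwd 11661, .fwd 13530, .fwd 13546],
   .loop (some (12, 2)) [.bwd 11684, .fwd 13765, .fwd 11662],
   .loop (some (13, 2)) [.bwd 11685, .bwd 13766, .fwd 11663],
   .loop (some (10, 2)) [.bwd 11686, .bwd 13767, .fwd 11664],
   .loop (some (11, 2)) [.bwd 11687, .bwd 13768, .fwd 11665],
   .loop (some (12, 2)) [.bwd 11688, .bwd 13769, .fwd 11666],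
   .loop (some (13, 2)) [.bwd 11689, .bwd 13770, .fwd 11667],
   .loop (some (0, 0)) [.fwd 13762, .fwd 13771],
   .loop (some (13, 2)) [.bwd 11729, .bwd 13176, .fwd 11925],
   .loop (some (12, 2)) [.bwd 11710, .bwd 11726, .bwd 5473],
   .loop (some (7, 0)) [.fwd 11736, .fwd 12486, .bwd 11706],
   .loop (some (11, 0)) [.bwd 12782, .fwd 12487, .bwd 11706],
   .loop (some (11, 2)) [.bwd 11717, .bwd 13474, .fwd 12142],
   .loop (some (12, 2)) [.bwd 11718, .bwd 13777, .fwd 12143],
   .loop (some (13, 2)) [.bwd 11719, .bwd 13778, .fwd 12144],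
   .loop (some (0, 1)) [.fwd 13779, .fwd 13750],
   .loop (some (10, 2)) [.bwd 11720, .bwd 13779, .fwd 12145],
   .loop (some (12, 1)) [.fwd 13710, .fwd 13709, .bwd 13779],
   .loop (some (11, 2)) [.bwd 11721, .bwd 13781, .fwd 12146],
   .loop (some (12, 1)) [.fwd 13707, .bwd 13705, .bwd 13781],
   .loop (some (12, 2)) [.bwd 11722, .bwd 13783, .fwd 12147],
   .loop (some (19, 0)) [.bwd 8744, .bwd 6245, .fwd 8753, .bwd 11738, .bwd 11737, .bwd 11736, .bwd 11735, .bwd 11734],
   .loop (some (7, 2)) [.bwd 11734, .bwd 12845, .fwd 11704],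
   .loop (some (7, 2)) [.bwd 11756, .bwd 12846, .fwd 11734],
   .loop (some (19, 0)) [.fwd 11757, .fwd 11758, .bwd 3119, .bwd 3118, .bwd 7609, .fwd 6252, .fwd 8768, .bwd 11784],
   .loop (some (4, 0)) [.fwd 11461, .bwd 13674, .bwd 11847],
   .loop (some (9, 2)) [.bwd 11913, .bwd 13195, .bwd 11887],
   .loop (some (14, 1)) [.fwd 11902, .bwd 11890, .bwd 11865, .bwd 13764],
   .loop (some (19, 0)) [.fwd 11889, .bwd 6472, .bwd 11882, .bwd 11881, .bwd 11880, .bwd 11879, .bwd 11878, .bwd 11877],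
   .loop (some (7, 2)) [.bwd 11877, .bwd 13730, .fwd 11584],
   .loop (some (8, 0)) [.bwd 11585, .fwd 13794, .fwd 11878],
   .loop (some (8, 2)) [.fwd 11880, .fwd 12373, .bwd 11911],
   .loop (some (7, 0)) [.bwd 2855, .fwd 12360, .bwd 11881],
   .loop (some (5, 2)) [.bwd 12031, .bwd 12318, .bwd 9916],
   .loop (some (9, 2)) [.bwd 12040, .bwd 12703, .bwd 9916],
   .loop (some (7, 2)) [.bwd 11908, .bwd 12839, .fwd 11877],
   .loop (some (0, 2)) [.bwd 13675, .fwd 12993],
   .loop (some (8, 0)) [.bwd 11878, .fwd 13800, .fwd 11909],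
   .loop (some (14, 3)) [.bwd 13796, .bwd 12997, .fwd 13010, .fwd 7697],
   .loop (some (10, 2)) [.bwd 13215, .fwd 13218, .bwd 4190],
   .loop (some (17, 2)) [.bwd 3644, .bwd 3643, .bwd 13216, .fwd 11944, .fwd 11945],
   .loop (some (2, 1)) [.bwd 3645, .bwd 13805, .fwd 11946],
   .loop (some (9, 1)) [.fwd 12761, .fwd 13463, .fwd 13412],
   .loop (some (9, 3)) [.bwd 13235, .bwd 10545, .fwd 8139],
   .loop (some (11, 0)) [.fwd 12770, .fwd 12934, .bwd 12117],
   .loop (some (7, 0)) [.fwd 11156, .fwd 13610, .bwd 12132],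
   .loop (some (3, 0)) [.fwd 2790, .fwd 2791, .fwd 13605],
   .loop (some (2, 2)) [.fwd 12215, .fwd 13811, .bwd 2789],
   .loop (some (19, 4)) [.bwd 8935, .bwd 8934, .fwd 10616, .fwd 13249, .bwd 13250, .bwd 13752, .fwd 12101, .fwd 12102],
   .loop (some (19, 4)) [.bwd 12211, .bwd 12210, .fwd 13257, .fwd 12281, .bwd 12282, .bwd 10027, .fwd 2784, .fwd 2785],
   .define,
   .define,
   .define,
   .define,
   .define,
   .define,
   .define,
   .define,
   .define,
   .define,
   .define,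
   .define,
   .define,
   .define,
   .define,
   .define,
   .define,
   .loop (some (21, 22)) [.bwd 3329, .bwd 7760, .bwd 2967, .fwd 7755, .bwd 7386, .fwd 4251, .bwd 1995, .bwd 849, .fwd 1028, .bwd 3205, .bwd 5733, .bwd 6742, .fwd 12266, .bwd 11767, .fwd 13815, .fwd 13816, .fwd 13817, .fwd 13818, .fwd 13819, .fwd 13820, .fwd 13821, .fwd 13822, .fwd 13823, .fwd 13824, .fwd 13825, .fwd 13826, .fwd 13827, .fwd 13828, .fwd 13829, .fwd 13830, .fwd 13831],
   .define,
   .define,
   .define,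
   .define,
   .define,
   .define,
   .define,
   .define,
   .define,
   .define,
   .define,
   .define,
   .define,
   .loop (some (21, 21)) [.bwd 12423, .bwd 3074, .bwd 7893, .bwd 3118, .bwd 7609, .fwd 3340, .fwd 6258, .bwd 3978, .fwd 3979, .fwd 3102, .bwd 3741, .bwd 6693, .fwd 1773, .fwd 1245, .fwd 6735, .bwd 6737, .bwd 6793, .bwd 3223, .fwd 13833, .fwd 13834, .fwd 13835, .fwd 13836, .fwd 13837, .fwd 13838, .fwd 13839, .fwd 13840, .fwd 13841, .fwd 13842, .fwd 13843, .fwd 13844, .fwd 13845],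
   .define,
   .define,
   .define,
   .define,
   .define,
   .define,
   .define,
   .define,
   .define,
   .define,
   .define,
   .define,
   .loop (some (21, 23)) [.fwd 7052, .fwd 7057, .fwd 6788, .bwd 1761, .fwd 6673, .bwd 6643, .bwd 6604, .bwd 1865, .bwd 1064, .fwd 1067, .fwd 849, .fwd 3216, .bwd 4799, .bwd 5252, .bwd 4080, .fwd 8249, .bwd 4178, .bwd 9434, .bwd 11365, .fwd 13847, .fwd 13848, .fwd 13849, .fwd 13850, .fwd 13851, .fwd 13852, .fwd 13853, .fwd 13854, .fwd 13855, .fwd 13856, .fwd 13857, .fwd 13858],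
   .define,
   .define,
   .define,
   .define,
   .define,
   .define,
   .define,
   .define,
   .define,
   .define,
   .define,
   .loop (some (21, 22)) [.fwd 1652, .bwd 7050, .bwd 7078, .fwd 6777, .fwd 6729, .fwd 6692, .fwd 6653, .fwd 1101, .fwd 1865, .fwd 2760, .bwd 2761, .bwd 4103, .bwd 4109, .bwd 5050, .bwd 7539, .bwd 4330, .bwd 8812, .fwd 12811, .bwd 13166, .bwd 9514, .fwd 13860, .fwd 13861, .fwd 13862, .fwd 13863, .fwd 13864, .fwd 13865, .fwd 13866, .fwd 13867, .fwd 13868, .fwd 13869, .fwd 13870],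
   .define,
   .define,
   .define,
   .define,
   .define,
   .define,
   .define,
   .define,
   .define,
   .define,
   .loop (some (21, 20)) [.bwd 13535, .fwd 13529, .bwd 2301, .fwd 2299, .fwd 1709, .bwd 1773, .bwd 6729, .fwd 6727, .fwd 6677, .bwd 6638, .bwd 1097, .fwd 2765, .bwd 2819, .bwd 3686, .fwd 3687, .bwd 4837, .bwd 7320, .bwd 3655, .bwd 8677, .fwd 12592, .bwd 11545, .fwd 13872, .fwd 13873, .fwd 13874, .fwd 13875, .fwd 13876, .fwd 13877, .fwd 13878, .fwd 13879, .fwd 13880, .fwd 13881],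
   .define,
   .define,
   .define,
   .define,
   .define,
   .define,
   .define,
   .define,
   .define,
   .define,
   .define,
   .define,
   .loop (some (21, 23)) [.bwd 7041, .fwd 5971, .fwd 1751, .bwd 1861, .fwd 6666, .fwd 6641, .fwd 6604, .fwd 1097, .fwd 6624, .bwd 3089, .bwd 3994, .bwd 3734, .fwd 4007, .bwd 7646, .bwd 3297, .bwd 8956, .bwd 9314, .bwd 11125, .bwd 11124, .fwd 13883, .fwd 13884, .fwd 13885, .fwd 13886, .fwd 13887, .fwd 13888, .fwd 13889, .fwd 13890, .fwd 13891, .fwd 13892, .fwd 13893, .fwd 13894],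
   .define,
   .define,
   .define,
   .define,
   .define,
   .define,
   .define,
   .define,
   .define,
   .define,
   .define,
   .define,
   .define,
   .define,
   .define,
   .define,
   .loop (some (21, 27)) [.fwd 6791, .bwd 6682, .fwd 1174, .fwd 1863, .bwd 6666, .fwd 5733, .bwd 5060, .fwd 5049, .fwd 5050, .bwd 4834, .bwd 7543, .bwd 3058, .bwd 7792, .bwd 3134, .fwd 13000, .fwd 12994, .bwd 12014, .fwd 13898, .fwd 13899, .fwd 13900, .fwd 13901, .fwd 13902, .fwd 13903, .fwd 13904, .fwd 13905, .fwd 13906, .fwd 13907, .fwd 13908, .fwd 13909, .fwd 13910, .fwd 13911],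
   .define,
   .define,
   .define,
   .define,
   .define,
   .define,
   .define,
   .define,
   .define,
   .define,
   .define,
   .define,
   .define,
   .define,
   .define,
   .define,
   .define,
   .loop (some (21, 27)) [.fwd 7002, .bwd 6778, .fwd 6731, .bwd 1133, .bwd 6673, .bwd 5746, .bwd 4845, .fwd 4844, .fwd 4837, .bwd 4839, .bwd 7300, .bwd 3006, .bwd 7727, .bwd 2871, .fwd 13913, .fwd 13914, .fwd 13915, .fwd 13916, .fwd 13917, .fwd 13918, .fwd 13919, .fwd 13920, .fwd 13921, .fwd 13922, .fwd 13923, .fwd 13924, .fwd 13925, .fwd 13926, .fwd 13927, .fwd 13928, .fwd 13929],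
   .define,
   .define,
   .define,
   .define,
   .define,
   .define,
   .define,
   .define,
   .define,
   .define,
   .define,
   .define,
   .define,
   .define,
   .define,
   .define,
   .define,
   .define,
   .define,
   .define,
   .define,
   .define,
   .define,
   .define,
   .loop (some (21, 28)) [.bwd 13815, .bwd 12264, .bwd 2778, .bwd 6686, .bwd 5971, .fwd 1707, .fwd 8974, .fwd 9983, .bwd 9984, .bwd 13623, .fwd 13934, .fwd 13935, .fwd 13936, .fwd 13937, .fwd 13938, .fwd 13939, .fwd 13940, .fwd 13941, .fwd 13942, .fwd 13943, .fwd 13944, .fwd 13945, .fwd 13946, .fwd 13947, .fwd 13948, .fwd 13949, .fwd 13950, .fwd 13951, .fwd 13952, .fwd 13953, .fwd 13954],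
   .define,
   .define,
   .define,
   .loop (some (20, 5)) [.fwd 1234, .fwd 1217, .fwd 1218, .fwd 1161, .fwd 1162, .fwd 13956, .fwd 13957, .fwd 13958],
   .define,
   .loop (some (13, 2)) [.bwd 1161, .bwd 6809, .bwd 13959],
   .define,
   .define,
   .define,
   .define,
   .loop (some (20, 6)) [.bwd 1163, .bwd 1162, .bwd 1161, .bwd 1218, .fwd 13962, .fwd 13963, .fwd 13964, .fwd 13965],
   .define,
   .define,
   .define,
   .loop (some (10, 2)) [.fwd 6760, .bwd 13961, .fwd 13969],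
   .define,
   .loop (some (11, 2)) [.fwd 6761, .bwd 13961, .fwd 13971],
   .define,
   .define,
   .define,
   .define,
   .define,
   .define,
   .define,
   .define,
   .define,
   .define,
   .define,
   .define,
   .define,
   .define,
   .define,
   .define,
   .define,
   .define,
   .define,
   .define,
   .loop (some (21, 22)) [.fwd 1632, .fwd 6877, .fwd 6833, .bwd 9960, .fwd 9961, .fwd 9950, .fwd 9949, .fwd 8968, .fwd 1161, .bwd 6760, .bwd 6816, .fwd 13973, .fwd 13974, .fwd 13975, .fwd 13976, .fwd 13977, .fwd 13978, .fwd 13979, .fwd 13980, .fwd 13981, .fwd 13982, .fwd 13983, .fwd 13984, .fwd 13985, .fwd 13986, .fwd 13987, .fwd 13988, .fwd 13989, .fwd 13990, .fwd 13991, .fwd 13992],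
   .define,
   .loop (some (12, 2)) [.bwd 6808, .bwd 13961, .fwd 13994],
   .define,
   .define,
   .define,
   .define]

theorem just55_len : just55.length = 250 := by decide +kernel

theorem just55_ok : cert.okFacts 13750 just55 = true := by decide +kernel

/-- justifications -/
noncomputable def just56 : List Cert.Just :=
  [.loop (some (0, 1)) [.bwd 13997, .fwd 13999],
   .define,
   .loop (some (12, 2)) [.bwd 6775, .fwd 13997, .fwd 14001],
   .loop (some (14, 1)) [.fwd 13961, .fwd 1162, .fwd 1163, .bwd 9951],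
   .define,
   .define,
   .loop (some (20, 4)) [.bwd 2778, .bwd 1158, .fwd 1177, .fwd 1178, .bwd 1164, .bwd 13966, .bwd 13965, .fwd 14005],
   .loop (some (4, 1)) [.bwd 13815, .bwd 11766, .fwd 6745],
   .define,
   .define,
   .define,
   .define,
   .define,
   .define,
   .define,
   .define,
   .define,
   .define,
   .define,
   .define,
   .define,
   .define,
   .define,
   .define,
   .define,
   .define,
   .define,
   .define,
   .define,
   .define,
   .define,
   .define,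
   .define,
   .loop (some (21, 28)) [.bwd 6750, .fwd 12264, .bwd 11766, .bwd 6740, .bwd 6786, .bwd 8807, .fwd 14008, .fwd 14009, .fwd 14010, .fwd 14011, .fwd 14012, .fwd 14013, .fwd 14014, .fwd 14015, .fwd 14016, .fwd 14017, .fwd 14018, .fwd 14019, .fwd 14020, .fwd 14021, .fwd 14022, .fwd 14023, .fwd 14024, .fwd 14025, .fwd 14026, .fwd 14027, .fwd 14028, .fwd 14029, .fwd 14030, .fwd 14031, .fwd 14032],
   .define,
   .define,
   .loop (some (20, 4)) [.bwd 12267, .fwd 1753, .fwd 1742, .fwd 1743, .fwd 1245, .fwd 1246, .fwd 14034, .fwd 14035],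
   .loop (some (20, 2)) [.fwd 1212, .bwd 1210, .bwd 64, .fwd 1156, .bwd 1158, .fwd 1177, .fwd 11655, .fwd 14004],
   .define,
   .define,
   .loop (some (3, 3)) [.bwd 6795, .fwd 14038, .fwd 14039],
   .define,
   .define,
   .define,
   .loop (some (20, 4)) [.bwd 13962, .fwd 1218, .bwd 1160, .fwd 1210, .bwd 14040, .fwd 14041, .fwd 14042, .fwd 14043],
   .loop (some (17, 4)) [.fwd 14040, .fwd 1229, .fwd 9945, .fwd 9955, .fwd 13962],
   .define,
   .define,
   .define,
   .define,
   .define,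
   .define,
   .define,
   .define,
   .define,
   .define,
   .define,
   .define,
   .define,
   .define,
   .define,
   .define,
   .define,
   .define,
   .define,
   .define,
   .define,
   .define,
   .define,
   .loop (some (21, 29)) [.fwd 14045, .fwd 14040, .bwd 6795, .bwd 6825, .fwd 1310, .fwd 1412, .bwd 6893, .bwd 6925, .fwd 14046, .fwd 14047, .fwd 14048, .fwd 14049, .fwd 14050, .fwd 14051, .fwd 14052, .fwd 14053, .fwd 14054, .fwd 14055, .fwd 14056, .fwd 14057, .fwd 14058, .fwd 14059, .fwd 14060, .fwd 14061, .fwd 14062, .fwd 14063, .fwd 14064, .fwd 14065, .fwd 14066, .fwd 14067, .fwd 14068],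
   .define,
   .loop (some (3, 2)) [.fwd 14037, .bwd 6798, .fwd 14070],
   .define,
   .loop (some (4, 2)) [.fwd 14037, .bwd 6799, .fwd 14072],
   .loop (some (17, 5)) [.fwd 14037, .fwd 9953, .fwd 8966, .bwd 9954, .bwd 13959, .fwd 13994],
   .loop none [.bwd 14074],
   .loop none [.fwd 14071, .bwd 14075],
   .loop none [.fwd 14073, .bwd 14075],
   .loop none [.bwd 14037, .bwd 14075],
   .define,
   .define,
   .define,
   .define,
   .define,
   .define,
   .define,
   .define,
   .define,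
   .define,
   .define,
   .define,
   .define,
   .define,
   .define,
   .define,
   .define,
   .define,
   .define,
   .define,
   .define,
   .define,
   .define,
   .define,
   .define,
   .loop (some (21, 28)) [.bwd 13971, .fwd 13994, .fwd 14078, .bwd 6798, .bwd 6827, .fwd 6859, .fwd 14079, .fwd 14080, .fwd 14081, .fwd 14082, .fwd 14083, .fwd 14084, .fwd 14085, .fwd 14086, .fwd 14087, .fwd 14088, .fwd 14089, .fwd 14090, .fwd 14091, .fwd 14092, .fwd 14093, .fwd 14094, .fwd 14095, .fwd 14096, .fwd 14097, .fwd 14098, .fwd 14099, .fwd 14100, .fwd 14101, .fwd 14102, .fwd 14103],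
   .define,
   .loop (some (10, 2)) [.bwd 6800, .bwd 14002, .fwd 14105],
   .define,
   .loop (some (10, 2)) [.bwd 6804, .bwd 13995, .fwd 14076],
   .loop (some (11, 2)) [.bwd 6805, .bwd 13995, .fwd 14077],
   .define,
   .define,
   .define,
   .define,
   .define,
   .loop (some (3, 2)) [.bwd 13962, .fwd 6762, .fwd 14114],
   .loop (some (4, 1)) [.fwd 14069, .bwd 13962, .fwd 6764],
   .define,
   .loop (some (13, 3)) [.bwd 13962, .fwd 6813, .fwd 1161, .fwd 13968],
   .loop none [.fwd 14118],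
   .loop none [.fwd 13968, .bwd 14119],
   .define,
   .define,
   .loop (some (20, 5)) [.fwd 1266, .fwd 1249, .fwd 1250, .fwd 1738, .fwd 1739, .fwd 13996, .fwd 14121, .fwd 14122],
   .define,
   .define,
   .define,
   .define,
   .define,
   .define,
   .define,
   .define,
   .define,
   .define,
   .define,
   .define,
   .define,
   .define,
   .define,
   .define,
   .define,
   .define,
   .define,
   .define,
   .loop (some (21, 23)) [.fwd 7015, .fwd 7017, .fwd 6931, .bwd 1632, .bwd 6875, .bwd 6832, .bwd 6835, .bwd 1738, .bwd 1219, .fwd 1231, .bwd 2106, .fwd 14124, .fwd 14125, .fwd 14126, .fwd 14127, .fwd 14128, .fwd 14129, .fwd 14130, .fwd 14131, .fwd 14132, .fwd 14133, .fwd 14134, .fwd 14135, .fwd 14136, .fwd 14137, .fwd 14138, .fwd 14139, .fwd 14140, .fwd 14141, .fwd 14142, .fwd 14143],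
   .loop (some (13, 2)) [.fwd 13970, .bwd 1738, .fwd 6820, .bwd 14123],
   .loop none [.fwd 14145],
   .loop none [.bwd 14123, .bwd 14146],
   .loop none [.fwd 14122, .bwd 14146],
   .define,
   .define,
   .define,
   .define,
   .define,
   .define,
   .define,
   .define,
   .define,
   .define,
   .define,
   .define,
   .define,
   .define,
   .define,
   .define,
   .define,
   .define,
   .define,
   .define,
   .define,
   .define,
   .define,
   .define,
   .loop (some (21, 27)) [.bwd 6821, .bwd 6764, .bwd 9955, .bwd 9945, .bwd 6007, .bwd 3578, .bwd 3540, .fwd 14149, .fwd 14150, .fwd 14151, .fwd 14152, .fwd 14153, .fwd 14154, .fwd 14155, .fwd 14156, .fwd 14157, .fwd 14158, .fwd 14159, .fwd 14160, .fwd 14161, .fwd 14162, .fwd 14163, .fwd 14164, .fwd 14165, .fwd 14166, .fwd 14167, .fwd 14168, .fwd 14169, .fwd 14170, .fwd 14171, .fwd 14172],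
   .define,
   .define,
   .loop (some (20, 5)) [.fwd 2073, .fwd 2063, .fwd 2064, .fwd 2441, .fwd 2442, .fwd 13998, .fwd 14174, .fwd 14175],
   .loop (some (13, 2)) [.fwd 13972, .bwd 2441, .fwd 6822, .bwd 14176],
   .loop none [.fwd 14177],
   .loop none [.bwd 14176, .bwd 14178],
   .define,
   .define,
   .define,
   .define,
   .define,
   .define,
   .define,
   .define,
   .define,
   .define,
   .define,
   .define,
   .define,
   .define,
   .define,
   .define,
   .define,
   .define,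
   .define,
   .define,
   .define,
   .define,
   .loop (some (21, 28)) [.bwd 14077, .bwd 13994, .fwd 13959, .fwd 6810, .fwd 6838, .fwd 6862, .bwd 1355, .fwd 6916, .bwd 7010, .fwd 14180, .fwd 14181, .fwd 14182, .fwd 14183, .fwd 14184, .fwd 14185, .fwd 14186, .fwd 14187, .fwd 14188, .fwd 14189, .fwd 14190, .fwd 14191, .fwd 14192, .fwd 14193, .fwd 14194, .fwd 14195, .fwd 14196, .fwd 14197, .fwd 14198, .fwd 14199, .fwd 14200, .fwd 14201],
   .define,
   .loop (some (4, 2)) [.bwd 14038, .bwd 6825, .fwd 14203],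
   .define,
   .define,
   .define,
   .loop (some (20, 4)) [.bwd 14114, .fwd 1250, .fwd 1220, .fwd 1241, .fwd 14038, .fwd 14205, .fwd 14206, .fwd 14207],
   .loop (some (17, 4)) [.bwd 14038, .fwd 1261, .fwd 3613, .fwd 6841, .fwd 14114],
   .define,
   .define,
   .define,
   .define,
   .define,
   .define,
   .define,
   .define,
   .define,
   .define,
   .define,
   .define,
   .define,
   .define,
   .define,
   .define,
   .define,
   .define,
   .define,
   .define,
   .define,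
   .define,
   .define,
   .loop (some (21, 29)) [.fwd 14209, .bwd 14038, .fwd 6795, .bwd 6796, .fwd 2070, .fwd 2099, .bwd 7501, .bwd 7505, .fwd 14210, .fwd 14211, .fwd 14212, .fwd 14213, .fwd 14214, .fwd 14215, .fwd 14216, .fwd 14217, .fwd 14218, .fwd 14219, .fwd 14220, .fwd 14221, .fwd 14222, .fwd 14223, .fwd 14224, .fwd 14225, .fwd 14226, .fwd 14227, .fwd 14228, .fwd 14229, .fwd 14230, .fwd 14231, .fwd 14232],
   .define,
   .loop (some (4, 2)) [.bwd 14070, .bwd 6827, .fwd 14234],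
   .define,
   .define,
   .define,
   .loop (some (20, 4)) [.bwd 1738, .fwd 1220, .fwd 1241, .bwd 1243, .fwd 14070, .fwd 14236, .fwd 14237, .fwd 14238],
   .define,
   .loop (some (17, 4)) [.bwd 14070, .fwd 9957, .fwd 8958, .bwd 9958, .bwd 14147],
   .define,
   .define,
   .define,
   .define,
   .define,
   .define,
   .define,
   .define]

theorem just56_len : just56.length = 250 := by decide +kernel

theorem just56_ok : cert.okFacts 14000 just56 = true := by decide +kernel

/-- justifications -/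
noncomputable def just57 : List Cert.Just :=
  [.define,
   .define,
   .define,
   .define,
   .define,
   .define,
   .define,
   .define,
   .define,
   .define,
   .define,
   .define,
   .define,
   .define,
   .define,
   .define,
   .define,
   .define,
   .loop (some (21, 29)) [.fwd 14241, .bwd 14070, .fwd 6798, .bwd 6799, .fwd 7493, .fwd 14242, .fwd 14243, .fwd 14244, .fwd 14245, .fwd 14246, .fwd 14247, .fwd 14248, .fwd 14249, .fwd 14250, .fwd 14251, .fwd 14252, .fwd 14253, .fwd 14254, .fwd 14255, .fwd 14256, .fwd 14257, .fwd 14258, .fwd 14259, .fwd 14260, .fwd 14261, .fwd 14262, .fwd 14263, .fwd 14264, .fwd 14265, .fwd 14266, .fwd 14267],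
   .define,
   .define,
   .loop (some (14, 4)) [.bwd 12268, .bwd 14036, .fwd 14269, .fwd 14270],
   .define,
   .define,
   .define,
   .loop (some (9, 2)) [.bwd 6828, .bwd 14106, .fwd 14274],
   .define,
   .define,
   .define,
   .loop (some (11, 2)) [.bwd 6829, .bwd 14106, .fwd 14278],
   .loop (some (14, 1)) [.fwd 12268, .fwd 1246, .fwd 1247, .bwd 14108],
   .define,
   .define,
   .define,
   .define,
   .loop (some (19, 6)) [.bwd 14110, .bwd 6832, .fwd 6831, .bwd 8020, .bwd 6843, .fwd 14282, .fwd 14283, .fwd 14284],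
   .loop (some (11, 2)) [.bwd 6832, .bwd 14108, .bwd 14235],
   .define,
   .define,
   .define,
   .define,
   .define,
   .define,
   .define,
   .define,
   .define,
   .define,
   .define,
   .define,
   .define,
   .define,
   .define,
   .define,
   .define,
   .define,
   .define,
   .loop (some (21, 22)) [.bwd 3486, .fwd 3506, .fwd 3521, .bwd 3577, .bwd 8019, .fwd 8018, .bwd 9964, .fwd 9960, .bwd 1248, .bwd 6804, .fwd 6805, .fwd 13967, .fwd 14287, .fwd 14288, .fwd 14289, .fwd 14290, .fwd 14291, .fwd 14292, .fwd 14293, .fwd 14294, .fwd 14295, .fwd 14296, .fwd 14297, .fwd 14298, .fwd 14299, .fwd 14300, .fwd 14301, .fwd 14302, .fwd 14303, .fwd 14304, .fwd 14305],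
   .loop (some (4, 1)) [.fwd 14233, .bwd 14114, .fwd 6819],
   .loop (some (20, 1)) [.bwd 14273, .fwd 14036, .bwd 14280, .bwd 14070, .fwd 1265, .fwd 1266, .fwd 1249, .fwd 14114],
   .define,
   .loop (some (1, 2)) [.bwd 14114, .fwd 6818, .fwd 14309],
   .loop (some (13, 2)) [.bwd 14114, .bwd 6815, .fwd 1738],
   .define,
   .define,
   .define,
   .loop (some (20, 5)) [.fwd 3543, .fwd 3531, .fwd 3532, .fwd 5634, .fwd 5635, .fwd 14312, .fwd 14313, .fwd 14314],
   .define,
   .define,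
   .define,
   .define,
   .define,
   .define,
   .define,
   .define,
   .define,
   .define,
   .define,
   .define,
   .define,
   .define,
   .define,
   .define,
   .define,
   .define,
   .define,
   .loop (some (21, 22)) [.fwd 14315, .fwd 6847, .bwd 6892, .bwd 8006, .bwd 3503, .bwd 7031, .fwd 8010, .bwd 8020, .bwd 5634, .bwd 3533, .bwd 3521, .bwd 3507, .fwd 14316, .fwd 14317, .fwd 14318, .fwd 14319, .fwd 14320, .fwd 14321, .fwd 14322, .fwd 14323, .fwd 14324, .fwd 14325, .fwd 14326, .fwd 14327, .fwd 14328, .fwd 14329, .fwd 14330, .fwd 14331, .fwd 14332, .fwd 14333, .fwd 14334],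
   .define,
   .define,
   .define,
   .define,
   .define,
   .define,
   .define,
   .define,
   .define,
   .define,
   .define,
   .define,
   .define,
   .define,
   .define,
   .define,
   .define,
   .define,
   .define,
   .define,
   .define,
   .loop (some (21, 27)) [.bwd 6850, .bwd 6819, .bwd 6841, .bwd 3613, .fwd 6007, .bwd 6009, .bwd 1229, .bwd 14040, .bwd 14039, .bwd 14204, .fwd 14336, .fwd 14337, .fwd 14338, .fwd 14339, .fwd 14340, .fwd 14341, .fwd 14342, .fwd 14343, .fwd 14344, .fwd 14345, .fwd 14346, .fwd 14347, .fwd 14348, .fwd 14349, .fwd 14350, .fwd 14351, .fwd 14352, .fwd 14353, .fwd 14354, .fwd 14355, .fwd 14356],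
   .define,
   .define,
   .define,
   .loop (some (20, 5)) [.fwd 1313, .fwd 1291, .fwd 1292, .fwd 1686, .fwd 1687, .fwd 14358, .fwd 14359, .fwd 14360],
   .loop (some (13, 2)) [.bwd 1686, .fwd 6854, .bwd 14361],
   .loop (some (4, 2)) [.fwd 14268, .fwd 14147, .fwd 6838, .bwd 14361],
   .loop none [.fwd 14363],
   .loop none [.bwd 14361, .bwd 14364],
   .loop none [.fwd 14360, .bwd 14364],
   .loop none [.bwd 14362, .bwd 14364],
   .loop (some (20, 2)) [.bwd 9947, .fwd 1737, .bwd 1735, .bwd 1155, .fwd 1241, .bwd 1243, .fwd 1265, .bwd 14147, .fwd 14281],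
   .loop none [.fwd 14368],
   .loop none [.fwd 14281, .bwd 14369],
   .define,
   .define,
   .define,
   .define,
   .define,
   .define,
   .define,
   .define,
   .define,
   .define,
   .define,
   .define,
   .define,
   .define,
   .define,
   .define,
   .define,
   .define,
   .define,
   .define,
   .define,
   .define,
   .loop (some (21, 28)) [.fwd 14235, .bwd 14241, .fwd 14147, .bwd 6810, .fwd 6811, .fwd 7494, .bwd 2102, .fwd 7504, .fwd 7507, .fwd 14371, .fwd 14372, .fwd 14373, .fwd 14374, .fwd 14375, .fwd 14376, .fwd 14377, .fwd 14378, .fwd 14379, .fwd 14380, .fwd 14381, .fwd 14382, .fwd 14383, .fwd 14384, .fwd 14385, .fwd 14386, .fwd 14387, .fwd 14388, .fwd 14389, .fwd 14390, .fwd 14391, .fwd 14392],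
   .define,
   .define,
   .define,
   .loop (some (20, 4)) [.bwd 14307, .fwd 1292, .fwd 1264, .fwd 1283, .fwd 14203, .fwd 14394, .fwd 14395, .fwd 14396],
   .define,
   .loop (some (1, 2)) [.bwd 14203, .bwd 6858, .fwd 14398],
   .loop (some (17, 2)) [.bwd 14337, .bwd 14336, .bwd 14203, .fwd 1310, .fwd 1412],
   .loop (some (13, 2)) [.bwd 14203, .fwd 6856, .bwd 1290],
   .loop (some (3, 1)) [.fwd 14392, .fwd 14393, .bwd 14234, .bwd 6860],
   .loop none [.bwd 14402],
   .loop none [.bwd 14392, .bwd 14403],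
   .define,
   .define,
   .define,
   .loop (some (20, 4)) [.bwd 1686, .fwd 1264, .fwd 1283, .bwd 1285, .fwd 14234, .fwd 14405, .fwd 14406, .fwd 14407],
   .define,
   .loop (some (1, 2)) [.bwd 14234, .bwd 6861, .fwd 14409],
   .define,
   .loop (some (20, 4)) [.bwd 12271, .fwd 1711, .fwd 1690, .fwd 1691, .fwd 1287, .fwd 1288, .fwd 14272, .fwd 14411],
   .define,
   .define,
   .define,
   .loop (some (14, 4)) [.bwd 12269, .bwd 14412, .fwd 14414, .fwd 14415],
   .define,
   .loop (some (10, 2)) [.fwd 6864, .bwd 12269, .fwd 14417],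
   .define,
   .define,
   .define,
   .define,
   .define,
   .define,
   .loop (some (9, 2)) [.bwd 6873, .bwd 14279, .fwd 14424],
   .define,
   .define,
   .loop (some (2, 2)) [.bwd 14107, .fwd 6872, .fwd 14427],
   .loop (some (8, 2)) [.bwd 14107, .bwd 1288, .bwd 13539],
   .define,
   .loop (some (10, 2)) [.bwd 6872, .bwd 14279, .fwd 14430],
   .define,
   .define,
   .loop (some (12, 2)) [.bwd 14107, .bwd 14279, .fwd 14433],
   .loop (some (14, 1)) [.fwd 12269, .fwd 1288, .fwd 1289, .bwd 14286],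
   .define,
   .define,
   .loop (some (9, 2)) [.bwd 6876, .bwd 14286, .bwd 14410],
   .loop (some (8, 2)) [.bwd 14110, .bwd 1289, .fwd 14107],
   .loop (some (10, 2)) [.bwd 6875, .bwd 14286, .bwd 14393],
   .define,
   .define,
   .define,
   .define,
   .define,
   .define,
   .define,
   .define,
   .define,
   .define,
   .define,
   .define,
   .define,
   .define,
   .define,
   .define,
   .define,
   .define,
   .define,
   .define,
   .define,
   .define,
   .define,
   .define,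
   .define,
   .loop (some (21, 27)) [.bwd 6921, .fwd 6923, .bwd 6898, .bwd 1290, .fwd 6875, .fwd 7037, .fwd 14441, .fwd 14442, .fwd 14443, .fwd 14444, .fwd 14445, .fwd 14446, .fwd 14447, .fwd 14448, .fwd 14449, .fwd 14450, .fwd 14451, .fwd 14452, .fwd 14453, .fwd 14454, .fwd 14455, .fwd 14456, .fwd 14457, .fwd 14458, .fwd 14459, .fwd 14460, .fwd 14461, .fwd 14462, .fwd 14463, .fwd 14464, .fwd 14465],
   .loop (some (3, 2)) [.fwd 14232, .bwd 14307, .fwd 6850, .bwd 14357],
   .loop none [.fwd 14467],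
   .loop none [.fwd 14231, .fwd 14468, .fwd 14357],
   .loop none [.bwd 14469],
   .loop none [.bwd 14231, .bwd 14470],
   .loop (some (20, 1)) [.bwd 14422, .fwd 14412, .bwd 14435, .bwd 14234, .fwd 1312, .fwd 1313, .fwd 1291, .fwd 14307],
   .define,
   .define,
   .define,
   .define,
   .loop (some (20, 5)) [.fwd 1642, .fwd 1633, .fwd 1634, .fwd 1649, .fwd 1650, .fwd 14474, .fwd 14475, .fwd 14476],
   .loop (some (13, 2)) [.bwd 1649, .fwd 6886, .bwd 14477],
   .define,
   .define,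
   .define,
   .loop (some (20, 5)) [.fwd 3523, .fwd 3518, .fwd 3519, .fwd 5652, .fwd 5653, .fwd 14479, .fwd 14480, .fwd 14481],
   .define,
   .loop (some (13, 2)) [.bwd 5652, .fwd 6889, .bwd 14482],
   .define,
   .define,
   .loop (some (20, 4)) [.bwd 14111, .fwd 1376, .fwd 1356, .fwd 1357, .fwd 1412, .fwd 1413, .fwd 14485, .fwd 14486],
   .loop (some (3, 2)) [.fwd 14267, .fwd 14365, .fwd 6879, .bwd 14477],
   .loop none [.fwd 14488],
   .loop none [.fwd 14266, .fwd 14489, .fwd 14477],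
   .loop none [.bwd 14490],
   .loop none [.bwd 14478, .bwd 14489],
   .loop none [.bwd 14266, .bwd 14491],
   .loop (some (20, 2)) [.fwd 9997, .fwd 1685, .bwd 1683, .bwd 1244, .fwd 1283, .bwd 1285, .fwd 1312, .bwd 14365, .fwd 14436],
   .loop none [.fwd 14494],
   .loop none [.fwd 14436, .bwd 14495],
   .loop (some (13, 2)) [.fwd 14365, .bwd 6855, .fwd 14307],
   .loop (some (13, 2)) [.bwd 13960, .bwd 6901, .bwd 1355],
   .define]

theorem just57_len : just57.length = 250 := by decide +kernel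

theorem just57_ok : cert.okFacts 14250 just57 = true := by decide +kernel

/-- justifications -/
noncomputable def just58 : List Cert.Just :=
  [.define,
   .define,
   .loop (some (20, 4)) [.bwd 1412, .fwd 1311, .fwd 1346, .bwd 1348, .fwd 14117, .fwd 14499, .fwd 14500, .fwd 14501],
   .define,
   .loop (some (13, 2)) [.bwd 14117, .bwd 1347, .fwd 13960],
   .define,
   .define,
   .define,
   .loop (some (20, 5)) [.fwd 1440, .fwd 1416, .fwd 1417, .fwd 1352, .fwd 1353, .fwd 14505, .fwd 14506, .fwd 14507],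
   .loop (some (13, 2)) [.bwd 1352, .bwd 6948, .bwd 14508],
   .define,
   .define,
   .define,
   .loop (some (0, 1)) [.fwd 14509, .fwd 14512],
   .define,
   .define,
   .define,
   .define,
   .define,
   .define,
   .define,
   .loop (some (19, 7)) [.fwd 6915, .fwd 6914, .fwd 14515, .fwd 14516, .fwd 14517, .fwd 14518, .fwd 14519, .fwd 14520],
   .define,
   .loop (some (9, 2)) [.bwd 6914, .fwd 14514, .fwd 14522],
   .loop (some (8, 2)) [.fwd 14521, .bwd 1353, .bwd 10862],
   .define,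
   .loop (some (12, 2)) [.fwd 14521, .fwd 14514, .fwd 14525],
   .define,
   .loop (some (14, 1)) [.fwd 14509, .fwd 1353, .fwd 1354, .fwd 14527],
   .define,
   .define,
   .loop (some (0, 2)) [.bwd 14527, .fwd 14498, .fwd 14504],
   .loop none [.bwd 14531],
   .loop none [.bwd 14528, .bwd 14532],
   .define,
   .loop (some (13, 2)) [.bwd 1449, .fwd 6926, .bwd 14466],
   .define,
   .define,
   .define,
   .loop (some (20, 5)) [.fwd 3510, .fwd 3504, .fwd 3505, .fwd 3486, .fwd 3487, .fwd 14536, .fwd 14537, .fwd 14538],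
   .define,
   .loop (some (17, 3)) [.fwd 14306, .bwd 3486, .bwd 3520, .fwd 14398, .fwd 14540],
   .loop (some (13, 2)) [.bwd 3486, .fwd 6928, .bwd 14539],
   .loop (some (3, 2)) [.bwd 14112, .bwd 14111, .fwd 6921, .bwd 14466],
   .loop none [.fwd 14543],
   .loop none [.bwd 14535, .bwd 14544],
   .loop (some (20, 2)) [.fwd 1411, .bwd 1409, .bwd 68, .fwd 1346, .bwd 1348, .fwd 1375, .fwd 14111, .fwd 14529],
   .define,
   .define,
   .loop (some (3, 3)) [.bwd 6932, .fwd 14547, .fwd 14548],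
   .loop (some (13, 2)) [.fwd 14549, .bwd 6938, .bwd 1415],
   .loop (some (13, 2)) [.fwd 14546, .bwd 1410, .bwd 14549],
   .define,
   .loop (some (8, 2)) [.bwd 14400, .bwd 14502, .fwd 14552],
   .define,
   .define,
   .loop (some (1, 2)) [.bwd 14485, .fwd 6940, .fwd 14536],
   .define,
   .loop (some (13, 2)) [.bwd 14485, .fwd 14554, .fwd 14557],
   .loop (some (20, 2)) [.bwd 14555, .fwd 14487, .fwd 14529, .fwd 14546, .fwd 1439, .fwd 1440, .fwd 1416, .fwd 14510, .fwd 14511],
   .loop none [.bwd 14559],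
   .loop none [.fwd 14555, .bwd 14560],
   .loop (some (13, 3)) [.bwd 14510, .fwd 6953, .fwd 1352, .fwd 14512],
   .loop none [.fwd 14562],
   .loop none [.bwd 14513, .bwd 14563],
   .loop (some (11, 2)) [.fwd 6925, .bwd 14545, .fwd 14113],
   .loop (some (13, 2)) [.fwd 14418, .bwd 2301, .fwd 6984, .bwd 13859],
   .loop none [.bwd 14566],
   .loop none [.bwd 14418, .bwd 14567],
   .loop (some (13, 2)) [.fwd 14565, .bwd 1503, .bwd 7014, .bwd 14144],
   .loop none [.fwd 14569],
   .loop none [.bwd 14144, .bwd 14570],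
   .loop (some (17, 3)) [.bwd 14419, .fwd 7499, .bwd 2417, .bwd 2435, .bwd 13912, .bwd 13911],
   .loop none [.bwd 14572],
   .loop none [.bwd 14420, .bwd 14573],
   .loop none [.fwd 14419, .bwd 14573],
   .loop (some (13, 2)) [.bwd 2417, .fwd 7000, .bwd 13930],
   .loop (some (0, 1)) [.fwd 14568, .fwd 7055],
   .loop (some (8, 2)) [.bwd 14427, .bwd 1630, .bwd 13529],
   .loop (some (14, 1)) [.fwd 14568, .fwd 1630, .fwd 1631, .bwd 14440],
   .loop (some (8, 2)) [.fwd 13993, .bwd 1631, .fwd 14427],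
   .loop (some (20, 1)) [.bwd 7069, .fwd 1648, .bwd 1646, .bwd 76, .fwd 1615, .bwd 1617, .fwd 1641, .fwd 14493],
   .loop (some (13, 2)) [.bwd 14493, .bwd 6899, .fwd 14471],
   .loop (some (3, 2)) [.fwd 13895, .bwd 7041, .bwd 7059],
   .loop (some (17, 3)) [.fwd 13894, .fwd 13895, .fwd 1675, .fwd 8986, .bwd 10027],
   .loop (some (13, 2)) [.fwd 13895, .fwd 7040, .bwd 1652],
   .loop (some (13, 2)) [.bwd 7069, .bwd 1647, .bwd 13895],
   .loop (some (2, 2)) [.fwd 13871, .fwd 7048, .fwd 7077],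
   .loop (some (17, 3)) [.fwd 13858, .fwd 13859, .fwd 12284, .bwd 12258, .fwd 13229],
   .loop (some (14, 2)) [.fwd 14407, .fwd 14408, .bwd 14367, .fwd 14366],
   .loop (some (4, 2)) [.bwd 14358, .fwd 7071, .fwd 13996],
   .loop (some (1, 2)) [.bwd 14358, .fwd 7070, .fwd 14479],
   .loop (some (14, 2)) [.fwd 14238, .fwd 14239, .bwd 13970, .fwd 14148],
   .loop (some (7, 2)) [.bwd 1970, .bwd 10496, .fwd 13095],
   .loop (some (6, 2)) [.bwd 7356, .bwd 14593, .fwd 13100],
   .loop (some (3, 1)) [.fwd 14201, .fwd 14202, .bwd 14072, .fwd 7035],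
   .loop none [.bwd 14595],
   .loop none [.bwd 14201, .bwd 14596],
   .loop (some (10, 2)) [.bwd 7039, .bwd 14109, .bwd 14202],
   .loop (some (3, 2)) [.fwd 14068, .bwd 14116, .fwd 6821, .bwd 14173],
   .loop none [.fwd 14599],
   .loop none [.fwd 14172, .bwd 14600],
   .loop none [.fwd 14067, .fwd 14600, .fwd 14173],
   .loop none [.bwd 14602],
   .loop none [.bwd 14067, .bwd 14603],
   .loop (some (3, 1)) [.fwd 14103, .fwd 14104, .fwd 14179, .bwd 7022],
   .loop none [.bwd 14605],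
   .loop none [.bwd 14103, .bwd 14606],
   .loop (some (8, 2)) [.bwd 14432, .bwd 2418, .bwd 7499],
   .loop (some (14, 1)) [.fwd 14576, .fwd 2418, .fwd 2419, .bwd 14598],
   .loop (some (8, 2)) [.bwd 14441, .bwd 2419, .fwd 14432],
   .loop (some (1, 2)) [.bwd 14607, .bwd 7016, .bwd 14571],
   .loop (some (13, 2)) [.bwd 14607, .bwd 7021, .fwd 14604],
   .loop (some (3, 4)) [.fwd 6791, .fwd 6752, .bwd 14033, .bwd 14032],
   .loop none [.fwd 14613],
   .loop none [.fwd 13912, .fwd 14614, .fwd 14032],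
   .loop none [.fwd 14615],
   .loop none [.bwd 14413, .fwd 14616, .fwd 14033],
   .loop none [.bwd 14617],
   .loop none [.fwd 14413, .bwd 14618],
   .loop (some (9, 0)) [.bwd 14611, .fwd 14565, .bwd 6993],
   .loop (some (3, 4)) [.bwd 6790, .fwd 14007, .bwd 13955, .bwd 13954],
   .loop none [.fwd 14621],
   .loop none [.fwd 7509, .fwd 14622, .bwd 13953],
   .loop none [.fwd 14623],
   .loop none [.bwd 7045, .fwd 14624, .bwd 13952],
   .loop none [.fwd 14625],
   .loop none [.fwd 7044, .fwd 14626, .bwd 13951],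
   .loop none [.fwd 14627],
   .loop none [.fwd 9997, .fwd 14628, .bwd 13950],
   .loop none [.fwd 14629],
   .loop none [.bwd 8824, .fwd 14630, .bwd 13949],
   .loop none [.fwd 14631],
   .loop none [.fwd 13220, .fwd 14632, .bwd 13948],
   .loop none [.fwd 14633],
   .loop none [.fwd 13947, .bwd 14634],
   .loop (some (14, 3)) [.fwd 14005, .fwd 14006, .bwd 6754, .bwd 1163, .fwd 13999],
   .loop none [.fwd 14636],
   .loop none [.bwd 14000, .bwd 14637],
   .loop (some (20, 8)) [.bwd 13933, .bwd 2778, .bwd 1156, .fwd 64, .fwd 1160, .bwd 1218, .fwd 13962, .bwd 14044, .bwd 14043],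
   .loop none [.fwd 14639],
   .loop none [.bwd 14043, .bwd 14640],
   .loop (some (20, 8)) [.fwd 6751, .bwd 1735, .bwd 1155, .bwd 1220, .bwd 1250, .fwd 14114, .bwd 14208, .bwd 14207],
   .loop (some (6, 1)) [.bwd 13933, .fwd 2779, .bwd 14642],
   .loop (some (20, 8)) [.fwd 7059, .bwd 1683, .bwd 1244, .bwd 1264, .bwd 1292, .fwd 14307, .bwd 14397, .bwd 14396],
   .loop (some (2, 2)) [.bwd 2781, .fwd 14583, .bwd 13894],
   .loop (some (7, 1)) [.fwd 14642, .fwd 2780, .bwd 14644],
   .loop (some (10, 2)) [.fwd 14645, .bwd 7660, .fwd 14587],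
   .loop (some (4, 1)) [.fwd 13893, .bwd 14584, .fwd 2784],
   .loop (some (13, 1)) [.fwd 14647, .bwd 14584, .bwd 7662],
   .loop (some (3, 0)) [.fwd 13891, .fwd 13892, .bwd 14648],
   .loop (some (2, 2)) [.bwd 2785, .fwd 14650, .bwd 13890],
   .loop (some (3, 1)) [.bwd 2787, .bwd 2786, .bwd 14651],
   .loop (some (4, 2)) [.bwd 2786, .fwd 13814, .fwd 12212],
   .loop (some (4, 1)) [.fwd 13889, .fwd 14652, .fwd 2788],
   .loop (some (3, 1)) [.fwd 13887, .fwd 13888, .bwd 14654, .fwd 13812],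
   .loop none [.bwd 14655],
   .loop none [.bwd 12215, .fwd 14656, .bwd 13886],
   .loop none [.fwd 14657],
   .loop none [.bwd 13887, .bwd 14656],
   .loop none [.fwd 13885, .bwd 14658],
   .loop (some (4, 1)) [.bwd 14660, .bwd 13605, .fwd 2792],
   .loop (some (2, 2)) [.bwd 10048, .fwd 2870, .fwd 13913],
   .loop (some (12, 2)) [.bwd 10048, .bwd 7723, .bwd 13832],
   .loop (some (17, 2)) [.fwd 10534, .bwd 3010, .bwd 3009, .fwd 7722, .fwd 13913, .fwd 13914],
   .loop none [.fwd 14664],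
   .loop none [.fwd 13914, .bwd 14665],
   .loop (some (8, 0)) [.fwd 11188, .fwd 14594, .bwd 2899],
   .loop (some (17, 2)) [.bwd 13896, .fwd 11707, .bwd 7757, .fwd 2968, .fwd 2969],
   .loop (some (2, 1)) [.bwd 13897, .bwd 14668, .fwd 2970],
   .loop (some (17, 1)) [.fwd 13832, .bwd 3329, .bwd 3328, .fwd 7763, .fwd 14669],
   .loop (some (6, 0)) [.fwd 3236, .bwd 12368, .bwd 2978],
   .loop (some (17, 2)) [.bwd 3317, .bwd 3316, .fwd 7787, .bwd 11911, .fwd 13931],
   .loop (some (2, 3)) [.bwd 3222, .fwd 14619, .bwd 13911, .fwd 14574],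
   .loop none [.fwd 14673],
   .loop none [.bwd 13833, .fwd 14674, .bwd 14574],
   .loop none [.fwd 14675],
   .loop none [.bwd 13834, .fwd 14676, .bwd 13910],
   .loop none [.fwd 14677],
   .loop none [.bwd 14575, .bwd 14676],
   .loop none [.fwd 13909, .bwd 14678],
   .loop (some (4, 1)) [.bwd 13834, .fwd 14679, .fwd 3225],
   .loop (some (3, 2)) [.bwd 14680, .bwd 14681, .fwd 7500, .bwd 5523],
   .loop none [.bwd 14682],
   .loop none [.bwd 5523, .fwd 14683, .bwd 13908],
   .loop none [.fwd 14684],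
   .loop none [.fwd 13907, .bwd 14685],
   .loop (some (2, 2)) [.bwd 3226, .fwd 7500, .fwd 14686],
   .loop (some (3, 1)) [.bwd 3228, .bwd 3227, .bwd 14687],
   .loop (some (4, 1)) [.fwd 13906, .fwd 14688, .fwd 3229],
   .loop (some (3, 0)) [.fwd 13904, .fwd 13905, .bwd 14689],
   .loop (some (2, 2)) [.bwd 3230, .fwd 14690, .bwd 13903],
   .loop (some (3, 1)) [.bwd 3232, .bwd 3231, .bwd 14691],
   .loop (some (4, 1)) [.fwd 13902, .fwd 14692, .fwd 3233],
   .loop (some (3, 0)) [.fwd 13900, .fwd 13901, .bwd 14693],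
   .loop (some (19, 0)) [.fwd 8935, .bwd 13813, .bwd 12102, .bwd 12101, .fwd 13752, .fwd 12856, .bwd 10078, .fwd 3284],
   .loop (some (9, 1)) [.fwd 10620, .bwd 14695, .bwd 7963],
   .loop (some (2, 1)) [.bwd 13932, .fwd 14672, .fwd 3318],
   .loop (some (12, 2)) [.fwd 13832, .bwd 7898, .fwd 12423],
   .loop (some (2, 2)) [.fwd 14306, .fwd 6887, .fwd 14282],
   .loop (some (3, 2)) [.bwd 14536, .bwd 7072, .fwd 14479],
   .loop (some (14, 1)) [.fwd 14542, .fwd 3487, .fwd 3488, .bwd 12527],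
   .loop (some (20, 1)) [.bwd 14503, .fwd 3499, .bwd 3497, .bwd 201, .fwd 3442, .bwd 3444, .fwd 3495, .fwd 11165],
   .loop (some (3, 3)) [.bwd 14316, .bwd 6891, .fwd 14398, .fwd 14483],
   .loop none [.fwd 14703],
   .loop none [.bwd 14317, .fwd 14704, .bwd 14483],
   .loop none [.fwd 14705],
   .loop none [.bwd 14399, .bwd 14706],
   .loop none [.bwd 14540, .bwd 14706],
   .loop none [.fwd 14398, .bwd 14706],
   .loop (some (3, 2)) [.bwd 14503, .bwd 7026, .fwd 14409],
   .loop (some (8, 2)) [.bwd 14515, .bwd 3501, .bwd 8007],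
   .loop (some (10, 1)) [.fwd 14425, .fwd 7028, .bwd 14523],
   .loop (some (8, 2)) [.bwd 14530, .bwd 3502, .fwd 14515],
   .loop (some (13, 2)) [.fwd 14539, .bwd 6929, .fwd 14534],
   .loop (some (4, 2)) [.bwd 14318, .fwd 14709, .fwd 6895, .fwd 14149],
   .loop none [.bwd 14715],
   .loop none [.fwd 14318, .bwd 14716],
   .loop none [.bwd 14319, .bwd 14716],
   .loop (some (4, 2)) [.bwd 14409, .bwd 8008, .fwd 14240],
   .loop (some (8, 2)) [.bwd 14423, .bwd 3515, .bwd 7104],
   .loop (some (14, 1)) [.fwd 12545, .fwd 3515, .fwd 3516, .bwd 14438],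
   .loop (some (8, 2)) [.bwd 14437, .bwd 3516, .fwd 14423],
   .loop (some (20, 1)) [.fwd 12521, .fwd 7991, .fwd 5661, .bwd 3404, .fwd 3511, .bwd 3513, .fwd 3522, .bwd 14482],
   .loop (some (13, 2)) [.fwd 14482, .bwd 6890, .fwd 14473],
   .loop (some (3, 3)) [.bwd 14149, .bwd 8005, .fwd 14149, .fwd 14150],
   .loop none [.fwd 14725],
   .loop none [.bwd 14717, .fwd 14726, .fwd 14151],
   .loop none [.bwd 14727],
   .loop none [.bwd 14707, .bwd 14728],
   .loop none [.fwd 14717, .bwd 14728],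
   .loop none [.bwd 14152, .fwd 14728, .fwd 14708],
   .loop none [.fwd 14731],
   .loop none [.bwd 14709, .bwd 14728],
   .loop none [.bwd 14153, .fwd 14732, .fwd 14541],
   .loop none [.fwd 14734],
   .loop none [.bwd 14154, .fwd 14735, .bwd 14699],
   .loop none [.fwd 14736],
   .loop none [.bwd 14306, .bwd 14735],
   .loop none [.bwd 14155, .fwd 14737, .fwd 14283],
   .loop none [.fwd 14739],
   .loop none [.fwd 14282, .bwd 14737],
   .loop none [.bwd 14156, .fwd 14740, .fwd 14284],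
   .loop none [.fwd 14742],
   .loop none [.bwd 14285, .bwd 14743],
   .loop (some (17, 4)) [.bwd 14718, .bwd 14149, .fwd 3540, .bwd 3612, .fwd 8011, .fwd 14309],
   .loop none [.bwd 14745],
   .loop none [.fwd 14718, .bwd 14746],
   .loop none [.fwd 14309, .fwd 14746, .fwd 14320],
   .loop none [.fwd 14748]]

theorem just58_len : just58.length = 250 := by decide +kernel

theorem just58_ok : cert.okFacts 14500 just58 = true := by decide +kernel

/-- justifications -/
noncomputable def just59 : List Cert.Just :=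
  [.loop none [.fwd 6840, .fwd 14749, .fwd 14321],
   .loop none [.fwd 14750],
   .loop none [.bwd 6846, .fwd 14751, .fwd 14322],
   .loop none [.fwd 14752],
   .loop none [.fwd 8002, .fwd 14753, .fwd 14323],
   .loop none [.fwd 14754],
   .loop none [.bwd 14503, .fwd 14755, .fwd 14324],
   .loop none [.bwd 14756],
   .loop none [.bwd 14325, .fwd 14757, .bwd 14710],
   .loop none [.fwd 14758],
   .loop none [.fwd 14503, .bwd 14757],
   .loop none [.fwd 14702, .bwd 14757],
   .loop none [.bwd 14326, .fwd 14759, .bwd 14719],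
   .loop none [.bwd 14762],
   .loop none [.fwd 14409, .bwd 14759],
   .loop none [.bwd 14721, .bwd 14759],
   .loop none [.fwd 14326, .bwd 14763],
   .loop none [.bwd 14327, .bwd 14763],
   .loop (some (17, 5)) [.bwd 14240, .fwd 8012, .fwd 3570, .bwd 8013, .bwd 14315, .bwd 14335],
   .loop none [.fwd 14768],
   .loop none [.bwd 14766, .fwd 14769, .bwd 14334],
   .loop none [.fwd 14770],
   .loop none [.bwd 14767, .fwd 14769, .fwd 14335],
   .loop none [.bwd 14772],
   .loop none [.fwd 14325, .fwd 14771, .bwd 14333],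
   .loop none [.fwd 14774],
   .loop none [.fwd 14767, .bwd 14773],
   .loop none [.bwd 14315, .fwd 14773, .fwd 14328],
   .loop none [.fwd 14777],
   .loop none [.bwd 14760, .fwd 14775, .bwd 14332],
   .loop none [.fwd 14779],
   .loop none [.fwd 6847, .fwd 14778, .fwd 14329],
   .loop none [.fwd 14781],
   .loop none [.bwd 8002, .fwd 14780, .bwd 14331],
   .loop none [.fwd 14783],
   .loop none [.fwd 6892, .fwd 14782, .fwd 14330, .bwd 14784],
   .loop none [.bwd 14785],
   .loop none [.fwd 6853, .fwd 14786, .bwd 6880],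
   .loop none [.fwd 14787],
   .loop none [.bwd 6888, .fwd 14786, .bwd 6930],
   .loop none [.fwd 14789],
   .loop none [.fwd 6846, .fwd 14786, .fwd 6892],
   .loop none [.fwd 14791],
   .loop none [.fwd 8002, .fwd 14786, .bwd 8006],
   .loop none [.fwd 14793],
   .loop none [.bwd 14473, .fwd 14786, .bwd 14482],
   .loop none [.fwd 14795],
   .loop none [.bwd 3519, .fwd 14786, .fwd 3523],
   .loop none [.fwd 14797],
   .loop none [.fwd 14798, .fwd 3518, .fwd 14786, .bwd 3522],
   .loop none [.fwd 14799],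
   .loop none [.fwd 14786, .bwd 6890, .fwd 14786, .bwd 6889],
   .loop none [.bwd 14801],
   .loop none [.bwd 6850, .fwd 14788, .fwd 6879],
   .loop none [.fwd 14803],
   .loop none [.fwd 6819, .fwd 14788, .bwd 6838],
   .loop none [.fwd 14805],
   .loop none [.fwd 6882, .fwd 14788, .fwd 6862],
   .loop none [.fwd 14807],
   .loop none [.bwd 14307, .fwd 14788, .bwd 14365],
   .loop none [.fwd 14809],
   .loop none [.bwd 1292, .fwd 14788, .fwd 1313],
   .loop none [.fwd 14811],
   .loop none [.fwd 14812, .fwd 1291, .fwd 14788, .bwd 1312],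
   .loop none [.fwd 14813],
   .loop none [.fwd 14788, .bwd 6855, .fwd 14788, .bwd 6854],
   .loop none [.bwd 14815],
   .loop none [.fwd 6897, .fwd 14790, .bwd 6922],
   .loop none [.fwd 14817],
   .loop none [.bwd 14534, .fwd 14790, .bwd 14539],
   .loop none [.fwd 14819],
   .loop none [.bwd 3505, .fwd 14790, .fwd 3510, .bwd 14794],
   .loop none [.fwd 14821],
   .loop none [.fwd 14822, .fwd 14794],
   .loop none [.fwd 14790, .bwd 6929, .fwd 14790, .bwd 6928],
   .loop none [.bwd 14824],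
   .loop none [.fwd 8011, .fwd 14792, .fwd 8013],
   .loop none [.fwd 14826],
   .loop none [.bwd 14309, .fwd 14792, .bwd 14315],
   .loop none [.fwd 14828],
   .loop none [.bwd 3532, .fwd 14792, .fwd 3543],
   .loop none [.fwd 14830],
   .loop none [.fwd 14831, .fwd 3531, .fwd 14792, .bwd 3542],
   .loop none [.fwd 14832],
   .loop none [.fwd 14792, .bwd 6845, .fwd 14792, .bwd 6844],
   .loop none [.bwd 14834],
   .loop none [.fwd 1370, .bwd 14823, .fwd 6919, .bwd 14808],
   .loop none [.fwd 14836],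
   .loop none [.bwd 3486, .bwd 14823, .bwd 3503],
   .loop none [.fwd 14838],
   .loop none [.fwd 3396, .bwd 14823, .fwd 3504, .bwd 14825],
   .loop none [.fwd 14840],
   .loop none [.fwd 14841, .bwd 14823],
   .loop none [.bwd 3397, .bwd 14842, .bwd 8001],
   .loop none [.fwd 14843],
   .loop none [.fwd 14841, .fwd 14822],
   .loop none [.fwd 14481, .bwd 14796],
   .loop none [.bwd 14723, .bwd 14796],
   .loop none [.fwd 14796, .bwd 14724, .fwd 14796, .fwd 14484],
   .loop none [.bwd 14848],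
   .loop none [.bwd 5652, .fwd 14798, .bwd 3517],
   .loop none [.bwd 14850],
   .loop none [.fwd 3405, .fwd 14798, .fwd 3518, .bwd 14802],
   .loop none [.fwd 14852],
   .loop none [.fwd 14853, .fwd 14798],
   .loop none [.bwd 3406, .bwd 14854, .fwd 8004],
   .loop none [.fwd 14855],
   .loop none [.fwd 14853, .fwd 14800],
   .loop none [.bwd 3402, .bwd 14857, .fwd 6861, .bwd 14814],
   .loop none [.fwd 14858],
   .loop none [.bwd 203, .bwd 14857, .bwd 8008, .bwd 14833],
   .loop none [.fwd 14860],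
   .loop none [.fwd 14841, .fwd 14825],
   .loop none [.bwd 3404, .bwd 14857, .bwd 14764],
   .loop none [.fwd 14863],
   .loop none [.fwd 14853, .fwd 14802],
   .loop none [.fwd 14859, .fwd 14816],
   .loop none [.fwd 14861, .fwd 14835],
   .loop none [.fwd 14851, .fwd 14849],
   .loop none [.bwd 3404, .bwd 14865, .fwd 14473, .fwd 14868],
   .loop none [.fwd 14869],
   .loop none [.bwd 6883, .fwd 14804, .bwd 7023],
   .loop none [.fwd 14871],
   .loop none [.bwd 14471, .fwd 14804, .fwd 14493],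
   .loop none [.fwd 14873],
   .loop none [.bwd 1634, .fwd 14804, .fwd 1642],
   .loop none [.fwd 14875],
   .loop none [.fwd 14876, .fwd 1633, .fwd 14804, .bwd 1641],
   .loop none [.fwd 14877],
   .loop none [.fwd 14804, .bwd 6899, .fwd 14804, .bwd 6886],
   .loop none [.bwd 14879],
   .loop none [.fwd 6762, .fwd 14806, .bwd 6810],
   .loop none [.fwd 14881],
   .loop none [.fwd 6841, .fwd 14806, .fwd 9958],
   .loop none [.fwd 14883],
   .loop none [.bwd 14114, .fwd 14806, .bwd 14147],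
   .loop none [.bwd 14885],
   .loop none [.bwd 1250, .fwd 14806, .fwd 1266],
   .loop none [.fwd 14887],
   .loop none [.fwd 14888, .fwd 1249, .fwd 14806, .bwd 1265],
   .loop none [.fwd 14889],
   .loop none [.fwd 14806, .bwd 6823, .fwd 14806, .bwd 6820],
   .loop none [.bwd 14891],
   .loop none [.fwd 14837, .fwd 14808],
   .loop none [.bwd 1412, .bwd 14893, .bwd 1355],
   .loop none [.bwd 14894],
   .loop none [.bwd 1311, .bwd 14893, .fwd 1356],
   .loop none [.fwd 14896],
   .loop none [.fwd 14897, .fwd 14818],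
   .loop none [.bwd 14898, .fwd 6920, .bwd 14893, .bwd 6900, .bwd 14837],
   .loop none [.fwd 14899],
   .loop none [.fwd 14397, .fwd 14810, .fwd 14366],
   .loop none [.bwd 14901],
   .loop none [.bwd 14472, .fwd 14810, .bwd 14496],
   .loop none [.bwd 14903],
   .loop none [.fwd 14810, .bwd 14497, .fwd 14810, .fwd 14367],
   .loop none [.bwd 14905],
   .loop none [.fwd 14859, .fwd 14812],
   .loop none [.fwd 1281, .bwd 14907, .bwd 6877, .bwd 14876],
   .loop none [.fwd 14908],
   .loop none [.fwd 66, .bwd 14907, .fwd 6833, .bwd 14888],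
   .loop none [.fwd 14910],
   .loop none [.bwd 1244, .bwd 14907, .bwd 1290],
   .loop none [.fwd 14912],
   .loop none [.bwd 1283, .bwd 14907, .fwd 1291, .fwd 14866],
   .loop none [.bwd 14914],
   .loop none [.fwd 14859, .fwd 14814],
   .loop none [.fwd 14909, .fwd 14878],
   .loop none [.fwd 14911, .fwd 14890],
   .loop none [.bwd 1244, .bwd 14916, .fwd 14234],
   .loop none [.fwd 14919],
   .loop none [.fwd 14909, .fwd 14880],
   .loop none [.fwd 14911, .fwd 14892],
   .loop none [.fwd 14900, .fwd 14837],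
   .loop none [.bwd 1244, .bwd 14866, .fwd 14307, .bwd 14906],
   .loop none [.fwd 14924],
   .loop none [.bwd 68, .bwd 14898, .fwd 14111],
   .loop none [.fwd 14926],
   .loop none [.fwd 14538, .bwd 14820],
   .loop none [.fwd 14701, .bwd 14820],
   .loop none [.fwd 14820, .bwd 14714, .fwd 14820, .fwd 14542],
   .loop none [.bwd 14930],
   .loop none [.fwd 201, .bwd 14845, .bwd 14760],
   .loop none [.fwd 14932],
   .loop none [.fwd 201, .bwd 14862, .fwd 14534, .bwd 14931],
   .loop none [.fwd 14934],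
   .loop none [.bwd 3612, .fwd 14827, .bwd 3570],
   .loop none [.fwd 14936],
   .loop none [.bwd 3579, .fwd 14827, .bwd 3605, .bwd 14937],
   .loop none [.bwd 14938],
   .loop none [.bwd 3565, .fwd 14827, .bwd 3580, .bwd 14939],
   .loop none [.bwd 14940],
   .loop none [.bwd 14747, .fwd 14829, .fwd 14776],
   .loop none [.fwd 14942],
   .loop none [.fwd 14861, .fwd 14831],
   .loop none [.fwd 14911, .fwd 14888],
   .loop none [.bwd 204, .bwd 14944, .bwd 8015, .bwd 14939],
   .loop none [.fwd 14946],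
   .loop none [.bwd 3435, .bwd 14944, .bwd 3530],
   .loop none [.fwd 14948],
   .loop none [.bwd 3524, .bwd 14944, .fwd 3531, .fwd 14867],
   .loop none [.bwd 14950],
   .loop none [.fwd 14861, .fwd 14833],
   .loop none [.bwd 3435, .bwd 14952, .fwd 14240, .bwd 14943],
   .loop none [.fwd 14953],
   .loop none [.bwd 3435, .bwd 14867, .fwd 14309],
   .loop none [.fwd 14955],
   .loop none [.bwd 68, .bwd 14923, .fwd 14117],
   .loop none [.fwd 14957],
   .loop none [.fwd 14935, .fwd 14839],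
   .loop none [.bwd 3379, .bwd 14959, .bwd 6917],
   .loop none [.fwd 14960],
   .loop none [.fwd 200, .bwd 14959, .fwd 14530],
   .loop none [.fwd 14962],
   .loop none [.bwd 3442, .bwd 14959, .bwd 3502],
   .loop none [.fwd 14964],
   .loop none [.fwd 3497, .bwd 14844],
   .loop none [.fwd 14870, .bwd 14868],
   .loop none [.fwd 14925, .fwd 14906],
   .loop none [.fwd 14935, .fwd 14931],
   .loop none [.fwd 5661, .bwd 14967, .fwd 14846],
   .loop none [.fwd 14970],
   .loop none [.fwd 1706, .bwd 14967, .fwd 14847],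
   .loop none [.fwd 14972],
   .loop none [.fwd 14870, .fwd 14851],
   .loop none [.fwd 330, .bwd 14974, .fwd 6843],
   .loop none [.fwd 14975],
   .loop none [.bwd 331, .bwd 14974, .bwd 14741],
   .loop none [.fwd 14977],
   .loop none [.fwd 1706, .bwd 14974, .fwd 5653],
   .loop none [.fwd 14979],
   .loop none [.bwd 3404, .fwd 14856, .bwd 14733],
   .loop none [.fwd 14981],
   .loop none [.fwd 3511, .bwd 14856],
   .loop none [.fwd 14947, .fwd 14941],
   .loop none [.fwd 5661, .fwd 14864, .fwd 14765],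
   .loop none [.fwd 14985],
   .loop none [.bwd 331, .fwd 14870, .fwd 14437],
   .loop none [.fwd 14987],
   .loop none [.fwd 5661, .fwd 14870, .bwd 3516],
   .loop none [.bwd 14989],
   .loop none [.fwd 14909, .fwd 14876],
   .loop none [.bwd 14604, .fwd 14872, .fwd 14607],
   .loop none [.fwd 14992],
   .loop none [.bwd 2422, .fwd 14872, .fwd 2424],
   .loop none [.fwd 14994],
   .loop none [.fwd 14995, .fwd 2421, .fwd 14872, .bwd 2423],
   .loop none [.fwd 14996],
   .loop none [.fwd 14872, .bwd 7021, .fwd 14872, .bwd 7020],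
   .loop none [.bwd 14998]]

theorem just59_len : just59.length = 250 := by decide +kernel

theorem just59_ok : cert.okFacts 14750 just59 = true := by decide +kernel


end CfsgLib.ThCent.DK
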