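import Cfsg.Agent.Lib.ThCent.DKData

/-!
Justifications of the side facts (generated data).
-/

namespace CfsgLib.ThCent.DK

open CfsgLib.PresCert

set_option maxRecDepth 100000

/-- justifications -/
noncomputable def just60 : List Cert.Just :=
  [.loop none [.bwd 14581, .bwd 14874],
   .loop none [.fwd 14874, .bwd 14582, .fwd 14874, .fwd 14492],
   .loop none [.bwd 15001],
   .loop none [.fwd 1621, .bwd 14991, .bwd 7038, .bwd 14995],
   .loop none [.fwd 15003],
   .loop none [.bwd 76, .bwd 14991, .bwd 1632],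
   .loop none [.fwd 15005],
   .loop none [.fwd 15004, .fwd 14997],
   .loop none [.bwd 76, .bwd 14917, .fwd 14404],
   .loop none [.fwd 15008],
   .loop none [.fwd 15004, .fwd 14999],
   .loop none [.bwd 76, .bwd 14921, .fwd 14471, .bwd 15002],
   .loop none [.fwd 15011],
   .loop none [.fwd 9955, .fwd 14882, .fwd 9954],
   .loop none [.fwd 15013],
   .loop none [.bwd 13962, .fwd 14882, .bwd 13959],
   .loop none [.bwd 15015],
   .loop none [.bwd 1218, .fwd 14882, .fwd 1234],
   .loop none [.fwd 15017],
   .loop none [.fwd 15018, .fwd 1217, .fwd 14882, .bwd 1233],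
   .loop none [.fwd 15019],
   .loop none [.fwd 14882, .bwd 6814, .fwd 14882, .fwd 6809],
   .loop none [.bwd 15021],
   .loop none [.fwd 3613, .fwd 14884, .bwd 8958],
   .loop none [.fwd 15023],
   .loop none [.bwd 8960, .fwd 14884, .fwd 8959, .bwd 15024],
   .loop none [.bwd 15025],
   .loop none [.bwd 3614, .fwd 14884, .bwd 8961, .bwd 15026],
   .loop none [.bwd 15027],
   .loop none [.bwd 2644, .fwd 14956, .fwd 14310, .bwd 14886],
   .loop none [.fwd 15029],
   .loop none [.fwd 15030, .fwd 14886],
   .loop none [.bwd 1139, .bwd 15031, .fwd 14115, .bwd 15016],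
   .loop none [.fwd 15032],
   .loop none [.bwd 1735, .bwd 15031, .bwd 14208],
   .loop none [.fwd 15034],
   .loop none [.fwd 1168, .bwd 15031, .fwd 14308],
   .loop none [.fwd 15036],
   .loop none [.fwd 1179, .bwd 15031, .bwd 14311],
   .loop none [.fwd 15038],
   .loop none [.fwd 65, .bwd 14945, .fwd 6806, .bwd 15018],
   .loop none [.fwd 15040],
   .loop none [.fwd 2658, .bwd 14945, .bwd 9960, .bwd 15026],
   .loop none [.fwd 15042],
   .loop none [.bwd 1155, .bwd 14945, .bwd 1248],
   .loop none [.fwd 15044],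
   .loop none [.bwd 1241, .bwd 14945, .fwd 1249, .fwd 14922],
   .loop none [.bwd 15046],
   .loop none [.fwd 15041, .fwd 15020],
   .loop none [.bwd 1155, .bwd 14918, .fwd 14070],
   .loop none [.fwd 15049],
   .loop none [.fwd 15041, .fwd 15022],
   .loop none [.fwd 14961, .fwd 14895],
   .loop none [.fwd 2727, .bwd 15052, .fwd 14400],
   .loop none [.fwd 15053],
   .loop none [.bwd 1409, .bwd 15052, .bwd 14502],
   .loop none [.fwd 15055],
   .loop none [.bwd 1351, .bwd 15052, .fwd 1413],
   .loop none [.fwd 15057],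
   .loop none [.fwd 14359, .fwd 14902, .bwd 14396],
   .loop none [.fwd 15059],
   .loop none [.bwd 1683, .bwd 14968, .bwd 14397, .bwd 14902],
   .loop none [.fwd 15061],
   .loop none [.bwd 9997, .fwd 14904, .bwd 14422],
   .loop none [.fwd 15063],
   .loop none [.bwd 1286, .bwd 14968, .fwd 14472, .bwd 14904],
   .loop none [.fwd 15065],
   .loop none [.fwd 15012, .fwd 15002],
   .loop none [.fwd 15043, .fwd 15028],
   .loop none [.bwd 1125, .fwd 14913, .fwd 14110],
   .loop none [.fwd 15069],
   .loop none [.bwd 1683, .fwd 14913, .bwd 1289],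
   .loop none [.bwd 15071],
   .loop none [.bwd 1344, .fwd 14913, .fwd 14401],
   .loop none [.fwd 15073],
   .loop none [.fwd 1283, .bwd 14915],
   .loop none [.fwd 15072, .bwd 1683, .fwd 14920, .fwd 14435],
   .loop none [.fwd 15076],
   .loop none [.bwd 1409, .fwd 14927, .bwd 14487],
   .loop none [.fwd 15078],
   .loop none [.bwd 1351, .fwd 14927, .fwd 14529],
   .loop none [.fwd 15080],
   .loop none [.bwd 3442, .bwd 14969, .fwd 14928],
   .loop none [.fwd 15082],
   .loop none [.bwd 3385, .bwd 14969, .fwd 14929],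
   .loop none [.fwd 15084],
   .loop none [.bwd 3442, .fwd 14933, .fwd 14761],
   .loop none [.fwd 15086],
   .loop none [.fwd 200, .fwd 14935, .bwd 14738],
   .loop none [.fwd 15088],
   .loop none [.fwd 14947, .fwd 14939],
   .loop none [.fwd 15043, .fwd 15026],
   .loop none [.bwd 205, .bwd 15090, .fwd 8019, .fwd 14984],
   .loop none [.bwd 15092],
   .loop none [.bwd 3541, .bwd 14947],
   .loop none [.fwd 329, .fwd 14949, .bwd 8020, .bwd 14976],
   .loop none [.fwd 15095],
   .loop none [.fwd 15096, .fwd 14949],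
   .loop none [.fwd 6045, .bwd 15097, .bwd 3529],
   .loop none [.bwd 15098],
   .loop none [.fwd 15096, .fwd 14954],
   .loop none [.fwd 3524, .bwd 14951],
   .loop none [.fwd 2682, .bwd 15100, .bwd 14730, .bwd 14982],
   .loop none [.fwd 15102],
   .loop none [.fwd 15096, .fwd 14976],
   .loop none [.bwd 1409, .fwd 14958, .fwd 14533],
   .loop none [.fwd 15105],
   .loop none [.bwd 1409, .fwd 14961, .bwd 1354],
   .loop none [.bwd 15107],
   .loop none [.bwd 920, .fwd 14963, .bwd 14713],
   .loop none [.fwd 15109],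
   .loop none [.bwd 7993, .fwd 14965, .bwd 14523],
   .loop none [.fwd 15111],
   .loop none [.fwd 15103, .fwd 14982],
   .loop none [.fwd 14990, .fwd 14971],
   .loop none [.fwd 3515, .bwd 15114, .bwd 14480],
   .loop none [.fwd 15115],
   .loop none [.fwd 5646, .fwd 14973, .bwd 13072],
   .loop none [.fwd 15117],
   .loop none [.bwd 3514, .fwd 14973, .fwd 12521],
   .loop none [.fwd 15119],
   .loop none [.bwd 7095, .fwd 14973, .bwd 13098],
   .loop none [.fwd 15121],
   .loop none [.bwd 1766, .bwd 15104, .fwd 6817, .bwd 15039],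
   .loop none [.bwd 15123],
   .loop none [.fwd 1772, .bwd 15104, .fwd 5635],
   .loop none [.fwd 15125],
   .loop none [.bwd 332, .fwd 14978, .fwd 14155],
   .loop none [.fwd 15127],
   .loop none [.fwd 5646, .fwd 14980, .bwd 8617, .bwd 15126],
   .loop none [.fwd 15129],
   .loop none [.fwd 844, .bwd 15113, .fwd 14729, .bwd 15074],
   .loop none [.bwd 15131],
   .loop none [.fwd 2693, .bwd 15113, .fwd 14152],
   .loop none [.fwd 15133],
   .loop none [.fwd 14990, .fwd 14986],
   .loop none [.bwd 8009, .bwd 15135, .fwd 11167],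
   .loop none [.fwd 15136],
   .loop none [.bwd 14423, .bwd 15135, .bwd 12957],
   .loop none [.bwd 15138],
   .loop none [.fwd 14425, .bwd 15135, .bwd 13149],
   .loop none [.bwd 15140],
   .loop none [.fwd 441, .fwd 14988, .bwd 14722, .bwd 15139],
   .loop none [.fwd 15142],
   .loop none [.fwd 6116, .bwd 14990],
   .loop none [.bwd 8009, .fwd 14990, .bwd 5260],
   .loop none [.fwd 15145],
   .loop none [.fwd 15143, .fwd 15139],
   .loop none [.fwd 6572, .fwd 15103, .bwd 5661, .bwd 14990],
   .loop none [.fwd 15148],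
   .loop none [.fwd 15149, .fwd 14990],
   .loop none [.fwd 6602, .bwd 15150, .bwd 7992, .bwd 15120],
   .loop none [.fwd 15151],
   .loop none [.fwd 7476, .bwd 15150, .bwd 6117],
   .loop none [.fwd 15153],
   .loop none [.fwd 14993, .bwd 14612, .fwd 14993, .bwd 14620],
   .loop none [.bwd 15155],
   .loop none [.fwd 15004, .fwd 14995],
   .loop none [.bwd 125, .bwd 15157, .bwd 2420],
   .loop none [.fwd 15158],
   .loop none [.bwd 125, .bwd 15007, .fwd 14597],
   .loop none [.fwd 15160],
   .loop none [.bwd 125, .bwd 15010, .fwd 14604, .bwd 15156],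
   .loop none [.fwd 15162],
   .loop none [.fwd 15163, .fwd 15156],
   .loop none [.fwd 2302, .bwd 15067, .fwd 15000],
   .loop none [.fwd 15165],
   .loop none [.fwd 1813, .fwd 15006, .bwd 13993],
   .loop none [.fwd 15167],
   .loop none [.bwd 1646, .fwd 15006, .bwd 1631],
   .loop none [.bwd 15169],
   .loop none [.fwd 15170, .bwd 1646, .fwd 15009, .fwd 14579],
   .loop none [.fwd 15171],
   .loop none [.fwd 9945, .fwd 15014, .bwd 8966],
   .loop none [.fwd 15173],
   .loop none [.bwd 8969, .fwd 15014, .fwd 8967, .bwd 15174],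
   .loop none [.bwd 15175],
   .loop none [.bwd 8964, .fwd 15014, .bwd 8970, .bwd 15176],
   .loop none [.bwd 15177],
   .loop none [.fwd 15033, .fwd 15016],
   .loop none [.fwd 63, .bwd 15179, .fwd 14045],
   .loop none [.fwd 15180],
   .loop none [.bwd 1156, .bwd 15179, .bwd 14044],
   .loop none [.fwd 15182],
   .loop none [.fwd 1144, .bwd 15179, .fwd 13963],
   .loop none [.fwd 15184],
   .loop none [.fwd 1149, .bwd 15179, .fwd 14120],
   .loop none [.fwd 15186],
   .loop none [.fwd 15041, .fwd 15018],
   .loop none [.fwd 2670, .bwd 15188, .fwd 9956, .bwd 15176],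
   .loop none [.fwd 15189],
   .loop none [.fwd 64, .bwd 15188, .bwd 1216],
   .loop none [.fwd 15191],
   .loop none [.bwd 1210, .bwd 15188, .fwd 1217, .fwd 15051],
   .loop none [.bwd 15193],
   .loop none [.fwd 64, .bwd 15048, .bwd 14078],
   .loop none [.fwd 15195],
   .loop none [.bwd 2659, .bwd 15091, .fwd 9961, .fwd 15068],
   .loop none [.fwd 15197],
   .loop none [.fwd 15198, .fwd 15043],
   .loop none [.fwd 15198, .bwd 15068],
   .loop none [.fwd 15190, .fwd 15178],
   .loop none [.fwd 2721, .bwd 15200, .fwd 9950, .fwd 15201],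
   .loop none [.bwd 15202],
   .loop none [.bwd 1735, .fwd 15030, .fwd 14148],
   .loop none [.fwd 15204],
   .loop none [.fwd 1168, .fwd 15030, .bwd 14370],
   .loop none [.fwd 15206],
   .loop none [.fwd 63, .fwd 15033, .fwd 13994, .bwd 15196],
   .loop none [.fwd 15208],
   .loop none [.fwd 15209, .fwd 15033],
   .loop none [.fwd 1103, .bwd 15210, .bwd 14003],
   .loop none [.fwd 15211],
   .loop none [.fwd 15209, .fwd 15187],
   .loop none [.fwd 1737, .fwd 15035, .bwd 14207],
   .loop none [.fwd 15214],
   .loop none [.bwd 1245, .fwd 15037, .bwd 14273],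
   .loop none [.fwd 15216],
   .loop none [.bwd 1735, .fwd 15039, .bwd 14239],
   .loop none [.fwd 15218],
   .loop none [.bwd 1115, .bwd 15199, .bwd 1261, .bwd 15047],
   .loop none [.bwd 15220],
   .loop none [.fwd 15209, .fwd 15192],
   .loop none [.bwd 1735, .fwd 15045, .bwd 1247],
   .loop none [.bwd 15223],
   .loop none [.fwd 1241, .bwd 15047],
   .loop none [.fwd 15224, .bwd 1735, .fwd 15050, .fwd 14280],
   .loop none [.fwd 15226],
   .loop none [.bwd 2730, .fwd 15054, .bwd 14553],
   .loop none [.fwd 15228],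
   .loop none [.fwd 15108, .fwd 15056],
   .loop none [.fwd 14521, .bwd 15230, .fwd 14552, .bwd 15229],
   .loop none [.bwd 15231],
   .loop none [.bwd 1352, .fwd 15058, .fwd 14485],
   .loop none [.fwd 15233],
   .loop none [.fwd 1417, .fwd 15058, .fwd 1414],
   .loop none [.bwd 15235],
   .loop none [.fwd 6948, .fwd 15058, .fwd 14554],
   .loop none [.fwd 15237],
   .loop none [.fwd 14590, .fwd 15060, .fwd 14646, .bwd 15215],
   .loop none [.bwd 15239],
   .loop none [.bwd 14644, .bwd 15060],
   .loop none [.fwd 15072, .fwd 15062],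
   .loop none [.fwd 1288, .bwd 15242, .bwd 14359],
   .loop none [.fwd 15243],
   .loop none [.bwd 14426, .bwd 15242, .fwd 14589],
   .loop none [.bwd 15245],
   .loop none [.bwd 1710, .fwd 15064, .bwd 14411],
   .loop none [.fwd 15247],
   .loop none [.bwd 6699, .fwd 15066, .fwd 8824]]

theorem just60_len : just60.length = 250 := by decide +kernel

theorem just60_ok : cert.okFacts 15000 just60 = true := by decide +kernel

/-- justifications -/
noncomputable def just61 : List Cert.Just :=
  [.loop none [.fwd 15249],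
   .loop none [.bwd 1287, .fwd 15066, .fwd 9997],
   .loop none [.fwd 15251],
   .loop none [.bwd 7054, .fwd 15066, .fwd 10004],
   .loop none [.bwd 15253],
   .loop none [.fwd 7085, .fwd 15066, .bwd 10003],
   .loop none [.fwd 15255],
   .loop none [.fwd 364, .fwd 15070, .bwd 14744],
   .loop none [.fwd 15257],
   .loop none [.fwd 1708, .fwd 15070, .bwd 14439],
   .loop none [.fwd 15259],
   .loop none [.fwd 1683, .bwd 15072],
   .loop none [.fwd 15246, .bwd 14426, .fwd 15072, .fwd 1684, .bwd 15252],
   .loop none [.bwd 15262],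
   .loop none [.fwd 14279, .fwd 15072, .fwd 7058],
   .loop none [.bwd 15264],
   .loop none [.fwd 15260, .bwd 14107, .fwd 15077, .fwd 11658],
   .loop none [.fwd 15266],
   .loop none [.fwd 15263, .fwd 15246],
   .loop none [.fwd 15265, .fwd 14279, .fwd 15077, .bwd 12294],
   .loop none [.fwd 15269],
   .loop none [.fwd 15108, .fwd 15079],
   .loop none [.bwd 14505, .bwd 15271, .bwd 14561],
   .loop none [.fwd 15272],
   .loop none [.bwd 1352, .fwd 15081, .fwd 14546],
   .loop none [.fwd 15274],
   .loop none [.fwd 6948, .fwd 15081, .bwd 14551],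
   .loop none [.fwd 15276],
   .loop none [.fwd 3444, .fwd 15083, .bwd 14537],
   .loop none [.fwd 15278],
   .loop none [.fwd 3422, .fwd 15085, .fwd 12524],
   .loop none [.fwd 15280],
   .loop none [.bwd 6954, .fwd 15085, .fwd 12527],
   .loop none [.bwd 15282],
   .loop none [.bwd 6965, .fwd 15085, .bwd 12526],
   .loop none [.fwd 15284],
   .loop none [.fwd 15108, .fwd 15106],
   .loop none [.bwd 3493, .fwd 15087, .bwd 12509],
   .loop none [.fwd 15287],
   .loop none [.bwd 7993, .fwd 15087, .bwd 12559],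
   .loop none [.fwd 15289],
   .loop none [.bwd 919, .fwd 15089, .bwd 14153, .bwd 15134],
   .loop none [.bwd 15291],
   .loop none [.fwd 204, .fwd 15093, .fwd 3552],
   .loop none [.fwd 15293],
   .loop none [.fwd 205, .bwd 15093],
   .loop none [.fwd 329, .bwd 15096],
   .loop none [.fwd 6828, .fwd 15099, .bwd 7120],
   .loop none [.fwd 15297],
   .loop none [.fwd 15130, .fwd 15126],
   .loop none [.bwd 14277, .fwd 15099, .bwd 7154],
   .loop none [.bwd 15300],
   .loop none [.fwd 3528, .fwd 15099, .bwd 7125],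
   .loop none [.fwd 15302],
   .loop none [.bwd 6045, .bwd 15099],
   .loop none [.fwd 14275, .fwd 15099, .fwd 8546],
   .loop none [.bwd 15305],
   .loop none [.bwd 179, .fwd 15103, .bwd 3380],
   .loop none [.fwd 15307],
   .loop none [.fwd 3159, .fwd 15103, .bwd 3404],
   .loop none [.bwd 15309],
   .loop none [.fwd 2052, .fwd 15103, .bwd 1706],
   .loop none [.bwd 15311],
   .loop none [.bwd 14505, .bwd 15286, .fwd 14508],
   .loop none [.bwd 15313],
   .loop none [.bwd 14514, .bwd 15286, .bwd 14564],
   .loop none [.bwd 15315],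
   .loop none [.fwd 15316, .bwd 14514, .fwd 15108, .bwd 6938],
   .loop none [.bwd 15317],
   .loop none [.fwd 3362, .fwd 15110, .bwd 14711],
   .loop none [.fwd 15319],
   .loop none [.fwd 15152, .fwd 15120],
   .loop none [.fwd 15318, .fwd 15316],
   .loop none [.fwd 15154, .fwd 7086, .fwd 15112, .fwd 14712, .bwd 15141],
   .loop none [.fwd 15323],
   .loop none [.fwd 15152, .fwd 15116],
   .loop none [.fwd 3204, .bwd 15325, .fwd 14591, .bwd 15244],
   .loop none [.bwd 15326],
   .loop none [.bwd 2991, .bwd 15325, .fwd 14700, .bwd 15279],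
   .loop none [.fwd 15328],
   .loop none [.bwd 7114, .fwd 15118, .fwd 12562],
   .loop none [.fwd 15330],
   .loop none [.bwd 7116, .fwd 15118, .bwd 13097],
   .loop none [.fwd 15332],
   .loop none [.bwd 7140, .bwd 15321, .fwd 5327],
   .loop none [.fwd 15334],
   .loop none [.bwd 6600, .bwd 15321, .fwd 7990],
   .loop none [.fwd 15336],
   .loop none [.fwd 15337, .fwd 15122],
   .loop none [.bwd 7486, .bwd 15338, .fwd 9985, .bwd 15256],
   .loop none [.bwd 15339],
   .loop none [.bwd 7487, .bwd 15338, .fwd 9409, .bwd 15285],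
   .loop none [.fwd 15341],
   .loop none [.bwd 7488, .bwd 15338, .fwd 10892, .bwd 15333],
   .loop none [.fwd 15343],
   .loop none [.bwd 7489, .bwd 15338, .fwd 9536],
   .loop none [.fwd 15345],
   .loop none [.fwd 1766, .bwd 15124],
   .loop none [.fwd 79, .bwd 15124],
   .loop none [.fwd 1168, .fwd 15124, .bwd 1137],
   .loop none [.bwd 15349],
   .loop none [.fwd 8618, .fwd 15299],
   .loop none [.fwd 17, .fwd 15128, .fwd 14156, .bwd 15258],
   .loop none [.fwd 15352],
   .loop none [.bwd 1772, .bwd 15130],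
   .loop none [.fwd 7101, .fwd 15130, .bwd 7131],
   .loop none [.bwd 15355],
   .loop none [.bwd 844, .bwd 15132],
   .loop none [.fwd 77, .fwd 15132, .bwd 110],
   .loop none [.fwd 15358],
   .loop none [.bwd 1125, .fwd 15132, .bwd 300],
   .loop none [.bwd 15360],
   .loop none [.fwd 1244, .fwd 15132, .fwd 344],
   .loop none [.fwd 15362],
   .loop none [.fwd 15261, .fwd 15132, .fwd 2039],
   .loop none [.fwd 15364],
   .loop none [.bwd 1286, .fwd 15132, .bwd 338],
   .loop none [.bwd 15366],
   .loop none [.bwd 12561, .bwd 15137],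
   .loop none [.bwd 6569, .fwd 15149, .fwd 14423, .fwd 15147],
   .loop none [.fwd 15369],
   .loop none [.fwd 15370, .bwd 15147],
   .loop none [.fwd 5117, .bwd 15371, .bwd 14720],
   .loop none [.fwd 15372],
   .loop none [.fwd 15324, .fwd 15141],
   .loop none [.fwd 5338, .bwd 15374, .bwd 14424, .bwd 15265],
   .loop none [.bwd 15375],
   .loop none [.fwd 15370, .fwd 15143],
   .loop none [.fwd 335, .bwd 15377, .bwd 13343, .bwd 15267],
   .loop none [.fwd 15378],
   .loop none [.bwd 3269, .bwd 15377, .bwd 11135, .bwd 15288],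
   .loop none [.bwd 15380],
   .loop none [.bwd 4208, .bwd 15377, .fwd 11136],
   .loop none [.fwd 15382],
   .loop none [.fwd 5113, .bwd 15377, .fwd 12955],
   .loop none [.fwd 15384],
   .loop none [.fwd 15306, .fwd 14275, .fwd 15146, .bwd 8583],
   .loop none [.bwd 15386],
   .loop none [.bwd 2936, .fwd 15149, .fwd 15144],
   .loop none [.fwd 15388],
   .loop none [.bwd 8009, .bwd 15149],
   .loop none [.bwd 3095, .fwd 15154, .fwd 7086],
   .loop none [.fwd 15391],
   .loop none [.bwd 7475, .fwd 15154, .fwd 5540],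
   .loop none [.fwd 15393],
   .loop none [.bwd 7481, .fwd 15154, .bwd 7093],
   .loop none [.fwd 15395],
   .loop none [.fwd 2122, .bwd 15164, .fwd 14601],
   .loop none [.fwd 15397],
   .loop none [.fwd 2122, .fwd 15159, .fwd 14441],
   .loop none [.fwd 15399],
   .loop none [.bwd 2425, .fwd 15159, .bwd 2419],
   .loop none [.bwd 15401],
   .loop none [.fwd 15402, .bwd 2425, .fwd 15161, .fwd 14609],
   .loop none [.fwd 15403],
   .loop none [.fwd 12261, .fwd 15166, .bwd 3841],
   .loop none [.bwd 15405],
   .loop none [.bwd 6982, .fwd 15166, .bwd 9982],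
   .loop none [.bwd 15407],
   .loop none [.bwd 6984, .fwd 15166, .bwd 14586],
   .loop none [.fwd 15409],
   .loop none [.bwd 1815, .fwd 15168, .bwd 14580],
   .loop none [.fwd 15411],
   .loop none [.fwd 1646, .bwd 15170],
   .loop none [.fwd 14431, .fwd 15170, .fwd 7040],
   .loop none [.bwd 15414],
   .loop none [.fwd 15412, .bwd 14427, .fwd 15172, .bwd 13858],
   .loop none [.fwd 15416],
   .loop none [.fwd 15415, .fwd 14431, .fwd 15172, .bwd 14577],
   .loop none [.fwd 15418],
   .loop none [.bwd 1094, .fwd 15181, .fwd 14040, .bwd 15194],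
   .loop none [.bwd 15420],
   .loop none [.fwd 1158, .fwd 15183, .bwd 14641],
   .loop none [.fwd 15422],
   .loop none [.fwd 1166, .fwd 15185, .fwd 13964],
   .loop none [.fwd 15424],
   .loop none [.fwd 1103, .bwd 15213, .fwd 1162],
   .loop none [.fwd 15426],
   .loop none [.fwd 2672, .bwd 15190],
   .loop none [.bwd 1126, .bwd 15222, .bwd 1215],
   .loop none [.fwd 15429],
   .loop none [.fwd 1210, .bwd 15194],
   .loop none [.fwd 3574, .bwd 15198],
   .loop none [.fwd 3441, .bwd 15198],
   .loop none [.bwd 2659, .bwd 15198],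
   .loop none [.bwd 2721, .bwd 15203],
   .loop none [.bwd 2722, .bwd 15203],
   .loop none [.fwd 15224, .fwd 15205],
   .loop none [.fwd 1246, .bwd 15437, .bwd 14121, .bwd 15240],
   .loop none [.fwd 15438],
   .loop none [.bwd 14276, .bwd 15437, .fwd 14592],
   .loop none [.bwd 15440],
   .loop none [.fwd 15350, .fwd 15207],
   .loop none [.fwd 1861, .bwd 15442, .bwd 9947, .bwd 15439],
   .loop none [.bwd 15443],
   .loop none [.bwd 6724, .bwd 15442, .fwd 9952],
   .loop none [.bwd 15445],
   .loop none [.fwd 6730, .bwd 15442, .bwd 10010],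
   .loop none [.fwd 15447],
   .loop none [.fwd 1139, .bwd 15209],
   .loop none [.fwd 63, .bwd 15209],
   .loop none [.bwd 1126, .fwd 15209, .fwd 1156],
   .loop none [.fwd 15451],
   .loop none [.fwd 1103, .fwd 15209, .bwd 1144],
   .loop none [.fwd 15453],
   .loop none [.bwd 1863, .fwd 15212, .bwd 8821],
   .loop none [.fwd 15455],
   .loop none [.bwd 6672, .fwd 15212, .fwd 9951],
   .loop none [.fwd 15457],
   .loop none [.fwd 15439, .fwd 15215],
   .loop none [.fwd 15456, .fwd 15423],
   .loop none [.bwd 6735, .bwd 15459, .fwd 14643, .fwd 15460],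
   .loop none [.bwd 15461],
   .loop none [.fwd 14271, .bwd 15459, .fwd 14642, .bwd 15448],
   .loop none [.bwd 15463],
   .loop none [.fwd 15464, .fwd 14271, .fwd 15217, .bwd 14035],
   .loop none [.fwd 15465],
   .loop none [.fwd 15224, .fwd 15219],
   .loop none [.fwd 1246, .bwd 15467, .bwd 14238],
   .loop none [.fwd 15468],
   .loop none [.fwd 1115, .bwd 15221],
   .loop none [.bwd 1751, .bwd 15224],
   .loop none [.fwd 1735, .bwd 15224],
   .loop none [.fwd 15469, .fwd 15441],
   .loop none [.fwd 14106, .fwd 15224, .fwd 7106],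
   .loop none [.bwd 15474],
   .loop none [.fwd 15466, .bwd 14034, .fwd 15227, .bwd 12267],
   .loop none [.bwd 15476],
   .loop none [.fwd 15475, .fwd 14106, .fwd 15227, .bwd 12297],
   .loop none [.fwd 15478],
   .loop none [.fwd 8979, .fwd 15232, .bwd 14524],
   .loop none [.fwd 15480],
   .loop none [.fwd 10652, .fwd 15232, .bwd 14526],
   .loop none [.fwd 15482],
   .loop none [.fwd 15329, .fwd 15279],
   .loop none [.bwd 2992, .bwd 15484, .fwd 14556, .bwd 15234],
   .loop none [.fwd 15485],
   .loop none [.fwd 15486, .fwd 15234],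
   .loop none [.fwd 747, .bwd 15487, .bwd 14558],
   .loop none [.fwd 15488],
   .loop none [.fwd 9970, .bwd 15236],
   .loop none [.fwd 3085, .fwd 15489, .bwd 14557, .bwd 15238],
   .loop none [.fwd 15491],
   .loop none [.fwd 15492, .fwd 15314],
   .loop none [.fwd 14416, .fwd 15244, .fwd 15241, .bwd 15256],
   .loop none [.bwd 15494],
   .loop none [.fwd 14426, .fwd 15268],
   .loop none [.fwd 15477, .fwd 15466],
   .loop none [.fwd 14272, .bwd 15248],
   .loop none [.bwd 5688, .fwd 15250, .bwd 13220]]

theorem just61_len : just61.length = 250 := by decide +kernel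

theorem just61_ok : cert.okFacts 15250 just61 = true := by decide +kernel

/-- justifications -/
noncomputable def just62 : List Cert.Just :=
  [.loop none [.fwd 15499],
   .loop none [.bwd 13159, .fwd 15250, .fwd 8825],
   .loop none [.bwd 15501],
   .loop none [.fwd 10009, .fwd 15250, .fwd 10005],
   .loop none [.bwd 15503],
   .loop none [.fwd 10002, .fwd 15250, .bwd 10026],
   .loop none [.bwd 15505],
   .loop none [.fwd 13539, .fwd 15252, .bwd 8672],
   .loop none [.bwd 15507],
   .loop none [.fwd 3208, .fwd 15396, .fwd 7090, .bwd 15254],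
   .loop none [.bwd 15509],
   .loop none [.bwd 7076, .fwd 15254, .fwd 6786],
   .loop none [.fwd 15511],
   .loop none [.fwd 7061, .bwd 15256],
   .loop none [.fwd 15379, .fwd 15260],
   .loop none [.fwd 292, .bwd 15514, .bwd 14428, .bwd 15412],
   .loop none [.fwd 15515],
   .loop none [.fwd 326, .bwd 15514, .bwd 14429, .bwd 15508],
   .loop none [.fwd 15517],
   .loop none [.fwd 5009, .bwd 15514, .bwd 14434],
   .loop none [.fwd 15519],
   .loop none [.fwd 8800, .fwd 15265, .fwd 14433, .bwd 15520],
   .loop none [.bwd 15521],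
   .loop none [.bwd 14421, .bwd 15265],
   .loop none [.bwd 14279, .bwd 15265],
   .loop none [.fwd 15379, .fwd 15267],
   .loop none [.bwd 704, .bwd 15525, .fwd 11659],
   .loop none [.fwd 15526],
   .loop none [.fwd 15518, .fwd 15508],
   .loop none [.fwd 12290, .bwd 15270],
   .loop none [.bwd 15493, .fwd 15273],
   .loop none [.bwd 768, .bwd 15530, .bwd 14511, .bwd 15318],
   .loop none [.fwd 15531],
   .loop none [.fwd 15532, .bwd 15322],
   .loop none [.fwd 15486, .fwd 15275],
   .loop none [.fwd 3264, .bwd 15534, .fwd 9968],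
   .loop none [.fwd 15535],
   .loop none [.fwd 15492, .fwd 15277],
   .loop none [.fwd 15342, .fwd 15285],
   .loop none [.fwd 3146, .bwd 15537, .bwd 14550],
   .loop none [.fwd 15539],
   .loop none [.bwd 9622, .fwd 15281, .fwd 11523],
   .loop none [.fwd 15541],
   .loop none [.bwd 7982, .fwd 15281, .bwd 13366],
   .loop none [.fwd 15543],
   .loop none [.bwd 3044, .fwd 15396, .fwd 7091, .bwd 15283],
   .loop none [.fwd 15545],
   .loop none [.fwd 15546, .fwd 15283],
   .loop none [.bwd 7836, .bwd 15547, .bwd 7983],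
   .loop none [.bwd 15548],
   .loop none [.fwd 15392, .fwd 15290],
   .loop none [.bwd 3148, .bwd 15547, .fwd 3491],
   .loop none [.fwd 15551],
   .loop none [.bwd 6597, .bwd 15538, .fwd 10106, .bwd 15544],
   .loop none [.bwd 15553],
   .loop none [.fwd 507, .fwd 15288, .fwd 12954],
   .loop none [.fwd 15555],
   .loop none [.bwd 5668, .fwd 15288, .bwd 11134],
   .loop none [.fwd 15557],
   .loop none [.bwd 6159, .fwd 15288, .bwd 13472],
   .loop none [.fwd 15559],
   .loop none [.bwd 7746, .bwd 15550, .fwd 12537, .bwd 15560],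
   .loop none [.bwd 15561],
   .loop none [.bwd 241, .fwd 15292, .bwd 915],
   .loop none [.bwd 15563],
   .loop none [.fwd 2701, .fwd 15292, .fwd 332],
   .loop none [.bwd 15565],
   .loop none [.fwd 5271, .fwd 15292, .bwd 6037],
   .loop none [.fwd 15567],
   .loop none [.bwd 1789, .bwd 15294],
   .loop none [.fwd 15475, .fwd 14106, .fwd 15298, .bwd 6721],
   .loop none [.fwd 15570],
   .loop none [.fwd 14277, .bwd 15301],
   .loop none [.fwd 7139, .bwd 15303],
   .loop none [.fwd 15356, .fwd 15331],
   .loop none [.fwd 7155, .bwd 15303],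
   .loop none [.bwd 761, .fwd 15308, .fwd 201],
   .loop none [.bwd 15576],
   .loop none [.bwd 3159, .bwd 15310],
   .loop none [.bwd 5740, .bwd 15312],
   .loop none [.bwd 2052, .bwd 15312],
   .loop none [.fwd 15536, .fwd 15481],
   .loop none [.fwd 4045, .bwd 15533, .fwd 14525, .bwd 15483],
   .loop none [.fwd 15582],
   .loop none [.fwd 6065, .fwd 15320, .fwd 5195],
   .loop none [.fwd 15584],
   .loop none [.bwd 10881, .fwd 15320, .fwd 11309],
   .loop none [.fwd 15586],
   .loop none [.bwd 3204, .bwd 15327],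
   .loop none [.fwd 6864, .fwd 15327, .fwd 3205],
   .loop none [.bwd 15589],
   .loop none [.bwd 7740, .fwd 15329, .bwd 7986],
   .loop none [.bwd 15591],
   .loop none [.bwd 8603, .fwd 15574],
   .loop none [.bwd 5692, .fwd 15335, .bwd 5827],
   .loop none [.bwd 15594],
   .loop none [.bwd 5595, .fwd 15335, .fwd 9360],
   .loop none [.fwd 15596],
   .loop none [.fwd 5500, .fwd 15335, .fwd 5994],
   .loop none [.fwd 15598],
   .loop none [.fwd 7095, .bwd 15337],
   .loop none [.fwd 7486, .bwd 15340],
   .loop none [.fwd 7052, .fwd 15340, .fwd 5551],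
   .loop none [.fwd 15602],
   .loop none [.fwd 15506, .fwd 10001, .fwd 15340, .fwd 5553],
   .loop none [.bwd 15604],
   .loop none [.fwd 7116, .bwd 15344],
   .loop none [.fwd 9567, .fwd 15346, .fwd 11368],
   .loop none [.fwd 15607],
   .loop none [.bwd 5499, .fwd 15346, .bwd 10116],
   .loop none [.fwd 15609],
   .loop none [.bwd 1749, .bwd 15350],
   .loop none [.bwd 1168, .bwd 15350],
   .loop none [.fwd 348, .fwd 15353, .bwd 2724],
   .loop none [.fwd 15613],
   .loop none [.bwd 320, .fwd 15353, .fwd 2712],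
   .loop none [.fwd 15615],
   .loop none [.bwd 350, .fwd 15353, .fwd 5965],
   .loop none [.fwd 15617],
   .loop none [.fwd 340, .fwd 15353, .fwd 2713],
   .loop none [.fwd 15619],
   .loop none [.bwd 7101, .bwd 15356],
   .loop none [.fwd 7114, .bwd 15356],
   .loop none [.bwd 2267, .fwd 15359, .fwd 835],
   .loop none [.bwd 15623],
   .loop none [.bwd 1181, .fwd 15359, .bwd 936],
   .loop none [.bwd 15625],
   .loop none [.fwd 1813, .fwd 15359, .bwd 188],
   .loop none [.bwd 15627],
   .loop none [.fwd 76, .fwd 15359, .bwd 109],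
   .loop none [.bwd 15629],
   .loop none [.fwd 15413, .fwd 15359, .bwd 1030],
   .loop none [.bwd 15631],
   .loop none [.fwd 2302, .fwd 15359, .bwd 850],
   .loop none [.bwd 15633],
   .loop none [.fwd 1125, .bwd 15361],
   .loop none [.bwd 220, .fwd 15361, .fwd 2732],
   .loop none [.fwd 15636],
   .loop none [.bwd 317, .fwd 15361, .fwd 6871],
   .loop none [.fwd 15638],
   .loop none [.bwd 67, .fwd 15363, .bwd 160],
   .loop none [.bwd 15640],
   .loop none [.bwd 3740, .bwd 15365],
   .loop none [.bwd 2053, .bwd 15365],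
   .loop none [.bwd 1705, .bwd 15367],
   .loop none [.bwd 1287, .bwd 15367],
   .loop none [.fwd 1286, .bwd 15367],
   .loop none [.fwd 7085, .bwd 15367],
   .loop none [.bwd 4208, .fwd 15370, .bwd 440],
   .loop none [.fwd 15648],
   .loop none [.fwd 5113, .fwd 15370, .fwd 3357],
   .loop none [.bwd 15650],
   .loop none [.bwd 5595, .fwd 15373, .bwd 5193],
   .loop none [.bwd 15652],
   .loop none [.bwd 5338, .bwd 15376],
   .loop none [.bwd 7050, .fwd 15376, .fwd 5339],
   .loop none [.fwd 15655],
   .loop none [.bwd 15523, .fwd 15376, .fwd 2044, .bwd 15510],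
   .loop none [.bwd 15657],
   .loop none [.bwd 704, .fwd 15379, .fwd 8974],
   .loop none [.fwd 15659],
   .loop none [.bwd 3421, .fwd 15381, .bwd 715],
   .loop none [.bwd 15661],
   .loop none [.fwd 3269, .bwd 15381],
   .loop none [.fwd 507, .fwd 15381, .fwd 4232],
   .loop none [.fwd 15664],
   .loop none [.bwd 5668, .fwd 15381, .fwd 4165],
   .loop none [.bwd 15666],
   .loop none [.fwd 15618, .fwd 15500],
   .loop none [.fwd 6453, .fwd 15383, .fwd 13340],
   .loop none [.fwd 15669],
   .loop none [.fwd 15651, .fwd 15385],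
   .loop none [.fwd 15667, .fwd 15558],
   .loop none [.bwd 5989, .bwd 15671, .bwd 9307, .bwd 15670],
   .loop none [.fwd 15673],
   .loop none [.fwd 15610, .fwd 10115, .bwd 15671, .fwd 9308],
   .loop none [.fwd 15675],
   .loop none [.fwd 15653, .fwd 15597],
   .loop none [.fwd 9565, .bwd 15671, .bwd 13296],
   .loop none [.fwd 15678],
   .loop none [.bwd 7835, .bwd 15387],
   .loop none [.bwd 3493, .bwd 15389],
   .loop none [.bwd 5694, .fwd 15394, .bwd 5927],
   .loop none [.bwd 15682],
   .loop none [.fwd 5683, .fwd 15394, .bwd 9533],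
   .loop none [.fwd 15684],
   .loop none [.fwd 5331, .fwd 15394, .fwd 6091],
   .loop none [.fwd 15686],
   .loop none [.bwd 7092, .bwd 15396],
   .loop none [.fwd 7094, .bwd 15396],
   .loop none [.fwd 15626, .fwd 15398],
   .loop none [.fwd 14171, .fwd 15690],
   .loop none [.fwd 15626, .fwd 15400],
   .loop none [.fwd 150, .bwd 15692, .bwd 14610],
   .loop none [.fwd 15693],
   .loop none [.fwd 1018, .fwd 15626, .fwd 2425, .bwd 15402],
   .loop none [.fwd 15695],
   .loop none [.fwd 15696, .fwd 15402],
   .loop none [.fwd 2470, .bwd 15697, .fwd 7508],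
   .loop none [.fwd 15698],
   .loop none [.fwd 15696, .fwd 15404],
   .loop none [.fwd 2514, .bwd 15700, .fwd 13930],
   .loop none [.fwd 15701],
   .loop none [.bwd 3213, .fwd 15639, .bwd 12270, .bwd 15406],
   .loop none [.fwd 15703],
   .loop none [.fwd 15704, .fwd 15406],
   .loop none [.bwd 1995, .bwd 15705, .fwd 12274],
   .loop none [.fwd 15706],
   .loop none [.bwd 3216, .bwd 15705, .fwd 13253],
   .loop none [.fwd 15708],
   .loop none [.fwd 285, .bwd 15705, .bwd 12254],
   .loop none [.fwd 15710],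
   .loop none [.fwd 3982, .bwd 15705, .bwd 13150],
   .loop none [.fwd 15712],
   .loop none [.fwd 13871, .fwd 15408, .bwd 12285, .bwd 15711],
   .loop none [.bwd 15714],
   .loop none [.fwd 2821, .fwd 15634, .fwd 2303, .bwd 15408],
   .loop none [.bwd 15716],
   .loop none [.fwd 1653, .bwd 15408],
   .loop none [.fwd 15713, .bwd 12284, .fwd 15410, .bwd 13894],
   .loop none [.fwd 15719],
   .loop none [.fwd 14585, .bwd 15410],
   .loop none [.fwd 15516, .fwd 15412],
   .loop none [.fwd 291, .bwd 15722, .bwd 14578],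
   .loop none [.fwd 15723],
   .loop none [.fwd 15516, .fwd 15417],
   .loop none [.bwd 307, .bwd 15725, .bwd 13857],
   .loop none [.fwd 15726],
   .loop none [.bwd 226, .bwd 15725, .bwd 14588],
   .loop none [.fwd 15728],
   .loop none [.bwd 12287, .fwd 15419, .bwd 4994],
   .loop none [.bwd 15730],
   .loop none [.bwd 1154, .fwd 15421, .fwd 82],
   .loop none [.bwd 15732],
   .loop none [.fwd 1094, .bwd 15421],
   .loop none [.bwd 6732, .fwd 15425, .fwd 14638],
   .loop none [.fwd 15735],
   .loop none [.fwd 6680, .fwd 15427, .fwd 13997, .bwd 15736],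
   .loop none [.fwd 15737],
   .loop none [.bwd 6800, .bwd 15430],
   .loop none [.fwd 15477, .fwd 15464],
   .loop none [.fwd 14276, .fwd 15473],
   .loop none [.bwd 1861, .bwd 15444],
   .loop none [.fwd 7129, .bwd 15446],
   .loop none [.bwd 1852, .bwd 15446],
   .loop none [.fwd 6724, .bwd 15446],
   .loop none [.fwd 6671, .fwd 15452, .bwd 6711],
   .loop none [.fwd 15746],
   .loop none [.fwd 1143, .bwd 15454],
   .loop none [.fwd 1855, .fwd 15454, .bwd 1166]]

theorem just62_len : just62.length = 250 := by decide +kernel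

theorem just62_ok : cert.okFacts 15500 just62 = true := by decide +kernel

/-- justifications -/
noncomputable def just63 : List Cert.Just :=
  [.loop none [.fwd 15749],
   .loop none [.fwd 6769, .bwd 15458],
   .loop none [.fwd 6735, .bwd 15462],
   .loop none [.bwd 14271, .fwd 15740],
   .loop none [.fwd 14034, .fwd 15497],
   .loop none [.bwd 14106, .bwd 15475],
   .loop none [.fwd 7151, .bwd 15477],
   .loop none [.bwd 6730, .bwd 15477],
   .loop none [.fwd 12296, .bwd 15479],
   .loop none [.fwd 4170, .bwd 15581, .fwd 9501],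
   .loop none [.fwd 15759],
   .loop none [.fwd 3941, .fwd 15492, .fwd 9969],
   .loop none [.fwd 15761],
   .loop none [.fwd 15605, .fwd 15506],
   .loop none [.bwd 14416, .bwd 15495],
   .loop none [.fwd 5811, .bwd 15668, .fwd 14635],
   .loop none [.fwd 15765],
   .loop none [.bwd 5283, .bwd 15668, .fwd 11138],
   .loop none [.fwd 15767],
   .loop none [.bwd 13696, .fwd 15502, .bwd 13808],
   .loop none [.bwd 15769],
   .loop none [.fwd 15768, .fwd 13221, .fwd 15502, .bwd 13156],
   .loop none [.fwd 15771],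
   .loop none [.fwd 4842, .fwd 15687, .fwd 10536, .bwd 15504],
   .loop none [.fwd 15773],
   .loop none [.fwd 15774, .fwd 15504],
   .loop none [.fwd 5355, .bwd 15775, .bwd 8806],
   .loop none [.fwd 15776],
   .loop none [.fwd 5484, .bwd 15763, .fwd 10000],
   .loop none [.fwd 15778],
   .loop none [.bwd 10001, .fwd 15763],
   .loop none [.bwd 13539, .fwd 15528],
   .loop none [.bwd 5049, .bwd 15528, .bwd 13545],
   .loop none [.fwd 15782],
   .loop none [.bwd 3208, .bwd 15510],
   .loop none [.fwd 2042, .bwd 15510],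
   .loop none [.fwd 5384, .bwd 15510],
   .loop none [.fwd 1742, .bwd 15512],
   .loop none [.bwd 6794, .bwd 15512],
   .loop none [.bwd 307, .fwd 15516, .bwd 9025],
   .loop none [.fwd 15789],
   .loop none [.fwd 3997, .fwd 15516, .bwd 12292, .bwd 15731],
   .loop none [.fwd 15791],
   .loop none [.fwd 5122, .fwd 15518, .bwd 8671],
   .loop none [.fwd 15793],
   .loop none [.fwd 15792, .fwd 15731],
   .loop none [.fwd 5559, .fwd 15522, .bwd 8799],
   .loop none [.fwd 15796],
   .loop none [.bwd 8800, .bwd 15522],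
   .loop none [.fwd 3818, .fwd 15527, .bwd 13754],
   .loop none [.fwd 15799],
   .loop none [.fwd 4170, .fwd 15536, .bwd 9815],
   .loop none [.fwd 15801],
   .loop none [.fwd 3679, .fwd 15540, .fwd 15490],
   .loop none [.fwd 15803],
   .loop none [.bwd 10088, .fwd 15542, .bwd 13194],
   .loop none [.bwd 15805],
   .loop none [.fwd 10085, .fwd 15542, .bwd 13297],
   .loop none [.fwd 15807],
   .loop none [.bwd 6135, .fwd 15544, .fwd 11048],
   .loop none [.fwd 15809],
   .loop none [.bwd 6127, .fwd 15549, .bwd 10137],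
   .loop none [.fwd 15811],
   .loop none [.fwd 7836, .bwd 15549],
   .loop none [.fwd 15806, .bwd 9636, .fwd 15549, .fwd 12135],
   .loop none [.fwd 15814],
   .loop none [.bwd 3356, .fwd 15549, .fwd 6530],
   .loop none [.bwd 15816],
   .loop none [.bwd 3492, .bwd 15552],
   .loop none [.bwd 6135, .fwd 15554, .fwd 10068],
   .loop none [.fwd 15819],
   .loop none [.fwd 6597, .bwd 15554],
   .loop none [.fwd 3360, .fwd 15554, .fwd 6547],
   .loop none [.fwd 15822],
   .loop none [.fwd 4410, .fwd 15556, .fwd 11452],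
   .loop none [.fwd 15824],
   .loop none [.bwd 419, .fwd 15556, .fwd 13471],
   .loop none [.fwd 15826],
   .loop none [.bwd 9926, .bwd 15672, .bwd 9738, .bwd 15827],
   .loop none [.bwd 15828],
   .loop none [.bwd 12309, .bwd 15672, .fwd 12947, .bwd 15587],
   .loop none [.bwd 15830],
   .loop none [.fwd 5399, .bwd 15672, .bwd 13344],
   .loop none [.fwd 15832],
   .loop none [.fwd 8795, .fwd 15560, .fwd 11340, .bwd 15833],
   .loop none [.bwd 15834],
   .loop none [.fwd 5546, .bwd 15562],
   .loop none [.fwd 6138, .fwd 15562, .bwd 9935],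
   .loop none [.fwd 15837],
   .loop none [.fwd 7746, .bwd 15562],
   .loop none [.fwd 241, .bwd 15564],
   .loop none [.bwd 916, .fwd 15564, .fwd 3167],
   .loop none [.fwd 15841],
   .loop none [.fwd 3171, .bwd 15564],
   .loop none [.fwd 931, .bwd 15564],
   .loop none [.fwd 362, .bwd 15566],
   .loop none [.fwd 369, .fwd 15566, .fwd 370],
   .loop none [.fwd 15846],
   .loop none [.bwd 2701, .bwd 15566],
   .loop none [.bwd 413, .fwd 15566, .fwd 5824],
   .loop none [.fwd 15849],
   .loop none [.fwd 6040, .bwd 15568],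
   .loop none [.bwd 5264, .fwd 15568, .fwd 6030],
   .loop none [.bwd 15852],
   .loop none [.fwd 6788, .bwd 15571],
   .loop none [.fwd 761, .bwd 15577],
   .loop none [.fwd 10100, .bwd 15583],
   .loop none [.fwd 6329, .fwd 15583, .fwd 10654],
   .loop none [.fwd 15857],
   .loop none [.bwd 6063, .fwd 15585, .fwd 12960],
   .loop none [.fwd 15859],
   .loop none [.fwd 6143, .fwd 15585, .fwd 5196],
   .loop none [.fwd 15861],
   .loop none [.bwd 6864, .bwd 15590],
   .loop none [.bwd 4118, .bwd 15592],
   .loop none [.fwd 4117, .bwd 15592],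
   .loop none [.fwd 6065, .fwd 15592, .bwd 9934],
   .loop none [.fwd 15866],
   .loop none [.fwd 7740, .bwd 15592],
   .loop none [.bwd 5990, .fwd 15595, .fwd 8808],
   .loop none [.fwd 15869],
   .loop none [.fwd 5692, .bwd 15595],
   .loop none [.fwd 423, .fwd 15595, .bwd 8810],
   .loop none [.fwd 15872],
   .loop none [.bwd 12946, .bwd 15677, .fwd 9361],
   .loop none [.bwd 15874],
   .loop none [.fwd 15685, .fwd 15679],
   .loop none [.fwd 10444, .fwd 15677],
   .loop none [.fwd 6203, .bwd 15599],
   .loop none [.bwd 3099, .bwd 15603],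
   .loop none [.bwd 3102, .bwd 15603],
   .loop none [.fwd 2037, .bwd 15603],
   .loop none [.fwd 15873, .fwd 15608],
   .loop none [.fwd 422, .bwd 15882, .bwd 13367],
   .loop none [.fwd 15883],
   .loop none [.bwd 6457, .fwd 15610, .fwd 9414, .bwd 15884],
   .loop none [.bwd 15885],
   .loop none [.fwd 2636, .fwd 15614, .fwd 434],
   .loop none [.fwd 15887],
   .loop none [.bwd 22, .fwd 15614, .bwd 4722],
   .loop none [.fwd 15889],
   .loop none [.bwd 653, .fwd 15616, .fwd 9435],
   .loop none [.fwd 15891],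
   .loop none [.bwd 353, .fwd 15616, .bwd 504],
   .loop none [.fwd 15893],
   .loop none [.bwd 656, .fwd 15620, .fwd 8924],
   .loop none [.fwd 15895],
   .loop none [.fwd 2267, .bwd 15624],
   .loop none [.bwd 15691, .fwd 15626, .bwd 1181],
   .loop none [.bwd 15898],
   .loop none [.bwd 1813, .bwd 15628],
   .loop none [.bwd 1281, .bwd 15630],
   .loop none [.bwd 76, .bwd 15630],
   .loop none [.fwd 6872, .bwd 15632],
   .loop none [.bwd 15413, .bwd 15632],
   .loop none [.bwd 2302, .bwd 15634],
   .loop none [.bwd 6984, .bwd 15634],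
   .loop none [.bwd 3416, .bwd 15637],
   .loop none [.fwd 3391, .bwd 15641],
   .loop none [.fwd 67, .bwd 15641],
   .loop none [.fwd 5791, .fwd 15649, .fwd 425],
   .loop none [.bwd 15910],
   .loop none [.fwd 376, .bwd 15649],
   .loop none [.bwd 377, .bwd 15649],
   .loop none [.fwd 424, .bwd 15649],
   .loop none [.bwd 5844, .bwd 15649],
   .loop none [.fwd 6458, .bwd 15651],
   .loop none [.bwd 5113, .bwd 15651],
   .loop none [.bwd 3358, .fwd 15651, .bwd 6537],
   .loop none [.fwd 15918],
   .loop none [.fwd 5595, .bwd 15653],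
   .loop none [.bwd 3040, .bwd 15656],
   .loop none [.bwd 3041, .bwd 15656],
   .loop none [.fwd 3091, .bwd 15656],
   .loop none [.fwd 15523, .bwd 15658],
   .loop none [.bwd 9535, .bwd 15660],
   .loop none [.bwd 705, .fwd 15660, .fwd 8975],
   .loop none [.fwd 15926],
   .loop none [.fwd 3421, .bwd 15662],
   .loop none [.bwd 485, .fwd 15665, .bwd 5872],
   .loop none [.fwd 15929],
   .loop none [.fwd 4410, .fwd 15665, .fwd 5865],
   .loop none [.bwd 15931],
   .loop none [.bwd 6113, .bwd 15667],
   .loop none [.fwd 5668, .bwd 15667],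
   .loop none [.fwd 5404, .fwd 15667, .fwd 5669],
   .loop none [.fwd 15935],
   .loop none [.fwd 15674, .fwd 15670],
   .loop none [.bwd 8251, .bwd 15937, .bwd 9306],
   .loop none [.fwd 15938],
   .loop none [.bwd 480, .bwd 15937, .fwd 10796],
   .loop none [.fwd 15940],
   .loop none [.fwd 5987, .fwd 15674, .bwd 8880],
   .loop none [.fwd 15942],
   .loop none [.bwd 8251, .fwd 15674, .fwd 5492],
   .loop none [.fwd 15944],
   .loop none [.bwd 6453, .bwd 15674],
   .loop none [.bwd 480, .fwd 15674, .fwd 8601],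
   .loop none [.fwd 15947],
   .loop none [.fwd 5997, .fwd 15674, .bwd 8918],
   .loop none [.fwd 15949],
   .loop none [.fwd 5496, .fwd 15676, .bwd 9321],
   .loop none [.fwd 15951],
   .loop none [.fwd 13283, .fwd 15876],
   .loop none [.fwd 6084, .fwd 15683, .bwd 10398],
   .loop none [.fwd 15954],
   .loop none [.fwd 442, .fwd 15683, .bwd 8840],
   .loop none [.fwd 15956],
   .loop none [.bwd 5695, .bwd 15683],
   .loop none [.bwd 9565, .bwd 15685],
   .loop none [.fwd 6189, .bwd 15687],
   .loop none [.bwd 1061, .fwd 15694, .bwd 14608],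
   .loop none [.fwd 15961],
   .loop none [.bwd 7051, .bwd 15699],
   .loop none [.bwd 7003, .bwd 15702],
   .loop none [.fwd 4251, .fwd 15707, .fwd 13151],
   .loop none [.fwd 15965],
   .loop none [.bwd 3217, .fwd 15709, .fwd 10930],
   .loop none [.fwd 15967],
   .loop none [.fwd 12284, .bwd 15713],
   .loop none [.bwd 3685, .fwd 15715, .bwd 13870],
   .loop none [.fwd 15970],
   .loop none [.bwd 3687, .fwd 15715, .bwd 14649],
   .loop none [.fwd 15972],
   .loop none [.fwd 2846, .bwd 15717],
   .loop none [.bwd 2819, .bwd 15717],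
   .loop none [.fwd 3686, .bwd 15717],
   .loop none [.bwd 2821, .bwd 15717],
   .loop none [.fwd 3037, .bwd 15717],
   .loop none [.bwd 3978, .fwd 15720, .bwd 13893],
   .loop none [.fwd 15979],
   .loop none [.fwd 4106, .fwd 15724, .fwd 13535],
   .loop none [.fwd 15981],
   .loop none [.bwd 2558, .fwd 15727, .bwd 13856],
   .loop none [.fwd 15983],
   .loop none [.fwd 3730, .fwd 15729, .fwd 11661],
   .loop none [.fwd 15985],
   .loop none [.fwd 5014, .bwd 15795, .bwd 12314],
   .loop none [.fwd 15987],
   .loop none [.fwd 12287, .fwd 15795],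
   .loop none [.fwd 1154, .bwd 15733],
   .loop none [.bwd 6776, .bwd 15738],
   .loop none [.fwd 6772, .bwd 15747],
   .loop none [.bwd 6708, .bwd 15747],
   .loop none [.fwd 6702, .bwd 15750],
   .loop none [.bwd 4171, .fwd 15760, .fwd 9502],
   .loop none [.fwd 15995],
   .loop none [.bwd 10097, .bwd 15762],
   .loop none [.fwd 6403, .fwd 15762, .bwd 9972],
   .loop none [.fwd 15998]]

theorem just63_len : just63.length = 250 := by decide +kernel

theorem just63_ok : cert.okFacts 15750 just63 = true := by decide +kernel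

/-- justifications -/
noncomputable def just64 : List Cert.Just :=
  [.loop none [.fwd 707, .fwd 15762, .bwd 8977],
   .loop none [.fwd 16000],
   .loop none [.fwd 7926, .fwd 15766, .bwd 13946],
   .loop none [.fwd 16002],
   .loop none [.fwd 8652, .fwd 15768, .bwd 13697],
   .loop none [.fwd 16004],
   .loop none [.fwd 7925, .fwd 15768, .fwd 11139],
   .loop none [.fwd 16006],
   .loop none [.fwd 4080, .fwd 15768, .bwd 13341],
   .loop none [.fwd 16008],
   .loop none [.fwd 6028, .fwd 15770, .fwd 11525, .bwd 16005],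
   .loop none [.fwd 16010],
   .loop none [.fwd 7925, .fwd 15772, .bwd 13157],
   .loop none [.fwd 16012],
   .loop none [.fwd 5832, .fwd 15772, .bwd 10159],
   .loop none [.fwd 16014],
   .loop none [.fwd 7077, .bwd 15774],
   .loop none [.fwd 5835, .fwd 15777, .fwd 9135],
   .loop none [.fwd 16017],
   .loop none [.fwd 5894, .fwd 15779, .fwd 9325],
   .loop none [.fwd 16019],
   .loop none [.fwd 13548, .bwd 15783],
   .loop none [.bwd 2747, .fwd 15790, .fwd 9001],
   .loop none [.fwd 16022],
   .loop none [.bwd 9991, .bwd 15794],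
   .loop none [.fwd 7540, .fwd 15794, .fwd 9994],
   .loop none [.fwd 16025],
   .loop none [.bwd 9524, .bwd 15797],
   .loop none [.fwd 7647, .fwd 15797, .fwd 9528],
   .loop none [.fwd 16028],
   .loop none [.fwd 7646, .fwd 15800, .fwd 13671],
   .loop none [.fwd 16030],
   .loop none [.fwd 5855, .fwd 15802, .fwd 9810],
   .loop none [.fwd 16032],
   .loop none [.fwd 6506, .fwd 15802, .fwd 10883],
   .loop none [.fwd 16034],
   .loop none [.bwd 10087, .bwd 15804],
   .loop none [.fwd 6433, .fwd 15804, .fwd 10122],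
   .loop none [.fwd 16037],
   .loop none [.fwd 9636, .bwd 15806],
   .loop none [.fwd 10088, .bwd 15806],
   .loop none [.fwd 10544, .bwd 15808],
   .loop none [.fwd 6134, .fwd 15810, .fwd 13458],
   .loop none [.fwd 16042],
   .loop none [.fwd 6124, .fwd 15812, .bwd 10407],
   .loop none [.fwd 16044],
   .loop none [.bwd 6121, .fwd 15812, .fwd 10071],
   .loop none [.fwd 16046],
   .loop none [.bwd 6188, .fwd 15812, .fwd 12000],
   .loop none [.fwd 16048],
   .loop none [.bwd 478, .fwd 15812, .fwd 8862],
   .loop none [.fwd 16050],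
   .loop none [.bwd 12683, .bwd 15815],
   .loop none [.bwd 16040, .fwd 15815, .bwd 12316],
   .loop none [.fwd 16053],
   .loop none [.fwd 3356, .bwd 15817],
   .loop none [.fwd 3354, .bwd 15817],
   .loop none [.bwd 3355, .bwd 15817],
   .loop none [.bwd 7982, .bwd 15817],
   .loop none [.fwd 6134, .fwd 15820, .bwd 10412],
   .loop none [.fwd 16059],
   .loop none [.fwd 482, .fwd 15820, .bwd 8863],
   .loop none [.fwd 16061],
   .loop none [.fwd 4030, .bwd 15823],
   .loop none [.bwd 7745, .bwd 15823],
   .loop none [.fwd 9750, .fwd 15823, .bwd 12185],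
   .loop none [.fwd 16065],
   .loop none [.fwd 15932, .fwd 15825],
   .loop none [.fwd 7944, .bwd 16067, .fwd 11453],
   .loop none [.fwd 16068],
   .loop none [.bwd 9084, .bwd 16067, .fwd 12962, .bwd 15862],
   .loop none [.bwd 16070],
   .loop none [.bwd 5822, .fwd 15827, .bwd 9737],
   .loop none [.fwd 16072],
   .loop none [.bwd 420, .fwd 15827, .fwd 10866],
   .loop none [.fwd 16074],
   .loop none [.fwd 9173, .fwd 15829, .fwd 8683],
   .loop none [.bwd 16076],
   .loop none [.fwd 6061, .fwd 15829, .fwd 8697],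
   .loop none [.fwd 16078],
   .loop none [.fwd 9926, .bwd 15829],
   .loop none [.bwd 5822, .fwd 15829, .bwd 9939],
   .loop none [.bwd 16081],
   .loop none [.bwd 420, .fwd 15829, .bwd 8700],
   .loop none [.fwd 16083],
   .loop none [.fwd 8616, .fwd 15829, .bwd 8696],
   .loop none [.fwd 16085],
   .loop none [.fwd 12309, .bwd 15831],
   .loop none [.bwd 8795, .bwd 15835],
   .loop none [.fwd 12204, .fwd 15835, .bwd 10961],
   .loop none [.bwd 16089],
   .loop none [.bwd 6137, .fwd 15838, .bwd 10415],
   .loop none [.fwd 16091],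
   .loop none [.bwd 368, .bwd 15842],
   .loop none [.bwd 19, .fwd 15842, .bwd 4217],
   .loop none [.fwd 16094],
   .loop none [.bwd 381, .fwd 15842, .fwd 664],
   .loop none [.fwd 16096],
   .loop none [.fwd 436, .fwd 15847, .bwd 2654],
   .loop none [.bwd 16098],
   .loop none [.fwd 5823, .bwd 15850],
   .loop none [.fwd 5734, .bwd 15850],
   .loop none [.bwd 5265, .bwd 15853],
   .loop none [.fwd 5264, .bwd 15853],
   .loop none [.fwd 8047, .bwd 15853],
   .loop none [.fwd 9171, .bwd 15858],
   .loop none [.bwd 6330, .fwd 15858, .bwd 10656],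
   .loop none [.fwd 16106],
   .loop none [.bwd 6331, .fwd 15858, .fwd 9816],
   .loop none [.fwd 16108],
   .loop none [.fwd 6205, .fwd 15860, .bwd 12024],
   .loop none [.fwd 16110],
   .loop none [.fwd 10329, .fwd 15862, .fwd 5197],
   .loop none [.bwd 16112],
   .loop none [.fwd 8684, .bwd 15867],
   .loop none [.bwd 6063, .fwd 15867, .fwd 9927],
   .loop none [.fwd 16115],
   .loop none [.fwd 9370, .fwd 15870, .fwd 8809],
   .loop none [.bwd 16117],
   .loop none [.fwd 8649, .bwd 15873],
   .loop none [.bwd 9567, .bwd 15873],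
   .loop none [.fwd 12946, .bwd 15875],
   .loop none [.bwd 8676, .fwd 15875, .fwd 11312],
   .loop none [.fwd 16122],
   .loop none [.bwd 8955, .fwd 15884, .fwd 9415],
   .loop none [.fwd 16124],
   .loop none [.fwd 16011, .fwd 16005],
   .loop none [.fwd 6080, .fwd 15884, .bwd 13368],
   .loop none [.fwd 16127],
   .loop none [.fwd 6070, .fwd 15886, .bwd 5729],
   .loop none [.fwd 16129],
   .loop none [.fwd 6457, .bwd 15886],
   .loop none [.bwd 8955, .fwd 15886, .fwd 8764],
   .loop none [.bwd 16132],
   .loop none [.fwd 9184, .fwd 15886, .bwd 8771],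
   .loop none [.bwd 16134],
   .loop none [.fwd 6080, .fwd 15886, .bwd 8767],
   .loop none [.fwd 16136],
   .loop none [.fwd 259, .fwd 15888, .fwd 4761],
   .loop none [.fwd 16138],
   .loop none [.bwd 2640, .fwd 15888, .bwd 4654],
   .loop none [.fwd 16140],
   .loop none [.fwd 1012, .fwd 15890, .fwd 406],
   .loop none [.fwd 16142],
   .loop none [.bwd 616, .fwd 15890, .fwd 9044],
   .loop none [.fwd 16144],
   .loop none [.fwd 6394, .fwd 15892, .fwd 9630],
   .loop none [.fwd 16146],
   .loop none [.fwd 503, .bwd 15894],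
   .loop none [.bwd 8925, .bwd 15896],
   .loop none [.bwd 5100, .fwd 15896, .bwd 9494],
   .loop none [.fwd 16150],
   .loop none [.bwd 657, .fwd 15896, .fwd 9438],
   .loop none [.fwd 16152],
   .loop none [.fwd 15691, .bwd 15899],
   .loop none [.bwd 551, .fwd 15911, .bwd 4651],
   .loop none [.fwd 16155],
   .loop none [.bwd 5791, .bwd 15911],
   .loop none [.bwd 8217, .bwd 15919],
   .loop none [.bwd 9530, .fwd 15919, .fwd 6536],
   .loop none [.bwd 16159],
   .loop none [.fwd 9695, .fwd 15919, .bwd 12159],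
   .loop none [.fwd 16161],
   .loop none [.fwd 10090, .bwd 15927],
   .loop none [.bwd 528, .fwd 15930, .bwd 4695],
   .loop none [.fwd 16164],
   .loop none [.fwd 4434, .fwd 15930, .bwd 9930],
   .loop none [.fwd 16166],
   .loop none [.fwd 6197, .bwd 15936],
   .loop none [.bwd 5434, .fwd 15936, .fwd 9233],
   .loop none [.fwd 16169],
   .loop none [.fwd 5431, .fwd 15936, .bwd 9261],
   .loop none [.fwd 16171],
   .loop none [.fwd 16151, .bwd 10860, .fwd 15939, .bwd 13678],
   .loop none [.fwd 16173],
   .loop none [.bwd 4179, .fwd 15939, .bwd 9305],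
   .loop none [.fwd 16175],
   .loop none [.bwd 9691, .fwd 15939, .fwd 13307],
   .loop none [.bwd 16177],
   .loop none [.fwd 8252, .fwd 15939, .bwd 13337],
   .loop none [.fwd 16179],
   .loop none [.bwd 8919, .fwd 15941, .fwd 13314],
   .loop none [.fwd 16181],
   .loop none [.fwd 9406, .fwd 15943, .bwd 9911],
   .loop none [.bwd 16183],
   .loop none [.bwd 4179, .fwd 15945, .fwd 5493],
   .loop none [.fwd 16185],
   .loop none [.fwd 16178, .bwd 9691, .fwd 15945, .fwd 8602],
   .loop none [.bwd 16187],
   .loop none [.fwd 16188, .fwd 16178],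
   .loop none [.bwd 8919, .fwd 15948, .fwd 8881],
   .loop none [.bwd 16190],
   .loop none [.bwd 9666, .fwd 15948, .bwd 12032],
   .loop none [.fwd 16192],
   .loop none [.fwd 8921, .fwd 15950, .bwd 8883],
   .loop none [.bwd 16194],
   .loop none [.fwd 10483, .bwd 15952],
   .loop none [.fwd 16191, .fwd 16182],
   .loop none [.bwd 9403, .fwd 15955, .fwd 10397],
   .loop none [.bwd 16198],
   .loop none [.fwd 8669, .bwd 15957],
   .loop none [.bwd 9995, .bwd 15957],
   .loop none [.fwd 15975, .fwd 15962, .fwd 3225],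
   .loop none [.fwd 16202],
   .loop none [.bwd 10082, .fwd 15966, .bwd 13269],
   .loop none [.fwd 16204],
   .loop none [.bwd 7386, .fwd 15966, .fwd 10927],
   .loop none [.fwd 16206],
   .loop none [.fwd 6260, .fwd 15966, .bwd 13265],
   .loop none [.fwd 16208],
   .loop none [.fwd 4834, .fwd 15968, .fwd 13546],
   .loop none [.fwd 16210],
   .loop none [.fwd 6234, .fwd 15971, .bwd 13869],
   .loop none [.fwd 16212],
   .loop none [.fwd 4839, .fwd 15973, .fwd 5756],
   .loop none [.fwd 16214],
   .loop none [.fwd 6258, .fwd 15980, .bwd 13892],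
   .loop none [.fwd 16216],
   .loop none [.bwd 4966, .fwd 15980, .bwd 14648],
   .loop none [.fwd 16218],
   .loop none [.fwd 3244, .fwd 15982, .bwd 13882],
   .loop none [.fwd 16220],
   .loop none [.bwd 5163, .fwd 15984, .bwd 13855],
   .loop none [.fwd 16222],
   .loop none [.fwd 5188, .fwd 15986, .fwd 11662],
   .loop none [.fwd 16224],
   .loop none [.fwd 5217, .fwd 15988, .bwd 5724],
   .loop none [.fwd 16226],
   .loop none [.bwd 4123, .fwd 15996, .fwd 9503],
   .loop none [.fwd 16228],
   .loop none [.bwd 9742, .bwd 15999],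
   .loop none [.bwd 6317, .fwd 15999, .fwd 10699],
   .loop none [.fwd 16231],
   .loop none [.bwd 6404, .fwd 15999, .bwd 10348],
   .loop none [.fwd 16233],
   .loop none [.fwd 659, .fwd 15999, .bwd 9440],
   .loop none [.fwd 16235],
   .loop none [.fwd 10094, .bwd 16001],
   .loop none [.bwd 4176, .fwd 16003, .bwd 13945],
   .loop none [.fwd 16238],
   .loop none [.bwd 5795, .bwd 16126, .fwd 11526],
   .loop none [.fwd 16240],
   .loop none [.fwd 4175, .fwd 16007, .bwd 13224],
   .loop none [.bwd 16242],
   .loop none [.bwd 4176, .fwd 16007, .fwd 13609],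
   .loop none [.fwd 16244],
   .loop none [.bwd 10859, .fwd 16009, .fwd 13676, .bwd 16241],
   .loop none [.bwd 16246],
   .loop none [.fwd 4079, .fwd 16009, .bwd 13338],
   .loop none [.fwd 16248]]

theorem just64_len : just64.length = 250 := by decide +kernel

theorem just64_ok : cert.okFacts 16000 just64 = true := by decide +kernel

/-- justifications -/
noncomputable def just65 : List Cert.Just :=
  [.loop none [.bwd 8652, .bwd 16011],
   .loop none [.bwd 3750, .fwd 16011, .bwd 13041],
   .loop none [.fwd 16251],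
   .loop none [.fwd 11654, .fwd 16013, .bwd 13509],
   .loop none [.fwd 16253],
   .loop none [.fwd 16243, .fwd 16207],
   .loop none [.fwd 9257, .bwd 16015],
   .loop none [.fwd 356, .fwd 16015, .bwd 8845],
   .loop none [.fwd 16257],
   .loop none [.fwd 6231, .fwd 16018, .fwd 9136],
   .loop none [.fwd 16259],
   .loop none [.fwd 6261, .fwd 16020, .fwd 9326],
   .loop none [.fwd 16261],
   .loop none [.fwd 5188, .fwd 16023, .bwd 13623],
   .loop none [.fwd 16263],
   .loop none [.bwd 9366, .bwd 16026],
   .loop none [.bwd 9568, .bwd 16029],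
   .loop none [.bwd 7980, .fwd 16029, .bwd 10476],
   .loop none [.fwd 16267],
   .loop none [.bwd 7645, .fwd 16031, .fwd 11371],
   .loop none [.fwd 16269],
   .loop none [.fwd 3297, .fwd 16031, .bwd 13370],
   .loop none [.fwd 16271],
   .loop none [.bwd 6238, .fwd 16033, .fwd 10884],
   .loop none [.fwd 16273],
   .loop none [.fwd 6345, .fwd 16033, .fwd 10705],
   .loop none [.fwd 16275],
   .loop none [.bwd 1967, .fwd 16035, .bwd 13292],
   .loop none [.fwd 16277],
   .loop none [.bwd 9643, .bwd 16038],
   .loop none [.fwd 6440, .fwd 16038, .bwd 9825],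
   .loop none [.fwd 16280],
   .loop none [.bwd 6215, .fwd 16043, .bwd 10976],
   .loop none [.fwd 16282],
   .loop none [.fwd 9650, .fwd 16045, .fwd 10406],
   .loop none [.bwd 16284],
   .loop none [.bwd 6166, .fwd 16045, .fwd 10595],
   .loop none [.fwd 16286],
   .loop none [.bwd 4402, .fwd 16047, .fwd 9091],
   .loop none [.fwd 16288],
   .loop none [.fwd 8469, .fwd 16049, .bwd 12317],
   .loop none [.fwd 16290],
   .loop none [.fwd 6396, .bwd 16051],
   .loop none [.fwd 3140, .bwd 16051],
   .loop none [.fwd 12119, .bwd 16054],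
   .loop none [.fwd 10880, .fwd 16060, .fwd 10410],
   .loop none [.bwd 16295],
   .loop none [.bwd 6215, .fwd 16060, .fwd 10596],
   .loop none [.fwd 16297],
   .loop none [.bwd 6180, .fwd 16062, .fwd 5394],
   .loop none [.fwd 16299],
   .loop none [.fwd 9654, .fwd 16062, .bwd 12041],
   .loop none [.fwd 16301],
   .loop none [.fwd 12663, .bwd 16066],
   .loop none [.bwd 7943, .fwd 16069, .fwd 11454],
   .loop none [.fwd 16304],
   .loop none [.bwd 12967, .bwd 16069],
   .loop none [.bwd 9085, .bwd 16071],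
   .loop none [.fwd 9084, .bwd 16071],
   .loop none [.fwd 16082, .fwd 16073],
   .loop none [.bwd 9938, .bwd 16309, .bwd 9736],
   .loop none [.fwd 16310],
   .loop none [.bwd 10267, .bwd 16309, .fwd 13466],
   .loop none [.fwd 16312],
   .loop none [.fwd 9252, .fwd 16075, .bwd 9677, .bwd 16313],
   .loop none [.bwd 16314],
   .loop none [.bwd 9166, .fwd 16075, .bwd 13467],
   .loop none [.fwd 16316],
   .loop none [.bwd 9173, .bwd 16077],
   .loop none [.fwd 5848, .fwd 16077, .fwd 9196],
   .loop none [.fwd 16319],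
   .loop none [.fwd 9199, .fwd 16079, .fwd 8698],
   .loop none [.bwd 16321],
   .loop none [.bwd 6100, .fwd 16079, .bwd 10266],
   .loop none [.bwd 16323],
   .loop none [.bwd 9938, .fwd 16082, .bwd 5613],
   .loop none [.bwd 16325],
   .loop none [.fwd 5822, .bwd 16082],
   .loop none [.bwd 10447, .bwd 16082],
   .loop none [.fwd 9946, .bwd 16084],
   .loop none [.bwd 9166, .fwd 16084, .fwd 8742],
   .loop none [.bwd 16330],
   .loop none [.bwd 9230, .fwd 16084, .bwd 8739],
   .loop none [.bwd 16332],
   .loop none [.fwd 9168, .fwd 16086, .bwd 12066],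
   .loop none [.fwd 16334],
   .loop none [.fwd 16331, .fwd 16317],
   .loop none [.bwd 12204, .bwd 16090],
   .loop none [.bwd 10889, .fwd 16092, .bwd 10413],
   .loop none [.bwd 16338],
   .loop none [.bwd 6182, .fwd 16092, .fwd 10575],
   .loop none [.fwd 16340],
   .loop none [.fwd 502, .fwd 16095, .bwd 4502],
   .loop none [.bwd 16342],
   .loop none [.fwd 4374, .bwd 16097],
   .loop none [.bwd 409, .bwd 16097],
   .loop none [.bwd 6023, .bwd 16097],
   .loop none [.bwd 436, .bwd 16099],
   .loop none [.fwd 4491, .bwd 16099],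
   .loop none [.bwd 4620, .fwd 16099, .bwd 9474],
   .loop none [.fwd 16349],
   .loop none [.bwd 4311, .fwd 16107, .bwd 10336],
   .loop none [.fwd 16351],
   .loop none [.fwd 9192, .bwd 16109],
   .loop none [.bwd 2527, .fwd 16109, .bwd 10618],
   .loop none [.fwd 16354],
   .loop none [.fwd 8679, .fwd 16109, .bwd 10925],
   .loop none [.fwd 16356],
   .loop none [.fwd 8311, .fwd 16111, .bwd 12023],
   .loop none [.fwd 16358],
   .loop none [.bwd 9371, .fwd 16111, .fwd 12963],
   .loop none [.bwd 16360],
   .loop none [.bwd 10342, .bwd 16113],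
   .loop none [.fwd 12704, .bwd 16113],
   .loop none [.bwd 10339, .bwd 16113],
   .loop none [.fwd 10886, .fwd 16116, .fwd 10371],
   .loop none [.bwd 16365],
   .loop none [.bwd 9370, .bwd 16118],
   .loop none [.bwd 11514, .bwd 16118],
   .loop none [.fwd 4627, .fwd 16118, .bwd 9876],
   .loop none [.fwd 16369],
   .loop none [.fwd 13633, .bwd 16123],
   .loop none [.fwd 9397, .fwd 16123, .bwd 13628],
   .loop none [.fwd 16372],
   .loop none [.fwd 16133, .fwd 16125],
   .loop none [.bwd 8765, .bwd 16374, .fwd 10120],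
   .loop none [.fwd 16375],
   .loop none [.bwd 8811, .fwd 16128, .fwd 11615],
   .loop none [.fwd 16377],
   .loop none [.fwd 9318, .fwd 16130, .bwd 8621],
   .loop none [.bwd 16379],
   .loop none [.bwd 8765, .fwd 16133, .bwd 9359],
   .loop none [.fwd 16381],
   .loop none [.fwd 8955, .bwd 16133],
   .loop none [.bwd 8956, .bwd 16133],
   .loop none [.bwd 9300, .bwd 16135],
   .loop none [.fwd 9183, .bwd 16135],
   .loop none [.bwd 9184, .bwd 16135],
   .loop none [.fwd 9202, .bwd 16135],
   .loop none [.bwd 10769, .bwd 16135],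
   .loop none [.bwd 8674, .bwd 16137],
   .loop none [.fwd 258, .fwd 16139, .fwd 4755],
   .loop none [.fwd 16391],
   .loop none [.bwd 4559, .fwd 16139, .fwd 10418],
   .loop none [.fwd 16393],
   .loop none [.bwd 2628, .fwd 16139, .bwd 4765],
   .loop none [.fwd 16395],
   .loop none [.bwd 4562, .fwd 16141, .fwd 9892],
   .loop none [.fwd 16397],
   .loop none [.fwd 265, .fwd 16143, .fwd 4713],
   .loop none [.bwd 16399],
   .loop none [.bwd 6288, .fwd 16145, .bwd 13271],
   .loop none [.fwd 16401],
   .loop none [.bwd 1898, .fwd 16147, .fwd 10360],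
   .loop none [.fwd 16403],
   .loop none [.fwd 10860, .bwd 16151],
   .loop none [.bwd 7176, .fwd 16151, .bwd 9521],
   .loop none [.fwd 16406],
   .loop none [.fwd 9660, .bwd 16153],
   .loop none [.fwd 11892, .fwd 16153, .bwd 9681],
   .loop none [.bwd 16409],
   .loop none [.fwd 4610, .bwd 16156],
   .loop none [.bwd 4611, .bwd 16156],
   .loop none [.fwd 4628, .bwd 16156],
   .loop none [.bwd 8365, .bwd 16156],
   .loop none [.fwd 9530, .bwd 16160],
   .loop none [.bwd 10797, .bwd 16160],
   .loop none [.fwd 12158, .bwd 16162],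
   .loop none [.fwd 12690, .bwd 16162],
   .loop none [.fwd 12691, .bwd 16162],
   .loop none [.fwd 4778, .fwd 16165, .bwd 4734],
   .loop none [.bwd 16420],
   .loop none [.fwd 6236, .fwd 16167, .bwd 10076],
   .loop none [.fwd 16422],
   .loop none [.bwd 10960, .bwd 16170],
   .loop none [.fwd 10095, .bwd 16172],
   .loop none [.bwd 9910, .fwd 16174, .fwd 11528],
   .loop none [.fwd 16426],
   .loop none [.bwd 7176, .fwd 16174, .bwd 13698],
   .loop none [.fwd 16428],
   .loop none [.bwd 8300, .fwd 16174, .fwd 13700],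
   .loop none [.fwd 16430],
   .loop none [.bwd 8247, .fwd 16176, .fwd 13333],
   .loop none [.fwd 16432],
   .loop none [.bwd 10795, .bwd 16176],
   .loop none [.fwd 10193, .fwd 16176, .bwd 13329],
   .loop none [.bwd 16435],
   .loop none [.fwd 9684, .fwd 16189],
   .loop none [.bwd 9685, .fwd 16189],
   .loop none [.fwd 10792, .fwd 16189],
   .loop none [.fwd 9691, .fwd 16189],
   .loop none [.fwd 9728, .fwd 16189],
   .loop none [.fwd 16272, .fwd 13649, .bwd 16180],
   .loop none [.bwd 11090, .fwd 16197],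
   .loop none [.bwd 9406, .bwd 16184],
   .loop none [.fwd 13723, .fwd 16184, .bwd 13360],
   .loop none [.bwd 16445],
   .loop none [.fwd 9405, .bwd 16184],
   .loop none [.bwd 4686, .fwd 16184, .bwd 9840],
   .loop none [.fwd 16448],
   .loop none [.bwd 12885, .bwd 16184],
   .loop none [.fwd 11043, .bwd 16184],
   .loop none [.bwd 8247, .fwd 16186, .bwd 8915],
   .loop none [.fwd 16452],
   .loop none [.bwd 4180, .fwd 16186, .bwd 7281],
   .loop none [.bwd 16454],
   .loop none [.bwd 16434, .fwd 16186, .fwd 8600],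
   .loop none [.bwd 16456],
   .loop none [.bwd 10132, .fwd 16186, .fwd 10192],
   .loop none [.bwd 16458],
   .loop none [.fwd 9665, .bwd 16191],
   .loop none [.bwd 16443, .fwd 16191, .bwd 9699],
   .loop none [.bwd 16461],
   .loop none [.fwd 8919, .bwd 16191],
   .loop none [.fwd 10475, .bwd 16191],
   .loop none [.fwd 13798, .bwd 16193],
   .loop none [.bwd 10599, .bwd 16195],
   .loop none [.bwd 8921, .bwd 16195],
   .loop none [.fwd 10503, .bwd 16195],
   .loop none [.fwd 9403, .bwd 16199],
   .loop none [.fwd 11606, .bwd 16199],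
   .loop none [.fwd 4656, .fwd 16199, .fwd 9890],
   .loop none [.fwd 16471],
   .loop none [.bwd 9404, .bwd 16199],
   .loop none [.bwd 7048, .fwd 16203, .fwd 7500],
   .loop none [.fwd 16474],
   .loop none [.bwd 15976, .fwd 16203, .fwd 3226],
   .loop none [.fwd 16476],
   .loop none [.bwd 9402, .fwd 16205, .bwd 11230],
   .loop none [.fwd 16478],
   .loop none [.bwd 11231, .bwd 16205],
   .loop none [.fwd 12489, .fwd 16205, .fwd 13618],
   .loop none [.fwd 16481],
   .loop none [.fwd 13500, .fwd 16255],
   .loop none [.fwd 13526, .fwd 16255],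
   .loop none [.fwd 3340, .fwd 16209, .bwd 12243],
   .loop none [.fwd 16485],
   .loop none [.fwd 7543, .fwd 16211, .fwd 11684],
   .loop none [.fwd 16487],
   .loop none [.bwd 7285, .fwd 16213, .bwd 13868],
   .loop none [.fwd 16489],
   .loop none [.fwd 7300, .fwd 16215, .fwd 5757],
   .loop none [.fwd 16491],
   .loop none [.fwd 3340, .fwd 16217, .bwd 13891],
   .loop none [.fwd 16493],
   .loop none [.fwd 7576, .fwd 16219, .fwd 2785],
   .loop none [.bwd 16495],
   .loop none [.fwd 3243, .fwd 16221, .bwd 13881],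
   .loop none [.fwd 16497],
   .loop none [.bwd 7652, .fwd 16223, .bwd 13854]]

theorem just65_len : just65.length = 250 := by decide +kernel

theorem just65_ok : cert.okFacts 16250 just65 = true := by decide +kernel

/-- justifications -/
noncomputable def just66 : List Cert.Just :=
  [.loop none [.fwd 16499],
   .loop none [.fwd 2853, .fwd 16225, .fwd 11663],
   .loop none [.fwd 16501],
   .loop none [.fwd 7654, .fwd 16225, .bwd 13757],
   .loop none [.fwd 16503],
   .loop none [.fwd 7650, .fwd 16227, .bwd 5723],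
   .loop none [.fwd 16505],
   .loop none [.bwd 12966, .bwd 16229],
   .loop none [.bwd 4124, .fwd 16229, .fwd 9504],
   .loop none [.fwd 16508],
   .loop none [.bwd 12964, .bwd 16229],
   .loop none [.fwd 6319, .fwd 16232, .fwd 10878],
   .loop none [.fwd 16511],
   .loop none [.fwd 6493, .fwd 16232, .fwd 10702],
   .loop none [.fwd 16513],
   .loop none [.fwd 622, .fwd 16232, .bwd 9050],
   .loop none [.fwd 16515],
   .loop none [.fwd 10343, .bwd 16234],
   .loop none [.bwd 10347, .bwd 16234],
   .loop none [.fwd 9690, .bwd 16236],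
   .loop none [.fwd 11906, .fwd 16236, .bwd 9748],
   .loop none [.bwd 16520],
   .loop none [.fwd 11673, .fwd 16239, .bwd 13944],
   .loop none [.fwd 16522],
   .loop none [.fwd 9127, .fwd 16241, .bwd 13352],
   .loop none [.fwd 16524],
   .loop none [.fwd 4174, .bwd 16243],
   .loop none [.fwd 3837, .fwd 16243, .bwd 7755],
   .loop none [.bwd 16527],
   .loop none [.fwd 7386, .bwd 16243],
   .loop none [.bwd 7801, .bwd 16243],
   .loop none [.fwd 11673, .fwd 16245, .bwd 13643],
   .loop none [.bwd 16531],
   .loop none [.bwd 12599, .fwd 16245, .fwd 13634],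
   .loop none [.bwd 16533],
   .loop none [.fwd 10194, .fwd 16245, .bwd 13655],
   .loop none [.fwd 16535],
   .loop none [.fwd 10859, .bwd 16247],
   .loop none [.bwd 3827, .fwd 16247, .bwd 13180],
   .loop none [.fwd 16538],
   .loop none [.fwd 10574, .bwd 16247],
   .loop none [.fwd 16525, .fwd 13336, .bwd 16249],
   .loop none [.fwd 4078, .fwd 16249, .bwd 12586],
   .loop none [.bwd 16542],
   .loop none [.bwd 8070, .fwd 16249, .fwd 12627],
   .loop none [.fwd 16544],
   .loop none [.fwd 11308, .fwd 16252, .bwd 13181],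
   .loop none [.bwd 16546],
   .loop none [.bwd 13511, .bwd 16254],
   .loop none [.fwd 9200, .bwd 16258],
   .loop none [.fwd 10377, .bwd 16260],
   .loop none [.fwd 10378, .bwd 16262],
   .loop none [.bwd 5187, .fwd 16264, .fwd 11269],
   .loop none [.fwd 16552],
   .loop none [.bwd 2478, .fwd 16268, .bwd 10734],
   .loop none [.fwd 16554],
   .loop none [.fwd 2797, .fwd 16270, .bwd 13374],
   .loop none [.fwd 16556],
   .loop none [.fwd 3296, .fwd 16272, .bwd 13372],
   .loop none [.fwd 16558],
   .loop none [.fwd 8329, .fwd 16274, .bwd 12855],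
   .loop none [.fwd 16560],
   .loop none [.fwd 8297, .fwd 16276, .fwd 10416],
   .loop none [.bwd 16562],
   .loop none [.fwd 10826, .bwd 16278],
   .loop none [.fwd 7331, .fwd 16278, .fwd 9376],
   .loop none [.fwd 16565],
   .loop none [.bwd 3700, .fwd 16281, .fwd 10354],
   .loop none [.fwd 16567],
   .loop none [.bwd 8316, .fwd 16283, .bwd 10975],
   .loop none [.fwd 16569],
   .loop none [.bwd 9650, .bwd 16285],
   .loop none [.bwd 8346, .fwd 16285, .fwd 9838],
   .loop none [.fwd 16572],
   .loop none [.bwd 4684, .fwd 16285, .bwd 9839],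
   .loop none [.fwd 16574],
   .loop none [.bwd 6211, .fwd 16287, .bwd 10140],
   .loop none [.fwd 16576],
   .loop none [.bwd 6297, .bwd 16289],
   .loop none [.bwd 6299, .bwd 16289],
   .loop none [.bwd 4367, .fwd 16289, .fwd 9610],
   .loop none [.fwd 16580],
   .loop none [.bwd 11999, .bwd 16291],
   .loop none [.bwd 10880, .bwd 16296],
   .loop none [.bwd 8351, .fwd 16296, .fwd 11161],
   .loop none [.bwd 16584],
   .loop none [.fwd 4688, .fwd 16296, .fwd 11129],
   .loop none [.fwd 16586],
   .loop none [.bwd 8316, .fwd 16298, .fwd 10435],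
   .loop none [.bwd 16588],
   .loop none [.bwd 9333, .fwd 16298, .bwd 12064],
   .loop none [.fwd 16590],
   .loop none [.fwd 5375, .fwd 16300, .fwd 5395],
   .loop none [.fwd 16592],
   .loop none [.fwd 8597, .bwd 16300],
   .loop none [.fwd 13799, .bwd 16302],
   .loop none [.bwd 5706, .fwd 16305, .fwd 11455],
   .loop none [.fwd 16596],
   .loop none [.bwd 12968, .bwd 16305],
   .loop none [.fwd 16326, .fwd 16311],
   .loop none [.bwd 12833, .bwd 16599, .bwd 9735],
   .loop none [.bwd 16600],
   .loop none [.bwd 10865, .fwd 16599],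
   .loop none [.bwd 8735, .fwd 16313, .bwd 9676],
   .loop none [.fwd 16603],
   .loop none [.bwd 9252, .bwd 16315],
   .loop none [.bwd 9262, .bwd 16315],
   .loop none [.fwd 9295, .bwd 16315],
   .loop none [.bwd 11413, .fwd 16336],
   .loop none [.fwd 6237, .fwd 16320, .fwd 9197],
   .loop none [.fwd 16609],
   .loop none [.bwd 2929, .fwd 16320, .bwd 10616],
   .loop none [.fwd 16611],
   .loop none [.bwd 9199, .bwd 16322],
   .loop none [.bwd 10374, .fwd 16322, .bwd 9854],
   .loop none [.bwd 16614],
   .loop none [.bwd 9800, .bwd 16322],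
   .loop none [.bwd 4624, .fwd 16322, .bwd 9867],
   .loop none [.fwd 16617],
   .loop none [.bwd 12738, .bwd 16322],
   .loop none [.bwd 4264, .fwd 16324, .bwd 10916],
   .loop none [.fwd 16620],
   .loop none [.fwd 6100, .bwd 16324],
   .loop none [.bwd 9873, .bwd 16324],
   .loop none [.bwd 8420, .bwd 16324],
   .loop none [.fwd 5612, .fwd 16326, .bwd 12092],
   .loop none [.fwd 16625],
   .loop none [.fwd 16601, .bwd 12833, .fwd 16326, .fwd 8694],
   .loop none [.bwd 16627],
   .loop none [.fwd 9229, .bwd 16331],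
   .loop none [.bwd 16608, .fwd 16331, .bwd 9265],
   .loop none [.bwd 16630],
   .loop none [.fwd 9166, .bwd 16331],
   .loop none [.fwd 9297, .bwd 16331],
   .loop none [.bwd 9258, .bwd 16333],
   .loop none [.bwd 9294, .bwd 16333],
   .loop none [.bwd 9296, .bwd 16333],
   .loop none [.bwd 9231, .bwd 16333],
   .loop none [.fwd 9230, .bwd 16333],
   .loop none [.fwd 10151, .bwd 16333],
   .loop none [.fwd 12065, .bwd 16335],
   .loop none [.fwd 10889, .bwd 16339],
   .loop none [.bwd 8356, .fwd 16339, .fwd 11257],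
   .loop none [.fwd 16642],
   .loop none [.fwd 11226, .bwd 16339],
   .loop none [.bwd 10890, .bwd 16339],
   .loop none [.fwd 8314, .fwd 16341, .fwd 10440],
   .loop none [.fwd 16646],
   .loop none [.fwd 4425, .fwd 16341, .bwd 9075],
   .loop none [.fwd 16648],
   .loop none [.bwd 502, .bwd 16343],
   .loop none [.fwd 529, .bwd 16343],
   .loop none [.bwd 9859, .bwd 16350],
   .loop none [.fwd 8816, .bwd 16350],
   .loop none [.bwd 10335, .bwd 16352],
   .loop none [.fwd 9571, .bwd 16352],
   .loop none [.bwd 6428, .fwd 16352, .fwd 10337],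
   .loop none [.fwd 16656],
   .loop none [.fwd 7246, .fwd 16355, .fwd 9574],
   .loop none [.fwd 16658],
   .loop none [.fwd 13291, .bwd 16357],
   .loop none [.fwd 12970, .bwd 16359],
   .loop none [.fwd 10200, .bwd 16361],
   .loop none [.fwd 10262, .bwd 16361],
   .loop none [.bwd 10302, .bwd 16361],
   .loop none [.bwd 10886, .bwd 16366],
   .loop none [.bwd 11195, .bwd 16366],
   .loop none [.bwd 10891, .bwd 16366],
   .loop none [.fwd 11194, .bwd 16366],
   .loop none [.bwd 9328, .bwd 16370],
   .loop none [.fwd 9909, .bwd 16370],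
   .loop none [.fwd 16459, .fwd 16373],
   .loop none [.fwd 10306, .bwd 16671, .bwd 13807],
   .loop none [.fwd 16672],
   .loop none [.bwd 10190, .bwd 16671, .bwd 12624],
   .loop none [.bwd 16674],
   .loop none [.bwd 9206, .bwd 16671, .bwd 12224, .bwd 16545],
   .loop none [.bwd 16676],
   .loop none [.bwd 12761, .fwd 16671],
   .loop none [.bwd 10215, .fwd 16376, .fwd 13407],
   .loop none [.fwd 16679],
   .loop none [.fwd 10146, .fwd 16376, .fwd 13464],
   .loop none [.fwd 16681],
   .loop none [.fwd 9165, .fwd 16378, .bwd 13465, .bwd 16682],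
   .loop none [.fwd 16683],
   .loop none [.bwd 9318, .bwd 16380],
   .loop none [.bwd 11441, .bwd 16380],
   .loop none [.fwd 11448, .bwd 16380],
   .loop none [.fwd 11446, .bwd 16380],
   .loop none [.bwd 10215, .fwd 16382, .bwd 10210],
   .loop none [.bwd 16689],
   .loop none [.bwd 10079, .bwd 16382],
   .loop none [.fwd 4436, .fwd 16392, .fwd 4724],
   .loop none [.fwd 16692],
   .loop none [.bwd 10936, .fwd 16394, .bwd 13515],
   .loop none [.fwd 16694],
   .loop none [.bwd 6156, .bwd 16396],
   .loop none [.fwd 13728, .fwd 16398, .fwd 12849],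
   .loop none [.bwd 16697],
   .loop none [.bwd 4473, .bwd 16400],
   .loop none [.bwd 265, .bwd 16400],
   .loop none [.fwd 4421, .bwd 16400],
   .loop none [.fwd 4464, .fwd 16400, .bwd 4485],
   .loop none [.bwd 16702],
   .loop none [.fwd 2543, .fwd 16402, .bwd 13280],
   .loop none [.fwd 16704],
   .loop none [.bwd 10163, .bwd 16404],
   .loop none [.fwd 10243, .bwd 16407],
   .loop none [.fwd 4140, .fwd 16407, .bwd 9520],
   .loop none [.fwd 16708],
   .loop none [.fwd 11891, .bwd 16410],
   .loop none [.bwd 12037, .bwd 16410],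
   .loop none [.bwd 12039, .bwd 16410],
   .loop none [.bwd 12029, .bwd 16410],
   .loop none [.bwd 11892, .bwd 16410],
   .loop none [.fwd 12033, .bwd 16410],
   .loop none [.bwd 6146, .bwd 16421],
   .loop none [.bwd 4778, .bwd 16421],
   .loop none [.fwd 11390, .fwd 16421, .bwd 7949],
   .loop none [.bwd 16718],
   .loop none [.bwd 10365, .fwd 16423, .bwd 7952],
   .loop none [.bwd 16720],
   .loop none [.fwd 8839, .fwd 16427, .bwd 13703],
   .loop none [.bwd 16722],
   .loop none [.fwd 4140, .fwd 16429, .bwd 12477],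
   .loop none [.bwd 16724],
   .loop none [.fwd 16371, .bwd 16431],
   .loop none [.fwd 10188, .fwd 16433, .fwd 12193],
   .loop none [.fwd 16727],
   .loop none [.bwd 8068, .fwd 16433, .fwd 12628],
   .loop none [.fwd 16729],
   .loop none [.fwd 8120, .fwd 16433, .bwd 12593],
   .loop none [.fwd 16731],
   .loop none [.bwd 9595, .bwd 16436],
   .loop none [.fwd 10501, .bwd 16436],
   .loop none [.bwd 10193, .bwd 16436],
   .loop none [.bwd 13723, .bwd 16446],
   .loop none [.bwd 9689, .bwd 16449],
   .loop none [.bwd 11072, .bwd 16449],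
   .loop none [.bwd 11082, .bwd 16449],
   .loop none [.fwd 11079, .bwd 16449],
   .loop none [.fwd 10188, .fwd 16453, .fwd 10251],
   .loop none [.fwd 16741],
   .loop none [.fwd 4076, .fwd 16453, .fwd 10142],
   .loop none [.bwd 16743],
   .loop none [.fwd 16730, .fwd 16675],
   .loop none [.fwd 4180, .bwd 16455],
   .loop none [.bwd 4181, .bwd 16455],
   .loop none [.fwd 16434, .bwd 16457],
   .loop none [.bwd 9397, .bwd 16459]]

theorem just66_len : just66.length = 250 := by decide +kernel

theorem just66_ok : cert.okFacts 16500 just66 = true := by decide +kernel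

/-- justifications -/
noncomputable def just67 : List Cert.Just :=
  [.loop none [.fwd 16443, .bwd 16462],
   .loop none [.fwd 9698, .fwd 16462, .fwd 11091],
   .loop none [.fwd 16751],
   .loop none [.bwd 9138, .bwd 16472],
   .loop none [.fwd 10376, .bwd 16472],
   .loop none [.bwd 11332, .bwd 16472],
   .loop none [.fwd 16016, .fwd 16475, .fwd 14686],
   .loop none [.fwd 16756],
   .loop none [.bwd 3687, .fwd 16477, .fwd 3227],
   .loop none [.bwd 16758],
   .loop none [.bwd 11548, .fwd 16479, .fwd 11637],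
   .loop none [.fwd 16760],
   .loop none [.fwd 11551, .fwd 16482, .bwd 11640],
   .loop none [.fwd 16762],
   .loop none [.fwd 16484, .bwd 16486],
   .loop none [.fwd 3058, .fwd 16488, .fwd 11685],
   .loop none [.fwd 16765],
   .loop none [.bwd 7729, .fwd 16490, .bwd 13867],
   .loop none [.fwd 16767],
   .loop none [.fwd 3006, .fwd 16492, .fwd 5758],
   .loop none [.fwd 16769],
   .loop none [.bwd 7609, .fwd 16494, .bwd 13890],
   .loop none [.fwd 16771],
   .loop none [.bwd 7753, .bwd 16496],
   .loop none [.bwd 13814, .fwd 16496, .fwd 7575],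
   .loop none [.bwd 16774],
   .loop none [.bwd 7576, .bwd 16496],
   .loop none [.bwd 2786, .fwd 16496, .bwd 3116],
   .loop none [.fwd 16777],
   .loop none [.fwd 7611, .bwd 16496],
   .loop none [.bwd 7752, .bwd 16496],
   .loop none [.fwd 7613, .bwd 16496],
   .loop none [.fwd 7845, .fwd 16498, .bwd 13880],
   .loop none [.fwd 16782],
   .loop none [.bwd 2855, .fwd 16500, .bwd 13853],
   .loop none [.fwd 16784],
   .loop none [.fwd 7680, .fwd 16502, .fwd 11664],
   .loop none [.fwd 16786],
   .loop none [.fwd 7681, .fwd 16502, .bwd 13758],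
   .loop none [.fwd 16788],
   .loop none [.fwd 11471, .fwd 16504, .bwd 9556],
   .loop none [.bwd 16790],
   .loop none [.fwd 16791, .fwd 11471, .fwd 16506, .bwd 5722],
   .loop none [.bwd 16792],
   .loop none [.bwd 4125, .fwd 16509, .fwd 9505],
   .loop none [.fwd 16794],
   .loop none [.fwd 4565, .fwd 16512, .fwd 12769],
   .loop none [.fwd 16796],
   .loop none [.fwd 7735, .fwd 16514, .fwd 10432],
   .loop none [.fwd 16798],
   .loop none [.bwd 6416, .fwd 16516, .bwd 10800],
   .loop none [.fwd 16800],
   .loop none [.fwd 12002, .bwd 16521],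
   .loop none [.bwd 11906, .bwd 16521],
   .loop none [.fwd 12006, .bwd 16521],
   .loop none [.bwd 13017, .bwd 16521],
   .loop none [.fwd 12703, .bwd 16521],
   .loop none [.fwd 16532, .fwd 16523],
   .loop none [.bwd 3649, .bwd 16807, .bwd 13943],
   .loop none [.fwd 16808],
   .loop none [.fwd 10203, .fwd 16525, .fwd 11716],
   .loop none [.fwd 16810],
   .loop none [.bwd 2967, .fwd 16528, .bwd 3836],
   .loop none [.fwd 16812],
   .loop none [.bwd 3837, .bwd 16528],
   .loop none [.bwd 3649, .fwd 16532, .bwd 12725],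
   .loop none [.fwd 16815],
   .loop none [.bwd 11673, .bwd 16532],
   .loop none [.fwd 3648, .fwd 16532, .fwd 12757],
   .loop none [.fwd 16818],
   .loop none [.bwd 8113, .fwd 16532, .fwd 13695],
   .loop none [.fwd 16820],
   .loop none [.fwd 8065, .fwd 16532, .bwd 12758],
   .loop none [.fwd 16822],
   .loop none [.fwd 11516, .bwd 16534],
   .loop none [.bwd 11517, .bwd 16534],
   .loop none [.fwd 12301, .bwd 16534],
   .loop none [.fwd 12599, .bwd 16534],
   .loop none [.fwd 13651, .bwd 16536],
   .loop none [.bwd 13736, .fwd 16539, .bwd 13550],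
   .loop none [.bwd 16829],
   .loop none [.bwd 4078, .bwd 16543],
   .loop none [.fwd 4077, .bwd 16543],
   .loop none [.bwd 8117, .fwd 16543, .fwd 8069],
   .loop none [.bwd 16833],
   .loop none [.bwd 11308, .bwd 16547],
   .loop none [.fwd 10938, .fwd 16547, .bwd 13203],
   .loop none [.fwd 16836],
   .loop none [.bwd 12937, .bwd 16547],
   .loop none [.fwd 3800, .fwd 16553, .fwd 11270],
   .loop none [.fwd 16839],
   .loop none [.fwd 16793, .fwd 16791],
   .loop none [.bwd 10485, .bwd 16555],
   .loop none [.fwd 7380, .fwd 16555, .fwd 9144],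
   .loop none [.fwd 16843],
   .loop none [.fwd 2796, .fwd 16557, .bwd 13419],
   .loop none [.fwd 16845],
   .loop none [.fwd 13463, .bwd 16559],
   .loop none [.fwd 3295, .fwd 16559, .bwd 13413],
   .loop none [.fwd 16848],
   .loop none [.bwd 16661, .fwd 16561, .bwd 12134],
   .loop none [.fwd 16850],
   .loop none [.bwd 8297, .bwd 16563],
   .loop none [.bwd 8256, .bwd 16563],
   .loop none [.bwd 12737, .bwd 16566],
   .loop none [.fwd 2902, .fwd 16566, .fwd 9377],
   .loop none [.fwd 16855],
   .loop none [.bwd 10355, .bwd 16568],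
   .loop none [.fwd 9141, .bwd 16568],
   .loop none [.fwd 16628, .fwd 16601],
   .loop none [.fwd 16589, .fwd 16570],
   .loop none [.bwd 4194, .bwd 16860, .bwd 10974],
   .loop none [.fwd 16861],
   .loop none [.fwd 6210, .bwd 16573],
   .loop none [.fwd 8091, .bwd 16573],
   .loop none [.bwd 9836, .bwd 16575],
   .loop none [.fwd 12236, .bwd 16577],
   .loop none [.bwd 9941, .bwd 16581],
   .loop none [.fwd 8351, .bwd 16585],
   .loop none [.fwd 8232, .fwd 16585, .bwd 11158],
   .loop none [.fwd 16869],
   .loop none [.fwd 4737, .bwd 16585],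
   .loop none [.fwd 8343, .bwd 16585],
   .loop none [.bwd 9746, .bwd 16587],
   .loop none [.fwd 12709, .bwd 16587],
   .loop none [.fwd 11133, .bwd 16587],
   .loop none [.fwd 11126, .bwd 16587],
   .loop none [.fwd 8316, .bwd 16589],
   .loop none [.bwd 8334, .bwd 16589],
   .loop none [.fwd 4506, .bwd 16589],
   .loop none [.fwd 8326, .bwd 16589],
   .loop none [.fwd 12766, .bwd 16591],
   .loop none [.fwd 7398, .bwd 16593],
   .loop none [.fwd 8545, .bwd 16593],
   .loop none [.bwd 5707, .fwd 16597, .fwd 11456],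
   .loop none [.fwd 16884],
   .loop none [.fwd 12833, .fwd 16859],
   .loop none [.bwd 10030, .bwd 16859, .fwd 11808],
   .loop none [.fwd 16887],
   .loop none [.fwd 16602, .bwd 16604],
   .loop none [.bwd 10368, .fwd 16610, .bwd 10078],
   .loop none [.bwd 16890],
   .loop none [.fwd 2493, .fwd 16612, .fwd 8934],
   .loop none [.fwd 16892],
   .loop none [.bwd 7959, .fwd 16615, .fwd 9544],
   .loop none [.fwd 16894],
   .loop none [.fwd 10374, .bwd 16615],
   .loop none [.bwd 9256, .bwd 16618],
   .loop none [.bwd 11223, .bwd 16618],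
   .loop none [.fwd 13160, .bwd 16621],
   .loop none [.bwd 10269, .fwd 16621, .bwd 10915],
   .loop none [.fwd 16900],
   .loop none [.bwd 4265, .fwd 16621, .bwd 11041],
   .loop none [.fwd 16902],
   .loop none [.bwd 10268, .fwd 16621, .bwd 13494],
   .loop none [.fwd 16904],
   .loop none [.bwd 13316, .bwd 16621],
   .loop none [.bwd 12889, .bwd 16621],
   .loop none [.bwd 12898, .bwd 16626],
   .loop none [.fwd 5611, .fwd 16626, .bwd 12091],
   .loop none [.fwd 16909],
   .loop none [.fwd 16608, .bwd 16631],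
   .loop none [.fwd 9264, .fwd 16631, .fwd 11414],
   .loop none [.fwd 16912],
   .loop none [.fwd 4728, .fwd 16643, .bwd 8389],
   .loop none [.bwd 16914],
   .loop none [.fwd 8291, .bwd 16643],
   .loop none [.fwd 4460, .fwd 16647, .bwd 4747],
   .loop none [.fwd 16917],
   .loop none [.fwd 8383, .bwd 16647],
   .loop none [.fwd 10548, .bwd 16649],
   .loop none [.fwd 10124, .bwd 16657],
   .loop none [.fwd 10125, .bwd 16657],
   .loop none [.fwd 12468, .bwd 16659],
   .loop none [.fwd 1913, .fwd 16659, .fwd 9575],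
   .loop none [.fwd 16924],
   .loop none [.fwd 4328, .fwd 16673, .bwd 12750],
   .loop none [.bwd 16926],
   .loop none [.fwd 12594, .bwd 16745, .bwd 8950],
   .loop none [.bwd 16928],
   .loop none [.bwd 3652, .bwd 16745, .bwd 10254],
   .loop none [.fwd 16930],
   .loop none [.bwd 10191, .bwd 16677],
   .loop none [.fwd 9206, .bwd 16677],
   .loop none [.fwd 16690, .fwd 16680],
   .loop none [.bwd 7973, .bwd 16934, .fwd 12142],
   .loop none [.fwd 16935],
   .loop none [.fwd 16725, .fwd 16709],
   .loop none [.fwd 10130, .bwd 16684],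
   .loop none [.fwd 10764, .fwd 16684, .fwd 10577],
   .loop none [.fwd 16939],
   .loop none [.fwd 9886, .bwd 16684],
   .loop none [.bwd 7973, .fwd 16690, .bwd 9123],
   .loop none [.fwd 16942],
   .loop none [.bwd 4772, .fwd 16693, .fwd 4725],
   .loop none [.bwd 16944],
   .loop none [.fwd 8321, .bwd 16693],
   .loop none [.fwd 11233, .bwd 16695],
   .loop none [.fwd 13516, .bwd 16695],
   .loop none [.bwd 13735, .bwd 16698],
   .loop none [.bwd 11584, .bwd 16698],
   .loop none [.bwd 13728, .bwd 16698],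
   .loop none [.bwd 13730, .bwd 16698],
   .loop none [.bwd 4464, .bwd 16703],
   .loop none [.bwd 13120, .bwd 16705],
   .loop none [.fwd 2542, .fwd 16705, .fwd 9107],
   .loop none [.fwd 16955],
   .loop none [.bwd 8277, .bwd 16937, .fwd 10867],
   .loop none [.fwd 16957],
   .loop none [.bwd 11390, .bwd 16719],
   .loop none [.fwd 10367, .bwd 16721],
   .loop none [.fwd 13731, .bwd 16723],
   .loop none [.bwd 3291, .fwd 16723, .bwd 8838],
   .loop none [.fwd 16962],
   .loop none [.bwd 8839, .bwd 16723],
   .loop none [.fwd 3290, .fwd 16723, .bwd 10167],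
   .loop none [.fwd 16965],
   .loop none [.bwd 8274, .fwd 16723, .fwd 10569],
   .loop none [.fwd 16967],
   .loop none [.bwd 4140, .bwd 16725],
   .loop none [.bwd 12728, .fwd 16728, .fwd 12194],
   .loop none [.fwd 16970],
   .loop none [.fwd 16929, .bwd 13394, .fwd 16728, .fwd 12625],
   .loop none [.bwd 16972],
   .loop none [.fwd 12722, .fwd 16728, .bwd 12584],
   .loop none [.bwd 16974],
   .loop none [.fwd 16973, .fwd 16929],
   .loop none [.fwd 4182, .bwd 16732],
   .loop none [.fwd 16819, .bwd 9433, .fwd 16742, .bwd 9590],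
   .loop none [.fwd 16978],
   .loop none [.bwd 12630, .fwd 16744, .bwd 4075],
   .loop none [.bwd 16980],
   .loop none [.bwd 4076, .bwd 16744],
   .loop none [.bwd 8067, .bwd 16744],
   .loop none [.bwd 13326, .fwd 16752, .fwd 11092],
   .loop none [.fwd 16984],
   .loop none [.fwd 5355, .fwd 16757, .bwd 13906],
   .loop none [.fwd 16986],
   .loop none [.bwd 4844, .fwd 16757, .fwd 14688],
   .loop none [.bwd 16988],
   .loop none [.bwd 3688, .bwd 16759],
   .loop none [.fwd 4839, .bwd 16759],
   .loop none [.bwd 4026, .bwd 16759],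
   .loop none [.fwd 3687, .bwd 16759],
   .loop none [.bwd 4305, .bwd 16759],
   .loop none [.bwd 4306, .bwd 16759],
   .loop none [.fwd 4882, .bwd 16759],
   .loop none [.fwd 13752, .bwd 16761],
   .loop none [.bwd 13619, .bwd 16763],
   .loop none [.fwd 7792, .fwd 16766, .fwd 11686]]

theorem just67_len : just67.length = 250 := by decide +kernel

theorem just67_ok : cert.okFacts 16750 just67 = true := by decide +kernel

/-- justifications -/
noncomputable def just68 : List Cert.Just :=
  [.loop none [.fwd 16999],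
   .loop none [.bwd 3008, .fwd 16768, .bwd 13866],
   .loop none [.fwd 17001],
   .loop none [.fwd 7727, .fwd 16770, .fwd 5759],
   .loop none [.fwd 17003],
   .loop none [.bwd 14651, .bwd 16772],
   .loop none [.bwd 3118, .fwd 16772, .bwd 13889],
   .loop none [.fwd 17006],
   .loop none [.fwd 7905, .fwd 16772, .fwd 14652],
   .loop none [.bwd 17008],
   .loop none [.fwd 13814, .bwd 16775],
   .loop none [.fwd 10062, .fwd 16775, .fwd 12212],
   .loop none [.fwd 17011],
   .loop none [.fwd 7687, .bwd 16778],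
   .loop none [.fwd 3115, .bwd 16778],
   .loop none [.bwd 7748, .bwd 16778],
   .loop none [.bwd 7605, .bwd 16778],
   .loop none [.fwd 7749, .bwd 16778],
   .loop none [.bwd 3060, .fwd 16783, .bwd 13879],
   .loop none [.fwd 17018],
   .loop none [.bwd 7694, .fwd 16785, .bwd 13852],
   .loop none [.fwd 17020],
   .loop none [.fwd 3024, .fwd 16787, .fwd 11665],
   .loop none [.fwd 17022],
   .loop none [.bwd 3951, .fwd 16789, .fwd 11376],
   .loop none [.fwd 17024],
   .loop none [.fwd 12665, .fwd 16841],
   .loop none [.fwd 5721, .bwd 16841, .bwd 11470],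
   .loop none [.fwd 17027],
   .loop none [.bwd 11471, .fwd 16841],
   .loop none [.fwd 12400, .fwd 16841],
   .loop none [.fwd 12481, .fwd 16841],
   .loop none [.bwd 12401, .fwd 16841],
   .loop none [.bwd 12359, .fwd 16841],
   .loop none [.fwd 12483, .fwd 16841],
   .loop none [.bwd 4126, .fwd 16795, .fwd 9506],
   .loop none [.fwd 17035],
   .loop none [.bwd 11907, .fwd 16797, .bwd 12714],
   .loop none [.bwd 17037],
   .loop none [.fwd 10707, .bwd 16799],
   .loop none [.fwd 1982, .fwd 16801, .fwd 9339],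
   .loop none [.fwd 17040],
   .loop none [.fwd 13942, .bwd 16809],
   .loop none [.bwd 10204, .fwd 16811, .fwd 11717],
   .loop none [.fwd 17043],
   .loop none [.fwd 12476, .bwd 16811],
   .loop none [.bwd 7760, .fwd 16813, .bwd 3835],
   .loop none [.fwd 17046],
   .loop none [.bwd 7757, .fwd 16813, .bwd 10175],
   .loop none [.fwd 17048],
   .loop none [.fwd 9431, .bwd 16816],
   .loop none [.bwd 17042, .fwd 16816, .fwd 9432],
   .loop none [.bwd 17051],
   .loop none [.bwd 8115, .fwd 16816, .fwd 12597],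
   .loop none [.fwd 17053],
   .loop none [.bwd 13396, .bwd 16819],
   .loop none [.fwd 9433, .bwd 16819],
   .loop none [.bwd 9434, .bwd 16819],
   .loop none [.fwd 3647, .fwd 16819, .bwd 11365],
   .loop none [.fwd 17058],
   .loop none [.bwd 13325, .bwd 16819],
   .loop none [.bwd 8111, .fwd 16819, .fwd 12905],
   .loop none [.fwd 17061],
   .loop none [.fwd 8064, .fwd 16819, .bwd 10242],
   .loop none [.fwd 17063],
   .loop none [.fwd 13694, .bwd 16821],
   .loop none [.bwd 13789, .bwd 16823],
   .loop none [.bwd 11784, .bwd 16823],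
   .loop none [.fwd 13736, .bwd 16830],
   .loop none [.fwd 13625, .bwd 16830],
   .loop none [.bwd 3715, .bwd 16834],
   .loop none [.fwd 8117, .bwd 16834],
   .loop none [.bwd 10984, .bwd 16837],
   .loop none [.fwd 12566, .bwd 16837],
   .loop none [.fwd 17031, .fwd 16840, .fwd 11271],
   .loop none [.fwd 17074],
   .loop none [.fwd 12716, .bwd 16844],
   .loop none [.fwd 2023, .fwd 16844, .fwd 9145],
   .loop none [.fwd 17077],
   .loop none [.fwd 2795, .fwd 16846, .fwd 4324],
   .loop none [.fwd 17079],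
   .loop none [.bwd 13420, .bwd 16846],
   .loop none [.bwd 12348, .fwd 16846, .bwd 4323],
   .loop none [.bwd 17082],
   .loop none [.bwd 7969, .bwd 16846],
   .loop none [.bwd 7971, .bwd 16849],
   .loop none [.bwd 5200, .fwd 16851, .bwd 12133],
   .loop none [.fwd 17086],
   .loop none [.fwd 16870, .fwd 12854, .bwd 16851],
   .loop none [.fwd 16918, .bwd 12787, .bwd 16851],
   .loop none [.fwd 12732, .bwd 16851],
   .loop none [.bwd 9378, .bwd 16856],
   .loop none [.fwd 8232, .fwd 16862, .bwd 10973],
   .loop none [.fwd 17092],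
   .loop none [.bwd 4064, .fwd 16870, .bwd 11157],
   .loop none [.fwd 17094],
   .loop none [.fwd 7960, .fwd 16885, .fwd 11457],
   .loop none [.fwd 17096],
   .loop none [.bwd 10016, .fwd 16888, .fwd 11809],
   .loop none [.fwd 17098],
   .loop none [.bwd 8626, .fwd 16888, .bwd 12859],
   .loop none [.bwd 17100],
   .loop none [.bwd 3284, .fwd 16891, .fwd 11704],
   .loop none [.fwd 17102],
   .loop none [.fwd 10368, .bwd 16891],
   .loop none [.bwd 12845, .bwd 16891],
   .loop none [.bwd 10238, .fwd 16893, .fwd 8935],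
   .loop none [.fwd 17106],
   .loop none [.fwd 11256, .fwd 16895, .fwd 13426],
   .loop none [.fwd 17108],
   .loop none [.bwd 5711, .fwd 16895, .fwd 9545],
   .loop none [.fwd 17110],
   .loop none [.bwd 13425, .bwd 16895],
   .loop none [.fwd 12858, .bwd 16901],
   .loop none [.bwd 8721, .fwd 16901, .bwd 10914],
   .loop none [.fwd 17114],
   .loop none [.fwd 13809, .fwd 16901, .fwd 13175],
   .loop none [.bwd 17116],
   .loop none [.fwd 13161, .bwd 16903],
   .loop none [.fwd 13365, .bwd 16903],
   .loop none [.fwd 13497, .bwd 16903],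
   .loop none [.bwd 11019, .bwd 16905],
   .loop none [.fwd 5610, .fwd 16910, .bwd 12901],
   .loop none [.fwd 17122],
   .loop none [.fwd 13321, .fwd 16913, .fwd 11415],
   .loop none [.fwd 17124],
   .loop none [.bwd 8390, .fwd 16915, .bwd 4727],
   .loop none [.bwd 17126],
   .loop none [.fwd 8388, .bwd 16918],
   .loop none [.fwd 12151, .bwd 16918],
   .loop none [.fwd 8619, .bwd 16918],
   .loop none [.fwd 14696, .bwd 16925],
   .loop none [.bwd 9576, .bwd 16925],
   .loop none [.bwd 4328, .bwd 16927],
   .loop none [.fwd 4137, .fwd 16927, .fwd 7977],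
   .loop none [.fwd 17134],
   .loop none [.bwd 7975, .bwd 16927],
   .loop none [.bwd 12594, .fwd 16976],
   .loop none [.bwd 12623, .bwd 16976, .fwd 12604],
   .loop none [.bwd 17138],
   .loop none [.fwd 17054, .bwd 12595, .fwd 16931, .fwd 9208],
   .loop none [.fwd 17140],
   .loop none [.fwd 2793, .fwd 16936, .fwd 12143],
   .loop none [.fwd 17142],
   .loop none [.fwd 7672, .fwd 16936, .bwd 12804],
   .loop none [.fwd 17144],
   .loop none [.fwd 10213, .bwd 16940],
   .loop none [.fwd 17083, .bwd 12344, .fwd 16943, .bwd 9122],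
   .loop none [.fwd 17147],
   .loop none [.fwd 4772, .bwd 16945],
   .loop none [.bwd 9108, .bwd 16956],
   .loop none [.fwd 4137, .fwd 16958, .fwd 9759],
   .loop none [.fwd 17151],
   .loop none [.fwd 11328, .bwd 16963],
   .loop none [.fwd 3828, .bwd 16966],
   .loop none [.fwd 3289, .fwd 16966, .fwd 3829],
   .loop none [.fwd 17155],
   .loop none [.bwd 8272, .fwd 16966, .fwd 12686],
   .loop none [.fwd 17157],
   .loop none [.bwd 5768, .bwd 16968],
   .loop none [.bwd 7674, .bwd 16968],
   .loop none [.fwd 13395, .fwd 16971, .bwd 12581],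
   .loop none [.bwd 17161],
   .loop none [.bwd 12629, .bwd 16975],
   .loop none [.bwd 13046, .bwd 16975],
   .loop none [.bwd 12722, .bwd 16975],
   .loop none [.bwd 3648, .fwd 16979, .bwd 9589],
   .loop none [.fwd 17166],
   .loop none [.fwd 12630, .bwd 16981],
   .loop none [.fwd 11631, .bwd 16981],
   .loop none [.bwd 11093, .bwd 16985],
   .loop none [.fwd 5835, .fwd 16987, .bwd 13905],
   .loop none [.fwd 17171],
   .loop none [.fwd 7321, .fwd 16987, .bwd 14689],
   .loop none [.bwd 17173],
   .loop none [.fwd 5335, .bwd 16989],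
   .loop none [.fwd 5358, .bwd 16989],
   .loop none [.fwd 4844, .bwd 16989],
   .loop none [.bwd 5480, .bwd 16989],
   .loop none [.bwd 5319, .bwd 16989],
   .loop none [.fwd 5385, .bwd 16989],
   .loop none [.fwd 3134, .fwd 17000, .fwd 11687],
   .loop none [.fwd 17181],
   .loop none [.bwd 7720, .fwd 17002, .bwd 13865],
   .loop none [.fwd 17183],
   .loop none [.fwd 2871, .fwd 17004, .fwd 5760],
   .loop none [.fwd 17185],
   .loop none [.bwd 7893, .fwd 17007, .bwd 13888],
   .loop none [.fwd 17187],
   .loop none [.bwd 7895, .fwd 17007, .bwd 14654],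
   .loop none [.bwd 17189],
   .loop none [.bwd 3077, .bwd 17009],
   .loop none [.bwd 7905, .bwd 17009],
   .loop none [.bwd 7906, .bwd 17009],
   .loop none [.bwd 7907, .bwd 17009],
   .loop none [.fwd 7911, .bwd 17009],
   .loop none [.bwd 14653, .bwd 17012],
   .loop none [.fwd 7856, .fwd 17019, .bwd 13878],
   .loop none [.fwd 17197],
   .loop none [.bwd 3022, .fwd 17021, .bwd 13851],
   .loop none [.fwd 17199],
   .loop none [.fwd 12678, .fwd 17023, .fwd 11666],
   .loop none [.fwd 17201],
   .loop none [.fwd 7833, .fwd 17023, .bwd 13760],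
   .loop none [.fwd 17203],
   .loop none [.bwd 12371, .fwd 17025, .fwd 13435],
   .loop none [.bwd 17205],
   .loop none [.bwd 3800, .fwd 17025, .fwd 11377],
   .loop none [.fwd 17207],
   .loop none [.bwd 12369, .bwd 17028],
   .loop none [.bwd 13013, .bwd 17028],
   .loop none [.fwd 5720, .fwd 17028, .bwd 11469, .bwd 17206],
   .loop none [.fwd 17211],
   .loop none [.bwd 12439, .bwd 17028],
   .loop none [.fwd 13012, .bwd 17028],
   .loop none [.bwd 12976, .bwd 17036],
   .loop none [.bwd 4127, .fwd 17036, .bwd 12983],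
   .loop none [.fwd 17216],
   .loop none [.bwd 4067, .fwd 17038, .fwd 11908],
   .loop none [.fwd 17218],
   .loop none [.fwd 11907, .bwd 17038],
   .loop none [.fwd 12839, .bwd 17038],
   .loop none [.fwd 1981, .fwd 17041, .fwd 10802],
   .loop none [.fwd 17222],
   .loop none [.bwd 9340, .bwd 17041],
   .loop none [.bwd 12474, .bwd 17044],
   .loop none [.fwd 8836, .fwd 17044, .fwd 11718],
   .loop none [.fwd 17226],
   .loop none [.bwd 12475, .bwd 17044],
   .loop none [.bwd 3329, .fwd 17047, .bwd 3834],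
   .loop none [.fwd 17229],
   .loop none [.fwd 11707, .fwd 17049, .fwd 8832],
   .loop none [.bwd 17231],
   .loop none [.fwd 17042, .bwd 17052],
   .loop none [.fwd 12595, .bwd 17054],
   .loop none [.fwd 11542, .bwd 17054],
   .loop none [.fwd 12596, .bwd 17054],
   .loop none [.fwd 13551, .bwd 17059],
   .loop none [.fwd 3646, .fwd 17059, .bwd 11364],
   .loop none [.fwd 17238],
   .loop none [.bwd 12578, .fwd 17059, .fwd 13847],
   .loop none [.fwd 17240],
   .loop none [.fwd 13397, .bwd 17059],
   .loop none [.fwd 3711, .fwd 17062, .fwd 13872],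
   .loop none [.fwd 17243],
   .loop none [.fwd 4981, .bwd 17064],
   .loop none [.bwd 12939, .bwd 17064],
   .loop none [.fwd 5721, .fwd 17075, .fwd 11272],
   .loop none [.fwd 17247],
   .loop none [.bwd 9146, .bwd 17078]]

theorem just68_len : just68.length = 250 := by decide +kernel

theorem just68_ok : cert.okFacts 17000 just68 = true := by decide +kernel

/-- justifications -/
noncomputable def just69 : List Cert.Just :=
  [.loop none [.bwd 12347, .fwd 17080, .fwd 13418],
   .loop none [.fwd 17250],
   .loop none [.bwd 7970, .bwd 17080],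
   .loop none [.bwd 13607, .bwd 17083],
   .loop none [.fwd 12344, .bwd 17083],
   .loop none [.bwd 11125, .bwd 17083],
   .loop none [.fwd 4322, .fwd 17083, .bwd 11124],
   .loop none [.fwd 17256],
   .loop none [.fwd 12348, .bwd 17083],
   .loop none [.fwd 13347, .bwd 17083],
   .loop none [.bwd 5201, .fwd 17087, .fwd 12734],
   .loop none [.bwd 17260],
   .loop none [.fwd 17095, .fwd 13610, .bwd 17087],
   .loop none [.bwd 12790, .bwd 17087],
   .loop none [.bwd 4064, .fwd 17093, .bwd 10972],
   .loop none [.fwd 17264],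
   .loop none [.fwd 12222, .fwd 17095, .bwd 11156],
   .loop none [.bwd 17266],
   .loop none [.fwd 3283, .fwd 17097, .fwd 11458],
   .loop none [.fwd 17268],
   .loop none [.fwd 4871, .fwd 17099, .bwd 12882],
   .loop none [.bwd 17270],
   .loop none [.fwd 12895, .bwd 17101],
   .loop none [.bwd 8430, .fwd 17101, .fwd 10480],
   .loop none [.fwd 17273],
   .loop none [.fwd 8402, .fwd 17101, .bwd 10461],
   .loop none [.fwd 17275],
   .loop none [.fwd 12319, .bwd 17103],
   .loop none [.bwd 12469, .fwd 17103, .bwd 11962],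
   .loop none [.fwd 17278],
   .loop none [.bwd 3285, .fwd 17103, .fwd 11705],
   .loop none [.fwd 17280],
   .loop none [.bwd 13787, .bwd 17103],
   .loop none [.fwd 13813, .bwd 17107],
   .loop none [.bwd 8898, .fwd 17107, .fwd 8936],
   .loop none [.fwd 17284],
   .loop none [.fwd 11385, .bwd 17109],
   .loop none [.fwd 17239, .fwd 17111],
   .loop none [.fwd 3645, .bwd 17287, .bwd 13427],
   .loop none [.fwd 17288],
   .loop none [.fwd 12576, .bwd 17287, .fwd 9546],
   .loop none [.bwd 17290],
   .loop none [.fwd 13146, .bwd 17115],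
   .loop none [.fwd 13147, .bwd 17115],
   .loop none [.bwd 11221, .fwd 17117, .bwd 12116],
   .loop none [.fwd 17294],
   .loop none [.fwd 12862, .fwd 17123, .bwd 12880],
   .loop none [.bwd 17296],
   .loop none [.bwd 11416, .bwd 17125],
   .loop none [.bwd 8391, .bwd 17127],
   .loop none [.bwd 12820, .bwd 17135],
   .loop none [.bwd 7673, .bwd 17135],
   .loop none [.fwd 12623, .bwd 17139],
   .loop none [.fwd 3713, .fwd 17141, .fwd 10646],
   .loop none [.fwd 17303],
   .loop none [.bwd 17235, .fwd 17141, .fwd 9209],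
   .loop none [.bwd 17305],
   .loop none [.bwd 14661, .fwd 17143, .fwd 12144],
   .loop none [.bwd 17307],
   .loop none [.fwd 7671, .fwd 17143, .bwd 12801],
   .loop none [.fwd 17309],
   .loop none [.bwd 12748, .bwd 17145],
   .loop none [.bwd 17258, .fwd 17148, .bwd 9121],
   .loop none [.fwd 17312],
   .loop none [.fwd 4136, .fwd 17152, .fwd 10815],
   .loop none [.fwd 17314],
   .loop none [.bwd 17300, .fwd 17152, .fwd 9760],
   .loop none [.bwd 17316],
   .loop none [.bwd 12472, .fwd 17156, .fwd 3830],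
   .loop none [.bwd 17318],
   .loop none [.bwd 8270, .fwd 17156, .bwd 13403],
   .loop none [.fwd 17320],
   .loop none [.bwd 13165, .bwd 17158],
   .loop none [.bwd 13166, .bwd 17158],
   .loop none [.bwd 13404, .bwd 17158],
   .loop none [.fwd 11780, .bwd 17162],
   .loop none [.bwd 4185, .fwd 17162, .fwd 12908],
   .loop none [.fwd 17326],
   .loop none [.bwd 13395, .bwd 17162],
   .loop none [.fwd 13751, .bwd 17162],
   .loop none [.bwd 13644, .fwd 17167, .bwd 9588],
   .loop none [.bwd 17330],
   .loop none [.bwd 8659, .fwd 17172, .bwd 13904],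
   .loop none [.fwd 17332],
   .loop none [.fwd 16390, .bwd 17174],
   .loop none [.bwd 3230, .fwd 17174, .bwd 3655],
   .loop none [.fwd 17335],
   .loop none [.bwd 7321, .bwd 17174],
   .loop none [.bwd 7322, .bwd 17174],
   .loop none [.bwd 8665, .bwd 17174],
   .loop none [.bwd 7324, .bwd 17174],
   .loop none [.bwd 13000, .fwd 17182, .fwd 11688],
   .loop none [.fwd 17341],
   .loop none [.bwd 2869, .fwd 17184, .bwd 13864],
   .loop none [.fwd 17343],
   .loop none [.bwd 13913, .fwd 17186, .fwd 5761],
   .loop none [.bwd 17345],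
   .loop none [.bwd 3074, .fwd 17188, .bwd 14659],
   .loop none [.fwd 17347],
   .loop none [.bwd 2789, .fwd 17190, .fwd 7908],
   .loop none [.fwd 17349],
   .loop none [.fwd 7895, .bwd 17190],
   .loop none [.bwd 7909, .bwd 17190],
   .loop none [.bwd 7910, .bwd 17190],
   .loop none [.fwd 7899, .bwd 17190],
   .loop none [.bwd 3132, .fwd 17198, .bwd 13877],
   .loop none [.fwd 17355],
   .loop none [.fwd 11850, .fwd 17200, .bwd 13850],
   .loop none [.fwd 17357],
   .loop none [.bwd 12679, .fwd 17202, .fwd 11667],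
   .loop none [.bwd 17359],
   .loop none [.bwd 12680, .fwd 17202, .bwd 13761],
   .loop none [.bwd 17361],
   .loop none [.fwd 2982, .fwd 17204, .fwd 12911],
   .loop none [.fwd 17363],
   .loop none [.fwd 17212, .fwd 17206],
   .loop none [.fwd 12371, .fwd 17365],
   .loop none [.fwd 12370, .fwd 17365],
   .loop none [.fwd 5719, .bwd 17365, .bwd 12670],
   .loop none [.bwd 17368],
   .loop none [.bwd 12390, .fwd 17365],
   .loop none [.fwd 12681, .fwd 17365],
   .loop none [.fwd 5214, .fwd 17208, .bwd 13434],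
   .loop none [.fwd 17372],
   .loop none [.fwd 12357, .fwd 17208, .fwd 11378],
   .loop none [.bwd 17374],
   .loop none [.bwd 5203, .bwd 17217],
   .loop none [.fwd 12311, .bwd 17219],
   .loop none [.bwd 4068, .fwd 17219, .fwd 11909],
   .loop none [.fwd 17378],
   .loop none [.fwd 13800, .bwd 17219],
   .loop none [.fwd 9772, .bwd 17223],
   .loop none [.fwd 12473, .bwd 17227],
   .loop none [.bwd 10171, .fwd 17227, .fwd 11719],
   .loop none [.fwd 17383],
   .loop none [.fwd 13832, .fwd 17230, .bwd 3833],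
   .loop none [.bwd 17385],
   .loop none [.fwd 17281, .fwd 11706, .bwd 17232],
   .loop none [.bwd 11707, .bwd 17232],
   .loop none [.bwd 8833, .fwd 17232, .fwd 13896],
   .loop none [.fwd 17389],
   .loop none [.fwd 12486, .bwd 17232],
   .loop none [.fwd 17118, .bwd 17239],
   .loop none [.fwd 13806, .fwd 17239, .bwd 5711],
   .loop none [.bwd 17393],
   .loop none [.fwd 17291, .fwd 12576, .fwd 17239, .fwd 5712],
   .loop none [.bwd 17395],
   .loop none [.fwd 13670, .bwd 17239],
   .loop none [.fwd 12196, .fwd 17241, .fwd 13848],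
   .loop none [.fwd 17398],
   .loop none [.bwd 12617, .fwd 17244, .fwd 13873],
   .loop none [.fwd 17400],
   .loop none [.bwd 17209, .fwd 17248, .fwd 11273],
   .loop none [.fwd 17402],
   .loop none [.bwd 13378, .bwd 17251],
   .loop none [.bwd 12688, .bwd 17257],
   .loop none [.fwd 4321, .fwd 17257, .bwd 11123],
   .loop none [.fwd 17406],
   .loop none [.bwd 13594, .bwd 17257],
   .loop none [.fwd 5201, .bwd 17261],
   .loop none [.fwd 17267, .fwd 12222, .fwd 17265, .bwd 10971],
   .loop none [.bwd 17410],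
   .loop none [.fwd 8096, .fwd 17265, .bwd 13559],
   .loop none [.fwd 17412],
   .loop none [.fwd 17411, .fwd 17267],
   .loop none [.fwd 10970, .bwd 17414, .bwd 12221],
   .loop none [.fwd 17415],
   .loop none [.bwd 12222, .fwd 17414],
   .loop none [.fwd 13556, .bwd 17414, .fwd 12710],
   .loop none [.fwd 17418],
   .loop none [.fwd 13622, .fwd 17414],
   .loop none [.bwd 7959, .fwd 17269, .fwd 11459],
   .loop none [.fwd 17421],
   .loop none [.bwd 4818, .fwd 17271, .bwd 12881],
   .loop none [.fwd 17423],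
   .loop none [.bwd 8431, .fwd 17271, .fwd 8439],
   .loop none [.fwd 17425],
   .loop none [.fwd 8403, .fwd 17271, .bwd 8438],
   .loop none [.bwd 17427],
   .loop none [.fwd 5132, .bwd 17274],
   .loop none [.fwd 5602, .bwd 17276],
   .loop none [.bwd 11723, .fwd 17279, .bwd 11961],
   .loop none [.fwd 17431],
   .loop none [.bwd 13775, .bwd 17281],
   .loop none [.fwd 7964, .fwd 17281, .fwd 13776],
   .loop none [.fwd 17434],
   .loop none [.bwd 8899, .fwd 17285, .fwd 8937],
   .loop none [.fwd 17436],
   .loop none [.bwd 10832, .bwd 17285],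
   .loop none [.fwd 13805, .fwd 17289, .bwd 17286],
   .loop none [.bwd 17439],
   .loop none [.fwd 3644, .fwd 17289, .fwd 13428],
   .loop none [.fwd 17441],
   .loop none [.fwd 17396, .fwd 17291],
   .loop none [.bwd 5713, .bwd 17443, .fwd 12573],
   .loop none [.bwd 17444],
   .loop none [.bwd 12198, .fwd 17443],
   .loop none [.bwd 12576, .fwd 17443],
   .loop none [.bwd 12616, .fwd 17443],
   .loop none [.fwd 12577, .fwd 17443],
   .loop none [.fwd 13563, .fwd 17295, .bwd 12115],
   .loop none [.fwd 17450],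
   .loop none [.bwd 12862, .bwd 17297],
   .loop none [.bwd 8435, .fwd 17297, .fwd 10488],
   .loop none [.fwd 17453],
   .loop none [.fwd 8434, .fwd 17297, .bwd 8611],
   .loop none [.fwd 17455],
   .loop none [.bwd 10260, .fwd 17304, .bwd 8947],
   .loop none [.fwd 17457],
   .loop none [.fwd 11541, .bwd 17306],
   .loop none [.fwd 14660, .bwd 17308],
   .loop none [.fwd 14661, .bwd 17308],
   .loop none [.bwd 12126, .bwd 17310],
   .loop none [.bwd 17081, .fwd 17313, .bwd 9120],
   .loop none [.bwd 17463],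
   .loop none [.bwd 13423, .fwd 17315, .bwd 9352],
   .loop none [.bwd 17465],
   .loop none [.fwd 11358, .bwd 17317],
   .loop none [.fwd 17300, .bwd 17317],
   .loop none [.bwd 13647, .bwd 17317],
   .loop none [.fwd 13169, .bwd 17317],
   .loop none [.bwd 11721, .bwd 17319],
   .loop none [.bwd 13705, .bwd 17319],
   .loop none [.fwd 12472, .bwd 17319],
   .loop none [.bwd 12747, .bwd 17319],
   .loop none [.fwd 13781, .bwd 17319],
   .loop none [.bwd 13167, .bwd 17321],
   .loop none [.fwd 4133, .fwd 17321, .bwd 9513],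
   .loop none [.fwd 17477],
   .loop none [.bwd 12744, .fwd 17321, .fwd 13860],
   .loop none [.fwd 17479],
   .loop none [.bwd 4985, .bwd 17327],
   .loop none [.fwd 13644, .bwd 17331],
   .loop none [.bwd 11489, .bwd 17331],
   .loop none [.fwd 10846, .fwd 17331, .fwd 13680],
   .loop none [.fwd 17484],
   .loop none [.fwd 16824, .fwd 17333, .bwd 13903],
   .loop none [.fwd 17486],
   .loop none [.fwd 3654, .bwd 17336],
   .loop none [.bwd 3231, .fwd 17336, .bwd 8677],
   .loop none [.fwd 17489],
   .loop none [.fwd 7591, .bwd 17336],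
   .loop none [.bwd 8125, .bwd 17336],
   .loop none [.fwd 8072, .bwd 17336],
   .loop none [.bwd 12994, .fwd 17342, .fwd 11689],
   .loop none [.bwd 17494],
   .loop none [.bwd 10048, .fwd 17344, .bwd 13863],
   .loop none [.fwd 17496],
   .loop none [.bwd 14662, .bwd 17346],
   .loop none [.fwd 13913, .bwd 17346]]

theorem just69_len : just69.length = 250 := by decide +kernel

theorem just69_ok : cert.okFacts 17250 just69 = true := by decide +kernel

/-- justifications -/
noncomputable def just70 : List Cert.Just :=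
  [.loop none [.bwd 5762, .fwd 17346, .bwd 14666],
   .loop none [.fwd 17500],
   .loop none [.fwd 13812, .bwd 17348],
   .loop none [.bwd 12423, .fwd 17348, .fwd 12215],
   .loop none [.fwd 17503],
   .loop none [.fwd 17435, .bwd 12782, .bwd 17350],
   .loop none [.bwd 2790, .fwd 17350, .fwd 5511],
   .loop none [.fwd 17506],
   .loop none [.fwd 7805, .bwd 17350],
   .loop none [.bwd 7853, .fwd 17356, .bwd 13876],
   .loop none [.fwd 17509],
   .loop none [.fwd 11849, .fwd 17358, .bwd 13849, .bwd 17399],
   .loop none [.fwd 17511],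
   .loop none [.bwd 11668, .fwd 17360, .fwd 12156],
   .loop none [.fwd 17513],
   .loop none [.fwd 12361, .bwd 17360],
   .loop none [.fwd 12679, .bwd 17360],
   .loop none [.bwd 11911, .bwd 17362],
   .loop none [.bwd 11778, .fwd 17362, .fwd 13931],
   .loop none [.fwd 17518],
   .loop none [.bwd 13796, .bwd 17362],
   .loop none [.fwd 12680, .bwd 17362],
   .loop none [.fwd 12997, .bwd 17362],
   .loop none [.fwd 4986, .bwd 17364],
   .loop none [.fwd 7696, .fwd 17369, .bwd 5718],
   .loop none [.fwd 17524],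
   .loop none [.fwd 7696, .fwd 17373, .bwd 9552],
   .loop none [.fwd 17526],
   .loop none [.fwd 12682, .bwd 17375],
   .loop none [.fwd 12007, .bwd 17375],
   .loop none [.bwd 12357, .bwd 17375],
   .loop none [.fwd 12358, .bwd 17375],
   .loop none [.bwd 13802, .bwd 17379],
   .loop none [.bwd 8060, .fwd 17379, .bwd 13675],
   .loop none [.fwd 17533],
   .loop none [.fwd 8104, .fwd 17379, .bwd 13801],
   .loop none [.fwd 17535],
   .loop none [.fwd 13709, .bwd 17384],
   .loop none [.bwd 13750, .bwd 17384],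
   .loop none [.fwd 13779, .bwd 17384],
   .loop none [.bwd 13832, .bwd 17386],
   .loop none [.bwd 10172, .fwd 17386, .bwd 14670],
   .loop none [.fwd 17541],
   .loop none [.bwd 14663, .bwd 17386],
   .loop none [.fwd 14698, .bwd 17386],
   .loop none [.fwd 14668, .bwd 17390],
   .loop none [.fwd 7959, .fwd 17394, .fwd 11947],
   .loop none [.fwd 17546],
   .loop none [.bwd 13806, .bwd 17394],
   .loop none [.fwd 12229, .fwd 17401, .fwd 13874],
   .loop none [.fwd 17549],
   .loop none [.fwd 2980, .fwd 17403, .fwd 11274],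
   .loop none [.fwd 17551],
   .loop none [.fwd 4320, .fwd 17407, .bwd 13598],
   .loop none [.fwd 17553],
   .loop none [.bwd 11057, .fwd 17419, .fwd 11122, .bwd 17407],
   .loop none [.bwd 17555],
   .loop none [.bwd 13600, .bwd 17407],
   .loop none [.fwd 13810, .bwd 17411],
   .loop none [.fwd 8785, .bwd 17413],
   .loop none [.fwd 10969, .fwd 17416, .bwd 12220],
   .loop none [.fwd 17560],
   .loop none [.fwd 12708, .bwd 17419],
   .loop none [.bwd 13599, .bwd 17419],
   .loop none [.bwd 17548, .fwd 17422, .fwd 11460],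
   .loop none [.fwd 17564],
   .loop none [.bwd 12987, .bwd 17422],
   .loop none [.fwd 17454, .fwd 12897, .bwd 17424],
   .loop none [.fwd 8405, .fwd 17424, .bwd 8436],
   .loop none [.bwd 17568],
   .loop none [.bwd 5039, .bwd 17426],
   .loop none [.fwd 5033, .bwd 17428],
   .loop none [.fwd 11960, .bwd 17432],
   .loop none [.fwd 12794, .fwd 17435, .bwd 11059],
   .loop none [.bwd 17573],
   .loop none [.bwd 4319, .fwd 17435, .fwd 13108],
   .loop none [.fwd 17575],
   .loop none [.fwd 13110, .bwd 17435],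
   .loop none [.bwd 8900, .fwd 17437, .fwd 8938],
   .loop none [.fwd 17578],
   .loop none [.bwd 10834, .bwd 17437],
   .loop none [.fwd 10626, .bwd 17437],
   .loop none [.bwd 13805, .bwd 17440],
   .loop none [.fwd 11255, .fwd 17440, .bwd 11945],
   .loop none [.fwd 17583],
   .loop none [.bwd 9548, .bwd 17442],
   .loop none [.fwd 5713, .bwd 17445],
   .loop none [.bwd 17585, .fwd 17445, .fwd 5714],
   .loop none [.bwd 17587],
   .loop none [.bwd 11180, .fwd 17451, .bwd 12114],
   .loop none [.fwd 17589],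
   .loop none [.bwd 12872, .bwd 17456],
   .loop none [.bwd 10645, .bwd 17458],
   .loop none [.fwd 8908, .fwd 17458, .bwd 8946],
   .loop none [.fwd 17593],
   .loop none [.bwd 13640, .fwd 17458, .fwd 10643],
   .loop none [.bwd 17595],
   .loop none [.fwd 10644, .bwd 17458],
   .loop none [.fwd 17404, .bwd 17464],
   .loop none [.fwd 17081, .bwd 17464],
   .loop none [.bwd 10752, .fwd 17464, .bwd 13706],
   .loop none [.fwd 17600],
   .loop none [.fwd 13423, .bwd 17466],
   .loop none [.bwd 10813, .fwd 17466, .fwd 11620],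
   .loop none [.fwd 17603],
   .loop none [.fwd 4132, .fwd 17478, .bwd 9512],
   .loop none [.fwd 17605],
   .loop none [.fwd 12127, .fwd 17480, .fwd 13861],
   .loop none [.fwd 17607],
   .loop none [.fwd 13654, .bwd 17485],
   .loop none [.bwd 11348, .bwd 17485],
   .loop none [.bwd 13657, .bwd 17485],
   .loop none [.bwd 14691, .bwd 17487],
   .loop none [.fwd 13637, .fwd 17487, .bwd 13902],
   .loop none [.fwd 17613],
   .loop none [.bwd 16825, .fwd 17487, .fwd 14692],
   .loop none [.bwd 17615],
   .loop none [.fwd 16726, .bwd 17490],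
   .loop none [.fwd 16749, .bwd 17490],
   .loop none [.fwd 8676, .bwd 17490],
   .loop none [.bwd 10148, .bwd 17490],
   .loop none [.fwd 10133, .bwd 17490],
   .loop none [.bwd 11690, .fwd 17495, .bwd 12014],
   .loop none [.fwd 17622],
   .loop none [.bwd 12015, .bwd 17495],
   .loop none [.fwd 17608, .fwd 13862, .bwd 17497],
   .loop none [.bwd 5763, .fwd 17501, .bwd 8780],
   .loop none [.fwd 17626],
   .loop none [.fwd 17606, .bwd 13402, .fwd 17501, .fwd 8781],
   .loop none [.fwd 17628],
   .loop none [.bwd 10534, .bwd 17501],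
   .loop none [.bwd 13811, .bwd 17504],
   .loop none [.fwd 13846, .fwd 17504, .bwd 17460],
   .loop none [.bwd 17632],
   .loop none [.fwd 12428, .fwd 17504, .bwd 13605],
   .loop none [.bwd 17634],
   .loop none [.bwd 7912, .bwd 17507],
   .loop none [.fwd 3237, .fwd 17510, .bwd 13875, .bwd 17550],
   .loop none [.fwd 17637],
   .loop none [.fwd 11848, .fwd 17512, .fwd 12196],
   .loop none [.fwd 17639],
   .loop none [.fwd 13682, .bwd 17512],
   .loop none [.fwd 13685, .bwd 17512],
   .loop none [.fwd 12362, .bwd 17514],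
   .loop none [.bwd 12363, .bwd 17514],
   .loop none [.bwd 11779, .fwd 17519, .fwd 13932],
   .loop none [.fwd 17645],
   .loop none [.bwd 14672, .bwd 17519],
   .loop none [.fwd 7694, .fwd 17525, .bwd 5717],
   .loop none [.fwd 17648],
   .loop none [.bwd 3022, .fwd 17527, .bwd 13432],
   .loop none [.fwd 17650],
   .loop none [.bwd 17586, .fwd 17534, .bwd 11462],
   .loop none [.fwd 17652],
   .loop none [.fwd 17588, .bwd 17585, .fwd 17534, .fwd 11463],
   .loop none [.fwd 17654],
   .loop none [.fwd 12612, .fwd 17536, .bwd 5206],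
   .loop none [.bwd 17656],
   .loop none [.bwd 5207, .bwd 17536],
   .loop none [.bwd 3708, .fwd 17536, .bwd 12991],
   .loop none [.fwd 17659],
   .loop none [.fwd 14669, .bwd 17542],
   .loop none [.bwd 16896, .fwd 17547, .fwd 11948],
   .loop none [.fwd 17662],
   .loop none [.bwd 7782, .fwd 17552, .fwd 11275],
   .loop none [.fwd 17664],
   .loop none [.fwd 13606, .bwd 17554],
   .loop none [.fwd 11057, .bwd 17556],
   .loop none [.fwd 12763, .bwd 17561],
   .loop none [.bwd 3646, .fwd 17565, .bwd 13790],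
   .loop none [.fwd 17669],
   .loop none [.bwd 8107, .fwd 17565, .fwd 12990],
   .loop none [.fwd 17671],
   .loop none [.bwd 5035, .bwd 17569],
   .loop none [.bwd 12794, .bwd 17574],
   .loop none [.fwd 12146, .bwd 17574],
   .loop none [.bwd 12147, .bwd 17574],
   .loop none [.bwd 12796, .bwd 17574],
   .loop none [.bwd 13783, .bwd 17574],
   .loop none [.fwd 12797, .bwd 17574],
   .loop none [.bwd 10968, .bwd 17576],
   .loop none [.bwd 10629, .bwd 17579],
   .loop none [.bwd 8901, .fwd 17579, .fwd 8939],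
   .loop none [.fwd 17682],
   .loop none [.fwd 11254, .fwd 17584, .bwd 11944],
   .loop none [.fwd 17684],
   .loop none [.fwd 17585, .bwd 17588],
   .loop none [.bwd 13429, .bwd 17588],
   .loop none [.bwd 13565, .fwd 17590, .bwd 12113],
   .loop none [.fwd 17688],
   .loop none [.fwd 8907, .fwd 17594, .bwd 8945],
   .loop none [.fwd 17690],
   .loop none [.fwd 10640, .bwd 17594],
   .loop none [.bwd 10843, .bwd 17594],
   .loop none [.fwd 10642, .bwd 17594],
   .loop none [.fwd 9211, .fwd 17596, .fwd 11318],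
   .loop none [.fwd 17695],
   .loop none [.bwd 13645, .bwd 17596],
   .loop none [.fwd 13640, .bwd 17596],
   .loop none [.fwd 13704, .bwd 17601],
   .loop none [.bwd 11531, .bwd 17601],
   .loop none [.fwd 9762, .fwd 17604, .fwd 11621],
   .loop none [.fwd 17701],
   .loop none [.fwd 13748, .bwd 17604],
   .loop none [.bwd 13383, .bwd 17604],
   .loop none [.fwd 13708, .bwd 17604],
   .loop none [.fwd 13402, .bwd 17606],
   .loop none [.bwd 3713, .fwd 17614, .bwd 13901],
   .loop none [.fwd 17707],
   .loop none [.fwd 3712, .fwd 17614, .bwd 14693],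
   .loop none [.bwd 17709],
   .loop none [.bwd 11518, .bwd 17616],
   .loop none [.fwd 16825, .bwd 17616],
   .loop none [.bwd 12903, .bwd 17616],
   .loop none [.fwd 12886, .bwd 17616],
   .loop none [.fwd 12419, .bwd 17623],
   .loop none [.fwd 10061, .bwd 17627],
   .loop none [.fwd 8779, .bwd 17627],
   .loop none [.bwd 8782, .bwd 17629],
   .loop none [.bwd 13846, .bwd 17633],
   .loop none [.fwd 7915, .bwd 17635],
   .loop none [.bwd 12428, .bwd 17635],
   .loop none [.fwd 3236, .fwd 17638, .fwd 12229],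
   .loop none [.fwd 17722],
   .loop none [.bwd 12762, .bwd 17638],
   .loop none [.bwd 13679, .bwd 17640],
   .loop none [.fwd 12582, .bwd 17640],
   .loop none [.fwd 14697, .bwd 17646],
   .loop none [.bwd 7690, .fwd 17649, .bwd 5716],
   .loop none [.fwd 17728],
   .loop none [.fwd 11850, .fwd 17651, .fwd 11381],
   .loop none [.bwd 17730],
   .loop none [.fwd 13674, .bwd 17653],
   .loop none [.bwd 17687, .fwd 17655, .bwd 17516],
   .loop none [.fwd 17733],
   .loop none [.fwd 17521, .bwd 17655],
   .loop none [.bwd 12612, .bwd 17657],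
   .loop none [.bwd 12231, .bwd 17657],
   .loop none [.fwd 17448, .bwd 17657],
   .loop none [.fwd 17624, .bwd 17660],
   .loop none [.bwd 12016, .bwd 17660],
   .loop none [.bwd 16616, .fwd 17663, .fwd 11949],
   .loop none [.fwd 17741],
   .loop none [.fwd 3318, .fwd 17665, .fwd 11276],
   .loop none [.fwd 17743],
   .loop none [.bwd 11847, .bwd 17670],
   .loop none [.bwd 8109, .fwd 17670, .fwd 12458],
   .loop none [.bwd 17746],
   .loop none [.fwd 5204, .bwd 17672],
   .loop none [.bwd 5205, .bwd 17672]]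

theorem just70_len : just70.length = 250 := by decide +kernel

theorem just70_ok : cert.okFacts 17500 just70 = true := by decide +kernel

/-- justifications -/
noncomputable def just71 : List Cert.Just :=
  [.loop none [.fwd 10630, .bwd 17683],
   .loop none [.bwd 8902, .fwd 17683, .fwd 8940],
   .loop none [.fwd 17751],
   .loop none [.fwd 10631, .bwd 17683],
   .loop none [.bwd 13215, .bwd 17685],
   .loop none [.fwd 11253, .fwd 17685, .bwd 13521],
   .loop none [.bwd 17755],
   .loop none [.bwd 13216, .bwd 17685],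
   .loop none [.bwd 13217, .bwd 17685],
   .loop none [.bwd 13218, .bwd 17685],
   .loop none [.fwd 7357, .fwd 17689, .bwd 12112],
   .loop none [.fwd 17760],
   .loop none [.fwd 8906, .fwd 17691, .bwd 8944],
   .loop none [.fwd 17762],
   .loop none [.bwd 10842, .bwd 17691],
   .loop none [.bwd 11319, .bwd 17696],
   .loop none [.bwd 11622, .bwd 17702],
   .loop none [.bwd 13749, .bwd 17702],
   .loop none [.bwd 13384, .bwd 17702],
   .loop none [.fwd 13711, .bwd 17702],
   .loop none [.fwd 10261, .fwd 17708, .bwd 13900],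
   .loop none [.fwd 17770],
   .loop none [.bwd 3712, .bwd 17710],
   .loop none [.bwd 8112, .bwd 17710],
   .loop none [.fwd 8111, .bwd 17710],
   .loop none [.fwd 17697, .bwd 17723],
   .loop none [.fwd 5715, .bwd 17729],
   .loop none [.bwd 11382, .fwd 17731, .bwd 17644],
   .loop none [.fwd 17777],
   .loop none [.bwd 17515, .bwd 17734],
   .loop none [.fwd 13762, .bwd 17734],
   .loop none [.fwd 16696, .fwd 17742, .fwd 11950],
   .loop none [.fwd 17781],
   .loop none [.bwd 11277, .bwd 17744],
   .loop none [.fwd 3710, .bwd 17747],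
   .loop none [.bwd 8110, .bwd 17747],
   .loop none [.fwd 8109, .bwd 17747],
   .loop none [.bwd 8903, .fwd 17752, .fwd 8941],
   .loop none [.fwd 17787],
   .loop none [.fwd 13524, .fwd 17756, .bwd 11252],
   .loop none [.fwd 17789],
   .loop none [.bwd 7359, .fwd 17761, .bwd 12111],
   .loop none [.fwd 17791],
   .loop none [.bwd 10840, .bwd 17763],
   .loop none [.fwd 10639, .bwd 17763],
   .loop none [.fwd 14694, .bwd 17771],
   .loop none [.bwd 17643, .bwd 17778],
   .loop none [.fwd 13763, .bwd 17778],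
   .loop none [.bwd 4571, .fwd 17782, .fwd 11951],
   .loop none [.fwd 17798],
   .loop none [.fwd 10632, .bwd 17788],
   .loop none [.bwd 3640, .fwd 17790, .bwd 11251],
   .loop none [.fwd 17801],
   .loop none [.fwd 12110, .bwd 17792],
   .loop none [.fwd 9402, .fwd 17799, .fwd 11952],
   .loop none [.fwd 17804],
   .loop none [.fwd 17073, .fwd 17802, .bwd 11250],
   .loop none [.fwd 17806],
   .loop none [.bwd 16480, .fwd 17805, .fwd 11953],
   .loop none [.fwd 17808],
   .loop none [.bwd 10938, .fwd 17807, .bwd 11249],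
   .loop none [.fwd 17810],
   .loop none [.bwd 11232, .fwd 17809, .fwd 11954],
   .loop none [.fwd 17812],
   .loop none [.bwd 13549, .fwd 17811, .bwd 11248],
   .loop none [.bwd 17814],
   .loop none [.fwd 16947, .fwd 17813, .fwd 11955],
   .loop none [.fwd 17816],
   .loop none [.bwd 11654, .bwd 17815],
   .loop none [.fwd 13549, .bwd 17815],
   .loop none [.bwd 16548, .bwd 17815],
   .loop none [.bwd 11575, .bwd 17815],
   .loop none [.fwd 11247, .fwd 17815, .bwd 11574],
   .loop none [.bwd 17822],
   .loop none [.bwd 12844, .bwd 17815],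
   .loop none [.fwd 12756, .bwd 17815],
   .loop none [.bwd 16948, .fwd 17817, .fwd 11956],
   .loop none [.fwd 17826],
   .loop none [.bwd 11247, .bwd 17823],
   .loop none [.fwd 13522, .fwd 17827, .fwd 11957],
   .loop none [.fwd 17829],
   .loop none [.fwd 13524, .fwd 17830, .fwd 11958],
   .loop none [.fwd 17831],
   .loop none [.bwd 13525, .fwd 17832, .fwd 11959],
   .loop none [.fwd 17833],
   .loop none [.bwd 11238, .fwd 17834, .bwd 17572],
   .loop none [.fwd 17835],
   .loop none [.bwd 11239, .fwd 17836, .bwd 11723],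
   .loop none [.fwd 17837],
   .loop none [.fwd 11722, .bwd 17838],
   .loop none [.fwd 13785, .bwd 17838],
   .loop (some (9, 3)) [.bwd 8059, .fwd 17377, .fwd 7454],
   .loop (some (1, 2)) [.fwd 17757, .bwd 17841, .bwd 7219],
   .loop (some (19, 0)) [.bwd 17150, .fwd 2542, .fwd 2543, .fwd 7194, .bwd 3025, .bwd 3024, .fwd 17776, .fwd 17686],
   .loop (some (9, 1)) [.fwd 10718, .bwd 17843, .bwd 8060],
   .loop (some (1, 2)) [.bwd 3644, .fwd 17843, .fwd 9109],
   .loop (some (9, 1)) [.fwd 10719, .fwd 17845, .bwd 8061],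
   .loop (some (15, 2)) [.fwd 10270, .bwd 17392, .bwd 3645, .bwd 17845, .fwd 9110],
   .loop (some (1, 2)) [.fwd 17447, .fwd 17392, .fwd 4266],
   .loop (some (1, 2)) [.bwd 17745, .fwd 17237, .fwd 10944],
   .loop (some (2, 2)) [.fwd 17482, .fwd 3649, .fwd 17050],
   .loop (some (19, 0)) [.bwd 3065, .bwd 3064, .bwd 17715, .fwd 11691, .fwd 17302, .fwd 17137, .bwd 3651, .bwd 3650],
   .loop (some (9, 1)) [.fwd 7871, .bwd 17851, .bwd 8066],
   .loop (some (1, 2)) [.fwd 17233, .fwd 17851, .fwd 3066],
   .loop (some (5, 1)) [.fwd 10578, .fwd 16938, .fwd 8071],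
   .loop (some (15, 4)) [.bwd 3701, .fwd 16857, .bwd 9140, .bwd 10141, .fwd 12606],
   .loop (some (16, 3)) [.fwd 9140, .bwd 16858, .fwd 3701, .fwd 3702, .fwd 12606],
   .loop (some (16, 3)) [.fwd 8784, .bwd 17559, .bwd 12607, .bwd 12234, .bwd 12233],
   .loop (some (17, 0)) [.bwd 11858, .bwd 8340, .fwd 16866, .bwd 12235, .fwd 12609],
   .loop (some (9, 3)) [.bwd 8101, .bwd 17841, .fwd 7452],
   .loop (some (1, 2)) [.bwd 12610, .bwd 17859, .bwd 7447],
   .loop (some (19, 0)) [.bwd 17249, .fwd 2023, .fwd 2024, .fwd 7457, .bwd 3135, .bwd 3134, .fwd 13000, .bwd 17658],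
   .loop (some (1, 2)) [.bwd 3708, .fwd 17861, .fwd 9147],
   .loop (some (12, 2)) [.bwd 17740, .bwd 8105, .bwd 17582],
   .loop (some (17, 2)) [.bwd 12232, .bwd 17737, .bwd 17749, .fwd 17748, .fwd 12986],
   .loop (some (19, 0)) [.bwd 3320, .bwd 3319, .bwd 17727, .bwd 17325, .bwd 4184, .fwd 17163, .bwd 17070, .bwd 17234],
   .loop (some (1, 2)) [.fwd 10261, .fwd 17865, .fwd 3321],
   .loop (some (8, 1)) [.bwd 10128, .fwd 17070, .bwd 13045],
   .loop (some (5, 1)) [.bwd 8645, .bwd 16250, .fwd 9094],
   .loop (some (19, 0)) [.bwd 17429, .fwd 12894, .fwd 17429, .bwd 7210, .bwd 6419, .bwd 16867, .bwd 8151, .fwd 3755],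
   .loop (some (1, 2)) [.bwd 8153, .fwd 17869, .bwd 7212],
   .loop (some (19, 0)) [.fwd 17429, .bwd 7210, .bwd 6419, .bwd 16867, .bwd 8151, .fwd 3755, .fwd 3756, .fwd 8605],
   .loop (some (9, 1)) [.fwd 8430, .bwd 17871, .bwd 8158],
   .loop (some (1, 2)) [.bwd 3757, .fwd 17871, .bwd 4864],
   .loop (some (19, 9)) [.bwd 17873, .bwd 4863, .bwd 4862, .bwd 16362, .bwd 16510, .fwd 6515, .fwd 7337, .fwd 5364, .bwd 8572],
   .loop none [.fwd 17874],
   .loop none [.bwd 3758, .fwd 17875, .bwd 8570],
   .loop none [.fwd 17876],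
   .loop none [.fwd 5364, .bwd 17875],
   .loop none [.bwd 8487, .fwd 17875, .fwd 8584],
   .loop none [.fwd 17879],
   .loop none [.bwd 3759, .fwd 17877, .bwd 8525],
   .loop none [.fwd 17881],
   .loop none [.bwd 5241, .bwd 17877],
   .loop none [.fwd 8159, .fwd 17877, .bwd 8568],
   .loop none [.bwd 17884],
   .loop none [.fwd 10512, .bwd 17877],
   .loop none [.bwd 8489, .fwd 17877, .fwd 8171],
   .loop none [.bwd 17887],
   .loop none [.fwd 5568, .bwd 17880],
   .loop none [.fwd 8542, .fwd 17882, .bwd 5238],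
   .loop none [.bwd 17890],
   .loop none [.bwd 10513, .bwd 17882],
   .loop none [.bwd 8491, .fwd 17882, .fwd 8168],
   .loop none [.bwd 17893],
   .loop none [.bwd 5576, .bwd 17885],
   .loop none [.bwd 8159, .bwd 17885],
   .loop none [.bwd 8585, .fwd 17885, .fwd 8486],
   .loop none [.bwd 17897],
   .loop none [.fwd 8569, .fwd 17885, .bwd 8588],
   .loop none [.fwd 17899],
   .loop none [.fwd 8489, .bwd 17888],
   .loop none [.bwd 8166, .fwd 17891, .fwd 8543],
   .loop none [.fwd 17902],
   .loop none [.fwd 8499, .fwd 17891, .bwd 8586],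
   .loop none [.fwd 17904],
   .loop none [.bwd 5078, .bwd 17894],
   .loop none [.fwd 8491, .bwd 17894],
   .loop none [.fwd 8585, .bwd 17898],
   .loop none [.bwd 5372, .bwd 17900],
   .loop none [.fwd 17886, .bwd 17900],
   .loop none [.fwd 8554, .bwd 17900],
   .loop none [.bwd 8535, .bwd 17903],
   .loop none [.fwd 17892, .bwd 17905],
   .loop (some (9, 1)) [.fwd 8428, .fwd 17873, .bwd 8160],
   .loop (some (17, 2)) [.bwd 8153, .fwd 3756, .fwd 3757, .fwd 17878, .bwd 7339],
   .loop (some (17, 2)) [.fwd 10959, .bwd 5577, .bwd 17895, .fwd 17896, .fwd 17883, .fwd 5242],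
   .loop none [.bwd 17916],
   .loop none [.fwd 7341, .fwd 17917, .bwd 10958],
   .loop none [.fwd 17918],
   .loop none [.bwd 2901, .fwd 17919, .bwd 10957],
   .loop none [.fwd 17920],
   .loop none [.fwd 7346, .fwd 17921, .bwd 10956],
   .loop none [.fwd 17922],
   .loop none [.bwd 1971, .fwd 17923, .bwd 10955],
   .loop none [.fwd 17924],
   .loop none [.fwd 13565, .fwd 17925, .bwd 10954],
   .loop none [.bwd 17926],
   .loop none [.fwd 10953, .fwd 17927, .bwd 13612],
   .loop none [.fwd 17928],
   .loop none [.bwd 11181, .bwd 17927],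
   .loop none [.bwd 13613, .bwd 17927],
   .loop none [.bwd 13617, .bwd 17929],
   .loop (some (8, 2)) [.bwd 3760, .bwd 17913, .bwd 17906],
   .loop (some (7, 2)) [.bwd 17912, .bwd 17933, .fwd 8527],
   .loop (some (14, 3)) [.bwd 17933, .fwd 17907, .bwd 17913, .fwd 8499],
   .loop (some (14, 3)) [.bwd 17934, .fwd 17901, .bwd 17910, .fwd 8569],
   .loop (some (8, 2)) [.bwd 3764, .fwd 17934, .fwd 5304],
   .loop (some (2, 1)) [.bwd 5306, .fwd 17867, .fwd 3766],
   .loop (some (9, 1)) [.fwd 10478, .bwd 17854, .bwd 7592],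
   .loop (some (17, 1)) [.bwd 17153, .bwd 17228, .bwd 8836, .fwd 10171, .fwd 17537],
   .loop (some (15, 3)) [.fwd 13793, .bwd 11888, .bwd 8599, .fwd 16437, .fwd 13323],
   .loop (some (5, 2)) [.bwd 17039, .bwd 16663, .fwd 16662],
   .loop (some (5, 1)) [.fwd 10301, .bwd 10127, .bwd 17088],
   .loop (some (1, 2)) [.bwd 8237, .fwd 17377, .bwd 7375],
   .loop (some (2, 2)) [.fwd 17609, .fwd 4074, .fwd 17169],
   .loop (some (1, 2)) [.fwd 8244, .fwd 17852, .fwd 2861],
   .loop (some (17, 1)) [.fwd 13659, .bwd 4185, .bwd 4184, .fwd 8244, .fwd 17169],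
   .loop (some (8, 2)) [.bwd 4126, .fwd 17942, .bwd 4192],
   .loop (some (7, 2)) [.bwd 17215, .bwd 17948, .bwd 4191],
   .loop (some (16, 3)) [.bwd 12988, .bwd 17376, .fwd 4128, .fwd 4129, .fwd 12740],
   .loop (some (19, 6)) [.bwd 4130, .bwd 4129, .bwd 16854, .fwd 2903, .bwd 6342, .bwd 2872, .bwd 2871, .bwd 17499],
   .loop (some (17, 0)) [.bwd 11926, .bwd 8329, .fwd 16661, .fwd 5200, .bwd 17409],
   .loop (some (9, 3)) [.bwd 8262, .fwd 17277, .fwd 7571],
   .loop (some (19, 0)) [.bwd 17091, .fwd 2902, .fwd 2903, .bwd 6342, .bwd 2872, .bwd 2871, .bwd 17499, .fwd 17951],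
   .loop (some (1, 2)) [.bwd 4131, .fwd 17954, .fwd 9379],
   .loop (some (11, 1)) [.fwd 10563, .bwd 17706, .bwd 8266],
   .loop (some (19, 0)) [.bwd 2972, .bwd 2971, .bwd 17661, .fwd 8835, .fwd 8836, .bwd 10204, .bwd 4138, .bwd 4137],
   .loop (some (9, 1)) [.fwd 7770, .bwd 17957, .bwd 8276],
   .loop (some (1, 2)) [.fwd 17311, .fwd 17957, .fwd 2973],
   .loop (some (11, 2)) [.bwd 17481, .bwd 17724, .fwd 3237],
   .loop (some (11, 1)) [.fwd 13555, .fwd 17668, .bwd 12718],
   .loop (some (1, 2)) [.bwd 10268, .fwd 16899, .fwd 17112],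
   .loop (some (17, 2)) [.bwd 11020, .bwd 17121, .bwd 10268, .fwd 4265, .fwd 4266],
   .loop (some (4, 2)) [.bwd 4266, .fwd 17119, .fwd 10944],
   .loop (some (16, 3)) [.bwd 10946, .bwd 10945, .fwd 17964, .fwd 4267, .fwd 4268, .fwd 10273],
   .loop none [.bwd 17965],
   .loop none [.fwd 8716, .fwd 17966, .fwd 10947],
   .loop none [.fwd 17967],
   .loop none [.bwd 10275, .fwd 17968, .fwd 10948],
   .loop none [.fwd 17969],
   .loop none [.fwd 4271, .fwd 17970, .fwd 10949],
   .loop none [.fwd 17971],
   .loop none [.bwd 10950, .bwd 17972],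
   .loop (some (19, 0)) [.bwd 10260, .fwd 13637, .fwd 16824, .bwd 9900, .fwd 7729, .fwd 3008, .fwd 3009, .fwd 10284],
   .loop (some (1, 2)) [.fwd 10279, .fwd 17974, .bwd 17698],
   .loop (some (17, 4)) [.bwd 12792, .fwd 4318, .fwd 4319, .fwd 17680, .fwd 10969],
   .loop (some (19, 0)) [.bwd 17132, .fwd 1913, .fwd 1914, .bwd 6381, .bwd 17191, .fwd 2788, .fwd 2789, .fwd 17505],
   .loop (some (1, 2)) [.bwd 4319, .fwd 17977, .fwd 9577],
   .loop (some (5, 2)) [.bwd 17977, .fwd 17577, .fwd 17974],
   .loop (some (17, 2)) [.bwd 12148, .bwd 17676, .fwd 17677, .fwd 17667, .fwd 13556],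
   .loop (some (5, 1)) [.bwd 9362, .bwd 16265, .fwd 8804],
   .loop (some (10, 1)) [.bwd 16451, .fwd 6274, .bwd 11827],
   .loop (some (3, 2)) [.bwd 11678, .bwd 8359, .fwd 16755],
   .loop (some (6, 1)) [.bwd 16687, .bwd 8361, .bwd 11761],
   .loop (some (9, 1)) [.fwd 8488, .fwd 17914, .bwd 8400],
   .loop (some (9, 1)) [.fwd 8485, .fwd 17872, .bwd 8402],
   .loop (some (8, 0)) [.fwd 17673, .bwd 17567, .fwd 4819],
   .loop (some (7, 2)) [.bwd 12877, .bwd 17987, .fwd 17591],
   .loop (some (6, 2)) [.bwd 17571, .bwd 17988, .fwd 8458],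
   .loop (some (8, 0)) [.bwd 5140, .fwd 17988, .fwd 4823],
   .loop (some (19, 0)) [.bwd 17938, .bwd 6379, .bwd 2527, .bwd 2526, .fwd 5415, .fwd 2477, .fwd 2478, .fwd 7537],
   .loop (some (1, 2)) [.bwd 7549, .fwd 17991, .bwd 8475],
   .loop (some (14, 3)) [.bwd 12893, .bwd 8440, .fwd 17990, .fwd 8614],
   .loop (some (9, 1)) [.bwd 16607, .bwd 10470, .bwd 8757],
   .loop (some (1, 2)) [.bwd 4930, .fwd 10470, .fwd 16606],
   .loop (some (6, 0)) [.fwd 8415, .fwd 17990, .bwd 8457],
   .loop (some (14, 3)) [.bwd 17989, .bwd 8429, .bwd 17272, .fwd 8430],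
   .loop (some (5, 2)) [.bwd 17986, .bwd 17989, .fwd 17985],
   .loop (some (8, 2)) [.bwd 17430, .bwd 17997, .fwd 17429]]

theorem just71_len : just71.length = 250 := by decide +kernel

theorem just71_ok : cert.okFacts 17750 just71 = true := by decide +kernel


end CfsgLib.ThCent.DK
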