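import Cfsg.Agent.Lib.ThCent.DKData

/-!
Justifications of the side facts (generated data).
-/

namespace CfsgLib.ThCent.DK

open CfsgLib.PresCert

set_option maxRecDepth 100000

/-- justifications -/
noncomputable def just72 : List Cert.Just :=
  [.loop (some (5, 1)) [.bwd 17339, .fwd 17334, .fwd 9130],
   .loop (some (5, 0)) [.fwd 17869, .fwd 17999, .bwd 17992],
   .loop (some (7, 2)) [.fwd 5073, .fwd 18001, .bwd 3755],
   .loop (some (8, 0)) [.bwd 3756, .bwd 18001, .fwd 5074],
   .loop (some (14, 4)) [.bwd 8496, .bwd 17935, .fwd 8166, .bwd 17933],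
   .loop (some (14, 4)) [.bwd 8506, .fwd 17934, .bwd 17911, .fwd 17910],
   .loop (some (8, 2)) [.bwd 5082, .bwd 18005, .fwd 17883],
   .loop (some (17, 2)) [.bwd 5373, .bwd 17909, .bwd 8504, .fwd 5082, .fwd 5083],
   .loop (some (6, 2)) [.fwd 7568, .bwd 18006, .bwd 7739],
   .loop (some (14, 4)) [.bwd 10477, .bwd 17993, .fwd 10451, .bwd 12893],
   .loop (some (7, 2)) [.bwd 12941, .bwd 17990, .fwd 8417],
   .loop (some (9, 3)) [.bwd 17566, .bwd 16899, .fwd 16907],
   .loop (some (1, 2)) [.bwd 12986, .bwd 18011, .bwd 13563],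
   .loop (some (14, 4)) [.bwd 8485, .fwd 18003, .fwd 8482, .bwd 17998],
   .loop (some (8, 2)) [.fwd 5233, .bwd 18013, .fwd 17889],
   .loop (some (7, 2)) [.fwd 7355, .bwd 18008, .bwd 7337],
   .loop (some (14, 4)) [.fwd 17911, .bwd 17936, .bwd 17908, .bwd 17934],
   .loop (some (8, 2)) [.bwd 17909, .bwd 18016, .fwd 3764],
   .loop (some (7, 2)) [.bwd 13099, .bwd 18017, .fwd 8174],
   .loop (some (9, 1)) [.bwd 16633, .fwd 8743, .bwd 8759],
   .loop (some (4, 1)) [.bwd 9269, .bwd 16439, .fwd 5427],
   .loop (some (9, 1)) [.bwd 16639, .bwd 8738, .bwd 10197],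
   .loop (some (5, 3)) [.bwd 16713, .bwd 9680, .fwd 9667],
   .loop (some (5, 1)) [.bwd 16388, .bwd 8770, .bwd 8702],
   .loop (some (5, 1)) [.fwd 10011, .bwd 16582, .bwd 10158],
   .loop (some (14, 3)) [.fwd 17996, .bwd 7555, .fwd 17999, .fwd 10032],
   .loop (some (7, 2)) [.fwd 17292, .fwd 17993, .fwd 13171],
   .loop (some (19, 0)) [.bwd 9213, .bwd 9212, .bwd 17775, .fwd 13011, .fwd 17737, .fwd 17961, .bwd 17718, .fwd 17706],
   .loop (some (1, 2)) [.fwd 5762, .fwd 18027, .fwd 9214],
   .loop (some (9, 1)) [.fwd 7772, .fwd 17959, .bwd 10303],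
   .loop (some (9, 1)) [.bwd 16464, .fwd 9916, .bwd 10080],
   .loop (some (15, 3)) [.bwd 13196, .bwd 10570, .fwd 10571, .fwd 16466, .fwd 13353],
   .loop (some (7, 2)) [.fwd 8625, .fwd 18025, .bwd 5030],
   .loop (some (1, 2)) [.bwd 8666, .bwd 18000, .fwd 9131],
   .loop (some (15, 3)) [.bwd 13189, .bwd 13102, .fwd 16660, .fwd 13289, .fwd 13302],
   .loop (some (6, 2)) [.bwd 8722, .bwd 18026, .bwd 13174],
   .loop (some (19, 0)) [.fwd 2539, .fwd 7601, .bwd 17570, .fwd 4866, .fwd 4867, .fwd 17452, .fwd 5610, .bwd 17292],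
   .loop (some (9, 1)) [.fwd 7442, .bwd 18036, .fwd 17293],
   .loop (some (5, 2)) [.fwd 17962, .bwd 18035, .fwd 18012],
   .loop (some (5, 1)) [.bwd 9236, .bwd 17981, .fwd 8732],
   .loop (some (4, 1)) [.bwd 10782, .bwd 16606, .fwd 8735],
   .loop (some (19, 0)) [.bwd 1971, .bwd 1970, .fwd 7343, .fwd 4125, .fwd 4126, .fwd 17215, .fwd 17864, .fwd 17857],
   .loop (some (1, 2)) [.fwd 8783, .fwd 18041, .fwd 1972],
   .loop (some (19, 0)) [.bwd 12102, .bwd 12101, .bwd 16997, .fwd 11928, .bwd 17104, .fwd 3284, .fwd 3285, .bwd 17387],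
   .loop (some (1, 2)) [.bwd 8833, .fwd 18043, .fwd 12103],
   .loop (some (9, 1)) [.fwd 7815, .bwd 18029, .bwd 10214],
   .loop (some (4, 2)) [.bwd 8898, .fwd 17283, .fwd 12103],
   .loop (some (16, 3)) [.bwd 12105, .bwd 12104, .fwd 18046, .fwd 8899, .fwd 8900, .fwd 17681],
   .loop none [.bwd 18047],
   .loop none [.fwd 9217, .fwd 18048, .fwd 12106],
   .loop none [.fwd 18049],
   .loop none [.fwd 17800, .fwd 18050, .fwd 12107],
   .loop none [.fwd 18051],
   .loop none [.fwd 8903, .fwd 18052, .fwd 12108],
   .loop none [.fwd 18053],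
   .loop none [.bwd 12109, .bwd 18054],
   .loop (some (12, 1)) [.fwd 7425, .bwd 10598, .fwd 17581],
   .loop (some (16, 5)) [.fwd 8907, .fwd 8908, .fwd 17592, .fwd 17459, .bwd 11540],
   .loop (some (19, 0)) [.bwd 3009, .bwd 3008, .bwd 7729, .fwd 9900, .bwd 16824, .bwd 13637, .fwd 10260, .bwd 8908],
   .loop (some (9, 1)) [.fwd 7803, .bwd 18058, .fwd 17694],
   .loop (some (1, 2)) [.bwd 17692, .fwd 18058, .fwd 3010],
   .loop (some (2, 0)) [.fwd 11993, .fwd 2541, .fwd 17150],
   .loop (some (15, 4)) [.bwd 18061, .bwd 17843, .fwd 17586, .bwd 17848, .fwd 4267],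
   .loop (some (10, 2)) [.bwd 18061, .bwd 10718, .bwd 10803],
   .loop (some (17, 4)) [.bwd 9109, .bwd 17150, .bwd 7219, .fwd 1902, .fwd 1903],
   .loop (some (3, 1)) [.bwd 18061, .fwd 9109, .fwd 9110],
   .loop (some (2, 1)) [.bwd 1904, .fwd 18064, .fwd 9110],
   .loop (some (12, 1)) [.fwd 7226, .fwd 18064, .bwd 10719],
   .loop (some (4, 1)) [.fwd 11992, .bwd 18065, .fwd 9111],
   .loop (some (19, 7)) [.bwd 9112, .bwd 9111, .fwd 17847, .fwd 8720, .fwd 17113, .fwd 16908, .bwd 7732, .fwd 17381, .bwd 9771],
   .loop none [.fwd 18069],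
   .loop none [.fwd 9770, .bwd 18070],
   .loop none [.bwd 9771, .bwd 18070],
   .loop none [.bwd 9113, .fwd 18070, .bwd 10805],
   .loop none [.fwd 18073],
   .loop none [.bwd 9114, .fwd 18074, .fwd 10806],
   .loop none [.fwd 18075],
   .loop none [.fwd 9343, .bwd 18074],
   .loop none [.bwd 10746, .fwd 18074, .fwd 10721],
   .loop none [.bwd 18078],
   .loop none [.fwd 10723, .fwd 18074, .bwd 10744],
   .loop none [.bwd 18080],
   .loop none [.bwd 9769, .bwd 18076],
   .loop none [.bwd 9152, .bwd 18079],
   .loop none [.bwd 18068, .fwd 18079, .bwd 9151],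
   .loop none [.bwd 18084],
   .loop none [.bwd 9346, .bwd 18081],
   .loop none [.fwd 9345, .bwd 18081],
   .loop none [.bwd 10723, .bwd 18081],
   .loop none [.fwd 11991, .bwd 18085],
   .loop none [.fwd 18068, .bwd 18085],
   .loop (some (12, 1)) [.fwd 7227, .bwd 18066, .bwd 10720],
   .loop (some (3, 1)) [.fwd 11990, .bwd 18089, .fwd 18090, .fwd 18083],
   .loop none [.bwd 18092],
   .loop none [.fwd 11989, .bwd 18093],
   .loop (some (2, 2)) [.bwd 18071, .bwd 9112, .fwd 18083, .fwd 18094],
   .loop none [.fwd 18095],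
   .loop none [.fwd 11988, .bwd 18096],
   .loop (some (10, 2)) [.bwd 18071, .bwd 10722, .bwd 10807],
   .loop (some (4, 1)) [.bwd 18097, .bwd 18082, .fwd 9115],
   .loop (some (3, 0)) [.fwd 11986, .fwd 11987, .bwd 18099],
   .loop (some (2, 2)) [.bwd 9116, .fwd 18100, .bwd 11985],
   .loop (some (16, 1)) [.fwd 9342, .bwd 18077, .fwd 9114, .fwd 9115, .fwd 18100],
   .loop (some (3, 1)) [.bwd 9118, .bwd 9117, .bwd 18101],
   .loop (some (10, 2)) [.fwd 18101, .bwd 10726, .bwd 10811],
   .loop (some (16, 5)) [.fwd 9118, .fwd 9119, .fwd 17598, .bwd 11499, .bwd 11498],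
   .loop (some (19, 0)) [.bwd 3316, .bwd 3315, .fwd 7692, .bwd 7678, .bwd 2797, .bwd 2796, .bwd 17599, .bwd 9119],
   .loop (some (9, 1)) [.fwd 7861, .bwd 18106, .bwd 10728],
   .loop (some (1, 2)) [.fwd 18103, .fwd 18106, .fwd 3317],
   .loop (some (8, 0)) [.bwd 4368, .bwd 8151, .fwd 18002, .bwd 10352],
   .loop none [.fwd 18109],
   .loop none [.bwd 16921, .fwd 18110, .bwd 16857],
   .loop none [.bwd 18111],
   .loop none [.bwd 8301, .fwd 18110, .bwd 9140],
   .loop none [.fwd 18113],
   .loop none [.bwd 10352, .bwd 18110],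
   .loop none [.bwd 10933, .fwd 18110, .fwd 10353],
   .loop none [.bwd 18116],
   .loop none [.bwd 10364, .bwd 18110],
   .loop none [.fwd 16921, .bwd 18112],
   .loop none [.bwd 3701, .fwd 18112, .fwd 8048],
   .loop none [.fwd 18120],
   .loop none [.fwd 16922, .bwd 18112],
   .loop none [.fwd 3700, .fwd 18112, .fwd 12093],
   .loop none [.fwd 18123],
   .loop none [.fwd 8055, .fwd 18114, .bwd 10141],
   .loop none [.bwd 18125],
   .loop none [.fwd 17299, .fwd 18114, .bwd 17856],
   .loop none [.fwd 18127],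
   .loop none [.bwd 11259, .fwd 18114, .bwd 9139],
   .loop none [.bwd 18129],
   .loop none [.bwd 10186, .bwd 18114],
   .loop none [.fwd 10933, .bwd 18117],
   .loop none [.fwd 4401, .fwd 18117, .fwd 10934],
   .loop none [.fwd 18133],
   .loop none [.bwd 7557, .fwd 18121, .fwd 11967],
   .loop none [.fwd 18135],
   .loop none [.bwd 4424, .bwd 18121],
   .loop none [.bwd 6442, .fwd 18124, .fwd 12094],
   .loop none [.fwd 18138],
   .loop none [.fwd 6362, .bwd 18126],
   .loop none [.bwd 4459, .bwd 18126],
   .loop none [.bwd 17855, .bwd 18128],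
   .loop none [.fwd 12606, .bwd 18128],
   .loop none [.fwd 16866, .bwd 18128],
   .loop none [.bwd 12705, .bwd 18128],
   .loop none [.fwd 11259, .bwd 18130],
   .loop none [.fwd 4426, .fwd 18130, .fwd 11260],
   .loop none [.fwd 18147],
   .loop none [.fwd 4413, .fwd 18134, .fwd 10935],
   .loop none [.fwd 18149],
   .loop none [.fwd 4789, .fwd 18136, .fwd 11968],
   .loop none [.fwd 18151],
   .loop none [.fwd 6514, .fwd 18139, .fwd 12095],
   .loop none [.fwd 18153],
   .loop none [.fwd 4438, .fwd 18148, .fwd 11261],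
   .loop none [.fwd 18155],
   .loop none [.fwd 6161, .fwd 18150, .fwd 10311],
   .loop none [.fwd 18157],
   .loop none [.bwd 10312, .bwd 18150],
   .loop none [.fwd 4412, .fwd 18150, .fwd 10313],
   .loop none [.bwd 18160],
   .loop none [.bwd 8307, .fwd 18150, .fwd 10314],
   .loop none [.fwd 18162],
   .loop none [.fwd 8309, .fwd 18150, .bwd 18118],
   .loop none [.bwd 18164],
   .loop none [.fwd 6494, .fwd 18152, .fwd 11969],
   .loop none [.bwd 18166],
   .loop none [.fwd 6404, .fwd 18154, .bwd 6500],
   .loop none [.fwd 18168],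
   .loop none [.fwd 4061, .bwd 18154],
   .loop none [.fwd 6504, .fwd 18154, .bwd 16363],
   .loop none [.fwd 18171],
   .loop none [.bwd 6420, .fwd 18154, .fwd 6518],
   .loop none [.fwd 18173],
   .loop none [.fwd 6505, .fwd 18154, .bwd 7734],
   .loop none [.fwd 18175],
   .loop none [.fwd 8293, .fwd 18156, .bwd 10127],
   .loop none [.bwd 18177],
   .loop none [.fwd 16877, .fwd 18156, .fwd 16881],
   .loop none [.bwd 18179],
   .loop none [.fwd 6215, .fwd 18156, .bwd 9847],
   .loop none [.fwd 18181],
   .loop none [.fwd 9333, .bwd 18156],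
   .loop none [.fwd 4437, .fwd 18156, .bwd 10301],
   .loop none [.bwd 18184],
   .loop none [.bwd 8315, .fwd 18156, .fwd 9855],
   .loop none [.fwd 18186],
   .loop none [.fwd 8294, .fwd 18156, .bwd 18131],
   .loop none [.fwd 18188],
   .loop none [.fwd 6135, .fwd 18158, .fwd 5232],
   .loop none [.fwd 18190],
   .loop none [.fwd 482, .fwd 18158, .fwd 8155],
   .loop none [.fwd 18192],
   .loop none [.bwd 483, .fwd 18158, .fwd 10499],
   .loop none [.fwd 18194],
   .loop none [.fwd 6123, .fwd 18158, .bwd 8476],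
   .loop none [.fwd 18196],
   .loop none [.bwd 4412, .bwd 18161],
   .loop none [.bwd 16307, .bwd 18161],
   .loop none [.bwd 7599, .fwd 18161, .fwd 6164],
   .loop none [.fwd 18200],
   .loop none [.fwd 7345, .fwd 18161, .fwd 16308],
   .loop none [.fwd 18202],
   .loop none [.fwd 4367, .bwd 18163],
   .loop none [.bwd 18132, .bwd 18165],
   .loop none [.bwd 4402, .bwd 18165],
   .loop none [.bwd 8309, .bwd 18165],
   .loop none [.fwd 6128, .bwd 18165],
   .loop none [.bwd 6503, .bwd 18167],
   .loop none [.fwd 7733, .fwd 18167, .fwd 6493],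
   .loop none [.bwd 18210],
   .loop none [.fwd 7735, .bwd 18167],
   .loop none [.bwd 6494, .bwd 18167],
   .loop none [.fwd 16663, .fwd 18167, .fwd 6495],
   .loop none [.bwd 18214],
   .loop none [.bwd 8049, .fwd 18167, .fwd 6517],
   .loop none [.bwd 18216],
   .loop none [.fwd 7736, .fwd 18167, .bwd 8231],
   .loop none [.fwd 18218],
   .loop none [.bwd 6403, .fwd 18169, .fwd 8625],
   .loop none [.fwd 18220],
   .loop none [.fwd 659, .fwd 18169, .bwd 2888],
   .loop none [.fwd 18222],
   .loop none [.bwd 660, .fwd 18169, .fwd 12891],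
   .loop none [.fwd 18224],
   .loop none [.fwd 677, .fwd 18169, .bwd 18032],
   .loop none [.fwd 18226],
   .loop none [.fwd 16507, .bwd 18172],
   .loop none [.fwd 16510, .bwd 18172],
   .loop none [.bwd 6520, .fwd 18172, .fwd 16364],
   .loop none [.fwd 18230],
   .loop none [.bwd 6513, .fwd 18172, .bwd 16306],
   .loop none [.fwd 18232],
   .loop none [.bwd 6301, .bwd 18174],
   .loop none [.bwd 18119, .bwd 18176],
   .loop none [.bwd 18122, .bwd 18176],
   .loop none [.fwd 3700, .bwd 18176],
   .loop none [.bwd 8293, .bwd 18178],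
   .loop none [.bwd 4064, .fwd 18178, .fwd 16868],
   .loop none [.fwd 18239],
   .loop none [.fwd 8232, .bwd 18178],
   .loop none [.fwd 16916, .bwd 18178],
   .loop none [.fwd 17088, .fwd 18178, .fwd 16871],
   .loop none [.bwd 18243],
   .loop none [.bwd 8052, .fwd 18178, .fwd 8295],
   .loop none [.fwd 18245],
   .loop none [.fwd 8093, .fwd 18178, .fwd 16872],
   .loop none [.fwd 18247],
   .loop none [.bwd 16877, .bwd 18180]]

theorem just72_len : just72.length = 250 := by decide +kernel

theorem just72_ok : cert.okFacts 18000 just72 = true := by decide +kernel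

/-- justifications -/
noncomputable def just73 : List Cert.Just :=
  [.loop none [.fwd 4192, .fwd 18180, .fwd 16878],
   .loop none [.fwd 18250],
   .loop none [.fwd 4193, .bwd 18180],
   .loop none [.fwd 16919, .bwd 18180],
   .loop none [.fwd 17942, .fwd 18180, .fwd 16879],
   .loop none [.fwd 18254],
   .loop none [.bwd 8375, .fwd 18180, .bwd 16946],
   .loop none [.bwd 18256],
   .loop none [.fwd 18145, .fwd 18180, .fwd 16880],
   .loop none [.bwd 18258],
   .loop none [.bwd 6177, .fwd 18182, .fwd 13095],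
   .loop none [.fwd 18260],
   .loop none [.fwd 520, .fwd 18182, .bwd 5230],
   .loop none [.fwd 18262],
   .loop none [.bwd 521, .fwd 18182, .fwd 10496],
   .loop none [.fwd 18264],
   .loop none [.bwd 4437, .bwd 18185],
   .loop none [.bwd 4420, .bwd 18185],
   .loop none [.bwd 7600, .fwd 18185, .fwd 6217],
   .loop none [.fwd 18268],
   .loop none [.fwd 7950, .fwd 18185, .bwd 4419],
   .loop none [.fwd 18270],
   .loop none [.fwd 4785, .bwd 18187],
   .loop none [.fwd 8301, .bwd 18189],
   .loop none [.fwd 18146, .bwd 18189],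
   .loop none [.fwd 15878, .fwd 18191, .fwd 8549],
   .loop none [.fwd 18275],
   .loop none [.fwd 3360, .fwd 18191, .fwd 8548],
   .loop none [.fwd 18277],
   .loop none [.bwd 3361, .fwd 18191, .bwd 10510],
   .loop none [.fwd 18279],
   .loop none [.fwd 3424, .fwd 18191, .bwd 18014],
   .loop none [.fwd 18281],
   .loop none [.fwd 6180, .bwd 18193],
   .loop none [.fwd 9654, .fwd 18193, .fwd 16594],
   .loop none [.bwd 18284],
   .loop none [.bwd 8144, .fwd 18193, .fwd 8149],
   .loop none [.bwd 18286],
   .loop none [.fwd 8592, .fwd 18193, .bwd 8547],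
   .loop none [.bwd 18288],
   .loop none [.fwd 6515, .bwd 18195],
   .loop none [.bwd 8664, .fwd 18195, .bwd 1968],
   .loop none [.bwd 18291],
   .loop none [.bwd 484, .fwd 18195, .fwd 18015],
   .loop none [.fwd 18293],
   .loop none [.bwd 6142, .fwd 18195, .fwd 7402],
   .loop none [.fwd 18295],
   .loop none [.fwd 18115, .bwd 18197],
   .loop none [.fwd 4413, .bwd 18201],
   .loop none [.fwd 18199, .bwd 18203],
   .loop none [.fwd 16346, .bwd 18203],
   .loop none [.fwd 6409, .fwd 18211, .fwd 2890],
   .loop none [.bwd 18301],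
   .loop none [.bwd 7733, .bwd 18211],
   .loop none [.fwd 622, .fwd 18211, .fwd 7221],
   .loop none [.fwd 18304],
   .loop none [.bwd 623, .fwd 18211, .fwd 10820],
   .loop none [.fwd 18306],
   .loop none [.fwd 6303, .fwd 18211, .bwd 7556],
   .loop none [.fwd 18308],
   .loop none [.bwd 16663, .bwd 18215],
   .loop none [.bwd 6385, .fwd 18215, .fwd 16664],
   .loop none [.bwd 18311],
   .loop none [.fwd 4795, .fwd 18215, .bwd 16598],
   .loop none [.fwd 18313],
   .loop none [.bwd 6356, .bwd 18217],
   .loop none [.fwd 8049, .bwd 18217],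
   .loop none [.fwd 6439, .bwd 18219],
   .loop none [.fwd 7557, .bwd 18219],
   .loop none [.bwd 4790, .bwd 18219],
   .loop none [.fwd 6309, .bwd 18219],
   .loop none [.bwd 3939, .fwd 18221, .fwd 10016],
   .loop none [.fwd 18321],
   .loop none [.fwd 707, .fwd 18221, .bwd 10030],
   .loop none [.fwd 18323],
   .loop none [.bwd 708, .fwd 18221, .fwd 12892],
   .loop none [.fwd 18325],
   .loop none [.fwd 719, .fwd 18221, .fwd 18025],
   .loop none [.fwd 18327],
   .loop none [.fwd 6482, .bwd 18223],
   .loop none [.fwd 16803, .fwd 18223, .bwd 6498],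
   .loop none [.bwd 18330],
   .loop none [.bwd 6421, .fwd 18223, .fwd 7205],
   .loop none [.fwd 18332],
   .loop none [.bwd 6499, .fwd 18223, .bwd 6501],
   .loop none [.fwd 18334],
   .loop none [.fwd 6506, .fwd 18225, .bwd 10446],
   .loop none [.fwd 18336],
   .loop none [.bwd 6328, .fwd 18227, .bwd 5029],
   .loop none [.fwd 18338],
   .loop none [.bwd 6331, .fwd 18227, .fwd 8306],
   .loop none [.fwd 18340],
   .loop none [.fwd 16654, .bwd 18231],
   .loop none [.fwd 16655, .bwd 18231],
   .loop none [.bwd 7946, .bwd 18233],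
   .loop none [.fwd 7407, .bwd 18233],
   .loop none [.bwd 16583, .bwd 18240],
   .loop none [.fwd 17417, .fwd 18240, .fwd 8373],
   .loop none [.bwd 18347],
   .loop none [.bwd 4065, .fwd 18240, .bwd 4688],
   .loop none [.fwd 18349],
   .loop none [.fwd 17262, .fwd 18240, .fwd 4689],
   .loop none [.bwd 18351],
   .loop none [.fwd 4699, .bwd 18240],
   .loop none [.bwd 8056, .fwd 18240, .bwd 8374],
   .loop none [.fwd 18354],
   .loop none [.fwd 8096, .fwd 18240, .bwd 8352],
   .loop none [.fwd 18356],
   .loop none [.bwd 17943, .bwd 18244],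
   .loop none [.bwd 17088, .bwd 18244],
   .loop none [.bwd 8341, .fwd 18244, .fwd 17089],
   .loop none [.bwd 18360],
   .loop none [.fwd 4704, .fwd 18244, .fwd 17090],
   .loop none [.fwd 18362],
   .loop none [.fwd 4432, .bwd 18246],
   .loop none [.bwd 4779, .bwd 18246],
   .loop none [.fwd 6361, .bwd 18246],
   .loop none [.bwd 16953, .bwd 18246],
   .loop none [.bwd 16863, .bwd 18248],
   .loop none [.bwd 16864, .bwd 18248],
   .loop none [.bwd 6319, .bwd 18251],
   .loop none [.fwd 4191, .fwd 18251, .bwd 11476],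
   .loop none [.fwd 18371],
   .loop none [.bwd 8236, .fwd 18251, .bwd 4565],
   .loop none [.fwd 18373],
   .loop none [.bwd 17948, .fwd 18251, .fwd 4566],
   .loop none [.fwd 18375],
   .loop none [.fwd 4573, .bwd 18251],
   .loop none [.fwd 13523, .fwd 18251, .bwd 8344],
   .loop none [.bwd 18378],
   .loop none [.fwd 12712, .fwd 18251, .bwd 6333],
   .loop none [.bwd 18380],
   .loop none [.bwd 8332, .bwd 18255],
   .loop none [.fwd 8331, .bwd 18255],
   .loop none [.bwd 4455, .bwd 18255],
   .loop none [.bwd 8254, .fwd 18255, .fwd 8317],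
   .loop none [.fwd 18385],
   .loop none [.fwd 8253, .fwd 18255, .bwd 4454],
   .loop none [.fwd 18387],
   .loop none [.fwd 8053, .bwd 18257],
   .loop none [.bwd 17149, .bwd 18257],
   .loop none [.fwd 8375, .bwd 18257],
   .loop none [.bwd 18142, .bwd 18259],
   .loop none [.bwd 18143, .bwd 18259],
   .loop none [.bwd 18144, .bwd 18259],
   .loop none [.bwd 18145, .bwd 18259],
   .loop none [.bwd 6075, .fwd 18261, .fwd 13100],
   .loop none [.fwd 18396],
   .loop none [.bwd 6077, .fwd 18261, .fwd 11211],
   .loop none [.fwd 18398],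
   .loop none [.fwd 543, .fwd 18261, .bwd 13582],
   .loop none [.fwd 18400],
   .loop none [.bwd 544, .fwd 18261, .fwd 14593],
   .loop none [.fwd 18402],
   .loop none [.fwd 6196, .bwd 18263],
   .loop none [.fwd 9732, .fwd 18263, .bwd 9845],
   .loop none [.bwd 18405],
   .loop none [.bwd 8140, .fwd 18263, .fwd 8146],
   .loop none [.fwd 18407],
   .loop none [.bwd 6199, .fwd 18263, .bwd 6201],
   .loop none [.fwd 18409],
   .loop none [.bwd 7343, .bwd 18265],
   .loop none [.fwd 6204, .fwd 18265, .fwd 7338],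
   .loop none [.bwd 18412],
   .loop none [.fwd 6155, .fwd 18265, .fwd 7413],
   .loop none [.fwd 18414],
   .loop none [.fwd 6144, .fwd 18265, .bwd 7344],
   .loop none [.fwd 18416],
   .loop none [.bwd 4426, .bwd 18269],
   .loop none [.fwd 4438, .bwd 18269],
   .loop none [.fwd 18267, .bwd 18271],
   .loop none [.fwd 4418, .bwd 18271],
   .loop none [.fwd 7489, .fwd 18276, .bwd 17909],
   .loop none [.fwd 18422],
   .loop none [.bwd 5499, .fwd 18276, .fwd 5373],
   .loop none [.fwd 18424],
   .loop none [.bwd 5500, .fwd 18276, .fwd 10514],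
   .loop none [.fwd 18426],
   .loop none [.bwd 5501, .fwd 18276, .bwd 18017],
   .loop none [.bwd 18428],
   .loop none [.fwd 5542, .fwd 18276, .bwd 8551],
   .loop none [.fwd 18430],
   .loop none [.bwd 16064, .fwd 18278, .fwd 16882],
   .loop none [.fwd 18432],
   .loop none [.fwd 9750, .fwd 18278, .fwd 16883],
   .loop none [.bwd 18434],
   .loop none [.bwd 10085, .fwd 18278, .fwd 8591],
   .loop none [.bwd 18436],
   .loop none [.bwd 16041, .fwd 18278, .bwd 8552],
   .loop none [.bwd 18438],
   .loop none [.bwd 10881, .fwd 18280, .bwd 7339],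
   .loop none [.bwd 18440],
   .loop none [.fwd 16088, .fwd 18282, .bwd 7590],
   .loop none [.bwd 18442],
   .loop none [.bwd 16439, .fwd 18285, .bwd 9653],
   .loop none [.bwd 18444],
   .loop none [.bwd 9654, .bwd 18285],
   .loop none [.bwd 16440, .fwd 18285, .bwd 9664],
   .loop none [.fwd 18447],
   .loop none [.fwd 10711, .bwd 18285],
   .loop none [.bwd 16441, .fwd 18285, .fwd 16595],
   .loop none [.bwd 18450],
   .loop none [.fwd 5580, .bwd 18287],
   .loop none [.fwd 9780, .bwd 18287],
   .loop none [.fwd 10158, .bwd 18287],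
   .loop none [.fwd 8144, .bwd 18287],
   .loop none [.fwd 5308, .bwd 18289],
   .loop none [.fwd 6188, .bwd 18289],
   .loop none [.bwd 8593, .bwd 18289],
   .loop none [.fwd 8471, .fwd 18289, .fwd 9298],
   .loop none [.fwd 18459],
   .loop none [.bwd 8592, .bwd 18289],
   .loop none [.fwd 8664, .bwd 18292],
   .loop none [.fwd 10494, .bwd 18292],
   .loop none [.bwd 9181, .bwd 18292],
   .loop none [.bwd 7340, .fwd 18292, .fwd 9796],
   .loop none [.fwd 18465],
   .loop none [.fwd 7332, .fwd 18292, .fwd 9797],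
   .loop none [.bwd 18467],
   .loop none [.fwd 5875, .bwd 18294],
   .loop none [.fwd 6519, .bwd 18296],
   .loop none [.bwd 7373, .fwd 18302, .bwd 3957],
   .loop none [.fwd 18471],
   .loop none [.bwd 6409, .bwd 18302],
   .loop none [.bwd 2891, .fwd 18302, .fwd 6492],
   .loop none [.fwd 18474],
   .loop none [.bwd 7375, .fwd 18302, .bwd 2985],
   .loop none [.fwd 18476],
   .loop none [.fwd 13611, .fwd 18302, .fwd 6412],
   .loop none [.bwd 18478],
   .loop none [.bwd 6413, .bwd 18302],
   .loop none [.bwd 7220, .fwd 18302, .fwd 6414],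
   .loop none [.fwd 18481],
   .loop none [.fwd 7559, .fwd 18302, .bwd 6446],
   .loop none [.fwd 18483],
   .loop none [.fwd 6416, .bwd 18305],
   .loop none [.fwd 11861, .fwd 18305, .bwd 11915],
   .loop none [.fwd 18486],
   .loop none [.bwd 7204, .fwd 18305, .fwd 7214],
   .loop none [.bwd 18488],
   .loop none [.fwd 7381, .fwd 18305, .bwd 7378],
   .loop none [.bwd 18490],
   .loop none [.bwd 5857, .fwd 18307, .bwd 4860],
   .loop none [.fwd 18492],
   .loop none [.bwd 7554, .bwd 18309],
   .loop none [.fwd 6382, .bwd 18312],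
   .loop none [.fwd 7596, .bwd 18312],
   .loop none [.fwd 18213, .bwd 18312],
   .loop none [.fwd 6385, .bwd 18312],
   .loop none [.fwd 16920, .bwd 18314]]

theorem just73_len : just73.length = 250 := by decide +kernel

theorem just73_ok : cert.okFacts 18250 just73 = true := by decide +kernel

/-- justifications -/
noncomputable def just74 : List Cert.Just :=
  [.loop none [.fwd 229, .fwd 18322, .fwd 4872],
   .loop none [.fwd 18500],
   .loop none [.fwd 249, .fwd 18322, .fwd 18009],
   .loop none [.fwd 18502],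
   .loop none [.bwd 4028, .fwd 18324, .fwd 16886],
   .loop none [.fwd 18504],
   .loop none [.fwd 3965, .fwd 18324, .bwd 10031],
   .loop none [.fwd 18506],
   .loop none [.bwd 6527, .fwd 18324, .fwd 8419],
   .loop none [.fwd 18508],
   .loop none [.fwd 4035, .fwd 18324, .bwd 7731],
   .loop none [.fwd 18510],
   .loop none [.fwd 4094, .fwd 18326, .fwd 10448],
   .loop none [.fwd 18512],
   .loop none [.fwd 4293, .fwd 18328, .fwd 8456],
   .loop none [.fwd 18514],
   .loop none [.bwd 3906, .fwd 18331, .fwd 16802],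
   .loop none [.fwd 18516],
   .loop none [.bwd 16803, .bwd 18331],
   .loop none [.fwd 6476, .fwd 18331, .fwd 16804],
   .loop none [.fwd 18519],
   .loop none [.bwd 16805, .bwd 18331],
   .loop none [.fwd 12038, .fwd 18331, .fwd 16806],
   .loop none [.bwd 18522],
   .loop none [.bwd 16706, .bwd 18333],
   .loop none [.fwd 1898, .bwd 18333],
   .loop none [.bwd 16842, .bwd 18335],
   .loop none [.fwd 2478, .bwd 18335],
   .loop none [.bwd 8760, .fwd 18335, .bwd 10020],
   .loop none [.bwd 18528],
   .loop none [.fwd 16564, .bwd 18337],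
   .loop none [.fwd 6516, .fwd 18337, .bwd 16328],
   .loop none [.fwd 18531],
   .loop none [.bwd 6334, .fwd 18339, .fwd 12789],
   .loop none [.bwd 18533],
   .loop none [.bwd 6323, .fwd 18339, .fwd 10985],
   .loop none [.fwd 18535],
   .loop none [.fwd 6216, .bwd 18339],
   .loop none [.bwd 6324, .fwd 18339, .bwd 5028],
   .loop none [.fwd 18538],
   .loop none [.fwd 8679, .fwd 18341, .fwd 10482],
   .loop none [.fwd 18540],
   .loop none [.bwd 8362, .fwd 18348, .bwd 10970],
   .loop none [.fwd 18542],
   .loop none [.bwd 17417, .bwd 18348],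
   .loop none [.bwd 16670, .fwd 18348, .fwd 17980],
   .loop none [.fwd 18545],
   .loop none [.fwd 4626, .fwd 18348, .bwd 13556],
   .loop none [.fwd 18547],
   .loop none [.bwd 4627, .fwd 18348, .fwd 17558],
   .loop none [.fwd 18549],
   .loop none [.fwd 8369, .fwd 18348, .fwd 17420],
   .loop none [.fwd 18551],
   .loop none [.fwd 8364, .fwd 18348, .bwd 13558],
   .loop none [.fwd 18553],
   .loop none [.bwd 16873, .bwd 18350],
   .loop none [.bwd 16874, .bwd 18350],
   .loop none [.fwd 4687, .bwd 18350],
   .loop none [.fwd 13473, .fwd 18350, .fwd 16875],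
   .loop none [.fwd 18558],
   .loop none [.bwd 8057, .fwd 18350, .fwd 12853],
   .loop none [.fwd 18560],
   .loop none [.fwd 8098, .fwd 18350, .fwd 16876],
   .loop none [.fwd 18562],
   .loop none [.bwd 16666, .fwd 18352, .bwd 17409],
   .loop none [.bwd 18564],
   .loop none [.bwd 17262, .bwd 18352],
   .loop none [.bwd 8357, .fwd 18352, .fwd 17263],
   .loop none [.fwd 18567],
   .loop none [.bwd 16865, .bwd 18355],
   .loop none [.fwd 18357, .fwd 4684, .bwd 18355],
   .loop none [.fwd 4682, .bwd 18355],
   .loop none [.bwd 16571, .bwd 18357],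
   .loop none [.bwd 4698, .bwd 18357],
   .loop none [.fwd 18242, .bwd 18361],
   .loop none [.fwd 8341, .bwd 18361],
   .loop none [.bwd 16960, .bwd 18363],
   .loop none [.fwd 17130, .bwd 18363],
   .loop none [.fwd 4190, .fwd 18372, .bwd 12504],
   .loop none [.fwd 18578],
   .loop none [.fwd 11475, .bwd 18372],
   .loop none [.fwd 8237, .fwd 18372, .fwd 12378],
   .loop none [.fwd 18581],
   .loop none [.bwd 17949, .fwd 18372, .fwd 12379],
   .loop none [.bwd 18583],
   .loop none [.bwd 12380, .bwd 18372],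
   .loop none [.fwd 17759, .fwd 18372, .fwd 12393],
   .loop none [.fwd 18586],
   .loop none [.fwd 12719, .fwd 18372, .bwd 12841],
   .loop none [.bwd 18588],
   .loop none [.fwd 6315, .bwd 18374],
   .loop none [.fwd 17220, .bwd 18374],
   .loop none [.fwd 4564, .bwd 18374],
   .loop none [.bwd 17221, .fwd 18374, .bwd 11914],
   .loop none [.fwd 18593],
   .loop none [.bwd 8058, .fwd 18374, .fwd 12332],
   .loop none [.fwd 18595],
   .loop none [.fwd 8100, .fwd 18374, .bwd 11912],
   .loop none [.fwd 18597],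
   .loop none [.fwd 6238, .bwd 18376],
   .loop none [.bwd 6350, .bwd 18376],
   .loop none [.bwd 4127, .fwd 18376, .fwd 11926],
   .loop none [.fwd 18601],
   .loop none [.bwd 4567, .bwd 18376],
   .loop none [.fwd 8255, .fwd 18376, .bwd 6343],
   .loop none [.bwd 18604],
   .loop none [.fwd 13524, .bwd 18379],
   .loop none [.bwd 13523, .bwd 18379],
   .loop none [.bwd 12607, .bwd 18381],
   .loop none [.bwd 12712, .bwd 18381],
   .loop none [.fwd 4460, .bwd 18386],
   .loop none [.bwd 4461, .bwd 18386],
   .loop none [.fwd 18253, .bwd 18386],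
   .loop none [.bwd 8298, .bwd 18388],
   .loop none [.fwd 6353, .bwd 18388],
   .loop none [.fwd 18384, .bwd 18388],
   .loop none [.fwd 4453, .bwd 18388],
   .loop none [.bwd 5839, .fwd 18397, .bwd 11188],
   .loop none [.fwd 18617],
   .loop none [.fwd 422, .fwd 18397, .fwd 11189],
   .loop none [.fwd 18619],
   .loop none [.bwd 423, .fwd 18397, .fwd 14594],
   .loop none [.fwd 18621],
   .loop none [.fwd 443, .fwd 18397, .bwd 18018],
   .loop none [.fwd 18623],
   .loop none [.fwd 603, .fwd 18399, .fwd 13616],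
   .loop none [.fwd 18625],
   .loop none [.bwd 9313, .fwd 18401, .bwd 11445],
   .loop none [.fwd 18627],
   .loop none [.fwd 9301, .fwd 18401, .bwd 13014],
   .loop none [.fwd 18629],
   .loop none [.fwd 6081, .fwd 18401, .bwd 13015],
   .loop none [.fwd 18631],
   .loop none [.bwd 6093, .fwd 18403, .fwd 7346],
   .loop none [.bwd 18633],
   .loop none [.bwd 9267, .fwd 18406, .bwd 11036],
   .loop none [.fwd 18635],
   .loop none [.bwd 9732, .bwd 18406],
   .loop none [.fwd 9843, .fwd 18406, .bwd 11047],
   .loop none [.fwd 18638],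
   .loop none [.bwd 13278, .bwd 18406],
   .loop none [.fwd 11115, .fwd 18406, .bwd 10793],
   .loop none [.bwd 18641],
   .loop none [.fwd 8143, .bwd 18408],
   .loop none [.fwd 3752, .bwd 18408],
   .loop none [.fwd 8468, .bwd 18410],
   .loop none [.fwd 5070, .bwd 18410],
   .loop none [.bwd 10998, .fwd 18410, .bwd 8453],
   .loop none [.bwd 18647],
   .loop none [.bwd 6204, .bwd 18413],
   .loop none [.fwd 10982, .bwd 18413],
   .loop none [.bwd 11192, .bwd 18413],
   .loop none [.bwd 7245, .fwd 18413, .fwd 6218],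
   .loop none [.fwd 18652],
   .loop none [.fwd 7247, .fwd 18413, .bwd 6206],
   .loop none [.bwd 18654],
   .loop none [.fwd 7595, .bwd 18415],
   .loop none [.fwd 7408, .bwd 18417],
   .loop none [.bwd 7488, .fwd 18423, .bwd 8519],
   .loop none [.bwd 18658],
   .loop none [.fwd 7482, .fwd 18423, .bwd 18016],
   .loop none [.fwd 18660],
   .loop none [.fwd 15916, .fwd 18425, .bwd 18007],
   .loop none [.fwd 18662],
   .loop none [.fwd 16104, .fwd 18425, .fwd 8596],
   .loop none [.fwd 18664],
   .loop none [.fwd 5496, .fwd 18425, .bwd 8595],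
   .loop none [.bwd 18666],
   .loop none [.fwd 15920, .fwd 18427, .fwd 5242],
   .loop none [.fwd 18668],
   .loop none [.bwd 5117, .fwd 18427, .fwd 18006],
   .loop none [.fwd 18670],
   .loop none [.bwd 5545, .bwd 18429],
   .loop none [.fwd 15836, .bwd 18429],
   .loop none [.bwd 3765, .fwd 18429, .bwd 5683],
   .loop none [.fwd 18674],
   .loop none [.fwd 5501, .bwd 18429],
   .loop none [.fwd 5690, .bwd 18429],
   .loop none [.bwd 17937, .bwd 18431],
   .loop none [.bwd 8450, .bwd 18433],
   .loop none [.bwd 16303, .bwd 18435],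
   .loop none [.bwd 9750, .bwd 18435],
   .loop none [.fwd 16416, .bwd 18435],
   .loop none [.bwd 16294, .bwd 18437],
   .loop none [.fwd 10085, .bwd 18437],
   .loop none [.bwd 16039, .bwd 18439],
   .loop none [.fwd 18675, .bwd 16052, .bwd 18439],
   .loop none [.fwd 16041, .bwd 18439],
   .loop none [.fwd 10881, .bwd 18441],
   .loop none [.bwd 16087, .bwd 18441],
   .loop none [.bwd 16088, .bwd 18443],
   .loop none [.fwd 8071, .fwd 18443, .bwd 16337],
   .loop none [.fwd 18691],
   .loop none [.fwd 18667, .fwd 7589, .bwd 18443],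
   .loop none [.bwd 5399, .bwd 18443],
   .loop none [.bwd 9269, .bwd 18445],
   .loop none [.bwd 10791, .bwd 18445],
   .loop none [.fwd 16439, .bwd 18445],
   .loop none [.fwd 8249, .fwd 18448, .bwd 9793],
   .loop none [.fwd 18698],
   .loop none [.fwd 9662, .fwd 18448, .bwd 9663],
   .loop none [.bwd 18700],
   .loop none [.fwd 17621, .fwd 18448, .fwd 10767],
   .loop none [.fwd 18702],
   .loop none [.fwd 16750, .fwd 18451, .bwd 9727],
   .loop none [.bwd 18704],
   .loop none [.fwd 16441, .bwd 18451],
   .loop none [.fwd 7279, .fwd 18460, .fwd 9299],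
   .loop none [.fwd 18707],
   .loop none [.fwd 10504, .bwd 18460],
   .loop none [.fwd 16353, .bwd 18466],
   .loop none [.fwd 6152, .bwd 18466],
   .loop none [.fwd 17491, .fwd 18466, .bwd 9168],
   .loop none [.fwd 18712],
   .loop none [.bwd 6160, .bwd 18466],
   .loop none [.fwd 9180, .fwd 18468, .fwd 5891],
   .loop none [.bwd 18715],
   .loop none [.bwd 7332, .bwd 18468],
   .loop none [.fwd 5883, .bwd 18468],
   .loop none [.bwd 7178, .bwd 18472],
   .loop none [.bwd 3958, .bwd 18472],
   .loop none [.fwd 1979, .fwd 18472, .bwd 5015],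
   .loop none [.fwd 18721],
   .loop none [.bwd 1980, .fwd 18472, .bwd 2750],
   .loop none [.fwd 18723],
   .loop none [.bwd 13172, .fwd 18472, .bwd 3274],
   .loop none [.bwd 18725],
   .loop none [.fwd 4055, .bwd 18472],
   .loop none [.bwd 7448, .fwd 18472, .fwd 3960],
   .loop none [.bwd 18728],
   .loop none [.fwd 7374, .fwd 18472, .bwd 4058],
   .loop none [.fwd 18730],
   .loop none [.bwd 11831, .bwd 18475],
   .loop none [.fwd 7639, .bwd 18475],
   .loop none [.bwd 2892, .fwd 18475, .fwd 7630],
   .loop none [.fwd 18734],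
   .loop none [.bwd 7631, .bwd 18475],
   .loop none [.fwd 17931, .fwd 18475, .fwd 7632],
   .loop none [.bwd 18737],
   .loop none [.bwd 7224, .fwd 18475, .fwd 7633],
   .loop none [.bwd 18739],
   .loop none [.fwd 7560, .fwd 18475, .fwd 7634],
   .loop none [.fwd 18741],
   .loop none [.bwd 6417, .bwd 18477],
   .loop none [.bwd 17224, .fwd 18477, .bwd 2984],
   .loop none [.bwd 18744],
   .loop none [.fwd 11917, .bwd 18477],
   .loop none [.fwd 7377, .fwd 18477, .bwd 7658],
   .loop none [.fwd 18747],
   .loop none [.fwd 2873, .fwd 18479, .fwd 13563]]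

theorem just74_len : just74.length = 250 := by decide +kernel

theorem just74_ok : cert.okFacts 18500 just74 = true := by decide +kernel

/-- justifications -/
noncomputable def just75 : List Cert.Just :=
  [.loop none [.fwd 18749],
   .loop none [.bwd 13611, .bwd 18479],
   .loop none [.fwd 6287, .bwd 18482],
   .loop none [.fwd 18484, .fwd 6445, .bwd 18482],
   .loop none [.bwd 5179, .bwd 18482],
   .loop none [.bwd 6443, .bwd 18484],
   .loop none [.bwd 6444, .bwd 18484],
   .loop none [.fwd 11888, .bwd 18487],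
   .loop none [.bwd 11889, .bwd 18487],
   .loop none [.fwd 11860, .fwd 18487, .bwd 12695],
   .loop none [.bwd 18759],
   .loop none [.fwd 11867, .fwd 18487, .bwd 11890],
   .loop none [.bwd 18761],
   .loop none [.fwd 13195, .fwd 18487, .bwd 11902],
   .loop none [.fwd 18763],
   .loop none [.fwd 6391, .bwd 18489],
   .loop none [.fwd 2543, .bwd 18489],
   .loop none [.fwd 6288, .bwd 18489],
   .loop none [.fwd 11918, .bwd 18489],
   .loop none [.fwd 12330, .bwd 18489],
   .loop none [.fwd 7204, .bwd 18489],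
   .loop none [.fwd 7455, .bwd 18491],
   .loop none [.fwd 2024, .bwd 18491],
   .loop none [.fwd 6438, .bwd 18491],
   .loop none [.bwd 8445, .bwd 18491],
   .loop none [.fwd 10017, .fwd 18491, .fwd 11753],
   .loop none [.fwd 18775],
   .loop none [.bwd 7381, .bwd 18491],
   .loop none [.fwd 6348, .fwd 18493, .bwd 16624],
   .loop none [.fwd 18778],
   .loop none [.fwd 4025, .fwd 18501, .bwd 8442],
   .loop none [.fwd 18780],
   .loop none [.bwd 3107, .fwd 18503, .fwd 12941],
   .loop none [.fwd 18782],
   .loop none [.bwd 3109, .fwd 18503, .fwd 5141],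
   .loop none [.fwd 18784],
   .loop none [.fwd 5388, .fwd 18505, .bwd 16889],
   .loop none [.fwd 18786],
   .loop none [.bwd 10462, .bwd 18507],
   .loop none [.bwd 8737, .bwd 18507],
   .loop none [.fwd 12153, .fwd 18507, .bwd 10184],
   .loop none [.bwd 18790],
   .loop none [.bwd 17870, .bwd 18509],
   .loop none [.bwd 17991, .bwd 18511],
   .loop none [.bwd 5801, .fwd 18511, .bwd 10021],
   .loop none [.bwd 18794],
   .loop none [.fwd 17939, .bwd 18513],
   .loop none [.fwd 17854, .bwd 18515],
   .loop none [.bwd 4294, .fwd 18515, .fwd 10578],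
   .loop none [.fwd 18798],
   .loop none [.bwd 18039, .bwd 18517],
   .loop none [.fwd 8732, .bwd 18517],
   .loop none [.bwd 8733, .bwd 18517],
   .loop none [.fwd 16715, .bwd 18517],
   .loop none [.fwd 10524, .bwd 18517],
   .loop none [.bwd 3826, .fwd 18520, .bwd 12030],
   .loop none [.fwd 18805],
   .loop none [.fwd 12004, .fwd 18520, .bwd 12005],
   .loop none [.bwd 18807],
   .loop none [.bwd 8300, .fwd 18520, .fwd 13104],
   .loop none [.fwd 18809],
   .loop none [.fwd 12036, .fwd 18523, .bwd 16711],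
   .loop none [.bwd 18811],
   .loop none [.bwd 12038, .bwd 18523],
   .loop none [.fwd 16384, .fwd 18529, .fwd 8761],
   .loop none [.bwd 18814],
   .loop none [.fwd 8760, .bwd 18529],
   .loop none [.bwd 10530, .bwd 18529],
   .loop none [.bwd 16327, .bwd 18532],
   .loop none [.fwd 8688, .fwd 18532, .fwd 10267],
   .loop none [.fwd 18819],
   .loop none [.fwd 6334, .bwd 18534],
   .loop none [.fwd 12385, .bwd 18534],
   .loop none [.bwd 4315, .fwd 18534, .bwd 11965],
   .loop none [.fwd 18823],
   .loop none [.fwd 18377, .bwd 18534],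
   .loop none [.fwd 4572, .bwd 18534],
   .loop none [.fwd 3078, .fwd 18536, .bwd 12931],
   .loop none [.fwd 18827],
   .loop none [.fwd 11697, .fwd 18539, .fwd 12857],
   .loop none [.bwd 18829],
   .loop none [.fwd 8811, .bwd 18541],
   .loop none [.bwd 16551, .fwd 18543, .fwd 17976],
   .loop none [.fwd 18832],
   .loop none [.fwd 4607, .fwd 18543, .bwd 10969],
   .loop none [.fwd 18834],
   .loop none [.fwd 11792, .fwd 18546, .bwd 12148],
   .loop none [.fwd 18836],
   .loop none [.bwd 17562, .bwd 18548],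
   .loop none [.bwd 16686, .fwd 18548, .bwd 17667],
   .loop none [.bwd 18839],
   .loop none [.bwd 16687, .fwd 18548, .fwd 17563],
   .loop none [.bwd 18841],
   .loop none [.bwd 16368, .fwd 18550, .bwd 12739],
   .loop none [.bwd 18843],
   .loop none [.fwd 13525, .bwd 18552],
   .loop none [.fwd 17559, .bwd 18554],
   .loop none [.fwd 13470, .bwd 18559],
   .loop none [.bwd 17072, .bwd 18561],
   .loop none [.bwd 10938, .bwd 18561],
   .loop none [.bwd 17073, .bwd 18561],
   .loop none [.bwd 11003, .bwd 18563],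
   .loop none [.bwd 13287, .bwd 18563],
   .loop none [.fwd 12608, .bwd 18563],
   .loop none [.bwd 12923, .bwd 18563],
   .loop none [.fwd 16666, .bwd 18565],
   .loop none [.bwd 8261, .fwd 18565, .fwd 12791],
   .loop none [.fwd 18856],
   .loop none [.fwd 8260, .fwd 18565, .bwd 16619],
   .loop none [.fwd 18858],
   .loop none [.bwd 12786, .bwd 18568],
   .loop none [.fwd 17129, .bwd 18568],
   .loop none [.fwd 12461, .bwd 18579],
   .loop none [.bwd 12501, .bwd 18579],
   .loop none [.bwd 12502, .bwd 18579],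
   .loop none [.fwd 4189, .fwd 18579, .bwd 11551],
   .loop none [.fwd 18865],
   .loop none [.fwd 11796, .bwd 18579],
   .loop none [.fwd 12507, .bwd 18579],
   .loop none [.bwd 13804, .fwd 18579, .fwd 12489],
   .loop none [.bwd 18869],
   .loop none [.fwd 12765, .fwd 18579, .bwd 12503],
   .loop none [.bwd 18871],
   .loop none [.fwd 11561, .bwd 18582],
   .loop none [.fwd 12308, .fwd 18584, .bwd 12018],
   .loop none [.fwd 18874],
   .loop none [.fwd 17215, .bwd 18584],
   .loop none [.fwd 12986, .bwd 18584],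
   .loop none [.bwd 11934, .fwd 18584, .fwd 18038],
   .loop none [.fwd 18878],
   .loop none [.fwd 17949, .bwd 18584],
   .loop none [.bwd 11263, .bwd 18587],
   .loop none [.bwd 11254, .fwd 18587, .bwd 11262],
   .loop none [.bwd 18882],
   .loop none [.fwd 12444, .bwd 18587],
   .loop none [.bwd 11568, .bwd 18587],
   .loop none [.fwd 17860, .bwd 18589],
   .loop none [.fwd 12610, .bwd 18589],
   .loop none [.bwd 12719, .bwd 18589],
   .loop none [.fwd 17758, .bwd 18589],
   .loop none [.fwd 13791, .bwd 18594],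
   .loop none [.bwd 16948, .bwd 18596],
   .loop none [.fwd 10936, .bwd 18596],
   .loop none [.fwd 17858, .bwd 18598],
   .loop none [.fwd 11858, .bwd 18598],
   .loop none [.bwd 12356, .bwd 18598],
   .loop none [.bwd 11927, .bwd 18602],
   .loop none [.fwd 17952, .bwd 18602],
   .loop none [.fwd 8258, .fwd 18602, .bwd 12367],
   .loop none [.fwd 18898],
   .loop none [.fwd 3281, .bwd 18605],
   .loop none [.bwd 8255, .bwd 18605],
   .loop none [.fwd 7954, .bwd 18605],
   .loop none [.bwd 5559, .fwd 18618, .bwd 13580],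
   .loop none [.fwd 18903],
   .loop none [.fwd 378, .fwd 18618, .bwd 14667],
   .loop none [.fwd 18905],
   .loop none [.fwd 6080, .fwd 18620, .bwd 13101],
   .loop none [.fwd 18907],
   .loop none [.bwd 5829, .fwd 18622, .fwd 2900],
   .loop none [.bwd 18909],
   .loop none [.fwd 8174, .bwd 18624],
   .loop none [.bwd 5928, .fwd 18624, .bwd 1910],
   .loop none [.fwd 18912],
   .loop none [.bwd 5929, .fwd 18624, .fwd 1911],
   .loop none [.bwd 18914],
   .loop none [.bwd 8659, .fwd 18626, .fwd 1972],
   .loop none [.bwd 18916],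
   .loop none [.fwd 17255, .fwd 18628, .bwd 11444],
   .loop none [.fwd 18918],
   .loop none [.bwd 13673, .bwd 18628],
   .loop none [.bwd 11402, .bwd 18630],
   .loop none [.fwd 11401, .bwd 18630],
   .loop none [.fwd 11367, .fwd 18630, .bwd 17060],
   .loop none [.bwd 18923],
   .loop none [.bwd 11118, .fwd 18632, .bwd 17246],
   .loop none [.bwd 18925],
   .loop none [.bwd 17091, .fwd 18634, .bwd 17711],
   .loop none [.bwd 18927],
   .loop none [.fwd 6093, .bwd 18634],
   .loop none [.fwd 12922, .bwd 18634],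
   .loop none [.bwd 11034, .bwd 18634],
   .loop none [.bwd 7243, .fwd 18634, .fwd 6227],
   .loop none [.fwd 18932],
   .loop none [.fwd 7571, .fwd 18634, .bwd 6224],
   .loop none [.bwd 18934],
   .loop none [.fwd 13306, .bwd 18636],
   .loop none [.fwd 13320, .bwd 18636],
   .loop none [.fwd 11035, .bwd 18636],
   .loop none [.bwd 11159, .bwd 18636],
   .loop none [.bwd 12652, .bwd 18636],
   .loop none [.bwd 12653, .bwd 18636],
   .loop none [.fwd 4177, .fwd 18639, .bwd 11071],
   .loop none [.fwd 18942],
   .loop none [.fwd 11045, .fwd 18639, .bwd 11046],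
   .loop none [.bwd 18944],
   .loop none [.fwd 17714, .fwd 18639, .fwd 13475],
   .loop none [.fwd 18946],
   .loop none [.fwd 11086, .fwd 18642, .bwd 11114],
   .loop none [.bwd 18948],
   .loop none [.bwd 11115, .bwd 18642],
   .loop none [.fwd 9898, .fwd 18648, .fwd 10999],
   .loop none [.fwd 18951],
   .loop none [.fwd 10998, .bwd 18648],
   .loop none [.fwd 12924, .bwd 18648],
   .loop none [.bwd 6212, .bwd 18653],
   .loop none [.fwd 16826, .fwd 18653, .bwd 10888],
   .loop none [.bwd 18956],
   .loop none [.bwd 6213, .bwd 18653],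
   .loop none [.fwd 11001, .fwd 18655, .fwd 9902],
   .loop none [.bwd 18959],
   .loop none [.bwd 541, .fwd 18655, .bwd 11711],
   .loop none [.fwd 18961],
   .loop none [.bwd 7247, .bwd 18655],
   .loop none [.fwd 6247, .bwd 18655],
   .loop none [.fwd 15756, .bwd 18659],
   .loop none [.fwd 7488, .bwd 18659],
   .loop none [.fwd 17906, .fwd 18659, .fwd 5538],
   .loop none [.fwd 18967],
   .loop none [.bwd 5079, .fwd 18659, .fwd 15572],
   .loop none [.bwd 18969],
   .loop none [.bwd 17913, .fwd 18659, .bwd 15575],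
   .loop none [.bwd 18971],
   .loop none [.bwd 8499, .fwd 18659, .fwd 15606],
   .loop none [.bwd 18973],
   .loop none [.fwd 8496, .fwd 18659, .fwd 7156],
   .loop none [.fwd 18975],
   .loop none [.bwd 3764, .bwd 18661],
   .loop none [.bwd 5989, .fwd 18663, .bwd 7400],
   .loop none [.fwd 18978],
   .loop none [.bwd 5578, .bwd 18665],
   .loop none [.fwd 17175, .bwd 18667],
   .loop none [.fwd 5334, .bwd 18667],
   .loop none [.bwd 5496, .bwd 18667],
   .loop none [.bwd 16196, .bwd 18667],
   .loop none [.bwd 5243, .bwd 18669],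
   .loop none [.fwd 8175, .bwd 18671],
   .loop none [.bwd 5802, .bwd 18675],
   .loop none [.fwd 10128, .fwd 18675, .bwd 5682],
   .loop none [.fwd 18988],
   .loop none [.bwd 15959, .bwd 18675],
   .loop none [.bwd 15953, .bwd 18675],
   .loop none [.fwd 16424, .bwd 18692],
   .loop none [.fwd 9323, .bwd 18699],
   .loop none [.bwd 9324, .bwd 18699],
   .loop none [.fwd 9661, .bwd 18701],
   .loop none [.bwd 9662, .bwd 18701],
   .loop none [.fwd 18910, .fwd 9362, .bwd 18703],
   .loop none [.bwd 9236, .bwd 18703],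
   .loop none [.bwd 9694, .fwd 18705, .bwd 9726]]

theorem just75_len : just75.length = 250 := by decide +kernel

theorem just75_ok : cert.okFacts 18750 just75 = true := by decide +kernel

/-- justifications -/
noncomputable def just76 : List Cert.Just :=
  [.loop none [.fwd 18999],
   .loop none [.bwd 16750, .bwd 18705],
   .loop none [.fwd 10474, .fwd 18705, .bwd 9698],
   .loop none [.fwd 19002],
   .loop none [.bwd 9201, .bwd 18708],
   .loop none [.fwd 16660, .bwd 18713],
   .loop none [.bwd 16640, .bwd 18713],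
   .loop none [.bwd 4930, .fwd 18716, .fwd 10709],
   .loop none [.fwd 19007],
   .loop none [.bwd 9180, .bwd 18716],
   .loop none [.bwd 10572, .bwd 18716],
   .loop none [.fwd 8757, .fwd 18716, .bwd 9232],
   .loop none [.fwd 19011],
   .loop none [.fwd 1978, .fwd 18722, .fwd 5014],
   .loop none [.bwd 19013],
   .loop none [.bwd 7370, .fwd 18722, .bwd 5217],
   .loop none [.fwd 19015],
   .loop none [.fwd 4968, .bwd 18722],
   .loop none [.fwd 17932, .fwd 18722, .bwd 4848],
   .loop none [.bwd 19018],
   .loop none [.bwd 7442, .fwd 18722, .fwd 5016],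
   .loop none [.bwd 19020],
   .loop none [.fwd 7371, .fwd 18722, .bwd 5172],
   .loop none [.fwd 19022],
   .loop none [.bwd 7572, .bwd 18724],
   .loop none [.bwd 3891, .bwd 18724],
   .loop none [.bwd 17381, .fwd 18724, .bwd 3952],
   .loop none [.bwd 19026],
   .loop none [.fwd 2749, .bwd 18724],
   .loop none [.bwd 7451, .fwd 18724, .fwd 7180],
   .loop none [.fwd 19029],
   .loop none [.fwd 7376, .fwd 18724, .bwd 4036],
   .loop none [.fwd 19031],
   .loop none [.fwd 13172, .bwd 18726],
   .loop none [.fwd 7222, .bwd 18729],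
   .loop none [.fwd 7448, .bwd 18729],
   .loop none [.fwd 7286, .bwd 18731],
   .loop none [.fwd 3049, .bwd 18731],
   .loop none [.bwd 3696, .bwd 18731],
   .loop none [.bwd 3697, .bwd 18731],
   .loop none [.fwd 7678, .bwd 18735],
   .loop none [.fwd 18067, .fwd 18735, .bwd 7692],
   .loop none [.bwd 19041],
   .loop none [.fwd 11830, .bwd 18735],
   .loop none [.fwd 18748, .fwd 7793, .bwd 18735],
   .loop none [.bwd 7226, .fwd 18735, .fwd 7653],
   .loop none [.fwd 19045],
   .loop none [.fwd 7562, .fwd 18735, .bwd 7679],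
   .loop none [.fwd 19047],
   .loop none [.bwd 7285, .fwd 18738, .fwd 17930],
   .loop none [.fwd 19049],
   .loop none [.bwd 17931, .bwd 18738],
   .loop none [.fwd 1902, .bwd 18740],
   .loop none [.fwd 7224, .bwd 18740],
   .loop none [.bwd 11833, .bwd 18742],
   .loop none [.fwd 5783, .bwd 18742],
   .loop none [.bwd 5170, .bwd 18742],
   .loop none [.bwd 5171, .bwd 18742],
   .loop none [.fwd 6272, .bwd 18742],
   .loop none [.fwd 17844, .bwd 18745],
   .loop none [.fwd 17224, .bwd 18745],
   .loop none [.bwd 7684, .fwd 18745, .fwd 10718],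
   .loop none [.fwd 19061],
   .loop none [.fwd 7790, .fwd 18745, .bwd 10739],
   .loop none [.fwd 19063],
   .loop none [.bwd 18011, .bwd 18750],
   .loop none [.fwd 7730, .fwd 18750, .bwd 16907],
   .loop none [.fwd 19066],
   .loop none [.fwd 11730, .bwd 18760],
   .loop none [.bwd 11731, .bwd 18760],
   .loop none [.bwd 12323, .bwd 18760],
   .loop none [.bwd 12324, .bwd 18760],
   .loop none [.fwd 8819, .fwd 18762, .bwd 11925],
   .loop none [.fwd 19072],
   .loop none [.bwd 11867, .bwd 18762],
   .loop none [.fwd 11865, .fwd 18762, .bwd 11866],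
   .loop none [.bwd 19075],
   .loop none [.bwd 10028, .fwd 18762, .fwd 13773],
   .loop none [.fwd 19077],
   .loop none [.fwd 11898, .fwd 18764, .bwd 11901],
   .loop none [.bwd 19079],
   .loop none [.bwd 8814, .fwd 18764, .bwd 13792],
   .loop none [.fwd 19081],
   .loop none [.bwd 9883, .fwd 18776, .fwd 11754],
   .loop none [.fwd 19083],
   .loop none [.fwd 12354, .bwd 18776],
   .loop none [.bwd 16622, .bwd 18779],
   .loop none [.fwd 11700, .fwd 18779, .fwd 16623],
   .loop none [.bwd 19087],
   .loop none [.bwd 3671, .fwd 18781, .fwd 10441],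
   .loop none [.bwd 19089],
   .loop none [.bwd 18037, .bwd 18783],
   .loop none [.fwd 2505, .fwd 18783, .bwd 11299],
   .loop none [.fwd 19092],
   .loop none [.fwd 4300, .fwd 18783, .fwd 11300],
   .loop none [.fwd 19094],
   .loop none [.fwd 18010, .bwd 18783],
   .loop none [.fwd 3259, .fwd 18785, .fwd 10765],
   .loop none [.fwd 19097],
   .loop none [.fwd 10525, .bwd 18787],
   .loop none [.fwd 8179, .fwd 18787, .fwd 18040],
   .loop none [.fwd 19100],
   .loop none [.fwd 5387, .fwd 18787, .fwd 10218],
   .loop none [.fwd 19102],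
   .loop none [.fwd 16969, .fwd 18791, .bwd 12662],
   .loop none [.fwd 19104],
   .loop none [.bwd 10164, .fwd 18791, .bwd 12157],
   .loop none [.bwd 19106],
   .loop none [.bwd 12153, .bwd 18791],
   .loop none [.fwd 12152, .bwd 18791],
   .loop none [.bwd 8284, .fwd 18791, .fwd 12751],
   .loop none [.fwd 19110],
   .loop none [.fwd 5801, .bwd 18795],
   .loop none [.fwd 8075, .bwd 18795],
   .loop none [.bwd 16938, .bwd 18799],
   .loop none [.bwd 16941, .bwd 18799],
   .loop none [.fwd 8796, .bwd 18806],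
   .loop none [.bwd 8797, .bwd 18806],
   .loop none [.bwd 10134, .bwd 18806],
   .loop none [.fwd 12003, .bwd 18808],
   .loop none [.bwd 12004, .bwd 18808],
   .loop none [.fwd 8731, .bwd 18810],
   .loop none [.fwd 8804, .bwd 18810],
   .loop none [.fwd 18801, .bwd 18810],
   .loop none [.bwd 16712, .fwd 18812, .bwd 12035],
   .loop none [.fwd 19124],
   .loop none [.fwd 10147, .bwd 18815],
   .loop none [.bwd 16383, .bwd 18815],
   .loop none [.bwd 16384, .bwd 18815],
   .loop none [.fwd 16540, .bwd 18815],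
   .loop none [.fwd 10470, .bwd 18820],
   .loop none [.bwd 16605, .bwd 18820],
   .loop none [.bwd 10517, .fwd 18820, .fwd 16606],
   .loop none [.fwd 19132],
   .loop none [.fwd 8730, .fwd 18820, .fwd 16607],
   .loop none [.fwd 19134],
   .loop none [.fwd 11708, .bwd 18824],
   .loop none [.bwd 11966, .bwd 18824],
   .loop none [.fwd 12306, .bwd 18824],
   .loop none [.fwd 11995, .fwd 18828, .bwd 17324],
   .loop none [.bwd 19139],
   .loop none [.bwd 13189, .bwd 18830],
   .loop none [.fwd 13102, .bwd 18830],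
   .loop none [.fwd 11696, .bwd 18830],
   .loop none [.bwd 11697, .bwd 18830],
   .loop none [.bwd 16470, .fwd 18833, .bwd 12792],
   .loop none [.bwd 19145],
   .loop none [.bwd 11755, .fwd 18835, .bwd 17680],
   .loop none [.bwd 19147],
   .loop none [.fwd 11759, .fwd 18835, .bwd 13555],
   .loop none [.bwd 19149],
   .loop none [.fwd 17676, .bwd 18837],
   .loop none [.bwd 11827, .fwd 18837, .bwd 17840],
   .loop none [.fwd 19152],
   .loop none [.fwd 12355, .fwd 18837, .bwd 12795],
   .loop none [.fwd 19154],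
   .loop none [.fwd 13345, .bwd 18840],
   .loop none [.bwd 4321, .fwd 18840, .fwd 11442],
   .loop none [.fwd 19157],
   .loop none [.fwd 16686, .bwd 18840],
   .loop none [.fwd 13346, .bwd 18840],
   .loop none [.bwd 7966, .fwd 18840, .bwd 17069],
   .loop none [.fwd 19161],
   .loop none [.fwd 11447, .bwd 18842],
   .loop none [.fwd 17984, .bwd 18842],
   .loop none [.fwd 16687, .bwd 18842],
   .loop none [.fwd 13328, .bwd 18842],
   .loop none [.fwd 16368, .bwd 18844],
   .loop none [.fwd 8262, .fwd 18844, .bwd 16450],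
   .loop none [.fwd 19168],
   .loop none [.fwd 12466, .bwd 18857],
   .loop none [.fwd 16644, .bwd 18857],
   .loop none [.fwd 11225, .bwd 18857],
   .loop none [.fwd 12929, .bwd 18857],
   .loop none [.bwd 16613, .bwd 18859],
   .loop none [.bwd 16616, .bwd 18859],
   .loop none [.bwd 4624, .bwd 18859],
   .loop none [.fwd 12497, .bwd 18866],
   .loop none [.fwd 12840, .bwd 18866],
   .loop none [.fwd 11550, .bwd 18866],
   .loop none [.bwd 12574, .fwd 18866, .fwd 16998],
   .loop none [.bwd 19180],
   .loop none [.fwd 17754, .bwd 18870],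
   .loop none [.fwd 13804, .bwd 18870],
   .loop none [.fwd 12232, .bwd 18872],
   .loop none [.bwd 12765, .bwd 18872],
   .loop none [.fwd 12017, .bwd 18875],
   .loop none [.bwd 11548, .fwd 18879, .bwd 17112],
   .loop none [.bwd 19187],
   .loop none [.fwd 11254, .bwd 18883],
   .loop none [.bwd 11559, .fwd 18883, .fwd 11255],
   .loop none [.bwd 19190],
   .loop none [.bwd 6237, .bwd 18899],
   .loop none [.fwd 17104, .bwd 18899],
   .loop none [.fwd 4604, .bwd 18899],
   .loop none [.bwd 4605, .bwd 18899],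
   .loop none [.fwd 5154, .fwd 18904, .bwd 1976],
   .loop none [.bwd 19196],
   .loop none [.fwd 17337, .fwd 18906, .fwd 7359],
   .loop none [.bwd 19198],
   .loop none [.fwd 12940, .bwd 18908],
   .loop none [.bwd 9130, .fwd 18908, .bwd 17164],
   .loop none [.bwd 19201],
   .loop none [.fwd 16265, .bwd 18910],
   .loop none [.bwd 16121, .bwd 18910],
   .loop none [.fwd 17619, .bwd 18910],
   .loop none [.fwd 5829, .bwd 18910],
   .loop none [.fwd 9097, .bwd 18910],
   .loop none [.bwd 5484, .fwd 18913, .bwd 1909],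
   .loop none [.fwd 19208],
   .loop none [.fwd 357, .fwd 18913, .fwd 7236],
   .loop none [.fwd 19210],
   .loop none [.fwd 16266, .bwd 18915],
   .loop none [.fwd 5899, .bwd 18915],
   .loop none [.fwd 5929, .bwd 18915],
   .loop none [.fwd 17236, .fwd 18915, .bwd 16467],
   .loop none [.fwd 19215],
   .loop none [.fwd 18458, .bwd 18915],
   .loop none [.fwd 18957, .fwd 16824, .bwd 18917],
   .loop none [.fwd 8659, .bwd 18917],
   .loop none [.bwd 9903, .bwd 18917],
   .loop none [.bwd 11674, .bwd 18917],
   .loop none [.bwd 7424, .fwd 18917, .fwd 8772],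
   .loop none [.bwd 19222],
   .loop none [.fwd 7360, .fwd 18917, .bwd 9901],
   .loop none [.fwd 19224],
   .loop none [.bwd 13672, .bwd 18919],
   .loop none [.bwd 17056, .fwd 18924, .bwd 13294],
   .loop none [.bwd 19227],
   .loop none [.bwd 3648, .fwd 18924, .bwd 11510],
   .loop none [.fwd 19229],
   .loop none [.bwd 11367, .bwd 18924],
   .loop none [.fwd 18952, .fwd 11366, .bwd 18924],
   .loop none [.fwd 17774, .fwd 18924, .fwd 13354],
   .loop none [.fwd 19233],
   .loop none [.bwd 4073, .fwd 18926, .fwd 11119],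
   .loop none [.fwd 19235],
   .loop none [.fwd 11118, .bwd 18926],
   .loop none [.fwd 12930, .bwd 18926],
   .loop none [.fwd 17954, .bwd 18928],
   .loop none [.fwd 17091, .bwd 18928],
   .loop none [.fwd 18957, .bwd 17712, .fwd 18928, .fwd 9379],
   .loop none [.bwd 19241],
   .loop none [.bwd 17713, .fwd 18928, .fwd 10831],
   .loop none [.fwd 19243],
   .loop none [.fwd 6118, .bwd 18933],
   .loop none [.fwd 17065, .fwd 18933, .bwd 9400],
   .loop none [.fwd 19246],
   .loop none [.bwd 6226, .bwd 18933],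
   .loop none [.bwd 7571, .bwd 18935]]

theorem just76_len : just76.length = 250 := by decide +kernel

theorem just76_ok : cert.okFacts 19000 just76 = true := by decide +kernel

/-- justifications -/
noncomputable def just77 : List Cert.Just :=
  [.loop none [.fwd 7420, .bwd 18935],
   .loop none [.fwd 11070, .bwd 18943],
   .loop none [.bwd 11473, .bwd 18943],
   .loop none [.fwd 19242, .fwd 18957],
   .loop none [.fwd 19236, .fwd 18945],
   .loop none [.fwd 17609, .bwd 19254, .bwd 11044],
   .loop none [.fwd 19255],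
   .loop none [.bwd 11045, .fwd 19254],
   .loop none [.fwd 18931, .bwd 18947],
   .loop none [.fwd 18938, .bwd 18947],
   .loop none [.bwd 9844, .fwd 18949, .bwd 11113],
   .loop none [.fwd 19260],
   .loop none [.bwd 11086, .bwd 18949],
   .loop none [.bwd 11116, .fwd 18949, .bwd 11085],
   .loop none [.bwd 19263],
   .loop none [.bwd 9380, .bwd 19253, .fwd 17612],
   .loop none [.bwd 19265],
   .loop none [.fwd 13637, .fwd 19253],
   .loop none [.fwd 17712, .fwd 19253],
   .loop none [.bwd 16826, .fwd 19253],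
   .loop none [.bwd 10833, .bwd 19253, .bwd 16828],
   .loop none [.bwd 19270],
   .loop none [.fwd 17438, .bwd 19253, .fwd 16827],
   .loop none [.bwd 19272],
   .loop none [.fwd 9389, .fwd 19256, .fwd 13560, .bwd 18960],
   .loop none [.bwd 19274],
   .loop none [.bwd 10469, .fwd 18960, .bwd 13285, .bwd 19256],
   .loop none [.fwd 19276],
   .loop none [.bwd 11001, .bwd 18960],
   .loop none [.bwd 12887, .bwd 18960],
   .loop none [.fwd 11750, .fwd 18960, .bwd 11392],
   .loop none [.bwd 19280],
   .loop none [.fwd 9259, .fwd 18962, .bwd 13774],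
   .loop none [.bwd 19282],
   .loop none [.bwd 8581, .bwd 18968],
   .loop none [.bwd 15680, .bwd 18968],
   .loop none [.fwd 5079, .bwd 18970],
   .loop none [.fwd 8501, .bwd 18970],
   .loop none [.fwd 17913, .bwd 18972],
   .loop none [.fwd 17907, .bwd 18972],
   .loop none [.fwd 8499, .bwd 18974],
   .loop none [.fwd 15743, .bwd 18976],
   .loop none [.fwd 7145, .bwd 18976],
   .loop none [.bwd 15593, .bwd 18976],
   .loop none [.bwd 15621, .bwd 18976],
   .loop none [.bwd 15622, .bwd 18976],
   .loop none [.bwd 7570, .bwd 18979],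
   .loop none [.fwd 7569, .bwd 18979],
   .loop none [.fwd 8195, .bwd 18989],
   .loop none [.fwd 5681, .bwd 18989],
   .loop none [.fwd 16425, .fwd 19000, .bwd 9725],
   .loop none [.fwd 19300],
   .loop none [.fwd 18696, .bwd 19003],
   .loop none [.fwd 19277, .fwd 19256],
   .loop none [.bwd 8750, .fwd 19008, .bwd 18995],
   .loop none [.fwd 19304],
   .loop none [.fwd 19305, .fwd 9132, .bwd 19008],
   .loop none [.bwd 9133, .bwd 19008],
   .loop none [.bwd 10443, .bwd 19008],
   .loop none [.fwd 9668, .bwd 19008],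
   .loop none [.bwd 10732, .bwd 19012],
   .loop none [.bwd 10522, .fwd 19012, .fwd 10731, .bwd 19202],
   .loop none [.bwd 19311],
   .loop none [.fwd 16637, .bwd 19012],
   .loop none [.fwd 10708, .bwd 19012],
   .loop none [.bwd 1978, .bwd 19014],
   .loop none [.fwd 3734, .fwd 19014, .bwd 7367],
   .loop none [.bwd 19316],
   .loop none [.fwd 4113, .fwd 19014, .bwd 7369],
   .loop none [.fwd 19318],
   .loop none [.bwd 7581, .bwd 19016],
   .loop none [.fwd 18091, .fwd 19016, .bwd 7650],
   .loop none [.bwd 19321],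
   .loop none [.bwd 5218, .bwd 19016],
   .loop none [.fwd 19032, .bwd 7618, .bwd 19016],
   .loop none [.bwd 7227, .fwd 19016, .fwd 3820],
   .loop none [.fwd 19325],
   .loop none [.fwd 7563, .fwd 19016, .bwd 7651],
   .loop none [.fwd 19327],
   .loop none [.bwd 4838, .fwd 19019, .bwd 10952],
   .loop none [.fwd 19329],
   .loop none [.bwd 17932, .bwd 19019],
   .loop none [.fwd 7442, .bwd 19021],
   .loop none [.fwd 4254, .bwd 19023],
   .loop none [.bwd 4107, .bwd 19023],
   .loop none [.fwd 4967, .bwd 19023],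
   .loop none [.fwd 5062, .bwd 19023],
   .loop none [.bwd 3951, .fwd 19027, .bwd 18072],
   .loop none [.fwd 19337],
   .loop none [.fwd 17381, .bwd 19027],
   .loop none [.bwd 7681, .fwd 19027, .fwd 18063],
   .loop none [.fwd 19340],
   .loop none [.fwd 7179, .bwd 19030],
   .loop none [.fwd 3620, .bwd 19030],
   .loop none [.fwd 3623, .bwd 19030],
   .loop none [.bwd 7287, .bwd 19032],
   .loop none [.fwd 3668, .bwd 19032],
   .loop none [.bwd 3057, .bwd 19032],
   .loop none [.fwd 17846, .bwd 19042],
   .loop none [.bwd 3315, .fwd 19042, .bwd 18102],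
   .loop none [.fwd 19349],
   .loop none [.bwd 18067, .bwd 19042],
   .loop none [.bwd 7689, .fwd 19042, .fwd 10719],
   .loop none [.fwd 19352],
   .loop none [.fwd 7849, .fwd 19042, .bwd 10741],
   .loop none [.fwd 19354],
   .loop none [.fwd 19191, .fwd 11832, .bwd 19046],
   .loop none [.fwd 5774, .bwd 19046],
   .loop none [.fwd 5163, .bwd 19046],
   .loop none [.fwd 6473, .bwd 19046],
   .loop none [.bwd 6270, .bwd 19048],
   .loop none [.fwd 7845, .bwd 19048],
   .loop none [.bwd 13568, .bwd 19050],
   .loop none [.fwd 16530, .fwd 19050, .bwd 13586],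
   .loop none [.fwd 19363],
   .loop none [.fwd 17843, .bwd 19062],
   .loop none [.fwd 17150, .bwd 19062],
   .loop none [.fwd 17861, .bwd 19064],
   .loop none [.fwd 17249, .bwd 19064],
   .loop none [.fwd 3332, .fwd 19067, .fwd 4265],
   .loop none [.fwd 19369],
   .loop none [.bwd 16906, .bwd 19067],
   .loop none [.fwd 11764, .bwd 19073],
   .loop none [.fwd 19225, .bwd 11765, .bwd 19073],
   .loop none [.fwd 11864, .bwd 19076],
   .loop none [.bwd 11865, .bwd 19076],
   .loop none [.fwd 11785, .bwd 19078],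
   .loop none [.fwd 19068, .bwd 19078],
   .loop none [.fwd 12352, .fwd 19080, .bwd 11897],
   .loop none [.fwd 19378],
   .loop none [.bwd 12183, .bwd 19082],
   .loop none [.fwd 13184, .bwd 19084],
   .loop none [.bwd 18920, .fwd 19084, .fwd 11712],
   .loop none [.fwd 19382],
   .loop none [.bwd 9700, .fwd 19088, .bwd 13183],
   .loop none [.fwd 19384],
   .loop none [.bwd 11700, .bwd 19088],
   .loop none [.bwd 12366, .bwd 19088],
   .loop none [.fwd 11438, .fwd 19088, .bwd 11726],
   .loop none [.bwd 19388],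
   .loop none [.bwd 7546, .bwd 19090],
   .loop none [.fwd 3294, .fwd 19090, .fwd 3672],
   .loop none [.fwd 19391],
   .loop none [.fwd 3671, .bwd 19090],
   .loop none [.fwd 8031, .bwd 19090],
   .loop none [.fwd 17136, .fwd 19090, .fwd 8074],
   .loop none [.bwd 19395],
   .loop none [.fwd 3978, .fwd 19093, .bwd 13493],
   .loop none [.fwd 19397],
   .loop none [.bwd 4301, .fwd 19095, .bwd 13168],
   .loop none [.fwd 19399],
   .loop none [.bwd 17146, .bwd 19098],
   .loop none [.fwd 8078, .fwd 19098, .bwd 8280],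
   .loop none [.fwd 19402],
   .loop none [.bwd 6539, .fwd 19101, .fwd 9703],
   .loop none [.fwd 19404],
   .loop none [.fwd 10145, .bwd 19103],
   .loop none [.bwd 8766, .bwd 19103],
   .loop none [.bwd 16691, .bwd 19103],
   .loop none [.bwd 8183, .bwd 19105],
   .loop none [.bwd 3816, .bwd 19105],
   .loop none [.fwd 3815, .bwd 19105],
   .loop none [.fwd 16541, .bwd 19107],
   .loop none [.bwd 9127, .bwd 19107],
   .loop none [.fwd 10164, .bwd 19107],
   .loop none [.fwd 8210, .bwd 19111],
   .loop none [.fwd 5420, .bwd 19111],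
   .loop none [.fwd 5587, .bwd 19111],
   .loop none [.bwd 5421, .bwd 19111],
   .loop none [.fwd 12034, .bwd 19125],
   .loop none [.bwd 17995, .bwd 19133],
   .loop none [.fwd 19119, .fwd 19133, .fwd 9263],
   .loop none [.fwd 19421],
   .loop none [.fwd 17994, .bwd 19135],
   .loop none [.fwd 16635, .bwd 19135],
   .loop none [.bwd 10024, .fwd 19135, .fwd 10766],
   .loop none [.fwd 19425],
   .loop none [.fwd 11994, .bwd 19140],
   .loop none [.bwd 11995, .bwd 19140],
   .loop none [.fwd 17982, .bwd 19146],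
   .loop none [.fwd 16470, .bwd 19146],
   .loop none [.bwd 11607, .bwd 19146],
   .loop none [.fwd 18854, .bwd 19146],
   .loop none [.bwd 17666, .fwd 19148, .fwd 11756],
   .loop none [.fwd 19433],
   .loop none [.fwd 11755, .bwd 19148],
   .loop none [.fwd 12846, .bwd 19148],
   .loop none [.bwd 7965, .fwd 19148, .fwd 13722],
   .loop none [.fwd 19437],
   .loop none [.fwd 17983, .bwd 19150],
   .loop none [.fwd 11678, .bwd 19150],
   .loop none [.fwd 19138, .bwd 19150],
   .loop none [.bwd 11759, .bwd 19150],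
   .loop none [.fwd 17824, .bwd 19150],
   .loop none [.fwd 16951, .fwd 19153, .fwd 17839],
   .loop none [.fwd 19444],
   .loop none [.fwd 12740, .bwd 19155],
   .loop none [.bwd 17950, .bwd 19155],
   .loop none [.fwd 12129, .bwd 19155],
   .loop none [.fwd 17253, .bwd 19158],
   .loop none [.fwd 13608, .bwd 19158],
   .loop none [.bwd 17068, .bwd 19162],
   .loop none [.fwd 10939, .bwd 19162],
   .loop none [.bwd 16444, .bwd 19169],
   .loop none [.bwd 6274, .bwd 19169],
   .loop none [.bwd 3285, .fwd 19169, .bwd 16736],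
   .loop none [.fwd 19455],
   .loop none [.bwd 16447, .bwd 19169],
   .loop none [.bwd 4686, .bwd 19169],
   .loop none [.fwd 12572, .bwd 19181],
   .loop none [.fwd 17446, .bwd 19181],
   .loop none [.bwd 12613, .bwd 19181],
   .loop none [.fwd 12574, .bwd 19181],
   .loop none [.bwd 11997, .bwd 19188],
   .loop none [.fwd 11548, .bwd 19188],
   .loop none [.bwd 11549, .bwd 19188],
   .loop none [.bwd 11788, .bwd 19191],
   .loop none [.fwd 11559, .bwd 19191],
   .loop none [.bwd 11560, .bwd 19191],
   .loop none [.fwd 18987, .bwd 19197],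
   .loop none [.fwd 7646, .bwd 19197],
   .loop none [.fwd 1975, .fwd 19197, .bwd 17176],
   .loop none [.fwd 19471],
   .loop none [.bwd 5154, .bwd 19197],
   .loop none [.bwd 5155, .bwd 19197],
   .loop none [.fwd 5800, .bwd 19197],
   .loop none [.bwd 7435, .fwd 19197, .fwd 3818],
   .loop none [.bwd 19476],
   .loop none [.fwd 7366, .fwd 19197, .bwd 5804],
   .loop none [.fwd 19478],
   .loop none [.bwd 17334, .bwd 19199],
   .loop none [.bwd 17803, .fwd 19199, .fwd 3230],
   .loop none [.bwd 19481],
   .loop none [.bwd 17337, .bwd 19199],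
   .loop none [.bwd 17338, .bwd 19199],
   .loop none [.bwd 17339, .bwd 19199],
   .loop none [.fwd 7361, .fwd 19199, .fwd 17340],
   .loop none [.fwd 19486],
   .loop none [.fwd 17946, .fwd 19202, .fwd 18000],
   .loop none [.fwd 19488],
   .loop none [.bwd 8244, .fwd 19202, .fwd 9131, .bwd 19305],
   .loop none [.fwd 19490],
   .loop none [.fwd 9130, .bwd 19202],
   .loop none [.fwd 10253, .fwd 19202, .fwd 10730],
   .loop none [.fwd 19493],
   .loop none [.fwd 324, .fwd 19209, .bwd 7233],
   .loop none [.fwd 19495],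
   .loop none [.fwd 7278, .fwd 19211, .bwd 18056],
   .loop none [.fwd 19497],
   .loop none [.fwd 7427, .bwd 19211]]

theorem just77_len : just77.length = 250 := by decide +kernel

theorem just77_ok : cert.okFacts 19250 just77 = true := by decide +kernel

/-- justifications -/
noncomputable def just78 : List Cert.Just :=
  [.loop none [.bwd 17865, .fwd 19216, .bwd 10571],
   .loop none [.fwd 19500],
   .loop none [.fwd 8882, .bwd 19216],
   .loop none [.fwd 19491, .fwd 19305],
   .loop none [.fwd 8115, .fwd 19216, .fwd 16468],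
   .loop none [.fwd 19504],
   .loop none [.fwd 7424, .bwd 19223],
   .loop none [.fwd 17818, .bwd 19225],
   .loop none [.bwd 7926, .bwd 19225],
   .loop none [.bwd 11650, .bwd 19225],
   .loop none [.bwd 7927, .bwd 19225],
   .loop none [.fwd 18023, .fwd 19228, .bwd 17853],
   .loop none [.bwd 19511],
   .loop none [.fwd 17056, .bwd 19228],
   .loop none [.bwd 10188, .bwd 19228],
   .loop none [.bwd 12728, .bwd 19228],
   .loop none [.fwd 17165, .bwd 19228],
   .loop none [.fwd 18939, .bwd 19230],
   .loop none [.bwd 11160, .bwd 19230],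
   .loop none [.fwd 18651, .bwd 19234],
   .loop none [.bwd 11069, .bwd 19234],
   .loop none [.bwd 19303, .bwd 11032, .bwd 19236],
   .loop none [.bwd 17955, .fwd 19242, .fwd 13302],
   .loop none [.fwd 19522],
   .loop none [.fwd 19218, .bwd 19242],
   .loop none [.fwd 10887, .bwd 19242],
   .loop none [.fwd 17977, .bwd 19244],
   .loop none [.fwd 17132, .bwd 19244],
   .loop none [.bwd 18954, .fwd 19244, .bwd 17979],
   .loop none [.bwd 19528],
   .loop none [.bwd 13353, .bwd 19247],
   .loop none [.fwd 9399, .bwd 19247],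
   .loop none [.bwd 11033, .fwd 19303],
   .loop none [.bwd 12884, .fwd 19303],
   .loop none [.fwd 19283, .fwd 19261],
   .loop none [.fwd 11112, .fwd 19534],
   .loop none [.fwd 13239, .bwd 19264],
   .loop none [.bwd 17170, .fwd 19264, .bwd 13304],
   .loop none [.bwd 19537],
   .loop none [.fwd 11116, .bwd 19264],
   .loop none [.bwd 12921, .bwd 19264],
   .loop none [.fwd 18930, .bwd 19264],
   .loop none [.bwd 11117, .bwd 19264],
   .loop none [.fwd 18640, .bwd 19264],
   .loop none [.fwd 9380, .bwd 19266],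
   .loop none [.bwd 17493, .fwd 19266, .bwd 17580],
   .loop none [.fwd 19545],
   .loop none [.bwd 17978, .bwd 19271],
   .loop none [.fwd 10833, .bwd 19271],
   .loop none [.fwd 16817, .fwd 19273, .bwd 18046],
   .loop none [.fwd 19549],
   .loop none [.fwd 10597, .bwd 19273],
   .loop none [.bwd 17438, .bwd 19273],
   .loop none [.bwd 8745, .fwd 19275, .bwd 9388],
   .loop none [.fwd 19553],
   .loop none [.bwd 4932, .fwd 19277, .bwd 9389, .bwd 19275],
   .loop none [.fwd 19555],
   .loop none [.fwd 19556, .fwd 19275],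
   .loop none [.bwd 10844, .fwd 19557],
   .loop none [.fwd 17693, .fwd 19557],
   .loop none [.fwd 4931, .fwd 19277, .bwd 17945],
   .loop none [.fwd 19560],
   .loop none [.bwd 11746, .fwd 19277, .fwd 17609],
   .loop none [.bwd 19562],
   .loop none [.fwd 19556, .fwd 10469, .fwd 19277, .fwd 17610],
   .loop none [.fwd 19564],
   .loop none [.bwd 19533, .fwd 19277, .fwd 10846],
   .loop none [.bwd 19566],
   .loop none [.bwd 17611, .bwd 19277],
   .loop none [.fwd 11749, .bwd 19281],
   .loop none [.fwd 19238, .fwd 19281, .fwd 13190],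
   .loop none [.fwd 19570],
   .loop none [.bwd 19559, .fwd 19556, .bwd 11750, .bwd 19281],
   .loop none [.fwd 19572],
   .loop none [.bwd 11403, .bwd 19283],
   .loop none [.bwd 19535, .fwd 19283, .bwd 16634],
   .loop none [.bwd 19575],
   .loop none [.fwd 5472, .fwd 19283, .bwd 9844],
   .loop none [.fwd 19577],
   .loop none [.fwd 12927, .bwd 19283],
   .loop none [.fwd 19573, .bwd 11391, .bwd 19283],
   .loop none [.fwd 10778, .bwd 19283],
   .loop none [.bwd 9259, .bwd 19283],
   .loop none [.fwd 12639, .bwd 19283],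
   .loop none [.fwd 9724, .bwd 19301],
   .loop none [.bwd 17852, .bwd 19503, .fwd 18033],
   .loop none [.fwd 19585],
   .loop none [.bwd 18996, .fwd 19503],
   .loop none [.fwd 19489, .fwd 19426],
   .loop none [.bwd 4184, .fwd 19312, .fwd 8752],
   .loop none [.fwd 19589],
   .loop none [.fwd 10522, .bwd 19312],
   .loop none [.bwd 4006, .bwd 19317],
   .loop none [.bwd 2895, .fwd 19317, .bwd 16992],
   .loop none [.fwd 19593],
   .loop none [.bwd 3734, .bwd 19317],
   .loop none [.fwd 3733, .bwd 19317],
   .loop none [.fwd 4024, .bwd 19317],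
   .loop none [.bwd 7229, .fwd 19317, .fwd 4013],
   .loop none [.bwd 19598],
   .loop none [.fwd 7564, .fwd 19317, .bwd 5094],
   .loop none [.fwd 19600],
   .loop none [.bwd 2019, .bwd 19319],
   .loop none [.fwd 17029, .fwd 19322, .bwd 18077],
   .loop none [.fwd 19603],
   .loop none [.bwd 18091, .bwd 19322],
   .loop none [.bwd 7654, .fwd 19322, .fwd 10720],
   .loop none [.fwd 19606],
   .loop none [.bwd 4250, .bwd 19326],
   .loop none [.fwd 2747, .bwd 19326],
   .loop none [.bwd 2748, .bwd 19326],
   .loop none [.bwd 7325, .bwd 19328],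
   .loop none [.fwd 7543, .bwd 19328],
   .loop none [.fwd 7300, .fwd 19330, .bwd 10951],
   .loop none [.fwd 19613],
   .loop none [.fwd 17366, .fwd 19338, .fwd 18071],
   .loop none [.fwd 19615],
   .loop none [.fwd 17531, .fwd 19338, .fwd 10745],
   .loop none [.bwd 19617],
   .loop none [.fwd 12482, .fwd 19338, .bwd 10722],
   .loop none [.bwd 19619],
   .loop none [.fwd 7688, .fwd 19341, .bwd 18062],
   .loop none [.fwd 19621],
   .loop none [.bwd 11993, .bwd 19341],
   .loop none [.bwd 7785, .fwd 19350, .bwd 18100],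
   .loop none [.fwd 19624],
   .loop none [.bwd 3316, .fwd 19350, .bwd 11985],
   .loop none [.fwd 19626],
   .loop none [.bwd 17845, .bwd 19353],
   .loop none [.fwd 18064, .bwd 19353],
   .loop none [.bwd 17862, .bwd 19355],
   .loop none [.fwd 13584, .bwd 19364],
   .loop none [.fwd 16814, .fwd 19364, .bwd 17963],
   .loop none [.fwd 19632],
   .loop none [.fwd 17392, .bwd 19370],
   .loop none [.fwd 3331, .fwd 19370, .fwd 17119],
   .loop none [.fwd 19635],
   .loop none [.bwd 17120, .bwd 19370],
   .loop none [.fwd 12694, .bwd 19379],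
   .loop none [.bwd 3067, .fwd 19512, .fwd 13107, .bwd 19383],
   .loop none [.fwd 19639],
   .loop none [.fwd 19640, .fwd 19383],
   .loop none [.fwd 7872, .bwd 19641, .bwd 11732],
   .loop none [.fwd 19642],
   .loop none [.bwd 11713, .fwd 19641],
   .loop none [.bwd 7878, .bwd 19641, .fwd 13185],
   .loop none [.fwd 19645],
   .loop none [.fwd 7876, .bwd 19641, .bwd 13186],
   .loop none [.fwd 19647],
   .loop none [.bwd 11407, .fwd 19385, .bwd 19374],
   .loop none [.fwd 19649],
   .loop none [.fwd 19650, .fwd 11676, .bwd 19385],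
   .loop none [.bwd 11677, .bwd 19385],
   .loop none [.bwd 13047, .bwd 19385],
   .loop none [.fwd 19648, .bwd 12307, .fwd 19389, .fwd 13303],
   .loop none [.fwd 19654],
   .loop none [.fwd 8077, .bwd 19392],
   .loop none [.fwd 8073, .bwd 19392],
   .loop none [.bwd 4895, .bwd 19392],
   .loop none [.bwd 3673, .bwd 19392],
   .loop none [.fwd 4883, .bwd 19392],
   .loop none [.bwd 17133, .bwd 19396],
   .loop none [.fwd 4137, .bwd 19396],
   .loop none [.bwd 17136, .bwd 19396],
   .loop none [.fwd 8277, .bwd 19396],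
   .loop none [.fwd 289, .fwd 19398, .bwd 1907],
   .loop none [.fwd 19665],
   .loop none [.fwd 8202, .fwd 19400, .bwd 17959],
   .loop none [.bwd 19667],
   .loop none [.fwd 17322, .bwd 19400],
   .loop none [.fwd 5765, .bwd 19400],
   .loop none [.bwd 17311, .bwd 19400],
   .loop none [.bwd 7672, .bwd 19400],
   .loop none [.fwd 10303, .bwd 19400],
   .loop none [.bwd 10204, .bwd 19403],
   .loop none [.bwd 17045, .bwd 19403],
   .loop none [.fwd 8279, .bwd 19403],
   .loop none [.fwd 5391, .fwd 19405, .fwd 9704],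
   .loop none [.fwd 19677],
   .loop none [.fwd 19586, .fwd 19422],
   .loop none [.fwd 7704, .bwd 19679, .bwd 13321],
   .loop none [.fwd 19680],
   .loop none [.bwd 13747, .bwd 19588, .bwd 9293],
   .loop none [.bwd 19682],
   .loop none [.bwd 16911, .fwd 19588],
   .loop none [.fwd 17066, .bwd 19434],
   .loop none [.bwd 17636, .fwd 19434, .fwd 11757],
   .loop none [.fwd 19686],
   .loop none [.fwd 13788, .bwd 19434],
   .loop none [.bwd 12760, .bwd 19438],
   .loop none [.fwd 17821, .bwd 19438],
   .loop none [.bwd 16950, .fwd 19445, .bwd 17471],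
   .loop none [.bwd 19691],
   .loop none [.bwd 12471, .bwd 19445],
   .loop none [.bwd 12743, .bwd 19445],
   .loop none [.fwd 17678, .bwd 19445],
   .loop none [.bwd 13357, .bwd 19456],
   .loop none [.fwd 10941, .bwd 19456],
   .loop none [.fwd 17387, .fwd 19456, .fwd 10942],
   .loop none [.fwd 19698],
   .loop none [.bwd 13361, .bwd 19456],
   .loop none [.fwd 18981, .bwd 19472],
   .loop none [.bwd 17177, .bwd 19472],
   .loop none [.bwd 17178, .bwd 19472],
   .loop none [.bwd 17179, .bwd 19472],
   .loop none [.fwd 7363, .fwd 19472, .fwd 17180],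
   .loop none [.fwd 19705],
   .loop none [.fwd 7435, .bwd 19477],
   .loop none [.bwd 16021, .bwd 19479],
   .loop none [.fwd 7539, .bwd 19479],
   .loop none [.fwd 5049, .bwd 19479],
   .loop none [.fwd 5256, .bwd 19479],
   .loop none [.fwd 19417, .bwd 19479],
   .loop none [.fwd 5621, .bwd 19479],
   .loop none [.bwd 17488, .fwd 19482, .bwd 18055],
   .loop none [.fwd 19714],
   .loop none [.fwd 17803, .bwd 19482],
   .loop none [.fwd 16250, .bwd 19487],
   .loop none [.fwd 5283, .bwd 19487],
   .loop none [.fwd 19117, .bwd 19487],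
   .loop none [.bwd 8645, .bwd 19487],
   .loop none [.fwd 5832, .bwd 19487],
   .loop none [.fwd 19683, .bwd 13747, .fwd 19489, .fwd 10136],
   .loop none [.bwd 19722],
   .loop none [.fwd 19485, .bwd 19489],
   .loop none [.fwd 10024, .bwd 19489],
   .loop none [.fwd 7707, .fwd 19489, .bwd 10508],
   .loop none [.fwd 19726],
   .loop none [.fwd 19306, .bwd 19491],
   .loop none [.fwd 18464, .bwd 19494],
   .loop none [.bwd 9182, .bwd 19494],
   .loop none [.fwd 10600, .bwd 19494],
   .loop none [.fwd 7430, .bwd 19496],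
   .loop none [.fwd 3718, .fwd 19498, .fwd 9579],
   .loop none [.fwd 19733],
   .loop none [.fwd 7776, .fwd 19501, .fwd 10570],
   .loop none [.fwd 19735],
   .loop none [.fwd 10179, .bwd 19501],
   .loop none [.fwd 8623, .bwd 19501],
   .loop none [.bwd 8624, .bwd 19501],
   .loop none [.fwd 7873, .fwd 19501, .bwd 10019],
   .loop none [.fwd 19740],
   .loop none [.bwd 9238, .bwd 19505],
   .loop none [.fwd 9237, .bwd 19505],
   .loop none [.fwd 18453, .bwd 19505],
   .loop none [.bwd 18023, .bwd 19512],
   .loop none [.fwd 10471, .bwd 19512],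
   .loop none [.bwd 8702, .bwd 19512],
   .loop none [.fwd 8701, .bwd 19512],
   .loop none [.bwd 4132, .fwd 19523, .fwd 18034]]

theorem just78_len : just78.length = 250 := by decide +kernel

theorem just78_ok : cert.okFacts 19500 just78 = true := by decide +kernel

/-- justifications -/
noncomputable def just79 : List Cert.Just :=
  [.loop none [.fwd 19749],
   .loop none [.bwd 17706, .fwd 19523, .bwd 13595],
   .loop none [.fwd 19751],
   .loop none [.fwd 11224, .bwd 19523],
   .loop none [.fwd 19172, .bwd 19523],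
   .loop none [.bwd 17592, .fwd 19529, .bwd 13286],
   .loop none [.fwd 19755],
   .loop none [.fwd 17698, .fwd 19529, .bwd 13305, .bwd 19573],
   .loop none [.bwd 19757],
   .loop none [.fwd 18954, .bwd 19529],
   .loop none [.fwd 19578, .fwd 11066, .bwd 19529],
   .loop none [.fwd 17170, .bwd 19538],
   .loop none [.bwd 11094, .bwd 19538],
   .loop none [.bwd 10598, .bwd 19546],
   .loop none [.bwd 18044, .bwd 19550],
   .loop none [.bwd 4930, .fwd 19554, .bwd 9387],
   .loop none [.fwd 19765],
   .loop none [.fwd 8757, .fwd 19554, .bwd 17764],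
   .loop none [.fwd 19767],
   .loop none [.fwd 13786, .bwd 19556],
   .loop none [.bwd 8745, .bwd 19556],
   .loop none [.bwd 4933, .fwd 19556, .bwd 8744],
   .loop none [.bwd 19771],
   .loop none [.bwd 10469, .bwd 19556],
   .loop none [.bwd 9904, .bwd 19556],
   .loop none [.bwd 19278, .bwd 19556],
   .loop none [.bwd 19558, .fwd 19556, .fwd 19279],
   .loop none [.fwd 19776],
   .loop none [.fwd 11630, .bwd 19561],
   .loop none [.fwd 17169, .bwd 19561],
   .loop none [.fwd 4930, .fwd 19561, .fwd 17947],
   .loop none [.fwd 19780],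
   .loop none [.bwd 19308, .fwd 19561, .fwd 13393],
   .loop none [.fwd 19782],
   .loop none [.fwd 11746, .bwd 19563],
   .loop none [.fwd 19772, .bwd 4933, .fwd 19565, .bwd 13656],
   .loop none [.fwd 19785],
   .loop none [.bwd 19558, .fwd 19565, .fwd 13681],
   .loop none [.fwd 19787],
   .loop none [.fwd 10979, .bwd 19567],
   .loop none [.fwd 19540, .bwd 19567],
   .loop none [.fwd 19533, .bwd 19567],
   .loop none [.fwd 4072, .fwd 19571, .fwd 11748],
   .loop none [.fwd 19792],
   .loop none [.bwd 19569, .bwd 19573],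
   .loop none [.fwd 19238, .bwd 19573],
   .loop none [.fwd 19535, .bwd 19576],
   .loop none [.bwd 16636, .fwd 19576, .bwd 11111],
   .loop none [.fwd 19797],
   .loop none [.bwd 11078, .bwd 19578],
   .loop none [.fwd 5471, .fwd 19578, .bwd 9692],
   .loop none [.fwd 19800],
   .loop none [.bwd 19262, .bwd 19578],
   .loop none [.fwd 19539, .bwd 19578],
   .loop none [.fwd 10788, .bwd 19578],
   .loop none [.bwd 9693, .bwd 19578],
   .loop none [.fwd 18940, .bwd 19578],
   .loop none [.fwd 19681, .fwd 19650],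
   .loop none [.bwd 10506, .bwd 19586],
   .loop none [.fwd 2860, .fwd 19586, .fwd 19119],
   .loop none [.fwd 19809],
   .loop none [.bwd 19120, .bwd 19586],
   .loop none [.fwd 19810, .bwd 8667, .bwd 19586],
   .loop none [.fwd 8743, .bwd 19590],
   .loop none [.bwd 17325, .fwd 19590, .fwd 5419],
   .loop none [.bwd 19814],
   .loop none [.bwd 4185, .fwd 19590, .bwd 5418],
   .loop none [.bwd 19816],
   .loop none [.bwd 8449, .bwd 19590],
   .loop none [.bwd 8678, .bwd 19590],
   .loop none [.bwd 17328, .fwd 19590, .fwd 8452],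
   .loop none [.bwd 19820],
   .loop none [.bwd 17329, .fwd 19590, .bwd 8759],
   .loop none [.bwd 19822],
   .loop none [.bwd 16990, .bwd 19594],
   .loop none [.bwd 16991, .bwd 19594],
   .loop none [.bwd 16993, .bwd 19594],
   .loop none [.bwd 16994, .bwd 19594],
   .loop none [.bwd 16995, .bwd 19594],
   .loop none [.fwd 7565, .fwd 19594, .fwd 16996],
   .loop none [.fwd 19829],
   .loop none [.fwd 1905, .bwd 19599],
   .loop none [.fwd 7229, .bwd 19599],
   .loop none [.bwd 4115, .bwd 19601],
   .loop none [.bwd 4109, .bwd 19601],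
   .loop none [.fwd 8039, .bwd 19601],
   .loop none [.bwd 4110, .bwd 19601],
   .loop none [.bwd 5095, .bwd 19601],
   .loop none [.fwd 5721, .fwd 19604, .fwd 9114],
   .loop none [.fwd 19838],
   .loop none [.bwd 17034, .fwd 19604, .bwd 18088],
   .loop none [.bwd 19840],
   .loop none [.bwd 18066, .bwd 19607],
   .loop none [.fwd 10039, .fwd 19614, .bwd 17973],
   .loop none [.bwd 19843],
   .loop none [.bwd 17371, .fwd 19616, .bwd 18098],
   .loop none [.bwd 19845],
   .loop none [.bwd 17528, .bwd 19618],
   .loop none [.bwd 17529, .bwd 19618],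
   .loop none [.bwd 17530, .bwd 19618],
   .loop none [.bwd 17531, .bwd 19618],
   .loop none [.fwd 19844, .bwd 12664, .bwd 19620],
   .loop none [.bwd 12399, .bwd 19620],
   .loop none [.fwd 17030, .bwd 19620],
   .loop none [.fwd 17032, .bwd 19620],
   .loop none [.bwd 12482, .bwd 19620],
   .loop none [.bwd 8703, .fwd 19622, .fwd 4268],
   .loop none [.bwd 19856],
   .loop none [.fwd 2980, .fwd 19625, .fwd 9116],
   .loop none [.fwd 19858],
   .loop none [.fwd 18106, .fwd 19627, .bwd 18108],
   .loop none [.bwd 19860],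
   .loop none [.fwd 13382, .bwd 19627],
   .loop none [.fwd 7861, .fwd 19627, .bwd 18104],
   .loop none [.fwd 19863],
   .loop none [.bwd 17848, .bwd 19633],
   .loop none [.bwd 2967, .fwd 19633, .bwd 17964],
   .loop none [.fwd 19866],
   .loop none [.fwd 17237, .bwd 19636],
   .loop none [.bwd 13552, .bwd 19636],
   .loop none [.fwd 13590, .bwd 19640],
   .loop none [.bwd 3068, .fwd 19640, .bwd 11400],
   .loop none [.fwd 19871],
   .loop none [.fwd 18922, .bwd 19640],
   .loop none [.bwd 19644, .fwd 19640, .bwd 17242],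
   .loop none [.bwd 19874],
   .loop none [.fwd 18920, .bwd 19640],
   .loop none [.fwd 19069, .bwd 19643],
   .loop none [.fwd 18768, .bwd 19643],
   .loop none [.fwd 11701, .bwd 19646],
   .loop none [.bwd 11702, .bwd 19646],
   .loop none [.fwd 19221, .bwd 19648],
   .loop none [.fwd 12307, .bwd 19648],
   .loop none [.bwd 19375, .fwd 19807],
   .loop none [.bwd 2863, .fwd 19655, .bwd 11436],
   .loop none [.fwd 19884],
   .loop none [.bwd 11409, .bwd 19655],
   .loop none [.fwd 7232, .bwd 19666],
   .loop none [.bwd 8202, .bwd 19668],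
   .loop none [.bwd 2974, .fwd 19668, .fwd 12689],
   .loop none [.fwd 19889],
   .loop none [.fwd 8132, .bwd 19668],
   .loop none [.fwd 5165, .bwd 19668],
   .loop none [.fwd 19323, .bwd 19668],
   .loop none [.bwd 8188, .fwd 19678, .fwd 9705],
   .loop none [.fwd 19894],
   .loop none [.fwd 3016, .fwd 19681, .fwd 17298],
   .loop none [.fwd 19896],
   .loop none [.bwd 3017, .fwd 19681, .bwd 11407],
   .loop none [.fwd 19898],
   .loop none [.fwd 19899, .fwd 19651, .bwd 19681],
   .loop none [.fwd 19723, .fwd 19683],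
   .loop none [.fwd 13747, .fwd 19901],
   .loop none [.fwd 8192, .bwd 19901, .fwd 11593],
   .loop none [.fwd 19903],
   .loop none [.bwd 11758, .bwd 19687],
   .loop none [.fwd 7807, .fwd 19687, .bwd 12436],
   .loop none [.fwd 19906],
   .loop none [.fwd 16961, .bwd 19692],
   .loop none [.fwd 16950, .bwd 19692],
   .loop none [.bwd 17472, .fwd 19692, .fwd 11585],
   .loop none [.fwd 19910],
   .loop none [.bwd 13794, .bwd 19692],
   .loop none [.fwd 17055, .bwd 19699],
   .loop none [.fwd 10173, .fwd 19699, .fwd 13362],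
   .loop none [.fwd 19914],
   .loop none [.bwd 13588, .bwd 19699],
   .loop none [.fwd 16102, .bwd 19706],
   .loop none [.fwd 4798, .bwd 19706],
   .loop none [.fwd 5535, .bwd 19706],
   .loop none [.bwd 5253, .bwd 19706],
   .loop none [.fwd 5316, .bwd 19706],
   .loop none [.fwd 3653, .fwd 19715, .fwd 8903],
   .loop none [.fwd 19922],
   .loop none [.bwd 16933, .fwd 19715, .bwd 8902],
   .loop none [.bwd 19924],
   .loop none [.fwd 8090, .fwd 19723, .bwd 9292],
   .loop none [.fwd 19926],
   .loop none [.fwd 10015, .bwd 19727],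
   .loop none [.fwd 8689, .bwd 19727],
   .loop none [.bwd 8690, .bwd 19727],
   .loop none [.bwd 16746, .fwd 19734, .fwd 9580],
   .loop none [.fwd 19931],
   .loop none [.bwd 13196, .bwd 19736],
   .loop none [.bwd 2976, .fwd 19736, .fwd 19380],
   .loop none [.fwd 19934],
   .loop none [.fwd 8814, .bwd 19736],
   .loop none [.bwd 8815, .bwd 19736],
   .loop none [.fwd 10486, .bwd 19741],
   .loop none [.fwd 18802, .bwd 19741],
   .loop none [.fwd 10013, .bwd 19741],
   .loop none [.fwd 19141, .bwd 19750],
   .loop none [.fwd 11929, .bwd 19750],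
   .loop none [.fwd 19137, .bwd 19750],
   .loop none [.bwd 18027, .fwd 19752, .bwd 19530],
   .loop none [.bwd 19944],
   .loop none [.bwd 5763, .fwd 19752, .fwd 18031],
   .loop none [.fwd 19946],
   .loop none [.fwd 11571, .bwd 19752],
   .loop none [.fwd 19431, .bwd 19752],
   .loop none [.bwd 18022, .bwd 19756],
   .loop none [.bwd 9210, .fwd 19756, .bwd 19310],
   .loop none [.bwd 19951],
   .loop none [.fwd 18709, .bwd 19756],
   .loop none [.fwd 19801, .fwd 9667, .bwd 19756],
   .loop none [.fwd 19309, .bwd 19756],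
   .loop none [.bwd 18058, .fwd 19758, .fwd 17975],
   .loop none [.fwd 19956],
   .loop none [.bwd 8908, .fwd 19758, .fwd 9212],
   .loop none [.fwd 19958],
   .loop none [.bwd 19794, .fwd 19758, .bwd 17775],
   .loop none [.bwd 19960],
   .loop none [.bwd 19308, .fwd 19766, .fwd 10841],
   .loop none [.fwd 19962],
   .loop none [.fwd 19955, .fwd 19766, .bwd 17793],
   .loop none [.bwd 19964],
   .loop none [.bwd 8907, .bwd 19768],
   .loop none [.fwd 18057, .bwd 19768],
   .loop none [.fwd 8906, .bwd 19768],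
   .loop none [.fwd 4933, .bwd 19772],
   .loop none [.fwd 19793, .bwd 8727, .fwd 19772, .fwd 4934],
   .loop none [.fwd 19970],
   .loop none [.bwd 12643, .bwd 19777],
   .loop none [.bwd 12646, .bwd 19777],
   .loop none [.bwd 10981, .bwd 19777],
   .loop none [.fwd 5429, .fwd 19781, .fwd 11350],
   .loop none [.fwd 19975],
   .loop none [.bwd 19010, .fwd 19781, .fwd 13683],
   .loop none [.fwd 19977],
   .loop none [.bwd 17850, .bwd 19783],
   .loop none [.fwd 9430, .bwd 19783],
   .loop none [.fwd 17050, .bwd 19783],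
   .loop none [.fwd 6245, .fwd 19786, .fwd 4187],
   .loop none [.fwd 19982],
   .loop none [.fwd 12755, .fwd 19786, .bwd 17726],
   .loop none [.fwd 19984],
   .loop none [.fwd 19985, .fwd 17725, .bwd 19788],
   .loop none [.fwd 17483, .bwd 19788],
   .loop none [.fwd 11743, .bwd 19793],
   .loop none [.fwd 4071, .fwd 19793, .bwd 11728],
   .loop none [.fwd 19989],
   .loop none [.fwd 8727, .bwd 19793],
   .loop none [.fwd 19961, .bwd 10527, .bwd 19793],
   .loop none [.fwd 19143, .bwd 19793],
   .loop none [.fwd 17785, .fwd 19793, .bwd 11752],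
   .loop none [.fwd 19994],
   .loop none [.fwd 13469, .bwd 19798],
   .loop none [.fwd 11110, .bwd 19798],
   .loop none [.bwd 9680, .bwd 19801],
   .loop none [.bwd 9694, .bwd 19801]]

theorem just79_len : just79.length = 250 := by decide +kernel

theorem just79_ok : cert.okFacts 19750 just79 = true := by decide +kernel

/-- justifications -/
noncomputable def just80 : List Cert.Just :=
  [.loop none [.bwd 19001, .bwd 19801],
   .loop none [.fwd 5470, .fwd 19801, .bwd 10474],
   .loop none [.fwd 20001],
   .loop none [.bwd 16465, .bwd 19801],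
   .loop none [.fwd 9666, .bwd 19801],
   .loop none [.fwd 10540, .bwd 19801],
   .loop none [.bwd 19420, .bwd 19810],
   .loop none [.fwd 2859, .fwd 19810, .bwd 10500],
   .loop none [.fwd 20007],
   .loop none [.bwd 7701, .fwd 19810, .bwd 10517],
   .loop none [.fwd 20009],
   .loop none [.bwd 8668, .bwd 19810],
   .loop none [.bwd 7867, .fwd 19810, .fwd 10308],
   .loop none [.fwd 20012],
   .loop none [.fwd 7702, .fwd 19810, .bwd 10509],
   .loop none [.fwd 20014],
   .loop none [.bwd 4899, .fwd 19815, .bwd 11779],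
   .loop none [.fwd 20016],
   .loop none [.fwd 17325, .bwd 19815],
   .loop none [.fwd 5449, .fwd 19815, .fwd 17727],
   .loop none [.bwd 20019],
   .loop none [.fwd 4154, .fwd 19815, .bwd 12909],
   .loop none [.fwd 20021],
   .loop none [.bwd 8190, .fwd 19815, .bwd 17797],
   .loop none [.fwd 20023],
   .loop none [.fwd 4185, .bwd 19817],
   .loop none [.fwd 10198, .fwd 19817, .bwd 17642],
   .loop none [.fwd 20026],
   .loop none [.fwd 5446, .fwd 19817, .bwd 17724],
   .loop none [.bwd 20028],
   .loop none [.fwd 19515, .bwd 19821],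
   .loop none [.fwd 17328, .bwd 19821],
   .loop none [.bwd 17302, .bwd 19823],
   .loop none [.fwd 17329, .bwd 19823],
   .loop none [.bwd 3630, .bwd 19830],
   .loop none [.fwd 4800, .bwd 19830],
   .loop none [.fwd 3216, .bwd 19830],
   .loop none [.fwd 5004, .bwd 19830],
   .loop none [.fwd 7189, .bwd 19830],
   .loop none [.fwd 4835, .bwd 19830],
   .loop none [.bwd 17214, .fwd 19839, .bwd 10724],
   .loop none [.fwd 20040],
   .loop none [.fwd 13187, .bwd 19841],
   .loop none [.fwd 12298, .bwd 19841],
   .loop none [.fwd 17034, .bwd 19841],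
   .loop none [.fwd 12408, .bwd 19841],
   .loop none [.bwd 4271, .fwd 19844, .fwd 8706],
   .loop none [.fwd 20046],
   .loop none [.bwd 10039, .bwd 19844],
   .loop none [.bwd 10040, .bwd 19844],
   .loop none [.fwd 4270, .fwd 19844, .bwd 8705],
   .loop none [.fwd 20050],
   .loop none [.fwd 10049, .bwd 19844],
   .loop none [.bwd 10065, .bwd 19844],
   .loop none [.fwd 19857, .fwd 10050, .bwd 19844],
   .loop none [.fwd 12404, .bwd 19846],
   .loop none [.fwd 17210, .bwd 19846],
   .loop none [.fwd 17213, .bwd 19846],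
   .loop none [.fwd 17371, .bwd 19846],
   .loop none [.fwd 19847, .bwd 19857],
   .loop none [.bwd 10273, .fwd 19857, .bwd 10036],
   .loop none [.bwd 20060],
   .loop none [.fwd 8703, .bwd 19857],
   .loop none [.fwd 10033, .bwd 19857],
   .loop none [.fwd 10035, .bwd 19857],
   .loop none [.bwd 7782, .fwd 19859, .fwd 9117],
   .loop none [.fwd 20065],
   .loop none [.bwd 18106, .bwd 19861],
   .loop none [.bwd 17783, .fwd 19861, .fwd 9119],
   .loop none [.bwd 20068],
   .loop none [.fwd 7863, .fwd 19861, .bwd 10728],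
   .loop none [.fwd 20070],
   .loop none [.fwd 9763, .bwd 19864],
   .loop none [.fwd 19985, .bwd 17849, .bwd 19867],
   .loop none [.fwd 13591, .bwd 19872],
   .loop none [.bwd 3069, .fwd 19872, .bwd 11399],
   .loop none [.fwd 20075],
   .loop none [.fwd 17397, .bwd 19872],
   .loop none [.fwd 19226, .bwd 19872],
   .loop none [.fwd 19868, .fwd 19875, .fwd 11760],
   .loop none [.fwd 20079],
   .loop none [.fwd 8762, .bwd 19875],
   .loop none [.fwd 3646, .fwd 19875, .fwd 11762],
   .loop none [.fwd 20082],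
   .loop none [.bwd 8763, .bwd 19875],
   .loop none [.fwd 19644, .bwd 19875],
   .loop none [.bwd 7711, .fwd 19885, .bwd 11435],
   .loop none [.fwd 20086],
   .loop none [.fwd 11829, .bwd 19890],
   .loop none [.fwd 19043, .bwd 19890],
   .loop none [.bwd 9706, .bwd 19895],
   .loop none [.bwd 11417, .bwd 19897],
   .loop none [.bwd 3018, .fwd 19899, .bwd 9700],
   .loop none [.fwd 20092],
   .loop none [.bwd 19652, .bwd 19899],
   .loop none [.bwd 7821, .fwd 19899, .fwd 19653],
   .loop none [.fwd 20095],
   .loop none [.fwd 6554, .fwd 19904, .fwd 11594],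
   .loop none [.fwd 20097],
   .loop none [.bwd 3011, .fwd 19907, .bwd 4275],
   .loop none [.fwd 20099],
   .loop none [.fwd 17577, .bwd 19907],
   .loop none [.bwd 13734, .bwd 19911],
   .loop none [.fwd 17700, .fwd 19911, .fwd 11586],
   .loop none [.fwd 20103],
   .loop none [.fwd 13795, .bwd 19911],
   .loop none [.bwd 10172, .fwd 19915, .bwd 11602],
   .loop none [.fwd 20106],
   .loop none [.fwd 17234, .fwd 19923, .fwd 8904],
   .loop none [.fwd 20108],
   .loop none [.fwd 3652, .fwd 19923, .fwd 17800],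
   .loop none [.fwd 20110],
   .loop none [.fwd 10306, .bwd 19925],
   .loop none [.fwd 17618, .bwd 19925],
   .loop none [.fwd 9205, .bwd 19925],
   .loop none [.fwd 16933, .bwd 19925],
   .loop none [.bwd 16678, .bwd 19925],
   .loop none [.fwd 20087, .fwd 13322, .bwd 19927],
   .loop none [.bwd 3963, .fwd 19927, .bwd 9291],
   .loop none [.fwd 20118],
   .loop none [.fwd 17753, .bwd 19932],
   .loop none [.fwd 8223, .bwd 19935],
   .loop none [.bwd 2977, .fwd 19935, .bwd 5474],
   .loop none [.fwd 20122],
   .loop none [.fwd 19085, .bwd 19935],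
   .loop none [.bwd 12699, .bwd 19935],
   .loop none [.fwd 18027, .bwd 19945],
   .loop none [.fwd 17772, .fwd 19945, .fwd 9214],
   .loop none [.fwd 20127],
   .loop none [.fwd 19933, .bwd 19947],
   .loop none [.fwd 11790, .bwd 19947],
   .loop none [.bwd 11791, .bwd 19947],
   .loop none [.bwd 19967, .fwd 19952, .fwd 17765],
   .loop none [.bwd 20132],
   .loop none [.fwd 7719, .fwd 19957, .fwd 10278],
   .loop none [.fwd 20134],
   .loop none [.fwd 10060, .bwd 19957],
   .loop none [.fwd 18060, .bwd 19959],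
   .loop none [.fwd 17692, .bwd 19959],
   .loop none [.bwd 11739, .bwd 19961],
   .loop none [.bwd 13011, .fwd 19961, .fwd 11744],
   .loop none [.fwd 20140],
   .loop none [.fwd 19794, .bwd 19961],
   .loop none [.bwd 8749, .bwd 19961],
   .loop none [.fwd 17794, .bwd 19963],
   .loop none [.fwd 20015, .bwd 19950, .bwd 19965],
   .loop none [.fwd 17592, .bwd 19965],
   .loop none [.bwd 17459, .bwd 19965],
   .loop none [.bwd 19953, .bwd 19965],
   .loop none [.bwd 19954, .bwd 19965],
   .loop none [.bwd 19955, .bwd 19965],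
   .loop none [.bwd 8242, .fwd 19971, .fwd 4935],
   .loop none [.fwd 20151],
   .loop none [.fwd 5428, .fwd 19976, .fwd 11351],
   .loop none [.fwd 20153],
   .loop none [.bwd 13684, .bwd 19976],
   .loop none [.fwd 13661, .bwd 19976],
   .loop none [.bwd 11491, .bwd 19978],
   .loop none [.fwd 20027, .fwd 17641, .bwd 19978],
   .loop none [.bwd 6244, .fwd 19983, .fwd 8239],
   .loop none [.fwd 20159],
   .loop none [.bwd 8753, .fwd 19983, .fwd 4188],
   .loop none [.bwd 20161],
   .loop none [.fwd 17449, .bwd 19983],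
   .loop none [.fwd 17732, .bwd 19985],
   .loop none [.fwd 17745, .bwd 19985],
   .loop none [.bwd 12459, .bwd 19985],
   .loop none [.fwd 4070, .fwd 19990, .fwd 12333],
   .loop none [.fwd 20167],
   .loop none [.fwd 11727, .bwd 19990],
   .loop none [.fwd 20141, .bwd 12902, .bwd 19990],
   .loop none [.fwd 19427, .bwd 19990],
   .loop none [.fwd 13103, .bwd 19995],
   .loop none [.fwd 12331, .bwd 19995],
   .loop none [.bwd 12305, .bwd 19995],
   .loop none [.fwd 18030, .bwd 20002],
   .loop none [.fwd 19536, .bwd 20002],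
   .loop none [.fwd 5469, .fwd 20002, .fwd 19302],
   .loop none [.fwd 20177],
   .loop none [.fwd 9096, .bwd 20002],
   .loop none [.fwd 19207, .bwd 20002],
   .loop none [.fwd 16464, .bwd 20002],
   .loop none [.fwd 18449, .bwd 20002],
   .loop none [.fwd 2858, .fwd 20008, .bwd 8177],
   .loop none [.fwd 20183],
   .loop none [.fwd 7698, .fwd 20008, .fwd 8179],
   .loop none [.fwd 20185],
   .loop none [.fwd 5321, .bwd 20008],
   .loop none [.bwd 5322, .bwd 20008],
   .loop none [.bwd 7864, .fwd 20008, .fwd 8466],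
   .loop none [.fwd 20189],
   .loop none [.bwd 19130, .bwd 20010],
   .loop none [.bwd 19131, .bwd 20010],
   .loop none [.fwd 8687, .bwd 20010],
   .loop none [.bwd 8688, .bwd 20010],
   .loop none [.bwd 7825, .fwd 20010, .bwd 10573],
   .loop none [.fwd 20195],
   .loop none [.fwd 7824, .fwd 20010, .bwd 8730],
   .loop none [.fwd 20197],
   .loop none [.fwd 18024, .bwd 20013],
   .loop none [.bwd 10011, .bwd 20013],
   .loop none [.bwd 8647, .bwd 20013],
   .loop none [.fwd 18817, .bwd 20015],
   .loop none [.fwd 16713, .bwd 20015],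
   .loop none [.fwd 8029, .fwd 20017, .fwd 17647],
   .loop none [.bwd 20204],
   .loop none [.fwd 3257, .fwd 20017, .bwd 11778],
   .loop none [.fwd 20206],
   .loop none [.bwd 8045, .fwd 20017, .bwd 17780],
   .loop none [.fwd 20208],
   .loop none [.fwd 7586, .fwd 20017, .bwd 13772],
   .loop none [.fwd 20210],
   .loop none [.bwd 5449, .bwd 20020],
   .loop none [.fwd 7782, .fwd 20020, .bwd 8131],
   .loop none [.fwd 20213],
   .loop none [.fwd 19113, .bwd 20020],
   .loop none [.fwd 8197, .bwd 20020],
   .loop none [.bwd 4889, .fwd 20022, .bwd 17523],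
   .loop none [.fwd 20217],
   .loop none [.fwd 4922, .fwd 20022, .bwd 17960],
   .loop none [.bwd 20219],
   .loop none [.bwd 17796, .bwd 20024],
   .loop none [.bwd 8738, .bwd 20029],
   .loop none [.bwd 8756, .bwd 20029],
   .loop none [.bwd 8758, .bwd 20029],
   .loop none [.fwd 19818, .bwd 20029],
   .loop none [.bwd 5446, .bwd 20029],
   .loop none [.fwd 10197, .bwd 20029],
   .loop none [.fwd 18086, .bwd 20041],
   .loop none [.bwd 4272, .fwd 20047, .bwd 10053],
   .loop none [.bwd 20229],
   .loop none [.fwd 12784, .bwd 20047],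
   .loop none [.fwd 10275, .fwd 20047, .fwd 10295],
   .loop none [.bwd 20232],
   .loop none [.fwd 13188, .bwd 20047],
   .loop none [.bwd 12773, .bwd 20047],
   .loop none [.fwd 10297, .bwd 20047],
   .loop none [.fwd 20042, .bwd 20051],
   .loop none [.bwd 10014, .bwd 20051],
   .loop none [.bwd 10063, .bwd 20051],
   .loop none [.fwd 10044, .bwd 20051],
   .loop none [.fwd 10273, .bwd 20061],
   .loop none [.bwd 3319, .fwd 20066, .bwd 18105],
   .loop none [.fwd 20242],
   .loop none [.fwd 17783, .bwd 20069],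
   .loop none [.bwd 18107, .bwd 20071],
   .loop none [.bwd 12418, .fwd 20071, .fwd 9351],
   .loop none [.bwd 20246],
   .loop none [.fwd 13592, .bwd 20076],
   .loop none [.fwd 11398, .bwd 20076]]

theorem just80_len : just80.length = 250 := by decide +kernel

theorem just80_ok : cert.okFacts 20000 just80 = true := by decide +kernel

/-- justifications -/
noncomputable def just81 : List Cert.Just :=
  [.loop none [.fwd 19450, .bwd 20076],
   .loop none [.fwd 13593, .bwd 20076],
   .loop none [.fwd 3330, .fwd 20080, .bwd 19164],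
   .loop none [.fwd 20252],
   .loop none [.fwd 12485, .fwd 20080, .fwd 11761],
   .loop none [.bwd 20254],
   .loop none [.fwd 17353, .fwd 20080, .bwd 13192],
   .loop none [.fwd 20256],
   .loop none [.fwd 3645, .fwd 20083, .bwd 12336],
   .loop none [.fwd 20258],
   .loop none [.bwd 11763, .bwd 20083],
   .loop none [.bwd 3014, .fwd 20087, .bwd 11434],
   .loop none [.fwd 20261],
   .loop none [.bwd 13315, .bwd 20093],
   .loop none [.fwd 11077, .bwd 20093],
   .loop none [.fwd 9250, .bwd 20093],
   .loop none [.bwd 9878, .bwd 20093],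
   .loop none [.bwd 19386, .bwd 20093],
   .loop none [.bwd 7823, .fwd 20093, .fwd 19387],
   .loop none [.fwd 20268],
   .loop none [.fwd 18769, .bwd 20096],
   .loop none [.bwd 11652, .bwd 20096],
   .loop none [.fwd 7328, .fwd 20098, .fwd 11595],
   .loop none [.fwd 20272],
   .loop none [.bwd 3012, .fwd 20100, .fwd 10281],
   .loop none [.bwd 20274],
   .loop none [.fwd 13587, .bwd 20100],
   .loop none [.bwd 11587, .bwd 20104],
   .loop none [.fwd 13737, .bwd 20104],
   .loop none [.bwd 17661, .fwd 20107, .bwd 11601],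
   .loop none [.fwd 20279],
   .loop none [.bwd 8905, .bwd 20109],
   .loop none [.fwd 17750, .bwd 20111],
   .loop none [.fwd 20262, .bwd 13327, .bwd 20119],
   .loop none [.fwd 8084, .fwd 20119, .bwd 9290],
   .loop none [.fwd 20284],
   .loop none [.bwd 8227, .bwd 20123],
   .loop none [.fwd 5473, .bwd 20123],
   .loop none [.fwd 19882, .bwd 20123],
   .loop none [.bwd 18028, .bwd 20128],
   .loop none [.bwd 11540, .bwd 20133],
   .loop none [.fwd 19967, .bwd 20133],
   .loop none [.fwd 11539, .bwd 20133],
   .loop none [.fwd 20156, .fwd 20133, .fwd 13720],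
   .loop none [.fwd 20293],
   .loop none [.fwd 13686, .fwd 20133, .bwd 13719],
   .loop none [.bwd 20295],
   .loop none [.fwd 2867, .fwd 20135, .bwd 10280],
   .loop none [.bwd 20297],
   .loop none [.bwd 17736, .fwd 20141, .bwd 12334],
   .loop none [.fwd 20299],
   .loop none [.fwd 12701, .bwd 20141],
   .loop none [.bwd 11745, .bwd 20141],
   .loop none [.fwd 20018, .fwd 20152, .fwd 4936],
   .loop none [.fwd 20303],
   .loop none [.bwd 18020, .fwd 20154, .fwd 11352],
   .loop none [.fwd 20305],
   .loop none [.bwd 13687, .bwd 20154],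
   .loop none [.bwd 18682, .fwd 20154, .bwd 13662],
   .loop none [.fwd 20308],
   .loop none [.bwd 7604, .fwd 20160, .bwd 19059],
   .loop none [.fwd 20310],
   .loop none [.bwd 4912, .fwd 20160, .bwd 4068],
   .loop none [.bwd 20312],
   .loop none [.fwd 2553, .fwd 20160, .fwd 17532],
   .loop none [.fwd 20314],
   .loop none [.bwd 8060, .bwd 20160],
   .loop none [.fwd 8753, .bwd 20162],
   .loop none [.bwd 19179, .fwd 20162, .fwd 10064],
   .loop none [.bwd 20318],
   .loop none [.bwd 10081, .bwd 20162],
   .loop none [.fwd 19348, .fwd 20168, .bwd 7607],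
   .loop none [.fwd 20321],
   .loop none [.bwd 4902, .bwd 20168],
   .loop none [.bwd 11899, .bwd 20168],
   .loop none [.fwd 4243, .bwd 20168],
   .loop none [.fwd 20300, .bwd 8213, .bwd 20168],
   .loop none [.bwd 4244, .bwd 20168],
   .loop none [.fwd 18800, .bwd 20178],
   .loop none [.fwd 18936, .bwd 20178],
   .loop none [.fwd 5468, .fwd 20178, .fwd 18695],
   .loop none [.fwd 20330],
   .loop none [.bwd 18697, .bwd 20178],
   .loop none [.fwd 18998, .bwd 20178],
   .loop none [.fwd 19743, .bwd 20178],
   .loop none [.fwd 20005, .bwd 20178],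
   .loop none [.bwd 10541, .bwd 20178],
   .loop none [.bwd 8024, .bwd 20184],
   .loop none [.fwd 2857, .fwd 20184, .fwd 8041],
   .loop none [.fwd 20338],
   .loop none [.fwd 3790, .bwd 20184],
   .loop none [.bwd 3791, .bwd 20184],
   .loop none [.bwd 7862, .fwd 20184, .fwd 7928],
   .loop none [.fwd 20342],
   .loop none [.bwd 19099, .bwd 20186],
   .loop none [.bwd 3021, .fwd 20186, .fwd 5406],
   .loop none [.fwd 20345],
   .loop none [.fwd 5387, .bwd 20186],
   .loop none [.bwd 5388, .bwd 20186],
   .loop none [.bwd 7827, .fwd 20186, .bwd 8573],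
   .loop none [.fwd 20349],
   .loop none [.bwd 8033, .bwd 20190],
   .loop none [.bwd 7199, .bwd 20190],
   .loop none [.bwd 5255, .bwd 20190],
   .loop none [.fwd 17868, .bwd 20196],
   .loop none [.fwd 19720, .bwd 20196],
   .loop none [.bwd 10135, .bwd 20196],
   .loop none [.bwd 19423, .bwd 20198],
   .loop none [.bwd 19424, .bwd 20198],
   .loop none [.fwd 19725, .bwd 20198],
   .loop none [.bwd 20067, .fwd 20205, .bwd 8085],
   .loop none [.fwd 20360],
   .loop none [.fwd 20244, .fwd 20205, .fwd 8028],
   .loop none [.bwd 20362],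
   .loop none [.bwd 8029, .bwd 20205],
   .loop none [.fwd 19394, .bwd 20205],
   .loop none [.fwd 3856, .bwd 20205],
   .loop none [.fwd 4003, .fwd 20207, .fwd 17517],
   .loop none [.fwd 20367],
   .loop none [.fwd 287, .fwd 20207, .fwd 17520],
   .loop none [.fwd 20369],
   .loop none [.fwd 7920, .fwd 20207, .bwd 17735],
   .loop none [.fwd 20371],
   .loop none [.fwd 3876, .fwd 20207, .fwd 17522],
   .loop none [.fwd 20373],
   .loop none [.bwd 17779, .bwd 20209],
   .loop none [.fwd 17739, .bwd 20211],
   .loop none [.bwd 2980, .fwd 20214, .fwd 8130],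
   .loop none [.fwd 20377],
   .loop none [.fwd 8191, .bwd 20214],
   .loop none [.fwd 6468, .fwd 20218, .bwd 17367],
   .loop none [.fwd 20380],
   .loop none [.bwd 7198, .fwd 20218, .fwd 7831],
   .loop none [.bwd 20382],
   .loop none [.fwd 3894, .fwd 20218, .bwd 7788],
   .loop none [.bwd 20384],
   .loop none [.bwd 5430, .bwd 20220],
   .loop none [.bwd 5478, .bwd 20220],
   .loop none [.fwd 8212, .bwd 20220],
   .loop none [.bwd 4922, .bwd 20220],
   .loop none [.fwd 8208, .bwd 20220],
   .loop none [.fwd 4272, .bwd 20230],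
   .loop none [.bwd 10274, .bwd 20233],
   .loop none [.bwd 10275, .bwd 20233],
   .loop none [.bwd 7777, .fwd 20243, .fwd 11498],
   .loop none [.fwd 20394],
   .loop none [.bwd 7779, .fwd 20243, .bwd 11497],
   .loop none [.fwd 20396],
   .loop none [.fwd 12418, .bwd 20247],
   .loop none [.bwd 19163, .bwd 20253],
   .loop none [.bwd 7751, .fwd 20253, .bwd 11073],
   .loop none [.fwd 20400],
   .loop none [.fwd 17540, .fwd 20253, .fwd 11074],
   .loop none [.fwd 20402],
   .loop none [.bwd 19165, .bwd 20253],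
   .loop none [.fwd 19916, .bwd 20253],
   .loop none [.fwd 7898, .fwd 20253, .fwd 19166],
   .loop none [.fwd 20406],
   .loop none [.fwd 19435, .fwd 20255, .bwd 11737],
   .loop none [.fwd 20408],
   .loop none [.bwd 4607, .fwd 20255, .bwd 13106],
   .loop none [.fwd 20410],
   .loop none [.fwd 4606, .fwd 20255, .fwd 12434],
   .loop none [.bwd 20412],
   .loop none [.bwd 12485, .bwd 20255],
   .loop none [.fwd 19988, .bwd 20257],
   .loop none [.bwd 17352, .fwd 20257, .fwd 13191],
   .loop none [.fwd 20416],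
   .loop none [.fwd 19942, .bwd 20257],
   .loop none [.fwd 19628, .fwd 20259, .fwd 7610],
   .loop none [.fwd 20419],
   .loop none [.fwd 4971, .bwd 20259],
   .loop none [.bwd 4972, .bwd 20259],
   .loop none [.fwd 11433, .bwd 20262],
   .loop none [.fwd 19509, .bwd 20269],
   .loop none [.fwd 20173, .bwd 20269],
   .loop none [.bwd 11596, .bwd 20273],
   .loop none [.fwd 3012, .bwd 20275],
   .loop none [.bwd 3013, .bwd 20275],
   .loop none [.bwd 7886, .fwd 20275, .fwd 7811],
   .loop none [.fwd 20429],
   .loop none [.fwd 7715, .fwd 20275, .bwd 7810],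
   .loop none [.bwd 20431],
   .loop none [.bwd 2971, .fwd 20280, .bwd 11600],
   .loop none [.fwd 20433],
   .loop none [.fwd 9289, .bwd 20285],
   .loop none [.bwd 11629, .bwd 20294],
   .loop none [.fwd 11628, .bwd 20294],
   .loop none [.fwd 20157, .bwd 20296],
   .loop none [.bwd 11492, .bwd 20296],
   .loop none [.bwd 13686, .bwd 20296],
   .loop none [.fwd 20155, .bwd 20296],
   .loop none [.fwd 2866, .bwd 20298],
   .loop none [.bwd 2867, .bwd 20298],
   .loop none [.bwd 7883, .fwd 20298, .fwd 7888],
   .loop none [.fwd 20444],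
   .loop none [.fwd 7713, .fwd 20298, .bwd 7716],
   .loop none [.fwd 20446],
   .loop none [.fwd 19367, .fwd 20300, .fwd 7606],
   .loop none [.fwd 20448],
   .loop none [.bwd 8219, .bwd 20300],
   .loop none [.bwd 4924, .bwd 20300],
   .loop none [.fwd 20212, .fwd 20304, .fwd 4937],
   .loop none [.fwd 20452],
   .loop none [.fwd 20331, .fwd 20306],
   .loop none [.fwd 5467, .bwd 20454, .fwd 11353],
   .loop none [.fwd 20455],
   .loop none [.bwd 13689, .fwd 20454],
   .loop none [.fwd 13663, .fwd 20454],
   .loop none [.fwd 11320, .bwd 20309],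
   .loop none [.bwd 16415, .fwd 20309, .fwd 11321],
   .loop none [.fwd 20460],
   .loop none [.fwd 13688, .bwd 20309],
   .loop none [.fwd 3900, .fwd 20311, .fwd 7656],
   .loop none [.bwd 20463],
   .loop none [.fwd 4018, .fwd 20311, .fwd 19060],
   .loop none [.bwd 20465],
   .loop none [.fwd 19028, .fwd 20311, .fwd 12372],
   .loop none [.fwd 20467],
   .loop none [.bwd 7684, .bwd 20311],
   .loop none [.fwd 4067, .fwd 20313, .fwd 4913],
   .loop none [.fwd 20470],
   .loop none [.fwd 4912, .bwd 20313],
   .loop none [.bwd 8237, .fwd 20313, .fwd 5450],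
   .loop none [.fwd 20473],
   .loop none [.bwd 18873, .fwd 20313, .bwd 16779],
   .loop none [.bwd 20475],
   .loop none [.bwd 17380, .fwd 20313, .bwd 7608],
   .loop none [.bwd 20477],
   .loop none [.fwd 20105, .bwd 20315],
   .loop none [.fwd 12488, .bwd 20319],
   .loop none [.fwd 19465, .bwd 20319],
   .loop none [.fwd 19179, .bwd 20319],
   .loop none [.fwd 3314, .fwd 20322, .bwd 12337],
   .loop none [.fwd 20483],
   .loop none [.bwd 3315, .fwd 20322, .fwd 3859],
   .loop none [.fwd 20485],
   .loop none [.fwd 3858, .bwd 20322],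
   .loop none [.fwd 19892, .bwd 20322],
   .loop none [.bwd 9270, .bwd 20331],
   .loop none [.fwd 18020, .bwd 20331],
   .loop none [.fwd 20337, .bwd 20339],
   .loop none [.fwd 2856, .fwd 20339, .fwd 4893],
   .loop none [.fwd 20492],
   .loop none [.fwd 19659, .bwd 20339],
   .loop none [.bwd 7859, .fwd 20339, .fwd 7327],
   .loop none [.fwd 20495],
   .loop none [.fwd 7330, .bwd 20343],
   .loop none [.fwd 3624, .bwd 20343],
   .loop none [.fwd 8038, .bwd 20343]]

theorem just81_len : just81.length = 250 := by decide +kernel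

theorem just81_ok : cert.okFacts 20250 just81 = true := by decide +kernel

/-- justifications -/
noncomputable def just82 : List Cert.Just :=
  [.loop none [.bwd 18788, .bwd 20346],
   .loop none [.bwd 7696, .fwd 20346, .fwd 18789],
   .loop none [.bwd 20501],
   .loop none [.bwd 3965, .bwd 20346],
   .loop none [.fwd 19108, .bwd 20346],
   .loop none [.bwd 7830, .fwd 20346, .fwd 8194],
   .loop none [.fwd 20505],
   .loop none [.fwd 19920, .bwd 20350],
   .loop none [.fwd 8043, .bwd 20350],
   .loop none [.bwd 19862, .fwd 20361, .bwd 3932],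
   .loop none [.bwd 20509],
   .loop none [.bwd 8089, .bwd 20361],
   .loop none [.fwd 8222, .fwd 20363, .fwd 17598],
   .loop none [.fwd 20512],
   .loop none [.bwd 20244, .bwd 20363],
   .loop none [.bwd 17599, .bwd 20363],
   .loop none [.bwd 10752, .bwd 20363],
   .loop none [.fwd 10729, .bwd 20363],
   .loop none [.bwd 228, .fwd 20368, .bwd 12373],
   .loop none [.fwd 20518],
   .loop none [.fwd 7183, .fwd 20368, .fwd 7833],
   .loop none [.bwd 20520],
   .loop none [.bwd 3855, .fwd 20368, .bwd 7789],
   .loop none [.bwd 20522],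
   .loop none [.fwd 13803, .bwd 20370],
   .loop none [.bwd 20090, .fwd 20372, .fwd 17686],
   .loop none [.bwd 20525],
   .loop none [.bwd 12996, .bwd 20374],
   .loop none [.fwd 17658, .bwd 20374],
   .loop none [.bwd 13010, .bwd 20374],
   .loop none [.fwd 6540, .bwd 20378],
   .loop none [.fwd 17209, .fwd 20378, .fwd 9915],
   .loop none [.fwd 20531],
   .loop none [.fwd 3853, .bwd 20378],
   .loop none [.bwd 5101, .bwd 20378],
   .loop none [.fwd 6310, .fwd 20381, .fwd 17366],
   .loop none [.fwd 20535],
   .loop none [.fwd 18804, .fwd 20381, .fwd 17370],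
   .loop none [.fwd 20537],
   .loop none [.fwd 16714, .fwd 20381, .bwd 20058],
   .loop none [.fwd 20539],
   .loop none [.fwd 8205, .bwd 20383],
   .loop none [.fwd 19418, .bwd 20383],
   .loop none [.bwd 5422, .bwd 20383],
   .loop none [.fwd 7198, .bwd 20383],
   .loop none [.fwd 16417, .bwd 20385],
   .loop none [.fwd 20216, .bwd 20385],
   .loop none [.bwd 3894, .bwd 20385],
   .loop none [.bwd 7820, .fwd 20395, .bwd 13646],
   .loop none [.fwd 20548],
   .loop none [.fwd 7778, .fwd 20395, .bwd 13669],
   .loop none [.fwd 20550],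
   .loop none [.bwd 20358, .fwd 20397, .bwd 11496],
   .loop none [.fwd 20552],
   .loop none [.fwd 7781, .fwd 20397, .bwd 13693],
   .loop none [.fwd 20554],
   .loop none [.fwd 13323, .bwd 20401],
   .loop none [.bwd 4283, .fwd 20401, .fwd 17941],
   .loop none [.fwd 20557],
   .loop none [.fwd 11065, .fwd 20401, .bwd 16738],
   .loop none [.bwd 20559],
   .loop none [.bwd 13473, .bwd 20401],
   .loop none [.fwd 19700, .bwd 20401],
   .loop none [.fwd 12484, .fwd 20401, .fwd 18847],
   .loop none [.fwd 20563],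
   .loop none [.fwd 19870, .bwd 20403],
   .loop none [.fwd 3832, .fwd 20403, .fwd 11075],
   .loop none [.fwd 20566],
   .loop none [.fwd 19869, .bwd 20403],
   .loop none [.fwd 17557, .bwd 20403],
   .loop none [.bwd 11406, .bwd 20407],
   .loop none [.fwd 3074, .fwd 20407, .bwd 16898],
   .loop none [.fwd 20571],
   .loop none [.fwd 10029, .fwd 20407, .fwd 13319],
   .loop none [.fwd 20573],
   .loop none [.fwd 19753, .bwd 20407],
   .loop none [.bwd 17666, .fwd 20409, .bwd 11736],
   .loop none [.fwd 20576],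
   .loop none [.fwd 17391, .bwd 20409],
   .loop none [.bwd 19436, .fwd 20409, .bwd 12435],
   .loop none [.bwd 20579],
   .loop none [.bwd 16551, .fwd 20411, .fwd 5453],
   .loop none [.fwd 20581],
   .loop none [.fwd 6241, .bwd 20413],
   .loop none [.fwd 19195, .bwd 20413],
   .loop none [.bwd 4606, .bwd 20413],
   .loop none [.fwd 20139, .bwd 20417],
   .loop none [.fwd 2854, .fwd 20420, .fwd 12340],
   .loop none [.fwd 20587],
   .loop none [.fwd 3122, .bwd 20430],
   .loop none [.bwd 3123, .bwd 20430],
   .loop none [.bwd 7715, .bwd 20432],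
   .loop none [.fwd 7887, .bwd 20432],
   .loop none [.bwd 7768, .fwd 20434, .bwd 11599],
   .loop none [.fwd 20593],
   .loop none [.fwd 3071, .bwd 20445],
   .loop none [.bwd 20249, .fwd 20445, .fwd 3072],
   .loop none [.bwd 20596],
   .loop none [.bwd 3327, .bwd 20447],
   .loop none [.fwd 7766, .bwd 20447],
   .loop none [.bwd 7792, .fwd 20449, .fwd 12339],
   .loop none [.fwd 20600],
   .loop none [.bwd 8199, .bwd 20449],
   .loop none [.bwd 3896, .bwd 20449],
   .loop none [.fwd 7782, .fwd 20453, .fwd 4938],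
   .loop none [.fwd 20604],
   .loop none [.bwd 11354, .bwd 20456],
   .loop none [.bwd 13691, .bwd 20456],
   .loop none [.fwd 13664, .bwd 20456],
   .loop none [.fwd 16168, .fwd 20461, .fwd 11322],
   .loop none [.fwd 20609],
   .loop none [.fwd 20458, .bwd 20461],
   .loop none [.fwd 9695, .fwd 20461, .bwd 13690],
   .loop none [.fwd 20612],
   .loop none [.bwd 3900, .bwd 20464],
   .loop none [.fwd 19359, .bwd 20464],
   .loop none [.bwd 4018, .bwd 20466],
   .loop none [.bwd 7657, .bwd 20466],
   .loop none [.fwd 12360, .bwd 20468],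
   .loop none [.bwd 18592, .fwd 20471, .fwd 7914],
   .loop none [.fwd 20619],
   .loop none [.bwd 18580, .fwd 20474, .fwd 12335],
   .loop none [.fwd 20621],
   .loop none [.fwd 19468, .bwd 20476],
   .loop none [.fwd 18873, .bwd 20476],
   .loop none [.fwd 17380, .bwd 20478],
   .loop none [.fwd 19912, .bwd 20478],
   .loop none [.fwd 17029, .fwd 20484, .fwd 11871],
   .loop none [.fwd 20627],
   .loop none [.fwd 20088, .bwd 20484],
   .loop none [.fwd 3878, .bwd 20486],
   .loop none [.fwd 3731, .bwd 20486],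
   .loop none [.bwd 3732, .bwd 20486],
   .loop none [.fwd 7857, .fwd 20486, .bwd 3936],
   .loop none [.fwd 20633],
   .loop none [.bwd 4032, .bwd 20493],
   .loop none [.fwd 19410, .bwd 20493],
   .loop none [.fwd 20038, .bwd 20496],
   .loop none [.bwd 3626, .bwd 20496],
   .loop none [.fwd 18757, .fwd 20502, .fwd 5214],
   .loop none [.bwd 20639],
   .loop none [.fwd 7696, .bwd 20502],
   .loop none [.bwd 18521, .fwd 20502, .bwd 13009],
   .loop none [.bwd 20642],
   .loop none [.fwd 20353, .bwd 20506],
   .loop none [.fwd 19711, .bwd 20506],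
   .loop none [.fwd 3931, .fwd 20510, .fwd 9421],
   .loop none [.fwd 20646],
   .loop none [.fwd 19862, .bwd 20510],
   .loop none [.fwd 13784, .bwd 20510],
   .loop none [.bwd 13707, .bwd 20510],
   .loop none [.fwd 17704, .bwd 20510],
   .loop none [.fwd 3929, .fwd 20513, .bwd 12347],
   .loop none [.bwd 20652],
   .loop none [.bwd 13225, .bwd 20513],
   .loop none [.fwd 17469, .bwd 20513],
   .loop none [.bwd 13797, .bwd 20519],
   .loop none [.bwd 8184, .bwd 20521],
   .loop none [.bwd 8087, .bwd 20521],
   .loop none [.fwd 3794, .bwd 20521],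
   .loop none [.bwd 4039, .bwd 20521],
   .loop none [.bwd 7183, .bwd 20521],
   .loop none [.bwd 3875, .bwd 20523],
   .loop none [.fwd 4005, .bwd 20523],
   .loop none [.fwd 20366, .bwd 20523],
   .loop none [.fwd 3855, .bwd 20523],
   .loop none [.fwd 20090, .bwd 20526],
   .loop none [.fwd 3643, .fwd 20526, .fwd 9707],
   .loop none [.fwd 20667],
   .loop none [.fwd 9916, .bwd 20532],
   .loop none [.fwd 8622, .bwd 20532],
   .loop none [.fwd 19738, .bwd 20532],
   .loop none [.bwd 18813, .bwd 20532],
   .loop none [.fwd 3951, .bwd 20536],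
   .loop none [.fwd 19071, .fwd 20536, .bwd 19850],
   .loop none [.fwd 20674],
   .loop none [.bwd 11868, .fwd 20536, .bwd 19855],
   .loop none [.bwd 20676],
   .loop none [.bwd 7829, .bwd 20538],
   .loop none [.bwd 20055, .bwd 20540],
   .loop none [.bwd 20056, .bwd 20540],
   .loop none [.bwd 20057, .bwd 20540],
   .loop none [.bwd 13740, .fwd 20549, .fwd 11327],
   .loop none [.bwd 20682],
   .loop none [.fwd 17467, .bwd 20551],
   .loop none [.fwd 10182, .fwd 20553, .bwd 11495],
   .loop none [.fwd 20685],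
   .loop none [.bwd 16639, .fwd 20553, .bwd 13692],
   .loop none [.fwd 20687],
   .loop none [.fwd 20688, .fwd 11355, .bwd 20555],
   .loop none [.fwd 17221, .bwd 20558],
   .loop none [.fwd 16952, .bwd 20558],
   .loop none [.fwd 10034, .fwd 20558, .fwd 18890],
   .loop none [.fwd 20692],
   .loop none [.bwd 11065, .bwd 20560],
   .loop none [.bwd 12772, .bwd 20560],
   .loop none [.bwd 16740, .fwd 20560, .bwd 20235],
   .loop none [.bwd 20696],
   .loop none [.bwd 11083, .bwd 20564],
   .loop none [.fwd 16739, .bwd 20564],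
   .loop none [.fwd 19948, .bwd 20564],
   .loop none [.fwd 20074, .bwd 20567],
   .loop none [.bwd 17537, .fwd 20567, .fwd 11076],
   .loop none [.bwd 20702],
   .loop none [.fwd 19637, .bwd 20567],
   .loop none [.fwd 17408, .bwd 20567],
   .loop none [.bwd 16897, .bwd 20572],
   .loop none [.bwd 8371, .bwd 20572],
   .loop none [.fwd 19176, .bwd 20572],
   .loop none [.bwd 4625, .bwd 20572],
   .loop none [.fwd 19574, .bwd 20574],
   .loop none [.bwd 17636, .fwd 20577, .bwd 11735],
   .loop none [.fwd 20711],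
   .loop none [.fwd 17433, .bwd 20577],
   .loop none [.fwd 19769, .bwd 20580],
   .loop none [.fwd 19436, .bwd 20580],
   .loop none [.fwd 17105, .bwd 20580],
   .loop none [.fwd 19430, .fwd 20582, .fwd 5454],
   .loop none [.fwd 20717],
   .loop none [.fwd 18746, .bwd 20588],
   .loop none [.bwd 20599, .fwd 20594, .bwd 11598],
   .loop none [.fwd 20720],
   .loop none [.fwd 20263, .bwd 20597],
   .loop none [.fwd 20249, .bwd 20597],
   .loop none [.fwd 19160, .bwd 20597],
   .loop none [.fwd 12465, .bwd 20597],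
   .loop none [.fwd 12696, .bwd 20601],
   .loop none [.bwd 7784, .fwd 20605, .fwd 4939],
   .loop none [.fwd 20727],
   .loop none [.fwd 20608, .bwd 20610],
   .loop none [.fwd 11493, .bwd 20613],
   .loop none [.fwd 20457, .bwd 20613],
   .loop none [.bwd 17010, .bwd 20620],
   .loop none [.bwd 4892, .bwd 20620],
   .loop none [.fwd 20064, .bwd 20620],
   .loop none [.fwd 11884, .fwd 20620, .bwd 20053],
   .loop none [.bwd 20735],
   .loop none [.fwd 11900, .bwd 20622],
   .loop none [.fwd 8813, .bwd 20628],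
   .loop none [.fwd 19936, .bwd 20628],
   .loop none [.fwd 20044, .fwd 20628, .bwd 12353],
   .loop none [.fwd 20740],
   .loop none [.fwd 7932, .bwd 20634],
   .loop none [.fwd 20499, .bwd 20634],
   .loop none [.fwd 19835, .bwd 20634],
   .loop none [.bwd 18757, .bwd 20640],
   .loop none [.bwd 18758, .bwd 20640],
   .loop none [.bwd 11861, .bwd 20640],
   .loop none [.fwd 19074, .bwd 20640],
   .loop none [.fwd 20175, .bwd 20643]]

theorem just82_len : just82.length = 250 := by decide +kernel

theorem just82_ok : cert.okFacts 20500 just82 = true := by decide +kernel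

/-- justifications -/
noncomputable def just83 : List Cert.Just :=
  [.loop none [.bwd 19419, .bwd 20643],
   .loop none [.fwd 16712, .bwd 20643],
   .loop none [.fwd 20201, .bwd 20643],
   .loop none [.bwd 8648, .bwd 20643],
   .loop none [.fwd 18521, .bwd 20643],
   .loop none [.fwd 20286, .fwd 20647, .fwd 9422],
   .loop none [.fwd 20755],
   .loop none [.bwd 8226, .fwd 20647, .bwd 13782],
   .loop none [.fwd 20757],
   .loop none [.fwd 20703, .bwd 13710, .bwd 20647],
   .loop none [.fwd 17768, .bwd 20647],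
   .loop none [.fwd 7677, .fwd 20653, .bwd 3928],
   .loop none [.fwd 20761],
   .loop none [.bwd 3929, .bwd 20653],
   .loop none [.fwd 17757, .fwd 20668, .fwd 9708],
   .loop none [.bwd 20764],
   .loop none [.fwd 20059, .bwd 20675],
   .loop none [.bwd 3908, .fwd 20675, .fwd 19848],
   .loop none [.bwd 20767],
   .loop none [.bwd 19849, .bwd 20675],
   .loop none [.fwd 16710, .bwd 20677],
   .loop none [.fwd 20125, .bwd 20677],
   .loop none [.fwd 11868, .bwd 20677],
   .loop none [.fwd 19070, .bwd 20677],
   .loop none [.fwd 20277, .bwd 20683],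
   .loop none [.fwd 13740, .bwd 20683],
   .loop none [.fwd 20607, .bwd 20686],
   .loop none [.fwd 20606, .bwd 20688],
   .loop none [.fwd 11789, .bwd 20693],
   .loop none [.fwd 20130, .bwd 20693],
   .loop none [.fwd 19799, .bwd 20697],
   .loop none [.fwd 16740, .bwd 20697],
   .loop none [.fwd 11532, .bwd 20703],
   .loop none [.fwd 20264, .fwd 20703, .fwd 11533],
   .loop none [.fwd 20783],
   .loop none [.fwd 17537, .bwd 20703],
   .loop none [.bwd 17940, .bwd 20703],
   .loop none [.fwd 17769, .bwd 20703],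
   .loop none [.fwd 19688, .bwd 20712],
   .loop none [.fwd 17282, .bwd 20712],
   .loop none [.bwd 19429, .fwd 20718, .fwd 5455],
   .loop none [.bwd 20790],
   .loop none [.bwd 2972, .fwd 20721, .bwd 11597],
   .loop none [.fwd 20792],
   .loop none [.fwd 20648, .fwd 20728, .fwd 4940],
   .loop none [.fwd 20794],
   .loop none [.bwd 11884, .bwd 20736],
   .loop none [.bwd 19638, .bwd 20741],
   .loop none [.fwd 20271, .bwd 20741],
   .loop none [.bwd 11653, .bwd 20741],
   .loop none [.bwd 20287, .fwd 20756, .fwd 9423],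
   .loop none [.fwd 20800],
   .loop none [.fwd 7780, .fwd 20756, .bwd 13385],
   .loop none [.fwd 20802],
   .loop none [.bwd 12145, .bwd 20758],
   .loop none [.fwd 4952, .fwd 20758, .fwd 17719],
   .loop none [.fwd 20805],
   .loop none [.bwd 17461, .bwd 20758],
   .loop none [.fwd 17539, .bwd 20758],
   .loop none [.fwd 13780, .bwd 20758],
   .loop none [.bwd 3295, .fwd 20762, .bwd 3927],
   .loop none [.fwd 20810],
   .loop none [.fwd 17842, .bwd 20765],
   .loop none [.bwd 9709, .fwd 20765, .bwd 19182],
   .loop none [.bwd 20813],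
   .loop none [.bwd 18881, .bwd 20765],
   .loop none [.fwd 19189, .bwd 20765],
   .loop none [.bwd 17757, .bwd 20765],
   .loop none [.bwd 18884, .bwd 20765],
   .loop none [.bwd 18885, .bwd 20765],
   .loop none [.fwd 18889, .bwd 20765],
   .loop none [.bwd 17759, .bwd 20765],
   .loop none [.fwd 3908, .bwd 20768],
   .loop none [.bwd 19623, .fwd 20768, .fwd 3909],
   .loop none [.fwd 20823],
   .loop none [.bwd 20265, .fwd 20784, .fwd 11534],
   .loop none [.fwd 20825],
   .loop none [.bwd 11852, .bwd 20791],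
   .loop none [.fwd 19429, .bwd 20791],
   .loop none [.bwd 19151, .bwd 20791],
   .loop none [.bwd 11792, .bwd 20791],
   .loop none [.fwd 20131, .bwd 20791],
   .loop none [.fwd 18895, .bwd 20791],
   .loop none [.bwd 11827, .bwd 20791],
   .loop none [.fwd 12355, .bwd 20791],
   .loop none [.fwd 20426, .bwd 20793],
   .loop none [.bwd 20649, .fwd 20795, .fwd 4941],
   .loop none [.bwd 20836],
   .loop none [.bwd 19579, .fwd 20801, .fwd 9424],
   .loop none [.bwd 20838],
   .loop none [.bwd 19583, .fwd 20801, .bwd 13386],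
   .loop none [.fwd 20840],
   .loop none [.fwd 17766, .bwd 20803],
   .loop none [.fwd 20841, .bwd 11623, .bwd 20803],
   .loop none [.fwd 4951, .fwd 20806, .fwd 17631],
   .loop none [.bwd 20844],
   .loop none [.fwd 12423, .bwd 20806],
   .loop none [.fwd 17721, .bwd 20806],
   .loop none [.fwd 13109, .bwd 20806],
   .loop none [.fwd 17544, .bwd 20806],
   .loop none [.fwd 12430, .bwd 20806],
   .loop none [.fwd 19408, .fwd 20811, .bwd 3926],
   .loop none [.bwd 20851],
   .loop none [.fwd 9709, .bwd 20814],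
   .loop none [.fwd 9401, .fwd 20814, .fwd 9710],
   .loop none [.fwd 20854],
   .loop none [.bwd 19344, .fwd 20824, .fwd 3910],
   .loop none [.fwd 20856],
   .loop none [.bwd 9228, .fwd 20826, .fwd 11535],
   .loop none [.fwd 20858],
   .loop none [.fwd 20804, .bwd 20837],
   .loop none [.fwd 17675, .bwd 20837],
   .loop none [.fwd 20649, .bwd 20837],
   .loop none [.bwd 4942, .fwd 20837, .bwd 12798],
   .loop none [.bwd 20863],
   .loop none [.fwd 17475, .bwd 20837],
   .loop none [.fwd 12802, .bwd 20837],
   .loop none [.bwd 9425, .fwd 20839, .bwd 13275],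
   .loop none [.bwd 20867],
   .loop none [.bwd 19761, .bwd 20839],
   .loop none [.bwd 19762, .bwd 20839],
   .loop none [.fwd 19579, .bwd 20839],
   .loop none [.fwd 19974, .bwd 20839],
   .loop none [.fwd 18650, .bwd 20839],
   .loop none [.fwd 13387, .fwd 20839, .bwd 13301],
   .loop none [.bwd 20874],
   .loop none [.bwd 4951, .bwd 20845],
   .loop none [.bwd 19406, .bwd 20852],
   .loop none [.fwd 19657, .bwd 20852],
   .loop none [.bwd 10515, .bwd 20852],
   .loop none [.fwd 3925, .fwd 20852, .fwd 19407],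
   .loop none [.fwd 20880],
   .loop none [.bwd 19408, .bwd 20852],
   .loop none [.bwd 5412, .bwd 20852],
   .loop none [.fwd 20347, .bwd 20852],
   .loop none [.bwd 8211, .bwd 20852],
   .loop none [.fwd 5386, .bwd 20852],
   .loop none [.bwd 4615, .fwd 20855, .fwd 9711],
   .loop none [.fwd 20887],
   .loop none [.bwd 19034, .fwd 20857, .fwd 3911],
   .loop none [.fwd 20889],
   .loop none [.fwd 16629, .fwd 20859, .fwd 11536],
   .loop none [.fwd 20891],
   .loop none [.fwd 13714, .bwd 20859],
   .loop none [.fwd 4942, .bwd 20864],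
   .loop none [.fwd 9425, .bwd 20868],
   .loop none [.bwd 19996, .fwd 20868, .fwd 9426],
   .loop none [.bwd 20896],
   .loop none [.fwd 16389, .fwd 20868, .bwd 13388],
   .loop none [.fwd 20898],
   .loop none [.bwd 13387, .bwd 20875],
   .loop none [.bwd 16707, .bwd 20881],
   .loop none [.fwd 16969, .bwd 20881],
   .loop none [.fwd 3924, .fwd 20881, .bwd 7176],
   .loop none [.bwd 20903],
   .loop none [.fwd 19414, .bwd 20881],
   .loop none [.fwd 20504, .bwd 20881],
   .loop none [.bwd 19109, .bwd 20881],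
   .loop none [.bwd 8284, .bwd 20881],
   .loop none [.fwd 8283, .bwd 20881],
   .loop none [.fwd 19457, .fwd 20888, .fwd 9712],
   .loop none [.fwd 20910],
   .loop none [.bwd 18752, .fwd 20890, .fwd 3912],
   .loop none [.fwd 20912],
   .loop none [.bwd 10181, .fwd 20892, .fwd 11537],
   .loop none [.fwd 20914],
   .loop none [.fwd 19996, .bwd 20897],
   .loop none [.bwd 9427, .fwd 20897, .bwd 9723],
   .loop none [.fwd 20917],
   .loop none [.fwd 19584, .bwd 20897],
   .loop none [.fwd 10185, .fwd 20899, .fwd 11626],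
   .loop none [.fwd 20920],
   .loop none [.bwd 9910, .fwd 20904, .bwd 3923],
   .loop none [.bwd 20922],
   .loop none [.bwd 3924, .bwd 20904],
   .loop none [.bwd 19454, .fwd 20911, .fwd 9713],
   .loop none [.fwd 20925],
   .loop none [.bwd 645, .fwd 20913, .fwd 3913],
   .loop none [.fwd 20927],
   .loop none [.bwd 11538, .bwd 20915],
   .loop none [.fwd 13716, .bwd 20915],
   .loop none [.fwd 9722, .bwd 20918],
   .loop none [.bwd 11627, .bwd 20921],
   .loop none [.bwd 13389, .bwd 20921],
   .loop none [.fwd 16949, .bwd 20923],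
   .loop none [.fwd 9910, .bwd 20923],
   .loop none [.fwd 16964, .bwd 20923],
   .loop none [.bwd 8820, .bwd 20923],
   .loop none [.fwd 3922, .fwd 20923, .bwd 8819],
   .loop none [.bwd 20938],
   .loop none [.fwd 20748, .bwd 20923],
   .loop none [.fwd 19883, .bwd 20923],
   .loop none [.bwd 10028, .bwd 20923],
   .loop none [.fwd 9912, .bwd 20923],
   .loop none [.fwd 19466, .fwd 20926, .fwd 9714],
   .loop none [.bwd 20944],
   .loop none [.fwd 18315, .fwd 20928, .fwd 3914],
   .loop none [.fwd 20946],
   .loop none [.fwd 8138, .fwd 20939, .bwd 3921],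
   .loop none [.fwd 20948],
   .loop none [.bwd 3922, .bwd 20939],
   .loop none [.fwd 19356, .bwd 20945],
   .loop none [.bwd 11256, .bwd 20945],
   .loop none [.bwd 19466, .bwd 20945],
   .loop none [.bwd 9715, .fwd 20945, .fwd 17582],
   .loop none [.bwd 20954],
   .loop none [.bwd 19467, .bwd 20945],
   .loop none [.fwd 20623, .bwd 20945],
   .loop none [.bwd 17863, .bwd 20945],
   .loop none [.fwd 4373, .fwd 20947, .fwd 3915],
   .loop none [.fwd 20959],
   .loop none [.bwd 3751, .fwd 20949, .bwd 3920],
   .loop none [.fwd 20961],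
   .loop none [.fwd 9715, .bwd 20955],
   .loop none [.fwd 3644, .fwd 20955, .fwd 9716],
   .loop none [.fwd 20964],
   .loop none [.fwd 16579, .fwd 20960, .fwd 3916],
   .loop none [.fwd 20966],
   .loop none [.bwd 18643, .fwd 20962, .bwd 3919],
   .loop none [.bwd 20968],
   .loop none [.bwd 17586, .fwd 20965, .fwd 9717],
   .loop none [.fwd 20970],
   .loop none [.fwd 505, .fwd 20967, .fwd 3917],
   .loop none [.fwd 20972],
   .loop none [.fwd 18524, .bwd 20969],
   .loop none [.fwd 18643, .bwd 20969],
   .loop none [.fwd 5579, .bwd 20969],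
   .loop none [.fwd 20969, .fwd 18452, .bwd 20969],
   .loop none [.fwd 19744, .bwd 20969],
   .loop none [.bwd 18454, .bwd 20969],
   .loop none [.bwd 8472, .bwd 20969],
   .loop none [.bwd 18455, .bwd 20969],
   .loop none [.fwd 20164, .fwd 20971, .fwd 9718],
   .loop none [.bwd 20982],
   .loop none [.bwd 3918, .bwd 20973],
   .loop none [.fwd 20073, .bwd 20983],
   .loop none [.fwd 13105, .bwd 20983],
   .loop none [.bwd 20164, .bwd 20983],
   .loop none [.bwd 9719, .fwd 20983, .bwd 19986],
   .loop none [.bwd 20988],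
   .loop none [.bwd 20165, .bwd 20983],
   .loop none [.fwd 19880, .bwd 20983],
   .loop none [.fwd 19372, .bwd 20983],
   .loop none [.bwd 20166, .bwd 20983],
   .loop none [.bwd 12755, .bwd 20983],
   .loop none [.fwd 9719, .bwd 20989],
   .loop none [.bwd 19987, .fwd 20989, .fwd 9720],
   .loop none [.fwd 20996],
   .loop none [.fwd 19979, .fwd 20997, .fwd 9721],
   .loop none [.fwd 20998]]

theorem just83_len : just83.length = 250 := by decide +kernel

theorem just83_ok : cert.okFacts 20750 just83 = true := by decide +kernel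


end CfsgLib.ThCent.DK
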