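import Cfsg.Agent.Lib.ThCent.DKData

/-!
Justifications of the side facts (generated data).
-/

namespace CfsgLib.ThCent.DK

open CfsgLib.PresCert

set_option maxRecDepth 100000

/-- justifications -/
noncomputable def just84 : List Cert.Just :=
  [.loop none [.bwd 19980, .fwd 20999, .bwd 20931],
   .loop none [.bwd 21000],
   .loop none [.fwd 9429, .bwd 21001],
   .loop none [.fwd 19980, .bwd 21001],
   .loop none [.bwd 13717, .fwd 21001, .fwd 13721],
   .loop none [.fwd 21004],
   .loop none [.fwd 13390, .fwd 21001, .bwd 13392],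
   .loop none [.fwd 21006],
   .loop none [.fwd 20290, .bwd 21005],
   .loop none [.fwd 20147, .bwd 21005],
   .loop none [.fwd 20436, .bwd 21007],
   .loop none [.fwd 19778, .bwd 21007],
   .loop (some (15, 2)) [.bwd 20176, .bwd 20749, .fwd 20228, .bwd 20237, .bwd 20392],
   .loop (some (5, 2)) [.fwd 20237, .fwd 20799, .bwd 11787],
   .loop (some (7, 2)) [.bwd 20043, .fwd 20799, .bwd 19360],
   .loop (some (20, 8)) [.fwd 17700, .bwd 20479, .bwd 2552, .bwd 3273, .fwd 19033, .fwd 1980, .fwd 19028, .bwd 19610],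
   .loop (some (6, 2)) [.fwd 20774, .bwd 21015, .bwd 1904],
   .loop (some (19, 0)) [.bwd 17472, .fwd 19909, .fwd 16951, .bwd 20953, .bwd 20963, .fwd 20421, .fwd 20375, .bwd 20278],
   .loop (some (15, 4)) [.fwd 20774, .fwd 21017, .bwd 20782, .bwd 20248, .fwd 20595],
   .loop (some (4, 2)) [.fwd 10185, .fwd 16386, .fwd 20777, .bwd 5466],
   .loop none [.bwd 21019],
   .loop none [.fwd 5502, .bwd 21020],
   .loop none [.fwd 18680, .bwd 21020],
   .loop none [.bwd 10185, .bwd 21020],
   .loop none [.fwd 5465, .fwd 21020, .fwd 20932],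
   .loop none [.fwd 21024],
   .loop none [.bwd 5503, .bwd 21020],
   .loop none [.bwd 20933, .bwd 21020],
   .loop none [.fwd 8451, .bwd 21020],
   .loop none [.bwd 21010, .bwd 21025],
   .loop none [.fwd 5464, .fwd 21025, .fwd 21011],
   .loop none [.bwd 21030],
   .loop none [.fwd 20437, .bwd 21025],
   .loop none [.bwd 13390, .bwd 21025],
   .loop none [.fwd 13718, .bwd 21025],
   .loop none [.bwd 4931, .fwd 21031, .bwd 5463],
   .loop none [.fwd 21035],
   .loop none [.bwd 5464, .bwd 21031],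
   .loop none [.fwd 19773, .fwd 21036, .bwd 5462],
   .loop none [.fwd 21038],
   .loop none [.fwd 19969, .fwd 21039, .bwd 5461],
   .loop none [.fwd 21040],
   .loop none [.fwd 6245, .fwd 21041, .bwd 5460],
   .loop none [.fwd 21042],
   .loop none [.bwd 6244, .fwd 21043, .bwd 5459],
   .loop none [.fwd 21044],
   .loop none [.fwd 20325, .fwd 21045, .bwd 5458],
   .loop none [.fwd 21046],
   .loop none [.bwd 20324, .fwd 21047, .bwd 5457],
   .loop none [.bwd 21048],
   .loop none [.fwd 20324, .bwd 21049],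
   .loop none [.fwd 20737, .bwd 21049],
   .loop (some (15, 4)) [.bwd 13293, .bwd 18021, .bwd 20986, .fwd 20985, .fwd 7760],
   .loop (some (7, 2)) [.bwd 20777, .bwd 18993, .bwd 4079],
   .loop (some (17, 4)) [.fwd 16386, .bwd 20689, .bwd 7865, .fwd 3065, .fwd 3066],
   .loop (some (7, 2)) [.bwd 19514, .bwd 19004, .bwd 3718],
   .loop (some (9, 1)) [.fwd 7897, .fwd 20570, .fwd 20893],
   .loop (some (12, 2)) [.fwd 7708, .fwd 19886, .fwd 20893, .fwd 20870],
   .loop none [.fwd 21057],
   .loop none [.fwd 20870, .bwd 21058],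
   .loop none [.fwd 7774, .fwd 21058, .fwd 11095],
   .loop none [.fwd 21060],
   .loop none [.bwd 7776, .fwd 21061, .fwd 11096],
   .loop none [.fwd 21062],
   .loop none [.bwd 19737, .fwd 21063, .fwd 11097],
   .loop none [.fwd 21064],
   .loop none [.bwd 8192, .fwd 21065, .fwd 11098],
   .loop none [.fwd 21066],
   .loop none [.bwd 5320, .fwd 21067, .fwd 11099],
   .loop none [.fwd 21068],
   .loop none [.fwd 8176, .fwd 21069, .fwd 11100],
   .loop none [.fwd 21070],
   .loop none [.bwd 20283, .fwd 21071, .fwd 11101],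
   .loop none [.fwd 21072],
   .loop none [.bwd 20423, .fwd 21073, .fwd 11102],
   .loop none [.bwd 21074],
   .loop none [.fwd 20423, .bwd 21075],
   .loop (some (1, 2)) [.bwd 9267, .bwd 20556, .bwd 4282],
   .loop (some (5, 2)) [.fwd 21077, .bwd 19517, .fwd 19764],
   .loop (some (17, 6)) [.bwd 20489, .fwd 20490, .fwd 5428, .bwd 21032, .fwd 5465, .fwd 5466],
   .loop none [.bwd 21079],
   .loop none [.fwd 20489, .bwd 21080],
   .loop none [.fwd 5466, .fwd 21080, .fwd 9271],
   .loop none [.fwd 21082],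
   .loop none [.bwd 21022, .fwd 21083, .fwd 9272],
   .loop none [.fwd 21084],
   .loop none [.fwd 5427, .fwd 21085, .fwd 9273],
   .loop none [.fwd 21086],
   .loop none [.bwd 16438, .fwd 21087, .fwd 9274],
   .loop none [.fwd 21088],
   .loop none [.fwd 16463, .fwd 21089, .fwd 9275],
   .loop none [.fwd 21090],
   .loop none [.bwd 16460, .fwd 21091, .fwd 9276],
   .loop none [.bwd 21092],
   .loop none [.fwd 20698, .bwd 21093],
   .loop none [.fwd 16460, .bwd 21093],
   .loop none [.bwd 9277, .fwd 21093, .bwd 9841],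
   .loop none [.bwd 21096],
   .loop none [.fwd 19802, .bwd 21093],
   .loop none [.fwd 9398, .bwd 21093],
   .loop none [.fwd 19804, .bwd 21093],
   .loop none [.fwd 19531, .bwd 21093],
   .loop none [.bwd 18950, .bwd 21093],
   .loop none [.fwd 19542, .bwd 21093],
   .loop none [.fwd 9277, .bwd 21097],
   .loop none [.fwd 19886, .fwd 21097, .fwd 9278],
   .loop none [.fwd 21105],
   .loop none [.fwd 7706, .fwd 21106, .fwd 9279],
   .loop none [.fwd 21107],
   .loop none [.bwd 7704, .fwd 21108, .fwd 9280],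
   .loop none [.fwd 21109],
   .loop none [.bwd 19808, .fwd 21110, .fwd 9281],
   .loop none [.fwd 21111],
   .loop none [.fwd 8446, .fwd 21112, .fwd 9282],
   .loop none [.fwd 21113],
   .loop none [.fwd 5423, .fwd 21114, .fwd 9283],
   .loop none [.fwd 21115],
   .loop none [.fwd 8136, .fwd 21116, .fwd 9284],
   .loop none [.fwd 21117],
   .loop none [.bwd 9285, .bwd 21118],
   .loop (some (4, 3)) [.bwd 21119, .fwd 5059, .fwd 20435],
   .loop (some (19, 0)) [.bwd 18029, .bwd 8836, .bwd 8835, .fwd 17661, .fwd 2971, .fwd 2972, .fwd 20835, .bwd 7191, .fwd 21119],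
   .loop none [.fwd 21121],
   .loop none [.fwd 21119, .bwd 21122],
   .loop none [.bwd 9286, .bwd 21122],
   .loop none [.fwd 3124, .fwd 21122, .bwd 21120],
   .loop none [.fwd 21125],
   .loop none [.fwd 7880, .fwd 21126, .bwd 9288],
   .loop none [.fwd 21127],
   .loop none [.fwd 20435, .bwd 21126],
   .loop none [.bwd 7877, .fwd 21128, .bwd 9287],
   .loop none [.fwd 21130],
   .loop none [.fwd 21124, .bwd 21131],
   .loop (some (2, 3)) [.bwd 19997, .fwd 20895, .bwd 21059, .bwd 3322],
   .loop none [.bwd 21133],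
   .loop none [.bwd 19928, .fwd 21134, .bwd 11109],
   .loop none [.fwd 21135],
   .loop none [.fwd 19997, .bwd 21134],
   .loop none [.fwd 7328, .fwd 21136, .bwd 11108],
   .loop none [.fwd 21138],
   .loop none [.fwd 3860, .fwd 21139, .bwd 11107],
   .loop none [.fwd 21140],
   .loop none [.fwd 8135, .fwd 21141, .bwd 11106],
   .loop none [.fwd 21142],
   .loop none [.bwd 20117, .fwd 21143, .bwd 11105],
   .loop none [.fwd 21144],
   .loop none [.fwd 7711, .fwd 21145, .bwd 11104],
   .loop none [.fwd 21146],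
   .loop none [.bwd 7709, .fwd 21147, .bwd 11103],
   .loop none [.fwd 21148],
   .loop none [.bwd 20091, .fwd 21149, .fwd 21076],
   .loop none [.bwd 21150],
   .loop none [.fwd 20091, .bwd 21151],
   .loop (some (15, 2)) [.bwd 2870, .bwd 21056, .bwd 20895, .bwd 18019, .bwd 20172],
   .loop (some (7, 2)) [.fwd 20916, .bwd 18463, .fwd 7299],
   .loop (some (1, 2)) [.fwd 9883, .bwd 19156, .bwd 17677],
   .loop (some (19, 0)) [.fwd 17703, .fwd 12128, .bwd 19448, .fwd 19447, .bwd 17740, .bwd 20376, .bwd 20497, .bwd 20398],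
   .loop (some (7, 0)) [.fwd 3060, .fwd 20743, .bwd 20398],
   .loop (some (5, 2)) [.bwd 21056, .fwd 20873, .fwd 16854],
   .loop (some (3, 0)) [.bwd 20730, .bwd 16425, .bwd 20919],
   .loop (some (6, 2)) [.bwd 21159, .bwd 21154, .bwd 18985],
   .loop (some (19, 0)) [.bwd 20351, .fwd 3064, .fwd 3065, .fwd 19938, .fwd 7201, .bwd 19928, .fwd 21137, .bwd 20916],
   .loop (some (15, 4)) [.bwd 21159, .fwd 21161, .bwd 7937, .bwd 20742, .bwd 7856],
   .loop (some (16, 1)) [.fwd 20176, .bwd 20869, .bwd 20895, .bwd 20916, .fwd 21159],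
   .loop (some (21, 14)) [.bwd 7771, .fwd 7769, .fwd 20835, .bwd 7191, .fwd 5059, .fwd 8189, .bwd 19746, .fwd 21054, .fwd 16386, .fwd 13293, .bwd 18937, .fwd 11084, .bwd 19803, .bwd 5471, .fwd 19999, .fwd 16418, .bwd 20919, .fwd 21159, .fwd 21163, .bwd 5469, .fwd 20332, .fwd 16437, .bwd 18921, .bwd 19873, .bwd 7872, .fwd 7870, .fwd 19938, .fwd 7201, .fwd 6554, .bwd 8127, .bwd 19891],
   .loop (some (19, 0)) [.fwd 20351, .fwd 10220, .fwd 20032, .fwd 17137, .bwd 3651, .bwd 3650, .bwd 19981, .bwd 21003],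
   .loop (some (9, 1)) [.fwd 7864, .bwd 21165, .bwd 21033],
   .loop (some (1, 2)) [.bwd 9428, .fwd 21165, .bwd 7860],
   .loop (some (5, 0)) [.bwd 21162, .fwd 20644, .bwd 21165],
   .loop (some (8, 0)) [.bwd 17915, .fwd 21154, .fwd 9427],
   .loop (some (6, 0)) [.fwd 21159, .bwd 21168, .fwd 21002],
   .loop (some (8, 0)) [.fwd 5192, .fwd 21160, .bwd 20439],
   .loop (some (1, 2)) [.bwd 19987, .fwd 18059, .fwd 2969],
   .loop (some (15, 2)) [.fwd 3129, .fwd 20354, .bwd 19972, .fwd 18059, .bwd 7761],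
   .loop (some (5, 2)) [.bwd 18059, .bwd 20872, .fwd 21056],
   .loop (some (9, 1)) [.fwd 7764, .fwd 21172, .fwd 19791],
   .loop (some (15, 2)) [.bwd 7868, .fwd 20199, .fwd 19979, .bwd 21172, .fwd 2970],
   .loop (some (5, 2)) [.fwd 21172, .fwd 19790, .bwd 21012],
   .loop (some (9, 1)) [.fwd 7832, .fwd 20545, .fwd 20731],
   .loop (some (8, 0)) [.bwd 20929, .fwd 8448, .bwd 16418],
   .loop (some (18, 1)) [.fwd 16734, .fwd 18686, .bwd 10128, .fwd 19299, .bwd 16419, .fwd 21179],
   .loop (some (11, 0)) [.bwd 5456, .fwd 20833, .bwd 20953],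
   .loop (some (19, 2)) [.bwd 17545, .bwd 17956, .fwd 19690, .fwd 17820, .fwd 19460, .bwd 20987, .fwd 20985, .fwd 2968],
   .loop (some (5, 2)) [.bwd 20985, .fwd 20992, .bwd 19451],
   .loop (some (7, 2)) [.bwd 20987, .fwd 20992, .bwd 17154],
   .loop (some (6, 0)) [.fwd 3059, .bwd 21157, .fwd 10814],
   .loop (some (19, 0)) [.fwd 2972, .fwd 20835, .bwd 7191, .bwd 21123, .bwd 21132, .fwd 3126, .fwd 3127, .fwd 20684],
   .loop (some (1, 2)) [.bwd 9761, .fwd 21186, .bwd 20599],
   .loop (some (5, 2)) [.bwd 21186, .fwd 21185, .fwd 7796],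
   .loop (some (7, 0)) [.bwd 17784, .bwd 20425, .fwd 20842],
   .loop (some (6, 0)) [.fwd 3709, .bwd 21189, .fwd 9762],
   .loop (some (20, 8)) [.fwd 12848, .bwd 4620, .fwd 4541, .fwd 16651, .bwd 16667, .bwd 18855, .fwd 21158, .fwd 21174],
   .loop (some (6, 2)) [.fwd 17819, .bwd 21191, .bwd 7761],
   .loop (some (7, 2)) [.fwd 18849, .bwd 21191, .fwd 21182],
   .loop (some (14, 1)) [.fwd 8100, .bwd 20690, .fwd 20691, .fwd 19695],
   .loop (some (6, 0)) [.bwd 2791, .fwd 20713, .fwd 19697],
   .loop (some (5, 1)) [.bwd 20941, .fwd 20934, .fwd 21195],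
   .loop (some (7, 2)) [.fwd 19909, .fwd 21195, .fwd 2792],
   .loop (some (14, 3)) [.fwd 20234, .bwd 12771, .fwd 21177, .fwd 7806],
   .loop (some (18, 3)) [.bwd 19432, .bwd 19949, .bwd 20700, .bwd 20234, .bwd 21198, .fwd 20101],
   .loop (some (14, 1)) [.bwd 20834, .fwd 20832, .bwd 21194, .fwd 17679],
   .loop (some (9, 1)) [.fwd 7675, .bwd 21155, .fwd 17679],
   .loop (some (5, 1)) [.fwd 20124, .bwd 21155, .bwd 20276],
   .loop (some (7, 2)) [.fwd 20861, .bwd 20276, .bwd 20427],
   .loop (some (18, 5)) [.fwd 20276, .fwd 21194, .bwd 20832, .fwd 20831, .bwd 20779, .bwd 20052],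
   .loop (some (5, 2)) [.fwd 21052, .bwd 19251, .bwd 19689],
   .loop (some (14, 1)) [.fwd 7879, .fwd 20078, .fwd 17259, .bwd 20759],
   .loop (some (9, 1)) [.fwd 7883, .fwd 20248, .bwd 20759],
   .loop (some (5, 2)) [.fwd 21012, .fwd 19541, .fwd 17953],
   .loop (some (8, 0)) [.fwd 3289, .fwd 21184, .bwd 19460],
   .loop (some (7, 0)) [.fwd 20598, .fwd 21192, .fwd 17820],
   .loop (some (14, 4)) [.fwd 17825, .bwd 20585, .fwd 7758, .bwd 21183],
   .loop (some (8, 2)) [.fwd 19690, .bwd 21211, .fwd 19452],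
   .loop (some (14, 4)) [.bwd 20440, .fwd 21171, .bwd 18984, .fwd 13045],
   .loop (some (6, 0)) [.fwd 16425, .fwd 21179, .fwd 21008],
   .loop (some (19, 0)) [.fwd 2980, .bwd 17209, .bwd 20680, .fwd 20679, .fwd 7853, .bwd 3237, .fwd 20223, .bwd 20291],
   .loop (some (1, 2)) [.bwd 20292, .fwd 21215, .fwd 7782],
   .loop (some (9, 1)) [.fwd 7886, .fwd 21018, .bwd 20654],
   .loop (some (5, 2)) [.fwd 21018, .bwd 21016, .bwd 20951],
   .loop (some (1, 2)) [.bwd 19186, .bwd 19054, .fwd 2483],
   .loop (some (20, 1)) [.bwd 20894, .bwd 20250, .fwd 20251, .fwd 19464, .bwd 4498, .bwd 20819, .fwd 20818, .fwd 18887],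
   .loop (some (19, 5)) [.bwd 18852, .fwd 18853, .fwd 18852, .fwd 11333, .bwd 11335, .bwd 17323, .bwd 4134, .bwd 4133],
   .loop (some (7, 0)) [.fwd 17505, .fwd 21199, .fwd 18852],
   .loop (some (18, 4)) [.bwd 17508, .bwd 21222, .bwd 19173, .bwd 19754, .bwd 20575, .bwd 10029],
   .loop (some (20, 1)) [.bwd 18887, .bwd 20818, .fwd 20819, .fwd 4497, .fwd 9891, .bwd 12494, .bwd 12508, .bwd 21051],
   .loop (some (1, 2)) [.fwd 21051, .bwd 18732, .fwd 2892],
   .loop (some (13, 2)) [.fwd 21051, .bwd 12480, .fwd 19186],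
   .loop (some (1, 2)) [.bwd 19184, .bwd 12490, .fwd 7285],
   .loop (some (8, 0)) [.bwd 2793, .fwd 21197, .fwd 17472],
   .loop (some (20, 4)) [.fwd 3652, .fwd 19299, .bwd 16419, .fwd 21179, .bwd 20292, .fwd 21214, .bwd 20919, .bwd 21154],
   .loop (some (6, 2)) [.bwd 19446, .bwd 21200, .fwd 12741],
   .loop (some (8, 2)) [.bwd 19448, .fwd 21013, .bwd 4269],
   .loop (some (7, 2)) [.bwd 19447, .bwd 21200, .bwd 12128],
   .loop (some (14, 4)) [.bwd 20958, .fwd 21218, .bwd 20592, .bwd 21188],
   .loop (some (6, 2)) [.fwd 12988, .bwd 21232, .bwd 12127],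
   .loop (some (8, 2)) [.fwd 17740, .bwd 21233, .bwd 3005],
   .loop (some (14, 3)) [.bwd 21234, .bwd 17538, .fwd 20704, .fwd 7726],
   .loop (some (19, 0)) [.fwd 3324, .fwd 20598, .fwd 3328, .fwd 7981, .bwd 4281, .fwd 10294, .fwd 10048, .fwd 17625],
   .loop (some (1, 2)) [.fwd 17462, .fwd 21237, .fwd 7771],
   .loop (some (15, 4)) [.bwd 12127, .fwd 21237, .fwd 7769, .bwd 17957, .bwd 4136],
   .loop (some (1, 2)) [.fwd 12744, .bwd 21239, .bwd 4135],
   .loop (some (7, 0)) [.bwd 20062, .fwd 21231, .bwd 12128],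
   .loop (some (6, 2)) [.bwd 12741, .bwd 21231, .bwd 20241],
   .loop (some (6, 0)) [.bwd 20860, .bwd 21220, .fwd 12611],
   .loop (some (7, 2)) [.bwd 17961, .fwd 21243, .bwd 4952],
   .loop (some (20, 1)) [.fwd 10813, .fwd 21190, .bwd 21235, .bwd 4097, .fwd 3273, .fwd 247, .bwd 2953, .bwd 19344],
   .define,
   .define,
   .define,
   .loop (some (20, 4)) [.fwd 2873, .fwd 4247, .fwd 648, .bwd 18754, .fwd 7219, .fwd 21246, .fwd 21247, .fwd 21248]]

theorem just84_len : just84.length = 250 := by decide +kernel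

theorem just84_ok : cert.okFacts 21000 just84 = true := by decide +kernel

/-- justifications -/
noncomputable def just85 : List Cert.Just :=
  [.loop (some (14, 3)) [.bwd 21016, .bwd 7226, .bwd 20089, .fwd 7816],
   .define,
   .loop (some (20, 4)) [.fwd 2853, .fwd 20719, .fwd 20617, .fwd 20615, .fwd 19358, .bwd 19056, .fwd 2483, .fwd 21251],
   .loop (some (8, 2)) [.fwd 19629, .fwd 21016, .bwd 17153],
   .define,
   .loop (some (18, 3)) [.fwd 20719, .fwd 20617, .fwd 20615, .fwd 21016, .bwd 21250, .fwd 21254],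
   .loop (some (14, 3)) [.bwd 21015, .bwd 7227, .bwd 19893, .fwd 7814],
   .define,
   .loop (some (20, 4)) [.fwd 7682, .bwd 20618, .fwd 19028, .bwd 19610, .fwd 19609, .bwd 19334, .fwd 7439, .fwd 21257],
   .loop (some (8, 2)) [.fwd 21255, .fwd 19842, .fwd 21015, .fwd 17699],
   .loop none [.bwd 21259],
   .loop none [.bwd 21255, .bwd 21260],
   .loop none [.fwd 21254, .bwd 21260],
   .loop (some (18, 2)) [.fwd 21253, .bwd 20618, .fwd 19028, .bwd 19610, .fwd 21015, .bwd 21256],
   .define,
   .loop (some (19, 3)) [.fwd 4071, .fwd 4072, .fwd 17245, .fwd 19527, .fwd 1913, .fwd 16923, .fwd 19170, .fwd 21264],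
   .loop (some (20, 1)) [.fwd 3014, .fwd 21256, .bwd 21015, .fwd 19609, .bwd 857, .bwd 2740, .bwd 4849, .fwd 4838],
   .loop (some (20, 1)) [.fwd 2973, .fwd 19893, .fwd 19324, .bwd 2021, .bwd 19096, .bwd 18727, .bwd 19033, .fwd 4097],
   .loop (some (5, 1)) [.bwd 21229, .bwd 18796, .fwd 5389],
   .loop (some (5, 1)) [.fwd 21244, .bwd 18042, .bwd 19881],
   .loop (some (7, 2)) [.fwd 19362, .bwd 19881, .fwd 2863],
   .loop (some (5, 1)) [.bwd 13045, .bwd 19701, .fwd 19704],
   .define,
   .loop (some (20, 4)) [.fwd 19344, .bwd 19038, .bwd 19096, .bwd 18727, .fwd 1980, .fwd 20618, .bwd 7682, .fwd 21272],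
   .define,
   .define,
   .define,
   .loop (some (20, 4)) [.bwd 7439, .fwd 19334, .bwd 857, .bwd 2740, .fwd 4173, .fwd 21274, .fwd 21275, .fwd 21276],
   .loop (some (7, 2)) [.fwd 19631, .bwd 20424, .fwd 20842],
   .loop (some (5, 2)) [.bwd 19708, .fwd 19712, .bwd 20112],
   .loop (some (20, 2)) [.bwd 19671, .bwd 4301, .fwd 7580, .bwd 4838, .fwd 19331, .fwd 19017, .bwd 19335, .fwd 7439, .fwd 21257],
   .loop none [.fwd 21280],
   .loop none [.fwd 21257, .bwd 21281],
   .loop none [.bwd 21258, .bwd 21281],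
   .loop (some (14, 2)) [.fwd 7772, .fwd 19893, .fwd 19324, .bwd 7450, .bwd 21273],
   .loop none [.fwd 21284],
   .loop none [.fwd 21272, .bwd 21285],
   .loop none [.bwd 21273, .bwd 21285],
   .loop (some (20, 7)) [.fwd 10442, .bwd 2021, .fwd 19038, .bwd 19344, .fwd 21245, .fwd 21157, .bwd 7837, .fwd 20602],
   .loop (some (5, 1)) [.bwd 21266, .bwd 19345, .bwd 10442],
   .loop (some (14, 1)) [.fwd 7773, .fwd 20089, .fwd 19044, .bwd 7452],
   .define,
   .define,
   .define,
   .loop (some (20, 7)) [.fwd 12312, .bwd 7447, .bwd 18753, .fwd 7219, .fwd 21246, .fwd 21291, .fwd 21292, .fwd 21293],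
   .loop (some (5, 1)) [.bwd 21220, .bwd 17859, .bwd 12312],
   .loop (some (18, 5)) [.fwd 21294, .fwd 12312, .bwd 19044, .bwd 20089, .bwd 20629, .fwd 7685, .fwd 20726],
   .loop none [.bwd 21296],
   .loop none [.bwd 21294, .bwd 21297],
   .loop none [.fwd 20726, .fwd 21297, .bwd 21293],
   .loop none [.fwd 21299],
   .loop none [.bwd 3058, .fwd 21300, .bwd 21292],
   .loop none [.fwd 21301],
   .loop none [.fwd 21185, .fwd 21302, .bwd 21291],
   .loop none [.fwd 21303],
   .loop none [.bwd 9761, .fwd 21304, .fwd 21247],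
   .loop none [.fwd 21305],
   .loop none [.fwd 21246, .bwd 21304],
   .loop none [.bwd 21189, .fwd 21306, .fwd 21248],
   .loop none [.fwd 21308],
   .loop none [.bwd 21249, .bwd 21309],
   .loop (some (20, 2)) [.bwd 4135, .fwd 19428, .bwd 7913, .bwd 7285, .fwd 19051, .fwd 18736, .bwd 19057, .fwd 2483, .fwd 21251],
   .loop none [.fwd 21311],
   .loop none [.fwd 21251, .bwd 21312],
   .loop none [.bwd 21252, .bwd 21312],
   .loop (some (20, 6)) [.bwd 21314, .fwd 21313, .bwd 2483, .fwd 19057, .bwd 3340, .bwd 20260, .bwd 20077, .fwd 7877],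
   .loop (some (8, 3)) [.bwd 19361, .fwd 21014, .bwd 19612, .bwd 21277],
   .loop none [.fwd 21316],
   .loop none [.fwd 21157, .fwd 21317, .bwd 21276],
   .loop none [.fwd 21318],
   .loop none [.bwd 21277, .bwd 21317],
   .loop none [.bwd 10813, .fwd 21319, .bwd 21275],
   .loop none [.fwd 21321],
   .loop none [.fwd 21274, .bwd 21322],
   .loop (some (20, 4)) [.fwd 3124, .fwd 21286, .bwd 21283, .fwd 21282, .bwd 7439, .fwd 19335, .fwd 4966, .bwd 20422],
   .define,
   .loop (some (20, 4)) [.bwd 4173, .bwd 4849, .fwd 19331, .fwd 19017, .fwd 4966, .bwd 20422, .bwd 3644, .fwd 21325],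
   .loop (some (5, 2)) [.bwd 17841, .bwd 21307, .fwd 21186],
   .loop (some (5, 2)) [.bwd 16954, .bwd 20270, .bwd 21176],
   .loop (some (20, 4)) [.fwd 3644, .fwd 20422, .bwd 2554, .bwd 2553, .bwd 2552, .bwd 3273, .fwd 4097, .fwd 21267],
   .loop (some (18, 2)) [.bwd 21324, .fwd 20422, .bwd 2554, .bwd 2553, .fwd 20479, .fwd 21228],
   .loop (some (20, 5)) [.fwd 17228, .fwd 21253, .bwd 20618, .fwd 19028, .bwd 20487, .fwd 20488, .bwd 2973, .fwd 21329, .fwd 21325],
   .loop none [.fwd 21331],
   .loop none [.fwd 21325, .bwd 21332],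
   .loop none [.bwd 21326, .bwd 21332],
   .loop (some (14, 1)) [.fwd 7886, .bwd 21218, .fwd 20957, .fwd 16781],
   .define,
   .define,
   .define,
   .loop (some (20, 4)) [.bwd 17473, .bwd 20626, .fwd 20625, .bwd 20624, .fwd 2786, .fwd 21336, .fwd 21337, .fwd 21338],
   .loop (some (18, 2)) [.fwd 21197, .bwd 20626, .fwd 20625, .bwd 20624, .bwd 20957, .fwd 21218],
   .loop (some (20, 7)) [.bwd 21336, .bwd 2786, .fwd 20624, .fwd 8237, .fwd 18585, .bwd 12443, .fwd 18887, .bwd 21224],
   .define,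
   .loop (some (6, 2)) [.bwd 2787, .fwd 21336, .fwd 21342],
   .loop (some (15, 4)) [.bwd 2787, .fwd 17013, .fwd 3314, .fwd 19348, .fwd 4070],
   .loop (some (5, 1)) [.bwd 21238, .bwd 20629, .bwd 17013, .fwd 21336],
   .loop none [.fwd 21345],
   .loop none [.fwd 17476, .fwd 21346, .fwd 21342],
   .loop none [.fwd 21347],
   .loop none [.bwd 17462, .fwd 21346, .fwd 21337],
   .loop none [.fwd 21349],
   .loop none [.fwd 21336, .bwd 21346],
   .loop none [.fwd 21341, .bwd 21346],
   .loop none [.bwd 21343, .bwd 21348],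
   .loop none [.bwd 21338, .bwd 21350],
   .define,
   .define,
   .loop (some (14, 3)) [.bwd 17193, .fwd 17195, .fwd 21355, .fwd 21356],
   .define,
   .loop (some (20, 7)) [.fwd 21353, .fwd 17192, .fwd 20482, .fwd 4189, .fwd 18868, .fwd 12508, .fwd 19184, .fwd 21358],
   .loop (some (9, 1)) [.fwd 8108, .fwd 21344, .fwd 17195],
   .loop (some (18, 2)) [.bwd 21243, .fwd 21358, .fwd 21359, .fwd 21353, .fwd 17193, .bwd 21357],
   .define,
   .define,
   .loop (some (14, 3)) [.bwd 17352, .fwd 17354, .fwd 21362, .fwd 21363],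
   .loop (some (18, 2)) [.bwd 20848, .fwd 21244, .fwd 19441, .bwd 19943, .bwd 20418, .fwd 17352, .bwd 21364],
   .loop none [.fwd 21365],
   .loop none [.bwd 21364, .bwd 21366],
   .loop none [.fwd 7718, .fwd 21366, .bwd 21363],
   .loop none [.fwd 21368],
   .loop none [.fwd 21362, .bwd 21369],
   .loop (some (14, 1)) [.fwd 8261, .fwd 19173, .fwd 21222, .bwd 7668],
   .loop (some (19, 0)) [.bwd 4072, .bwd 4071, .bwd 21265, .bwd 21264, .bwd 19170, .fwd 4317, .fwd 4318, .bwd 17505],
   .loop (some (6, 2)) [.bwd 2791, .bwd 20788, .fwd 3121],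
   .loop (some (20, 7)) [.fwd 21373, .bwd 20847, .fwd 20848, .fwd 7717, .bwd 21204, .fwd 20052, .fwd 20778, .bwd 4563],
   .loop (some (5, 1)) [.bwd 19900, .bwd 21196, .bwd 21373],
   .loop (some (20, 2)) [.fwd 2865, .bwd 21335, .bwd 17015, .bwd 2786, .bwd 20957, .fwd 21218, .fwd 21340, .bwd 20807, .bwd 21361],
   .loop none [.fwd 21376],
   .loop none [.bwd 21361, .bwd 21377],
   .loop none [.bwd 21357, .bwd 21377],
   .loop none [.fwd 7713, .fwd 21377, .bwd 21356],
   .loop none [.fwd 21380],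
   .loop none [.fwd 21355, .bwd 21381],
   .loop (some (19, 0)) [.bwd 21152, .bwd 20283, .bwd 8084, .bwd 21129, .bwd 20590, .fwd 20589, .bwd 17720, .fwd 2792],
   .loop (some (1, 2)) [.fwd 20807, .fwd 21383, .bwd 7709],
   .define,
   .loop (some (21, 8)) [.bwd 5456, .fwd 20829, .fwd 17677, .bwd 4320, .fwd 17666, .fwd 17636, .bwd 3120, .bwd 7891, .fwd 20723, .bwd 3069, .fwd 7877, .bwd 3125, .fwd 21123, .fwd 7191, .bwd 3860, .fwd 8127, .bwd 19737, .bwd 3320, .fwd 7779, .bwd 2978, .fwd 20286, .fwd 8226, .fwd 20807, .bwd 17405, .bwd 4321, .fwd 19159, .fwd 4626, .fwd 8362, .bwd 18863, .fwd 18864, .fwd 21385],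
   .loop (some (5, 2)) [.bwd 21289, .bwd 21288, .fwd 8228],
   .loop (some (20, 3)) [.bwd 21278, .bwd 9761, .fwd 21307, .fwd 21290, .fwd 21315, .fwd 2853, .bwd 21261, .bwd 3290],
   .define,
   .loop (some (5, 2)) [.fwd 7688, .bwd 21315, .fwd 21389],
   .loop (some (5, 2)) [.fwd 21166, .fwd 20188, .fwd 15925],
   .loop (some (9, 1)) [.bwd 20850, .bwd 21269, .bwd 7708],
   .loop (some (5, 1)) [.bwd 20848, .bwd 21269, .bwd 20288],
   .loop (some (14, 1)) [.fwd 7251, .bwd 7913, .bwd 21270, .bwd 7710],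
   .loop (some (5, 1)) [.fwd 20301, .fwd 21207, .fwd 21379],
   .loop (some (14, 1)) [.fwd 7668, .fwd 17508, .bwd 21223, .bwd 7721],
   .loop (some (6, 2)) [.bwd 2870, .bwd 21158, .bwd 4128],
   .loop (some (8, 2)) [.bwd 10048, .fwd 21174, .bwd 2968],
   .loop (some (20, 7)) [.fwd 21397, .bwd 7722, .bwd 17352, .fwd 17351, .fwd 20585, .fwd 20414, .bwd 7757, .fwd 21398],
   .loop (some (20, 6)) [.bwd 21354, .fwd 21234, .bwd 21236, .fwd 7725, .bwd 17193, .fwd 17192, .fwd 20482, .fwd 20320, .fwd 7747],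
   .loop none [.bwd 21400],
   .loop none [.fwd 21354, .bwd 21401],
   .loop none [.bwd 21339, .bwd 21401],
   .loop (some (20, 7)) [.fwd 21394, .fwd 2873, .fwd 18751, .fwd 7375, .bwd 20719, .bwd 21261, .bwd 3290, .fwd 21184],
   .loop (some (15, 2)) [.fwd 7258, .bwd 19320, .bwd 2893, .fwd 21225, .bwd 21386],
   .loop (some (20, 2)) [.fwd 10171, .fwd 20705, .bwd 20250, .fwd 3070, .fwd 21340, .fwd 21197, .bwd 20626, .fwd 2965, .bwd 21390],
   .loop none [.fwd 21406],
   .loop none [.fwd 21389, .bwd 21407],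
   .loop none [.bwd 21390, .bwd 21407],
   .loop (some (20, 7)) [.fwd 21409, .bwd 2965, .fwd 20626, .fwd 17473, .bwd 21209, .fwd 21210, .fwd 20599, .fwd 21327],
   .loop (some (7, 2)) [.fwd 20062, .bwd 21409, .bwd 8835],
   .loop (some (5, 1)) [.fwd 21184, .bwd 19865, .fwd 21403],
   .loop (some (20, 3)) [.bwd 21328, .bwd 7763, .fwd 21192, .bwd 21211, .fwd 21183, .fwd 7757, .bwd 20568, .fwd 10172],
   .loop (some (14, 3)) [.bwd 21193, .bwd 7764, .fwd 20788, .fwd 10564],
   .loop (some (6, 2)) [.bwd 2970, .bwd 21177, .fwd 20392],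
   .loop (some (9, 1)) [.fwd 10565, .fwd 20129, .bwd 7775],
   .loop (some (20, 6)) [.fwd 21359, .fwd 21353, .fwd 17193, .bwd 7725, .fwd 21236, .bwd 18877, .fwd 18880, .fwd 18585, .fwd 21385],
   .loop none [.fwd 21417],
   .loop none [.bwd 21405, .bwd 21418],
   .loop none [.bwd 21386, .bwd 21418],
   .loop none [.fwd 21385, .bwd 21418],
   .loop (some (15, 2)) [.fwd 8188, .bwd 20657, .bwd 3023, .bwd 21178, .bwd 5467],
   .define,
   .loop (some (5, 2)) [.fwd 21178, .fwd 20543, .fwd 21423],
   .loop (some (19, 1)) [.fwd 21265, .fwd 4071, .fwd 4072, .fwd 17245, .fwd 19527, .fwd 1913, .fwd 1914, .bwd 6381, .bwd 21419],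
   .loop none [.fwd 21425],
   .loop none [.bwd 21419, .bwd 21426],
   .loop none [.bwd 21420, .bwd 21426],
   .loop none [.bwd 21421, .bwd 21426],
   .loop none [.bwd 21359, .bwd 21426],
   .loop none [.fwd 21358, .bwd 21426],
   .loop (some (9, 2)) [.fwd 21427, .bwd 7251, .fwd 19065],
   .loop (some (7, 2)) [.fwd 20113, .bwd 20333, .bwd 5468],
   .loop (some (11, 2)) [.bwd 7959, .bwd 7961, .fwd 21264],
   .loop (some (15, 2)) [.bwd 8247, .bwd 20901, .fwd 20902, .fwd 19409, .fwd 8189],
   .loop (some (15, 2)) [.fwd 3717, .bwd 20877, .fwd 20878, .fwd 19656, .fwd 8176],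
   .loop (some (14, 3)) [.bwd 21391, .bwd 18990, .bwd 10128, .fwd 8121],
   .loop (some (18, 2)) [.bwd 16748, .fwd 18681, .bwd 3359, .bwd 3358, .fwd 21391, .bwd 21437],
   .loop (some (20, 3)) [.bwd 21053, .bwd 8248, .bwd 16748, .fwd 18681, .bwd 3359, .bwd 16415, .bwd 19299, .bwd 3652],
   .loop (some (20, 4)) [.fwd 18683, .fwd 16055, .fwd 3423, .fwd 3424, .bwd 3360, .bwd 18681, .bwd 20490, .bwd 21424],
   .loop (some (7, 3)) [.bwd 3650, .bwd 20978, .fwd 20976, .bwd 21440],
   .loop none [.fwd 21441],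
   .loop none [.fwd 21423, .bwd 21442],
   .loop none [.bwd 21424, .bwd 21442],
   .loop none [.bwd 21440, .bwd 21442],
   .loop (some (6, 2)) [.bwd 16831, .fwd 21445, .bwd 18980],
   .loop (some (14, 1)) [.fwd 21027, .bwd 21154, .fwd 21229, .bwd 8068],
   .loop none [.edge 1, .fwd 0],
   .loop none [.edge 0, .bwd 21448, .fwd 4],
   .loop none [.edge 2, .bwd 21448, .fwd 7],
   .loop none [.edge 2, .bwd 21449, .bwd 54],
   .loop none [.edge 3, .bwd 21450, .fwd 9],
   .loop none [.edge 1, .bwd 21451, .fwd 58],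
   .loop none [.edge 3, .bwd 21451, .fwd 39],
   .loop none [.edge 2, .bwd 21452, .fwd 36],
   .loop none [.edge 4, .bwd 21452, .fwd 10],
   .loop none [.edge 3, .bwd 21453, .bwd 962],
   .loop none [.edge 2, .bwd 21454, .fwd 40],
   .loop none [.edge 4, .bwd 21454, .fwd 60],
   .loop none [.edge 1, .bwd 21455, .bwd 27],
   .loop none [.edge 4, .bwd 21455, .fwd 95],
   .loop none [.edge 6, .bwd 21456, .bwd 99],
   .loop none [.edge 5, .bwd 21456, .fwd 96],
   .loop none [.edge 2, .bwd 21457, .fwd 15990],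
   .loop none [.edge 4, .bwd 21457, .fwd 986],
   .loop none [.edge 1, .bwd 21458, .fwd 15901],
   .loop none [.edge 4, .bwd 21458, .fwd 15902],
   .loop none [.edge 6, .bwd 21459, .bwd 1018],
   .loop none [.edge 5, .bwd 21459, .bwd 150],
   .loop none [.edge 0, .bwd 21460, .fwd 15908],
   .loop none [.edge 4, .bwd 21460, .bwd 26],
   .loop none [.edge 3, .bwd 21461, .fwd 13],
   .loop none [.edge 6, .bwd 21461, .fwd 165],
   .loop none [.edge 5, .bwd 21461, .bwd 153],
   .loop none [.edge 4, .bwd 21462, .fwd 1958],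
   .loop none [.edge 6, .bwd 21462, .bwd 98],
   .loop none [.edge 7, .bwd 21462, .bwd 1945],
   .loop none [.edge 5, .bwd 21463, .fwd 137],
   .loop none [.edge 1, .bwd 21464, .fwd 65],
   .loop none [.edge 3, .bwd 21464, .bwd 2670],
   .loop none [.edge 4, .bwd 21464, .fwd 15734],
   .loop none [.edge 6, .bwd 21465, .fwd 1078],
   .loop none [.edge 5, .bwd 21465, .bwd 1065],
   .loop none [.edge 0, .bwd 21466, .bwd 3402],
   .loop none [.edge 4, .bwd 21466, .fwd 1244],
   .loop none [.edge 3, .bwd 21467, .bwd 15900],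
   .loop none [.edge 6, .bwd 21467, .bwd 15904],
   .loop none [.edge 5, .bwd 21467, .bwd 15905],
   .loop none [.edge 4, .bwd 21468, .bwd 2514],
   .loop none [.edge 6, .bwd 21468, .bwd 1017],
   .loop none [.edge 7, .bwd 21468, .bwd 2470],
   .loop none [.edge 5, .bwd 21469, .fwd 1061],
   .loop none [.edge 4, .bwd 21470, .fwd 15855],
   .loop none [.edge 3, .bwd 21471, .bwd 25],
   .loop none [.edge 6, .bwd 21471, .fwd 746],
   .loop none [.edge 5, .bwd 21471, .bwd 172],
   .loop none [.edge 2, .bwd 21472, .bwd 146],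
   .loop none [.edge 6, .bwd 21472, .fwd 221],
   .loop none [.edge 5, .bwd 21472, .bwd 184]]

theorem just85_len : just85.length = 250 := by decide +kernel

theorem just85_ok : cert.okFacts 21250 just85 = true := by decide +kernel

/-- justifications -/
noncomputable def just86 : List Cert.Just :=
  [.loop none [.edge 4, .bwd 21473, .bwd 2520],
   .loop none [.edge 6, .bwd 21473, .bwd 167],
   .loop none [.edge 7, .bwd 21473, .bwd 2458],
   .loop none [.edge 5, .bwd 21474, .fwd 168],
   .loop none [.edge 0, .bwd 21479, .bwd 3431],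
   .loop none [.edge 3, .bwd 21479, .fwd 15470],
   .loop none [.edge 4, .bwd 21479, .fwd 1155],
   .loop none [.edge 6, .bwd 21481, .fwd 1126],
   .loop none [.edge 5, .bwd 21481, .bwd 1103],
   .loop none [.edge 4, .bwd 21482, .bwd 6633],
   .loop none [.edge 6, .bwd 21482, .bwd 1080],
   .loop none [.edge 7, .bwd 21482, .bwd 6625],
   .loop none [.edge 5, .bwd 21483, .fwd 1096],
   .loop none [.edge 4, .bwd 21484, .fwd 15578],
   .loop none [.edge 3, .bwd 21485, .bwd 15635],
   .loop none [.edge 6, .bwd 21485, .bwd 15261],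
   .loop none [.edge 5, .bwd 21485, .bwd 15646],
   .loop none [.edge 2, .bwd 21486, .bwd 852],
   .loop none [.edge 6, .bwd 21486, .fwd 283],
   .loop none [.edge 5, .bwd 21486, .fwd 225],
   .loop none [.edge 4, .bwd 21487, .bwd 15880],
   .loop none [.edge 6, .bwd 21487, .bwd 1029],
   .loop none [.edge 7, .bwd 21487, .bwd 15922],
   .loop none [.edge 5, .bwd 21488, .bwd 15977],
   .loop none [.edge 3, .bwd 21493, .bwd 15843],
   .loop none [.edge 6, .bwd 21493, .bwd 6567],
   .loop none [.edge 5, .bwd 21493, .bwd 764],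
   .loop none [.edge 2, .bwd 21494, .bwd 24],
   .loop none [.edge 6, .bwd 21494, .fwd 701],
   .loop none [.edge 5, .bwd 21494, .bwd 233],
   .loop none [.edge 4, .bwd 21495, .bwd 3085],
   .loop none [.edge 6, .bwd 21495, .bwd 748],
   .loop none [.edge 7, .bwd 21495, .bwd 3035],
   .loop none [.edge 5, .bwd 21496, .bwd 793],
   .loop none [.edge 1, .bwd 21497, .bwd 253],
   .loop none [.edge 6, .bwd 21497, .bwd 2953],
   .loop none [.edge 5, .bwd 21497, .bwd 247],
   .loop none [.edge 4, .bwd 21498, .fwd 1895],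
   .loop none [.edge 6, .bwd 21498, .bwd 223],
   .loop none [.edge 7, .bwd 21498, .bwd 2999],
   .loop none [.edge 4, .bwd 21499, .fwd 286],
   .loop none [.edge 5, .bwd 21499, .bwd 231],
   .loop none [.edge 7, .bwd 21499, .bwd 3110],
   .loop none [.edge 3, .bwd 21504, .fwd 204],
   .loop none [.edge 4, .bwd 21504, .fwd 15569],
   .loop none [.edge 6, .bwd 21506, .bwd 15472],
   .loop none [.edge 5, .bwd 21506, .bwd 15612],
   .loop none [.edge 4, .bwd 21507, .bwd 6679],
   .loop none [.edge 6, .bwd 21507, .bwd 1128],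
   .loop none [.edge 7, .bwd 21507, .bwd 6671],
   .loop none [.edge 5, .bwd 21508, .bwd 1855],
   .loop none [.edge 3, .bwd 21513, .bwd 2693],
   .loop none [.edge 6, .bwd 21513, .bwd 6572],
   .loop none [.edge 5, .bwd 21513, .bwd 15580],
   .loop none [.edge 2, .bwd 21514, .fwd 16],
   .loop none [.edge 6, .bwd 21514, .fwd 317],
   .loop none [.edge 5, .bwd 21514, .bwd 293],
   .loop none [.edge 4, .bwd 21515, .bwd 15498],
   .loop none [.edge 6, .bwd 21515, .bwd 1288],
   .loop none [.edge 7, .bwd 21515, .bwd 15524],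
   .loop none [.edge 5, .bwd 21516, .bwd 15785],
   .loop none [.edge 1, .bwd 21517, .bwd 877],
   .loop none [.edge 6, .bwd 21517, .bwd 2740],
   .loop none [.edge 5, .bwd 21517, .fwd 857],
   .loop none [.edge 4, .bwd 21518, .bwd 20036],
   .loop none [.edge 6, .bwd 21518, .bwd 285],
   .loop none [.edge 7, .bwd 21518, .bwd 3982],
   .loop none [.edge 4, .bwd 21519, .fwd 226],
   .loop none [.edge 5, .bwd 21519, .bwd 291],
   .loop none [.edge 7, .bwd 21519, .bwd 3997],
   .loop none [.edge 2, .bwd 21524, .fwd 916],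
   .loop none [.edge 6, .bwd 21524, .bwd 16056],
   .loop none [.edge 5, .bwd 21524, .fwd 920],
   .loop none [.edge 4, .bwd 21525, .fwd 6576],
   .loop none [.edge 6, .bwd 21525, .bwd 6580],
   .loop none [.edge 7, .bwd 21525, .bwd 6575],
   .loop none [.edge 5, .bwd 21526, .bwd 3148],
   .loop none [.edge 1, .bwd 21527, .bwd 23],
   .loop none [.edge 3, .bwd 21527, .fwd 254],
   .loop none [.edge 6, .bwd 21527, .fwd 653],
   .loop none [.edge 5, .bwd 21527, .fwd 353],
   .loop none [.edge 4, .bwd 21528, .bwd 3622],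
   .loop none [.edge 6, .bwd 21528, .bwd 703],
   .loop none [.edge 7, .bwd 21528, .bwd 3944],
   .loop none [.edge 4, .bwd 21529, .fwd 321],
   .loop none [.edge 5, .bwd 21529, .bwd 709],
   .loop none [.edge 7, .bwd 21529, .bwd 4047],
   .loop none [.edge 0, .bwd 21534, .bwd 4495],
   .loop none [.edge 6, .bwd 21534, .bwd 18754],
   .loop none [.edge 5, .bwd 21534, .bwd 648],
   .loop none [.edge 4, .bwd 21535, .bwd 19344],
   .loop none [.edge 6, .bwd 21535, .bwd 19038],
   .loop none [.edge 7, .bwd 21535, .fwd 19035],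
   .loop none [.edge 4, .bwd 21536, .fwd 2552],
   .loop none [.edge 5, .bwd 21536, .bwd 3273],
   .loop none [.edge 7, .bwd 21536, .bwd 3276],
   .loop none [.edge 3, .bwd 21537, .fwd 2848],
   .loop none [.edge 6, .bwd 21537, .bwd 4040],
   .loop none [.edge 5, .bwd 21537, .bwd 20498],
   .loop none [.edge 8, .bwd 21537, .fwd 3727],
   .loop none [.edge 7, .bwd 21537, .bwd 3663],
   .loop none [.edge 6, .bwd 21540, .fwd 20524],
   .loop none [.edge 5, .bwd 21540, .fwd 287],
   .loop none [.edge 7, .bwd 21540, .bwd 3305],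
   .loop none [.edge 6, .bwd 21544, .bwd 15304],
   .loop none [.edge 5, .bwd 21544, .bwd 15354],
   .loop none [.edge 4, .bwd 21545, .bwd 15754],
   .loop none [.edge 6, .bwd 21545, .bwd 1246],
   .loop none [.edge 7, .bwd 21545, .bwd 15755],
   .loop none [.edge 5, .bwd 21546, .bwd 15744],
   .loop none [.edge 2, .bwd 21551, .bwd 15848],
   .loop none [.edge 6, .bwd 21551, .bwd 5271],
   .loop none [.edge 5, .bwd 21551, .fwd 932],
   .loop none [.edge 4, .bwd 21552, .bwd 7490],
   .loop none [.edge 6, .bwd 21552, .bwd 6601],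
   .loop none [.edge 7, .bwd 21552, .bwd 7476],
   .loop none [.edge 5, .bwd 21553, .bwd 15688],
   .loop none [.edge 1, .bwd 21554, .bwd 348],
   .loop none [.edge 6, .bwd 21554, .fwd 350],
   .loop none [.edge 5, .bwd 21554, .bwd 340],
   .loop none [.edge 4, .bwd 21555, .bwd 19918],
   .loop none [.edge 6, .bwd 21555, .bwd 319],
   .loop none [.edge 7, .bwd 21555, .bwd 4963],
   .loop none [.edge 4, .bwd 21556, .fwd 704],
   .loop none [.edge 5, .bwd 21556, .bwd 326],
   .loop none [.edge 7, .bwd 21556, .bwd 5009],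
   .loop none [.edge 0, .bwd 21561, .bwd 3345],
   .loop none [.edge 6, .bwd 21561, .fwd 3335],
   .loop none [.edge 5, .bwd 21561, .fwd 882],
   .loop none [.edge 4, .bwd 21562, .fwd 4173],
   .loop none [.edge 6, .bwd 21562, .bwd 4849],
   .loop none [.edge 7, .bwd 21562, .bwd 4285],
   .loop none [.edge 4, .bwd 21563, .bwd 19609],
   .loop none [.edge 5, .bwd 21563, .bwd 19334],
   .loop none [.edge 7, .bwd 21563, .fwd 19332],
   .loop none [.edge 3, .bwd 21564, .bwd 2486],
   .loop none [.edge 6, .bwd 21564, .fwd 20037],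
   .loop none [.edge 5, .bwd 21564, .bwd 20637],
   .loop none [.edge 8, .bwd 21564, .fwd 7565],
   .loop none [.edge 7, .bwd 21564, .fwd 20039],
   .loop none [.edge 6, .bwd 21567, .bwd 20341],
   .loop none [.edge 5, .bwd 21567, .fwd 227],
   .loop none [.edge 7, .bwd 21567, .fwd 19832],
   .loop none [.edge 1, .bwd 21570, .fwd 19],
   .loop none [.edge 3, .bwd 21570, .fwd 381],
   .loop none [.edge 6, .bwd 21570, .fwd 476],
   .loop none [.edge 5, .bwd 21570, .fwd 418],
   .loop none [.edge 4, .bwd 21571, .bwd 18683],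
   .loop none [.edge 6, .bwd 21571, .fwd 16055],
   .loop none [.edge 7, .bwd 21571, .fwd 16058],
   .loop none [.edge 4, .bwd 21572, .bwd 15934],
   .loop none [.edge 5, .bwd 21572, .bwd 3362],
   .loop none [.edge 7, .bwd 21572, .fwd 6159],
   .loop none [.edge 0, .bwd 21577, .bwd 2624],
   .loop none [.edge 3, .bwd 21577, .bwd 1012],
   .loop none [.edge 6, .bwd 21577, .fwd 616],
   .loop none [.edge 5, .bwd 21577, .fwd 586],
   .loop none [.edge 6, .bwd 21578, .bwd 4385],
   .loop none [.edge 5, .bwd 21578, .bwd 674],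
   .loop none [.edge 4, .bwd 21579, .bwd 6394],
   .loop none [.edge 6, .bwd 21579, .bwd 655],
   .loop none [.edge 7, .bwd 21579, .fwd 6388],
   .loop none [.edge 4, .bwd 21580, .fwd 354],
   .loop none [.edge 5, .bwd 21580, .bwd 661],
   .loop none [.edge 7, .bwd 21580, .bwd 6332],
   .loop none [.edge 3, .bwd 21581, .bwd 4093],
   .loop none [.edge 6, .bwd 21581, .bwd 6550],
   .loop none [.edge 5, .bwd 21581, .bwd 20352],
   .loop none [.edge 8, .bwd 21581, .fwd 6531],
   .loop none [.edge 7, .bwd 21581, .bwd 6527],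
   .loop none [.edge 6, .bwd 21584, .bwd 20348],
   .loop none [.edge 5, .bwd 21584, .fwd 322],
   .loop none [.edge 7, .bwd 21584, .bwd 4295],
   .loop none [.edge 6, .bwd 21587, .bwd 20819],
   .loop none [.edge 5, .bwd 21587, .fwd 4498],
   .loop none [.edge 4, .bwd 21588, .fwd 7219],
   .loop none [.edge 6, .bwd 21588, .fwd 18753],
   .loop none [.edge 7, .bwd 21588, .bwd 7220],
   .loop none [.edge 4, .bwd 21589, .bwd 3333],
   .loop none [.edge 5, .bwd 21589, .bwd 4247],
   .loop none [.edge 7, .bwd 21589, .bwd 4255],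
   .loop none [.edge 3, .bwd 21590, .bwd 19623],
   .loop none [.edge 6, .bwd 21590, .bwd 21287],
   .loop none [.edge 5, .bwd 21590, .fwd 21245],
   .loop none [.edge 8, .bwd 21590, .fwd 7450],
   .loop none [.edge 7, .bwd 21590, .bwd 7451],
   .loop none [.edge 3, .bwd 21593, .fwd 3256],
   .loop none [.edge 6, .bwd 21593, .fwd 20479],
   .loop none [.edge 5, .bwd 21593, .fwd 2553],
   .loop none [.edge 8, .bwd 21593, .fwd 7326],
   .loop none [.edge 7, .bwd 21593, .bwd 4302],
   .loop none [.edge 6, .bwd 21596, .bwd 3627],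
   .loop none [.edge 5, .bwd 21596, .fwd 4098],
   .loop none [.edge 4, .bwd 21597, .fwd 5059],
   .loop none [.edge 6, .bwd 21597, .bwd 20660],
   .loop none [.edge 8, .bwd 21597, .fwd 7544],
   .loop none [.edge 7, .bwd 21597, .bwd 8021],
   .loop none [.edge 5, .bwd 21598, .bwd 20743],
   .loop none [.edge 8, .bwd 21598, .fwd 7863],
   .loop none [.edge 5, .bwd 21599, .bwd 19393],
   .loop none [.edge 5, .bwd 21600, .fwd 20656],
   .loop none [.edge 6, .bwd 21601, .fwd 20494],
   .loop none [.edge 7, .bwd 21601, .bwd 7697],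
   .loop none [.edge 4, .bwd 21602, .fwd 3257],
   .loop none [.edge 8, .bwd 21602, .bwd 7920],
   .loop none [.edge 7, .bwd 21602, .bwd 3876],
   .loop none [.edge 6, .bwd 21603, .bwd 3259],
   .loop none [.edge 4, .bwd 21604, .fwd 19286],
   .loop none [.edge 6, .bwd 21604, .bwd 3528],
   .loop none [.edge 7, .bwd 21604, .fwd 19287],
   .loop none [.edge 5, .bwd 21605, .bwd 19294],
   .loop none [.edge 1, .bwd 21610, .bwd 369],
   .loop none [.edge 6, .bwd 21610, .fwd 413],
   .loop none [.edge 5, .bwd 21610, .bwd 15913],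
   .loop none [.edge 4, .bwd 21611, .bwd 16103],
   .loop none [.edge 6, .bwd 21611, .bwd 5332],
   .loop none [.edge 7, .bwd 21611, .bwd 5263],
   .loop none [.edge 4, .bwd 21612, .bwd 15917],
   .loop none [.edge 5, .bwd 21612, .bwd 5117],
   .loop none [.edge 7, .bwd 21612, .fwd 18986],
   .loop none [.edge 0, .bwd 21617, .bwd 2636],
   .loop none [.edge 6, .bwd 21617, .fwd 582],
   .loop none [.edge 5, .bwd 21617, .bwd 361],
   .loop none [.edge 4, .bwd 21618, .bwd 19718],
   .loop none [.edge 6, .bwd 21618, .bwd 352],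
   .loop none [.edge 7, .bwd 21618, .bwd 5486],
   .loop none [.edge 4, .bwd 21619, .fwd 656],
   .loop none [.edge 5, .bwd 21619, .bwd 359],
   .loop none [.edge 7, .bwd 21619, .bwd 5561],
   .loop none [.edge 3, .bwd 21620, .fwd 2016],
   .loop none [.edge 6, .bwd 21620, .fwd 19919],
   .loop none [.edge 5, .bwd 21620, .bwd 20507],
   .loop none [.edge 8, .bwd 21620, .fwd 7363],
   .loop none [.edge 7, .bwd 21620, .fwd 19921],
   .loop none [.edge 6, .bwd 21623, .bwd 20188],
   .loop none [.edge 5, .bwd 21623, .fwd 705],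
   .loop none [.edge 7, .bwd 21623, .fwd 19707],
   .loop none [.edge 6, .bwd 21626, .fwd 9891],
   .loop none [.edge 5, .bwd 21626, .bwd 3350],
   .loop none [.edge 4, .bwd 21627, .bwd 16529],
   .loop none [.edge 6, .bwd 21627, .bwd 3337],
   .loop none [.edge 7, .bwd 21627, .bwd 6260],
   .loop none [.edge 4, .bwd 21628, .bwd 19358],
   .loop none [.edge 5, .bwd 21628, .bwd 19056],
   .loop none [.edge 7, .bwd 21628, .fwd 19053],
   .loop none [.edge 3, .bwd 21629, .fwd 4256],
   .loop none [.edge 6, .bwd 21629, .bwd 21334],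
   .loop none [.edge 5, .bwd 21629, .bwd 21323],
   .loop none [.edge 8, .bwd 21629, .fwd 7301],
   .loop none [.edge 7, .bwd 21629, .bwd 7399]]

theorem just86_len : just86.length = 250 := by decide +kernel

theorem just86_ok : cert.okFacts 21500 just86 = true := by decide +kernel

/-- justifications -/
noncomputable def just87 : List Cert.Just :=
  [.loop none [.edge 3, .bwd 21632, .bwd 19842],
   .loop none [.edge 6, .bwd 21632, .fwd 21015],
   .loop none [.edge 5, .bwd 21632, .fwd 19610],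
   .loop none [.edge 8, .bwd 21632, .fwd 7446],
   .loop none [.edge 7, .bwd 21632, .bwd 7227],
   .loop none [.edge 5, .bwd 21635, .fwd 19836],
   .loop none [.edge 4, .bwd 21636, .fwd 19675],
   .loop none [.edge 5, .bwd 21638, .fwd 19828],
   .loop none [.edge 5, .bwd 21639, .fwd 3975],
   .loop none [.edge 4, .bwd 21641, .bwd 20631],
   .loop none [.edge 7, .bwd 21641, .bwd 20665],
   .loop none [.edge 0, .bwd 21643, .bwd 16650],
   .loop none [.edge 3, .bwd 21643, .bwd 497],
   .loop none [.edge 6, .bwd 21643, .fwd 514],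
   .loop none [.edge 5, .bwd 21643, .bwd 486],
   .loop none [.edge 6, .bwd 21644, .bwd 18300],
   .loop none [.edge 5, .bwd 21644, .bwd 506],
   .loop none [.edge 4, .bwd 21645, .fwd 20984],
   .loop none [.edge 6, .bwd 21645, .bwd 478],
   .loop none [.edge 7, .bwd 21645, .bwd 6125],
   .loop none [.edge 4, .bwd 21646, .fwd 419],
   .loop none [.edge 5, .bwd 21646, .bwd 484],
   .loop none [.edge 7, .bwd 21646, .bwd 6136],
   .loop none [.edge 3, .bwd 21647, .bwd 17915],
   .loop none [.edge 6, .bwd 21647, .bwd 21445],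
   .loop none [.edge 5, .bwd 21647, .bwd 21169],
   .loop none [.edge 8, .bwd 21647, .fwd 8483],
   .loop none [.edge 7, .bwd 21647, .fwd 18684],
   .loop none [.edge 6, .bwd 21650, .fwd 18679],
   .loop none [.edge 5, .bwd 21650, .bwd 5404],
   .loop none [.edge 7, .bwd 21650, .bwd 18694],
   .loop none [.edge 3, .bwd 21653, .bwd 258],
   .loop none [.edge 6, .bwd 21653, .fwd 4559],
   .loop none [.edge 5, .bwd 21653, .fwd 2628],
   .loop none [.edge 2, .bwd 21654, .bwd 16700],
   .loop none [.edge 6, .bwd 21654, .bwd 4794],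
   .loop none [.edge 5, .bwd 21654, .fwd 1014],
   .loop none [.edge 4, .bwd 21655, .bwd 18767],
   .loop none [.edge 6, .bwd 21655, .bwd 618],
   .loop none [.edge 7, .bwd 21655, .bwd 6306],
   .loop none [.edge 4, .bwd 21656, .fwd 587],
   .loop none [.edge 5, .bwd 21656, .bwd 624],
   .loop none [.edge 7, .bwd 21656, .bwd 6325],
   .loop none [.edge 6, .bwd 21657, .bwd 6512],
   .loop none [.edge 7, .bwd 21657, .bwd 5876],
   .loop none [.edge 5, .bwd 21658, .bwd 6441],
   .loop none [.edge 7, .bwd 21658, .bwd 6420],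
   .loop none [.edge 6, .bwd 21659, .bwd 19940],
   .loop none [.edge 5, .bwd 21659, .bwd 20200],
   .loop none [.edge 8, .bwd 21659, .fwd 7202],
   .loop none [.edge 7, .bwd 21659, .bwd 6421],
   .loop none [.edge 6, .bwd 21662, .bwd 20194],
   .loop none [.edge 5, .bwd 21662, .fwd 355],
   .loop none [.edge 8, .bwd 21662, .fwd 6516],
   .loop none [.edge 7, .bwd 21662, .bwd 5414],
   .loop none [.edge 6, .bwd 21665, .fwd 7588],
   .loop none [.edge 5, .bwd 21665, .fwd 5389],
   .loop none [.edge 4, .bwd 21666, .fwd 5423],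
   .loop none [.edge 6, .bwd 21666, .bwd 20543],
   .loop none [.edge 8, .bwd 21666, .fwd 7547],
   .loop none [.edge 7, .bwd 21666, .bwd 8230],
   .loop none [.edge 5, .bwd 21667, .bwd 20644],
   .loop none [.edge 8, .bwd 21667, .fwd 7866],
   .loop none [.edge 5, .bwd 21668, .bwd 19112],
   .loop none [.edge 5, .bwd 21669, .bwd 20503],
   .loop none [.edge 6, .bwd 21670, .bwd 20884],
   .loop none [.edge 7, .bwd 21670, .bwd 7826],
   .loop none [.edge 4, .bwd 21671, .fwd 4154],
   .loop none [.edge 8, .bwd 21671, .bwd 8209],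
   .loop none [.edge 7, .bwd 21671, .bwd 20389],
   .loop none [.edge 6, .bwd 21672, .fwd 4294],
   .loop none [.edge 4, .bwd 21673, .fwd 20817],
   .loop none [.edge 6, .bwd 21673, .fwd 20818],
   .loop none [.edge 7, .bwd 21673, .fwd 20821],
   .loop none [.edge 4, .bwd 21674, .bwd 19464],
   .loop none [.edge 5, .bwd 21674, .bwd 11934],
   .loop none [.edge 7, .bwd 21674, .bwd 12387],
   .loop none [.edge 3, .bwd 21675, .bwd 19366],
   .loop none [.edge 6, .bwd 21675, .fwd 21290],
   .loop none [.edge 5, .bwd 21675, .bwd 21307],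
   .loop none [.edge 8, .bwd 21675, .fwd 7452],
   .loop none [.edge 7, .bwd 21675, .bwd 7454],
   .loop none [.edge 3, .bwd 21678, .bwd 3332],
   .loop none [.edge 6, .bwd 21678, .fwd 19371],
   .loop none [.edge 5, .bwd 21678, .fwd 3338],
   .loop none [.edge 8, .bwd 21678, .fwd 7730],
   .loop none [.edge 7, .bwd 21678, .bwd 6380],
   .loop none [.edge 2, .bwd 21681, .fwd 20822],
   .loop none [.edge 6, .bwd 21681, .bwd 21314],
   .loop none [.edge 8, .bwd 21681, .fwd 7683],
   .loop none [.edge 7, .bwd 21681, .bwd 7681],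
   .loop none [.edge 4, .bwd 21682, .bwd 3124],
   .loop none [.edge 8, .bwd 21682, .fwd 7772],
   .loop none [.edge 7, .bwd 21682, .bwd 7815],
   .loop none [.edge 5, .bwd 21683, .fwd 21157],
   .loop none [.edge 8, .bwd 21683, .bwd 20517],
   .loop none [.edge 5, .bwd 21684, .bwd 10442],
   .loop none [.edge 5, .bwd 21685, .fwd 20618],
   .loop none [.edge 2, .bwd 21686, .bwd 4284],
   .loop none [.edge 6, .bwd 21686, .fwd 20625],
   .loop none [.edge 5, .bwd 21686, .fwd 20626],
   .loop none [.edge 8, .bwd 21686, .fwd 7728],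
   .loop none [.edge 7, .bwd 21686, .bwd 17016],
   .loop none [.edge 6, .bwd 21687, .fwd 21228],
   .loop none [.edge 7, .bwd 21687, .bwd 20650],
   .loop none [.edge 4, .bwd 21688, .bwd 20325],
   .loop none [.edge 8, .bwd 21688, .fwd 20316],
   .loop none [.edge 7, .bwd 21688, .bwd 20451],
   .loop none [.edge 6, .bwd 21689, .fwd 21235],
   .loop none [.edge 5, .bwd 21689, .fwd 21267],
   .loop none [.edge 6, .bwd 21690, .fwd 4301],
   .loop none [.edge 0, .bwd 21711, .bwd 16347],
   .loop none [.edge 6, .bwd 21711, .fwd 537],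
   .loop none [.edge 5, .bwd 21711, .bwd 426],
   .loop none [.edge 4, .bwd 21712, .fwd 3749],
   .loop none [.edge 6, .bwd 21712, .bwd 415],
   .loop none [.edge 7, .bwd 21712, .bwd 5842],
   .loop none [.edge 4, .bwd 21713, .bwd 15946],
   .loop none [.edge 5, .bwd 21713, .fwd 15914],
   .loop none [.edge 7, .bwd 21713, .bwd 15958],
   .loop none [.edge 3, .bwd 21714, .fwd 5192],
   .loop none [.edge 6, .bwd 21714, .fwd 21446],
   .loop none [.edge 5, .bwd 21714, .bwd 21171],
   .loop none [.edge 8, .bwd 21714, .bwd 18984],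
   .loop none [.edge 7, .bwd 21714, .fwd 16104],
   .loop none [.edge 6, .bwd 21717, .fwd 21391],
   .loop none [.edge 5, .bwd 21717, .fwd 3358],
   .loop none [.edge 7, .bwd 21717, .bwd 18990],
   .loop none [.edge 6, .bwd 21720, .fwd 4601],
   .loop none [.edge 5, .bwd 21720, .fwd 2640],
   .loop none [.edge 4, .bwd 21721, .bwd 19508],
   .loop none [.edge 6, .bwd 21721, .bwd 584],
   .loop none [.edge 7, .bwd 21721, .bwd 5896],
   .loop none [.edge 4, .bwd 21722, .fwd 619],
   .loop none [.edge 5, .bwd 21722, .bwd 592],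
   .loop none [.edge 7, .bwd 21722, .bwd 5905],
   .loop none [.edge 3, .bwd 21723, .bwd 19763],
   .loop none [.edge 6, .bwd 21723, .fwd 19719],
   .loop none [.edge 5, .bwd 21723, .bwd 20355],
   .loop none [.edge 8, .bwd 21723, .fwd 7361],
   .loop none [.edge 7, .bwd 21723, .fwd 19721],
   .loop none [.edge 3, .bwd 21726, .fwd 5100],
   .loop none [.edge 6, .bwd 21726, .bwd 20011],
   .loop none [.edge 5, .bwd 21726, .fwd 657],
   .loop none [.edge 8, .bwd 21726, .bwd 7542],
   .loop none [.edge 7, .bwd 21726, .bwd 7648],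
   .loop none [.edge 5, .bwd 21729, .fwd 19712],
   .loop none [.edge 4, .bwd 21730, .bwd 20905],
   .loop none [.edge 5, .bwd 21732, .fwd 19704],
   .loop none [.edge 5, .bwd 21733, .bwd 4970],
   .loop none [.edge 4, .bwd 21735, .bwd 20533],
   .loop none [.edge 7, .bwd 21735, .bwd 20547],
   .loop none [.edge 4, .bwd 21737, .fwd 16480],
   .loop none [.edge 6, .bwd 21737, .bwd 12494],
   .loop none [.edge 7, .bwd 21737, .fwd 19183],
   .loop none [.edge 4, .bwd 21738, .bwd 20956],
   .loop none [.edge 5, .bwd 21738, .bwd 11795],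
   .loop none [.edge 7, .bwd 21738, .bwd 11797],
   .loop none [.edge 3, .bwd 21739, .bwd 16814],
   .loop none [.edge 6, .bwd 21739, .bwd 21388],
   .loop none [.edge 5, .bwd 21739, .bwd 21278],
   .loop none [.edge 8, .bwd 21739, .fwd 16530],
   .loop none [.edge 7, .bwd 21739, .bwd 16764],
   .loop none [.edge 6, .bwd 21742, .fwd 21016],
   .loop none [.edge 8, .bwd 21742, .fwd 7561],
   .loop none [.edge 7, .bwd 21742, .bwd 7226],
   .loop none [.edge 2, .bwd 21745, .bwd 20062],
   .loop none [.edge 6, .bwd 21745, .bwd 21241],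
   .loop none [.edge 5, .bwd 21745, .bwd 21409],
   .loop none [.edge 8, .bwd 21745, .fwd 7754],
   .loop none [.edge 7, .bwd 21745, .bwd 16780],
   .loop none [.edge 4, .bwd 21746, .fwd 17228],
   .loop none [.edge 5, .bwd 21748, .fwd 21266],
   .loop none [.edge 5, .bwd 21749, .bwd 20422],
   .loop none [.edge 2, .bwd 21750, .fwd 5187],
   .loop none [.edge 5, .bwd 21750, .bwd 21261],
   .loop none [.edge 8, .bwd 21750, .fwd 7839],
   .loop none [.edge 7, .bwd 21750, .bwd 7654],
   .loop none [.edge 4, .bwd 21752, .bwd 20487],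
   .loop none [.edge 7, .bwd 21752, .bwd 20603],
   .loop none [.edge 5, .bwd 21753, .bwd 21282],
   .loop none [.edge 6, .bwd 21761, .bwd 18571],
   .loop none [.edge 5, .bwd 21761, .fwd 16651],
   .loop none [.edge 6, .bwd 21762, .bwd 18421],
   .loop none [.edge 5, .bwd 21762, .bwd 531],
   .loop none [.edge 4, .bwd 21763, .fwd 6219],
   .loop none [.edge 6, .bwd 21763, .bwd 516],
   .loop none [.edge 7, .bwd 21763, .fwd 6165],
   .loop none [.edge 4, .bwd 21764, .fwd 540],
   .loop none [.edge 5, .bwd 21764, .bwd 522],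
   .loop none [.edge 7, .bwd 21764, .bwd 6154],
   .loop none [.edge 6, .bwd 21765, .fwd 18299],
   .loop none [.edge 7, .bwd 21765, .bwd 7411],
   .loop none [.edge 5, .bwd 21766, .bwd 18206],
   .loop none [.edge 7, .bwd 21766, .bwd 8307],
   .loop none [.edge 6, .bwd 21767, .fwd 20978],
   .loop none [.edge 5, .bwd 21767, .fwd 20979],
   .loop none [.edge 8, .bwd 21767, .fwd 20980],
   .loop none [.edge 7, .bwd 21767, .fwd 20981],
   .loop none [.edge 6, .bwd 21770, .bwd 19009],
   .loop none [.edge 5, .bwd 21770, .fwd 420],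
   .loop none [.edge 8, .bwd 21770, .fwd 18717],
   .loop none [.edge 7, .bwd 21770, .fwd 18718],
   .loop none [.edge 6, .bwd 21773, .fwd 21154],
   .loop none [.edge 5, .bwd 21773, .fwd 21229],
   .loop none [.edge 4, .bwd 21774, .fwd 16832],
   .loop none [.edge 6, .bwd 21774, .fwd 21444],
   .loop none [.edge 8, .bwd 21774, .bwd 17071],
   .loop none [.edge 7, .bwd 21774, .bwd 16983],
   .loop none [.edge 5, .bwd 21775, .fwd 21168],
   .loop none [.edge 8, .bwd 21775, .fwd 13717],
   .loop none [.edge 5, .bwd 21776, .bwd 16734],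
   .loop none [.edge 5, .bwd 21777, .bwd 18681],
   .loop none [.edge 6, .bwd 21778, .bwd 8124],
   .loop none [.edge 7, .bwd 21778, .fwd 20156],
   .loop none [.edge 4, .bwd 21779, .fwd 5434],
   .loop none [.edge 8, .bwd 21779, .fwd 20729],
   .loop none [.edge 7, .bwd 21779, .bwd 5431],
   .loop none [.edge 6, .bwd 21780, .bwd 8071],
   .loop none [.edge 6, .bwd 21781, .bwd 18616],
   .loop none [.edge 5, .bwd 21781, .bwd 4436],
   .loop none [.edge 4, .bwd 21782, .bwd 18892],
   .loop none [.edge 6, .bwd 21782, .bwd 4561],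
   .loop none [.edge 7, .bwd 21782, .fwd 18607],
   .loop none [.edge 4, .bwd 21783, .bwd 19194],
   .loop none [.edge 5, .bwd 21783, .bwd 18603],
   .loop none [.edge 7, .bwd 21783, .fwd 18902],
   .loop none [.edge 6, .bwd 21784, .fwd 4703],
   .loop none [.edge 5, .bwd 21784, .bwd 18367],
   .loop none [.edge 6, .bwd 21785, .fwd 4793],
   .loop none [.edge 7, .bwd 21785, .fwd 18499],
   .loop none [.edge 5, .bwd 21786, .bwd 18319],
   .loop none [.edge 7, .bwd 21786, .fwd 18316],
   .loop none [.edge 6, .bwd 21787, .bwd 19878],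
   .loop none [.edge 5, .bwd 21787, .bwd 20270],
   .loop none [.edge 8, .bwd 21787, .fwd 7379],
   .loop none [.edge 7, .bwd 21787, .fwd 18770],
   .loop none [.edge 6, .bwd 21790, .bwd 20267],
   .loop none [.edge 5, .bwd 21790, .fwd 588],
   .loop none [.edge 8, .bwd 21790, .fwd 6348],
   .loop none [.edge 7, .bwd 21790, .bwd 6240],
   .loop none [.edge 4, .bwd 21797, .fwd 3066],
   .loop none [.edge 6, .bwd 21797, .fwd 19939],
   .loop none [.edge 8, .bwd 21797, .fwd 7873],
   .loop none [.edge 7, .bwd 21797, .bwd 7871],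
   .loop none [.edge 5, .bwd 21798, .bwd 20752],
   .loop none [.edge 8, .bwd 21798, .fwd 7869],
   .loop none [.edge 5, .bwd 21799, .bwd 18816],
   .loop none [.edge 5, .bwd 21800, .bwd 18518],
   .loop none [.edge 6, .bwd 21801, .fwd 20193]]

theorem just87_len : just87.length = 250 := by decide +kernel

theorem just87_ok : cert.okFacts 21750 just87 = true := by decide +kernel

/-- justifications -/
noncomputable def just88 : List Cert.Just :=
  [.loop none [.edge 7, .bwd 21801, .bwd 7824],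
   .loop none [.edge 4, .bwd 21802, .fwd 20025],
   .loop none [.edge 8, .bwd 21802, .bwd 10198],
   .loop none [.edge 7, .bwd 21802, .bwd 20226],
   .loop none [.edge 6, .bwd 21803, .fwd 10023],
   .loop none [.edge 5, .bwd 21803, .bwd 19929],
   .loop none [.edge 6, .bwd 21804, .bwd 8679],
   .loop none [.edge 5, .bwd 21821, .bwd 21327],
   .loop none [.edge 8, .bwd 21821, .fwd 8101],
   .loop none [.edge 3, .bwd 21824, .fwd 17548],
   .loop none [.edge 6, .bwd 21824, .bwd 20251],
   .loop none [.edge 5, .bwd 21824, .bwd 20481],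
   .loop none [.edge 8, .bwd 21824, .fwd 17566],
   .loop none [.edge 7, .bwd 21824, .bwd 21434],
   .loop none [.edge 4, .bwd 21828, .bwd 7877],
   .loop none [.edge 8, .bwd 21828, .fwd 7773],
   .loop none [.edge 7, .bwd 21828, .bwd 7817],
   .loop none [.edge 8, .bwd 21829, .bwd 20655],
   .loop none [.edge 5, .bwd 21830, .bwd 12312],
   .loop none [.edge 2, .bwd 21832, .bwd 3331],
   .loop none [.edge 6, .bwd 21832, .bwd 20320],
   .loop none [.edge 5, .bwd 21832, .bwd 20704],
   .loop none [.edge 8, .bwd 21832, .fwd 7726],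
   .loop none [.edge 7, .bwd 21832, .bwd 17194],
   .loop none [.edge 6, .bwd 21833, .bwd 17259],
   .loop none [.edge 7, .bwd 21833, .bwd 20759],
   .loop none [.edge 4, .bwd 21834, .bwd 20169],
   .loop none [.edge 8, .bwd 21834, .fwd 20163],
   .loop none [.edge 7, .bwd 21834, .bwd 20302],
   .loop none [.edge 6, .bwd 21835, .bwd 21310],
   .loop none [.edge 5, .bwd 21835, .bwd 21394],
   .loop none [.edge 6, .bwd 21836, .bwd 19428],
   .loop none [.edge 3, .bwd 21837, .bwd 20797],
   .loop none [.edge 6, .bwd 21837, .bwd 19377],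
   .loop none [.edge 8, .bwd 21837, .bwd 20773],
   .loop none [.edge 7, .bwd 21837, .fwd 19071],
   .loop none [.edge 3, .bwd 21841, .bwd 20590],
   .loop none [.edge 1, .bwd 21848, .bwd 4283],
   .loop none [.edge 3, .bwd 21848, .bwd 20733],
   .loop none [.edge 6, .bwd 21848, .fwd 20690],
   .loop none [.edge 5, .bwd 21848, .fwd 20691],
   .loop none [.edge 8, .bwd 21848, .bwd 20240],
   .loop none [.edge 7, .bwd 21848, .bwd 10034],
   .loop none [.edge 4, .bwd 21850, .fwd 17473],
   .loop none [.edge 5, .bwd 21850, .bwd 21197],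
   .loop none [.edge 7, .bwd 21850, .bwd 20865],
   .loop none [.edge 5, .bwd 21851, .fwd 21233],
   .loop none [.edge 5, .bwd 21852, .bwd 21351],
   .loop none [.edge 3, .bwd 21855, .bwd 21050],
   .loop none [.edge 6, .bwd 21861, .fwd 4620],
   .loop none [.edge 5, .bwd 21861, .bwd 16412],
   .loop none [.edge 4, .bwd 21862, .bwd 6029],
   .loop none [.edge 6, .bwd 21862, .bwd 539],
   .loop none [.edge 7, .bwd 21862, .bwd 6078],
   .loop none [.edge 4, .bwd 21863, .fwd 517],
   .loop none [.edge 5, .bwd 21863, .bwd 545],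
   .loop none [.edge 7, .bwd 21863, .bwd 6087],
   .loop none [.edge 5, .bwd 21864, .fwd 9094],
   .loop none [.edge 8, .bwd 21864, .fwd 6060],
   .loop none [.edge 7, .bwd 21864, .bwd 6048],
   .loop none [.edge 3, .bwd 21867, .fwd 8251],
   .loop none [.edge 6, .bwd 21867, .bwd 19307],
   .loop none [.edge 5, .bwd 21867, .fwd 480],
   .loop none [.edge 8, .bwd 21867, .fwd 19296],
   .loop none [.edge 7, .bwd 21867, .fwd 19297],
   .loop none [.edge 5, .bwd 21870, .bwd 21279],
   .loop none [.edge 4, .bwd 21871, .bwd 8248],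
   .loop none [.edge 5, .bwd 21873, .fwd 13045],
   .loop none [.edge 5, .bwd 21874, .bwd 21026],
   .loop none [.edge 4, .bwd 21876, .bwd 16415],
   .loop none [.edge 7, .bwd 21876, .bwd 9695],
   .loop none [.edge 4, .bwd 21878, .fwd 17828],
   .loop none [.edge 6, .bwd 21878, .bwd 4603],
   .loop none [.edge 7, .bwd 21878, .fwd 8358],
   .loop none [.edge 4, .bwd 21879, .fwd 4562],
   .loop none [.edge 5, .bwd 21879, .bwd 4609],
   .loop none [.edge 7, .bwd 21879, .fwd 6276],
   .loop none [.edge 3, .bwd 21880, .bwd 19551],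
   .loop none [.edge 6, .bwd 21880, .bwd 19373],
   .loop none [.edge 5, .bwd 21880, .bwd 20424],
   .loop none [.edge 8, .bwd 21880, .fwd 7360],
   .loop none [.edge 7, .bwd 21880, .fwd 19510],
   .loop none [.edge 3, .bwd 21883, .bwd 20937],
   .loop none [.edge 6, .bwd 21883, .bwd 20094],
   .loop none [.edge 8, .bwd 21883, .fwd 6273],
   .loop none [.edge 7, .bwd 21883, .bwd 5937],
   .loop none [.edge 6, .bwd 21886, .fwd 18993],
   .loop none [.edge 8, .bwd 21886, .bwd 17493],
   .loop none [.edge 7, .bwd 21886, .bwd 8126],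
   .loop none [.edge 5, .bwd 21889, .bwd 19724],
   .loop none [.edge 5, .bwd 21890, .bwd 5505],
   .loop none [.edge 8, .bwd 21891, .fwd 8300],
   .loop none [.edge 4, .bwd 21893, .bwd 20670],
   .loop none [.edge 7, .bwd 21893, .bwd 16714],
   .loop none [.edge 5, .bwd 21902, .fwd 21210],
   .loop none [.edge 8, .bwd 21902, .fwd 19461],
   .loop none [.edge 2, .bwd 21908, .fwd 2967],
   .loop none [.edge 6, .bwd 21908, .fwd 21402],
   .loop none [.edge 8, .bwd 21908, .fwd 7797],
   .loop none [.edge 5, .bwd 21911, .bwd 21270],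
   .loop none [.edge 1, .bwd 21916, .bwd 20241],
   .loop none [.edge 6, .bwd 21916, .fwd 21231],
   .loop none [.edge 5, .bwd 21916, .bwd 21411],
   .loop none [.edge 8, .bwd 21916, .bwd 20054],
   .loop none [.edge 4, .bwd 21917, .bwd 12744],
   .loop none [.edge 6, .bwd 21919, .fwd 21335],
   .loop none [.edge 7, .bwd 21924, .bwd 17033],
   .loop none [.edge 4, .bwd 21931, .fwd 3640],
   .loop none [.edge 6, .bwd 21931, .fwd 18570],
   .loop none [.edge 7, .bwd 21931, .bwd 8056],
   .loop none [.edge 4, .bwd 21932, .bwd 19175],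
   .loop none [.edge 5, .bwd 21932, .bwd 16667],
   .loop none [.edge 7, .bwd 21932, .bwd 16645],
   .loop none [.edge 6, .bwd 21933, .fwd 18420],
   .loop none [.edge 7, .bwd 21933, .bwd 7598],
   .loop none [.edge 5, .bwd 21934, .bwd 4427],
   .loop none [.edge 7, .bwd 21934, .bwd 8315],
   .loop none [.edge 6, .bwd 21935, .bwd 19518],
   .loop none [.edge 5, .bwd 21935, .bwd 19789],
   .loop none [.edge 8, .bwd 21935, .fwd 8142],
   .loop none [.edge 7, .bwd 21935, .bwd 8140],
   .loop none [.edge 6, .bwd 21938, .bwd 19775],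
   .loop none [.edge 5, .bwd 21938, .fwd 541],
   .loop none [.edge 8, .bwd 21938, .fwd 18963],
   .loop none [.edge 7, .bwd 21938, .fwd 18964],
   .loop none [.edge 4, .bwd 21945, .fwd 19742],
   .loop none [.edge 6, .bwd 21945, .bwd 20334],
   .loop none [.edge 8, .bwd 21945, .fwd 8115],
   .loop none [.edge 7, .bwd 21945, .bwd 8066],
   .loop none [.edge 5, .bwd 21946, .bwd 20179],
   .loop none [.edge 8, .bwd 21946, .fwd 20144],
   .loop none [.edge 5, .bwd 21947, .bwd 8471],
   .loop none [.edge 5, .bwd 21948, .bwd 18446],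
   .loop none [.edge 7, .bwd 21949, .bwd 8757],
   .loop none [.edge 4, .bwd 21950, .bwd 16632],
   .loop none [.edge 7, .bwd 21950, .bwd 16638],
   .loop none [.edge 6, .bwd 21951, .fwd 18463],
   .loop none [.edge 5, .bwd 21951, .bwd 19729],
   .loop none [.edge 6, .bwd 21969, .fwd 18615],
   .loop none [.edge 7, .bwd 21969, .bwd 7951],
   .loop none [.edge 5, .bwd 21970, .bwd 4462],
   .loop none [.edge 7, .bwd 21970, .fwd 18391],
   .loop none [.edge 5, .bwd 21971, .bwd 21328],
   .loop none [.edge 8, .bwd 21971, .fwd 8099],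
   .loop none [.edge 6, .bwd 21974, .bwd 20725],
   .loop none [.edge 5, .bwd 21974, .bwd 20584],
   .loop none [.edge 8, .bwd 21974, .fwd 8258],
   .loop none [.edge 7, .bwd 21974, .bwd 7961],
   .loop none [.edge 6, .bwd 21977, .bwd 4705],
   .loop none [.edge 7, .bwd 21977, .fwd 18577],
   .loop none [.edge 5, .bwd 21978, .bwd 18140],
   .loop none [.edge 7, .bwd 21978, .bwd 8052],
   .loop none [.edge 4, .bwd 21983, .fwd 7872],
   .loop none [.edge 8, .bwd 21983, .fwd 7775],
   .loop none [.edge 7, .bwd 21983, .bwd 7819],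
   .loop none [.edge 8, .bwd 21984, .fwd 7778],
   .loop none [.edge 5, .bwd 21985, .bwd 10017],
   .loop none [.edge 6, .bwd 21987, .fwd 20266],
   .loop none [.edge 7, .bwd 21987, .bwd 7822],
   .loop none [.edge 4, .bwd 21988, .bwd 19991],
   .loop none [.edge 8, .bwd 21988, .bwd 20994],
   .loop none [.edge 7, .bwd 21988, .bwd 20143],
   .loop none [.edge 6, .bwd 21989, .bwd 20174],
   .loop none [.edge 5, .bwd 21989, .bwd 19879],
   .loop none [.edge 6, .bwd 21990, .bwd 19144],
   .loop none [.edge 3, .bwd 21991, .fwd 21054],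
   .loop none [.edge 3, .bwd 22001, .bwd 4184],
   .loop none [.edge 2, .bwd 22009, .fwd 3646],
   .loop none [.edge 6, .bwd 22010, .fwd 20250],
   .loop none [.edge 7, .bwd 22010, .bwd 7883],
   .loop none [.edge 1, .bwd 22019, .bwd 3330],
   .loop none [.edge 3, .bwd 22019, .bwd 17388],
   .loop none [.edge 6, .bwd 22019, .bwd 20414],
   .loop none [.edge 5, .bwd 22019, .bwd 20568],
   .loop none [.edge 8, .bwd 22019, .fwd 7724],
   .loop none [.edge 7, .bwd 22019, .bwd 17353],
   .loop none [.edge 7, .bwd 22021, .bwd 20808],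
   .loop none [.edge 2, .bwd 22036, .fwd 20589],
   .loop none [.edge 0, .bwd 22037, .fwd 20556],
   .loop none [.edge 3, .bwd 22037, .bwd 20694],
   .loop none [.edge 6, .bwd 22037, .fwd 20561],
   .loop none [.edge 5, .bwd 22037, .fwd 20562],
   .loop none [.edge 8, .bwd 22037, .bwd 10296],
   .loop none [.edge 7, .bwd 22037, .bwd 12484],
   .loop none [.edge 4, .bwd 22040, .fwd 19693],
   .loop none [.edge 5, .bwd 22040, .fwd 21195],
   .loop none [.edge 7, .bwd 22040, .fwd 19695],
   .loop none [.edge 5, .bwd 22041, .bwd 21013],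
   .loop none [.edge 5, .bwd 22042, .fwd 20779],
   .loop none [.edge 2, .bwd 22048, .bwd 5456],
   .loop none [.edge 4, .bwd 22049, .bwd 12848],
   .loop none [.edge 6, .bwd 22049, .bwd 4622],
   .loop none [.edge 7, .bwd 22049, .fwd 8369],
   .loop none [.edge 4, .bwd 22050, .bwd 19457],
   .loop none [.edge 5, .bwd 22050, .fwd 16413],
   .loop none [.edge 7, .bwd 22050, .bwd 16473],
   .loop none [.edge 5, .bwd 22051, .bwd 19973],
   .loop none [.edge 8, .bwd 22051, .fwd 6221],
   .loop none [.edge 7, .bwd 22051, .bwd 6220],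
   .loop none [.edge 3, .bwd 22054, .bwd 8286],
   .loop none [.edge 6, .bwd 22054, .bwd 19532],
   .loop none [.edge 5, .bwd 22054, .fwd 518],
   .loop none [.edge 8, .bwd 22054, .fwd 19249],
   .loop none [.edge 7, .bwd 22054, .fwd 19250],
   .loop none [.edge 8, .bwd 22060, .bwd 17621],
   .loop none [.edge 4, .bwd 22062, .bwd 16463],
   .loop none [.edge 7, .bwd 22062, .bwd 20004],
   .loop none [.edge 3, .bwd 22071, .bwd 19690],
   .loop none [.edge 5, .bwd 22071, .bwd 21192],
   .loop none [.edge 8, .bwd 22071, .bwd 19443],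
   .loop none [.edge 6, .bwd 22077, .fwd 19251],
   .loop none [.edge 8, .bwd 22077, .fwd 19552],
   .loop none [.edge 7, .bwd 22077, .bwd 10194],
   .loop none [.edge 5, .bwd 22080, .bwd 19881],
   .loop none [.edge 1, .bwd 22096, .fwd 7760],
   .loop none [.edge 3, .bwd 22096, .fwd 2968],
   .loop none [.edge 6, .bwd 22096, .fwd 21398],
   .loop none [.edge 8, .bwd 22096, .fwd 7800],
   .loop none [.edge 0, .bwd 22100, .fwd 21077],
   .loop none [.edge 6, .bwd 22100, .fwd 21242],
   .loop none [.edge 5, .bwd 22100, .bwd 21078],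
   .loop none [.edge 8, .bwd 22100, .bwd 20236],
   .loop none [.edge 4, .bwd 22101, .fwd 12742],
   .loop none [.edge 6, .bwd 22103, .fwd 21204],
   .loop none [.edge 5, .bwd 22107, .bwd 21193],
   .loop none [.edge 8, .bwd 22107, .fwd 8097],
   .loop none [.edge 6, .bwd 22110, .bwd 20716],
   .loop none [.edge 5, .bwd 22110, .bwd 20708],
   .loop none [.edge 8, .bwd 22110, .fwd 8260],
   .loop none [.edge 7, .bwd 22110, .bwd 7962],
   .loop none [.edge 4, .bwd 22117, .bwd 3648],
   .loop none [.edge 8, .bwd 22117, .fwd 8113],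
   .loop none [.edge 7, .bwd 22117, .bwd 8065],
   .loop none [.edge 5, .bwd 22118, .fwd 19790],
   .loop none [.edge 8, .bwd 22118, .bwd 17597],
   .loop none [.edge 5, .bwd 22119, .bwd 18953],
   .loop none [.edge 7, .bwd 22121, .fwd 19559],
   .loop none [.edge 4, .bwd 22122, .fwd 9228],
   .loop none [.edge 7, .bwd 22122, .bwd 19582],
   .loop none [.edge 6, .bwd 22123, .bwd 20873],
   .loop none [.edge 5, .bwd 22123, .bwd 19519],
   .loop none [.edge 6, .bwd 22144, .fwd 20724],
   .loop none [.edge 7, .bwd 22144, .bwd 7890],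
   .loop none [.edge 3, .bwd 22152, .fwd 19873],
   .loop none [.edge 3, .bwd 22159, .fwd 4072],
   .loop none [.edge 6, .bwd 22170, .fwd 20404],
   .loop none [.edge 8, .bwd 22170, .fwd 7723],
   .loop none [.edge 7, .bwd 22170, .bwd 7898],
   .loop none [.edge 5, .bwd 22171, .bwd 20578],
   .loop none [.edge 8, .bwd 22171, .fwd 10561]]

theorem just88_len : just88.length = 250 := by decide +kernel

theorem just88_ok : cert.okFacts 22000 just88 = true := by decide +kernel

/-- justifications -/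
noncomputable def just89 : List Cert.Just :=
  [.loop none [.edge 7, .bwd 22171, .bwd 10562],
   .loop none [.edge 7, .bwd 22173, .bwd 20849],
   .loop none [.edge 1, .bwd 22177, .bwd 3121],
   .loop none [.edge 7, .bwd 22178, .bwd 21102],
   .loop none [.edge 5, .bwd 22181, .bwd 20713],
   .loop none [.edge 7, .bwd 22181, .bwd 7964],
   .loop none [.edge 5, .bwd 22182, .bwd 21208],
   .loop none [.edge 5, .bwd 22183, .fwd 20700],
   .loop none [.edge 1, .bwd 22189, .fwd 20828],
   .loop none [.edge 8, .bwd 22190, .fwd 16838],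
   .loop none [.edge 8, .bwd 22199, .bwd 17714],
   .loop none [.edge 7, .bwd 22201, .bwd 19805],
   .loop none [.edge 8, .bwd 22207, .fwd 8266],
   .loop none [.edge 8, .bwd 22214, .fwd 7721],
   .loop none [.edge 8, .bwd 22215, .fwd 7803],
   .loop none [.edge 6, .bwd 22221, .bwd 21198],
   .loop none [.bwd 21448, .fwd 3, .fwd 21448],
   .loop none [.bwd 21448, .fwd 1, .fwd 21448],
   .loop none [.bwd 21448, .bwd 2, .fwd 21448],
   .loop none [.bwd 21448, .bwd 6, .fwd 21448],
   .loop none [.bwd 21449, .fwd 5, .fwd 21449],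
   .loop none [.bwd 21449, .fwd 53, .fwd 21449],
   .loop none [.bwd 21449, .fwd 43, .fwd 21449],
   .loop none [.bwd 21449, .bwd 44, .fwd 21449],
   .loop none [.bwd 21449, .bwd 42, .fwd 21449],
   .loop none [.bwd 21451, .bwd 85, .fwd 21450],
   .loop none [.bwd 21450, .fwd 8, .fwd 21450],
   .loop none [.bwd 21450, .fwd 35, .fwd 21450],
   .loop none [.bwd 21450, .bwd 45, .fwd 21450],
   .loop none [.bwd 21450, .bwd 46, .fwd 21450],
   .loop none [.bwd 21451, .fwd 55, .fwd 21451],
   .loop none [.bwd 21451, .bwd 56, .fwd 21451],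
   .loop none [.bwd 21451, .bwd 57, .fwd 21451],
   .loop none [.bwd 21454, .bwd 100, .fwd 21452],
   .loop none [.bwd 21452, .fwd 86, .fwd 21452],
   .loop none [.bwd 21452, .bwd 88, .fwd 21452],
   .loop none [.bwd 21452, .bwd 90, .fwd 21452],
   .loop none [.bwd 21453, .fwd 87, .fwd 21453],
   .loop none [.bwd 21453, .fwd 59, .fwd 21453],
   .loop none [.bwd 21453, .fwd 961, .fwd 21453],
   .loop none [.bwd 21453, .bwd 964, .fwd 21453],
   .loop none [.bwd 21453, .bwd 976, .fwd 21453],
   .loop none [.bwd 21457, .fwd 968, .fwd 21454],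
   .loop none [.bwd 21454, .bwd 105, .fwd 21454],
   .loop none [.bwd 21454, .bwd 101, .fwd 21454],
   .loop none [.bwd 21458, .fwd 829, .fwd 21455],
   .loop none [.bwd 21458, .fwd 41, .fwd 21455],
   .loop none [.bwd 21455, .bwd 106, .fwd 21455],
   .loop none [.bwd 21455, .bwd 107, .fwd 21455],
   .loop none [.bwd 21459, .fwd 102, .fwd 21456],
   .loop none [.bwd 21456, .fwd 93, .fwd 21456],
   .loop none [.bwd 21461, .bwd 94, .fwd 21456],
   .loop none [.bwd 21456, .fwd 89, .fwd 21456],
   .loop none [.bwd 21456, .bwd 135, .fwd 21456],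
   .loop none [.bwd 21457, .fwd 967, .fwd 21457],
   .loop none [.bwd 21457, .bwd 1019, .fwd 21457],
   .loop none [.bwd 21457, .bwd 1020, .fwd 21457],
   .loop none [.bwd 21458, .bwd 940, .fwd 21458],
   .loop none [.bwd 21458, .bwd 939, .fwd 21458],
   .loop none [.bwd 21465, .bwd 61, .fwd 21459],
   .loop none [.bwd 21467, .fwd 16154, .fwd 21459],
   .loop none [.bwd 21459, .fwd 937, .fwd 21459],
   .loop none [.bwd 21459, .bwd 147, .fwd 21459],
   .loop none [.bwd 21460, .fwd 108, .fwd 21460],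
   .loop none [.bwd 21466, .bwd 15909, .fwd 21460],
   .loop none [.bwd 21460, .bwd 790, .fwd 21460],
   .loop none [.bwd 21460, .bwd 769, .fwd 21460],
   .loop none [.bwd 21467, .bwd 15897, .fwd 21461],
   .loop none [.bwd 21471, .fwd 163, .fwd 21461],
   .loop none [.bwd 21461, .bwd 156, .fwd 21461],
   .loop none [.bwd 21468, .bwd 1937, .fwd 21462],
   .loop none [.bwd 21462, .fwd 1886, .fwd 21462],
   .loop none [.bwd 21473, .bwd 1961, .fwd 21462],
   .loop none [.bwd 21463, .bwd 151, .fwd 21462],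
   .loop none [.bwd 21476, .bwd 136, .fwd 21462],
   .loop none [.bwd 21469, .bwd 149, .fwd 21463],
   .loop none [.bwd 21463, .fwd 140, .fwd 21463],
   .loop none [.bwd 21474, .bwd 152, .fwd 21463],
   .loop none [.bwd 21476, .bwd 97, .fwd 21463],
   .loop none [.bwd 21478, .fwd 1993, .fwd 21463],
   .loop none [.bwd 21475, .fwd 1955, .fwd 21463],
   .loop none [.bwd 21464, .fwd 1170, .fwd 21464],
   .loop none [.bwd 21464, .fwd 15431, .fwd 21464],
   .loop none [.bwd 21464, .bwd 1209, .fwd 21464],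
   .loop none [.bwd 21465, .fwd 148, .fwd 21465],
   .loop none [.bwd 21481, .bwd 62, .fwd 21465],
   .loop none [.bwd 21465, .fwd 1058, .fwd 21465],
   .loop none [.bwd 21465, .bwd 1070, .fwd 21465],
   .loop none [.bwd 21479, .fwd 66, .fwd 21466],
   .loop none [.bwd 21466, .fwd 15075, .fwd 21466],
   .loop none [.bwd 21466, .bwd 1267, .fwd 21466],
   .loop none [.bwd 21485, .bwd 77, .fwd 21467],
   .loop none [.bwd 21467, .bwd 1645, .fwd 21467],
   .loop none [.bwd 21482, .fwd 2770, .fwd 21468],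
   .loop none [.bwd 21487, .fwd 2942, .fwd 21468],
   .loop none [.bwd 21469, .bwd 1066, .fwd 21468],
   .loop none [.bwd 21490, .bwd 1060, .fwd 21468],
   .loop none [.bwd 21483, .bwd 1064, .fwd 21469],
   .loop none [.bwd 21488, .bwd 1067, .fwd 21469],
   .loop none [.bwd 21490, .bwd 1016, .fwd 21469],
   .loop none [.bwd 21492, .bwd 2466, .fwd 21469],
   .loop none [.bwd 21489, .fwd 2515, .fwd 21469],
   .loop none [.bwd 21484, .bwd 202, .fwd 21470],
   .loop none [.bwd 21470, .fwd 3438, .fwd 21470],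
   .loop none [.bwd 21484, .bwd 3439, .fwd 21470],
   .loop none [.bwd 21470, .fwd 14966, .fwd 21470],
   .loop none [.bwd 21470, .bwd 3397, .fwd 21470],
   .loop none [.bwd 21493, .fwd 180, .fwd 21471],
   .loop none [.bwd 21471, .fwd 164, .fwd 21471],
   .loop none [.bwd 21471, .bwd 187, .fwd 21471],
   .loop none [.bwd 21486, .fwd 908, .fwd 21472],
   .loop none [.bwd 21494, .fwd 176, .fwd 21472],
   .loop none [.bwd 21486, .bwd 14, .fwd 21472],
   .loop none [.bwd 21472, .bwd 214, .fwd 21472],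
   .loop none [.bwd 21487, .fwd 2940, .fwd 21473],
   .loop none [.bwd 21495, .fwd 2918, .fwd 21473],
   .loop none [.bwd 21499, .bwd 183, .fwd 21473],
   .loop none [.bwd 21501, .bwd 166, .fwd 21473],
   .loop none [.bwd 21488, .bwd 181, .fwd 21474],
   .loop none [.bwd 21496, .bwd 171, .fwd 21474],
   .loop none [.bwd 21498, .fwd 245, .fwd 21474],
   .loop none [.bwd 21501, .bwd 826, .fwd 21474],
   .loop none [.bwd 21503, .bwd 2473, .fwd 21474],
   .loop none [.bwd 21500, .fwd 2521, .fwd 21474],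
   .loop none [.bwd 21489, .fwd 2513, .fwd 21475],
   .loop none [.bwd 21475, .fwd 1950, .fwd 21475],
   .loop none [.bwd 21500, .fwd 2519, .fwd 21475],
   .loop none [.bwd 21477, .bwd 1952, .fwd 21475],
   .loop none [.bwd 21477, .bwd 155, .fwd 21475],
   .loop none [.bwd 21476, .fwd 154, .fwd 21475],
   .loop none [.bwd 21478, .fwd 1992, .fwd 21475],
   .loop none [.bwd 21490, .fwd 1885, .fwd 21476],
   .loop none [.bwd 21476, .fwd 1866, .fwd 21476],
   .loop none [.bwd 21501, .fwd 1870, .fwd 21476],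
   .loop none [.bwd 21478, .fwd 1948, .fwd 21476],
   .loop none [.bwd 21477, .bwd 1929, .fwd 21476],
   .loop none [.bwd 21491, .fwd 2469, .fwd 21477],
   .loop none [.bwd 21477, .fwd 2002, .fwd 21477],
   .loop none [.bwd 21502, .fwd 2457, .fwd 21477],
   .loop none [.bwd 21478, .fwd 138, .fwd 21477],
   .loop none [.bwd 21478, .bwd 139, .fwd 21477],
   .loop none [.bwd 21492, .bwd 1887, .fwd 21478],
   .loop none [.bwd 21478, .fwd 1875, .fwd 21478],
   .loop none [.bwd 21503, .bwd 1888, .fwd 21478],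
   .loop none [.bwd 21479, .fwd 15225, .fwd 21479],
   .loop none [.bwd 21479, .bwd 1235, .fwd 21479],
   .loop none [.bwd 21480, .fwd 3576, .fwd 21480],
   .loop none [.bwd 21505, .bwd 15435, .fwd 21480],
   .loop none [.bwd 21480, .fwd 2687, .fwd 21480],
   .loop none [.bwd 21480, .fwd 15436, .fwd 21480],
   .loop none [.bwd 21480, .bwd 15428, .fwd 21480],
   .loop none [.bwd 21480, .bwd 2673, .fwd 21480],
   .loop none [.bwd 21481, .fwd 1138, .fwd 21481],
   .loop none [.bwd 21506, .bwd 15449, .fwd 21481],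
   .loop none [.bwd 21481, .fwd 15450, .fwd 21481],
   .loop none [.bwd 21481, .bwd 1106, .fwd 21481],
   .loop none [.bwd 21482, .fwd 2769, .fwd 21482],
   .loop none [.bwd 21507, .fwd 6653, .fwd 21482],
   .loop none [.bwd 21483, .bwd 1101, .fwd 21482],
   .loop none [.bwd 21510, .bwd 1079, .fwd 21482],
   .loop none [.bwd 21483, .fwd 1100, .fwd 21483],
   .loop none [.bwd 21508, .bwd 1102, .fwd 21483],
   .loop none [.bwd 21510, .bwd 1865, .fwd 21483],
   .loop none [.bwd 21512, .bwd 6626, .fwd 21483],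
   .loop none [.bwd 21509, .fwd 6634, .fwd 21483],
   .loop none [.bwd 21504, .bwd 203, .fwd 21484],
   .loop none [.bwd 21484, .fwd 14983, .fwd 21484],
   .loop none [.bwd 21484, .bwd 3406, .fwd 21484],
   .loop none [.bwd 21513, .bwd 15357, .fwd 21485],
   .loop none [.bwd 21506, .bwd 78, .fwd 21485],
   .loop none [.bwd 21485, .bwd 1344, .fwd 21485],
   .loop none [.bwd 21514, .bwd 15, .fwd 21486],
   .loop none [.bwd 21486, .bwd 282, .fwd 21486],
   .loop none [.bwd 21515, .bwd 15903, .fwd 21487],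
   .loop none [.bwd 21519, .bwd 2036, .fwd 21487],
   .loop none [.bwd 21521, .bwd 2031, .fwd 21487],
   .loop none [.bwd 21516, .bwd 2035, .fwd 21488],
   .loop none [.bwd 21518, .bwd 849, .fwd 21488],
   .loop none [.bwd 21521, .bwd 1028, .fwd 21488],
   .loop none [.bwd 21523, .fwd 15978, .fwd 21488],
   .loop none [.bwd 21520, .bwd 15906, .fwd 21488],
   .loop none [.bwd 21509, .fwd 6630, .fwd 21489],
   .loop none [.bwd 21520, .bwd 15964, .fwd 21489],
   .loop none [.bwd 21491, .bwd 2812, .fwd 21489],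
   .loop none [.bwd 21491, .bwd 1069, .fwd 21489],
   .loop none [.bwd 21490, .fwd 1068, .fwd 21489],
   .loop none [.bwd 21492, .fwd 2766, .fwd 21489],
   .loop none [.bwd 21510, .fwd 2760, .fwd 21490],
   .loop none [.bwd 21521, .fwd 2761, .fwd 21490],
   .loop none [.bwd 21492, .bwd 2824, .fwd 21490],
   .loop none [.bwd 21491, .bwd 2508, .fwd 21490],
   .loop none [.bwd 21511, .fwd 6624, .fwd 21491],
   .loop none [.bwd 21522, .bwd 15963, .fwd 21491],
   .loop none [.bwd 21492, .fwd 1062, .fwd 21491],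
   .loop none [.bwd 21492, .bwd 1063, .fwd 21491],
   .loop none [.bwd 21512, .fwd 2765, .fwd 21492],
   .loop none [.bwd 21523, .fwd 15975, .fwd 21492],
   .loop none [.bwd 21513, .fwd 179, .fwd 21493],
   .loop none [.bwd 21493, .fwd 3170, .fwd 21493],
   .loop none [.bwd 21493, .bwd 760, .fwd 21493],
   .loop none [.bwd 21524, .bwd 15907, .fwd 21494],
   .loop none [.bwd 21514, .fwd 220, .fwd 21494],
   .loop none [.bwd 21494, .bwd 250, .fwd 21494],
   .loop none [.bwd 21525, .fwd 2937, .fwd 21495],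
   .loop none [.bwd 21495, .fwd 2919, .fwd 21495],
   .loop none [.bwd 21529, .bwd 765, .fwd 21495],
   .loop none [.bwd 21531, .bwd 747, .fwd 21495],
   .loop none [.bwd 21526, .bwd 763, .fwd 21496],
   .loop none [.bwd 21496, .fwd 766, .fwd 21496],
   .loop none [.bwd 21528, .fwd 717, .fwd 21496],
   .loop none [.bwd 21531, .fwd 801, .fwd 21496],
   .loop none [.bwd 21533, .bwd 3052, .fwd 21496],
   .loop none [.bwd 21530, .fwd 3086, .fwd 21496],
   .loop none [.bwd 21517, .fwd 2559, .fwd 21497],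
   .loop none [.bwd 21517, .fwd 145, .fwd 21497],
   .loop none [.bwd 21517, .fwd 872, .fwd 21497],
   .loop none [.bwd 21497, .bwd 251, .fwd 21497],
   .loop none [.bwd 21518, .bwd 3628, .fwd 21498],
   .loop none [.bwd 21528, .fwd 2845, .fwd 21498],
   .loop none [.bwd 21535, .fwd 1880, .fwd 21498],
   .loop none [.bwd 21538, .bwd 222, .fwd 21498],
   .loop none [.bwd 21519, .fwd 926, .fwd 21499],
   .loop none [.bwd 21529, .bwd 232, .fwd 21499],
   .loop none [.bwd 21536, .bwd 246, .fwd 21499],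
   .loop none [.bwd 21541, .bwd 3028, .fwd 21499],
   .loop none [.bwd 21520, .fwd 15879, .fwd 21500],
   .loop none [.bwd 21530, .fwd 3082, .fwd 21500],
   .loop none [.bwd 21539, .fwd 2996, .fwd 21500],
   .loop none [.bwd 21502, .bwd 186, .fwd 21500],
   .loop none [.bwd 21501, .fwd 185, .fwd 21500],
   .loop none [.bwd 21503, .fwd 2843, .fwd 21500],
   .loop none [.bwd 21521, .fwd 2844, .fwd 21501],
   .loop none [.bwd 21531, .fwd 2828, .fwd 21501],
   .loop none [.bwd 21541, .fwd 2958, .fwd 21501],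
   .loop none [.bwd 21502, .bwd 2522, .fwd 21501],
   .loop none [.bwd 21522, .fwd 15921, .fwd 21502],
   .loop none [.bwd 21532, .fwd 3031, .fwd 21502],
   .loop none [.bwd 21542, .fwd 3108, .fwd 21502],
   .loop none [.bwd 21503, .fwd 169, .fwd 21502],
   .loop none [.bwd 21503, .bwd 170, .fwd 21502],
   .loop none [.bwd 21523, .fwd 15974, .fwd 21503],
   .loop none [.bwd 21533, .fwd 2837, .fwd 21503],
   .loop none [.bwd 21538, .fwd 3050, .fwd 21503],
   .loop none [.bwd 21504, .fwd 3432, .fwd 21504],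
   .loop none [.bwd 21504, .fwd 15101, .fwd 21504],
   .loop none [.bwd 21504, .bwd 3437, .fwd 21504],
   .loop none [.bwd 21543, .bwd 15432, .fwd 21505],
   .loop none [.bwd 21543, .bwd 15433, .fwd 21505],
   .loop none [.bwd 21505, .fwd 15434, .fwd 21505],
   .loop none [.bwd 21505, .bwd 1846, .fwd 21505]]

theorem just89_len : just89.length = 250 := by decide +kernel

theorem just89_ok : cert.okFacts 22250 just89 = true := by decide +kernel

/-- justifications -/
noncomputable def just90 : List Cert.Just :=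
  [.loop none [.bwd 21505, .bwd 1862, .fwd 21505],
   .loop none [.bwd 21544, .bwd 15347, .fwd 21506],
   .loop none [.bwd 21506, .fwd 15348, .fwd 21506],
   .loop none [.bwd 21506, .bwd 1179, .fwd 21506],
   .loop none [.bwd 21507, .fwd 6700, .fwd 21507],
   .loop none [.bwd 21545, .bwd 15739, .fwd 21507],
   .loop none [.bwd 21508, .fwd 15748, .fwd 21507],
   .loop none [.bwd 21548, .bwd 1127, .fwd 21507],
   .loop none [.bwd 21508, .fwd 1142, .fwd 21508],
   .loop none [.bwd 21546, .bwd 1136, .fwd 21508],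
   .loop none [.bwd 21548, .bwd 1863, .fwd 21508],
   .loop none [.bwd 21550, .bwd 6672, .fwd 21508],
   .loop none [.bwd 21547, .fwd 6680, .fwd 21508],
   .loop none [.bwd 21509, .fwd 6629, .fwd 21509],
   .loop none [.bwd 21547, .fwd 6677, .fwd 21509],
   .loop none [.bwd 21511, .fwd 6638, .fwd 21509],
   .loop none [.bwd 21511, .bwd 1105, .fwd 21509],
   .loop none [.bwd 21510, .fwd 1104, .fwd 21509],
   .loop none [.bwd 21512, .fwd 6642, .fwd 21509],
   .loop none [.bwd 21510, .fwd 2759, .fwd 21510],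
   .loop none [.bwd 21548, .fwd 6641, .fwd 21510],
   .loop none [.bwd 21512, .bwd 6604, .fwd 21510],
   .loop none [.bwd 21511, .bwd 6639, .fwd 21510],
   .loop none [.bwd 21511, .fwd 6623, .fwd 21511],
   .loop none [.bwd 21549, .fwd 6670, .fwd 21511],
   .loop none [.bwd 21512, .fwd 1097, .fwd 21511],
   .loop none [.bwd 21512, .bwd 1098, .fwd 21511],
   .loop none [.bwd 21512, .fwd 2764, .fwd 21512],
   .loop none [.bwd 21550, .bwd 6643, .fwd 21512],
   .loop none [.bwd 21544, .bwd 2682, .fwd 21513],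
   .loop none [.bwd 21513, .bwd 2049, .fwd 21513],
   .loop none [.bwd 21551, .fwd 928, .fwd 21514],
   .loop none [.bwd 21514, .bwd 311, .fwd 21514],
   .loop none [.bwd 21552, .bwd 15642, .fwd 21515],
   .loop none [.bwd 21545, .fwd 6829, .fwd 21515],
   .loop none [.bwd 21556, .bwd 15643, .fwd 21515],
   .loop none [.bwd 21558, .fwd 15496, .fwd 21515],
   .loop none [.bwd 21553, .bwd 15644, .fwd 21516],
   .loop none [.bwd 21546, .fwd 1774, .fwd 21516],
   .loop none [.bwd 21555, .fwd 337, .fwd 21516],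
   .loop none [.bwd 21558, .bwd 15645, .fwd 21516],
   .loop none [.bwd 21560, .fwd 15786, .fwd 21516],
   .loop none [.bwd 21557, .bwd 15647, .fwd 21516],
   .loop none [.bwd 21517, .bwd 858, .fwd 21517],
   .loop none [.bwd 21555, .fwd 3213, .fwd 21518],
   .loop none [.bwd 21562, .bwd 1995, .fwd 21518],
   .loop none [.bwd 21565, .bwd 284, .fwd 21518],
   .loop none [.bwd 21556, .bwd 292, .fwd 21519],
   .loop none [.bwd 21563, .bwd 307, .fwd 21519],
   .loop none [.bwd 21568, .fwd 4114, .fwd 21519],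
   .loop none [.bwd 21557, .bwd 7052, .fwd 21520],
   .loop none [.bwd 21566, .fwd 15969, .fwd 21520],
   .loop none [.bwd 21522, .bwd 1680, .fwd 21520],
   .loop none [.bwd 21521, .bwd 15881, .fwd 21520],
   .loop none [.bwd 21523, .bwd 15721, .fwd 21520],
   .loop none [.bwd 21558, .bwd 15863, .fwd 21521],
   .loop none [.bwd 21568, .fwd 4103, .fwd 21521],
   .loop none [.bwd 21522, .fwd 15923, .fwd 21521],
   .loop none [.bwd 21559, .fwd 7050, .fwd 21522],
   .loop none [.bwd 21569, .fwd 15989, .fwd 21522],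
   .loop none [.bwd 21523, .fwd 1652, .fwd 21522],
   .loop none [.bwd 21523, .fwd 15718, .fwd 21522],
   .loop none [.bwd 21560, .bwd 7048, .fwd 21523],
   .loop none [.bwd 21565, .bwd 15976, .fwd 21523],
   .loop none [.bwd 21551, .bwd 15840, .fwd 21524],
   .loop none [.bwd 21551, .bwd 15844, .fwd 21524],
   .loop none [.bwd 21524, .bwd 921, .fwd 21524],
   .loop none [.bwd 21552, .fwd 2936, .fwd 21525],
   .loop none [.bwd 21525, .fwd 6564, .fwd 21525],
   .loop none [.bwd 21572, .bwd 15681, .fwd 21525],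
   .loop none [.bwd 21574, .fwd 6581, .fwd 21525],
   .loop none [.bwd 21553, .bwd 15818, .fwd 21526],
   .loop none [.bwd 21526, .fwd 3199, .fwd 21526],
   .loop none [.bwd 21571, .bwd 3139, .fwd 21526],
   .loop none [.bwd 21574, .bwd 3147, .fwd 21526],
   .loop none [.bwd 21576, .bwd 6582, .fwd 21526],
   .loop none [.bwd 21573, .fwd 3145, .fwd 21526],
   .loop none [.bwd 21570, .fwd 16093, .fwd 21527],
   .loop none [.bwd 21554, .fwd 320, .fwd 21527],
   .loop none [.bwd 21527, .bwd 411, .fwd 21527],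
   .loop none [.bwd 21571, .fwd 6524, .fwd 21528],
   .loop none [.bwd 21579, .fwd 6289, .fwd 21528],
   .loop none [.bwd 21582, .bwd 702, .fwd 21528],
   .loop none [.bwd 21572, .bwd 15928, .fwd 21529],
   .loop none [.bwd 21580, .fwd 675, .fwd 21529],
   .loop none [.bwd 21585, .bwd 4119, .fwd 21529],
   .loop none [.bwd 21573, .bwd 3144, .fwd 21530],
   .loop none [.bwd 21530, .fwd 3083, .fwd 21530],
   .loop none [.bwd 21583, .fwd 3941, .fwd 21530],
   .loop none [.bwd 21532, .bwd 768, .fwd 21530],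
   .loop none [.bwd 21531, .fwd 767, .fwd 21530],
   .loop none [.bwd 21533, .fwd 3146, .fwd 21530],
   .loop none [.bwd 21574, .fwd 2992, .fwd 21531],
   .loop none [.bwd 21531, .fwd 2829, .fwd 21531],
   .loop none [.bwd 21585, .fwd 3264, .fwd 21531],
   .loop none [.bwd 21532, .bwd 3111, .fwd 21531],
   .loop none [.bwd 21575, .fwd 3096, .fwd 21532],
   .loop none [.bwd 21532, .fwd 3032, .fwd 21532],
   .loop none [.bwd 21586, .fwd 4045, .fwd 21532],
   .loop none [.bwd 21533, .fwd 753, .fwd 21532],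
   .loop none [.bwd 21533, .fwd 794, .fwd 21532],
   .loop none [.bwd 21576, .fwd 3045, .fwd 21533],
   .loop none [.bwd 21533, .fwd 2838, .fwd 21533],
   .loop none [.bwd 21582, .fwd 3679, .fwd 21533],
   .loop none [.bwd 21577, .fwd 252, .fwd 21534],
   .loop none [.bwd 21561, .fwd 2574, .fwd 21534],
   .loop none [.bwd 21561, .fwd 881, .fwd 21534],
   .loop none [.bwd 21534, .bwd 651, .fwd 21534],
   .loop none [.bwd 21562, .bwd 7177, .fwd 21535],
   .loop none [.bwd 21588, .bwd 19034, .fwd 21535],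
   .loop none [.bwd 21563, .bwd 2951, .fwd 21535],
   .loop none [.bwd 21591, .fwd 19039, .fwd 21535],
   .loop none [.bwd 21563, .fwd 2736, .fwd 21536],
   .loop none [.bwd 21589, .bwd 2753, .fwd 21536],
   .loop none [.bwd 21562, .fwd 1996, .fwd 21536],
   .loop none [.bwd 21594, .bwd 4120, .fwd 21536],
   .loop none [.bwd 21564, .fwd 20034, .fwd 21537],
   .loop none [.bwd 21581, .bwd 1896, .fwd 21537],
   .loop none [.bwd 21590, .fwd 19343, .fwd 21537],
   .loop none [.bwd 21565, .fwd 3684, .fwd 21538],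
   .loop none [.bwd 21582, .fwd 3677, .fwd 21538],
   .loop none [.bwd 21591, .fwd 19037, .fwd 21538],
   .loop none [.bwd 21599, .bwd 3051, .fwd 21538],
   .loop none [.bwd 21542, .bwd 248, .fwd 21538],
   .loop none [.bwd 21539, .bwd 3334, .fwd 21538],
   .loop none [.bwd 21566, .fwd 3977, .fwd 21539],
   .loop none [.bwd 21583, .fwd 3939, .fwd 21539],
   .loop none [.bwd 21592, .fwd 18720, .fwd 21539],
   .loop none [.bwd 21600, .fwd 229, .fwd 21539],
   .loop none [.bwd 21541, .bwd 230, .fwd 21539],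
   .loop none [.bwd 21542, .fwd 249, .fwd 21539],
   .loop none [.bwd 21567, .fwd 3268, .fwd 21540],
   .loop none [.bwd 21584, .fwd 3251, .fwd 21540],
   .loop none [.bwd 21593, .fwd 3255, .fwd 21540],
   .loop none [.bwd 21600, .fwd 3001, .fwd 21540],
   .loop none [.bwd 21596, .bwd 4149, .fwd 21540],
   .loop none [.bwd 21568, .bwd 3270, .fwd 21541],
   .loop none [.bwd 21585, .fwd 3262, .fwd 21541],
   .loop none [.bwd 21594, .bwd 2957, .fwd 21541],
   .loop none [.bwd 21596, .bwd 2959, .fwd 21541],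
   .loop none [.bwd 21542, .bwd 3138, .fwd 21541],
   .loop none [.bwd 21569, .fwd 3991, .fwd 21542],
   .loop none [.bwd 21586, .fwd 4043, .fwd 21542],
   .loop none [.bwd 21595, .bwd 3107, .fwd 21542],
   .loop none [.bwd 21603, .bwd 3109, .fwd 21542],
   .loop none [.bwd 21543, .fwd 3536, .fwd 21543],
   .loop none [.bwd 21543, .fwd 15295, .fwd 21543],
   .loop none [.bwd 21543, .bwd 15094, .fwd 21543],
   .loop none [.bwd 21543, .bwd 3562, .fwd 21543],
   .loop none [.bwd 21544, .fwd 1767, .fwd 21544],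
   .loop none [.bwd 21544, .fwd 15296, .fwd 21544],
   .loop none [.bwd 21544, .bwd 1768, .fwd 21544],
   .loop none [.bwd 21604, .bwd 6828, .fwd 21545],
   .loop none [.bwd 21546, .bwd 15471, .fwd 21545],
   .loop none [.bwd 21607, .fwd 15741, .fwd 21545],
   .loop none [.bwd 21605, .bwd 15611, .fwd 21546],
   .loop none [.bwd 21607, .fwd 15742, .fwd 21546],
   .loop none [.bwd 21609, .fwd 15745, .fwd 21546],
   .loop none [.bwd 21606, .fwd 15757, .fwd 21546],
   .loop none [.bwd 21547, .fwd 6683, .fwd 21547],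
   .loop none [.bwd 21606, .bwd 15991, .fwd 21547],
   .loop none [.bwd 21549, .fwd 15993, .fwd 21547],
   .loop none [.bwd 21549, .bwd 1146, .fwd 21547],
   .loop none [.bwd 21548, .fwd 1145, .fwd 21547],
   .loop none [.bwd 21550, .fwd 6684, .fwd 21547],
   .loop none [.bwd 21548, .fwd 6685, .fwd 21548],
   .loop none [.bwd 21607, .bwd 15752, .fwd 21548],
   .loop none [.bwd 21550, .fwd 15994, .fwd 21548],
   .loop none [.bwd 21549, .bwd 6681, .fwd 21548],
   .loop none [.bwd 21549, .fwd 6701, .fwd 21549],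
   .loop none [.bwd 21608, .bwd 15992, .fwd 21549],
   .loop none [.bwd 21550, .fwd 1133, .fwd 21549],
   .loop none [.bwd 21550, .fwd 1856, .fwd 21549],
   .loop none [.bwd 21550, .fwd 6687, .fwd 21550],
   .loop none [.bwd 21609, .bwd 15751, .fwd 21550],
   .loop none [.bwd 21551, .bwd 933, .fwd 21551],
   .loop none [.bwd 21604, .bwd 15390, .fwd 21552],
   .loop none [.bwd 21612, .bwd 6569, .fwd 21552],
   .loop none [.bwd 21614, .fwd 6602, .fwd 21552],
   .loop none [.bwd 21605, .fwd 5646, .fwd 21553],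
   .loop none [.bwd 21611, .fwd 15851, .fwd 21553],
   .loop none [.bwd 21614, .bwd 15579, .fwd 21553],
   .loop none [.bwd 21616, .fwd 15689, .fwd 21553],
   .loop none [.bwd 21613, .fwd 15600, .fwd 21553],
   .loop none [.bwd 21610, .fwd 15845, .fwd 21554],
   .loop none [.bwd 21610, .bwd 17, .fwd 21554],
   .loop none [.bwd 21554, .bwd 343, .fwd 21554],
   .loop none [.bwd 21611, .bwd 3631, .fwd 21555],
   .loop none [.bwd 21618, .fwd 5280, .fwd 21555],
   .loop none [.bwd 21621, .bwd 318, .fwd 21555],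
   .loop none [.bwd 21612, .bwd 335, .fwd 21556],
   .loop none [.bwd 21619, .bwd 339, .fwd 21556],
   .loop none [.bwd 21624, .bwd 5061, .fwd 21556],
   .loop none [.bwd 21613, .bwd 15601, .fwd 21557],
   .loop none [.bwd 21606, .bwd 7057, .fwd 21557],
   .loop none [.bwd 21622, .fwd 15780, .fwd 21557],
   .loop none [.bwd 21559, .bwd 1711, .fwd 21557],
   .loop none [.bwd 21558, .bwd 15764, .fwd 21557],
   .loop none [.bwd 21560, .bwd 15513, .fwd 21557],
   .loop none [.bwd 21614, .bwd 15588, .fwd 21558],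
   .loop none [.bwd 21607, .bwd 6780, .fwd 21558],
   .loop none [.bwd 21624, .fwd 15781, .fwd 21558],
   .loop none [.bwd 21559, .fwd 15529, .fwd 21558],
   .loop none [.bwd 21615, .bwd 15654, .fwd 21559],
   .loop none [.bwd 21608, .fwd 7078, .fwd 21559],
   .loop none [.bwd 21625, .fwd 15798, .fwd 21559],
   .loop none [.bwd 21560, .fwd 1689, .fwd 21559],
   .loop none [.bwd 21560, .fwd 15924, .fwd 21559],
   .loop none [.bwd 21616, .bwd 15784, .fwd 21560],
   .loop none [.bwd 21609, .bwd 7076, .fwd 21560],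
   .loop none [.bwd 21621, .fwd 16016, .fwd 21560],
   .loop none [.bwd 21617, .fwd 888, .fwd 21561],
   .loop none [.bwd 21561, .bwd 883, .fwd 21561],
   .loop none [.bwd 21627, .fwd 4251, .fwd 21562],
   .loop none [.bwd 21630, .fwd 4850, .fwd 21562],
   .loop none [.bwd 21628, .bwd 2558, .fwd 21563],
   .loop none [.bwd 21633, .fwd 19336, .fwd 21563],
   .loop none [.bwd 21620, .fwd 7429, .fwd 21564],
   .loop none [.bwd 21629, .bwd 20035, .fwd 21564],
   .loop none [.bwd 21621, .fwd 4843, .fwd 21565],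
   .loop none [.bwd 21630, .bwd 3685, .fwd 21565],
   .loop none [.bwd 21638, .fwd 19826, .fwd 21565],
   .loop none [.bwd 21569, .bwd 309, .fwd 21565],
   .loop none [.bwd 21566, .bwd 4048, .fwd 21565],
   .loop none [.bwd 21622, .fwd 4962, .fwd 21566],
   .loop none [.bwd 21631, .bwd 3978, .fwd 21566],
   .loop none [.bwd 21639, .fwd 289, .fwd 21566],
   .loop none [.bwd 21568, .bwd 290, .fwd 21566],
   .loop none [.bwd 21569, .fwd 310, .fwd 21566],
   .loop none [.bwd 21623, .fwd 3728, .fwd 21567],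
   .loop none [.bwd 21632, .bwd 19831, .fwd 21567],
   .loop none [.bwd 21639, .fwd 3970, .fwd 21567],
   .loop none [.bwd 21635, .fwd 19837, .fwd 21567],
   .loop none [.bwd 21624, .bwd 3735, .fwd 21568],
   .loop none [.bwd 21633, .bwd 19602, .fwd 21568],
   .loop none [.bwd 21635, .fwd 19834, .fwd 21568],
   .loop none [.bwd 21569, .bwd 4113, .fwd 21568],
   .loop none [.bwd 21625, .fwd 5008, .fwd 21569],
   .loop none [.bwd 21634, .bwd 19315, .fwd 21569],
   .loop none [.bwd 21642, .fwd 19595, .fwd 21569],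
   .loop none [.bwd 21610, .fwd 18, .fwd 21570],
   .loop none [.bwd 21570, .bwd 475, .fwd 21570],
   .loop none [.bwd 21611, .bwd 6525, .fwd 21571],
   .loop none [.bwd 21645, .fwd 16293, .fwd 21571],
   .loop none [.bwd 21648, .bwd 16057, .fwd 21571],
   .loop none [.bwd 21612, .bwd 15663, .fwd 21572],
   .loop none [.bwd 21646, .fwd 507, .fwd 21572],
   .loop none [.bwd 21651, .bwd 6145, .fwd 21572],
   .loop none [.bwd 21613, .fwd 7487, .fwd 21573],
   .loop none [.bwd 21573, .fwd 6596, .fwd 21573]]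

theorem just90_len : just90.length = 250 := by decide +kernel

theorem just90_ok : cert.okFacts 22500 just90 = true := by decide +kernel

/-- justifications -/
noncomputable def just91 : List Cert.Just :=
  [.loop none [.bwd 21649, .fwd 15821, .fwd 21573],
   .loop none [.bwd 21575, .bwd 6591, .fwd 21573],
   .loop none [.bwd 21574, .bwd 6592, .fwd 21573],
   .loop none [.bwd 21576, .fwd 6594, .fwd 21573],
   .loop none [.bwd 21614, .fwd 2991, .fwd 21574],
   .loop none [.bwd 21574, .fwd 6593, .fwd 21574],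
   .loop none [.bwd 21651, .fwd 15868, .fwd 21574],
   .loop none [.bwd 21575, .bwd 6588, .fwd 21574],
   .loop none [.bwd 21615, .fwd 3095, .fwd 21575],
   .loop none [.bwd 21575, .fwd 7741, .fwd 21575],
   .loop none [.bwd 21652, .fwd 15839, .fwd 21575],
   .loop none [.bwd 21576, .bwd 6585, .fwd 21575],
   .loop none [.bwd 21576, .bwd 6586, .fwd 21575],
   .loop none [.bwd 21616, .fwd 3044, .fwd 21576],
   .loop none [.bwd 21576, .fwd 6595, .fwd 21576],
   .loop none [.bwd 21648, .fwd 15813, .fwd 21576],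
   .loop none [.bwd 21617, .fwd 22, .fwd 21577],
   .loop none [.bwd 21577, .bwd 615, .fwd 21577],
   .loop none [.bwd 21644, .fwd 16344, .fwd 21578],
   .loop none [.bwd 21654, .fwd 1011, .fwd 21578],
   .loop none [.bwd 21644, .fwd 16345, .fwd 21578],
   .loop none [.bwd 21644, .bwd 255, .fwd 21578],
   .loop none [.bwd 21578, .bwd 700, .fwd 21578],
   .loop none [.bwd 21645, .fwd 16292, .fwd 21579],
   .loop none [.bwd 21655, .bwd 6280, .fwd 21579],
   .loop none [.bwd 21658, .bwd 673, .fwd 21579],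
   .loop none [.bwd 21660, .bwd 654, .fwd 21579],
   .loop none [.bwd 21646, .bwd 16148, .fwd 21580],
   .loop none [.bwd 21656, .fwd 625, .fwd 21580],
   .loop none [.bwd 21657, .bwd 3277, .fwd 21580],
   .loop none [.bwd 21663, .bwd 6346, .fwd 21580],
   .loop none [.bwd 21647, .bwd 18792, .fwd 21581],
   .loop none [.bwd 21659, .bwd 1897, .fwd 21581],
   .loop none [.bwd 21648, .bwd 16036, .fwd 21582],
   .loop none [.bwd 21660, .fwd 6433, .fwd 21582],
   .loop none [.bwd 21668, .bwd 3680, .fwd 21582],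
   .loop none [.bwd 21586, .bwd 718, .fwd 21582],
   .loop none [.bwd 21583, .bwd 4057, .fwd 21582],
   .loop none [.bwd 21649, .bwd 15997, .fwd 21583],
   .loop none [.bwd 21661, .fwd 6403, .fwd 21583],
   .loop none [.bwd 21669, .fwd 707, .fwd 21583],
   .loop none [.bwd 21585, .bwd 708, .fwd 21583],
   .loop none [.bwd 21586, .fwd 719, .fwd 21583],
   .loop none [.bwd 21650, .bwd 3808, .fwd 21584],
   .loop none [.bwd 21662, .fwd 4152, .fwd 21584],
   .loop none [.bwd 21669, .fwd 4028, .fwd 21584],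
   .loop none [.bwd 21665, .fwd 6558, .fwd 21584],
   .loop none [.bwd 21651, .fwd 15864, .fwd 21585],
   .loop none [.bwd 21663, .fwd 4170, .fwd 21585],
   .loop none [.bwd 21665, .fwd 4094, .fwd 21585],
   .loop none [.bwd 21586, .bwd 4164, .fwd 21585],
   .loop none [.bwd 21652, .bwd 15856, .fwd 21586],
   .loop none [.bwd 21664, .fwd 6329, .fwd 21586],
   .loop none [.bwd 21672, .fwd 4293, .fwd 21586],
   .loop none [.bwd 21626, .bwd 4496, .fwd 21587],
   .loop none [.bwd 21653, .bwd 549, .fwd 21587],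
   .loop none [.bwd 21626, .fwd 548, .fwd 21587],
   .loop none [.bwd 21626, .bwd 4497, .fwd 21587],
   .loop none [.bwd 21587, .bwd 4499, .fwd 21587],
   .loop none [.bwd 21673, .fwd 20812, .fwd 21588],
   .loop none [.bwd 21655, .bwd 18752, .fwd 21588],
   .loop none [.bwd 21628, .fwd 19052, .fwd 21588],
   .loop none [.bwd 21676, .bwd 7449, .fwd 21588],
   .loop none [.bwd 21674, .fwd 4253, .fwd 21589],
   .loop none [.bwd 21656, .fwd 647, .fwd 21589],
   .loop none [.bwd 21627, .fwd 3351, .fwd 21589],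
   .loop none [.bwd 21679, .bwd 6347, .fwd 21589],
   .loop none [.bwd 21629, .bwd 19342, .fwd 21590],
   .loop none [.bwd 21675, .bwd 2541, .fwd 21590],
   .loop none [.bwd 21630, .bwd 19036, .fwd 21591],
   .loop none [.bwd 21676, .fwd 7443, .fwd 21591],
   .loop none [.bwd 21633, .fwd 2020, .fwd 21591],
   .loop none [.bwd 21684, .bwd 2021, .fwd 21591],
   .loop none [.bwd 21595, .fwd 19096, .fwd 21591],
   .loop none [.bwd 21592, .bwd 7374, .fwd 21591],
   .loop none [.bwd 21631, .bwd 18719, .fwd 21592],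
   .loop none [.bwd 21677, .fwd 7373, .fwd 21592],
   .loop none [.bwd 21634, .fwd 1979, .fwd 21592],
   .loop none [.bwd 21685, .bwd 1980, .fwd 21592],
   .loop none [.bwd 21594, .fwd 19033, .fwd 21592],
   .loop none [.bwd 21595, .bwd 18727, .fwd 21592],
   .loop none [.bwd 21632, .fwd 19608, .fwd 21593],
   .loop none [.bwd 21678, .fwd 4237, .fwd 21593],
   .loop none [.bwd 21633, .fwd 19333, .fwd 21594],
   .loop none [.bwd 21679, .fwd 2874, .fwd 21594],
   .loop none [.bwd 21630, .fwd 1934, .fwd 21594],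
   .loop none [.bwd 21689, .bwd 4097, .fwd 21594],
   .loop none [.bwd 21595, .bwd 4249, .fwd 21594],
   .loop none [.bwd 21634, .bwd 19091, .fwd 21595],
   .loop none [.bwd 21680, .fwd 3079, .fwd 21595],
   .loop none [.bwd 21631, .fwd 2505, .fwd 21595],
   .loop none [.bwd 21690, .fwd 4300, .fwd 21595],
   .loop none [.bwd 21635, .fwd 19833, .fwd 21596],
   .loop none [.bwd 21665, .bwd 1965, .fwd 21596],
   .loop none [.bwd 21689, .fwd 4096, .fwd 21596],
   .loop none [.bwd 21603, .bwd 4337, .fwd 21596],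
   .loop none [.bwd 21636, .bwd 8134, .fwd 21597],
   .loop none [.bwd 21666, .bwd 8136, .fwd 21597],
   .loop none [.bwd 21682, .fwd 21123, .fwd 21597],
   .loop none [.bwd 21692, .bwd 7191, .fwd 21597],
   .loop none [.bwd 21637, .bwd 20245, .fwd 21598],
   .loop none [.bwd 21667, .bwd 3063, .fwd 21598],
   .loop none [.bwd 21683, .fwd 20398, .fwd 21598],
   .loop none [.bwd 21691, .bwd 20497, .fwd 21598],
   .loop none [.bwd 21637, .fwd 3062, .fwd 21598],
   .loop none [.bwd 21640, .fwd 7862, .fwd 21598],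
   .loop none [.bwd 21638, .fwd 19824, .fwd 21599],
   .loop none [.bwd 21668, .bwd 2476, .fwd 21599],
   .loop none [.bwd 21684, .fwd 19346, .fwd 21599],
   .loop none [.bwd 21603, .bwd 3053, .fwd 21599],
   .loop none [.bwd 21642, .fwd 19597, .fwd 21599],
   .loop none [.bwd 21600, .bwd 4025, .fwd 21599],
   .loop none [.bwd 21639, .bwd 3886, .fwd 21600],
   .loop none [.bwd 21669, .fwd 3866, .fwd 21600],
   .loop none [.bwd 21685, .fwd 19025, .fwd 21600],
   .loop none [.bwd 21641, .fwd 228, .fwd 21600],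
   .loop none [.bwd 21640, .bwd 20491, .fwd 21601],
   .loop none [.bwd 21670, .fwd 7695, .fwd 21601],
   .loop none [.bwd 21687, .fwd 20102, .fwd 21601],
   .loop none [.bwd 21700, .fwd 2856, .fwd 21601],
   .loop none [.bwd 21640, .bwd 2857, .fwd 21601],
   .loop none [.bwd 21637, .bwd 7859, .fwd 21601],
   .loop none [.bwd 21641, .fwd 3811, .fwd 21602],
   .loop none [.bwd 21671, .fwd 4888, .fwd 21602],
   .loop none [.bwd 21688, .bwd 4894, .fwd 21602],
   .loop none [.bwd 21641, .fwd 4003, .fwd 21602],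
   .loop none [.bwd 21639, .bwd 288, .fwd 21602],
   .loop none [.bwd 21642, .fwd 19592, .fwd 21603],
   .loop none [.bwd 21672, .bwd 2525, .fwd 21603],
   .loop none [.bwd 21690, .fwd 4297, .fwd 21603],
   .loop none [.bwd 21638, .fwd 19827, .fwd 21603],
   .loop none [.bwd 21604, .fwd 6830, .fwd 21604],
   .loop none [.bwd 21605, .fwd 15351, .fwd 21604],
   .loop none [.bwd 21708, .bwd 15368, .fwd 21604],
   .loop none [.bwd 21605, .fwd 5640, .fwd 21605],
   .loop none [.bwd 21708, .bwd 3527, .fwd 21605],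
   .loop none [.bwd 21710, .fwd 19295, .fwd 21605],
   .loop none [.bwd 21707, .bwd 19290, .fwd 21605],
   .loop none [.bwd 21707, .fwd 18965, .fwd 21606],
   .loop none [.bwd 21608, .fwd 15854, .fwd 21606],
   .loop none [.bwd 21608, .bwd 1753, .fwd 21606],
   .loop none [.bwd 21607, .bwd 15753, .fwd 21606],
   .loop none [.bwd 21609, .fwd 15788, .fwd 21606],
   .loop none [.bwd 21708, .fwd 6781, .fwd 21607],
   .loop none [.bwd 21609, .fwd 6774, .fwd 21607],
   .loop none [.bwd 21608, .fwd 15758, .fwd 21607],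
   .loop none [.bwd 21709, .fwd 19284, .fwd 21608],
   .loop none [.bwd 21609, .fwd 1741, .fwd 21608],
   .loop none [.bwd 21609, .fwd 15787, .fwd 21608],
   .loop none [.bwd 21710, .fwd 19291, .fwd 21609],
   .loop none [.bwd 21610, .bwd 410, .fwd 21610],
   .loop none [.bwd 21712, .fwd 16101, .fwd 21611],
   .loop none [.bwd 21715, .fwd 5333, .fwd 21611],
   .loop none [.bwd 21713, .bwd 4208, .fwd 21612],
   .loop none [.bwd 21718, .bwd 5594, .fwd 21612],
   .loop none [.bwd 21707, .fwd 18966, .fwd 21613],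
   .loop none [.bwd 21716, .bwd 7489, .fwd 21613],
   .loop none [.bwd 21615, .fwd 7482, .fwd 21613],
   .loop none [.bwd 21614, .fwd 6600, .fwd 21613],
   .loop none [.bwd 21616, .fwd 7492, .fwd 21613],
   .loop none [.bwd 21708, .fwd 15573, .fwd 21614],
   .loop none [.bwd 21718, .bwd 7140, .fwd 21614],
   .loop none [.bwd 21615, .bwd 7483, .fwd 21614],
   .loop none [.bwd 21709, .fwd 19285, .fwd 21615],
   .loop none [.bwd 21719, .bwd 18977, .fwd 21615],
   .loop none [.bwd 21616, .bwd 7480, .fwd 21615],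
   .loop none [.bwd 21616, .bwd 7481, .fwd 21615],
   .loop none [.bwd 21710, .fwd 19292, .fwd 21616],
   .loop none [.bwd 21715, .bwd 7146, .fwd 21616],
   .loop none [.bwd 21711, .fwd 21, .fwd 21617],
   .loop none [.bwd 21617, .bwd 380, .fwd 21617],
   .loop none [.bwd 21712, .fwd 16100, .fwd 21618],
   .loop none [.bwd 21721, .fwd 5811, .fwd 21618],
   .loop none [.bwd 21713, .fwd 15912, .fwd 21618],
   .loop none [.bwd 21724, .bwd 351, .fwd 21618],
   .loop none [.bwd 21713, .bwd 374, .fwd 21619],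
   .loop none [.bwd 21722, .bwd 360, .fwd 21619],
   .loop none [.bwd 21712, .fwd 439, .fwd 21619],
   .loop none [.bwd 21727, .bwd 5596, .fwd 21619],
   .loop none [.bwd 21714, .bwd 19917, .fwd 21620],
   .loop none [.bwd 21723, .fwd 2015, .fwd 21620],
   .loop none [.bwd 21715, .bwd 4842, .fwd 21621],
   .loop none [.bwd 21724, .fwd 5355, .fwd 21621],
   .loop none [.bwd 21732, .fwd 19702, .fwd 21621],
   .loop none [.bwd 21625, .bwd 341, .fwd 21621],
   .loop none [.bwd 21622, .bwd 5017, .fwd 21621],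
   .loop none [.bwd 21716, .bwd 4961, .fwd 21622],
   .loop none [.bwd 21725, .fwd 5484, .fwd 21622],
   .loop none [.bwd 21733, .fwd 324, .fwd 21622],
   .loop none [.bwd 21624, .bwd 325, .fwd 21622],
   .loop none [.bwd 21625, .fwd 342, .fwd 21622],
   .loop none [.bwd 21717, .bwd 15925, .fwd 21623],
   .loop none [.bwd 21726, .fwd 5099, .fwd 21623],
   .loop none [.bwd 21733, .fwd 4911, .fwd 21623],
   .loop none [.bwd 21729, .fwd 19713, .fwd 21623],
   .loop none [.bwd 21718, .bwd 4116, .fwd 21624],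
   .loop none [.bwd 21727, .fwd 5122, .fwd 21624],
   .loop none [.bwd 21729, .fwd 19710, .fwd 21624],
   .loop none [.bwd 21625, .bwd 5110, .fwd 21624],
   .loop none [.bwd 21719, .fwd 18672, .fwd 21625],
   .loop none [.bwd 21728, .fwd 5559, .fwd 21625],
   .loop none [.bwd 21736, .fwd 19473, .fwd 21625],
   .loop none [.bwd 21720, .bwd 4492, .fwd 21626],
   .loop none [.bwd 21626, .bwd 3347, .fwd 21626],
   .loop none [.bwd 21737, .bwd 10082, .fwd 21627],
   .loop none [.bwd 21721, .fwd 5812, .fwd 21627],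
   .loop none [.bwd 21740, .bwd 3336, .fwd 21627],
   .loop none [.bwd 21738, .bwd 3349, .fwd 21628],
   .loop none [.bwd 21722, .fwd 601, .fwd 21628],
   .loop none [.bwd 21743, .fwd 19058, .fwd 21628],
   .loop none [.bwd 21739, .fwd 16526, .fwd 21629],
   .loop none [.bwd 21740, .fwd 6234, .fwd 21630],
   .loop none [.bwd 21748, .bwd 4838, .fwd 21630],
   .loop none [.bwd 21634, .bwd 19331, .fwd 21630],
   .loop none [.bwd 21631, .bwd 5018, .fwd 21630],
   .loop none [.bwd 21741, .fwd 6258, .fwd 21631],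
   .loop none [.bwd 21749, .bwd 4966, .fwd 21631],
   .loop none [.bwd 21633, .fwd 19335, .fwd 21631],
   .loop none [.bwd 21634, .fwd 19017, .fwd 21631],
   .loop none [.bwd 21742, .fwd 1904, .fwd 21632],
   .loop none [.bwd 21743, .bwd 7441, .fwd 21633],
   .loop none [.bwd 21753, .bwd 7439, .fwd 21633],
   .loop none [.bwd 21634, .bwd 7371, .fwd 21633],
   .loop none [.bwd 21744, .bwd 7372, .fwd 21634],
   .loop none [.bwd 21754, .bwd 7370, .fwd 21634],
   .loop none [.bwd 21729, .bwd 7431, .fwd 21635],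
   .loop none [.bwd 21753, .fwd 2485, .fwd 21635],
   .loop none [.bwd 21697, .fwd 20744, .fwd 21635],
   .loop none [.bwd 21642, .bwd 7564, .fwd 21635],
   .loop none [.bwd 21730, .bwd 8204, .fwd 21636],
   .loop none [.bwd 21746, .bwd 19674, .fwd 21636],
   .loop none [.bwd 21755, .bwd 7922, .fwd 21636],
   .loop none [.bwd 21704, .fwd 3862, .fwd 21636],
   .loop none [.bwd 21706, .bwd 8078, .fwd 21636],
   .loop none [.bwd 21701, .bwd 19676, .fwd 21636],
   .loop none [.bwd 21731, .fwd 7858, .fwd 21637],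
   .loop none [.bwd 21747, .bwd 20072, .fwd 21637],
   .loop none [.bwd 21697, .fwd 3061, .fwd 21637],
   .loop none [.bwd 21691, .bwd 20638, .fwd 21637],
   .loop none [.bwd 21702, .bwd 7861, .fwd 21637],
   .loop none [.bwd 21732, .fwd 7364, .fwd 21638],
   .loop none [.bwd 21748, .bwd 19825, .fwd 21638],
   .loop none [.bwd 21642, .fwd 2895, .fwd 21638],
   .loop none [.bwd 21639, .fwd 19887, .fwd 21638],
   .loop none [.bwd 21733, .fwd 4910, .fwd 21639],
   .loop none [.bwd 21749, .fwd 4919, .fwd 21639],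
   .loop none [.bwd 21734, .bwd 2858, .fwd 21640],
   .loop none [.bwd 21751, .fwd 20278, .fwd 21640],
   .loop none [.bwd 21758, .fwd 20375, .fwd 21640],
   .loop none [.bwd 21696, .bwd 20340, .fwd 21640]]

theorem just91_len : just91.length = 250 := by decide +kernel

theorem just91_ok : cert.okFacts 22750 just91 = true := by decide +kernel

/-- justifications -/
noncomputable def just92 : List Cert.Just :=
  [.loop none [.bwd 21698, .fwd 7699, .fwd 21640],
   .loop none [.bwd 21735, .bwd 3797, .fwd 21641],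
   .loop none [.bwd 21752, .bwd 3814, .fwd 21641],
   .loop none [.bwd 21694, .fwd 20661, .fwd 21641],
   .loop none [.bwd 21736, .bwd 7365, .fwd 21642],
   .loop none [.bwd 21754, .fwd 2894, .fwd 21642],
   .loop none [.bwd 21695, .bwd 19596, .fwd 21642],
   .loop none [.bwd 21711, .bwd 20, .fwd 21643],
   .loop none [.bwd 21711, .fwd 412, .fwd 21643],
   .loop none [.bwd 21643, .bwd 511, .fwd 21643],
   .loop none [.bwd 21762, .bwd 256, .fwd 21644],
   .loop none [.bwd 21644, .bwd 513, .fwd 21644],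
   .loop none [.bwd 21763, .fwd 6120, .fwd 21645],
   .loop none [.bwd 21766, .bwd 505, .fwd 21645],
   .loop none [.bwd 21768, .bwd 477, .fwd 21645],
   .loop none [.bwd 21764, .bwd 485, .fwd 21646],
   .loop none [.bwd 21765, .bwd 18469, .fwd 21646],
   .loop none [.bwd 21771, .fwd 6141, .fwd 21646],
   .loop none [.bwd 21714, .fwd 18980, .fwd 21647],
   .loop none [.bwd 21767, .fwd 20976, .fwd 21647],
   .loop none [.bwd 21715, .fwd 15960, .fwd 21648],
   .loop none [.bwd 21768, .bwd 6127, .fwd 21648],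
   .loop none [.bwd 21776, .fwd 18685, .fwd 21648],
   .loop none [.bwd 21652, .bwd 3423, .fwd 21648],
   .loop none [.bwd 21649, .bwd 6140, .fwd 21648],
   .loop none [.bwd 21716, .fwd 15878, .fwd 21649],
   .loop none [.bwd 21769, .bwd 6135, .fwd 21649],
   .loop none [.bwd 21777, .fwd 3360, .fwd 21649],
   .loop none [.bwd 21651, .bwd 3361, .fwd 21649],
   .loop none [.bwd 21652, .fwd 3424, .fwd 21649],
   .loop none [.bwd 21717, .bwd 15933, .fwd 21650],
   .loop none [.bwd 21770, .fwd 16080, .fwd 21650],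
   .loop none [.bwd 21777, .fwd 16064, .fwd 21650],
   .loop none [.bwd 21773, .fwd 18689, .fwd 21650],
   .loop none [.bwd 21718, .bwd 15865, .fwd 21651],
   .loop none [.bwd 21771, .fwd 6065, .fwd 21651],
   .loop none [.bwd 21773, .fwd 18688, .fwd 21651],
   .loop none [.bwd 21652, .bwd 6162, .fwd 21651],
   .loop none [.bwd 21719, .fwd 18673, .fwd 21652],
   .loop none [.bwd 21772, .fwd 6138, .fwd 21652],
   .loop none [.bwd 21780, .fwd 18690, .fwd 21652],
   .loop none [.bwd 21761, .fwd 4503, .fwd 21653],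
   .loop none [.bwd 21720, .bwd 259, .fwd 21653],
   .loop none [.bwd 21653, .bwd 2629, .fwd 21653],
   .loop none [.bwd 21781, .fwd 4467, .fwd 21654],
   .loop none [.bwd 21762, .bwd 1013, .fwd 21654],
   .loop none [.bwd 21654, .bwd 1015, .fwd 21654],
   .loop none [.bwd 21782, .fwd 6281, .fwd 21655],
   .loop none [.bwd 21786, .bwd 645, .fwd 21655],
   .loop none [.bwd 21788, .bwd 617, .fwd 21655],
   .loop none [.bwd 21783, .bwd 643, .fwd 21656],
   .loop none [.bwd 21785, .bwd 4257, .fwd 21656],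
   .loop none [.bwd 21791, .fwd 6341, .fwd 21656],
   .loop none [.bwd 21765, .bwd 18344, .fwd 21657],
   .loop none [.bwd 21785, .fwd 5869, .fwd 21657],
   .loop none [.bwd 21765, .bwd 18345, .fwd 21657],
   .loop none [.bwd 21765, .bwd 3278, .fwd 21657],
   .loop none [.bwd 21793, .fwd 6513, .fwd 21657],
   .loop none [.bwd 21766, .fwd 16578, .fwd 21658],
   .loop none [.bwd 21786, .bwd 4373, .fwd 21658],
   .loop none [.bwd 21766, .fwd 16579, .fwd 21658],
   .loop none [.bwd 21658, .fwd 18234, .fwd 21658],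
   .loop none [.bwd 21795, .bwd 6447, .fwd 21658],
   .loop none [.bwd 21767, .fwd 20974, .fwd 21659],
   .loop none [.bwd 21787, .fwd 18765, .fwd 21659],
   .loop none [.bwd 21659, .fwd 18525, .fwd 21659],
   .loop none [.bwd 21768, .bwd 16279, .fwd 21660],
   .loop none [.bwd 21788, .bwd 6304, .fwd 21660],
   .loop none [.bwd 21795, .fwd 6440, .fwd 21660],
   .loop none [.bwd 21799, .fwd 6502, .fwd 21660],
   .loop none [.bwd 21664, .bwd 676, .fwd 21660],
   .loop none [.bwd 21661, .bwd 6339, .fwd 21660],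
   .loop none [.bwd 21769, .bwd 16230, .fwd 21661],
   .loop none [.bwd 21789, .bwd 6317, .fwd 21661],
   .loop none [.bwd 21796, .bwd 6404, .fwd 21661],
   .loop none [.bwd 21800, .fwd 659, .fwd 21661],
   .loop none [.bwd 21663, .bwd 660, .fwd 21661],
   .loop none [.bwd 21664, .fwd 677, .fwd 21661],
   .loop none [.bwd 21770, .bwd 16318, .fwd 21662],
   .loop none [.bwd 21790, .fwd 5848, .fwd 21662],
   .loop none [.bwd 21770, .bwd 18818, .fwd 21662],
   .loop none [.bwd 21771, .fwd 16114, .fwd 21663],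
   .loop none [.bwd 21791, .fwd 5855, .fwd 21663],
   .loop none [.bwd 21793, .bwd 4171, .fwd 21663],
   .loop none [.bwd 21803, .fwd 6506, .fwd 21663],
   .loop none [.bwd 21664, .bwd 6384, .fwd 21663],
   .loop none [.bwd 21772, .bwd 16105, .fwd 21664],
   .loop none [.bwd 21792, .bwd 6328, .fwd 21664],
   .loop none [.bwd 21794, .bwd 6330, .fwd 21664],
   .loop none [.bwd 21804, .bwd 6331, .fwd 21664],
   .loop none [.bwd 21773, .bwd 18796, .fwd 21665],
   .loop none [.bwd 21803, .bwd 1966, .fwd 21665],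
   .loop none [.bwd 21672, .bwd 6557, .fwd 21665],
   .loop none [.bwd 21774, .fwd 21443, .fwd 21666],
   .loop none [.bwd 21797, .fwd 19938, .fwd 21666],
   .loop none [.bwd 21806, .bwd 7201, .fwd 21666],
   .loop none [.bwd 21775, .fwd 21165, .fwd 21667],
   .loop none [.bwd 21798, .bwd 3064, .fwd 21667],
   .loop none [.bwd 21805, .bwd 20351, .fwd 21667],
   .loop none [.bwd 21731, .fwd 7860, .fwd 21667],
   .loop none [.bwd 21734, .fwd 7864, .fwd 21667],
   .loop none [.bwd 21776, .bwd 18793, .fwd 21668],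
   .loop none [.bwd 21799, .bwd 2477, .fwd 21668],
   .loop none [.bwd 21672, .fwd 5415, .fwd 21668],
   .loop none [.bwd 21736, .fwd 19475, .fwd 21668],
   .loop none [.bwd 21669, .bwd 4035, .fwd 21668],
   .loop none [.bwd 21777, .bwd 16237, .fwd 21669],
   .loop none [.bwd 21800, .fwd 6481, .fwd 21669],
   .loop none [.bwd 21735, .fwd 706, .fwd 21669],
   .loop none [.bwd 21778, .bwd 20344, .fwd 21670],
   .loop none [.bwd 21801, .fwd 3020, .fwd 21670],
   .loop none [.bwd 21814, .bwd 3021, .fwd 21670],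
   .loop none [.bwd 21734, .bwd 7698, .fwd 21670],
   .loop none [.bwd 21731, .bwd 7827, .fwd 21670],
   .loop none [.bwd 21779, .bwd 4887, .fwd 21671],
   .loop none [.bwd 21802, .fwd 5410, .fwd 21671],
   .loop none [.bwd 21735, .bwd 4889, .fwd 21671],
   .loop none [.bwd 21733, .bwd 323, .fwd 21671],
   .loop none [.bwd 21780, .bwd 18797, .fwd 21672],
   .loop none [.bwd 21804, .bwd 2526, .fwd 21672],
   .loop none [.bwd 21732, .fwd 19703, .fwd 21672],
   .loop none [.bwd 21737, .fwd 20853, .fwd 21673],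
   .loop none [.bwd 21782, .bwd 20815, .fwd 21673],
   .loop none [.bwd 21738, .bwd 20816, .fwd 21673],
   .loop none [.bwd 21822, .bwd 20820, .fwd 21673],
   .loop none [.bwd 21738, .fwd 4252, .fwd 21674],
   .loop none [.bwd 21783, .fwd 4571, .fwd 21674],
   .loop none [.bwd 21737, .fwd 9402, .fwd 21674],
   .loop none [.bwd 21825, .bwd 12364, .fwd 21674],
   .loop none [.bwd 21821, .bwd 17841, .fwd 21675],
   .loop none [.bwd 21787, .bwd 2542, .fwd 21675],
   .loop none [.bwd 21822, .fwd 18886, .fwd 21676],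
   .loop none [.bwd 21788, .bwd 18755, .fwd 21676],
   .loop none [.bwd 21743, .bwd 2482, .fwd 21676],
   .loop none [.bwd 21830, .bwd 7447, .fwd 21676],
   .loop none [.bwd 21680, .bwd 18756, .fwd 21676],
   .loop none [.bwd 21677, .bwd 7559, .fwd 21676],
   .loop none [.bwd 21823, .bwd 17944, .fwd 21677],
   .loop none [.bwd 21789, .bwd 18473, .fwd 21677],
   .loop none [.bwd 21744, .bwd 2891, .fwd 21677],
   .loop none [.bwd 21831, .bwd 7375, .fwd 21677],
   .loop none [.bwd 21679, .fwd 18751, .fwd 21677],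
   .loop none [.bwd 21680, .bwd 18480, .fwd 21677],
   .loop none [.bwd 21824, .fwd 19463, .fwd 21678],
   .loop none [.bwd 21790, .fwd 5849, .fwd 21678],
   .loop none [.bwd 21825, .bwd 11998, .fwd 21679],
   .loop none [.bwd 21791, .fwd 5856, .fwd 21679],
   .loop none [.bwd 21740, .bwd 7292, .fwd 21679],
   .loop none [.bwd 21835, .fwd 2873, .fwd 21679],
   .loop none [.bwd 21680, .bwd 6367, .fwd 21679],
   .loop none [.bwd 21826, .fwd 12383, .fwd 21680],
   .loop none [.bwd 21792, .fwd 6323, .fwd 21680],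
   .loop none [.bwd 21741, .bwd 6372, .fwd 21680],
   .loop none [.bwd 21836, .fwd 3078, .fwd 21680],
   .loop none [.bwd 21745, .fwd 7688, .fwd 21681],
   .loop none [.bwd 21827, .fwd 7680, .fwd 21681],
   .loop none [.bwd 21750, .bwd 2853, .fwd 21681],
   .loop none [.bwd 21828, .fwd 21315, .fwd 21681],
   .loop none [.bwd 21746, .fwd 18029, .fwd 21682],
   .loop none [.bwd 21828, .bwd 3125, .fwd 21682],
   .loop none [.bwd 21828, .fwd 21132, .fwd 21682],
   .loop none [.bwd 21827, .bwd 21286, .fwd 21682],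
   .loop none [.bwd 21747, .bwd 21156, .fwd 21683],
   .loop none [.bwd 21829, .bwd 10814, .fwd 21683],
   .loop none [.bwd 21838, .bwd 17602, .fwd 21683],
   .loop none [.bwd 21747, .bwd 10813, .fwd 21683],
   .loop none [.bwd 21751, .fwd 10753, .fwd 21683],
   .loop none [.bwd 21748, .bwd 19345, .fwd 21684],
   .loop none [.bwd 21830, .bwd 2022, .fwd 21684],
   .loop none [.bwd 21839, .bwd 19347, .fwd 21684],
   .loop none [.bwd 21754, .fwd 19324, .fwd 21684],
   .loop none [.bwd 21685, .bwd 7376, .fwd 21684],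
   .loop none [.bwd 21749, .bwd 19024, .fwd 21685],
   .loop none [.bwd 21831, .bwd 1981, .fwd 21685],
   .loop none [.bwd 21840, .fwd 19339, .fwd 21685],
   .loop none [.bwd 21752, .bwd 19028, .fwd 21685],
   .loop none [.bwd 21750, .fwd 7686, .fwd 21686],
   .loop none [.bwd 21832, .fwd 7603, .fwd 21686],
   .loop none [.bwd 21745, .bwd 2965, .fwd 21686],
   .loop none [.bwd 21751, .fwd 21017, .fwd 21687],
   .loop none [.bwd 21833, .fwd 20782, .fwd 21687],
   .loop none [.bwd 21850, .fwd 17472, .fwd 21687],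
   .loop none [.bwd 21751, .fwd 17700, .fwd 21687],
   .loop none [.bwd 21747, .fwd 17705, .fwd 21687],
   .loop none [.bwd 21752, .bwd 7604, .fwd 21688],
   .loop none [.bwd 21834, .fwd 6244, .fwd 21688],
   .loop none [.bwd 21849, .fwd 20472, .fwd 21688],
   .loop none [.bwd 21749, .bwd 2554, .fwd 21688],
   .loop none [.bwd 21753, .fwd 19611, .fwd 21689],
   .loop none [.bwd 21835, .fwd 7304, .fwd 21689],
   .loop none [.bwd 21851, .bwd 3005, .fwd 21689],
   .loop none [.bwd 21690, .bwd 7582, .fwd 21689],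
   .loop none [.bwd 21754, .fwd 19320, .fwd 21690],
   .loop none [.bwd 21836, .fwd 7258, .fwd 21690],
   .loop none [.bwd 21852, .fwd 17014, .fwd 21690],
   .loop none [.bwd 21748, .bwd 7580, .fwd 21690],
   .loop none [.bwd 21697, .fwd 20742, .fwd 21691],
   .loop none [.bwd 21805, .bwd 7937, .fwd 21691],
   .loop none [.bwd 21858, .bwd 20376, .fwd 21691],
   .loop none [.bwd 21705, .bwd 7585, .fwd 21691],
   .loop none [.bwd 21703, .bwd 7586, .fwd 21691],
   .loop none [.bwd 21758, .fwd 8040, .fwd 21691],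
   .loop none [.bwd 21755, .bwd 7329, .fwd 21692],
   .loop none [.bwd 21806, .bwd 7328, .fwd 21692],
   .loop none [.bwd 21859, .fwd 20835, .fwd 21692],
   .loop none [.bwd 21695, .fwd 3860, .fwd 21692],
   .loop none [.bwd 21704, .bwd 3861, .fwd 21692],
   .loop none [.bwd 21757, .bwd 8076, .fwd 21692],
   .loop none [.bwd 21693, .fwd 8137, .fwd 21692],
   .loop none [.bwd 21756, .fwd 19409, .fwd 21693],
   .loop none [.bwd 21807, .bwd 8189, .fwd 21693],
   .loop none [.bwd 21841, .fwd 21129, .fwd 21693],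
   .loop none [.bwd 21696, .bwd 8084, .fwd 21693],
   .loop none [.bwd 21758, .bwd 4896, .fwd 21693],
   .loop none [.bwd 21701, .fwd 19658, .fwd 21693],
   .loop none [.bwd 21757, .fwd 8178, .fwd 21693],
   .loop none [.bwd 21704, .bwd 20657, .fwd 21694],
   .loop none [.bwd 21808, .fwd 3023, .fwd 21694],
   .loop none [.bwd 21827, .bwd 3024, .fwd 21694],
   .loop none [.bwd 21704, .bwd 20658, .fwd 21694],
   .loop none [.bwd 21700, .fwd 7690, .fwd 21694],
   .loop none [.bwd 21755, .bwd 20659, .fwd 21694],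
   .loop none [.bwd 21760, .bwd 7834, .fwd 21694],
   .loop none [.bwd 21706, .fwd 7935, .fwd 21695],
   .loop none [.bwd 21809, .bwd 8127, .fwd 21695],
   .loop none [.bwd 21842, .fwd 19891, .fwd 21695],
   .loop none [.bwd 21757, .fwd 8135, .fwd 21695],
   .loop none [.bwd 21759, .fwd 20632, .fwd 21695],
   .loop none [.bwd 21696, .bwd 4017, .fwd 21695],
   .loop none [.bwd 21701, .fwd 19656, .fwd 21696],
   .loop none [.bwd 21810, .bwd 8176, .fwd 21696],
   .loop none [.bwd 21843, .bwd 20283, .fwd 21696],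
   .loop none [.bwd 21757, .fwd 3963, .fwd 21696],
   .loop none [.bwd 21756, .fwd 19411, .fwd 21696],
   .loop none [.bwd 21811, .fwd 7856, .fwd 21697],
   .loop none [.bwd 21844, .fwd 3060, .fwd 21697],
   .loop none [.bwd 21760, .bwd 7848, .fwd 21697],
   .loop none [.bwd 21759, .bwd 7857, .fwd 21697],
   .loop none [.bwd 21700, .fwd 7850, .fwd 21697],
   .loop none [.bwd 21702, .bwd 20067, .fwd 21698],
   .loop none [.bwd 21812, .bwd 3318, .fwd 21698],
   .loop none [.bwd 21845, .fwd 20514, .fwd 21698],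
   .loop none [.bwd 21703, .bwd 20364, .fwd 21698],
   .loop none [.bwd 21702, .fwd 3317, .fwd 21698],
   .loop none [.bwd 21699, .bwd 20365, .fwd 21698],
   .loop none [.bwd 21760, .fwd 20664, .fwd 21698],
   .loop none [.bwd 21757, .bwd 19390, .fwd 21699],
   .loop none [.bwd 21813, .bwd 3295, .fwd 21699],
   .loop none [.bwd 21846, .bwd 7677, .fwd 21699],
   .loop none [.bwd 21706, .fwd 19401, .fwd 21699]]

theorem just92_len : just92.length = 250 := by decide +kernel

theorem just92_ok : cert.okFacts 23000 just92 = true := by decide +kernel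

/-- justifications -/
noncomputable def just93 : List Cert.Just :=
  [.loop none [.bwd 21701, .fwd 3294, .fwd 21699],
   .loop none [.bwd 21756, .bwd 17085, .fwd 21699],
   .loop none [.bwd 21755, .fwd 19663, .fwd 21699],
   .loop none [.bwd 21758, .bwd 20635, .fwd 21700],
   .loop none [.bwd 21814, .bwd 7694, .fwd 21700],
   .loop none [.bwd 21847, .fwd 2855, .fwd 21700],
   .loop none [.bwd 21756, .bwd 20636, .fwd 21700],
   .loop none [.bwd 21759, .fwd 7691, .fwd 21700],
   .loop none [.bwd 21815, .fwd 20878, .fwd 21701],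
   .loop none [.bwd 21853, .bwd 7973, .fwd 21701],
   .loop none [.bwd 21756, .fwd 3293, .fwd 21701],
   .loop none [.bwd 21706, .bwd 19660, .fwd 21701],
   .loop none [.bwd 21816, .fwd 7784, .fwd 21702],
   .loop none [.bwd 21854, .fwd 20648, .fwd 21702],
   .loop none [.bwd 21759, .fwd 3316, .fwd 21702],
   .loop none [.bwd 21757, .bwd 20511, .fwd 21702],
   .loop none [.bwd 21705, .fwd 20529, .fwd 21702],
   .loop none [.bwd 21759, .fwd 20630, .fwd 21703],
   .loop none [.bwd 21817, .fwd 4899, .fwd 21703],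
   .loop none [.bwd 21855, .fwd 20323, .fwd 21703],
   .loop none [.bwd 21705, .fwd 8022, .fwd 21703],
   .loop none [.bwd 21706, .bwd 3258, .fwd 21703],
   .loop none [.bwd 21758, .bwd 8045, .fwd 21703],
   .loop none [.bwd 21818, .fwd 8188, .fwd 21704],
   .loop none [.bwd 21856, .fwd 20666, .fwd 21704],
   .loop none [.bwd 21758, .bwd 4884, .fwd 21704],
   .loop none [.bwd 21705, .bwd 7919, .fwd 21704],
   .loop none [.bwd 21760, .fwd 20662, .fwd 21705],
   .loop none [.bwd 21819, .bwd 20527, .fwd 21705],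
   .loop none [.bwd 21857, .bwd 20528, .fwd 21705],
   .loop none [.bwd 21760, .fwd 20663, .fwd 21705],
   .loop none [.bwd 21820, .bwd 7931, .fwd 21706],
   .loop none [.bwd 21860, .bwd 7936, .fwd 21706],
   .loop none [.bwd 21755, .fwd 5054, .fwd 21706],
   .loop none [.bwd 21707, .fwd 8518, .fwd 21707],
   .loop none [.bwd 21709, .fwd 17906, .fwd 21707],
   .loop none [.bwd 21709, .fwd 18004, .fwd 21707],
   .loop none [.bwd 21708, .fwd 19288, .fwd 21707],
   .loop none [.bwd 21710, .fwd 8496, .fwd 21707],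
   .loop none [.bwd 21708, .fwd 6801, .fwd 21708],
   .loop none [.bwd 21710, .fwd 19293, .fwd 21708],
   .loop none [.bwd 21709, .bwd 19289, .fwd 21708],
   .loop none [.bwd 21709, .fwd 8526, .fwd 21709],
   .loop none [.bwd 21710, .fwd 3761, .fwd 21709],
   .loop none [.bwd 21710, .bwd 17933, .fwd 21709],
   .loop none [.bwd 21710, .fwd 8533, .fwd 21710],
   .loop none [.bwd 21711, .bwd 444, .fwd 21711],
   .loop none [.bwd 21862, .fwd 5788, .fwd 21712],
   .loop none [.bwd 21865, .bwd 414, .fwd 21712],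
   .loop none [.bwd 21863, .fwd 16157, .fwd 21713],
   .loop none [.bwd 21868, .bwd 15915, .fwd 21713],
   .loop none [.bwd 21864, .fwd 6028, .fwd 21714],
   .loop none [.bwd 21865, .fwd 16201, .fwd 21715],
   .loop none [.bwd 21873, .fwd 18982, .fwd 21715],
   .loop none [.bwd 21719, .bwd 18678, .fwd 21715],
   .loop none [.bwd 21716, .bwd 5542, .fwd 21715],
   .loop none [.bwd 21866, .fwd 16120, .fwd 21716],
   .loop none [.bwd 21874, .bwd 5499, .fwd 21716],
   .loop none [.bwd 21718, .bwd 5500, .fwd 21716],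
   .loop none [.bwd 21719, .fwd 18676, .fwd 21716],
   .loop none [.bwd 21867, .bwd 5989, .fwd 21717],
   .loop none [.bwd 21874, .bwd 15916, .fwd 21717],
   .loop none [.bwd 21870, .fwd 15877, .fwd 21717],
   .loop none [.bwd 21868, .fwd 15871, .fwd 21718],
   .loop none [.bwd 21870, .fwd 15920, .fwd 21718],
   .loop none [.bwd 21719, .fwd 18677, .fwd 21718],
   .loop none [.bwd 21869, .fwd 18911, .fwd 21719],
   .loop none [.bwd 21877, .bwd 3765, .fwd 21719],
   .loop none [.bwd 21861, .bwd 260, .fwd 21720],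
   .loop none [.bwd 21861, .fwd 16348, .fwd 21720],
   .loop none [.bwd 21720, .bwd 2641, .fwd 21720],
   .loop none [.bwd 21878, .bwd 6228, .fwd 21721],
   .loop none [.bwd 21863, .bwd 600, .fwd 21721],
   .loop none [.bwd 21881, .bwd 583, .fwd 21721],
   .loop none [.bwd 21879, .bwd 598, .fwd 21722],
   .loop none [.bwd 21862, .fwd 553, .fwd 21722],
   .loop none [.bwd 21884, .bwd 5932, .fwd 21722],
   .loop none [.bwd 21864, .bwd 19717, .fwd 21723],
   .loop none [.bwd 21880, .fwd 2014, .fwd 21723],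
   .loop none [.bwd 21865, .fwd 16200, .fwd 21724],
   .loop none [.bwd 21881, .fwd 5835, .fwd 21724],
   .loop none [.bwd 21868, .fwd 5828, .fwd 21724],
   .loop none [.bwd 21889, .fwd 19483, .fwd 21724],
   .loop none [.bwd 21728, .bwd 378, .fwd 21724],
   .loop none [.bwd 21725, .bwd 5562, .fwd 21724],
   .loop none [.bwd 21866, .fwd 16119, .fwd 21725],
   .loop none [.bwd 21882, .fwd 5894, .fwd 21725],
   .loop none [.bwd 21869, .fwd 5928, .fwd 21725],
   .loop none [.bwd 21890, .fwd 357, .fwd 21725],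
   .loop none [.bwd 21727, .bwd 358, .fwd 21725],
   .loop none [.bwd 21728, .fwd 379, .fwd 21725],
   .loop none [.bwd 21867, .bwd 16149, .fwd 21726],
   .loop none [.bwd 21883, .fwd 5773, .fwd 21726],
   .loop none [.bwd 21868, .bwd 16024, .fwd 21727],
   .loop none [.bwd 21884, .fwd 5782, .fwd 21727],
   .loop none [.bwd 21865, .fwd 5922, .fwd 21727],
   .loop none [.bwd 21894, .fwd 7540, .fwd 21727],
   .loop none [.bwd 21728, .bwd 5786, .fwd 21727],
   .loop none [.bwd 21869, .bwd 16027, .fwd 21728],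
   .loop none [.bwd 21885, .fwd 5902, .fwd 21728],
   .loop none [.bwd 21866, .fwd 5839, .fwd 21728],
   .loop none [.bwd 21895, .fwd 7647, .fwd 21728],
   .loop none [.bwd 21870, .bwd 19708, .fwd 21729],
   .loop none [.bwd 21894, .bwd 19709, .fwd 21729],
   .loop none [.bwd 21811, .fwd 20645, .fwd 21729],
   .loop none [.bwd 21736, .bwd 7366, .fwd 21729],
   .loop none [.bwd 21871, .bwd 19412, .fwd 21730],
   .loop none [.bwd 21887, .bwd 19413, .fwd 21730],
   .loop none [.bwd 21896, .fwd 19415, .fwd 21730],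
   .loop none [.bwd 21818, .fwd 5534, .fwd 21730],
   .loop none [.bwd 21820, .fwd 8285, .fwd 21730],
   .loop none [.bwd 21815, .fwd 20885, .fwd 21730],
   .loop none [.bwd 21872, .bwd 21167, .fwd 21731],
   .loop none [.bwd 21888, .fwd 3130, .fwd 21731],
   .loop none [.bwd 21811, .bwd 3131, .fwd 21731],
   .loop none [.bwd 21805, .bwd 20508, .fwd 21731],
   .loop none [.bwd 21816, .bwd 7783, .fwd 21731],
   .loop none [.bwd 21873, .bwd 19701, .fwd 21732],
   .loop none [.bwd 21889, .fwd 1974, .fwd 21732],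
   .loop none [.bwd 21736, .bwd 1975, .fwd 21732],
   .loop none [.bwd 21733, .fwd 19732, .fwd 21732],
   .loop none [.bwd 21874, .bwd 4909, .fwd 21733],
   .loop none [.bwd 21890, .fwd 5443, .fwd 21733],
   .loop none [.bwd 21875, .fwd 21166, .fwd 21734],
   .loop none [.bwd 21892, .bwd 2859, .fwd 21734],
   .loop none [.bwd 21899, .fwd 20221, .fwd 21734],
   .loop none [.bwd 21810, .bwd 20187, .fwd 21734],
   .loop none [.bwd 21812, .fwd 7700, .fwd 21734],
   .loop none [.bwd 21876, .bwd 16163, .fwd 21735],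
   .loop none [.bwd 21893, .fwd 6468, .fwd 21735],
   .loop none [.bwd 21808, .fwd 20544, .fwd 21735],
   .loop none [.bwd 21877, .bwd 19469, .fwd 21736],
   .loop none [.bwd 21895, .bwd 19470, .fwd 21736],
   .loop none [.bwd 21809, .bwd 19474, .fwd 21736],
   .loop none [.bwd 21878, .fwd 9401, .fwd 21737],
   .loop none [.bwd 21903, .fwd 12495, .fwd 21737],
   .loop none [.bwd 21879, .fwd 4616, .fwd 21738],
   .loop none [.bwd 21906, .bwd 12460, .fwd 21738],
   .loop none [.bwd 21902, .bwd 16483, .fwd 21739],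
   .loop none [.bwd 21880, .bwd 19631, .fwd 21739],
   .loop none [.bwd 21903, .bwd 12490, .fwd 21740],
   .loop none [.bwd 21881, .bwd 6235, .fwd 21740],
   .loop none [.bwd 21911, .bwd 7285, .fwd 21740],
   .loop none [.bwd 21744, .bwd 19051, .fwd 21740],
   .loop none [.bwd 21741, .bwd 6269, .fwd 21740],
   .loop none [.bwd 21904, .fwd 18862, .fwd 21741],
   .loop none [.bwd 21882, .bwd 6259, .fwd 21741],
   .loop none [.bwd 21912, .fwd 3340, .fwd 21741],
   .loop none [.bwd 21743, .fwd 19057, .fwd 21741],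
   .loop none [.bwd 21744, .fwd 18736, .fwd 21741],
   .loop none [.bwd 21905, .fwd 20951, .fwd 21742],
   .loop none [.bwd 21883, .bwd 19357, .fwd 21742],
   .loop none [.bwd 21847, .fwd 19629, .fwd 21742],
   .loop none [.bwd 21840, .fwd 20615, .fwd 21742],
   .loop none [.bwd 21906, .bwd 19054, .fwd 21743],
   .loop none [.bwd 21884, .bwd 19055, .fwd 21743],
   .loop none [.bwd 21914, .bwd 2483, .fwd 21743],
   .loop none [.bwd 21744, .bwd 7560, .fwd 21743],
   .loop none [.bwd 21907, .bwd 18732, .fwd 21744],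
   .loop none [.bwd 21885, .bwd 18733, .fwd 21744],
   .loop none [.bwd 21915, .bwd 2892, .fwd 21744],
   .loop none [.bwd 21908, .bwd 2966, .fwd 21745],
   .loop none [.bwd 21909, .bwd 17225, .fwd 21746],
   .loop none [.bwd 21918, .fwd 8836, .fwd 21746],
   .loop none [.bwd 21856, .bwd 21333, .fwd 21746],
   .loop none [.bwd 21860, .fwd 19673, .fwd 21746],
   .loop none [.bwd 21853, .fwd 10214, .fwd 21746],
   .loop none [.bwd 21910, .fwd 9762, .fwd 21747],
   .loop none [.bwd 21917, .bwd 17703, .fwd 21747],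
   .loop none [.bwd 21858, .bwd 21190, .fwd 21747],
   .loop none [.bwd 21854, .fwd 20651, .fwd 21747],
   .loop none [.bwd 21911, .fwd 5251, .fwd 21748],
   .loop none [.bwd 21919, .fwd 7300, .fwd 21748],
   .loop none [.bwd 21749, .bwd 4974, .fwd 21748],
   .loop none [.bwd 21912, .fwd 6251, .fwd 21749],
   .loop none [.bwd 21920, .fwd 16776, .fwd 21749],
   .loop none [.bwd 21847, .bwd 2854, .fwd 21750],
   .loop none [.bwd 21831, .bwd 20719, .fwd 21750],
   .loop none [.bwd 21913, .fwd 20774, .fwd 21751],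
   .loop none [.bwd 21925, .bwd 17699, .fwd 21751],
   .loop none [.bwd 21843, .fwd 21256, .fwd 21751],
   .loop none [.bwd 21845, .fwd 20516, .fwd 21751],
   .loop none [.bwd 21840, .fwd 20614, .fwd 21752],
   .loop none [.bwd 21831, .fwd 20616, .fwd 21752],
   .loop none [.bwd 21827, .bwd 20469, .fwd 21752],
   .loop none [.bwd 21914, .fwd 2484, .fwd 21753],
   .loop none [.bwd 21926, .bwd 19612, .fwd 21753],
   .loop none [.bwd 21844, .fwd 21320, .fwd 21753],
   .loop none [.bwd 21754, .bwd 7563, .fwd 21753],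
   .loop none [.bwd 21915, .fwd 2893, .fwd 21754],
   .loop none [.bwd 21927, .fwd 19605, .fwd 21754],
   .loop none [.bwd 21842, .fwd 19893, .fwd 21754],
   .loop none [.bwd 21896, .bwd 19661, .fwd 21755],
   .loop none [.bwd 21930, .bwd 19662, .fwd 21755],
   .loop none [.bwd 21756, .bwd 19664, .fwd 21755],
   .loop none [.bwd 21897, .fwd 20902, .fwd 21756],
   .loop none [.bwd 21921, .fwd 3292, .fwd 21756],
   .loop none [.bwd 21898, .bwd 8090, .fwd 21757],
   .loop none [.bwd 21922, .bwd 20117, .fwd 21757],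
   .loop none [.bwd 21899, .bwd 4969, .fwd 21758],
   .loop none [.bwd 21923, .fwd 20421, .fwd 21758],
   .loop none [.bwd 21900, .bwd 7785, .fwd 21759],
   .loop none [.bwd 21928, .fwd 3315, .fwd 21759],
   .loop none [.bwd 21760, .fwd 7916, .fwd 21759],
   .loop none [.bwd 21901, .fwd 3133, .fwd 21760],
   .loop none [.bwd 21929, .bwd 3134, .fwd 21760],
   .loop none [.bwd 21861, .fwd 261, .fwd 21761],
   .loop none [.bwd 21784, .bwd 262, .fwd 21761],
   .loop none [.bwd 21861, .fwd 4541, .fwd 21761],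
   .loop none [.bwd 21761, .bwd 4574, .fwd 21761],
   .loop none [.bwd 21784, .fwd 16699, .fwd 21762],
   .loop none [.bwd 21781, .bwd 257, .fwd 21762],
   .loop none [.bwd 21762, .bwd 536, .fwd 21762],
   .loop none [.bwd 21931, .fwd 18569, .fwd 21763],
   .loop none [.bwd 21862, .bwd 6171, .fwd 21763],
   .loop none [.bwd 21934, .bwd 530, .fwd 21763],
   .loop none [.bwd 21936, .bwd 515, .fwd 21763],
   .loop none [.bwd 21932, .bwd 528, .fwd 21764],
   .loop none [.bwd 21863, .bwd 532, .fwd 21764],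
   .loop none [.bwd 21933, .bwd 18657, .fwd 21764],
   .loop none [.bwd 21939, .bwd 6144, .fwd 21764],
   .loop none [.bwd 21933, .bwd 3279, .fwd 21765],
   .loop none [.bwd 21941, .bwd 7345, .fwd 21765],
   .loop none [.bwd 21934, .bwd 4403, .fwd 21766],
   .loop none [.bwd 21766, .fwd 18204, .fwd 21766],
   .loop none [.bwd 21943, .fwd 18208, .fwd 21766],
   .loop none [.bwd 21935, .bwd 20975, .fwd 21767],
   .loop none [.bwd 21767, .fwd 20977, .fwd 21767],
   .loop none [.bwd 21936, .fwd 6124, .fwd 21768],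
   .loop none [.bwd 21943, .bwd 18297, .fwd 21768],
   .loop none [.bwd 21947, .fwd 18457, .fwd 21768],
   .loop none [.bwd 21772, .bwd 509, .fwd 21768],
   .loop none [.bwd 21769, .bwd 6123, .fwd 21768],
   .loop none [.bwd 21937, .fwd 6134, .fwd 21769],
   .loop none [.bwd 21944, .bwd 6161, .fwd 21769],
   .loop none [.bwd 21948, .fwd 482, .fwd 21769],
   .loop none [.bwd 21771, .bwd 483, .fwd 21769],
   .loop none [.bwd 21772, .fwd 510, .fwd 21769],
   .loop none [.bwd 21938, .fwd 6061, .fwd 21770],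
   .loop none [.bwd 21939, .bwd 6063, .fwd 21771],
   .loop none [.bwd 21941, .bwd 18290, .fwd 21771],
   .loop none [.bwd 21951, .fwd 18462, .fwd 21771],
   .loop none [.bwd 21772, .bwd 6142, .fwd 21771],
   .loop none [.bwd 21940, .bwd 6137, .fwd 21772],
   .loop none [.bwd 21942, .bwd 18470, .fwd 21772],
   .loop none [.bwd 21952, .fwd 18711, .fwd 21772],
   .loop none [.bwd 21870, .fwd 18985, .fwd 21773],
   .loop none [.bwd 21951, .fwd 7299, .fwd 21773],
   .loop none [.bwd 21780, .bwd 7592, .fwd 21773],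
   .loop none [.bwd 21871, .bwd 16831, .fwd 21774]]

theorem just93_len : just93.length = 250 := by decide +kernel

theorem just93_ok : cert.okFacts 23250 just93 = true := by decide +kernel

/-- justifications -/
noncomputable def just94 : List Cert.Just :=
  [.loop none [.bwd 21945, .fwd 3650, .fwd 21774],
   .loop none [.bwd 21954, .bwd 3651, .fwd 21774],
   .loop none [.bwd 21872, .bwd 21002, .fwd 21775],
   .loop none [.bwd 21946, .bwd 21003, .fwd 21775],
   .loop none [.bwd 21953, .fwd 9427, .fwd 21775],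
   .loop none [.bwd 21872, .bwd 9428, .fwd 21775],
   .loop none [.bwd 21875, .fwd 21033, .fwd 21775],
   .loop none [.bwd 21873, .fwd 5306, .fwd 21776],
   .loop none [.bwd 21947, .bwd 5307, .fwd 21776],
   .loop none [.bwd 21780, .fwd 17938, .fwd 21776],
   .loop none [.bwd 21877, .bwd 18686, .fwd 21776],
   .loop none [.bwd 21777, .bwd 18687, .fwd 21776],
   .loop none [.bwd 21874, .bwd 16063, .fwd 21777],
   .loop none [.bwd 21948, .fwd 6133, .fwd 21777],
   .loop none [.bwd 21876, .fwd 3359, .fwd 21777],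
   .loop none [.bwd 21875, .fwd 21029, .fwd 21778],
   .loop none [.bwd 21949, .bwd 5429, .fwd 21778],
   .loop none [.bwd 21962, .fwd 5428, .fwd 21778],
   .loop none [.bwd 21875, .fwd 21032, .fwd 21778],
   .loop none [.bwd 21872, .fwd 20441, .fwd 21778],
   .loop none [.bwd 21876, .bwd 16168, .fwd 21779],
   .loop none [.bwd 21950, .fwd 16329, .fwd 21779],
   .loop none [.bwd 21876, .fwd 16158, .fwd 21779],
   .loop none [.bwd 21874, .fwd 5439, .fwd 21779],
   .loop none [.bwd 21877, .fwd 3766, .fwd 21780],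
   .loop none [.bwd 21952, .fwd 6379, .fwd 21780],
   .loop none [.bwd 21873, .bwd 18693, .fwd 21780],
   .loop none [.bwd 21784, .fwd 4448, .fwd 21781],
   .loop none [.bwd 21784, .fwd 16701, .fwd 21781],
   .loop none [.bwd 21781, .bwd 4439, .fwd 21781],
   .loop none [.bwd 21931, .bwd 18606, .fwd 21782],
   .loop none [.bwd 21970, .bwd 4570, .fwd 21782],
   .loop none [.bwd 21972, .bwd 4560, .fwd 21782],
   .loop none [.bwd 21932, .bwd 16696, .fwd 21783],
   .loop none [.bwd 21969, .bwd 18900, .fwd 21783],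
   .loop none [.bwd 21975, .bwd 18901, .fwd 21783],
   .loop none [.bwd 21784, .bwd 4508, .fwd 21784],
   .loop none [.bwd 21969, .fwd 18613, .fwd 21785],
   .loop none [.bwd 21977, .fwd 16716, .fwd 21785],
   .loop none [.bwd 21933, .fwd 7409, .fwd 21785],
   .loop none [.bwd 21979, .bwd 4795, .fwd 21785],
   .loop none [.bwd 21970, .fwd 4504, .fwd 21786],
   .loop none [.bwd 21978, .fwd 18365, .fwd 21786],
   .loop none [.bwd 21786, .fwd 18315, .fwd 21786],
   .loop none [.bwd 21981, .fwd 18320, .fwd 21786],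
   .loop none [.bwd 21971, .bwd 16954, .fwd 21787],
   .loop none [.bwd 21787, .fwd 18766, .fwd 21787],
   .loop none [.bwd 21972, .fwd 6305, .fwd 21788],
   .loop none [.bwd 21981, .bwd 18494, .fwd 21788],
   .loop none [.bwd 21985, .fwd 18773, .fwd 21788],
   .loop none [.bwd 21792, .bwd 649, .fwd 21788],
   .loop none [.bwd 21789, .bwd 6303, .fwd 21788],
   .loop none [.bwd 21973, .fwd 18370, .fwd 21789],
   .loop none [.bwd 21982, .bwd 18303, .fwd 21789],
   .loop none [.bwd 21986, .fwd 622, .fwd 21789],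
   .loop none [.bwd 21791, .bwd 623, .fwd 21789],
   .loop none [.bwd 21792, .fwd 650, .fwd 21789],
   .loop none [.bwd 21974, .fwd 19192, .fwd 21790],
   .loop none [.bwd 21938, .bwd 19086, .fwd 21790],
   .loop none [.bwd 21975, .fwd 18599, .fwd 21791],
   .loop none [.bwd 21979, .fwd 6345, .fwd 21791],
   .loop none [.bwd 21989, .bwd 5857, .fwd 21791],
   .loop none [.bwd 21792, .bwd 6344, .fwd 21791],
   .loop none [.bwd 21976, .fwd 18821, .fwd 21792],
   .loop none [.bwd 21980, .bwd 18537, .fwd 21792],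
   .loop none [.bwd 21990, .bwd 6324, .fwd 21792],
   .loop none [.bwd 21941, .bwd 18228, .fwd 21793],
   .loop none [.bwd 21979, .fwd 6507, .fwd 21793],
   .loop none [.bwd 21941, .bwd 18229, .fwd 21793],
   .loop none [.bwd 21941, .bwd 4123, .fwd 21793],
   .loop none [.bwd 21796, .bwd 6504, .fwd 21793],
   .loop none [.bwd 21794, .bwd 6520, .fwd 21793],
   .loop none [.bwd 21942, .bwd 18342, .fwd 21794],
   .loop none [.bwd 21980, .fwd 18495, .fwd 21794],
   .loop none [.bwd 21942, .bwd 18343, .fwd 21794],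
   .loop none [.bwd 21942, .bwd 4311, .fwd 21794],
   .loop none [.bwd 21795, .fwd 6442, .fwd 21794],
   .loop none [.bwd 21796, .fwd 6514, .fwd 21794],
   .loop none [.bwd 21943, .bwd 18235, .fwd 21795],
   .loop none [.bwd 21981, .fwd 18317, .fwd 21795],
   .loop none [.bwd 21943, .bwd 18236, .fwd 21795],
   .loop none [.bwd 21795, .fwd 18237, .fwd 21795],
   .loop none [.bwd 21796, .bwd 6505, .fwd 21795],
   .loop none [.bwd 21944, .bwd 16517, .fwd 21796],
   .loop none [.bwd 21982, .fwd 18209, .fwd 21796],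
   .loop none [.bwd 21944, .bwd 16518, .fwd 21796],
   .loop none [.bwd 21796, .fwd 18170, .fwd 21796],
   .loop none [.bwd 21945, .fwd 17851, .fwd 21797],
   .loop none [.bwd 21983, .fwd 7870, .fwd 21797],
   .loop none [.bwd 21798, .fwd 3065, .fwd 21797],
   .loop none [.bwd 21946, .bwd 20199, .fwd 21798],
   .loop none [.bwd 21984, .bwd 7868, .fwd 21798],
   .loop none [.bwd 21888, .bwd 7865, .fwd 21798],
   .loop none [.bwd 21892, .fwd 7867, .fwd 21798],
   .loop none [.bwd 21947, .bwd 18526, .fwd 21799],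
   .loop none [.bwd 21985, .fwd 18771, .fwd 21799],
   .loop none [.bwd 21799, .fwd 18527, .fwd 21799],
   .loop none [.bwd 21895, .fwd 7980, .fwd 21799],
   .loop none [.bwd 21800, .fwd 6499, .fwd 21799],
   .loop none [.bwd 21948, .bwd 16519, .fwd 21800],
   .loop none [.bwd 21986, .fwd 6314, .fwd 21800],
   .loop none [.bwd 21800, .fwd 18329, .fwd 21800],
   .loop none [.bwd 21893, .fwd 658, .fwd 21800],
   .loop none [.bwd 21949, .bwd 20191, .fwd 21801],
   .loop none [.bwd 21987, .fwd 3019, .fwd 21801],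
   .loop none [.bwd 21950, .bwd 20192, .fwd 21801],
   .loop none [.bwd 21892, .fwd 7701, .fwd 21801],
   .loop none [.bwd 21888, .bwd 7825, .fwd 21801],
   .loop none [.bwd 21950, .bwd 16549, .fwd 21802],
   .loop none [.bwd 21988, .fwd 5880, .fwd 21802],
   .loop none [.bwd 21949, .bwd 5411, .fwd 21802],
   .loop none [.bwd 21890, .bwd 356, .fwd 21802],
   .loop none [.bwd 21951, .bwd 18530, .fwd 21803],
   .loop none [.bwd 21989, .fwd 7250, .fwd 21803],
   .loop none [.bwd 21951, .bwd 1967, .fwd 21803],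
   .loop none [.bwd 21804, .bwd 6521, .fwd 21803],
   .loop none [.bwd 21952, .fwd 18710, .fwd 21804],
   .loop none [.bwd 21990, .fwd 6246, .fwd 21804],
   .loop none [.bwd 21952, .bwd 2527, .fwd 21804],
   .loop none [.bwd 21889, .fwd 19484, .fwd 21804],
   .loop none [.bwd 21953, .fwd 21161, .fwd 21805],
   .loop none [.bwd 22004, .bwd 10220, .fwd 21805],
   .loop none [.bwd 21819, .fwd 20387, .fwd 21805],
   .loop none [.bwd 21817, .bwd 5479, .fwd 21805],
   .loop none [.bwd 21899, .fwd 8046, .fwd 21805],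
   .loop none [.bwd 21954, .bwd 21268, .fwd 21806],
   .loop none [.bwd 22005, .fwd 19928, .fwd 21806],
   .loop none [.bwd 21809, .bwd 6554, .fwd 21806],
   .loop none [.bwd 21818, .bwd 5390, .fwd 21806],
   .loop none [.bwd 21898, .bwd 8229, .fwd 21806],
   .loop none [.bwd 21807, .fwd 8203, .fwd 21806],
   .loop none [.bwd 21955, .bwd 21435, .fwd 21807],
   .loop none [.bwd 21991, .fwd 19746, .fwd 21807],
   .loop none [.bwd 21810, .bwd 8446, .fwd 21807],
   .loop none [.bwd 21899, .bwd 5413, .fwd 21807],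
   .loop none [.bwd 21815, .fwd 20883, .fwd 21807],
   .loop none [.bwd 21898, .fwd 8447, .fwd 21807],
   .loop none [.bwd 21956, .fwd 21178, .fwd 21808],
   .loop none [.bwd 21992, .fwd 20678, .fwd 21808],
   .loop none [.bwd 21818, .bwd 20541, .fwd 21808],
   .loop none [.bwd 21814, .fwd 3022, .fwd 21808],
   .loop none [.bwd 21896, .bwd 20542, .fwd 21808],
   .loop none [.bwd 21901, .bwd 7832, .fwd 21808],
   .loop none [.bwd 21957, .fwd 19298, .fwd 21809],
   .loop none [.bwd 21993, .fwd 19737, .fwd 21809],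
   .loop none [.bwd 21898, .bwd 8192, .fwd 21809],
   .loop none [.bwd 21900, .fwd 20534, .fwd 21809],
   .loop none [.bwd 21810, .bwd 6532, .fwd 21809],
   .loop none [.bwd 21958, .bwd 21436, .fwd 21810],
   .loop none [.bwd 21994, .fwd 19808, .fwd 21810],
   .loop none [.bwd 21898, .fwd 5320, .fwd 21810],
   .loop none [.bwd 21897, .fwd 20907, .fwd 21810],
   .loop none [.bwd 21959, .bwd 21162, .fwd 21811],
   .loop none [.bwd 21995, .fwd 13007, .fwd 21811],
   .loop none [.bwd 21901, .bwd 3132, .fwd 21811],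
   .loop none [.bwd 21900, .bwd 7786, .fwd 21811],
   .loop none [.bwd 21814, .fwd 7830, .fwd 21811],
   .loop none [.bwd 21960, .bwd 21216, .fwd 21812],
   .loop none [.bwd 21996, .bwd 3319, .fwd 21812],
   .loop none [.bwd 21817, .bwd 20212, .fwd 21812],
   .loop none [.bwd 21816, .fwd 7782, .fwd 21812],
   .loop none [.bwd 21813, .bwd 20215, .fwd 21812],
   .loop none [.bwd 21901, .fwd 20546, .fwd 21812],
   .loop none [.bwd 21961, .bwd 16847, .fwd 21813],
   .loop none [.bwd 21997, .bwd 3296, .fwd 21813],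
   .loop none [.bwd 21820, .fwd 19115, .fwd 21813],
   .loop none [.bwd 21815, .fwd 20882, .fwd 21813],
   .loop none [.bwd 21897, .fwd 20909, .fwd 21813],
   .loop none [.bwd 21896, .fwd 7976, .fwd 21813],
   .loop none [.bwd 21962, .bwd 20500, .fwd 21814],
   .loop none [.bwd 21998, .fwd 20641, .fwd 21814],
   .loop none [.bwd 21897, .fwd 20906, .fwd 21814],
   .loop none [.bwd 21900, .fwd 7828, .fwd 21814],
   .loop none [.bwd 21963, .bwd 20877, .fwd 21815],
   .loop none [.bwd 21999, .bwd 20879, .fwd 21815],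
   .loop none [.bwd 21897, .fwd 3925, .fwd 21815],
   .loop none [.bwd 21820, .bwd 20886, .fwd 21815],
   .loop none [.bwd 21964, .fwd 21215, .fwd 21816],
   .loop none [.bwd 22000, .fwd 2979, .fwd 21816],
   .loop none [.bwd 21900, .bwd 2980, .fwd 21816],
   .loop none [.bwd 21898, .bwd 20379, .fwd 21816],
   .loop none [.bwd 21819, .fwd 10075, .fwd 21816],
   .loop none [.bwd 21965, .fwd 5435, .fwd 21817],
   .loop none [.bwd 22001, .bwd 20018, .fwd 21817],
   .loop none [.bwd 21819, .fwd 20388, .fwd 21817],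
   .loop none [.bwd 21820, .bwd 4155, .fwd 21817],
   .loop none [.bwd 21899, .bwd 8190, .fwd 21817],
   .loop none [.bwd 21966, .fwd 21422, .fwd 21818],
   .loop none [.bwd 22002, .bwd 10468, .fwd 21818],
   .loop none [.bwd 21899, .bwd 5391, .fwd 21818],
   .loop none [.bwd 21819, .fwd 20390, .fwd 21818],
   .loop none [.bwd 21967, .bwd 20386, .fwd 21819],
   .loop none [.bwd 22003, .fwd 3237, .fwd 21819],
   .loop none [.bwd 21901, .fwd 7853, .fwd 21819],
   .loop none [.bwd 21968, .bwd 19114, .fwd 21820],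
   .loop none [.bwd 22006, .bwd 10219, .fwd 21820],
   .loop none [.bwd 21896, .fwd 19416, .fwd 21820],
   .loop none [.bwd 21902, .fwd 19459, .fwd 21821],
   .loop none [.bwd 21971, .fwd 3642, .fwd 21821],
   .loop none [.bwd 21856, .bwd 3643, .fwd 21821],
   .loop none [.bwd 21918, .bwd 21410, .fwd 21821],
   .loop none [.bwd 21849, .fwd 8059, .fwd 21821],
   .loop none [.bwd 21903, .fwd 12496, .fwd 21822],
   .loop none [.bwd 21972, .bwd 11331, .fwd 21822],
   .loop none [.bwd 21906, .fwd 11330, .fwd 21822],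
   .loop none [.bwd 22008, .bwd 18887, .fwd 21822],
   .loop none [.bwd 21826, .bwd 12443, .fwd 21822],
   .loop none [.bwd 21823, .bwd 18888, .fwd 21822],
   .loop none [.bwd 21904, .fwd 4190, .fwd 21823],
   .loop none [.bwd 21973, .bwd 4191, .fwd 21823],
   .loop none [.bwd 21907, .bwd 18580, .fwd 21823],
   .loop none [.bwd 21849, .fwd 8237, .fwd 21823],
   .loop none [.bwd 21825, .fwd 18880, .fwd 21823],
   .loop none [.bwd 21826, .bwd 18585, .fwd 21823],
   .loop none [.bwd 21905, .fwd 20952, .fwd 21824],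
   .loop none [.bwd 21974, .fwd 7959, .fwd 21824],
   .loop none [.bwd 21906, .fwd 12308, .fwd 21825],
   .loop none [.bwd 21975, .bwd 18876, .fwd 21825],
   .loop none [.bwd 21903, .fwd 11512, .fwd 21825],
   .loop none [.bwd 22012, .bwd 18877, .fwd 21825],
   .loop none [.bwd 21826, .bwd 12432, .fwd 21825],
   .loop none [.bwd 21907, .bwd 12384, .fwd 21826],
   .loop none [.bwd 21976, .fwd 18822, .fwd 21826],
   .loop none [.bwd 21904, .fwd 18864, .fwd 21826],
   .loop none [.bwd 22013, .fwd 21429, .fwd 21826],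
   .loop none [.bwd 21856, .bwd 19365, .fwd 21827],
   .loop none [.bwd 21847, .bwd 7682, .fwd 21827],
   .loop none [.bwd 21930, .fwd 21283, .fwd 21827],
   .loop none [.bwd 21929, .bwd 7791, .fwd 21827],
   .loop none [.bwd 21918, .fwd 21408, .fwd 21828],
   .loop none [.bwd 21983, .bwd 3126, .fwd 21828],
   .loop none [.bwd 22007, .bwd 21186, .fwd 21829],
   .loop none [.bwd 21984, .fwd 20684, .fwd 21829],
   .loop none [.bwd 21930, .bwd 17468, .fwd 21829],
   .loop none [.bwd 21910, .bwd 9761, .fwd 21829],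
   .loop none [.bwd 21926, .bwd 21185, .fwd 21829],
   .loop none [.bwd 21913, .bwd 17470, .fwd 21829],
   .loop none [.bwd 22008, .bwd 17859, .fwd 21830],
   .loop none [.bwd 21985, .bwd 2023, .fwd 21830],
   .loop none [.bwd 21929, .fwd 19368, .fwd 21830],
   .loop none [.bwd 21915, .fwd 19044, .fwd 21830],
   .loop none [.bwd 21831, .bwd 7377, .fwd 21830],
   .loop none [.bwd 21849, .fwd 17377, .fwd 21831],
   .loop none [.bwd 21986, .bwd 18743, .fwd 21831],
   .loop none [.bwd 21840, .bwd 20617, .fwd 21831],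
   .loop none [.bwd 22009, .bwd 19634, .fwd 21832],
   .loop none [.bwd 21908, .bwd 7747, .fwd 21832],
   .loop none [.bwd 22010, .fwd 20248, .fwd 21833],
   .loop none [.bwd 21987, .fwd 20264, .fwd 21833],
   .loop none [.bwd 22021, .bwd 20785, .fwd 21833]]

theorem just94_len : just94.length = 250 := by decide +kernel

theorem just94_ok : cert.okFacts 23500 just94 = true := by decide +kernel

/-- justifications -/
noncomputable def just95 : List Cert.Just :=
  [.loop none [.bwd 21913, .bwd 20786, .fwd 21833],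
   .loop none [.bwd 21910, .bwd 20787, .fwd 21833],
   .loop none [.bwd 22011, .fwd 20480, .fwd 21834],
   .loop none [.bwd 21988, .bwd 6245, .fwd 21834],
   .loop none [.bwd 22020, .fwd 20317, .fwd 21834],
   .loop none [.bwd 21912, .bwd 3339, .fwd 21834],
   .loop none [.bwd 22012, .bwd 19065, .fwd 21835],
   .loop none [.bwd 21989, .bwd 6342, .fwd 21835],
   .loop none [.bwd 22022, .fwd 2872, .fwd 21835],
   .loop none [.bwd 21836, .bwd 7251, .fwd 21835],
   .loop none [.bwd 22013, .fwd 21427, .fwd 21836],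
   .loop none [.bwd 21990, .bwd 6381, .fwd 21836],
   .loop none [.bwd 22023, .fwd 17191, .fwd 21836],
   .loop none [.bwd 21911, .fwd 7913, .fwd 21836],
   .loop none [.bwd 21916, .bwd 20766, .fwd 21837],
   .loop none [.bwd 21992, .fwd 3907, .fwd 21837],
   .loop none [.bwd 21924, .bwd 20769, .fwd 21837],
   .loop none [.bwd 21983, .fwd 19877, .fwd 21837],
   .loop none [.bwd 21917, .bwd 21239, .fwd 21838],
   .loop none [.bwd 21930, .bwd 4136, .fwd 21838],
   .loop none [.bwd 22033, .bwd 17159, .fwd 21838],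
   .loop none [.bwd 22031, .fwd 4135, .fwd 21838],
   .loop none [.bwd 21914, .bwd 21313, .fwd 21838],
   .loop none [.bwd 22018, .bwd 17160, .fwd 21838],
   .loop none [.bwd 21925, .fwd 8274, .fwd 21838],
   .loop none [.bwd 21919, .bwd 7795, .fwd 21839],
   .loop none [.bwd 21929, .fwd 7792, .fwd 21839],
   .loop none [.bwd 22034, .fwd 19852, .fwd 21839],
   .loop none [.bwd 21926, .bwd 3058, .fwd 21839],
   .loop none [.bwd 22017, .bwd 20726, .fwd 21839],
   .loop none [.bwd 21927, .fwd 7685, .fwd 21839],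
   .loop none [.bwd 21840, .bwd 7659, .fwd 21839],
   .loop none [.bwd 21920, .fwd 16773, .fwd 21840],
   .loop none [.bwd 22035, .fwd 20673, .fwd 21840],
   .loop none [.bwd 21927, .bwd 3313, .fwd 21840],
   .loop none [.bwd 21921, .fwd 17958, .fwd 21841],
   .loop none [.bwd 22014, .fwd 7880, .fwd 21841],
   .loop none [.bwd 21923, .fwd 21324, .fwd 21841],
   .loop none [.bwd 21853, .fwd 21330, .fwd 21841],
   .loop none [.bwd 21859, .bwd 7770, .fwd 21841],
   .loop none [.bwd 21922, .fwd 7813, .fwd 21841],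
   .loop none [.bwd 21860, .bwd 19888, .fwd 21842],
   .loop none [.bwd 22015, .bwd 2974, .fwd 21842],
   .loop none [.bwd 22015, .bwd 21164, .fwd 21842],
   .loop none [.bwd 21859, .fwd 2973, .fwd 21842],
   .loop none [.bwd 21928, .fwd 20488, .fwd 21842],
   .loop none [.bwd 21843, .bwd 7814, .fwd 21842],
   .loop none [.bwd 21853, .fwd 18045, .fwd 21843],
   .loop none [.bwd 22016, .bwd 3015, .fwd 21843],
   .loop none [.bwd 22016, .bwd 21152, .fwd 21843],
   .loop none [.bwd 21922, .fwd 3014, .fwd 21843],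
   .loop none [.bwd 21921, .bwd 21263, .fwd 21843],
   .loop none [.bwd 21858, .bwd 19630, .fwd 21844],
   .loop none [.bwd 21926, .fwd 3059, .fwd 21844],
   .loop none [.bwd 21914, .fwd 19361, .fwd 21844],
   .loop none [.bwd 21929, .fwd 7837, .fwd 21844],
   .loop none [.bwd 21928, .bwd 7849, .fwd 21844],
   .loop none [.bwd 21847, .fwd 7847, .fwd 21844],
   .loop none [.bwd 21854, .bwd 8228, .fwd 21845],
   .loop none [.bwd 22017, .fwd 8222, .fwd 21845],
   .loop none [.bwd 22018, .bwd 20515, .fwd 21845],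
   .loop none [.bwd 21854, .bwd 8198, .fwd 21845],
   .loop none [.bwd 21846, .bwd 21288, .fwd 21845],
   .loop none [.bwd 21929, .fwd 20602, .fwd 21845],
   .loop none [.bwd 21922, .bwd 21289, .fwd 21846],
   .loop none [.bwd 22018, .bwd 2795, .fwd 21846],
   .loop none [.bwd 22017, .bwd 20763, .fwd 21846],
   .loop none [.bwd 21853, .fwd 2794, .fwd 21846],
   .loop none [.bwd 21921, .bwd 17252, .fwd 21846],
   .loop none [.bwd 21930, .fwd 17301, .fwd 21846],
   .loop none [.bwd 21923, .bwd 19628, .fwd 21847],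
   .loop none [.bwd 21921, .fwd 21253, .fwd 21847],
   .loop none [.bwd 21928, .fwd 7689, .fwd 21847],
   .loop none [.bwd 21924, .fwd 8187, .fwd 21848],
   .loop none [.bwd 21916, .fwd 20063, .fwd 21848],
   .loop none [.bwd 22020, .bwd 8238, .fwd 21849],
   .loop none [.bwd 22039, .fwd 4067, .fwd 21849],
   .loop none [.bwd 21920, .fwd 20624, .fwd 21849],
   .loop none [.bwd 22008, .fwd 8102, .fwd 21849],
   .loop none [.bwd 21925, .bwd 19908, .fwd 21850],
   .loop none [.bwd 22021, .bwd 3831, .fwd 21850],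
   .loop none [.bwd 22040, .bwd 19909, .fwd 21850],
   .loop none [.bwd 21917, .bwd 17474, .fwd 21850],
   .loop none [.bwd 21926, .fwd 7796, .fwd 21851],
   .loop none [.bwd 22022, .fwd 7727, .fwd 21851],
   .loop none [.bwd 22041, .fwd 20238, .fwd 21851],
   .loop none [.bwd 21919, .bwd 3006, .fwd 21851],
   .loop none [.bwd 22007, .bwd 21188, .fwd 21851],
   .loop none [.bwd 21852, .fwd 17017, .fwd 21851],
   .loop none [.bwd 21927, .bwd 17013, .fwd 21852],
   .loop none [.bwd 22023, .bwd 2787, .fwd 21852],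
   .loop none [.bwd 22042, .fwd 17196, .fwd 21852],
   .loop none [.bwd 21920, .fwd 2786, .fwd 21852],
   .loop none [.bwd 21919, .bwd 17015, .fwd 21852],
   .loop none [.bwd 22024, .fwd 17254, .fwd 21853],
   .loop none [.bwd 22044, .fwd 2793, .fwd 21853],
   .loop none [.bwd 21860, .fwd 19672, .fwd 21853],
   .loop none [.bwd 22025, .fwd 3931, .fwd 21854],
   .loop none [.bwd 22045, .fwd 20862, .fwd 21854],
   .loop none [.bwd 21922, .bwd 21387, .fwd 21854],
   .loop none [.bwd 21857, .fwd 20450, .fwd 21854],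
   .loop none [.bwd 21928, .fwd 19348, .fwd 21855],
   .loop none [.bwd 22026, .bwd 4070, .fwd 21855],
   .loop none [.bwd 21857, .bwd 20326, .fwd 21855],
   .loop none [.bwd 21860, .bwd 20327, .fwd 21855],
   .loop none [.bwd 21923, .bwd 8061, .fwd 21855],
   .loop none [.bwd 21858, .fwd 8106, .fwd 21855],
   .loop none [.bwd 22027, .bwd 17586, .fwd 21856],
   .loop none [.bwd 21923, .bwd 3644, .fwd 21856],
   .loop none [.bwd 21859, .fwd 21329, .fwd 21856],
   .loop none [.bwd 21857, .bwd 8103, .fwd 21856],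
   .loop none [.bwd 21929, .fwd 19367, .fwd 21857],
   .loop none [.bwd 22028, .fwd 17736, .fwd 21857],
   .loop none [.bwd 22008, .fwd 3707, .fwd 21857],
   .loop none [.bwd 21858, .bwd 3708, .fwd 21857],
   .loop none [.bwd 22029, .bwd 3709, .fwd 21858],
   .loop none [.bwd 22046, .bwd 17740, .fwd 21858],
   .loop none [.bwd 21923, .fwd 8105, .fwd 21858],
   .loop none [.bwd 21930, .fwd 17957, .fwd 21859],
   .loop none [.bwd 22030, .fwd 7769, .fwd 21859],
   .loop none [.bwd 22007, .fwd 2972, .fwd 21859],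
   .loop none [.bwd 21922, .bwd 7812, .fwd 21859],
   .loop none [.bwd 22031, .bwd 19669, .fwd 21860],
   .loop none [.bwd 22047, .bwd 19670, .fwd 21860],
   .loop none [.bwd 21930, .bwd 19671, .fwd 21860],
   .loop none [.bwd 21861, .bwd 4619, .fwd 21861],
   .loop none [.bwd 22049, .fwd 16652, .fwd 21862],
   .loop none [.bwd 22052, .bwd 538, .fwd 21862],
   .loop none [.bwd 22050, .bwd 551, .fwd 21863],
   .loop none [.bwd 22055, .bwd 6095, .fwd 21863],
   .loop none [.bwd 22051, .bwd 3750, .fwd 21864],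
   .loop none [.bwd 21887, .bwd 5795, .fwd 21864],
   .loop none [.bwd 21886, .fwd 18994, .fwd 21864],
   .loop none [.bwd 22052, .fwd 6052, .fwd 21865],
   .loop none [.bwd 22058, .bwd 5923, .fwd 21865],
   .loop none [.bwd 21869, .bwd 442, .fwd 21865],
   .loop none [.bwd 21866, .bwd 6005, .fwd 21865],
   .loop none [.bwd 22053, .fwd 6075, .fwd 21866],
   .loop none [.bwd 22059, .fwd 422, .fwd 21866],
   .loop none [.bwd 21868, .bwd 423, .fwd 21866],
   .loop none [.bwd 21869, .fwd 443, .fwd 21866],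
   .loop none [.bwd 22054, .fwd 5987, .fwd 21867],
   .loop none [.bwd 22055, .bwd 5990, .fwd 21868],
   .loop none [.bwd 22063, .fwd 19206, .fwd 21868],
   .loop none [.bwd 21869, .fwd 5931, .fwd 21868],
   .loop none [.bwd 22056, .fwd 6084, .fwd 21869],
   .loop none [.bwd 22064, .fwd 19214, .fwd 21869],
   .loop none [.bwd 22063, .fwd 19204, .fwd 21870],
   .loop none [.bwd 21959, .bwd 21160, .fwd 21870],
   .loop none [.bwd 21877, .fwd 18991, .fwd 21870],
   .loop none [.bwd 21886, .bwd 4079, .fwd 21871],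
   .loop none [.bwd 22065, .fwd 20114, .fwd 21871],
   .loop none [.bwd 21966, .bwd 21053, .fwd 21871],
   .loop none [.bwd 21968, .bwd 8070, .fwd 21871],
   .loop none [.bwd 21963, .fwd 8123, .fwd 21871],
   .loop none [.bwd 22057, .bwd 20438, .fwd 21872],
   .loop none [.bwd 21959, .bwd 20439, .fwd 21872],
   .loop none [.bwd 21953, .bwd 21170, .fwd 21872],
   .loop none [.bwd 21964, .bwd 20440, .fwd 21872],
   .loop none [.bwd 22058, .fwd 19200, .fwd 21873],
   .loop none [.bwd 21877, .bwd 17867, .fwd 21873],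
   .loop none [.bwd 21874, .bwd 18983, .fwd 21873],
   .loop none [.bwd 22059, .fwd 16131, .fwd 21874],
   .loop none [.bwd 22061, .fwd 21037, .fwd 21875],
   .loop none [.bwd 22068, .bwd 5465, .fwd 21875],
   .loop none [.bwd 21958, .fwd 21437, .fwd 21875],
   .loop none [.bwd 21960, .bwd 21034, .fwd 21875],
   .loop none [.bwd 22062, .fwd 6130, .fwd 21876],
   .loop none [.bwd 21956, .bwd 20611, .fwd 21876],
   .loop none [.bwd 22064, .bwd 7248, .fwd 21877],
   .loop none [.bwd 21957, .fwd 10128, .fwd 21877],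
   .loop none [.bwd 22049, .fwd 6225, .fwd 21878],
   .loop none [.bwd 22050, .bwd 4615, .fwd 21878],
   .loop none [.bwd 22072, .bwd 4602, .fwd 21878],
   .loop none [.bwd 22050, .fwd 16411, .fwd 21879],
   .loop none [.bwd 22049, .fwd 16653, .fwd 21879],
   .loop none [.bwd 22075, .bwd 6271, .fwd 21879],
   .loop none [.bwd 22071, .bwd 19507, .fwd 21880],
   .loop none [.bwd 22072, .fwd 6231, .fwd 21881],
   .loop none [.bwd 22055, .fwd 6094, .fwd 21881],
   .loop none [.bwd 22080, .fwd 19219, .fwd 21881],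
   .loop none [.bwd 21885, .bwd 603, .fwd 21881],
   .loop none [.bwd 21882, .bwd 5908, .fwd 21881],
   .loop none [.bwd 22073, .fwd 6261, .fwd 21882],
   .loop none [.bwd 22056, .fwd 6086, .fwd 21882],
   .loop none [.bwd 22081, .fwd 590, .fwd 21882],
   .loop none [.bwd 21884, .bwd 591, .fwd 21882],
   .loop none [.bwd 21885, .fwd 604, .fwd 21882],
   .loop none [.bwd 22074, .fwd 5935, .fwd 21883],
   .loop none [.bwd 22035, .bwd 620, .fwd 21883],
   .loop none [.bwd 22075, .bwd 5936, .fwd 21884],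
   .loop none [.bwd 22052, .fwd 6054, .fwd 21884],
   .loop none [.bwd 22084, .bwd 5916, .fwd 21884],
   .loop none [.bwd 21885, .bwd 5934, .fwd 21884],
   .loop none [.bwd 22076, .bwd 6263, .fwd 21885],
   .loop none [.bwd 22053, .fwd 6077, .fwd 21885],
   .loop none [.bwd 22085, .bwd 5904, .fwd 21885],
   .loop none [.bwd 21887, .fwd 16537, .fwd 21886],
   .loop none [.bwd 22077, .bwd 8250, .fwd 21886],
   .loop none [.bwd 22060, .bwd 8249, .fwd 21886],
   .loop none [.bwd 22078, .bwd 3827, .fwd 21887],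
   .loop none [.bwd 21891, .fwd 3826, .fwd 21887],
   .loop none [.bwd 22002, .bwd 19116, .fwd 21887],
   .loop none [.bwd 22006, .bwd 19118, .fwd 21887],
   .loop none [.bwd 21999, .fwd 19129, .fwd 21887],
   .loop none [.bwd 22057, .bwd 20354, .fwd 21888],
   .loop none [.bwd 22079, .fwd 3129, .fwd 21888],
   .loop none [.bwd 22086, .bwd 20689, .fwd 21888],
   .loop none [.bwd 22004, .bwd 20356, .fwd 21888],
   .loop none [.bwd 22000, .bwd 7781, .fwd 21888],
   .loop none [.bwd 22058, .bwd 19480, .fwd 21889],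
   .loop none [.bwd 22080, .fwd 1973, .fwd 21889],
   .loop none [.bwd 22087, .fwd 19716, .fwd 21889],
   .loop none [.bwd 21890, .fwd 19499, .fwd 21889],
   .loop none [.bwd 22059, .bwd 16256, .fwd 21890],
   .loop none [.bwd 22081, .fwd 5886, .fwd 21890],
   .loop none [.bwd 22088, .fwd 7278, .fwd 21890],
   .loop none [.bwd 22060, .bwd 16405, .fwd 21891],
   .loop none [.bwd 22082, .fwd 20935, .fwd 21891],
   .loop none [.bwd 21897, .bwd 20924, .fwd 21891],
   .loop none [.bwd 21998, .bwd 6476, .fwd 21891],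
   .loop none [.bwd 21994, .fwd 19811, .fwd 21891],
   .loop none [.bwd 21997, .bwd 8193, .fwd 21891],
   .loop none [.bwd 22061, .bwd 20006, .fwd 21892],
   .loop none [.bwd 22083, .bwd 7703, .fwd 21892],
   .loop none [.bwd 21994, .bwd 2860, .fwd 21892],
   .loop none [.bwd 21994, .fwd 19812, .fwd 21892],
   .loop none [.bwd 21996, .fwd 7702, .fwd 21892],
   .loop none [.bwd 22062, .bwd 16408, .fwd 21893],
   .loop none [.bwd 22035, .fwd 6310, .fwd 21893],
   .loop none [.bwd 21998, .bwd 6469, .fwd 21893],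
   .loop none [.bwd 21992, .fwd 18804, .fwd 21893],
   .loop none [.bwd 22063, .fwd 19203, .fwd 21894],
   .loop none [.bwd 22084, .bwd 7538, .fwd 21894],
   .loop none [.bwd 22091, .fwd 4330, .fwd 21894],
   .loop none [.bwd 21995, .fwd 20753, .fwd 21894],
   .loop none [.bwd 22091, .fwd 19122, .fwd 21894],
   .loop none [.bwd 21895, .fwd 7649, .fwd 21894],
   .loop none [.bwd 22064, .fwd 19212, .fwd 21895],
   .loop none [.bwd 22085, .bwd 7645, .fwd 21895],
   .loop none [.bwd 21997, .fwd 3297, .fwd 21895],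
   .loop none [.bwd 21993, .fwd 19739, .fwd 21895],
   .loop none [.bwd 22065, .fwd 20112, .fwd 21896],
   .loop none [.bwd 22091, .bwd 4329, .fwd 21896],
   .loop none [.bwd 21897, .fwd 20908, .fwd 21896],
   .loop none [.bwd 22066, .bwd 20901, .fwd 21897],
   .loop none [.bwd 22067, .bwd 21271, .fwd 21898],
   .loop none [.bwd 22089, .bwd 19902, .fwd 21898],
   .loop none [.bwd 22068, .fwd 21021, .fwd 21899],
   .loop none [.bwd 22090, .bwd 5504, .fwd 21899]]

theorem just95_len : just95.length = 250 := by decide +kernel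

theorem just95_ok : cert.okFacts 23750 just95 = true := by decide +kernel


end CfsgLib.ThCent.DK
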