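import Cfsg.Agent.Lib.ThCent.DKData

/-!
Justifications of the side facts (generated data).
-/

namespace CfsgLib.ThCent.DK

open CfsgLib.PresCert

set_option maxRecDepth 100000

/-- justifications -/
noncomputable def just96 : List Cert.Just :=
  [.loop none [.bwd 22069, .bwd 20530, .fwd 21900],
   .loop none [.bwd 22092, .fwd 17209, .fwd 21900],
   .loop none [.bwd 21901, .fwd 10067, .fwd 21900],
   .loop none [.bwd 22070, .bwd 20545, .fwd 21901],
   .loop none [.bwd 22093, .fwd 20679, .fwd 21901],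
   .loop none [.bwd 22071, .fwd 17820, .fwd 21902],
   .loop none [.bwd 22027, .bwd 19460, .fwd 21902],
   .loop none [.bwd 22043, .bwd 21209, .fwd 21902],
   .loop none [.bwd 22020, .bwd 19462, .fwd 21902],
   .loop none [.bwd 22072, .fwd 11511, .fwd 21903],
   .loop none [.bwd 22095, .bwd 19184, .fwd 21903],
   .loop none [.bwd 21907, .fwd 12508, .fwd 21903],
   .loop none [.bwd 21904, .bwd 19185, .fwd 21903],
   .loop none [.bwd 22073, .bwd 18863, .fwd 21904],
   .loop none [.bwd 22020, .fwd 4189, .fwd 21904],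
   .loop none [.bwd 21906, .bwd 18867, .fwd 21904],
   .loop none [.bwd 21907, .bwd 18868, .fwd 21904],
   .loop none [.bwd 22074, .bwd 20953, .fwd 21905],
   .loop none [.bwd 21923, .fwd 20963, .fwd 21905],
   .loop none [.bwd 22036, .bwd 21218, .fwd 21905],
   .loop none [.bwd 21920, .bwd 20957, .fwd 21905],
   .loop none [.bwd 22046, .bwd 20958, .fwd 21905],
   .loop none [.bwd 22048, .bwd 21181, .fwd 21905],
   .loop none [.bwd 22075, .fwd 11329, .fwd 21906],
   .loop none [.bwd 22046, .bwd 19186, .fwd 21906],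
   .loop none [.bwd 21907, .bwd 12480, .fwd 21906],
   .loop none [.bwd 22076, .fwd 11474, .fwd 21907],
   .loop none [.bwd 22048, .fwd 21051, .fwd 21907],
   .loop none [.bwd 22027, .bwd 19865, .fwd 21908],
   .loop none [.bwd 22043, .bwd 21403, .fwd 21908],
   .loop none [.bwd 22011, .fwd 7756, .fwd 21908],
   .loop none [.bwd 22043, .fwd 21412, .fwd 21909],
   .loop none [.bwd 22078, .bwd 17154, .fwd 21909],
   .loop none [.bwd 22043, .fwd 3289, .fwd 21909],
   .loop none [.bwd 21925, .bwd 3290, .fwd 21909],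
   .loop none [.bwd 22027, .bwd 21184, .fwd 21909],
   .loop none [.bwd 22031, .bwd 8272, .fwd 21909],
   .loop none [.bwd 22024, .fwd 7968, .fwd 21909],
   .loop none [.bwd 22094, .fwd 21187, .fwd 21910],
   .loop none [.bwd 22079, .fwd 20842, .fwd 21910],
   .loop none [.bwd 22097, .bwd 17767, .fwd 21910],
   .loop none [.bwd 22029, .bwd 21189, .fwd 21910],
   .loop none [.bwd 22025, .fwd 20760, .fwd 21910],
   .loop none [.bwd 22095, .bwd 21227, .fwd 21911],
   .loop none [.bwd 22080, .bwd 19362, .fwd 21911],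
   .loop none [.bwd 22098, .bwd 7729, .fwd 21911],
   .loop none [.bwd 21912, .bwd 7612, .fwd 21911],
   .loop none [.bwd 22020, .fwd 19177, .fwd 21912],
   .loop none [.bwd 22081, .bwd 6252, .fwd 21912],
   .loop none [.bwd 22011, .bwd 7609, .fwd 21912],
   .loop none [.bwd 22009, .fwd 20260, .fwd 21912],
   .loop none [.bwd 22036, .fwd 21018, .fwd 21913],
   .loop none [.bwd 22083, .bwd 20775, .fwd 21913],
   .loop none [.bwd 21921, .fwd 17153, .fwd 21913],
   .loop none [.bwd 22016, .fwd 21250, .fwd 21913],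
   .loop none [.bwd 22017, .fwd 20654, .fwd 21913],
   .loop none [.bwd 22046, .bwd 21219, .fwd 21914],
   .loop none [.bwd 22084, .bwd 19360, .fwd 21914],
   .loop none [.bwd 21926, .bwd 21014, .fwd 21914],
   .loop none [.bwd 21915, .bwd 7562, .fwd 21914],
   .loop none [.bwd 22048, .bwd 21225, .fwd 21915],
   .loop none [.bwd 22085, .bwd 19040, .fwd 21915],
   .loop none [.bwd 21928, .fwd 19351, .fwd 21915],
   .loop none [.bwd 22015, .fwd 20089, .fwd 21915],
   .loop none [.bwd 22041, .bwd 4269, .fwd 21916],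
   .loop none [.bwd 22038, .fwd 20734, .fwd 21916],
   .loop none [.bwd 22097, .fwd 12127, .fwd 21917],
   .loop none [.bwd 22101, .bwd 12128, .fwd 21917],
   .loop none [.bwd 22046, .bwd 21232, .fwd 21917],
   .loop none [.bwd 22045, .fwd 20866, .fwd 21917],
   .loop none [.bwd 22043, .bwd 17382, .fwd 21918],
   .loop none [.bwd 22102, .fwd 8835, .fwd 21918],
   .loop none [.bwd 22021, .bwd 10171, .fwd 21918],
   .loop none [.bwd 22047, .bwd 10567, .fwd 21918],
   .loop none [.bwd 22044, .fwd 10568, .fwd 21918],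
   .loop none [.bwd 22098, .bwd 3007, .fwd 21919],
   .loop none [.bwd 22103, .fwd 20048, .fwd 21919],
   .loop none [.bwd 21920, .fwd 16781, .fwd 21919],
   .loop none [.bwd 22011, .fwd 17005, .fwd 21920],
   .loop none [.bwd 22038, .fwd 20732, .fwd 21920],
   .loop none [.bwd 21925, .fwd 3291, .fwd 21921],
   .loop none [.bwd 21930, .bwd 8276, .fwd 21921],
   .loop none [.bwd 22099, .fwd 7711, .fwd 21922],
   .loop none [.bwd 22105, .fwd 20428, .fwd 21922],
   .loop none [.bwd 22009, .bwd 3645, .fwd 21923],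
   .loop none [.bwd 21998, .bwd 20745, .fwd 21924],
   .loop none [.bwd 22035, .bwd 20746, .fwd 21924],
   .loop none [.bwd 21986, .bwd 20747, .fwd 21924],
   .loop none [.bwd 22082, .fwd 20940, .fwd 21924],
   .loop none [.bwd 22032, .fwd 20045, .fwd 21924],
   .loop none [.bwd 22082, .fwd 20936, .fwd 21925],
   .loop none [.bwd 22016, .bwd 21262, .fwd 21925],
   .loop none [.bwd 22018, .fwd 17084, .fwd 21925],
   .loop none [.bwd 22032, .fwd 20043, .fwd 21926],
   .loop none [.bwd 21927, .bwd 7840, .fwd 21926],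
   .loop none [.bwd 21928, .bwd 3314, .fwd 21927],
   .loop none [.bwd 22106, .fwd 17029, .fwd 21927],
   .loop none [.bwd 22015, .bwd 20629, .fwd 21927],
   .loop none [.bwd 21929, .bwd 7838, .fwd 21928],
   .loop none [.bwd 22049, .fwd 18845, .fwd 21931],
   .loop none [.bwd 21978, .fwd 3639, .fwd 21931],
   .loop none [.bwd 22108, .bwd 8094, .fwd 21931],
   .loop none [.bwd 22050, .fwd 6112, .fwd 21932],
   .loop none [.bwd 21977, .fwd 16717, .fwd 21932],
   .loop none [.bwd 22111, .fwd 16668, .fwd 21932],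
   .loop none [.bwd 21977, .fwd 18576, .fwd 21933],
   .loop none [.bwd 21969, .bwd 3280, .fwd 21933],
   .loop none [.bwd 22113, .bwd 7950, .fwd 21933],
   .loop none [.bwd 21978, .fwd 18364, .fwd 21934],
   .loop none [.bwd 21970, .bwd 4435, .fwd 21934],
   .loop none [.bwd 21934, .fwd 18272, .fwd 21934],
   .loop none [.bwd 22115, .bwd 6190, .fwd 21934],
   .loop none [.bwd 22107, .fwd 18848, .fwd 21935],
   .loop none [.bwd 22051, .fwd 3751, .fwd 21935],
   .loop none [.bwd 21935, .fwd 18644, .fwd 21935],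
   .loop none [.bwd 22108, .fwd 18572, .fwd 21936],
   .loop none [.bwd 22052, .bwd 6187, .fwd 21936],
   .loop none [.bwd 22115, .bwd 6166, .fwd 21936],
   .loop none [.bwd 22119, .fwd 6202, .fwd 21936],
   .loop none [.bwd 21940, .bwd 533, .fwd 21936],
   .loop none [.bwd 21937, .bwd 6139, .fwd 21936],
   .loop none [.bwd 22109, .fwd 18346, .fwd 21937],
   .loop none [.bwd 22053, .bwd 6177, .fwd 21937],
   .loop none [.bwd 22116, .bwd 6215, .fwd 21937],
   .loop none [.bwd 22120, .fwd 520, .fwd 21937],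
   .loop none [.bwd 21939, .bwd 521, .fwd 21937],
   .loop none [.bwd 21940, .fwd 534, .fwd 21937],
   .loop none [.bwd 22110, .fwd 19174, .fwd 21938],
   .loop none [.bwd 22054, .bwd 6099, .fwd 21938],
   .loop none [.bwd 22111, .fwd 16665, .fwd 21939],
   .loop none [.bwd 22055, .fwd 6102, .fwd 21939],
   .loop none [.bwd 22113, .bwd 18411, .fwd 21939],
   .loop none [.bwd 22123, .fwd 18649, .fwd 21939],
   .loop none [.bwd 21940, .fwd 6155, .fwd 21939],
   .loop none [.bwd 22112, .fwd 16641, .fwd 21940],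
   .loop none [.bwd 22056, .bwd 6153, .fwd 21940],
   .loop none [.bwd 22114, .bwd 18656, .fwd 21940],
   .loop none [.bwd 22124, .fwd 18955, .fwd 21940],
   .loop none [.bwd 22113, .bwd 4124, .fwd 21941],
   .loop none [.bwd 21944, .bwd 18198, .fwd 21941],
   .loop none [.bwd 21942, .bwd 7599, .fwd 21941],
   .loop none [.bwd 22114, .bwd 4312, .fwd 21942],
   .loop none [.bwd 21943, .bwd 6428, .fwd 21942],
   .loop none [.bwd 21944, .bwd 18298, .fwd 21942],
   .loop none [.bwd 22115, .fwd 18273, .fwd 21943],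
   .loop none [.bwd 21943, .fwd 18205, .fwd 21943],
   .loop none [.bwd 21944, .bwd 18207, .fwd 21943],
   .loop none [.bwd 22116, .bwd 8308, .fwd 21944],
   .loop none [.bwd 21944, .fwd 18159, .fwd 21944],
   .loop none [.bwd 22117, .fwd 3649, .fwd 21945],
   .loop none [.bwd 21946, .fwd 19981, .fwd 21945],
   .loop none [.bwd 22118, .bwd 19979, .fwd 21946],
   .loop none [.bwd 22057, .fwd 9095, .fwd 21946],
   .loop none [.bwd 22061, .fwd 19308, .fwd 21946],
   .loop none [.bwd 22119, .fwd 18645, .fwd 21947],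
   .loop none [.bwd 21947, .fwd 18456, .fwd 21947],
   .loop none [.bwd 22064, .fwd 19217, .fwd 21947],
   .loop none [.bwd 21948, .bwd 18461, .fwd 21947],
   .loop none [.bwd 22120, .bwd 6132, .fwd 21948],
   .loop none [.bwd 21948, .fwd 18283, .fwd 21948],
   .loop none [.bwd 22062, .fwd 481, .fwd 21948],
   .loop none [.bwd 22121, .fwd 19770, .fwd 21949],
   .loop none [.bwd 22061, .bwd 4930, .fwd 21949],
   .loop none [.bwd 22088, .fwd 7280, .fwd 21949],
   .loop none [.bwd 22057, .bwd 19010, .fwd 21949],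
   .loop none [.bwd 22122, .bwd 6066, .fwd 21950],
   .loop none [.bwd 22059, .bwd 421, .fwd 21950],
   .loop none [.bwd 22086, .fwd 10152, .fwd 21950],
   .loop none [.bwd 22123, .fwd 7331, .fwd 21951],
   .loop none [.bwd 21952, .bwd 7340, .fwd 21951],
   .loop none [.bwd 22124, .fwd 7246, .fwd 21952],
   .loop none [.bwd 22087, .fwd 17491, .fwd 21952],
   .loop none [.bwd 22058, .bwd 18714, .fwd 21952],
   .loop none [.bwd 21959, .bwd 21159, .fwd 21953],
   .loop none [.bwd 22136, .bwd 20916, .fwd 21953],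
   .loop none [.bwd 21967, .bwd 20919, .fwd 21953],
   .loop none [.bwd 21965, .fwd 20930, .fwd 21953],
   .loop none [.bwd 22068, .fwd 21027, .fwd 21953],
   .loop none [.bwd 22065, .bwd 20282, .fwd 21954],
   .loop none [.bwd 22137, .fwd 17137, .fwd 21954],
   .loop none [.bwd 21957, .bwd 3652, .fwd 21954],
   .loop none [.bwd 21966, .bwd 21439, .fwd 21954],
   .loop none [.bwd 22067, .bwd 8119, .fwd 21954],
   .loop none [.bwd 21955, .fwd 8068, .fwd 21954],
   .loop none [.bwd 22066, .fwd 8247, .fwd 21955],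
   .loop none [.bwd 22125, .fwd 19514, .fwd 21955],
   .loop none [.bwd 21958, .fwd 16982, .fwd 21955],
   .loop none [.bwd 22068, .bwd 21447, .fwd 21955],
   .loop none [.bwd 21963, .fwd 21055, .fwd 21955],
   .loop none [.bwd 22067, .fwd 8120, .fwd 21955],
   .loop none [.bwd 21966, .fwd 5467, .fwd 21956],
   .loop none [.bwd 22126, .bwd 5468, .fwd 21956],
   .loop none [.bwd 21966, .fwd 21081, .fwd 21956],
   .loop none [.bwd 21962, .bwd 20490, .fwd 21956],
   .loop none [.bwd 22065, .bwd 21433, .fwd 21956],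
   .loop none [.bwd 22070, .fwd 20731, .fwd 21956],
   .loop none [.bwd 21968, .bwd 3653, .fwd 21957],
   .loop none [.bwd 22127, .fwd 17234, .fwd 21957],
   .loop none [.bwd 22067, .bwd 17070, .fwd 21957],
   .loop none [.bwd 22069, .bwd 19299, .fwd 21957],
   .loop none [.bwd 21958, .bwd 8121, .fwd 21957],
   .loop none [.bwd 21963, .bwd 3717, .fwd 21958],
   .loop none [.bwd 22128, .fwd 17168, .fwd 21958],
   .loop none [.bwd 22067, .fwd 3716, .fwd 21958],
   .loop none [.bwd 22066, .bwd 21438, .fwd 21958],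
   .loop none [.bwd 22129, .bwd 21163, .fwd 21959],
   .loop none [.bwd 22070, .fwd 20730, .fwd 21959],
   .loop none [.bwd 22069, .fwd 20462, .fwd 21959],
   .loop none [.bwd 21962, .fwd 20307, .fwd 21959],
   .loop none [.bwd 21964, .bwd 21008, .fwd 21960],
   .loop none [.bwd 22130, .bwd 21009, .fwd 21960],
   .loop none [.bwd 21965, .fwd 20929, .fwd 21960],
   .loop none [.bwd 21964, .fwd 20292, .fwd 21960],
   .loop none [.bwd 21961, .bwd 21180, .fwd 21960],
   .loop none [.bwd 22070, .fwd 21179, .fwd 21960],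
   .loop none [.bwd 22067, .fwd 16977, .fwd 21961],
   .loop none [.bwd 22131, .bwd 16733, .fwd 21961],
   .loop none [.bwd 21968, .fwd 16932, .fwd 21961],
   .loop none [.bwd 21963, .fwd 16747, .fwd 21961],
   .loop none [.bwd 22066, .bwd 16735, .fwd 21961],
   .loop none [.bwd 22065, .fwd 20116, .fwd 21961],
   .loop none [.bwd 22068, .fwd 21022, .fwd 21962],
   .loop none [.bwd 22132, .fwd 5427, .fwd 21962],
   .loop none [.bwd 22066, .bwd 16748, .fwd 21962],
   .loop none [.bwd 22069, .bwd 18682, .fwd 21962],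
   .loop none [.bwd 22088, .bwd 3718, .fwd 21963],
   .loop none [.bwd 22066, .bwd 16746, .fwd 21963],
   .loop none [.bwd 21968, .fwd 8122, .fwd 21963],
   .loop none [.bwd 22133, .bwd 20291, .fwd 21964],
   .loop none [.bwd 22069, .fwd 20459, .fwd 21964],
   .loop none [.bwd 22067, .fwd 21213, .fwd 21964],
   .loop none [.bwd 21967, .bwd 21214, .fwd 21964],
   .loop none [.bwd 22069, .fwd 7934, .fwd 21965],
   .loop none [.bwd 22134, .fwd 10181, .fwd 21965],
   .loop none [.bwd 21967, .bwd 8448, .fwd 21965],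
   .loop none [.bwd 21968, .fwd 18992, .fwd 21965],
   .loop none [.bwd 22068, .fwd 21028, .fwd 21965],
   .loop none [.bwd 22086, .fwd 20777, .fwd 21966],
   .loop none [.bwd 22068, .fwd 5466, .fwd 21966],
   .loop none [.bwd 21967, .fwd 20776, .fwd 21966],
   .loop none [.bwd 22070, .bwd 16425, .fwd 21967],
   .loop none [.bwd 22135, .bwd 10182, .fwd 21967],
   .loop none [.bwd 22070, .fwd 16418, .fwd 21967],
   .loop none [.bwd 22087, .fwd 17488, .fwd 21968],
   .loop none [.bwd 22065, .fwd 20115, .fwd 21968],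
   .loop none [.bwd 21977, .bwd 18614, .fwd 21969],
   .loop none [.bwd 21977, .bwd 16959, .fwd 21969],
   .loop none [.bwd 22138, .bwd 8253, .fwd 21969],
   .loop none [.bwd 21978, .bwd 18389, .fwd 21970],
   .loop none [.bwd 21970, .fwd 18390, .fwd 21970]]

theorem just96_len : just96.length = 250 := by decide +kernel

theorem just96_ok : cert.okFacts 24000 just96 = true := by decide +kernel

/-- justifications -/
noncomputable def just97 : List Cert.Just :=
  [.loop none [.bwd 22140, .bwd 8318, .fwd 21970],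
   .loop none [.bwd 22107, .fwd 3641, .fwd 21971],
   .loop none [.bwd 21971, .fwd 18891, .fwd 21971],
   .loop none [.bwd 22102, .fwd 21413, .fwd 21971],
   .loop none [.bwd 22039, .fwd 8058, .fwd 21971],
   .loop none [.bwd 22108, .bwd 18608, .fwd 21972],
   .loop none [.bwd 22140, .fwd 8340, .fwd 21972],
   .loop none [.bwd 22143, .fwd 18894, .fwd 21972],
   .loop none [.bwd 21976, .fwd 18826, .fwd 21972],
   .loop none [.bwd 21973, .bwd 18609, .fwd 21972],
   .loop none [.bwd 22109, .bwd 8234, .fwd 21973],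
   .loop none [.bwd 22141, .bwd 4192, .fwd 21973],
   .loop none [.bwd 22039, .bwd 8236, .fwd 21973],
   .loop none [.bwd 21975, .bwd 17948, .fwd 21973],
   .loop none [.bwd 21976, .fwd 18825, .fwd 21973],
   .loop none [.bwd 22110, .bwd 3283, .fwd 21974],
   .loop none [.bwd 22110, .bwd 19193, .fwd 21974],
   .loop none [.bwd 22111, .bwd 18600, .fwd 21975],
   .loop none [.bwd 22138, .fwd 4126, .fwd 21975],
   .loop none [.bwd 22146, .bwd 4127, .fwd 21975],
   .loop none [.bwd 21976, .bwd 8257, .fwd 21975],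
   .loop none [.bwd 22112, .fwd 18860, .fwd 21976],
   .loop none [.bwd 22139, .fwd 4314, .fwd 21976],
   .loop none [.bwd 22147, .bwd 4315, .fwd 21976],
   .loop none [.bwd 22148, .bwd 4704, .fwd 21977],
   .loop none [.bwd 21978, .fwd 18366, .fwd 21978],
   .loop none [.bwd 22150, .bwd 8092, .fwd 21978],
   .loop none [.bwd 22138, .fwd 18382, .fwd 21979],
   .loop none [.bwd 22148, .fwd 16852, .fwd 21979],
   .loop none [.bwd 22113, .fwd 7348, .fwd 21979],
   .loop none [.bwd 21982, .bwd 18310, .fwd 21979],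
   .loop none [.bwd 21980, .fwd 18498, .fwd 21979],
   .loop none [.bwd 22139, .fwd 8387, .fwd 21980],
   .loop none [.bwd 22149, .bwd 8313, .fwd 21980],
   .loop none [.bwd 22114, .bwd 18496, .fwd 21980],
   .loop none [.bwd 21981, .fwd 18137, .fwd 21980],
   .loop none [.bwd 21982, .bwd 18497, .fwd 21980],
   .loop none [.bwd 22140, .fwd 18392, .fwd 21981],
   .loop none [.bwd 22150, .bwd 3702, .fwd 21981],
   .loop none [.bwd 21981, .fwd 18318, .fwd 21981],
   .loop none [.bwd 21982, .bwd 7736, .fwd 21981],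
   .loop none [.bwd 22141, .bwd 17039, .fwd 21982],
   .loop none [.bwd 22151, .bwd 4063, .fwd 21982],
   .loop none [.bwd 21982, .fwd 18212, .fwd 21982],
   .loop none [.bwd 22102, .bwd 21416, .fwd 21983],
   .loop none [.bwd 21984, .bwd 3127, .fwd 21983],
   .loop none [.bwd 22142, .fwd 21176, .fwd 21984],
   .loop none [.bwd 22079, .bwd 3128, .fwd 21984],
   .loop none [.bwd 22032, .fwd 20798, .fwd 21984],
   .loop none [.bwd 22083, .fwd 7821, .fwd 21984],
   .loop none [.bwd 22143, .bwd 17076, .fwd 21985],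
   .loop none [.bwd 21985, .fwd 18772, .fwd 21985],
   .loop none [.bwd 22085, .bwd 18774, .fwd 21985],
   .loop none [.bwd 21986, .bwd 18777, .fwd 21985],
   .loop none [.bwd 22039, .fwd 18590, .fwd 21986],
   .loop none [.bwd 21986, .fwd 18485, .fwd 21986],
   .loop none [.bwd 22035, .fwd 621, .fwd 21986],
   .loop none [.bwd 22144, .fwd 20722, .fwd 21987],
   .loop none [.bwd 22122, .bwd 20265, .fwd 21987],
   .loop none [.bwd 22083, .fwd 3018, .fwd 21987],
   .loop none [.bwd 22079, .bwd 7823, .fwd 21987],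
   .loop none [.bwd 22145, .fwd 20583, .fwd 21988],
   .loop none [.bwd 22121, .bwd 19969, .fwd 21988],
   .loop none [.bwd 22081, .bwd 589, .fwd 21988],
   .loop none [.bwd 22146, .fwd 18896, .fwd 21989],
   .loop none [.bwd 22123, .fwd 2903, .fwd 21989],
   .loop none [.bwd 21990, .bwd 6386, .fwd 21989],
   .loop none [.bwd 22147, .fwd 19136, .fwd 21990],
   .loop none [.bwd 22124, .fwd 1914, .fwd 21990],
   .loop none [.bwd 22080, .fwd 19220, .fwd 21990],
   .loop none [.bwd 22125, .bwd 19745, .fwd 21991],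
   .loop none [.bwd 22152, .bwd 3067, .fwd 21991],
   .loop none [.bwd 22090, .bwd 19747, .fwd 21991],
   .loop none [.bwd 21999, .bwd 19748, .fwd 21991],
   .loop none [.bwd 22005, .bwd 7875, .fwd 21991],
   .loop none [.bwd 22089, .fwd 7874, .fwd 21991],
   .loop none [.bwd 22126, .fwd 20328, .fwd 21992],
   .loop none [.bwd 21995, .fwd 20750, .fwd 21992],
   .loop none [.bwd 21998, .fwd 3906, .fwd 21992],
   .loop none [.bwd 22091, .fwd 19123, .fwd 21992],
   .loop none [.bwd 22093, .bwd 18803, .fwd 21992],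
   .loop none [.bwd 22127, .fwd 17865, .fwd 21993],
   .loop none [.bwd 22153, .fwd 7776, .fwd 21993],
   .loop none [.bwd 21996, .fwd 3320, .fwd 21993],
   .loop none [.bwd 22005, .bwd 3321, .fwd 21993],
   .loop none [.bwd 22092, .fwd 20671, .fwd 21993],
   .loop none [.bwd 21994, .bwd 7705, .fwd 21993],
   .loop none [.bwd 22128, .fwd 17852, .fwd 21994],
   .loop none [.bwd 22154, .fwd 7704, .fwd 21994],
   .loop none [.bwd 22089, .bwd 2861, .fwd 21994],
   .loop none [.bwd 22129, .bwd 20749, .fwd 21995],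
   .loop none [.bwd 22032, .bwd 20228, .fwd 21995],
   .loop none [.bwd 22093, .bwd 20751, .fwd 21995],
   .loop none [.bwd 22092, .fwd 17214, .fwd 21995],
   .loop none [.bwd 21998, .bwd 20754, .fwd 21995],
   .loop none [.bwd 22130, .fwd 20145, .fwd 21996],
   .loop none [.bwd 22155, .bwd 7777, .fwd 21996],
   .loop none [.bwd 22000, .bwd 7779, .fwd 21996],
   .loop none [.bwd 21997, .bwd 20202, .fwd 21996],
   .loop none [.bwd 22093, .bwd 20203, .fwd 21996],
   .loop none [.bwd 22131, .fwd 16442, .fwd 21997],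
   .loop none [.bwd 22156, .fwd 7676, .fwd 21997],
   .loop none [.bwd 21999, .fwd 19128, .fwd 21997],
   .loop none [.bwd 22091, .fwd 7978, .fwd 21997],
   .loop none [.bwd 22132, .fwd 8599, .fwd 21998],
   .loop none [.bwd 22092, .fwd 20672, .fwd 21998],
   .loop none [.bwd 22088, .bwd 19126, .fwd 21999],
   .loop none [.bwd 22157, .fwd 19381, .fwd 21999],
   .loop none [.bwd 22059, .bwd 19127, .fwd 21999],
   .loop none [.bwd 22006, .fwd 8686, .fwd 21999],
   .loop none [.bwd 22133, .bwd 20357, .fwd 22000],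
   .loop none [.bwd 22158, .fwd 2978, .fwd 22000],
   .loop none [.bwd 22135, .bwd 20358, .fwd 22000],
   .loop none [.bwd 22089, .bwd 20359, .fwd 22000],
   .loop none [.bwd 22003, .bwd 12368, .fwd 22000],
   .loop none [.bwd 22134, .bwd 19813, .fwd 22001],
   .loop none [.bwd 22159, .fwd 8242, .fwd 22001],
   .loop none [.bwd 22003, .fwd 20225, .fwd 22001],
   .loop none [.bwd 22006, .bwd 19819, .fwd 22001],
   .loop none [.bwd 22090, .fwd 20031, .fwd 22001],
   .loop none [.bwd 22004, .fwd 20033, .fwd 22001],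
   .loop none [.bwd 22086, .bwd 18021, .fwd 22002],
   .loop none [.bwd 22160, .fwd 20986, .fwd 22002],
   .loop none [.bwd 22057, .fwd 20158, .fwd 22002],
   .loop none [.bwd 22090, .bwd 8691, .fwd 22002],
   .loop none [.bwd 22005, .fwd 19930, .fwd 22002],
   .loop none [.bwd 22003, .fwd 20227, .fwd 22002],
   .loop none [.bwd 22135, .bwd 20222, .fwd 22003],
   .loop none [.bwd 22161, .fwd 3236, .fwd 22003],
   .loop none [.bwd 22133, .bwd 20223, .fwd 22003],
   .loop none [.bwd 22004, .bwd 20224, .fwd 22003],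
   .loop none [.bwd 22136, .bwd 18019, .fwd 22004],
   .loop none [.bwd 22162, .fwd 20172, .fwd 22004],
   .loop none [.bwd 22137, .bwd 20032, .fwd 22004],
   .loop none [.bwd 22090, .fwd 10521, .fwd 22004],
   .loop none [.bwd 22137, .bwd 17866, .fwd 22005],
   .loop none [.bwd 22163, .bwd 3322, .fwd 22005],
   .loop none [.bwd 22136, .bwd 21137, .fwd 22005],
   .loop none [.bwd 22089, .bwd 7707, .fwd 22005],
   .loop none [.bwd 22087, .fwd 19005, .fwd 22006],
   .loop none [.bwd 22164, .fwd 19142, .fwd 22006],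
   .loop none [.bwd 22058, .bwd 18831, .fwd 22006],
   .loop none [.bwd 22091, .fwd 19121, .fwd 22006],
   .loop none [.bwd 22094, .bwd 7768, .fwd 22007],
   .loop none [.bwd 22142, .fwd 2971, .fwd 22007],
   .loop none [.bwd 22094, .fwd 20599, .fwd 22007],
   .loop none [.bwd 22105, .bwd 20591, .fwd 22007],
   .loop none [.bwd 22036, .bwd 20592, .fwd 22007],
   .loop none [.bwd 22095, .bwd 12611, .fwd 22008],
   .loop none [.bwd 22143, .fwd 3706, .fwd 22008],
   .loop none [.bwd 22048, .fwd 21224, .fwd 22008],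
   .loop none [.bwd 22045, .bwd 21220, .fwd 22008],
   .loop none [.bwd 22027, .fwd 17447, .fwd 22009],
   .loop none [.bwd 22014, .fwd 20077, .fwd 22009],
   .loop none [.bwd 22029, .bwd 8107, .fwd 22009],
   .loop none [.bwd 22026, .fwd 8062, .fwd 22009],
   .loop none [.bwd 22036, .bwd 20595, .fwd 22010],
   .loop none [.bwd 22144, .fwd 20723, .fwd 22010],
   .loop none [.bwd 22014, .fwd 3069, .fwd 22010],
   .loop none [.bwd 22036, .bwd 3070, .fwd 22010],
   .loop none [.bwd 22094, .bwd 7885, .fwd 22010],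
   .loop none [.bwd 22145, .bwd 3118, .fwd 22011],
   .loop none [.bwd 22023, .fwd 17192, .fwd 22011],
   .loop none [.bwd 22020, .bwd 20482, .fwd 22011],
   .loop none [.bwd 22098, .fwd 7798, .fwd 22011],
   .loop none [.bwd 22046, .bwd 12988, .fwd 22012],
   .loop none [.bwd 22146, .fwd 17376, .fwd 22012],
   .loop none [.bwd 22029, .fwd 17748, .fwd 22012],
   .loop none [.bwd 22022, .fwd 21236, .fwd 22012],
   .loop none [.bwd 22097, .fwd 21234, .fwd 22012],
   .loop none [.bwd 22013, .bwd 21432, .fwd 22012],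
   .loop none [.bwd 22048, .bwd 21428, .fwd 22013],
   .loop none [.bwd 22147, .fwd 21264, .fwd 22013],
   .loop none [.bwd 22026, .bwd 21265, .fwd 22013],
   .loop none [.bwd 22104, .bwd 21430, .fwd 22013],
   .loop none [.bwd 22095, .bwd 21431, .fwd 22013],
   .loop none [.bwd 22021, .fwd 20701, .fwd 22014],
   .loop none [.bwd 22152, .fwd 3068, .fwd 22014],
   .loop none [.bwd 22024, .bwd 20078, .fwd 22014],
   .loop none [.bwd 22030, .bwd 7881, .fwd 22014],
   .loop none [.bwd 22099, .fwd 7879, .fwd 22014],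
   .loop none [.bwd 22047, .bwd 21238, .fwd 22015],
   .loop none [.bwd 22153, .bwd 2975, .fwd 22015],
   .loop none [.bwd 22030, .fwd 7771, .fwd 22015],
   .loop none [.bwd 22016, .bwd 7816, .fwd 22015],
   .loop none [.bwd 22044, .fwd 21383, .fwd 22016],
   .loop none [.bwd 22154, .bwd 3016, .fwd 22016],
   .loop none [.bwd 22099, .fwd 7709, .fwd 22016],
   .loop none [.bwd 22105, .bwd 21217, .fwd 22017],
   .loop none [.bwd 22155, .fwd 20121, .fwd 22017],
   .loop none [.bwd 22025, .bwd 3930, .fwd 22017],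
   .loop none [.bwd 22018, .bwd 21298, .fwd 22017],
   .loop none [.bwd 22045, .bwd 21295, .fwd 22018],
   .loop none [.bwd 22156, .bwd 2796, .fwd 22018],
   .loop none [.bwd 22024, .fwd 17258, .fwd 22018],
   .loop none [.bwd 22167, .bwd 19868, .fwd 22019],
   .loop none [.bwd 22096, .fwd 7757, .fwd 22019],
   .loop none [.bwd 22172, .bwd 19178, .fwd 22020],
   .loop none [.bwd 22095, .fwd 12718, .fwd 22020],
   .loop none [.bwd 22173, .bwd 3832, .fwd 22021],
   .loop none [.bwd 22168, .bwd 20705, .fwd 22021],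
   .loop none [.bwd 22097, .bwd 17538, .fwd 22021],
   .loop none [.bwd 22029, .bwd 21360, .fwd 22022],
   .loop none [.bwd 22174, .fwd 2871, .fwd 22022],
   .loop none [.bwd 22098, .bwd 7725, .fwd 22022],
   .loop none [.bwd 22094, .fwd 21382, .fwd 22022],
   .loop none [.bwd 22023, .fwd 17195, .fwd 22022],
   .loop none [.bwd 22026, .fwd 21344, .fwd 22023],
   .loop none [.bwd 22175, .bwd 2788, .fwd 22023],
   .loop none [.bwd 22098, .bwd 17193, .fwd 22023],
   .loop none [.bwd 22104, .fwd 21353, .fwd 22023],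
   .loop none [.bwd 22168, .fwd 19449, .fwd 22024],
   .loop none [.bwd 22157, .bwd 17255, .fwd 22024],
   .loop none [.bwd 22168, .fwd 4322, .fwd 22024],
   .loop none [.bwd 22031, .fwd 8273, .fwd 22024],
   .loop none [.bwd 22169, .bwd 21207, .fwd 22025],
   .loop none [.bwd 22158, .fwd 20286, .fwd 22025],
   .loop none [.bwd 22176, .bwd 8226, .fwd 22025],
   .loop none [.bwd 22099, .bwd 21206, .fwd 22025],
   .loop none [.bwd 22028, .fwd 20301, .fwd 22025],
   .loop none [.bwd 22159, .bwd 4071, .fwd 22026],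
   .loop none [.bwd 22028, .bwd 20170, .fwd 22026],
   .loop none [.bwd 22031, .bwd 20171, .fwd 22026],
   .loop none [.bwd 22029, .fwd 8108, .fwd 22026],
   .loop none [.bwd 22160, .fwd 20987, .fwd 22027],
   .loop none [.bwd 22030, .bwd 21404, .fwd 22027],
   .loop none [.bwd 22028, .fwd 17738, .fwd 22027],
   .loop none [.bwd 22098, .fwd 21395, .fwd 22028],
   .loop none [.bwd 22161, .fwd 13011, .fwd 22028],
   .loop none [.bwd 22095, .bwd 17737, .fwd 22028],
   .loop none [.bwd 22029, .fwd 17749, .fwd 22028],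
   .loop none [.bwd 22162, .fwd 17784, .fwd 22029],
   .loop none [.bwd 22097, .fwd 21237, .fwd 22030],
   .loop none [.bwd 22163, .fwd 3323, .fwd 22030],
   .loop none [.bwd 22094, .bwd 3324, .fwd 22030],
   .loop none [.bwd 22099, .bwd 7710, .fwd 22030],
   .loop none [.bwd 22104, .bwd 21240, .fwd 22031],
   .loop none [.bwd 22164, .bwd 17323, .fwd 22031],
   .loop none [.bwd 22104, .fwd 4134, .fwd 22031],
   .loop none [.bwd 22041, .fwd 20237, .fwd 22032],
   .loop none [.bwd 22034, .bwd 18087, .fwd 22032],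
   .loop none [.bwd 22084, .bwd 20799, .fwd 22032],
   .loop none [.bwd 22106, .bwd 20044, .fwd 22032],
   .loop none [.bwd 22101, .fwd 21201, .fwd 22033],
   .loop none [.bwd 22091, .fwd 7979, .fwd 22033],
   .loop none [.bwd 22084, .fwd 5912, .fwd 22033],
   .loop none [.bwd 22164, .bwd 11334, .fwd 22033],
   .loop none [.bwd 22084, .bwd 19376, .fwd 22033],
   .loop none [.bwd 22156, .bwd 7675, .fwd 22033],
   .loop none [.bwd 22082, .fwd 20942, .fwd 22033]]

theorem just97_len : just97.length = 250 := by decide +kernel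

theorem just97_ok : cert.okFacts 24250 just97 = true := by decide +kernel

/-- justifications -/
noncomputable def just98 : List Cert.Just :=
  [.loop none [.bwd 22103, .bwd 19851, .fwd 22034],
   .loop none [.bwd 22093, .bwd 20770, .fwd 22034],
   .loop none [.bwd 22106, .bwd 19853, .fwd 22034],
   .loop none [.bwd 22155, .bwd 20771, .fwd 22034],
   .loop none [.bwd 22106, .bwd 19854, .fwd 22034],
   .loop none [.bwd 22035, .bwd 20772, .fwd 22034],
   .loop none [.bwd 22038, .bwd 6311, .fwd 22035],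
   .loop none [.bwd 22106, .fwd 20738, .fwd 22035],
   .loop none [.bwd 22044, .bwd 21340, .fwd 22036],
   .loop none [.bwd 22105, .fwd 7886, .fwd 22036],
   .loop none [.bwd 22170, .fwd 7751, .fwd 22037],
   .loop none [.bwd 22100, .fwd 4282, .fwd 22037],
   .loop none [.bwd 22179, .bwd 8347, .fwd 22038],
   .loop none [.bwd 22042, .fwd 20778, .fwd 22038],
   .loop none [.bwd 22074, .fwd 4563, .fwd 22038],
   .loop none [.bwd 22039, .fwd 18592, .fwd 22038],
   .loop none [.bwd 22103, .fwd 20796, .fwd 22038],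
   .loop none [.bwd 22180, .fwd 4066, .fwd 22039],
   .loop none [.bwd 22039, .fwd 18591, .fwd 22039],
   .loop none [.bwd 22143, .fwd 8100, .fwd 22039],
   .loop none [.bwd 22082, .fwd 20934, .fwd 22040],
   .loop none [.bwd 22181, .fwd 19697, .fwd 22040],
   .loop none [.bwd 22074, .bwd 16951, .fwd 22040],
   .loop none [.bwd 22101, .bwd 19694, .fwd 22040],
   .loop none [.bwd 22182, .fwd 20392, .fwd 22041],
   .loop none [.bwd 22103, .bwd 4270, .fwd 22041],
   .loop none [.bwd 22142, .bwd 21415, .fwd 22041],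
   .loop none [.bwd 22042, .bwd 20239, .fwd 22041],
   .loop none [.bwd 22106, .fwd 17026, .fwd 22042],
   .loop none [.bwd 22183, .bwd 10962, .fwd 22042],
   .loop none [.bwd 22103, .fwd 20049, .fwd 22042],
   .loop none [.bwd 22103, .fwd 20052, .fwd 22042],
   .loop none [.bwd 22184, .fwd 3288, .fwd 22043],
   .loop none [.bwd 22104, .bwd 8270, .fwd 22043],
   .loop none [.bwd 22168, .fwd 7967, .fwd 22043],
   .loop none [.bwd 22168, .fwd 17405, .fwd 22044],
   .loop none [.bwd 22185, .fwd 2792, .fwd 22044],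
   .loop none [.bwd 22176, .fwd 20807, .fwd 22044],
   .loop none [.bwd 22047, .fwd 7671, .fwd 22044],
   .loop none [.bwd 22176, .bwd 20860, .fwd 22045],
   .loop none [.bwd 22186, .bwd 20861, .fwd 22045],
   .loop none [.bwd 22168, .fwd 20894, .fwd 22045],
   .loop none [.bwd 22105, .fwd 21203, .fwd 22045],
   .loop none [.bwd 22187, .fwd 19447, .fwd 22046],
   .loop none [.bwd 22048, .bwd 21226, .fwd 22046],
   .loop none [.bwd 22104, .fwd 17476, .fwd 22047],
   .loop none [.bwd 22188, .fwd 5764, .fwd 22047],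
   .loop none [.bwd 22097, .bwd 17462, .fwd 22047],
   .loop none [.bwd 22048, .bwd 21352, .fwd 22047],
   .loop none [.bwd 22191, .bwd 4621, .fwd 22049],
   .loop none [.bwd 22194, .bwd 16414, .fwd 22050],
   .loop none [.bwd 22190, .fwd 16835, .fwd 22051],
   .loop none [.bwd 22078, .bwd 8138, .fwd 22051],
   .loop none [.bwd 22077, .fwd 19252, .fwd 22051],
   .loop none [.bwd 22191, .fwd 16753, .fwd 22052],
   .loop none [.bwd 22197, .bwd 6055, .fwd 22052],
   .loop none [.bwd 22056, .bwd 554, .fwd 22052],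
   .loop none [.bwd 22053, .bwd 6092, .fwd 22052],
   .loop none [.bwd 22192, .fwd 16669, .fwd 22053],
   .loop none [.bwd 22198, .fwd 543, .fwd 22053],
   .loop none [.bwd 22055, .bwd 544, .fwd 22053],
   .loop none [.bwd 22056, .fwd 555, .fwd 22053],
   .loop none [.bwd 22193, .fwd 19453, .fwd 22054],
   .loop none [.bwd 22194, .fwd 16367, .fwd 22055],
   .loop none [.bwd 22202, .fwd 18929, .fwd 22055],
   .loop none [.bwd 22056, .bwd 6101, .fwd 22055],
   .loop none [.bwd 22195, .fwd 16469, .fwd 22056],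
   .loop none [.bwd 22203, .fwd 19245, .fwd 22056],
   .loop none [.bwd 22196, .fwd 19972, .fwd 22057],
   .loop none [.bwd 22136, .fwd 10493, .fwd 22057],
   .loop none [.bwd 22133, .fwd 19314, .fwd 22057],
   .loop none [.bwd 22197, .bwd 5068, .fwd 22058],
   .loop none [.bwd 22166, .fwd 19492, .fwd 22058],
   .loop none [.bwd 22059, .bwd 6080, .fwd 22058],
   .loop none [.bwd 22198, .fwd 6070, .fwd 22059],
   .loop none [.bwd 22165, .fwd 16387, .fwd 22059],
   .loop none [.bwd 22199, .fwd 4178, .fwd 22060],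
   .loop none [.bwd 22066, .bwd 4179, .fwd 22060],
   .loop none [.bwd 22132, .fwd 16440, .fwd 22060],
   .loop none [.bwd 22128, .fwd 19587, .fwd 22060],
   .loop none [.bwd 22131, .fwd 8252, .fwd 22060],
   .loop none [.bwd 22200, .bwd 4931, .fwd 22061],
   .loop none [.bwd 22128, .bwd 19779, .fwd 22061],
   .loop none [.bwd 22128, .fwd 19728, .fwd 22061],
   .loop none [.bwd 22130, .fwd 20150, .fwd 22061],
   .loop none [.bwd 22201, .bwd 6129, .fwd 22062],
   .loop none [.bwd 22132, .fwd 16438, .fwd 22062],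
   .loop none [.bwd 22126, .fwd 20336, .fwd 22062],
   .loop none [.bwd 22202, .bwd 2901, .fwd 22063],
   .loop none [.bwd 22204, .bwd 19205, .fwd 22063],
   .loop none [.bwd 22129, .fwd 20180, .fwd 22063],
   .loop none [.bwd 22204, .fwd 18997, .fwd 22063],
   .loop none [.bwd 22064, .bwd 7242, .fwd 22063],
   .loop none [.bwd 22203, .bwd 1912, .fwd 22064],
   .loop none [.bwd 22131, .bwd 19213, .fwd 22064],
   .loop none [.bwd 22127, .fwd 17236, .fwd 22064],
   .loop none [.bwd 22204, .bwd 20113, .fwd 22065],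
   .loop none [.bwd 22066, .fwd 20120, .fwd 22065],
   .loop none [.bwd 22166, .fwd 17163, .fwd 22067],
   .loop none [.bwd 22165, .bwd 21023, .fwd 22068],
   .loop none [.bwd 22205, .fwd 10183, .fwd 22069],
   .loop none [.bwd 22070, .fwd 16419, .fwd 22069],
   .loop none [.bwd 22206, .fwd 19999, .fwd 22070],
   .loop none [.bwd 22190, .bwd 17819, .fwd 22071],
   .loop none [.bwd 22184, .fwd 21211, .fwd 22071],
   .loop none [.bwd 22172, .bwd 17825, .fwd 22071],
   .loop none [.bwd 22191, .fwd 8359, .fwd 22072],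
   .loop none [.bwd 22194, .bwd 16550, .fwd 22072],
   .loop none [.bwd 22209, .fwd 19440, .fwd 22072],
   .loop none [.bwd 22076, .bwd 4617, .fwd 22072],
   .loop none [.bwd 22073, .bwd 6262, .fwd 22072],
   .loop none [.bwd 22192, .fwd 8362, .fwd 22073],
   .loop none [.bwd 22195, .bwd 16551, .fwd 22073],
   .loop none [.bwd 22172, .fwd 4607, .fwd 22073],
   .loop none [.bwd 22075, .bwd 4608, .fwd 22073],
   .loop none [.bwd 22076, .fwd 4618, .fwd 22073],
   .loop none [.bwd 22193, .fwd 19454, .fwd 22074],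
   .loop none [.bwd 22177, .bwd 21374, .fwd 22074],
   .loop none [.bwd 22187, .bwd 12835, .fwd 22074],
   .loop none [.bwd 22189, .fwd 20833, .fwd 22074],
   .loop none [.bwd 22194, .bwd 6275, .fwd 22075],
   .loop none [.bwd 22191, .fwd 16754, .fwd 22075],
   .loop none [.bwd 22187, .bwd 11786, .fwd 22075],
   .loop none [.bwd 22076, .bwd 6277, .fwd 22075],
   .loop none [.bwd 22195, .bwd 8363, .fwd 22076],
   .loop none [.bwd 22192, .fwd 16670, .fwd 22076],
   .loop none [.bwd 22189, .fwd 20830, .fwd 22076],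
   .loop none [.bwd 22207, .fwd 19689, .fwd 22077],
   .loop none [.bwd 22117, .fwd 16817, .fwd 22077],
   .loop none [.bwd 22199, .bwd 4177, .fwd 22077],
   .loop none [.bwd 22184, .fwd 19451, .fwd 22078],
   .loop none [.bwd 22082, .bwd 20950, .fwd 22078],
   .loop none [.bwd 22160, .fwd 20992, .fwd 22078],
   .loop none [.bwd 22164, .bwd 12684, .fwd 22078],
   .loop none [.bwd 22157, .fwd 10161, .fwd 22078],
   .loop none [.bwd 22208, .fwd 21173, .fwd 22079],
   .loop none [.bwd 22210, .bwd 20843, .fwd 22079],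
   .loop none [.bwd 22162, .bwd 20425, .fwd 22079],
   .loop none [.bwd 22158, .bwd 7780, .fwd 22079],
   .loop none [.bwd 22209, .bwd 18042, .fwd 22080],
   .loop none [.bwd 22211, .fwd 19524, .fwd 22080],
   .loop none [.bwd 22081, .fwd 19506, .fwd 22080],
   .loop none [.bwd 22172, .bwd 6248, .fwd 22081],
   .loop none [.bwd 22212, .bwd 8768, .fwd 22081],
   .loop none [.bwd 22167, .fwd 20084, .fwd 22081],
   .loop none [.bwd 22154, .bwd 20941, .fwd 22082],
   .loop none [.bwd 22156, .bwd 20943, .fwd 22082],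
   .loop none [.bwd 22177, .fwd 21375, .fwd 22083],
   .loop none [.bwd 22154, .fwd 3017, .fwd 22083],
   .loop none [.bwd 22154, .fwd 19900, .fwd 22083],
   .loop none [.bwd 22155, .fwd 7820, .fwd 22083],
   .loop none [.bwd 22187, .fwd 11787, .fwd 22084],
   .loop none [.bwd 22085, .bwd 6279, .fwd 22084],
   .loop none [.bwd 22189, .fwd 20827, .fwd 22085],
   .loop none [.bwd 22156, .fwd 2797, .fwd 22085],
   .loop none [.bwd 22153, .fwd 19937, .fwd 22085],
   .loop none [.bwd 22210, .bwd 13293, .fwd 22086],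
   .loop none [.bwd 22165, .fwd 16386, .fwd 22086],
   .loop none [.bwd 22137, .fwd 19730, .fwd 22086],
   .loop none [.bwd 22135, .fwd 16639, .fwd 22086],
   .loop none [.bwd 22211, .bwd 19544, .fwd 22087],
   .loop none [.bwd 22204, .bwd 3231, .fwd 22087],
   .loop none [.bwd 22134, .bwd 19006, .fwd 22087],
   .loop none [.bwd 22088, .bwd 17492, .fwd 22087],
   .loop none [.bwd 22212, .fwd 8769, .fwd 22088],
   .loop none [.bwd 22131, .bwd 7279, .fwd 22088],
   .loop none [.bwd 22125, .bwd 19004, .fwd 22088],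
   .loop none [.bwd 22166, .bwd 17946, .fwd 22089],
   .loop none [.bwd 22213, .bwd 2862, .fwd 22089],
   .loop none [.bwd 22134, .bwd 19684, .fwd 22089],
   .loop none [.bwd 22165, .bwd 8770, .fwd 22090],
   .loop none [.bwd 22167, .fwd 20081, .fwd 22090],
   .loop none [.bwd 22125, .bwd 20030, .fwd 22090],
   .loop none [.bwd 22204, .fwd 17617, .fwd 22091],
   .loop none [.bwd 22205, .bwd 20669, .fwd 22092],
   .loop none [.bwd 22106, .bwd 5721, .fwd 22092],
   .loop none [.bwd 22093, .fwd 20680, .fwd 22092],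
   .loop none [.bwd 22093, .fwd 20681, .fwd 22092],
   .loop none [.bwd 22206, .fwd 19998, .fwd 22093],
   .loop none [.bwd 22208, .bwd 20598, .fwd 22094],
   .loop none [.bwd 22169, .bwd 7713, .fwd 22094],
   .loop none [.bwd 22209, .bwd 17961, .fwd 22095],
   .loop none [.bwd 22176, .bwd 21243, .fwd 22095],
   .loop none [.bwd 22160, .fwd 20985, .fwd 22096],
   .loop none [.bwd 22184, .fwd 21183, .fwd 22096],
   .loop none [.bwd 22145, .fwd 7758, .fwd 22096],
   .loop none [.bwd 22216, .fwd 17625, .fwd 22097],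
   .loop none [.bwd 22176, .fwd 20809, .fwd 22097],
   .loop none [.bwd 22217, .bwd 3008, .fwd 22098],
   .loop none [.bwd 22169, .fwd 21379, .fwd 22098],
   .loop none [.bwd 22176, .bwd 21384, .fwd 22099],
   .loop none [.bwd 22213, .fwd 2863, .fwd 22099],
   .loop none [.bwd 22169, .bwd 2864, .fwd 22099],
   .loop none [.bwd 22214, .fwd 7981, .fwd 22100],
   .loop none [.bwd 22182, .fwd 4281, .fwd 22100],
   .loop none [.bwd 22179, .fwd 20695, .fwd 22100],
   .loop none [.bwd 22219, .bwd 12741, .fwd 22101],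
   .loop none [.bwd 22187, .fwd 19448, .fwd 22101],
   .loop none [.bwd 22187, .bwd 21200, .fwd 22101],
   .loop none [.bwd 22186, .fwd 17679, .fwd 22101],
   .loop none [.bwd 22220, .fwd 8834, .fwd 22102],
   .loop none [.bwd 22142, .bwd 17661, .fwd 22102],
   .loop none [.bwd 22173, .fwd 10172, .fwd 22102],
   .loop none [.bwd 22188, .bwd 10565, .fwd 22102],
   .loop none [.bwd 22185, .fwd 10566, .fwd 22102],
   .loop none [.bwd 22221, .bwd 4271, .fwd 22103],
   .loop none [.bwd 22222, .fwd 4133, .fwd 22104],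
   .loop none [.bwd 22168, .bwd 8271, .fwd 22104],
   .loop none [.bwd 22169, .fwd 20442, .fwd 22105],
   .loop none [.bwd 22223, .bwd 20427, .fwd 22105],
   .loop none [.bwd 22169, .fwd 2865, .fwd 22105],
   .loop none [.bwd 22153, .bwd 20739, .fwd 22106],
   .loop none [.bwd 22190, .bwd 18849, .fwd 22107],
   .loop none [.bwd 22107, .fwd 18850, .fwd 22107],
   .loop none [.bwd 22220, .fwd 21414, .fwd 22107],
   .loop none [.bwd 22180, .fwd 8057, .fwd 22107],
   .loop none [.bwd 22191, .fwd 18846, .fwd 22108],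
   .loop none [.bwd 22150, .fwd 3703, .fwd 22108],
   .loop none [.bwd 22225, .bwd 3704, .fwd 22108],
   .loop none [.bwd 22112, .bwd 18573, .fwd 22108],
   .loop none [.bwd 22109, .bwd 8096, .fwd 22108],
   .loop none [.bwd 22192, .fwd 18544, .fwd 22109],
   .loop none [.bwd 22151, .fwd 4064, .fwd 22109],
   .loop none [.bwd 22180, .bwd 4065, .fwd 22109],
   .loop none [.bwd 22111, .fwd 18566, .fwd 22109],
   .loop none [.bwd 22112, .bwd 18353, .fwd 22109],
   .loop none [.bwd 22193, .bwd 3284, .fwd 22110],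
   .loop none [.bwd 22194, .bwd 8354, .fwd 22111],
   .loop none [.bwd 22148, .fwd 8333, .fwd 22111],
   .loop none [.bwd 22228, .fwd 18855, .fwd 22111],
   .loop none [.bwd 22112, .bwd 8357, .fwd 22111],
   .loop none [.bwd 22195, .fwd 8367, .fwd 22112],
   .loop none [.bwd 22149, .bwd 18861, .fwd 22112],
   .loop none [.bwd 22229, .fwd 19171, .fwd 22112],
   .loop none [.bwd 22148, .fwd 18358, .fwd 22113],
   .loop none [.bwd 22138, .bwd 4125, .fwd 22113],
   .loop none [.bwd 22116, .bwd 18266, .fwd 22113],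
   .loop none [.bwd 22114, .bwd 7600, .fwd 22113],
   .loop none [.bwd 22149, .fwd 8336, .fwd 22114],
   .loop none [.bwd 22139, .bwd 4313, .fwd 22114],
   .loop none [.bwd 22115, .bwd 18418, .fwd 22114],
   .loop none [.bwd 22116, .bwd 18419, .fwd 22114],
   .loop none [.bwd 22150, .fwd 18368, .fwd 22115],
   .loop none [.bwd 22140, .bwd 6211, .fwd 22115],
   .loop none [.bwd 22115, .fwd 18274, .fwd 22115],
   .loop none [.bwd 22116, .bwd 8294, .fwd 22115],
   .loop none [.bwd 22151, .fwd 18238, .fwd 22116],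
   .loop none [.bwd 22141, .fwd 18249, .fwd 22116],
   .loop none [.bwd 22116, .fwd 18183, .fwd 22116],
   .loop none [.bwd 22220, .bwd 19764, .fwd 22117]]

theorem just98_len : just98.length = 250 := by decide +kernel

theorem just98_ok : cert.okFacts 24500 just98 = true := by decide +kernel

/-- justifications -/
noncomputable def just99 : List Cert.Just :=
  [.loop none [.bwd 22118, .fwd 17482, .fwd 22117],
   .loop none [.bwd 22218, .bwd 19517, .fwd 22117],
   .loop none [.bwd 22224, .fwd 21172, .fwd 22118],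
   .loop none [.bwd 22196, .fwd 9587, .fwd 22118],
   .loop none [.bwd 22196, .fwd 19987, .fwd 22118],
   .loop none [.bwd 22200, .bwd 19791, .fwd 22118],
   .loop none [.bwd 22225, .fwd 18851, .fwd 22119],
   .loop none [.bwd 22197, .fwd 5069, .fwd 22119],
   .loop none [.bwd 22119, .fwd 18646, .fwd 22119],
   .loop none [.bwd 22203, .fwd 19248, .fwd 22119],
   .loop none [.bwd 22120, .fwd 6199, .fwd 22119],
   .loop none [.bwd 22180, .fwd 18555, .fwd 22120],
   .loop none [.bwd 22198, .bwd 6195, .fwd 22120],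
   .loop none [.bwd 22120, .fwd 18404, .fwd 22120],
   .loop none [.bwd 22201, .fwd 519, .fwd 22120],
   .loop none [.bwd 22178, .fwd 18637, .fwd 22120],
   .loop none [.bwd 22226, .fwd 20714, .fwd 22121],
   .loop none [.bwd 22200, .fwd 4932, .fwd 22121],
   .loop none [.bwd 22200, .bwd 19773, .fwd 22121],
   .loop none [.bwd 22212, .bwd 19774, .fwd 22121],
   .loop none [.bwd 22196, .bwd 19558, .fwd 22121],
   .loop none [.bwd 22227, .fwd 20706, .fwd 22122],
   .loop none [.bwd 22201, .fwd 6191, .fwd 22122],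
   .loop none [.bwd 22198, .bwd 542, .fwd 22122],
   .loop none [.bwd 22210, .fwd 12640, .fwd 22122],
   .loop none [.bwd 22228, .bwd 16854, .fwd 22123],
   .loop none [.bwd 22202, .fwd 2902, .fwd 22123],
   .loop none [.bwd 22124, .bwd 7245, .fwd 22123],
   .loop none [.bwd 22229, .bwd 16923, .fwd 22124],
   .loop none [.bwd 22203, .fwd 1913, .fwd 22124],
   .loop none [.bwd 22211, .fwd 19269, .fwd 22124],
   .loop none [.bwd 22197, .bwd 18958, .fwd 22124],
   .loop none [.bwd 22230, .bwd 19513, .fwd 22125],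
   .loop none [.bwd 22165, .fwd 16388, .fwd 22125],
   .loop none [.bwd 22137, .fwd 19731, .fwd 22125],
   .loop none [.bwd 22166, .bwd 19516, .fwd 22125],
   .loop none [.bwd 22218, .bwd 20329, .fwd 22126],
   .loop none [.bwd 22129, .bwd 5469, .fwd 22126],
   .loop none [.bwd 22132, .bwd 20332, .fwd 22126],
   .loop none [.bwd 22204, .bwd 20333, .fwd 22126],
   .loop none [.bwd 22206, .bwd 20335, .fwd 22126],
   .loop none [.bwd 22231, .fwd 3713, .fwd 22127],
   .loop none [.bwd 22130, .bwd 20281, .fwd 22127],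
   .loop none [.bwd 22137, .fwd 10261, .fwd 22127],
   .loop none [.bwd 22205, .bwd 19502, .fwd 22127],
   .loop none [.bwd 22128, .bwd 8116, .fwd 22127],
   .loop none [.bwd 22232, .fwd 4074, .fwd 22128],
   .loop none [.bwd 22166, .fwd 8244, .fwd 22128],
   .loop none [.bwd 22233, .bwd 20176, .fwd 22129],
   .loop none [.bwd 22206, .bwd 5470, .fwd 22129],
   .loop none [.bwd 22205, .bwd 20181, .fwd 22129],
   .loop none [.bwd 22132, .bwd 20182, .fwd 22129],
   .loop none [.bwd 22234, .bwd 20146, .fwd 22130],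
   .loop none [.bwd 22133, .fwd 19968, .fwd 22130],
   .loop none [.bwd 22131, .bwd 20148, .fwd 22130],
   .loop none [.bwd 22206, .bwd 20149, .fwd 22130],
   .loop none [.bwd 22235, .bwd 4980, .fwd 22131],
   .loop none [.bwd 22204, .fwd 17620, .fwd 22131],
   .loop none [.bwd 22178, .bwd 16437, .fwd 22132],
   .loop none [.bwd 22205, .fwd 18706, .fwd 22132],
   .loop none [.bwd 22236, .bwd 19966, .fwd 22133],
   .loop none [.bwd 22166, .fwd 19591, .fwd 22133],
   .loop none [.bwd 22135, .bwd 19313, .fwd 22133],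
   .loop none [.bwd 22237, .bwd 16629, .fwd 22134],
   .loop none [.bwd 22135, .bwd 10526, .fwd 22134],
   .loop none [.bwd 22165, .bwd 10531, .fwd 22134],
   .loop none [.bwd 22136, .bwd 16633, .fwd 22134],
   .loop none [.bwd 22238, .bwd 19796, .fwd 22135],
   .loop none [.bwd 22136, .bwd 16636, .fwd 22135],
   .loop none [.bwd 22239, .bwd 20895, .fwd 22136],
   .loop none [.bwd 22165, .fwd 16389, .fwd 22136],
   .loop none [.bwd 22240, .bwd 17795, .fwd 22137],
   .loop none [.bwd 22166, .bwd 10253, .fwd 22137],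
   .loop none [.bwd 22148, .bwd 18383, .fwd 22138],
   .loop none [.bwd 22148, .fwd 16853, .fwd 22138],
   .loop none [.bwd 22141, .bwd 17942, .fwd 22138],
   .loop none [.bwd 22139, .bwd 8254, .fwd 22138],
   .loop none [.bwd 22149, .fwd 17128, .fwd 22139],
   .loop none [.bwd 22149, .bwd 18610, .fwd 22139],
   .loop none [.bwd 22140, .bwd 18611, .fwd 22139],
   .loop none [.bwd 22141, .bwd 18612, .fwd 22139],
   .loop none [.bwd 22150, .bwd 18393, .fwd 22140],
   .loop none [.bwd 22140, .fwd 18394, .fwd 22140],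
   .loop none [.bwd 22141, .bwd 18395, .fwd 22140],
   .loop none [.bwd 22151, .fwd 8233, .fwd 22141],
   .loop none [.bwd 22141, .fwd 18252, .fwd 22141],
   .loop none [.bwd 22224, .fwd 2970, .fwd 22142],
   .loop none [.bwd 22208, .fwd 7763, .fwd 22142],
   .loop none [.bwd 22223, .bwd 7808, .fwd 22142],
   .loop none [.bwd 22177, .fwd 7765, .fwd 22142],
   .loop none [.bwd 22225, .fwd 3705, .fwd 22143],
   .loop none [.bwd 22143, .fwd 18893, .fwd 22143],
   .loop none [.bwd 22189, .fwd 20832, .fwd 22143],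
   .loop none [.bwd 22186, .fwd 21194, .fwd 22143],
   .loop none [.bwd 22226, .bwd 7891, .fwd 22144],
   .loop none [.bwd 22227, .bwd 3073, .fwd 22144],
   .loop none [.bwd 22177, .bwd 7889, .fwd 22144],
   .loop none [.bwd 22208, .bwd 7892, .fwd 22144],
   .loop none [.bwd 22227, .bwd 7893, .fwd 22145],
   .loop none [.bwd 22226, .bwd 3119, .fwd 22145],
   .loop none [.bwd 22175, .fwd 17351, .fwd 22145],
   .loop none [.bwd 22172, .bwd 20585, .fwd 22145],
   .loop none [.bwd 22217, .fwd 7802, .fwd 22145],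
   .loop none [.bwd 22228, .bwd 4128, .fwd 22146],
   .loop none [.bwd 22228, .bwd 18897, .fwd 22146],
   .loop none [.bwd 22174, .bwd 21397, .fwd 22146],
   .loop none [.bwd 22216, .fwd 21399, .fwd 22146],
   .loop none [.bwd 22147, .bwd 8259, .fwd 22146],
   .loop none [.bwd 22229, .bwd 4316, .fwd 22147],
   .loop none [.bwd 22229, .fwd 19170, .fwd 22147],
   .loop none [.bwd 22222, .fwd 19943, .fwd 22147],
   .loop none [.bwd 22209, .fwd 19441, .fwd 22147],
   .loop none [.bwd 22151, .bwd 18359, .fwd 22148],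
   .loop none [.bwd 22149, .fwd 18575, .fwd 22148],
   .loop none [.bwd 22150, .fwd 18141, .fwd 22149],
   .loop none [.bwd 22151, .bwd 18574, .fwd 22149],
   .loop none [.bwd 22150, .fwd 18369, .fwd 22150],
   .loop none [.bwd 22151, .bwd 8093, .fwd 22150],
   .loop none [.bwd 22151, .fwd 18241, .fwd 22151],
   .loop none [.bwd 22173, .fwd 20565, .fwd 22152],
   .loop none [.bwd 22167, .fwd 20085, .fwd 22152],
   .loop none [.bwd 22157, .bwd 19876, .fwd 22152],
   .loop none [.bwd 22163, .bwd 7878, .fwd 22152],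
   .loop none [.bwd 22213, .fwd 7876, .fwd 22152],
   .loop none [.bwd 22188, .fwd 20129, .fwd 22153],
   .loop none [.bwd 22155, .bwd 2976, .fwd 22153],
   .loop none [.bwd 22163, .bwd 7774, .fwd 22153],
   .loop none [.bwd 22154, .bwd 7818, .fwd 22153],
   .loop none [.bwd 22185, .fwd 21196, .fwd 22154],
   .loop none [.bwd 22213, .bwd 7706, .fwd 22154],
   .loop none [.bwd 22223, .fwd 21202, .fwd 22155],
   .loop none [.bwd 22158, .bwd 2977, .fwd 22155],
   .loop none [.bwd 22156, .bwd 20124, .fwd 22155],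
   .loop none [.bwd 22186, .fwd 21155, .fwd 22156],
   .loop none [.bwd 22157, .bwd 9883, .fwd 22156],
   .loop none [.bwd 22241, .fwd 19156, .fwd 22157],
   .loop none [.bwd 22198, .fwd 9313, .fwd 22157],
   .loop none [.bwd 22164, .fwd 11472, .fwd 22157],
   .loop none [.bwd 22242, .bwd 21393, .fwd 22158],
   .loop none [.bwd 22238, .bwd 20287, .fwd 22158],
   .loop none [.bwd 22213, .bwd 20288, .fwd 22158],
   .loop none [.bwd 22161, .bwd 14671, .fwd 22158],
   .loop none [.bwd 22175, .fwd 20415, .fwd 22159],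
   .loop none [.bwd 22161, .bwd 19992, .fwd 22159],
   .loop none [.bwd 22164, .bwd 19993, .fwd 22159],
   .loop none [.bwd 22167, .bwd 8063, .fwd 22159],
   .loop none [.bwd 22162, .fwd 17785, .fwd 22159],
   .loop none [.bwd 22196, .fwd 20995, .fwd 22160],
   .loop none [.bwd 22167, .bwd 20990, .fwd 22160],
   .loop none [.bwd 22163, .bwd 20991, .fwd 22160],
   .loop none [.bwd 22161, .bwd 20993, .fwd 22160],
   .loop none [.bwd 22217, .fwd 20586, .fwd 22161],
   .loop none [.bwd 22236, .bwd 20142, .fwd 22161],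
   .loop none [.bwd 22162, .fwd 3235, .fwd 22161],
   .loop none [.bwd 22174, .bwd 21153, .fwd 22162],
   .loop none [.bwd 22240, .fwd 3234, .fwd 22162],
   .loop none [.bwd 22167, .bwd 17786, .fwd 22162],
   .loop none [.bwd 22216, .bwd 21392, .fwd 22163],
   .loop none [.bwd 22239, .bwd 21059, .fwd 22163],
   .loop none [.bwd 22213, .bwd 7708, .fwd 22163],
   .loop none [.bwd 22222, .fwd 19941, .fwd 22164],
   .loop none [.bwd 22197, .bwd 11335, .fwd 22164],
   .loop none [.bwd 22243, .bwd 16385, .fwd 22165],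
   .loop none [.bwd 22244, .bwd 8243, .fwd 22166],
   .loop none [.bwd 22230, .bwd 3647, .fwd 22167],
   .loop none [.bwd 22241, .fwd 4321, .fwd 22168],
   .loop none [.bwd 22242, .bwd 20443, .fwd 22169],
   .loop none [.bwd 22176, .bwd 21378, .fwd 22169],
   .loop none [.bwd 22243, .bwd 20399, .fwd 22170],
   .loop none [.bwd 22173, .fwd 17540, .fwd 22170],
   .loop none [.bwd 22214, .fwd 3329, .fwd 22170],
   .loop none [.bwd 22171, .bwd 20405, .fwd 22170],
   .loop none [.bwd 22230, .bwd 19913, .fwd 22171],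
   .loop none [.bwd 22173, .fwd 10173, .fwd 22171],
   .loop none [.bwd 22181, .bwd 17387, .fwd 22171],
   .loop none [.bwd 22220, .bwd 8833, .fwd 22171],
   .loop none [.bwd 22245, .bwd 8361, .fwd 22172],
   .loop none [.bwd 22248, .fwd 19435, .fwd 22172],
   .loop none [.bwd 22209, .fwd 19442, .fwd 22172],
   .loop none [.bwd 22241, .bwd 20569, .fwd 22173],
   .loop none [.bwd 22216, .bwd 17543, .fwd 22173],
   .loop none [.bwd 22246, .fwd 2870, .fwd 22174],
   .loop none [.bwd 22249, .fwd 17499, .fwd 22174],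
   .loop none [.bwd 22217, .fwd 7722, .fwd 22174],
   .loop none [.bwd 22208, .fwd 21370, .fwd 22174],
   .loop none [.bwd 22175, .fwd 17354, .fwd 22174],
   .loop none [.bwd 22247, .fwd 17502, .fwd 22175],
   .loop none [.bwd 22250, .bwd 2789, .fwd 22175],
   .loop none [.bwd 22217, .bwd 17352, .fwd 22175],
   .loop none [.bwd 22222, .bwd 20418, .fwd 22175],
   .loop none [.bwd 22251, .fwd 4952, .fwd 22176],
   .loop none [.bwd 22185, .fwd 17720, .fwd 22177],
   .loop none [.bwd 22185, .bwd 21373, .fwd 22177],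
   .loop none [.bwd 22223, .fwd 7809, .fwd 22177],
   .loop none [.bwd 22243, .fwd 18921, .fwd 22178],
   .loop none [.bwd 22201, .fwd 9266, .fwd 22178],
   .loop none [.bwd 22218, .bwd 9267, .fwd 22178],
   .loop none [.bwd 22199, .fwd 9843, .fwd 22178],
   .loop none [.bwd 22233, .fwd 19543, .fwd 22178],
   .loop none [.bwd 22201, .bwd 16737, .fwd 22179],
   .loop none [.bwd 22227, .fwd 20707, .fwd 22179],
   .loop none [.bwd 22183, .fwd 20699, .fwd 22179],
   .loop none [.bwd 22193, .fwd 19458, .fwd 22179],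
   .loop none [.bwd 22180, .fwd 18557, .fwd 22179],
   .loop none [.bwd 22221, .fwd 20781, .fwd 22179],
   .loop none [.bwd 22245, .fwd 18838, .fwd 22180],
   .loop none [.bwd 22180, .fwd 18556, .fwd 22180],
   .loop none [.bwd 22225, .fwd 8098, .fwd 22180],
   .loop none [.bwd 22199, .bwd 19696, .fwd 22181],
   .loop none [.bwd 22193, .fwd 3285, .fwd 22181],
   .loop none [.bwd 22207, .bwd 3286, .fwd 22181],
   .loop none [.bwd 22219, .bwd 8264, .fwd 22181],
   .loop none [.bwd 22233, .bwd 21012, .fwd 22182],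
   .loop none [.bwd 22246, .bwd 10294, .fwd 22182],
   .loop none [.bwd 22221, .bwd 20393, .fwd 22182],
   .loop none [.bwd 22224, .bwd 21177, .fwd 22182],
   .loop none [.bwd 22183, .bwd 12771, .fwd 22182],
   .loop none [.bwd 22253, .fwd 21094, .fwd 22183],
   .loop none [.bwd 22247, .fwd 12422, .fwd 22183],
   .loop none [.bwd 22221, .fwd 20231, .fwd 22183],
   .loop none [.bwd 22221, .fwd 20234, .fwd 22183],
   .loop none [.bwd 22207, .fwd 3287, .fwd 22184],
   .loop none [.bwd 22190, .bwd 19452, .fwd 22184],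
   .loop none [.bwd 22222, .bwd 8268, .fwd 22184],
   .loop none [.bwd 22241, .fwd 7966, .fwd 22184],
   .loop none [.bwd 22254, .fwd 2791, .fwd 22185],
   .loop none [.bwd 22251, .fwd 20847, .fwd 22185],
   .loop none [.bwd 22188, .fwd 7670, .fwd 22185],
   .loop none [.bwd 22255, .bwd 17674, .fwd 22186],
   .loop none [.bwd 22189, .fwd 20829, .fwd 22186],
   .loop none [.bwd 22241, .bwd 17677, .fwd 22186],
   .loop none [.bwd 22223, .fwd 20276, .fwd 22186],
   .loop none [.bwd 22256, .bwd 19446, .fwd 22187],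
   .loop none [.bwd 22189, .fwd 20834, .fwd 22187],
   .loop none [.bwd 22257, .fwd 5763, .fwd 22188],
   .loop none [.bwd 22223, .bwd 17716, .fwd 22188],
   .loop none [.bwd 22216, .bwd 17717, .fwd 22188],
   .loop none [.bwd 22189, .fwd 20831, .fwd 22188],
   .loop none [.bwd 22207, .bwd 21212, .fwd 22190],
   .loop none [.bwd 22215, .fwd 21191, .fwd 22190],
   .loop none [.bwd 22245, .fwd 12850, .fwd 22190],
   .loop none [.bwd 22259, .bwd 16755, .fwd 22191],
   .loop none [.bwd 22195, .bwd 4656, .fwd 22191],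
   .loop none [.bwd 22192, .bwd 8364, .fwd 22191],
   .loop none [.bwd 22245, .fwd 4626, .fwd 22192],
   .loop none [.bwd 22194, .bwd 4627, .fwd 22192],
   .loop none [.bwd 22195, .fwd 4657, .fwd 22192],
   .loop none [.bwd 22252, .fwd 20789, .fwd 22193],
   .loop none [.bwd 22256, .bwd 8262, .fwd 22193],
   .loop none [.bwd 22258, .fwd 7963, .fwd 22193]]

theorem just99_len : just99.length = 250 := by decide +kernel

theorem just99_ok : cert.okFacts 24750 just99 = true := by decide +kernel

/-- justifications -/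
noncomputable def just100 : List Cert.Just :=
  [.loop none [.bwd 22256, .fwd 19167, .fwd 22194],
   .loop none [.bwd 22195, .bwd 8368, .fwd 22194],
   .loop none [.bwd 22258, .fwd 19430, .fwd 22195],
   .loop none [.bwd 22215, .bwd 18059, .fwd 22196],
   .loop none [.bwd 22239, .fwd 20872, .fwd 22196],
   .loop none [.bwd 22236, .fwd 17694, .fwd 22196],
   .loop none [.bwd 22259, .fwd 11333, .fwd 22197],
   .loop none [.bwd 22244, .fwd 19237, .fwd 22197],
   .loop none [.bwd 22198, .bwd 6081, .fwd 22197],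
   .loop none [.bwd 22245, .fwd 16685, .fwd 22198],
   .loop none [.bwd 22243, .fwd 9301, .fwd 22198],
   .loop none [.bwd 22230, .fwd 17057, .fwd 22199],
   .loop none [.bwd 22232, .fwd 19257, .fwd 22199],
   .loop none [.bwd 22235, .bwd 8287, .fwd 22199],
   .loop none [.bwd 22252, .bwd 21175, .fwd 22200],
   .loop none [.bwd 22232, .fwd 19784, .fwd 22200],
   .loop none [.bwd 22232, .fwd 19521, .fwd 22200],
   .loop none [.bwd 22234, .bwd 19568, .fwd 22200],
   .loop none [.bwd 22253, .fwd 21099, .fwd 22201],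
   .loop none [.bwd 22218, .fwd 18941, .fwd 22201],
   .loop none [.bwd 22256, .bwd 17953, .fwd 22202],
   .loop none [.bwd 22260, .fwd 19240, .fwd 22202],
   .loop none [.bwd 22233, .fwd 19541, .fwd 22202],
   .loop none [.bwd 22260, .fwd 19258, .fwd 22202],
   .loop none [.bwd 22203, .bwd 7243, .fwd 22202],
   .loop none [.bwd 22258, .bwd 17131, .fwd 22203],
   .loop none [.bwd 22235, .fwd 19527, .fwd 22203],
   .loop none [.bwd 22231, .fwd 17065, .fwd 22203],
   .loop none [.bwd 22260, .bwd 3232, .fwd 22204],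
   .loop none [.bwd 22253, .fwd 21095, .fwd 22205],
   .loop none [.bwd 22206, .fwd 20000, .fwd 22205],
   .loop none [.bwd 22206, .fwd 20003, .fwd 22205],
   .loop none [.bwd 22261, .bwd 5471, .fwd 22206],
   .loop none [.bwd 22220, .bwd 17956, .fwd 22207],
   .loop none [.bwd 22214, .bwd 21205, .fwd 22207],
   .loop none [.bwd 22248, .fwd 7965, .fwd 22207],
   .loop none [.bwd 22215, .bwd 7761, .fwd 22208],
   .loop none [.bwd 22214, .bwd 3328, .fwd 22208],
   .loop none [.bwd 22242, .bwd 7718, .fwd 22208],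
   .loop none [.bwd 22259, .bwd 19439, .fwd 22209],
   .loop none [.bwd 22262, .fwd 17718, .fwd 22209],
   .loop none [.bwd 22251, .fwd 21244, .fwd 22209],
   .loop none [.bwd 22214, .fwd 21052, .fwd 22210],
   .loop none [.bwd 22218, .fwd 18937, .fwd 22210],
   .loop none [.bwd 22243, .bwd 11363, .fwd 22210],
   .loop none [.bwd 22240, .fwd 19520, .fwd 22210],
   .loop none [.bwd 22238, .fwd 19583, .fwd 22210],
   .loop none [.bwd 22262, .bwd 17955, .fwd 22211],
   .loop none [.bwd 22231, .bwd 19267, .fwd 22211],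
   .loop none [.bwd 22260, .bwd 19268, .fwd 22211],
   .loop none [.bwd 22237, .bwd 19525, .fwd 22211],
   .loop none [.bwd 22212, .fwd 19548, .fwd 22211],
   .loop none [.bwd 22248, .bwd 19547, .fwd 22212],
   .loop none [.bwd 22232, .fwd 17067, .fwd 22212],
   .loop none [.bwd 22235, .bwd 9898, .fwd 22212],
   .loop none [.bwd 22230, .fwd 19232, .fwd 22212],
   .loop none [.bwd 22251, .bwd 21269, .fwd 22213],
   .loop none [.bwd 22237, .bwd 19886, .fwd 22213],
   .loop none [.bwd 22249, .bwd 21396, .fwd 22214],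
   .loop none [.bwd 22227, .fwd 7896, .fwd 22214],
   .loop none [.bwd 22224, .bwd 21182, .fwd 22215],
   .loop none [.bwd 22224, .bwd 2969, .fwd 22215],
   .loop none [.bwd 22246, .fwd 21174, .fwd 22215],
   .loop none [.bwd 22226, .fwd 7762, .fwd 22215],
   .loop none [.bwd 22249, .fwd 17498, .fwd 22216],
   .loop none [.bwd 22246, .fwd 10048, .fwd 22216],
   .loop none [.bwd 22251, .fwd 20850, .fwd 22216],
   .loop none [.bwd 22263, .bwd 7720, .fwd 22217],
   .loop none [.bwd 22264, .bwd 3009, .fwd 22217],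
   .loop none [.bwd 22242, .fwd 21367, .fwd 22217],
   .loop none [.bwd 22233, .bwd 11084, .fwd 22218],
   .loop none [.bwd 22260, .fwd 19259, .fwd 22218],
   .loop none [.bwd 22261, .fwd 19806, .fwd 22218],
   .loop none [.bwd 22260, .fwd 19239, .fwd 22219],
   .loop none [.bwd 22249, .fwd 17951, .fwd 22219],
   .loop none [.bwd 22256, .fwd 4130, .fwd 22219],
   .loop none [.bwd 22262, .bwd 4131, .fwd 22219],
   .loop none [.bwd 22256, .bwd 21230, .fwd 22219],
   .loop none [.bwd 22255, .bwd 8265, .fwd 22219],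
   .loop none [.bwd 22224, .bwd 17545, .fwd 22220],
   .loop none [.bwd 22257, .bwd 10563, .fwd 22220],
   .loop none [.bwd 22254, .fwd 10564, .fwd 22220],
   .loop none [.bwd 22261, .bwd 20780, .fwd 22221],
   .loop none [.bwd 22263, .fwd 20391, .fwd 22221],
   .loop none [.bwd 22262, .fwd 4132, .fwd 22222],
   .loop none [.bwd 22259, .bwd 21221, .fwd 22222],
   .loop none [.bwd 22241, .bwd 8269, .fwd 22222],
   .loop none [.bwd 22265, .fwd 3011, .fwd 22223],
   .loop none [.bwd 22242, .fwd 7717, .fwd 22223],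
   .loop none [.bwd 22265, .bwd 7806, .fwd 22224],
   .loop none [.bwd 22252, .fwd 7764, .fwd 22224],
   .loop none [.bwd 22259, .bwd 18852, .fwd 22225],
   .loop none [.bwd 22225, .fwd 18853, .fwd 22225],
   .loop none [.bwd 22258, .fwd 19432, .fwd 22225],
   .loop none [.bwd 22255, .fwd 21199, .fwd 22225],
   .loop none [.bwd 22252, .fwd 19905, .fwd 22226],
   .loop none [.bwd 22252, .bwd 3120, .fwd 22226],
   .loop none [.bwd 22248, .bwd 20715, .fwd 22226],
   .loop none [.bwd 22264, .fwd 7804, .fwd 22226],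
   .loop none [.bwd 22247, .bwd 3074, .fwd 22227],
   .loop none [.bwd 22245, .bwd 20709, .fwd 22227],
   .loop none [.bwd 22263, .fwd 7894, .fwd 22227],
   .loop none [.bwd 22256, .bwd 4129, .fwd 22228],
   .loop none [.bwd 22246, .bwd 21158, .fwd 22228],
   .loop none [.bwd 22249, .fwd 21371, .fwd 22228],
   .loop none [.bwd 22229, .bwd 8261, .fwd 22228],
   .loop none [.bwd 22258, .bwd 4317, .fwd 22229],
   .loop none [.bwd 22262, .fwd 19754, .fwd 22229],
   .loop none [.bwd 22259, .bwd 19173, .fwd 22229],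
   .loop none [.bwd 22243, .bwd 19231, .fwd 22230],
   .loop none [.bwd 22240, .fwd 17774, .fwd 22230],
   .loop none [.bwd 22244, .fwd 8064, .fwd 22230],
   .loop none [.bwd 22257, .bwd 20126, .fwd 22231],
   .loop none [.bwd 22234, .bwd 10260, .fwd 22231],
   .loop none [.bwd 22240, .fwd 17772, .fwd 22231],
   .loop none [.bwd 22253, .fwd 21101, .fwd 22231],
   .loop none [.bwd 22232, .bwd 8114, .fwd 22231],
   .loop none [.bwd 22254, .fwd 19685, .fwd 22232],
   .loop none [.bwd 22244, .fwd 4073, .fwd 22232],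
   .loop none [.bwd 22239, .fwd 20869, .fwd 22233],
   .loop none [.bwd 22261, .fwd 19803, .fwd 22233],
   .loop none [.bwd 22253, .fwd 21103, .fwd 22233],
   .loop none [.bwd 22265, .bwd 20137, .fwd 22234],
   .loop none [.bwd 22236, .fwd 8908, .fwd 22234],
   .loop none [.bwd 22236, .bwd 20138, .fwd 22234],
   .loop none [.bwd 22235, .bwd 19759, .fwd 22234],
   .loop none [.bwd 22261, .bwd 19760, .fwd 22234],
   .loop none [.bwd 22255, .bwd 19526, .fwd 22235],
   .loop none [.bwd 22244, .fwd 17245, .fwd 22235],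
   .loop none [.bwd 22260, .fwd 17713, .fwd 22235],
   .loop none [.bwd 22264, .bwd 18058, .fwd 22236],
   .loop none [.bwd 22244, .bwd 19795, .fwd 22236],
   .loop none [.bwd 22238, .fwd 19580, .fwd 22236],
   .loop none [.bwd 22247, .fwd 20570, .fwd 22237],
   .loop none [.bwd 22253, .bwd 21104, .fwd 22237],
   .loop none [.bwd 22238, .fwd 19581, .fwd 22237],
   .loop none [.bwd 22243, .bwd 10770, .fwd 22237],
   .loop none [.bwd 22239, .bwd 20893, .fwd 22237],
   .loop none [.bwd 22263, .fwd 20710, .fwd 22238],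
   .loop none [.bwd 22261, .fwd 5472, .fwd 22238],
   .loop none [.bwd 22239, .fwd 20871, .fwd 22238],
   .loop none [.bwd 22246, .bwd 21056, .fwd 22239],
   .loop none [.bwd 22243, .fwd 20900, .fwd 22239],
   .loop none [.bwd 22249, .bwd 20289, .fwd 22240],
   .loop none [.bwd 22260, .fwd 3233, .fwd 22240],
   .loop none [.bwd 22244, .bwd 17773, .fwd 22240],
   .loop none [.bwd 22248, .fwd 4320, .fwd 22241],
   .loop none [.bwd 22245, .bwd 19159, .fwd 22241],
   .loop none [.bwd 22264, .bwd 7719, .fwd 22242],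
   .loop none [.bwd 22263, .bwd 2868, .fwd 22242],
   .loop none [.bwd 22251, .fwd 20848, .fwd 22242],
   .loop none [.bwd 22250, .fwd 21372, .fwd 22244],
   .loop none [.bwd 22259, .bwd 16688, .fwd 22245],
   .loop none [.bwd 22263, .fwd 2869, .fwd 22246],
   .loop none [.bwd 22247, .bwd 7897, .fwd 22246],
   .loop none [.bwd 22251, .fwd 20846, .fwd 22247],
   .loop none [.bwd 22263, .fwd 10029, .fwd 22247],
   .loop none [.bwd 22262, .bwd 20575, .fwd 22247],
   .loop none [.bwd 22254, .bwd 17666, .fwd 22248],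
   .loop none [.bwd 22255, .fwd 4319, .fwd 22248],
   .loop none [.bwd 22262, .fwd 8267, .fwd 22248],
   .loop none [.bwd 22257, .bwd 5762, .fwd 22249],
   .loop none [.bwd 22250, .bwd 7668, .fwd 22249],
   .loop none [.bwd 22251, .bwd 20876, .fwd 22250],
   .loop none [.bwd 22255, .bwd 17505, .fwd 22250],
   .loop none [.bwd 22254, .bwd 2790, .fwd 22250],
   .loop none [.bwd 22259, .fwd 21222, .fwd 22250],
   .loop none [.bwd 22264, .bwd 17508, .fwd 22250],
   .loop none [.bwd 22254, .fwd 17636, .fwd 22252],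
   .loop none [.bwd 22254, .bwd 20788, .fwd 22252],
   .loop none [.bwd 22265, .fwd 7807, .fwd 22252],
   .loop none [.bwd 22261, .bwd 21098, .fwd 22253],
   .loop none [.bwd 22261, .bwd 21100, .fwd 22253],
   .loop none [.bwd 22257, .fwd 7669, .fwd 22254],
   .loop none [.bwd 22258, .fwd 4318, .fwd 22255],
   .loop none [.bwd 22265, .fwd 20101, .fwd 22255],
   .loop none [.bwd 22258, .bwd 8263, .fwd 22256],
   .loop none [.bwd 22262, .fwd 17706, .fwd 22257],
   .loop none [.bwd 22265, .bwd 17630, .fwd 22257],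
   .loop none [.bwd 22258, .bwd 19949, .fwd 22257],
   .loop none [.bwd 22264, .bwd 21223, .fwd 22263],
   .loop none [.bwd 22265, .bwd 20136, .fwd 22264],
   .loop none [.bwd 22265, .bwd 3010, .fwd 22264]]

theorem just100_len : just100.length = 183 := by decide +kernel

theorem just100_ok : cert.okFacts 25000 just100 = true := by decide +kernel


end CfsgLib.ThCent.DK
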