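import Cfsg.Agent.Lib.PresCert.Range
import Cfsg.Agent.Lib.ThCent.FactChunks
import Cfsg.Agent.Lib.ThCent.DKFacts0
import Cfsg.Agent.Lib.ThCent.DKFacts1
import Cfsg.Agent.Lib.ThCent.DKFacts2
import Cfsg.Agent.Lib.ThCent.DKFacts3
import Cfsg.Agent.Lib.ThCent.DKFacts4
import Cfsg.Agent.Lib.ThCent.DKFacts5
import Cfsg.Agent.Lib.ThCent.DKFacts6
import Cfsg.Agent.Lib.ThCent.DKFacts7
import Cfsg.Agent.Lib.ThCent.DKFacts8

/-!
The certificate is valid.
-/

namespace CfsgLib.ThCent.DK

open CfsgLib.PresCert

set_option maxRecDepth 100000

/-- justifications -/
noncomputable def justs : List Cert.Just :=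
  [just0, just1, just2, just3, just4, just5, just6, just7, just8, just9, just10, just11, just12, just13, just14, just15, just16, just17, just18, just19, just20, just21, just22, just23, just24, just25, just26, just27, just28, just29, just30, just31, just32, just33, just34, just35, just36, just37, just38, just39, just40, just41, just42, just43, just44, just45, just46, just47, just48, just49, just50, just51, just52, just53, just54, just55, just56, just57, just58, just59, just60, just61, just62, just63, just64, just65, just66, just67, just68, just69, just70, just71, just72, just73, just74, just75, just76, just77, just78, just79, just80, just81, just82, just83, just84, just85, just86, just87, just88, just89, just90, just91, just92, just93, just94, just95, just96, just97, just98, just99, just100].flatten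

theorem slots_all : cert.okRange 0 819 = true := by decide +kernel

theorem labs_ok : ((List.range cert.nfact).all fun i => Nat.ble (cert.fLab i) cert.g) = true := by
  decide +kernel

theorem valid : Cert.Valid cert justs where
  facts := by
    exact (Cert.okFacts_cons just0_len just0_ok (Cert.okFacts_cons just1_len just1_ok (Cert.okFacts_cons just2_len just2_ok (Cert.okFacts_cons just3_len just3_ok (Cert.okFacts_cons just4_len just4_ok (Cert.okFacts_cons just5_len just5_ok (Cert.okFacts_cons just6_len just6_ok (Cert.okFacts_cons just7_len just7_ok (Cert.okFacts_cons just8_len just8_ok (Cert.okFacts_cons just9_len just9_ok (Cert.okFacts_cons just10_len just10_ok (Cert.okFacts_cons just11_len just11_ok (Cert.okFacts_cons just12_len just12_ok (Cert.okFacts_cons just13_len just13_ok (Cert.okFacts_cons just14_len just14_ok (Cert.okFacts_cons just15_len just15_ok (Cert.okFacts_cons just16_len just16_ok (Cert.okFacts_cons just17_len just17_ok (Cert.okFacts_cons just18_len just18_ok (Cert.okFacts_cons just19_len just19_ok (Cert.okFacts_cons just20_len just20_ok (Cert.okFacts_cons just21_len just21_ok (Cert.okFacts_cons just22_len just22_ok (Cert.okFacts_cons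 just23_len just23_ok (Cert.okFacts_cons just24_len just24_ok (Cert.okFacts_cons just25_len just25_ok (Cert.okFacts_cons just26_len just26_ok (Cert.okFacts_cons just27_len just27_ok (Cert.okFacts_cons just28_len just28_ok (Cert.okFacts_cons just29_len just29_ok (Cert.okFacts_cons just30_len just30_ok (Cert.okFacts_cons just31_len just31_ok (Cert.okFacts_cons just32_len just32_ok (Cert.okFacts_cons just33_len just33_ok (Cert.okFacts_cons just34_len just34_ok (Cert.okFacts_cons just35_len just35_ok (Cert.okFacts_cons just36_len just36_ok (Cert.okFacts_cons just37_len just37_ok (Cert.okFacts_cons just38_len just38_ok (Cert.okFacts_cons just39_len just39_ok (Cert.okFacts_cons just40_len just40_ok (Cert.okFacts_cons just41_len just41_ok (Cert.okFacts_cons just42_len just42_ok (Cert.okFacts_cons just43_len just43_ok (Cert.okFacts_cons just44_len just44_ok (Cert.okFacts_cons just45_len just45_ok (Cert.okFacts_cons just46_len just46_ok (Cert.okFacts_cons just47_len just47_ok (Cert.okFacts_cons just48_len just48_ok (Cert.okFacts_cons just49_len just49_ok (Cert.okFacts_cons just50_len just50_ok (Cert.okFacts_cons just51_len just51_ok (Cert.okFacts_cons just52_len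 just52_ok (Cert.okFacts_cons just53_len just53_ok (Cert.okFacts_cons just54_len just54_ok (Cert.okFacts_cons just55_len just55_ok (Cert.okFacts_cons just56_len just56_ok (Cert.okFacts_cons just57_len just57_ok (Cert.okFacts_cons just58_len just58_ok (Cert.okFacts_cons just59_len just59_ok (Cert.okFacts_cons just60_len just60_ok (Cert.okFacts_cons just61_len just61_ok (Cert.okFacts_cons just62_len just62_ok (Cert.okFacts_cons just63_len just63_ok (Cert.okFacts_cons just64_len just64_ok (Cert.okFacts_cons just65_len just65_ok (Cert.okFacts_cons just66_len just66_ok (Cert.okFacts_cons just67_len just67_ok (Cert.okFacts_cons just68_len just68_ok (Cert.okFacts_cons just69_len just69_ok (Cert.okFacts_cons just70_len just70_ok (Cert.okFacts_cons just71_len just71_ok (Cert.okFacts_cons just72_len just72_ok (Cert.okFacts_cons just73_len just73_ok (Cert.okFacts_cons just74_len just74_ok (Cert.okFacts_cons just75_len just75_ok (Cert.okFacts_cons just76_len just76_ok (Cert.okFacts_cons just77_len just77_ok (Cert.okFacts_cons just78_len just78_ok (Cert.okFacts_cons just79_len just79_ok (Cert.okFacts_cons just80_len just80_ok (Cert.okFacts_cons just81_len just81_ok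 (Cert.okFacts_cons just82_len just82_ok (Cert.okFacts_cons just83_len just83_ok (Cert.okFacts_cons just84_len just84_ok (Cert.okFacts_cons just85_len just85_ok (Cert.okFacts_cons just86_len just86_ok (Cert.okFacts_cons just87_len just87_ok (Cert.okFacts_cons just88_len just88_ok (Cert.okFacts_cons just89_len just89_ok (Cert.okFacts_cons just90_len just90_ok (Cert.okFacts_cons just91_len just91_ok (Cert.okFacts_cons just92_len just92_ok (Cert.okFacts_cons just93_len just93_ok (Cert.okFacts_cons just94_len just94_ok (Cert.okFacts_cons just95_len just95_ok (Cert.okFacts_cons just96_len just96_ok (Cert.okFacts_cons just97_len just97_ok (Cert.okFacts_cons just98_len just98_ok (Cert.okFacts_cons just99_len just99_ok (Cert.okFacts_cons just100_len just100_ok (Cert.okFacts_nil _))))))))))))))))))))))))))))))))))))))))))))))))))))))))))))))))))))))))))))))))))))))))))))))))))))))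
  len := by decide +kernel
  labs := labs_ok
  slots := fun c hc => Cert.slotsOK_of_range slots_all c (Nat.zero_le c) (by simpa [cert] using hc)
  pos := (by decide +kernel : 0 < cert.n)

end CfsgLib.ThCent.DK
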