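import Cfsg.Agent.Lib.ThCent.DXData

/-!
Justifications of the side facts (generated data).
-/

namespace CfsgLib.ThCent.DX

open CfsgLib.PresCert

set_option maxRecDepth 100000

/-- justifications -/
noncomputable def just156 : List Cert.Just :=
  [.loop none [.fwd 33655, .bwd 38596],
   .loop none [.fwd 34352, .bwd 38596],
   .loop none [.bwd 32178, .bwd 38608],
   .loop none [.bwd 3410, .fwd 38608, .fwd 8185],
   .loop none [.fwd 39003],
   .loop none [.bwd 35942, .fwd 38608, .fwd 8186],
   .loop none [.bwd 39005],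
   .loop none [.bwd 9007, .fwd 38608, .fwd 8148],
   .loop none [.bwd 39007],
   .loop none [.fwd 8954, .fwd 38608, .bwd 8199],
   .loop none [.bwd 39009],
   .loop none [.bwd 37967, .fwd 38608, .fwd 9163],
   .loop none [.bwd 39011],
   .loop none [.bwd 34528, .bwd 38611],
   .loop none [.fwd 35887, .fwd 38611, .bwd 5498],
   .loop none [.bwd 39014],
   .loop none [.bwd 37979, .fwd 38611, .bwd 9723],
   .loop none [.bwd 39016],
   .loop none [.bwd 9011, .fwd 38611, .fwd 9370],
   .loop none [.fwd 39018],
   .loop none [.fwd 8958, .fwd 38611, .bwd 9429],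
   .loop none [.fwd 39020],
   .loop none [.bwd 37988, .fwd 38611, .bwd 35429],
   .loop none [.bwd 39022],
   .loop none [.fwd 4590, .fwd 38613, .fwd 35481],
   .loop none [.fwd 39024],
   .loop none [.bwd 35482, .bwd 38613],
   .loop none [.fwd 5700, .fwd 38615, .fwd 35599],
   .loop none [.fwd 39027],
   .loop none [.fwd 37963, .bwd 38615],
   .loop none [.fwd 32141, .bwd 38617],
   .loop none [.bwd 32082, .bwd 38617],
   .loop none [.fwd 37337, .fwd 38617, .bwd 8334],
   .loop none [.bwd 39032],
   .loop none [.bwd 32089, .bwd 38617],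
   .loop none [.fwd 33411, .bwd 38619],
   .loop none [.bwd 9393, .bwd 38619],
   .loop none [.bwd 33351, .bwd 38619],
   .loop none [.bwd 34381, .bwd 38623],
   .loop none [.bwd 17484, .bwd 38623],
   .loop none [.fwd 17458, .fwd 38623, .bwd 35335],
   .loop none [.bwd 39040],
   .loop none [.fwd 17454, .fwd 38623, .fwd 34386],
   .loop none [.bwd 39042],
   .loop none [.fwd 35066, .fwd 38623, .bwd 17495],
   .loop none [.fwd 39044],
   .loop none [.bwd 19726, .bwd 38623],
   .loop none [.bwd 33270, .bwd 38625],
   .loop none [.fwd 4475, .bwd 38625],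
   .loop none [.fwd 7854, .bwd 38625],
   .loop none [.bwd 38150, .fwd 38625, .bwd 17461],
   .loop none [.bwd 39050],
   .loop none [.fwd 37324, .fwd 38625, .bwd 17998],
   .loop none [.bwd 39052],
   .loop none [.fwd 9018, .bwd 38625],
   .loop none [.fwd 36602, .bwd 38625],
   .loop none [.bwd 34058, .bwd 38627],
   .loop none [.fwd 3456, .bwd 38627],
   .loop none [.fwd 8091, .bwd 38627],
   .loop none [.bwd 37995, .fwd 38627, .bwd 11012],
   .loop none [.bwd 39059],
   .loop none [.fwd 11199, .fwd 38627, .fwd 17228],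
   .loop none [.fwd 39061],
   .loop none [.bwd 8962, .bwd 38627],
   .loop none [.bwd 38173, .fwd 38627, .bwd 35077],
   .loop none [.bwd 39064],
   .loop none [.fwd 35644, .fwd 38627, .fwd 38174],
   .loop none [.fwd 39066],
   .loop none [.fwd 5496, .fwd 38629, .fwd 36990],
   .loop none [.fwd 39068],
   .loop none [.bwd 35519, .fwd 38629, .fwd 36991],
   .loop none [.fwd 39070],
   .loop none [.fwd 19760, .bwd 38629],
   .loop none [.bwd 8909, .fwd 38631, .fwd 11888],
   .loop none [.fwd 39073],
   .loop none [.fwd 36634, .bwd 38631],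
   .loop none [.bwd 34750, .bwd 38633],
   .loop none [.bwd 31936, .fwd 38635, .bwd 36056],
   .loop none [.fwd 39077],
   .loop none [.fwd 33215, .fwd 38635, .fwd 35479],
   .loop none [.bwd 39079],
   .loop none [.fwd 11623, .bwd 38635],
   .loop none [.fwd 38670, .bwd 33843, .fwd 38637, .fwd 37992],
   .loop none [.fwd 39082],
   .loop none [.fwd 34077, .fwd 38639, .bwd 35114],
   .loop none [.fwd 39084],
   .loop none [.fwd 24296, .bwd 38641],
   .loop none [.bwd 32724, .fwd 38644, .bwd 36067],
   .loop none [.fwd 39087],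
   .loop none [.fwd 33934, .fwd 38644, .fwd 35504],
   .loop none [.fwd 39089],
   .loop none [.fwd 32957, .fwd 38646, .bwd 16156],
   .loop none [.fwd 39091],
   .loop none [.fwd 34074, .fwd 38646, .bwd 19074],
   .loop none [.fwd 39093],
   .loop none [.fwd 35880, .fwd 38646, .fwd 19287],
   .loop none [.fwd 39095],
   .loop none [.fwd 764, .fwd 38648, .bwd 37698],
   .loop none [.fwd 39097],
   .loop none [.fwd 10027, .fwd 38651, .bwd 15497],
   .loop none [.fwd 39099],
   .loop none [.bwd 37100, .bwd 38651],
   .loop none [.bwd 36635, .bwd 38654],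
   .loop none [.bwd 34068, .fwd 38654, .fwd 36637],
   .loop none [.bwd 39103],
   .loop none [.bwd 32729, .fwd 38656, .bwd 35979],
   .loop none [.bwd 39105],
   .loop none [.bwd 37281, .bwd 38656],
   .loop none [.bwd 36638, .bwd 38658],
   .loop none [.bwd 32151, .fwd 38664, .bwd 35594],
   .loop none [.fwd 39109],
   .loop none [.fwd 32596, .fwd 38664, .fwd 3445],
   .loop none [.bwd 39111],
   .loop none [.bwd 8986, .bwd 38664],
   .loop none [.bwd 37767, .fwd 38666, .bwd 37162],
   .loop none [.bwd 39114],
   .loop none [.fwd 17001, .bwd 38666],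
   .loop none [.bwd 17964, .bwd 38666],
   .loop none [.fwd 37784, .fwd 38666, .bwd 36853],
   .loop none [.bwd 39118],
   .loop none [.fwd 34671, .fwd 38668, .bwd 36388],
   .loop none [.bwd 39120],
   .loop none [.fwd 37022, .fwd 38670, .bwd 34041],
   .loop none [.fwd 39122],
   .loop none [.bwd 33108, .bwd 38670],
   .loop none [.bwd 37766, .fwd 38670, .bwd 33843],
   .loop none [.bwd 39125],
   .loop none [.bwd 37728, .fwd 38670, .bwd 34330],
   .loop none [.bwd 39127],
   .loop none [.bwd 37785, .fwd 38670, .bwd 34335],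
   .loop none [.bwd 39129],
   .loop none [.fwd 32807, .fwd 38673, .bwd 35349],
   .loop none [.bwd 39131],
   .loop none [.fwd 33945, .fwd 38675, .fwd 36870],
   .loop none [.fwd 39133],
   .loop none [.bwd 573, .fwd 38677, .bwd 37167],
   .loop none [.fwd 39135],
   .loop none [.fwd 37105, .bwd 38679],
   .loop none [.fwd 37426, .fwd 38679, .bwd 20172],
   .loop none [.bwd 39138],
   .loop none [.bwd 37277, .bwd 38679],
   .loop none [.bwd 9360, .fwd 38682, .bwd 36069],
   .loop none [.fwd 39141],
   .loop none [.fwd 34380, .fwd 38684, .bwd 37106],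
   .loop none [.fwd 39143],
   .loop none [.fwd 33218, .fwd 38687, .bwd 35685],
   .loop none [.bwd 39145],
   .loop none [.bwd 35317, .bwd 38689],
   .loop none [.bwd 33865, .fwd 38689, .bwd 35354],
   .loop none [.bwd 39148],
   .loop none [.fwd 37190, .bwd 38691],
   .loop none [.bwd 34395, .bwd 38691],
   .loop none [.fwd 35339, .bwd 38691],
   .loop none [.fwd 37594, .fwd 38691, .bwd 18411, .bwd 38983],
   .loop none [.bwd 39153],
   .loop none [.bwd 10214, .fwd 38695, .fwd 3312],
   .loop none [.bwd 39155],
   .loop none [.fwd 5923, .fwd 38697, .fwd 37568],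
   .loop none [.fwd 39157],
   .loop none [.bwd 35549, .fwd 38697, .bwd 37059],
   .loop none [.fwd 39159],
   .loop none [.fwd 567, .fwd 38699, .bwd 36184],
   .loop none [.fwd 39161],
   .loop none [.bwd 38148, .fwd 38701, .bwd 37189],
   .loop none [.bwd 39163],
   .loop none [.fwd 4850, .fwd 38701, .bwd 37259],
   .loop none [.fwd 39165],
   .loop none [.fwd 36999, .fwd 38703, .bwd 37000],
   .loop none [.bwd 39167],
   .loop none [.fwd 35078, .fwd 38703, .bwd 36994],
   .loop none [.fwd 39169],
   .loop none [.fwd 37308, .fwd 38703, .bwd 36033],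
   .loop none [.bwd 39171],
   .loop none [.fwd 38693, .bwd 38703],
   .loop none [.bwd 38103, .bwd 38705],
   .loop none [.fwd 23299, .bwd 38705],
   .loop none [.bwd 34943, .bwd 38705],
   .loop none [.fwd 33267, .fwd 38707, .bwd 36925],
   .loop none [.fwd 39177],
   .loop none [.fwd 8987, .bwd 38707],
   .loop none [.bwd 5518, .fwd 38710, .bwd 34701],
   .loop none [.fwd 39180],
   .loop none [.bwd 6638, .fwd 38710, .fwd 11928],
   .loop none [.fwd 39182],
   .loop none [.fwd 6840, .fwd 38710, .bwd 11925],
   .loop none [.fwd 39184],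
   .loop none [.fwd 11700, .fwd 38710, .bwd 36987],
   .loop none [.fwd 39186],
   .loop none [.bwd 9908, .fwd 38710, .fwd 34293],
   .loop none [.fwd 39188],
   .loop none [.bwd 5565, .fwd 38712, .fwd 10426],
   .loop none [.fwd 39190],
   .loop none [.bwd 10623, .fwd 38714, .fwd 33597],
   .loop none [.fwd 39192],
   .loop none [.fwd 6952, .fwd 38714, .bwd 12017],
   .loop none [.fwd 39194],
   .loop none [.bwd 32388, .bwd 38714],
   .loop none [.bwd 33369, .bwd 38714],
   .loop none [.bwd 10718, .bwd 38716],
   .loop none [.fwd 34573, .fwd 38716, .bwd 11736],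
   .loop none [.bwd 39199],
   .loop none [.fwd 10717, .bwd 38716],
   .loop none [.bwd 14744, .bwd 38716],
   .loop none [.bwd 37312, .fwd 38718, .bwd 11189],
   .loop none [.bwd 39203],
   .loop none [.bwd 10724, .fwd 38720, .fwd 11879],
   .loop none [.bwd 39205],
   .loop none [.fwd 14240, .bwd 38720],
   .loop none [.fwd 31642, .fwd 38722, .bwd 10260],
   .loop none [.fwd 39208],
   .loop none [.fwd 11998, .bwd 38722],
   .loop none [.fwd 10664, .fwd 38722, .fwd 11321],
   .loop none [.bwd 39211],
   .loop none [.bwd 33573, .bwd 38722],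
   .loop none [.bwd 32387, .bwd 38722],
   .loop none [.bwd 37654, .fwd 38724, .fwd 33048, .bwd 38767],
   .loop none [.bwd 39215],
   .loop none [.fwd 38728, .fwd 38726],
   .loop none [.bwd 37318, .fwd 39217],
   .loop none [.bwd 38186, .bwd 39217, .bwd 37317, .bwd 38739],
   .loop none [.bwd 39219],
   .loop none [.fwd 14710, .bwd 38728],
   .loop none [.bwd 39218, .fwd 38728, .bwd 12381],
   .loop none [.bwd 39222],
   .loop none [.fwd 32789, .bwd 38728],
   .loop none [.bwd 34391, .bwd 38728],
   .loop none [.bwd 9809, .fwd 38731, .fwd 34392],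
   .loop none [.fwd 39226],
   .loop none [.fwd 34084, .fwd 38731, .fwd 34393],
   .loop none [.bwd 39228],
   .loop none [.bwd 11455, .fwd 38731, .fwd 34394],
   .loop none [.fwd 39230],
   .loop none [.fwd 35132, .fwd 38734, .fwd 34389],
   .loop none [.bwd 39232],
   .loop none [.bwd 34390, .bwd 38734],
   .loop none [.fwd 34355, .bwd 38734],
   .loop none [.fwd 33743, .fwd 38736, .bwd 34887],
   .loop none [.fwd 39236],
   .loop none [.fwd 37313, .bwd 38741],
   .loop none [.fwd 12263, .fwd 38744, .fwd 12441],
   .loop none [.fwd 39239],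
   .loop none [.fwd 12440, .bwd 38744],
   .loop none [.bwd 14741, .bwd 38744],
   .loop none [.fwd 33729, .fwd 38747, .fwd 34417],
   .loop none [.bwd 39243],
   .loop none [.bwd 7673, .fwd 38747, .bwd 4515],
   .loop none [.fwd 39245],
   .loop none [.fwd 33738, .fwd 38747, .bwd 34457],
   .loop none [.bwd 39247],
   .loop none [.fwd 10991, .fwd 38747, .bwd 9206]]

theorem just156_len : just156.length = 250 := by decide +kernel

theorem just156_ok : cert.okFacts 39000 just156 = true := by decide +kernel

/-- justifications -/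
noncomputable def just157 : List Cert.Just :=
  [.loop none [.bwd 39249],
   .loop none [.fwd 35843, .fwd 38747, .bwd 37271],
   .loop none [.fwd 39251],
   .loop none [.fwd 33765, .fwd 38747, .bwd 34894],
   .loop none [.bwd 39253],
   .loop none [.bwd 10340, .fwd 38749, .bwd 15097],
   .loop none [.fwd 39255],
   .loop none [.bwd 10886, .fwd 38749, .fwd 13098],
   .loop none [.fwd 39257],
   .loop none [.fwd 13097, .bwd 38749],
   .loop none [.bwd 37674, .fwd 38749, .fwd 15210],
   .loop none [.bwd 39260],
   .loop none [.fwd 12399, .fwd 38749, .bwd 13186],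
   .loop none [.fwd 39262],
   .loop none [.bwd 32560, .bwd 38751],
   .loop none [.fwd 35546, .fwd 38751, .bwd 33772],
   .loop none [.fwd 39265],
   .loop none [.fwd 37627, .fwd 38751, .bwd 32913],
   .loop none [.bwd 39267],
   .loop none [.bwd 32563, .bwd 38751],
   .loop none [.fwd 11022, .fwd 38755, .bwd 34801],
   .loop none [.bwd 39270],
   .loop none [.fwd 33815, .fwd 38755, .fwd 9742],
   .loop none [.fwd 39272],
   .loop none [.bwd 33766, .bwd 38755],
   .loop none [.bwd 17140, .fwd 38755, .fwd 33736],
   .loop none [.bwd 39275],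
   .loop none [.fwd 35852, .fwd 38755, .fwd 33737],
   .loop none [.fwd 39277],
   .loop none [.bwd 17175, .fwd 38755, .bwd 35103],
   .loop none [.bwd 39279],
   .loop none [.fwd 14688, .bwd 38758],
   .loop none [.fwd 33394, .bwd 38758],
   .loop none [.bwd 14723, .fwd 38758, .bwd 34183],
   .loop none [.fwd 39283],
   .loop none [.fwd 12397, .fwd 38758, .bwd 34186],
   .loop none [.fwd 39285],
   .loop none [.fwd 33237, .bwd 38758],
   .loop none [.bwd 32790, .bwd 38758],
   .loop none [.fwd 34125, .bwd 38760],
   .loop none [.fwd 12283, .fwd 38760, .fwd 33770],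
   .loop none [.fwd 39290],
   .loop none [.fwd 6629, .fwd 38765, .fwd 38069],
   .loop none [.fwd 39292],
   .loop none [.fwd 30269, .fwd 38765, .fwd 10558],
   .loop none [.fwd 39294],
   .loop none [.bwd 38059, .fwd 38767, .bwd 32350],
   .loop none [.bwd 39296],
   .loop none [.bwd 31087, .bwd 38767],
   .loop none [.fwd 37311, .bwd 38767],
   .loop none [.fwd 32353, .bwd 38767],
   .loop none [.bwd 10475, .fwd 38769, .fwd 10452],
   .loop none [.bwd 39301],
   .loop none [.bwd 32265, .bwd 38771],
   .loop none [.bwd 31103, .bwd 38771],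
   .loop none [.fwd 32313, .bwd 38771],
   .loop none [.fwd 31108, .bwd 38771],
   .loop none [.fwd 39195, .bwd 14933, .bwd 38771],
   .loop none [.fwd 30342, .fwd 38773, .fwd 10201],
   .loop none [.bwd 39308],
   .loop none [.bwd 10507, .fwd 38775, .fwd 9781],
   .loop none [.bwd 39310],
   .loop none [.bwd 33590, .bwd 38777],
   .loop none [.bwd 33591, .bwd 38777],
   .loop none [.bwd 33436, .bwd 38777],
   .loop none [.fwd 33773, .bwd 38777],
   .loop none [.bwd 31551, .bwd 38779],
   .loop none [.bwd 32516, .bwd 38779],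
   .loop none [.fwd 37666, .fwd 38779, .bwd 37653],
   .loop none [.bwd 39318],
   .loop none [.bwd 31553, .bwd 38779],
   .loop none [.fwd 33706, .bwd 38779],
   .loop none [.bwd 9033, .fwd 38781, .fwd 11678],
   .loop none [.fwd 39322],
   .loop none [.bwd 29184, .fwd 38785, .bwd 34757],
   .loop none [.fwd 39324],
   .loop none [.fwd 33031, .fwd 38788, .bwd 4406],
   .loop none [.bwd 39326],
   .loop none [.fwd 12042, .bwd 38790],
   .loop none [.fwd 32306, .fwd 38792, .bwd 4468],
   .loop none [.fwd 39329],
   .loop none [.bwd 409, .fwd 38794, .bwd 36131],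
   .loop none [.fwd 39331],
   .loop none [.fwd 31625, .bwd 38796],
   .loop none [.fwd 10470, .bwd 38796],
   .loop none [.bwd 31064, .bwd 38796],
   .loop none [.fwd 38804, .fwd 11233, .bwd 38796],
   .loop none [.bwd 31065, .bwd 38796],
   .loop none [.fwd 30280, .bwd 38796],
   .loop none [.bwd 12032, .bwd 38796],
   .loop none [.bwd 10240, .fwd 38798, .bwd 3449],
   .loop none [.bwd 39340],
   .loop none [.bwd 6883, .fwd 38800, .bwd 36070],
   .loop none [.bwd 39342],
   .loop none [.fwd 31062, .bwd 38804],
   .loop none [.fwd 10502, .bwd 38804],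
   .loop none [.fwd 30831, .bwd 38804],
   .loop none [.bwd 12051, .bwd 38804],
   .loop none [.bwd 36181, .bwd 38806],
   .loop none [.bwd 38084, .bwd 38809],
   .loop none [.fwd 35709, .bwd 38809],
   .loop none [.bwd 11676, .bwd 38809],
   .loop none [.fwd 33555, .fwd 38813, .bwd 36058],
   .loop none [.bwd 39352],
   .loop none [.fwd 10511, .bwd 38815],
   .loop none [.fwd 10186, .bwd 38815],
   .loop none [.bwd 37866, .fwd 38815, .bwd 10402],
   .loop none [.bwd 39356],
   .loop none [.fwd 37837, .fwd 38815, .fwd 10501],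
   .loop none [.bwd 39358],
   .loop none [.bwd 37875, .fwd 38815, .bwd 33025],
   .loop none [.bwd 39360],
   .loop none [.bwd 37873, .fwd 38815, .fwd 11712],
   .loop none [.bwd 39362],
   .loop none [.fwd 35744, .bwd 38817],
   .loop none [.fwd 8967, .fwd 38819, .fwd 36050],
   .loop none [.fwd 39365],
   .loop none [.bwd 5841, .fwd 38821, .bwd 4509],
   .loop none [.bwd 39367],
   .loop none [.fwd 6763, .bwd 38823],
   .loop none [.bwd 37438, .fwd 38823, .bwd 9687],
   .loop none [.bwd 39370],
   .loop none [.fwd 37921, .fwd 38823, .bwd 6944],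
   .loop none [.bwd 39372],
   .loop none [.fwd 37051, .fwd 38823, .fwd 33013],
   .loop none [.fwd 39374],
   .loop none [.bwd 23298, .bwd 38823],
   .loop none [.bwd 13195, .fwd 38826, .fwd 15885],
   .loop none [.fwd 39377],
   .loop none [.bwd 15607, .bwd 38826],
   .loop none [.bwd 34433, .fwd 38826, .bwd 16014],
   .loop none [.fwd 39380],
   .loop none [.bwd 18638, .bwd 38826],
   .loop none [.fwd 35374, .fwd 38826, .bwd 18813],
   .loop none [.bwd 39383],
   .loop none [.bwd 11654, .bwd 38828],
   .loop none [.fwd 9768, .bwd 38828],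
   .loop none [.fwd 35155, .bwd 38828],
   .loop none [.bwd 11930, .bwd 38830],
   .loop none [.fwd 10246, .bwd 38830],
   .loop none [.fwd 35139, .fwd 38830, .fwd 34840],
   .loop none [.bwd 39390],
   .loop none [.fwd 35157, .bwd 38830],
   .loop none [.fwd 19393, .bwd 38832],
   .loop none [.bwd 34842, .bwd 38832],
   .loop none [.fwd 35143, .bwd 38834],
   .loop none [.bwd 19421, .bwd 38834],
   .loop none [.fwd 16154, .bwd 38834],
   .loop none [.bwd 33607, .bwd 38837],
   .loop none [.bwd 37628, .fwd 38837, .bwd 34712],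
   .loop none [.bwd 39399],
   .loop none [.fwd 37673, .fwd 38837, .bwd 34713],
   .loop none [.bwd 39401],
   .loop none [.fwd 11882, .bwd 38837],
   .loop none [.bwd 8971, .bwd 38839],
   .loop none [.bwd 9225, .bwd 38841],
   .loop none [.fwd 35573, .bwd 38843],
   .loop none [.fwd 36435, .bwd 38843],
   .loop none [.bwd 37268, .bwd 38843],
   .loop none [.fwd 34141, .fwd 38845, .bwd 37689],
   .loop none [.fwd 39409],
   .loop none [.fwd 18165, .bwd 38847],
   .loop none [.fwd 16779, .bwd 38847],
   .loop none [.bwd 16386, .bwd 38847],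
   .loop none [.fwd 9941, .fwd 38847, .fwd 18168],
   .loop none [.fwd 39414],
   .loop none [.fwd 18180, .bwd 38847],
   .loop none [.bwd 18170, .bwd 38847],
   .loop none [.fwd 18172, .bwd 38847],
   .loop none [.bwd 9626, .fwd 38850, .fwd 35292],
   .loop none [.fwd 39419],
   .loop none [.bwd 37201, .bwd 38853],
   .loop none [.bwd 36726, .bwd 38853],
   .loop none [.bwd 37204, .bwd 38853],
   .loop none [.fwd 37288, .bwd 38855],
   .loop none [.fwd 36149, .bwd 38855],
   .loop none [.bwd 35790, .bwd 38855],
   .loop none [.bwd 37290, .bwd 38855],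
   .loop none [.bwd 38035, .bwd 38858],
   .loop none [.bwd 32454, .fwd 38860, .bwd 20261],
   .loop none [.fwd 39429],
   .loop none [.fwd 36212, .bwd 38860],
   .loop none [.bwd 37291, .bwd 38860],
   .loop none [.fwd 33101, .fwd 38862, .fwd 15826],
   .loop none [.fwd 39433],
   .loop none [.fwd 23198, .bwd 38862],
   .loop none [.bwd 38172, .bwd 38868],
   .loop none [.fwd 33382, .fwd 38871, .bwd 15695],
   .loop none [.fwd 39437],
   .loop none [.bwd 37147, .bwd 38871],
   .loop none [.bwd 37175, .bwd 38873],
   .loop none [.fwd 22784, .bwd 38873],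
   .loop none [.fwd 35296, .fwd 38873, .bwd 37776],
   .loop none [.fwd 39442],
   .loop none [.fwd 37772, .bwd 38873],
   .loop none [.fwd 36935, .fwd 38873, .bwd 37066],
   .loop none [.fwd 39445],
   .loop none [.fwd 34400, .fwd 38877, .bwd 35031],
   .loop none [.bwd 39447],
   .loop none [.bwd 17274, .bwd 38879],
   .loop none [.fwd 36492, .fwd 38879, .fwd 33699],
   .loop none [.fwd 39450],
   .loop none [.fwd 16277, .bwd 38879],
   .loop none [.fwd 37389, .fwd 38879, .fwd 16278],
   .loop none [.bwd 39453],
   .loop none [.fwd 36280, .fwd 38879, .bwd 33979],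
   .loop none [.fwd 39455],
   .loop none [.fwd 32976, .fwd 38881, .bwd 36116],
   .loop none [.bwd 39457],
   .loop none [.fwd 9004, .bwd 38881],
   .loop none [.fwd 33226, .bwd 38883],
   .loop none [.bwd 36944, .fwd 38883, .bwd 11103],
   .loop none [.bwd 39461],
   .loop none [.bwd 32757, .bwd 38883],
   .loop none [.bwd 37367, .fwd 38883, .fwd 9722],
   .loop none [.bwd 39464],
   .loop none [.bwd 37398, .fwd 38883, .bwd 36627],
   .loop none [.bwd 39466],
   .loop none [.bwd 37395, .fwd 38883, .fwd 23318, .bwd 39456],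
   .loop none [.bwd 39468],
   .loop none [.bwd 32043, .bwd 38889],
   .loop none [.fwd 36380, .fwd 38889, .bwd 33313],
   .loop none [.fwd 39471],
   .loop none [.bwd 32046, .bwd 38889],
   .loop none [.bwd 32047, .bwd 38889],
   .loop none [.bwd 38106, .fwd 38889, .bwd 8503],
   .loop none [.bwd 39475],
   .loop none [.bwd 9246, .bwd 38889],
   .loop none [.bwd 11102, .bwd 38892],
   .loop none [.bwd 37005, .fwd 38892, .bwd 34579],
   .loop none [.bwd 39479],
   .loop none [.fwd 37054, .bwd 38892],
   .loop none [.bwd 36892, .bwd 38898],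
   .loop none [.bwd 8180, .fwd 38898, .fwd 15879],
   .loop none [.fwd 39483],
   .loop none [.bwd 37914, .bwd 38898],
   .loop none [.fwd 36976, .fwd 38901, .bwd 34499],
   .loop none [.bwd 39486],
   .loop none [.bwd 37413, .fwd 38901, .bwd 10273],
   .loop none [.bwd 39488],
   .loop none [.bwd 37885, .fwd 38901, .bwd 33425],
   .loop none [.bwd 39490],
   .loop none [.fwd 34503, .bwd 38901],
   .loop none [.fwd 34507, .bwd 38901],
   .loop none [.fwd 37155, .bwd 38903],
   .loop none [.bwd 8241, .fwd 38903, .bwd 36196],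
   .loop none [.fwd 39495],
   .loop none [.bwd 37186, .bwd 38903],
   .loop none [.bwd 37906, .bwd 38903],
   .loop none [.fwd 37949, .bwd 38905]]

theorem just157_len : just157.length = 250 := by decide +kernel

theorem just157_ok : cert.okFacts 39250 just157 = true := by decide +kernel

/-- justifications -/
noncomputable def just158 : List Cert.Just :=
  [.loop none [.bwd 36951, .bwd 38909],
   .loop none [.bwd 36950, .bwd 38909],
   .loop none [.fwd 37282, .bwd 38909],
   .loop none [.fwd 37394, .bwd 38911],
   .loop none [.bwd 37073, .bwd 38916],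
   .loop none [.bwd 13197, .bwd 38916],
   .loop none [.fwd 35629, .bwd 38916],
   .loop none [.bwd 34786, .bwd 38916],
   .loop none [.fwd 15516, .fwd 38919, .bwd 15508],
   .loop none [.bwd 39508],
   .loop none [.bwd 36096, .fwd 38919, .bwd 18670],
   .loop none [.fwd 39510],
   .loop none [.bwd 32832, .fwd 38922, .bwd 15545],
   .loop none [.fwd 39512],
   .loop none [.fwd 32830, .bwd 38922],
   .loop none [.bwd 37101, .bwd 38922],
   .loop none [.bwd 37322, .bwd 38928],
   .loop none [.fwd 18649, .bwd 38935],
   .loop none [.bwd 37671, .bwd 38941],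
   .loop none [.fwd 37659, .bwd 38941],
   .loop none [.fwd 39319, .bwd 37665, .bwd 38943],
   .loop none [.fwd 37655, .bwd 38943],
   .loop none [.bwd 37656, .bwd 38943],
   .loop none [.bwd 13107, .fwd 38943, .bwd 37664],
   .loop none [.fwd 39523],
   .loop none [.fwd 37675, .bwd 38946],
   .loop none [.bwd 33154, .bwd 38953],
   .loop none [.fwd 15679, .bwd 38953],
   .loop none [.bwd 37111, .bwd 38953],
   .loop none [.bwd 37158, .bwd 38955],
   .loop none [.fwd 17386, .bwd 38955],
   .loop none [.bwd 18087, .bwd 38955],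
   .loop none [.bwd 37253, .bwd 38955],
   .loop none [.bwd 17421, .bwd 38960],
   .loop none [.bwd 11549, .fwd 38960, .fwd 17969],
   .loop none [.fwd 39534],
   .loop none [.bwd 37254, .bwd 38960],
   .loop none [.bwd 11030, .bwd 38964],
   .loop none [.fwd 11800, .bwd 38964],
   .loop none [.fwd 15883, .bwd 38964],
   .loop none [.fwd 38559, .bwd 38964],
   .loop none [.fwd 10004, .bwd 38964],
   .loop none [.bwd 32920, .bwd 38964],
   .loop none [.bwd 11801, .bwd 38964],
   .loop none [.fwd 5907, .bwd 38966],
   .loop none [.bwd 11548, .bwd 38966],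
   .loop none [.fwd 9544, .bwd 38966],
   .loop none [.fwd 19081, .bwd 38979],
   .loop none [.bwd 34360, .bwd 38981],
   .loop none [.bwd 37648, .fwd 38981, .fwd 15681],
   .loop none [.bwd 39549],
   .loop none [.fwd 35321, .bwd 38981],
   .loop none [.bwd 35128, .bwd 38983],
   .loop none [.fwd 18934, .bwd 38983],
   .loop none [.fwd 35657, .bwd 38983],
   .loop none [.fwd 35572, .bwd 38986],
   .loop none [.fwd 33485, .bwd 38986],
   .loop none [.bwd 37182, .bwd 38986],
   .loop none [.bwd 33359, .bwd 39004],
   .loop none [.bwd 35632, .fwd 39004, .fwd 8198],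
   .loop none [.bwd 39559],
   .loop none [.bwd 37968, .fwd 39004, .bwd 4787],
   .loop none [.bwd 39561],
   .loop none [.bwd 37954, .fwd 39004, .bwd 34535],
   .loop none [.bwd 39563],
   .loop none [.bwd 9009, .fwd 39004, .fwd 33362],
   .loop none [.fwd 39565],
   .loop none [.fwd 8957, .fwd 39004, .bwd 8223],
   .loop none [.fwd 39567],
   .loop none [.fwd 36889, .fwd 39004, .bwd 9433],
   .loop none [.bwd 39569],
   .loop none [.bwd 37978, .fwd 39004, .bwd 34194],
   .loop none [.bwd 39571],
   .loop none [.bwd 37173, .bwd 39006],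
   .loop none [.bwd 8202, .fwd 39006, .fwd 15968],
   .loop none [.fwd 39574],
   .loop none [.fwd 35942, .bwd 39006],
   .loop none [.bwd 35623, .bwd 39008],
   .loop none [.fwd 9007, .bwd 39008],
   .loop none [.bwd 36066, .bwd 39010],
   .loop none [.fwd 3452, .bwd 39010],
   .loop none [.bwd 8954, .bwd 39010],
   .loop none [.fwd 37967, .bwd 39012],
   .loop none [.bwd 35885, .bwd 39015],
   .loop none [.bwd 9493, .fwd 39015, .fwd 15072],
   .loop none [.fwd 39584],
   .loop none [.fwd 9451, .fwd 39015, .bwd 15110],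
   .loop none [.fwd 39586],
   .loop none [.bwd 37980, .bwd 39017],
   .loop none [.fwd 37979, .bwd 39017],
   .loop none [.fwd 36245, .bwd 39019],
   .loop none [.bwd 37987, .fwd 39021, .bwd 38912],
   .loop none [.bwd 39591],
   .loop none [.bwd 38137, .fwd 39021, .bwd 36242],
   .loop none [.bwd 39593],
   .loop none [.bwd 11598, .fwd 39023, .bwd 38105],
   .loop none [.fwd 39595],
   .loop none [.fwd 37988, .bwd 39023],
   .loop none [.bwd 37187, .bwd 39025],
   .loop none [.bwd 37966, .bwd 39025],
   .loop none [.fwd 37055, .fwd 39025, .bwd 36416],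
   .loop none [.bwd 39600],
   .loop none [.fwd 35425, .fwd 39028, .bwd 35156],
   .loop none [.bwd 39602],
   .loop none [.bwd 11426, .fwd 39028, .fwd 37984],
   .loop none [.fwd 39604],
   .loop none [.fwd 37020, .fwd 39028, .fwd 35341],
   .loop none [.bwd 39606],
   .loop none [.bwd 37337, .bwd 39033],
   .loop none [.fwd 17250, .bwd 39041],
   .loop none [.bwd 17181, .bwd 39041],
   .loop none [.bwd 18003, .bwd 39041],
   .loop none [.fwd 12589, .fwd 39043, .bwd 17474],
   .loop none [.fwd 39612],
   .loop none [.bwd 17454, .bwd 39043],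
   .loop none [.fwd 35090, .fwd 39043, .bwd 17453],
   .loop none [.bwd 39615],
   .loop none [.bwd 14275, .fwd 39043, .bwd 19660],
   .loop none [.fwd 39617],
   .loop none [.fwd 35813, .fwd 39045, .bwd 17494],
   .loop none [.fwd 39619],
   .loop none [.bwd 12579, .fwd 39045, .bwd 25003],
   .loop none [.fwd 39621],
   .loop none [.fwd 38150, .bwd 39051],
   .loop none [.bwd 37324, .bwd 39053],
   .loop none [.bwd 16971, .fwd 39053, .fwd 38354],
   .loop none [.fwd 39625],
   .loop none [.fwd 37995, .bwd 39060],
   .loop none [.bwd 34051, .fwd 39062, .fwd 17229],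
   .loop none [.fwd 39628],
   .loop none [.fwd 38142, .fwd 39062, .bwd 35358],
   .loop none [.bwd 39630],
   .loop none [.fwd 38173, .bwd 39065],
   .loop none [.bwd 35642, .fwd 39067, .bwd 15622],
   .loop none [.fwd 39633],
   .loop none [.fwd 39168, .bwd 37257, .bwd 39067],
   .loop none [.fwd 36332, .fwd 39069, .bwd 36986],
   .loop none [.fwd 39636],
   .loop none [.fwd 27360, .fwd 39069, .bwd 37016],
   .loop none [.fwd 39638],
   .loop none [.bwd 37249, .bwd 39071],
   .loop none [.bwd 37260, .bwd 39071],
   .loop none [.fwd 17249, .fwd 39074, .fwd 18409],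
   .loop none [.bwd 39642],
   .loop none [.bwd 37643, .fwd 39074, .bwd 35054],
   .loop none [.bwd 39644],
   .loop none [.bwd 10160, .fwd 39078, .fwd 4410],
   .loop none [.bwd 39646],
   .loop none [.bwd 33215, .bwd 39080],
   .loop none [.bwd 37595, .fwd 39080, .fwd 18412],
   .loop none [.bwd 39649],
   .loop none [.bwd 37700, .fwd 39080, .fwd 16015],
   .loop none [.bwd 39651],
   .loop none [.fwd 39128, .bwd 37728, .fwd 39083, .fwd 37993],
   .loop none [.fwd 39653],
   .loop none [.bwd 35115, .bwd 39085],
   .loop none [.bwd 10243, .fwd 39088, .fwd 15834],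
   .loop none [.fwd 39656],
   .loop none [.bwd 16117, .fwd 39090, .bwd 35053],
   .loop none [.bwd 39658],
   .loop none [.fwd 19469, .bwd 39090],
   .loop none [.bwd 19381, .bwd 39092],
   .loop none [.fwd 34071, .bwd 39092],
   .loop none [.bwd 19424, .bwd 39092],
   .loop none [.bwd 35166, .bwd 39094],
   .loop none [.fwd 16110, .bwd 39094],
   .loop none [.fwd 35088, .fwd 39094, .bwd 35102],
   .loop none [.bwd 39666],
   .loop none [.bwd 35167, .bwd 39094],
   .loop none [.bwd 19382, .bwd 39094],
   .loop none [.bwd 34153, .bwd 39096],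
   .loop none [.fwd 6784, .fwd 39096, .bwd 36878],
   .loop none [.fwd 39671],
   .loop none [.fwd 34067, .bwd 39096],
   .loop none [.fwd 19084, .bwd 39096],
   .loop none [.bwd 9550, .fwd 39096, .bwd 34359],
   .loop none [.fwd 39675],
   .loop none [.fwd 33934, .fwd 39098, .bwd 37704],
   .loop none [.fwd 39677],
   .loop none [.bwd 36467, .bwd 39100],
   .loop none [.bwd 36438, .bwd 39100],
   .loop none [.bwd 35085, .bwd 39104],
   .loop none [.fwd 36900, .bwd 39104],
   .loop none [.fwd 34068, .bwd 39104],
   .loop none [.fwd 35646, .bwd 39104],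
   .loop none [.bwd 37191, .bwd 39106],
   .loop none [.fwd 32729, .bwd 39106],
   .loop none [.bwd 8333, .fwd 39110, .bwd 36119],
   .loop none [.bwd 39687],
   .loop none [.fwd 35678, .fwd 39112, .fwd 9928],
   .loop none [.bwd 39689],
   .loop none [.bwd 32596, .bwd 39112],
   .loop none [.bwd 37781, .fwd 39112, .bwd 33802, .bwd 39613],
   .loop none [.bwd 39692],
   .loop none [.bwd 37944, .fwd 39112, .bwd 33806],
   .loop none [.bwd 39694],
   .loop none [.fwd 33119, .bwd 39112],
   .loop none [.bwd 38050, .fwd 39112, .bwd 33813],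
   .loop none [.bwd 39697],
   .loop none [.fwd 37767, .bwd 39115],
   .loop none [.fwd 37783, .bwd 39119],
   .loop none [.bwd 36850, .fwd 39119, .fwd 38038],
   .loop none [.fwd 39701],
   .loop none [.fwd 38044, .bwd 39119],
   .loop none [.bwd 37784, .bwd 39119],
   .loop none [.bwd 34671, .bwd 39121],
   .loop none [.bwd 37786, .fwd 39121, .fwd 34672],
   .loop none [.bwd 39706],
   .loop none [.fwd 37780, .fwd 39121, .fwd 34673],
   .loop none [.bwd 39708],
   .loop none [.bwd 37828, .fwd 39121, .bwd 35548],
   .loop none [.bwd 39710],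
   .loop none [.fwd 37056, .fwd 39123, .bwd 24376],
   .loop none [.bwd 39712],
   .loop none [.bwd 37621, .bwd 39123],
   .loop none [.fwd 35124, .bwd 39123],
   .loop none [.fwd 37766, .bwd 39126],
   .loop none [.bwd 37777, .bwd 39128],
   .loop none [.bwd 37771, .bwd 39128],
   .loop none [.fwd 37728, .bwd 39128],
   .loop none [.fwd 37785, .bwd 39130],
   .loop none [.bwd 11025, .bwd 39132],
   .loop none [.bwd 5911, .fwd 39132, .bwd 34000],
   .loop none [.fwd 39722],
   .loop none [.bwd 32807, .bwd 39132],
   .loop none [.bwd 10056, .bwd 39132],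
   .loop none [.fwd 24877, .fwd 39132, .bwd 36257],
   .loop none [.bwd 39726],
   .loop none [.fwd 34872, .fwd 39132, .fwd 32813],
   .loop none [.fwd 39728],
   .loop none [.fwd 35002, .fwd 39134, .bwd 36429],
   .loop none [.bwd 39730],
   .loop none [.bwd 24669, .bwd 39134],
   .loop none [.fwd 36462, .bwd 39134],
   .loop none [.bwd 37251, .bwd 39134],
   .loop none [.fwd 30325, .fwd 39136, .fwd 4513],
   .loop none [.fwd 39735],
   .loop none [.bwd 37426, .bwd 39139],
   .loop none [.fwd 6794, .fwd 39142, .bwd 38055],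
   .loop none [.fwd 39738],
   .loop none [.fwd 11612, .fwd 39142, .bwd 23659],
   .loop none [.fwd 39740],
   .loop none [.fwd 37001, .fwd 39144, .bwd 37053],
   .loop none [.bwd 39742],
   .loop none [.fwd 35327, .fwd 39144, .bwd 36813],
   .loop none [.fwd 39744],
   .loop none [.fwd 38185, .fwd 39144, .bwd 15620],
   .loop none [.bwd 39746],
   .loop none [.fwd 39140, .bwd 39144],
   .loop none [.bwd 33218, .bwd 39146]]

theorem just158_len : just158.length = 250 := by decide +kernel

theorem just158_ok : cert.okFacts 39500 just158 = true := by decide +kernel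

/-- justifications -/
noncomputable def just159 : List Cert.Just :=
  [.loop none [.fwd 35119, .fwd 39146, .bwd 13341],
   .loop none [.fwd 39750],
   .loop none [.fwd 37580, .fwd 39146, .bwd 34142],
   .loop none [.bwd 39752],
   .loop none [.fwd 33865, .bwd 39149],
   .loop none [.fwd 16186, .bwd 39149],
   .loop none [.fwd 37625, .fwd 39149, .fwd 34825],
   .loop none [.bwd 39756],
   .loop none [.bwd 37594, .bwd 39154],
   .loop none [.bwd 31488, .bwd 39156],
   .loop none [.bwd 37542, .fwd 39156, .fwd 10867],
   .loop none [.bwd 39760],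
   .loop none [.fwd 10214, .bwd 39156],
   .loop none [.fwd 35251, .fwd 39156, .bwd 32745],
   .loop none [.fwd 39763],
   .loop none [.bwd 37547, .fwd 39156, .bwd 38933],
   .loop none [.bwd 39765],
   .loop none [.bwd 37586, .fwd 39156, .bwd 32968, .bwd 39291],
   .loop none [.bwd 39767],
   .loop none [.fwd 5922, .fwd 39158, .fwd 37569],
   .loop none [.fwd 39769],
   .loop none [.fwd 12943, .bwd 39160],
   .loop none [.bwd 37028, .bwd 39160],
   .loop none [.bwd 5865, .fwd 39160, .fwd 37823],
   .loop none [.fwd 39773],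
   .loop none [.bwd 37857, .bwd 39160],
   .loop none [.fwd 8989, .bwd 39162],
   .loop none [.fwd 38148, .bwd 39164],
   .loop none [.bwd 38149, .bwd 39164],
   .loop none [.bwd 38133, .fwd 39166, .fwd 37283],
   .loop none [.bwd 39779],
   .loop none [.fwd 36469, .fwd 39166, .bwd 16256],
   .loop none [.fwd 39781],
   .loop none [.bwd 35151, .fwd 39166, .fwd 16257],
   .loop none [.fwd 39783],
   .loop none [.fwd 35322, .fwd 39166, .fwd 37210],
   .loop none [.fwd 39785],
   .loop none [.bwd 36999, .bwd 39168],
   .loop none [.bwd 5586, .fwd 39168, .bwd 12778],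
   .loop none [.fwd 39788],
   .loop none [.bwd 35084, .fwd 39168, .fwd 15122],
   .loop none [.fwd 39790],
   .loop none [.fwd 37212, .fwd 39170, .bwd 37236],
   .loop none [.fwd 39792],
   .loop none [.fwd 5493, .fwd 39170, .bwd 36997],
   .loop none [.fwd 39794],
   .loop none [.bwd 37308, .bwd 39172],
   .loop none [.fwd 15149, .bwd 39178],
   .loop none [.fwd 33041, .fwd 39181, .bwd 35340],
   .loop none [.fwd 39798],
   .loop none [.bwd 32718, .fwd 39183, .bwd 37013],
   .loop none [.bwd 39800],
   .loop none [.bwd 6682, .fwd 39185, .bwd 11880],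
   .loop none [.bwd 39802],
   .loop none [.fwd 36795, .fwd 39187, .fwd 36970],
   .loop none [.bwd 39804],
   .loop none [.fwd 35258, .fwd 39187, .fwd 36971],
   .loop none [.fwd 39806],
   .loop none [.fwd 9761, .fwd 39189, .bwd 12367],
   .loop none [.fwd 39808],
   .loop none [.fwd 10325, .fwd 39189, .fwd 37408],
   .loop none [.fwd 39810],
   .loop none [.fwd 14454, .fwd 39189, .bwd 14468],
   .loop none [.bwd 39812],
   .loop none [.fwd 37439, .bwd 39191],
   .loop none [.fwd 5889, .fwd 39191, .bwd 34651],
   .loop none [.fwd 39815],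
   .loop none [.fwd 14731, .bwd 39193],
   .loop none [.fwd 11689, .fwd 39193, .fwd 33526],
   .loop none [.fwd 39818],
   .loop none [.bwd 10624, .fwd 39193, .fwd 14442],
   .loop none [.fwd 39820],
   .loop none [.bwd 32694, .bwd 39193],
   .loop none [.fwd 9912, .fwd 39195, .bwd 33529],
   .loop none [.fwd 39823],
   .loop none [.fwd 33922, .fwd 39200, .fwd 34571],
   .loop none [.fwd 39825],
   .loop none [.fwd 14443, .fwd 39200, .fwd 34572],
   .loop none [.bwd 39827],
   .loop none [.bwd 34573, .bwd 39200],
   .loop none [.bwd 34574, .bwd 39200],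
   .loop none [.bwd 11575, .fwd 39200, .fwd 34575],
   .loop none [.fwd 39831],
   .loop none [.fwd 37312, .bwd 39204],
   .loop none [.fwd 10724, .bwd 39206],
   .loop none [.fwd 11521, .bwd 39206],
   .loop none [.fwd 32345, .fwd 39209, .bwd 37042],
   .loop none [.fwd 39836],
   .loop none [.fwd 10663, .bwd 39212],
   .loop none [.bwd 32517, .bwd 39212],
   .loop none [.fwd 11516, .fwd 39212, .bwd 33708],
   .loop none [.fwd 39840],
   .loop none [.fwd 39302, .fwd 11281, .bwd 39212],
   .loop none [.bwd 10664, .bwd 39212],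
   .loop none [.bwd 31258, .bwd 39212],
   .loop none [.fwd 37654, .bwd 39216],
   .loop none [.fwd 38186, .bwd 39220],
   .loop none [.fwd 39231, .fwd 39223],
   .loop none [.bwd 37319, .fwd 39847],
   .loop none [.fwd 39218, .fwd 39847],
   .loop none [.fwd 12269, .bwd 39227],
   .loop none [.fwd 37948, .fwd 39688, .bwd 12270, .bwd 39227],
   .loop none [.bwd 39851],
   .loop none [.bwd 34084, .bwd 39229],
   .loop none [.fwd 33137, .bwd 39229],
   .loop none [.bwd 39848, .fwd 39231, .bwd 12281],
   .loop none [.bwd 39855],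
   .loop none [.bwd 32782, .fwd 39233, .bwd 20057],
   .loop none [.fwd 39857],
   .loop none [.bwd 35132, .bwd 39233],
   .loop none [.bwd 32784, .fwd 39233, .bwd 20023],
   .loop none [.fwd 39860],
   .loop none [.fwd 34822, .fwd 39237, .bwd 37250],
   .loop none [.bwd 39862],
   .loop none [.bwd 12338, .bwd 39240],
   .loop none [.fwd 12337, .bwd 39240],
   .loop none [.bwd 33729, .bwd 39244],
   .loop none [.bwd 33999, .bwd 39244],
   .loop none [.bwd 10040, .bwd 39244],
   .loop none [.fwd 35046, .bwd 39246],
   .loop none [.fwd 11754, .fwd 39246, .fwd 14892],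
   .loop none [.fwd 39870],
   .loop none [.bwd 16011, .fwd 39246, .fwd 19688],
   .loop none [.fwd 39872],
   .loop none [.bwd 9200, .bwd 39246],
   .loop none [.fwd 9201, .bwd 39246],
   .loop none [.bwd 14690, .fwd 39248, .fwd 18757],
   .loop none [.fwd 39876],
   .loop none [.bwd 14020, .fwd 39248, .bwd 15795],
   .loop none [.fwd 39878],
   .loop none [.bwd 33738, .bwd 39248],
   .loop none [.bwd 19011, .bwd 39248],
   .loop none [.fwd 35387, .fwd 39248, .bwd 34810],
   .loop none [.bwd 39882],
   .loop none [.bwd 33754, .bwd 39250],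
   .loop none [.fwd 34826, .bwd 39250],
   .loop none [.fwd 37589, .fwd 39250, .bwd 33935],
   .loop none [.bwd 39886],
   .loop none [.bwd 10991, .bwd 39250],
   .loop none [.bwd 37642, .fwd 39250, .bwd 35808],
   .loop none [.bwd 39889],
   .loop none [.fwd 27396, .bwd 39252],
   .loop none [.fwd 35838, .bwd 39254],
   .loop none [.bwd 34893, .fwd 39254, .fwd 15687],
   .loop none [.fwd 39893],
   .loop none [.fwd 34823, .bwd 39254],
   .loop none [.bwd 33765, .bwd 39254],
   .loop none [.bwd 12391, .fwd 39256, .fwd 15515, .bwd 39509],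
   .loop none [.fwd 39897],
   .loop none [.fwd 39898, .fwd 12796, .bwd 39256],
   .loop none [.bwd 12797, .bwd 39256],
   .loop none [.bwd 14657, .bwd 39256],
   .loop none [.fwd 15544, .bwd 39256],
   .loop none [.bwd 38004, .fwd 39258, .fwd 13099],
   .loop none [.bwd 39903],
   .loop none [.fwd 12756, .fwd 39261, .fwd 37661],
   .loop none [.fwd 39905],
   .loop none [.fwd 37674, .bwd 39261],
   .loop none [.bwd 18643, .bwd 39263],
   .loop none [.bwd 14739, .fwd 39263, .fwd 15185],
   .loop none [.fwd 39909],
   .loop none [.fwd 34561, .bwd 39263],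
   .loop none [.fwd 15199, .bwd 39263],
   .loop none [.bwd 39771, .fwd 39266, .bwd 18669],
   .loop none [.fwd 39913],
   .loop none [.bwd 34557, .bwd 39266],
   .loop none [.bwd 37627, .bwd 39268],
   .loop none [.bwd 11022, .bwd 39271],
   .loop none [.fwd 34033, .bwd 39271],
   .loop none [.fwd 10024, .bwd 39271],
   .loop none [.bwd 10025, .bwd 39271],
   .loop none [.bwd 34403, .bwd 39273],
   .loop none [.fwd 33513, .bwd 39276],
   .loop none [.fwd 35163, .fwd 39276, .fwd 19636],
   .loop none [.fwd 39923],
   .loop none [.fwd 17140, .bwd 39276],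
   .loop none [.fwd 14503, .fwd 39278, .fwd 19105],
   .loop none [.fwd 39926],
   .loop none [.fwd 35164, .bwd 39278],
   .loop none [.bwd 34830, .bwd 39278],
   .loop none [.fwd 35846, .bwd 39280],
   .loop none [.bwd 6652, .fwd 39280, .fwd 36912],
   .loop none [.fwd 39931],
   .loop none [.fwd 23658, .bwd 39280],
   .loop none [.fwd 36633, .fwd 39280, .fwd 37067],
   .loop none [.fwd 39934],
   .loop none [.fwd 17175, .bwd 39280],
   .loop none [.fwd 36896, .bwd 39284],
   .loop none [.bwd 36897, .bwd 39286],
   .loop none [.fwd 34559, .bwd 39286],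
   .loop none [.bwd 14241, .fwd 39286, .fwd 15198],
   .loop none [.fwd 39940],
   .loop none [.fwd 39513, .bwd 37071, .bwd 39286],
   .loop none [.fwd 35542, .bwd 39291],
   .loop none [.fwd 12290, .bwd 39291],
   .loop none [.bwd 12291, .bwd 39291],
   .loop none [.bwd 13259, .bwd 39291],
   .loop none [.fwd 14416, .bwd 39291],
   .loop none [.bwd 32951, .bwd 39291],
   .loop none [.bwd 10129, .fwd 39293, .bwd 35611],
   .loop none [.bwd 39949],
   .loop none [.bwd 10559, .bwd 39295],
   .loop none [.fwd 38066, .bwd 39295],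
   .loop none [.fwd 38059, .bwd 39297],
   .loop none [.fwd 3297, .fwd 39297, .fwd 38060],
   .loop none [.fwd 39954],
   .loop none [.fwd 10475, .bwd 39302],
   .loop none [.bwd 10764, .bwd 39302],
   .loop none [.bwd 31443, .bwd 39302],
   .loop none [.fwd 33570, .bwd 39302],
   .loop none [.bwd 32160, .bwd 39302],
   .loop none [.fwd 10294, .bwd 39309],
   .loop none [.bwd 30342, .bwd 39309],
   .loop none [.bwd 31790, .bwd 39309],
   .loop none [.fwd 33074, .bwd 39309],
   .loop none [.bwd 37128, .fwd 39309, .fwd 14685, .bwd 39828],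
   .loop none [.bwd 39965],
   .loop none [.fwd 10507, .bwd 39311],
   .loop none [.bwd 11517, .fwd 39311, .bwd 12098],
   .loop none [.fwd 39968],
   .loop none [.fwd 37564, .fwd 39311, .bwd 39305],
   .loop none [.bwd 39970],
   .loop none [.bwd 31792, .bwd 39311],
   .loop none [.fwd 33066, .bwd 39311],
   .loop none [.fwd 39824, .bwd 31562, .bwd 39311],
   .loop none [.bwd 37666, .bwd 39319],
   .loop none [.fwd 39334, .fwd 39323, .bwd 36123],
   .loop none [.bwd 39976],
   .loop none [.bwd 39348, .fwd 39325, .bwd 10255],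
   .loop none [.bwd 39978],
   .loop none [.fwd 11953, .bwd 39325],
   .loop none [.bwd 33030, .bwd 39327],
   .loop none [.bwd 33031, .bwd 39327],
   .loop none [.bwd 37459, .fwd 39327, .fwd 33032],
   .loop none [.bwd 39983],
   .loop none [.fwd 37862, .fwd 39327, .bwd 34278],
   .loop none [.bwd 39985],
   .loop none [.bwd 33035, .bwd 39327],
   .loop none [.bwd 33036, .bwd 39327],
   .loop none [.fwd 35259, .bwd 39327],
   .loop none [.fwd 8996, .bwd 39330],
   .loop none [.fwd 8891, .bwd 39332],
   .loop none [.fwd 10581, .bwd 39341],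
   .loop none [.fwd 10240, .bwd 39341],
   .loop none [.bwd 37871, .fwd 39341, .bwd 10434],
   .loop none [.bwd 39994],
   .loop none [.fwd 38068, .fwd 39341, .fwd 10566, .bwd 39832],
   .loop none [.bwd 39996],
   .loop none [.fwd 32309, .bwd 39341],
   .loop none [.bwd 38078, .fwd 39341, .bwd 37002, .bwd 39828]]

theorem just159_len : just159.length = 250 := by decide +kernel

theorem just159_ok : cert.okFacts 39750 just159 = true := by decide +kernel

/-- justifications -/
noncomputable def just160 : List Cert.Just :=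
  [.loop none [.bwd 39999],
   .loop none [.fwd 36436, .fwd 39341, .fwd 11982],
   .loop none [.bwd 40001],
   .loop none [.bwd 6885, .bwd 39343],
   .loop none [.fwd 6883, .bwd 39343],
   .loop none [.fwd 11496, .bwd 39343],
   .loop none [.fwd 38091, .fwd 39343, .fwd 9800],
   .loop none [.bwd 40006],
   .loop none [.fwd 7166, .bwd 39343],
   .loop none [.fwd 39813, .bwd 14289, .bwd 39343],
   .loop none [.bwd 33555, .bwd 39353],
   .loop none [.bwd 37829, .fwd 39353, .fwd 33556],
   .loop none [.bwd 40011],
   .loop none [.fwd 37788, .fwd 39353, .bwd 34275],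
   .loop none [.bwd 40013],
   .loop none [.bwd 33557, .bwd 39353],
   .loop none [.fwd 37866, .bwd 39357],
   .loop none [.bwd 37837, .bwd 39359],
   .loop none [.fwd 39824, .fwd 39361],
   .loop none [.fwd 37875, .fwd 40018],
   .loop none [.fwd 6657, .fwd 39363, .fwd 12524],
   .loop none [.fwd 40020],
   .loop none [.bwd 33065, .fwd 39363, .fwd 37030],
   .loop none [.fwd 40022],
   .loop none [.fwd 14395, .fwd 39363, .bwd 12523],
   .loop none [.bwd 40024],
   .loop none [.fwd 37873, .bwd 39363],
   .loop none [.fwd 32721, .fwd 39366, .bwd 35740],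
   .loop none [.fwd 40027],
   .loop none [.fwd 5841, .bwd 39368],
   .loop none [.fwd 10324, .bwd 39368],
   .loop none [.fwd 38071, .fwd 39368, .bwd 9532],
   .loop none [.bwd 40031],
   .loop none [.fwd 7122, .bwd 39368],
   .loop none [.fwd 14901, .bwd 39368],
   .loop none [.fwd 39801, .fwd 33004, .bwd 39368],
   .loop none [.fwd 37438, .bwd 39371],
   .loop none [.bwd 37921, .bwd 39373],
   .loop none [.fwd 37012, .fwd 39375, .fwd 34237],
   .loop none [.fwd 40038],
   .loop none [.fwd 36798, .fwd 39375, .fwd 19992],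
   .loop none [.fwd 40040],
   .loop none [.bwd 23128, .bwd 39375],
   .loop none [.fwd 35257, .bwd 39375],
   .loop none [.fwd 33047, .bwd 39375],
   .loop none [.fwd 18668, .bwd 39378],
   .loop none [.fwd 34819, .bwd 39378],
   .loop none [.fwd 16016, .bwd 39378],
   .loop none [.bwd 15886, .bwd 39378],
   .loop none [.bwd 18795, .bwd 39378],
   .loop none [.bwd 18796, .bwd 39378],
   .loop none [.fwd 9929, .fwd 39381, .bwd 16055],
   .loop none [.fwd 40051],
   .loop none [.fwd 16027, .fwd 39381, .bwd 16013],
   .loop none [.bwd 40053],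
   .loop none [.bwd 36417, .fwd 39381, .fwd 18671],
   .loop none [.fwd 40055],
   .loop none [.fwd 16068, .fwd 39384, .bwd 16071],
   .loop none [.bwd 40057],
   .loop none [.bwd 35374, .bwd 39384],
   .loop none [.bwd 35139, .bwd 39391],
   .loop none [.fwd 18803, .bwd 39391],
   .loop none [.fwd 37628, .bwd 39400],
   .loop none [.bwd 18720, .fwd 39400, .fwd 37629],
   .loop none [.fwd 40063],
   .loop none [.bwd 37673, .bwd 39402],
   .loop none [.fwd 37688, .bwd 39410],
   .loop none [.bwd 18171, .bwd 39415],
   .loop none [.bwd 18370, .bwd 39415],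
   .loop none [.fwd 19700, .bwd 39415],
   .loop none [.bwd 6647, .fwd 39420, .bwd 35448],
   .loop none [.fwd 40070],
   .loop none [.fwd 33149, .bwd 39420],
   .loop none [.bwd 36146, .bwd 39430],
   .loop none [.fwd 36513, .bwd 39430],
   .loop none [.bwd 24967, .bwd 39430],
   .loop none [.fwd 36369, .bwd 39430],
   .loop none [.fwd 22689, .bwd 39434],
   .loop none [.fwd 34323, .fwd 39434, .fwd 36894],
   .loop none [.fwd 40078],
   .loop none [.fwd 38037, .bwd 39434],
   .loop none [.bwd 37150, .bwd 39438],
   .loop none [.fwd 34502, .fwd 39438, .bwd 15694],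
   .loop none [.fwd 40082],
   .loop none [.bwd 33383, .fwd 39438, .bwd 38094],
   .loop none [.fwd 40084],
   .loop none [.bwd 37644, .fwd 39438, .bwd 38122],
   .loop none [.fwd 40086],
   .loop none [.bwd 5526, .fwd 39443, .bwd 37775],
   .loop none [.fwd 40088],
   .loop none [.bwd 37019, .fwd 39446, .bwd 36932],
   .loop none [.bwd 40090],
   .loop none [.bwd 36343, .fwd 39446, .bwd 36782],
   .loop none [.bwd 40092],
   .loop none [.fwd 12529, .fwd 39446, .bwd 13134],
   .loop none [.fwd 40094],
   .loop none [.fwd 37287, .bwd 39446],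
   .loop none [.bwd 34399, .bwd 39448],
   .loop none [.bwd 34400, .bwd 39448],
   .loop none [.bwd 16757, .bwd 39448],
   .loop none [.fwd 39731, .bwd 37270, .bwd 39451],
   .loop none [.bwd 37389, .bwd 39454],
   .loop none [.fwd 37017, .fwd 39456, .bwd 36620],
   .loop none [.bwd 40102],
   .loop none [.bwd 38107, .fwd 39456, .fwd 22390],
   .loop none [.bwd 40104],
   .loop none [.bwd 33978, .bwd 39456],
   .loop none [.bwd 32973, .bwd 39458],
   .loop none [.bwd 32976, .bwd 39458],
   .loop none [.bwd 37399, .fwd 39458, .bwd 37647],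
   .loop none [.fwd 40109],
   .loop none [.fwd 37393, .fwd 39458, .fwd 4786],
   .loop none [.bwd 40111],
   .loop none [.bwd 37428, .fwd 39458, .bwd 33312],
   .loop none [.bwd 40113],
   .loop none [.bwd 36949, .bwd 39462],
   .loop none [.fwd 36944, .bwd 39462],
   .loop none [.fwd 37391, .bwd 39462],
   .loop none [.bwd 39588, .fwd 39465, .bwd 37367],
   .loop none [.bwd 40118],
   .loop none [.bwd 39589, .fwd 39465, .bwd 37381],
   .loop none [.fwd 40120],
   .loop none [.fwd 37398, .bwd 39467],
   .loop none [.fwd 37395, .bwd 39469],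
   .loop none [.fwd 37008, .fwd 39472, .bwd 33433],
   .loop none [.bwd 40124],
   .loop none [.fwd 38003, .bwd 39472],
   .loop none [.fwd 33933, .bwd 39472],
   .loop none [.bwd 27591, .bwd 39472],
   .loop none [.fwd 38106, .bwd 39476],
   .loop none [.bwd 37009, .bwd 39480],
   .loop none [.fwd 37005, .bwd 39480],
   .loop none [.fwd 37274, .bwd 39480],
   .loop none [.fwd 37171, .bwd 39484],
   .loop none [.fwd 34525, .fwd 39484, .fwd 23300],
   .loop none [.fwd 40134],
   .loop none [.bwd 36976, .bwd 39487],
   .loop none [.fwd 37413, .bwd 39489],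
   .loop none [.bwd 37414, .bwd 39489],
   .loop none [.fwd 39568, .fwd 39491],
   .loop none [.bwd 37886, .fwd 40139],
   .loop none [.bwd 37975, .bwd 40139, .bwd 37885],
   .loop none [.bwd 40141],
   .loop none [.bwd 37154, .bwd 39496],
   .loop none [.fwd 39898, .fwd 39509],
   .loop none [.fwd 36003, .bwd 40144, .bwd 18270, .bwd 40054],
   .loop none [.bwd 40145],
   .loop none [.bwd 15516, .fwd 40144],
   .loop none [.fwd 39647, .fwd 12925, .bwd 39511],
   .loop none [.bwd 13258, .bwd 39511],
   .loop none [.bwd 15583, .bwd 39513],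
   .loop none [.fwd 15576, .fwd 39513, .fwd 15577],
   .loop none [.fwd 40151],
   .loop none [.fwd 15540, .fwd 39513, .fwd 15548],
   .loop none [.bwd 40153],
   .loop none [.bwd 15543, .bwd 39513],
   .loop none [.fwd 32834, .bwd 39513],
   .loop none [.fwd 15542, .bwd 39513],
   .loop none [.fwd 15547, .bwd 39513],
   .loop none [.fwd 37669, .bwd 39524],
   .loop none [.fwd 17177, .bwd 39535],
   .loop none [.bwd 37622, .bwd 39535],
   .loop none [.bwd 37161, .bwd 39535],
   .loop none [.fwd 19764, .bwd 39535],
   .loop none [.fwd 39117, .bwd 39535],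
   .loop none [.bwd 37252, .bwd 39535],
   .loop none [.fwd 37648, .bwd 39550],
   .loop none [.fwd 35632, .bwd 39560],
   .loop none [.bwd 34207, .fwd 39560, .fwd 36947],
   .loop none [.fwd 40168],
   .loop none [.fwd 9301, .fwd 39560, .bwd 38120],
   .loop none [.fwd 40170],
   .loop none [.fwd 37427, .bwd 39560],
   .loop none [.bwd 37969, .bwd 39562],
   .loop none [.fwd 37968, .bwd 39562],
   .loop none [.bwd 37974, .bwd 39564],
   .loop none [.bwd 38175, .fwd 39564, .fwd 37955],
   .loop none [.bwd 40176],
   .loop none [.fwd 37954, .bwd 39564],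
   .loop none [.fwd 37973, .bwd 39564],
   .loop none [.fwd 6635, .bwd 39566],
   .loop none [.bwd 32170, .bwd 39566],
   .loop none [.bwd 38113, .fwd 39566, .fwd 37293],
   .loop none [.bwd 40182],
   .loop none [.fwd 33430, .bwd 39566],
   .loop none [.fwd 33434, .bwd 39566],
   .loop none [.bwd 33423, .bwd 39568],
   .loop none [.bwd 33424, .bwd 39568],
   .loop none [.bwd 40140, .fwd 39568, .bwd 8161],
   .loop none [.bwd 40188],
   .loop none [.fwd 14174, .fwd 39568, .fwd 37996],
   .loop none [.fwd 40190],
   .loop none [.bwd 38125, .fwd 39568, .bwd 34496],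
   .loop none [.bwd 40192],
   .loop none [.bwd 38124, .fwd 39568, .fwd 23120],
   .loop none [.bwd 40194],
   .loop none [.bwd 5479, .fwd 39570, .fwd 14467],
   .loop none [.fwd 40196],
   .loop none [.bwd 36889, .bwd 39570],
   .loop none [.bwd 36948, .bwd 39572],
   .loop none [.fwd 37412, .bwd 39572],
   .loop none [.fwd 37978, .bwd 39572],
   .loop none [.bwd 37174, .bwd 39575],
   .loop none [.fwd 36946, .bwd 39585],
   .loop none [.fwd 35430, .bwd 39585],
   .loop none [.fwd 37006, .bwd 39587],
   .loop none [.fwd 35775, .bwd 39587],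
   .loop none [.fwd 39503, .fwd 39592, .fwd 38126],
   .loop none [.fwd 40207],
   .loop none [.fwd 37987, .bwd 39592],
   .loop none [.fwd 38137, .bwd 39594],
   .loop none [.bwd 11599, .fwd 39596, .bwd 38104],
   .loop none [.fwd 40211],
   .loop none [.bwd 37021, .bwd 39601],
   .loop none [.bwd 36157, .bwd 39601],
   .loop none [.bwd 12942, .bwd 39601],
   .loop none [.bwd 37055, .bwd 39601],
   .loop none [.fwd 17425, .bwd 39603],
   .loop none [.bwd 35425, .bwd 39603],
   .loop none [.bwd 39444, .fwd 39605, .fwd 37985],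
   .loop none [.fwd 40219],
   .loop none [.bwd 36915, .bwd 39607],
   .loop none [.fwd 35684, .bwd 39607],
   .loop none [.bwd 40061, .fwd 39607, .bwd 36934],
   .loop none [.bwd 40223],
   .loop none [.bwd 37020, .bwd 39607],
   .loop none [.fwd 17032, .bwd 39613],
   .loop none [.bwd 16647, .fwd 39924, .fwd 17466, .bwd 39616],
   .loop none [.fwd 40227],
   .loop none [.fwd 40228, .fwd 39616],
   .loop none [.bwd 16648, .bwd 40229, .bwd 37994, .bwd 39654],
   .loop none [.fwd 40230],
   .loop none [.bwd 35090, .fwd 40229],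
   .loop none [.bwd 34374, .bwd 39618],
   .loop none [.fwd 39609, .bwd 39618],
   .loop none [.bwd 35024, .bwd 39620],
   .loop none [.fwd 17527, .fwd 39620, .fwd 17528],
   .loop none [.fwd 40236],
   .loop none [.fwd 17488, .fwd 39620, .bwd 18090],
   .loop none [.bwd 40238],
   .loop none [.fwd 35359, .bwd 39620],
   .loop none [.fwd 17491, .bwd 39620],
   .loop none [.fwd 35013, .fwd 39622, .bwd 20357],
   .loop none [.fwd 40242],
   .loop none [.bwd 35985, .bwd 39622],
   .loop none [.bwd 37292, .bwd 39622],
   .loop none [.bwd 38147, .bwd 39626],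
   .loop none [.bwd 39661, .fwd 39629, .fwd 17142],
   .loop none [.fwd 40247],
   .loop none [.bwd 38142, .bwd 39631]]

theorem just160_len : just160.length = 250 := by decide +kernel

theorem just160_ok : cert.okFacts 40000 just160 = true := by decide +kernel

/-- justifications -/
noncomputable def just161 : List Cert.Just :=
  [.loop none [.fwd 40240, .fwd 39631, .bwd 38141],
   .loop none [.fwd 40250],
   .loop none [.fwd 37109, .bwd 39634],
   .loop none [.bwd 37107, .bwd 39634],
   .loop none [.bwd 12116, .fwd 39637, .bwd 36968],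
   .loop none [.fwd 40254],
   .loop none [.bwd 36336, .fwd 39637, .fwd 37110],
   .loop none [.fwd 40256],
   .loop none [.fwd 37224, .fwd 39639, .fwd 37234],
   .loop none [.fwd 40258],
   .loop none [.fwd 24593, .bwd 39643],
   .loop none [.bwd 34858, .bwd 39643],
   .loop none [.fwd 34898, .bwd 39643],
   .loop none [.bwd 17249, .bwd 39643],
   .loop none [.fwd 37643, .bwd 39645],
   .loop none [.bwd 31477, .bwd 39647],
   .loop none [.fwd 10160, .bwd 39647],
   .loop none [.bwd 37581, .fwd 39647, .bwd 12759],
   .loop none [.bwd 40267],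
   .loop none [.bwd 37131, .fwd 39647, .bwd 32733],
   .loop none [.bwd 40269],
   .loop none [.fwd 37595, .bwd 39650],
   .loop none [.bwd 16076, .fwd 39650, .fwd 37596],
   .loop none [.fwd 40272],
   .loop none [.fwd 40056, .fwd 39652],
   .loop none [.fwd 37700, .fwd 40274],
   .loop none [.bwd 37796, .bwd 39657],
   .loop none [.bwd 35625, .bwd 39657],
   .loop none [.fwd 39910, .bwd 12794, .fwd 39657, .bwd 34968],
   .loop none [.bwd 40278],
   .loop none [.fwd 40279, .fwd 39910],
   .loop none [.bwd 6858, .fwd 39659, .fwd 16118],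
   .loop none [.fwd 40281],
   .loop none [.fwd 16117, .bwd 39659],
   .loop none [.bwd 37754, .fwd 39659, .fwd 34986],
   .loop none [.bwd 40284],
   .loop none [.fwd 36632, .fwd 39659, .bwd 18642],
   .loop none [.fwd 40286],
   .loop none [.bwd 35749, .fwd 39667, .fwd 35086],
   .loop none [.fwd 40288],
   .loop none [.bwd 6652, .fwd 39667, .fwd 35087],
   .loop none [.fwd 40290],
   .loop none [.bwd 35088, .bwd 39667],
   .loop none [.bwd 39933, .fwd 39667, .fwd 35089, .bwd 39879],
   .loop none [.bwd 40293],
   .loop none [.fwd 33264, .bwd 39672],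
   .loop none [.fwd 35944, .fwd 39672, .fwd 17231],
   .loop none [.fwd 40296],
   .loop none [.fwd 17230, .bwd 39672],
   .loop none [.fwd 18376, .bwd 39672],
   .loop none [.bwd 9549, .fwd 39672, .fwd 19601],
   .loop none [.fwd 40300],
   .loop none [.fwd 18141, .bwd 39672],
   .loop none [.bwd 34565, .bwd 39676],
   .loop none [.fwd 15682, .bwd 39676],
   .loop none [.bwd 15683, .bwd 39676],
   .loop none [.fwd 37703, .bwd 39678],
   .loop none [.bwd 30848, .bwd 39688],
   .loop none [.fwd 8333, .bwd 39688],
   .loop none [.bwd 37947, .fwd 39688, .fwd 12225],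
   .loop none [.bwd 40309],
   .loop none [.fwd 9681, .bwd 39688],
   .loop none [.bwd 38058, .fwd 39688, .bwd 11577],
   .loop none [.bwd 40312],
   .loop none [.bwd 35678, .bwd 39690],
   .loop none [.fwd 38046, .bwd 39690],
   .loop none [.bwd 36155, .bwd 39690],
   .loop none [.fwd 11648, .fwd 39693, .fwd 38045],
   .loop none [.fwd 40317],
   .loop none [.fwd 37781, .bwd 39693],
   .loop none [.bwd 38043, .bwd 39695],
   .loop none [.bwd 38036, .bwd 39695],
   .loop none [.fwd 37944, .bwd 39695],
   .loop none [.fwd 38050, .bwd 39698],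
   .loop none [.fwd 40301, .fwd 39702],
   .loop none [.bwd 36939, .bwd 40324, .fwd 38039],
   .loop none [.fwd 40325],
   .loop none [.fwd 37786, .bwd 39707],
   .loop none [.bwd 37780, .bwd 39709],
   .loop none [.fwd 37828, .bwd 39711],
   .loop none [.fwd 37069, .bwd 39713],
   .loop none [.bwd 6723, .fwd 39713, .bwd 36819],
   .loop none [.fwd 40331],
   .loop none [.bwd 37056, .bwd 39713],
   .loop none [.bwd 37068, .bwd 39713],
   .loop none [.fwd 15684, .bwd 39723],
   .loop none [.fwd 35040, .bwd 39723],
   .loop none [.bwd 19106, .bwd 39723],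
   .loop none [.bwd 24877, .bwd 39727],
   .loop none [.fwd 36252, .bwd 39729],
   .loop none [.bwd 33213, .bwd 39729],
   .loop none [.bwd 33214, .bwd 39729],
   .loop none [.fwd 35318, .bwd 39731],
   .loop none [.bwd 35002, .bwd 39731],
   .loop none [.bwd 35003, .bwd 39731],
   .loop none [.bwd 24487, .bwd 39731],
   .loop none [.bwd 9198, .bwd 39736],
   .loop none [.fwd 9199, .bwd 39736],
   .loop none [.fwd 6793, .fwd 39739, .bwd 38054],
   .loop none [.fwd 40348],
   .loop none [.bwd 36152, .bwd 39741],
   .loop none [.bwd 37001, .bwd 39743],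
   .loop none [.bwd 5685, .fwd 39743, .bwd 12911],
   .loop none [.fwd 40352],
   .loop none [.bwd 23152, .fwd 39743, .fwd 12912],
   .loop none [.bwd 40354],
   .loop none [.bwd 37093, .fwd 39745, .bwd 37104],
   .loop none [.bwd 40356],
   .loop none [.fwd 5660, .fwd 39745, .fwd 37052],
   .loop none [.fwd 40358],
   .loop none [.bwd 38185, .bwd 39747],
   .loop none [.bwd 40330, .fwd 39751, .bwd 35337],
   .loop none [.fwd 40361],
   .loop none [.bwd 40066, .fwd 39753, .fwd 37580],
   .loop none [.bwd 40363],
   .loop none [.bwd 37625, .bwd 39757],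
   .loop none [.fwd 37542, .bwd 39761],
   .loop none [.bwd 39517, .fwd 39761, .bwd 37578, .bwd 40093],
   .loop none [.bwd 40367],
   .loop none [.bwd 37852, .bwd 39761],
   .loop none [.fwd 14711, .bwd 39764],
   .loop none [.fwd 14551, .fwd 39764, .fwd 32744],
   .loop none [.fwd 40371],
   .loop none [.bwd 37562, .fwd 39764, .bwd 12496],
   .loop none [.bwd 40373],
   .loop none [.bwd 9665, .fwd 39764, .fwd 32746, .bwd 39898],
   .loop none [.fwd 40375],
   .loop none [.fwd 9664, .fwd 39764, .fwd 32747],
   .loop none [.fwd 40377],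
   .loop none [.fwd 37547, .bwd 39766],
   .loop none [.fwd 37586, .bwd 39768],
   .loop none [.fwd 37864, .bwd 39770],
   .loop none [.fwd 37582, .bwd 39774],
   .loop none [.bwd 38064, .bwd 39774],
   .loop none [.fwd 38133, .bwd 39780],
   .loop none [.bwd 38134, .bwd 39780],
   .loop none [.fwd 36692, .bwd 39782],
   .loop none [.fwd 11562, .fwd 39784, .bwd 37211],
   .loop none [.fwd 40387],
   .loop none [.fwd 37272, .bwd 39786],
   .loop none [.fwd 36508, .bwd 39786],
   .loop none [.bwd 37214, .fwd 39789, .bwd 37235],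
   .loop none [.bwd 40391],
   .loop none [.bwd 5587, .fwd 39789, .bwd 36996],
   .loop none [.fwd 40393],
   .loop none [.bwd 36743, .bwd 39791],
   .loop none [.bwd 36744, .bwd 39791],
   .loop none [.bwd 36745, .bwd 39791],
   .loop none [.fwd 36716, .fwd 39793, .fwd 36928],
   .loop none [.bwd 40398],
   .loop none [.fwd 5492, .fwd 39795, .bwd 37074],
   .loop none [.fwd 40400],
   .loop none [.fwd 16458, .bwd 39795],
   .loop none [.fwd 36891, .bwd 39799],
   .loop none [.bwd 37011, .fwd 39801, .bwd 32995],
   .loop none [.fwd 40404],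
   .loop none [.bwd 36972, .fwd 39801, .bwd 34230],
   .loop none [.bwd 40406],
   .loop none [.fwd 34223, .bwd 39801],
   .loop none [.fwd 32718, .bwd 39801],
   .loop none [.bwd 11288, .bwd 39803],
   .loop none [.fwd 5920, .fwd 39803, .fwd 6683],
   .loop none [.fwd 40411],
   .loop none [.fwd 6682, .bwd 39803],
   .loop none [.fwd 11449, .bwd 39803],
   .loop none [.fwd 9557, .fwd 39803, .fwd 11523],
   .loop none [.fwd 40415],
   .loop none [.fwd 39813, .bwd 36792, .bwd 39805],
   .loop none [.bwd 36795, .bwd 39805],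
   .loop none [.bwd 36796, .bwd 39805],
   .loop none [.bwd 36797, .bwd 39805],
   .loop none [.bwd 36962, .bwd 39807],
   .loop none [.fwd 36974, .bwd 39807],
   .loop none [.fwd 9760, .fwd 39809, .bwd 12366],
   .loop none [.fwd 40423],
   .loop none [.fwd 18252, .fwd 39811, .bwd 37618],
   .loop none [.fwd 40425],
   .loop none [.bwd 14454, .bwd 39813],
   .loop none [.fwd 40039, .bwd 14526, .bwd 39813],
   .loop none [.fwd 14455, .bwd 39813],
   .loop none [.bwd 23653, .bwd 39813],
   .loop none [.bwd 34273, .bwd 39816],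
   .loop none [.fwd 11524, .fwd 39816, .bwd 11570],
   .loop none [.bwd 40432],
   .loop none [.fwd 35287, .bwd 39816],
   .loop none [.bwd 11167, .fwd 39819, .fwd 15553],
   .loop none [.fwd 40435],
   .loop none [.fwd 14408, .bwd 39821],
   .loop none [.fwd 32873, .bwd 39821],
   .loop none [.bwd 12444, .bwd 39821],
   .loop none [.fwd 33569, .bwd 39821],
   .loop none [.bwd 31748, .bwd 39821],
   .loop none [.bwd 32322, .bwd 39821],
   .loop none [.fwd 33568, .bwd 39824],
   .loop none [.bwd 11579, .bwd 39826],
   .loop none [.bwd 9794, .bwd 39826],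
   .loop none [.fwd 9793, .bwd 39826],
   .loop none [.fwd 32902, .bwd 39828],
   .loop none [.bwd 12787, .bwd 39828],
   .loop none [.bwd 14443, .bwd 39828],
   .loop none [.fwd 11719, .bwd 39832],
   .loop none [.bwd 10740, .bwd 39832],
   .loop none [.bwd 10741, .bwd 39832],
   .loop none [.fwd 6727, .fwd 39837, .fwd 37035],
   .loop none [.fwd 40453],
   .loop none [.bwd 33707, .bwd 39841],
   .loop none [.fwd 33872, .bwd 39841],
   .loop none [.bwd 37948, .bwd 39852],
   .loop none [.fwd 39848, .bwd 39856],
   .loop none [.fwd 9896, .fwd 39858, .bwd 20056],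
   .loop none [.fwd 40459],
   .loop none [.bwd 35336, .bwd 39861],
   .loop none [.fwd 35647, .bwd 39863],
   .loop none [.fwd 34558, .bwd 39863],
   .loop none [.fwd 10710, .fwd 39863, .fwd 34821],
   .loop none [.fwd 40464],
   .loop none [.fwd 18801, .bwd 39863],
   .loop none [.fwd 15222, .bwd 39863],
   .loop none [.bwd 34822, .bwd 39863],
   .loop none [.fwd 18802, .bwd 39863],
   .loop none [.fwd 40289, .fwd 39904],
   .loop none [.fwd 35342, .bwd 39871],
   .loop none [.fwd 40282, .fwd 40054],
   .loop none [.bwd 40472, .fwd 16027, .fwd 39871, .bwd 19693],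
   .loop none [.fwd 40473],
   .loop none [.bwd 34875, .bwd 39871],
   .loop none [.fwd 39877, .fwd 39873],
   .loop none [.bwd 19695, .fwd 40476],
   .loop none [.bwd 10342, .bwd 40476, .fwd 35383],
   .loop none [.fwd 40478],
   .loop none [.fwd 40282, .fwd 40146],
   .loop none [.fwd 34462, .fwd 40476],
   .loop none [.fwd 35418, .fwd 40476],
   .loop none [.fwd 16011, .bwd 39877],
   .loop none [.fwd 19192, .bwd 39877],
   .loop none [.fwd 36575, .fwd 40224, .fwd 16070, .bwd 39877],
   .loop none [.bwd 40485],
   .loop none [.bwd 35386, .bwd 39883],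
   .loop none [.fwd 35672, .bwd 39883],
   .loop none [.bwd 40306, .fwd 39887, .fwd 37589],
   .loop none [.bwd 40489],
   .loop none [.fwd 37642, .bwd 39890],
   .loop none [.fwd 37112, .bwd 39894],
   .loop none [.bwd 5482, .fwd 39894, .bwd 38042],
   .loop none [.fwd 40493],
   .loop none [.fwd 40376, .fwd 39898],
   .loop none [.bwd 36874, .fwd 40495],
   .loop none [.fwd 38004, .fwd 40470],
   .loop none [.fwd 37670, .bwd 39906],
   .loop none [.fwd 36886, .fwd 40280]]

theorem just161_len : just161.length = 250 := by decide +kernel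

theorem just161_ok : cert.okFacts 40250 just161 = true := by decide +kernel

/-- justifications -/
noncomputable def just162 : List Cert.Just :=
  [.loop none [.fwd 12794, .fwd 40280],
   .loop none [.bwd 37023, .fwd 39914, .fwd 18799],
   .loop none [.fwd 40501],
   .loop none [.fwd 39885, .bwd 39914],
   .loop none [.fwd 33233, .bwd 39924],
   .loop none [.fwd 40228, .fwd 16995, .bwd 39924],
   .loop none [.bwd 16996, .bwd 39924],
   .loop none [.bwd 14502, .fwd 39927, .bwd 16807],
   .loop none [.fwd 40507],
   .loop none [.bwd 36938, .bwd 39932],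
   .loop none [.fwd 36480, .fwd 39932, .bwd 38049],
   .loop none [.fwd 40510],
   .loop none [.bwd 37070, .bwd 39935],
   .loop none [.bwd 14397, .fwd 39941, .bwd 13221],
   .loop none [.fwd 40513],
   .loop none [.bwd 34831, .bwd 39941],
   .loop none [.bwd 30276, .bwd 39950],
   .loop none [.fwd 10129, .bwd 39950],
   .loop none [.bwd 37863, .fwd 39950, .bwd 10538],
   .loop none [.bwd 40518],
   .loop none [.fwd 38052, .fwd 39950, .fwd 10431],
   .loop none [.bwd 40520],
   .loop none [.fwd 10440, .bwd 39950],
   .loop none [.bwd 38061, .bwd 39955],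
   .loop none [.fwd 37128, .bwd 39966],
   .loop none [.fwd 14528, .bwd 39969],
   .loop none [.fwd 12097, .bwd 39969],
   .loop none [.bwd 37564, .bwd 39971],
   .loop none [.bwd 39333, .bwd 39977],
   .loop none [.bwd 39334, .bwd 39977],
   .loop none [.fwd 39349, .bwd 39977],
   .loop none [.bwd 39335, .bwd 39977],
   .loop none [.bwd 39336, .bwd 39977],
   .loop none [.bwd 39337, .bwd 39977],
   .loop none [.bwd 39338, .bwd 39977],
   .loop none [.bwd 39339, .bwd 39977],
   .loop none [.bwd 38801, .bwd 39979],
   .loop none [.bwd 38802, .bwd 39979],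
   .loop none [.bwd 37520, .bwd 39979],
   .loop none [.fwd 39348, .bwd 39979],
   .loop none [.bwd 38807, .bwd 39979],
   .loop none [.fwd 39350, .bwd 39979],
   .loop none [.fwd 39328, .bwd 39979],
   .loop none [.bwd 38810, .bwd 39979],
   .loop none [.bwd 38811, .bwd 39979],
   .loop none [.fwd 37459, .bwd 39984],
   .loop none [.bwd 37862, .bwd 39986],
   .loop none [.fwd 37871, .bwd 39995],
   .loop none [.fwd 40025, .fwd 33899, .fwd 39997, .fwd 38074],
   .loop none [.fwd 40548],
   .loop none [.fwd 40416, .fwd 40007],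
   .loop none [.bwd 38068, .bwd 39997],
   .loop none [.fwd 38078, .bwd 40000],
   .loop none [.fwd 33910, .fwd 40002, .bwd 37040],
   .loop none [.fwd 40553],
   .loop none [.bwd 36436, .bwd 40002],
   .loop none [.bwd 38091, .fwd 40550],
   .loop none [.bwd 37433, .fwd 40550],
   .loop none [.fwd 37829, .bwd 40012],
   .loop none [.fwd 37847, .bwd 40014],
   .loop none [.bwd 37788, .bwd 40014],
   .loop none [.fwd 6656, .fwd 40021, .fwd 36829],
   .loop none [.fwd 40561],
   .loop none [.fwd 37245, .bwd 40021],
   .loop none [.bwd 37060, .bwd 40023],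
   .loop none [.bwd 33899, .bwd 40025],
   .loop none [.fwd 36091, .bwd 40025],
   .loop none [.bwd 33900, .bwd 40025],
   .loop none [.bwd 14395, .bwd 40025],
   .loop none [.fwd 32706, .bwd 40025],
   .loop none [.fwd 14862, .bwd 40025],
   .loop none [.bwd 32368, .bwd 40025],
   .loop none [.bwd 37159, .bwd 40028],
   .loop none [.fwd 36118, .bwd 40028],
   .loop none [.bwd 38071, .bwd 40032],
   .loop none [.bwd 9749, .fwd 40039, .fwd 12355],
   .loop none [.fwd 40575],
   .loop none [.bwd 38116, .fwd 40039, .fwd 14517],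
   .loop none [.bwd 40577],
   .loop none [.fwd 18254, .bwd 40039],
   .loop none [.bwd 14520, .bwd 40039],
   .loop none [.fwd 39376, .bwd 40039],
   .loop none [.bwd 14903, .bwd 40039],
   .loop none [.fwd 35908, .bwd 40041],
   .loop none [.fwd 40399, .fwd 37064, .bwd 40041],
   .loop none [.fwd 35830, .bwd 40041],
   .loop none [.fwd 16054, .bwd 40052],
   .loop none [.bwd 16027, .fwd 40472],
   .loop none [.fwd 40047, .bwd 40056],
   .loop none [.fwd 40465, .fwd 40058],
   .loop none [.fwd 10709, .bwd 40589, .fwd 18601],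
   .loop none [.fwd 40590],
   .loop none [.bwd 10710, .bwd 40589, .bwd 16105],
   .loop none [.fwd 40592],
   .loop none [.bwd 16068, .fwd 40589],
   .loop none [.fwd 16067, .fwd 40589],
   .loop none [.bwd 19373, .fwd 40589],
   .loop none [.fwd 39714, .bwd 40064],
   .loop none [.fwd 35663, .bwd 40071],
   .loop none [.bwd 37261, .bwd 40079],
   .loop none [.fwd 37122, .bwd 40083],
   .loop none [.fwd 34525, .fwd 40085, .bwd 38093],
   .loop none [.fwd 40601],
   .loop none [.fwd 38121, .bwd 40087],
   .loop none [.fwd 9292, .fwd 40089, .bwd 14473],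
   .loop none [.fwd 40604],
   .loop none [.bwd 5527, .fwd 40089, .bwd 12361],
   .loop none [.fwd 40606],
   .loop none [.fwd 36466, .bwd 40089],
   .loop none [.fwd 37019, .bwd 40091],
   .loop none [.bwd 5529, .fwd 40091, .bwd 9753],
   .loop none [.fwd 40610],
   .loop none [.fwd 35975, .bwd 40091],
   .loop none [.bwd 9466, .fwd 40091, .fwd 35301],
   .loop none [.fwd 40613],
   .loop none [.fwd 23400, .bwd 40091],
   .loop none [.fwd 36343, .bwd 40093],
   .loop none [.bwd 36780, .fwd 40093, .fwd 36077],
   .loop none [.fwd 40617],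
   .loop none [.bwd 36781, .fwd 40093, .fwd 35935],
   .loop none [.fwd 40619],
   .loop none [.bwd 35954, .bwd 40093],
   .loop none [.bwd 36579, .bwd 40095],
   .loop none [.bwd 36580, .bwd 40095],
   .loop none [.bwd 36567, .fwd 40095, .fwd 36581],
   .loop none [.fwd 40624],
   .loop none [.bwd 36568, .fwd 40095, .fwd 36582],
   .loop none [.fwd 40626],
   .loop none [.fwd 37782, .bwd 40095],
   .loop none [.bwd 37065, .bwd 40095],
   .loop none [.bwd 37017, .bwd 40103],
   .loop none [.bwd 36621, .fwd 40103, .fwd 16792],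
   .loop none [.fwd 40631],
   .loop none [.bwd 22854, .bwd 40103],
   .loop none [.fwd 37208, .bwd 40103],
   .loop none [.fwd 38107, .bwd 40105],
   .loop none [.bwd 37400, .fwd 40110, .bwd 37646],
   .loop none [.fwd 40636],
   .loop none [.bwd 40173, .fwd 40112, .fwd 37393],
   .loop none [.bwd 40638],
   .loop none [.bwd 40174, .fwd 40112, .bwd 37404],
   .loop none [.fwd 40640],
   .loop none [.fwd 37428, .bwd 40114],
   .loop none [.bwd 37376, .fwd 40119, .fwd 37981],
   .loop none [.fwd 40643],
   .loop none [.fwd 39588, .bwd 40119],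
   .loop none [.bwd 17971, .fwd 40121, .bwd 37380],
   .loop none [.fwd 40646],
   .loop none [.bwd 12818, .bwd 40125],
   .loop none [.bwd 37008, .bwd 40125],
   .loop none [.fwd 36082, .bwd 40135],
   .loop none [.fwd 12145, .bwd 40135],
   .loop none [.bwd 35770, .bwd 40135],
   .loop none [.bwd 35247, .bwd 40135],
   .loop none [.fwd 14792, .bwd 40135],
   .loop none [.fwd 35767, .bwd 40135],
   .loop none [.fwd 40137, .fwd 40142, .fwd 38108],
   .loop none [.fwd 40656],
   .loop none [.fwd 37975, .bwd 40142],
   .loop none [.fwd 6858, .bwd 40480, .fwd 17198],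
   .loop none [.fwd 40659],
   .loop none [.bwd 33774, .bwd 40152],
   .loop none [.fwd 15575, .fwd 40152, .bwd 33883],
   .loop none [.bwd 40662],
   .loop none [.bwd 33775, .bwd 40152],
   .loop none [.bwd 33776, .bwd 40152],
   .loop none [.bwd 32692, .bwd 40152],
   .loop none [.bwd 18602, .fwd 40154, .bwd 19052],
   .loop none [.bwd 40667],
   .loop none [.fwd 39506, .bwd 40154],
   .loop none [.fwd 10708, .fwd 40591, .bwd 15540, .bwd 40154],
   .loop none [.fwd 40670],
   .loop none [.fwd 36980, .bwd 40169],
   .loop none [.bwd 19819, .bwd 40169],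
   .loop none [.bwd 38119, .bwd 40171],
   .loop none [.fwd 38175, .bwd 40177],
   .loop none [.fwd 38113, .bwd 40183],
   .loop none [.bwd 38114, .bwd 40183],
   .loop none [.fwd 40140, .bwd 40189],
   .loop none [.fwd 4848, .fwd 40191, .fwd 37997],
   .loop none [.fwd 40679],
   .loop none [.fwd 38125, .bwd 40193],
   .loop none [.fwd 38124, .bwd 40195],
   .loop none [.bwd 9746, .bwd 40197],
   .loop none [.fwd 17091, .fwd 40208, .fwd 38127],
   .loop none [.fwd 40684],
   .loop none [.fwd 38136, .bwd 40208],
   .loop none [.fwd 37623, .bwd 40212],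
   .loop none [.fwd 37619, .bwd 40212],
   .loop none [.bwd 37986, .bwd 40220],
   .loop none [.fwd 12529, .fwd 40224, .fwd 19355],
   .loop none [.fwd 40690],
   .loop none [.fwd 40061, .bwd 40224],
   .loop none [.fwd 40465, .fwd 16069, .bwd 40224],
   .loop none [.fwd 36482, .fwd 40224, .bwd 18812],
   .loop none [.fwd 40694],
   .loop none [.fwd 34353, .bwd 40228],
   .loop none [.bwd 39717, .bwd 40231],
   .loop none [.fwd 16687, .fwd 40231, .fwd 39718],
   .loop none [.fwd 40698],
   .loop none [.bwd 39719, .bwd 40231],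
   .loop none [.fwd 34864, .bwd 40231],
   .loop none [.fwd 17526, .fwd 40237, .bwd 35182],
   .loop none [.bwd 40702],
   .loop none [.fwd 35785, .bwd 40237],
   .loop none [.fwd 19727, .bwd 40237],
   .loop none [.bwd 35970, .bwd 40239],
   .loop none [.bwd 35012, .fwd 40243, .bwd 20356],
   .loop none [.fwd 40707],
   .loop none [.bwd 36353, .bwd 40243],
   .loop none [.fwd 17182, .bwd 40248],
   .loop none [.fwd 35842, .fwd 40248, .fwd 35307],
   .loop none [.fwd 40711],
   .loop none [.fwd 40246, .bwd 40251],
   .loop none [.fwd 37240, .bwd 40255],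
   .loop none [.bwd 37228, .bwd 40257],
   .loop none [.fwd 5537, .fwd 40257, .fwd 37219],
   .loop none [.fwd 40716],
   .loop none [.fwd 16320, .bwd 40257],
   .loop none [.fwd 9282, .fwd 40257, .fwd 16321],
   .loop none [.fwd 40719],
   .loop none [.fwd 37091, .fwd 40259, .fwd 16416],
   .loop none [.fwd 40721],
   .loop none [.fwd 16365, .fwd 40259, .bwd 37045],
   .loop none [.bwd 40723],
   .loop none [.fwd 40671, .fwd 40268],
   .loop none [.fwd 37581, .fwd 40725],
   .loop none [.fwd 37131, .bwd 40270],
   .loop none [.fwd 37587, .bwd 40273],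
   .loop none [.bwd 34965, .fwd 40279, .bwd 12431],
   .loop none [.fwd 40729],
   .loop none [.bwd 9936, .fwd 40279, .fwd 12393],
   .loop none [.fwd 40731],
   .loop none [.bwd 37755, .fwd 40279, .bwd 14739],
   .loop none [.bwd 40733],
   .loop none [.bwd 14930, .bwd 40279],
   .loop none [.fwd 40691, .fwd 40285],
   .loop none [.fwd 37754, .fwd 40736],
   .loop none [.bwd 40065, .bwd 40287],
   .loop none [.bwd 16053, .bwd 40287],
   .loop none [.bwd 36884, .bwd 40289],
   .loop none [.bwd 34564, .bwd 40289],
   .loop none [.fwd 40048, .bwd 40291],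
   .loop none [.bwd 34475, .bwd 40291],
   .loop none [.fwd 40295, .fwd 40294, .fwd 19692],
   .loop none [.fwd 40744],
   .loop none [.fwd 39933, .bwd 40294],
   .loop none [.fwd 40479, .fwd 14020, .fwd 40294, .bwd 36714],
   .loop none [.fwd 40747],
   .loop none [.fwd 17218, .bwd 40294]]

theorem just162_len : just162.length = 250 := by decide +kernel

theorem just162_ok : cert.okFacts 40500 just162 = true := by decide +kernel

/-- justifications -/
noncomputable def just163 : List Cert.Just :=
  [.loop none [.fwd 34461, .bwd 40297],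
   .loop none [.fwd 19696, .bwd 40297],
   .loop none [.bwd 19698, .bwd 40297],
   .loop none [.bwd 34107, .bwd 40301],
   .loop none [.fwd 36850, .bwd 40301],
   .loop none [.fwd 37947, .bwd 40310],
   .loop none [.fwd 38058, .bwd 40313],
   .loop none [.fwd 40315, .bwd 40318],
   .loop none [.bwd 36261, .fwd 40326, .fwd 38040],
   .loop none [.fwd 40758],
   .loop none [.bwd 12526, .bwd 40332],
   .loop none [.bwd 9665, .fwd 40332, .fwd 36818],
   .loop none [.fwd 40761],
   .loop none [.fwd 38072, .bwd 40349],
   .loop none [.fwd 37092, .fwd 40353, .fwd 37238],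
   .loop none [.bwd 40764],
   .loop none [.bwd 5686, .fwd 40353, .fwd 36998],
   .loop none [.fwd 40766],
   .loop none [.bwd 37103, .bwd 40355],
   .loop none [.fwd 23152, .bwd 40355],
   .loop none [.fwd 24843, .bwd 40355],
   .loop none [.fwd 37093, .bwd 40357],
   .loop none [.fwd 36930, .fwd 40357, .bwd 16453],
   .loop none [.fwd 40772],
   .loop none [.bwd 16454, .bwd 40357],
   .loop none [.bwd 19570, .bwd 40357],
   .loop none [.fwd 19568, .bwd 40357],
   .loop none [.bwd 37226, .bwd 40359],
   .loop none [.fwd 5659, .fwd 40359, .bwd 37081],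
   .loop none [.fwd 40778],
   .loop none [.fwd 16370, .bwd 40359],
   .loop none [.bwd 12143, .fwd 40362, .bwd 36908],
   .loop none [.fwd 40781],
   .loop none [.bwd 35338, .bwd 40362],
   .loop none [.fwd 39152, .bwd 40362],
   .loop none [.fwd 40066, .bwd 40364],
   .loop none [.fwd 40394, .bwd 37242, .fwd 40368, .bwd 36877],
   .loop none [.fwd 40786],
   .loop none [.bwd 12527, .fwd 40368, .bwd 39908],
   .loop none [.bwd 40788],
   .loop none [.fwd 39517, .bwd 40368],
   .loop none [.fwd 40591, .fwd 40155, .bwd 40368],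
   .loop none [.bwd 36780, .fwd 40368, .bwd 39902],
   .loop none [.bwd 40792],
   .loop none [.bwd 36781, .fwd 40368, .bwd 18635],
   .loop none [.bwd 40794],
   .loop none [.bwd 36887, .bwd 40372],
   .loop none [.bwd 34696, .fwd 40372, .fwd 39520],
   .loop none [.fwd 40797],
   .loop none [.fwd 35562, .fwd 40372, .fwd 39521],
   .loop none [.bwd 40799],
   .loop none [.bwd 39522, .bwd 40372],
   .loop none [.bwd 13107, .bwd 40372],
   .loop none [.fwd 37562, .bwd 40374],
   .loop none [.fwd 40793, .fwd 40618],
   .loop none [.bwd 40147, .bwd 40376],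
   .loop none [.fwd 39899, .bwd 40376],
   .loop none [.bwd 36885, .bwd 40378],
   .loop none [.fwd 13166, .bwd 40378],
   .loop none [.fwd 38926, .bwd 40378],
   .loop none [.bwd 37273, .bwd 40388],
   .loop none [.fwd 37214, .bwd 40392],
   .loop none [.fwd 16504, .fwd 40392, .bwd 37723],
   .loop none [.fwd 40812],
   .loop none [.bwd 37062, .bwd 40392],
   .loop none [.fwd 35222, .bwd 40392],
   .loop none [.fwd 37242, .bwd 40394],
   .loop none [.fwd 36490, .fwd 40394, .fwd 16460],
   .loop none [.fwd 40817],
   .loop none [.fwd 40789, .fwd 40399],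
   .loop none [.bwd 36716, .fwd 40819],
   .loop none [.fwd 12398, .bwd 40819, .fwd 36717],
   .loop none [.bwd 40821],
   .loop none [.bwd 12399, .bwd 40819, .fwd 36718, .bwd 40724],
   .loop none [.fwd 40823],
   .loop none [.bwd 39912, .bwd 40819, .fwd 36719, .bwd 40773],
   .loop none [.fwd 40825],
   .loop none [.bwd 37077, .bwd 40401],
   .loop none [.fwd 13366, .bwd 40401],
   .loop none [.bwd 13367, .bwd 40401],
   .loop none [.bwd 14470, .fwd 40405, .bwd 14481],
   .loop none [.bwd 40830],
   .loop none [.fwd 33428, .bwd 40405],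
   .loop none [.bwd 14527, .bwd 40405],
   .loop none [.fwd 14900, .bwd 40405],
   .loop none [.fwd 27184, .bwd 40405],
   .loop none [.fwd 40034, .bwd 40405],
   .loop none [.fwd 36972, .bwd 40407],
   .loop none [.bwd 36828, .bwd 40407],
   .loop none [.fwd 37225, .bwd 40407],
   .loop none [.fwd 11520, .bwd 40412],
   .loop none [.fwd 11522, .bwd 40412],
   .loop none [.bwd 10317, .bwd 40412],
   .loop none [.bwd 6684, .bwd 40412],
   .loop none [.fwd 7181, .bwd 40412],
   .loop none [.fwd 11187, .bwd 40416],
   .loop none [.bwd 10239, .bwd 40416],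
   .loop none [.bwd 40557, .fwd 40416, .fwd 9801],
   .loop none [.bwd 40847],
   .loop none [.fwd 14469, .bwd 40424],
   .loop none [.fwd 34637, .fwd 40426, .bwd 37617],
   .loop none [.fwd 40850],
   .loop none [.fwd 11583, .bwd 40433],
   .loop none [.bwd 11714, .bwd 40433],
   .loop none [.fwd 9842, .bwd 40433],
   .loop none [.fwd 40030, .bwd 40433],
   .loop none [.bwd 11524, .bwd 40433],
   .loop none [.bwd 10536, .fwd 40436, .fwd 15554],
   .loop none [.fwd 40857],
   .loop none [.fwd 37232, .bwd 40454],
   .loop none [.bwd 9858, .fwd 40460, .bwd 20055],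
   .loop none [.fwd 40860],
   .loop none [.bwd 16112, .bwd 40465],
   .loop none [.fwd 18811, .bwd 40465],
   .loop none [.bwd 15586, .bwd 40465],
   .loop none [.fwd 40049, .bwd 40465],
   .loop none [.fwd 40750, .fwd 40474, .bwd 19683],
   .loop none [.fwd 40866],
   .loop none [.bwd 19694, .bwd 40474],
   .loop none [.bwd 34451, .bwd 40479],
   .loop none [.bwd 12388, .bwd 40479],
   .loop none [.bwd 10343, .fwd 40479, .fwd 34454],
   .loop none [.bwd 40871],
   .loop none [.bwd 14690, .bwd 40479],
   .loop none [.bwd 14020, .bwd 40479],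
   .loop none [.bwd 39880, .bwd 40479],
   .loop none [.bwd 39881, .bwd 40479],
   .loop none [.bwd 34460, .bwd 40479],
   .loop none [.bwd 40477, .fwd 40486, .fwd 36571, .bwd 40614],
   .loop none [.bwd 40878],
   .loop none [.bwd 36574, .bwd 40486],
   .loop none [.fwd 40748, .fwd 40625],
   .loop none [.bwd 36575, .bwd 40486],
   .loop none [.bwd 36576, .bwd 40486],
   .loop none [.fwd 40306, .bwd 40490],
   .loop none [.fwd 40759, .fwd 38041, .bwd 40494],
   .loop none [.bwd 9698, .fwd 40502, .fwd 36882],
   .loop none [.fwd 40886],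
   .loop none [.fwd 16185, .bwd 40502],
   .loop none [.fwd 39755, .bwd 40502],
   .loop none [.bwd 36458, .fwd 40508, .bwd 16806],
   .loop none [.fwd 40890],
   .loop none [.fwd 40795, .fwd 40620],
   .loop none [.fwd 12872, .fwd 40511, .bwd 38048],
   .loop none [.fwd 40893],
   .loop none [.fwd 11538, .fwd 40514, .bwd 13220],
   .loop none [.fwd 40895],
   .loop none [.fwd 37863, .bwd 40519],
   .loop none [.bwd 38065, .bwd 40521],
   .loop none [.bwd 38052, .bwd 40521],
   .loop none [.bwd 38075, .bwd 40549],
   .loop none [.fwd 37087, .bwd 40554],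
   .loop none [.fwd 36749, .bwd 40562],
   .loop none [.bwd 35203, .bwd 40576],
   .loop none [.bwd 35204, .bwd 40576],
   .loop none [.bwd 18247, .bwd 40576],
   .loop none [.fwd 14904, .bwd 40576],
   .loop none [.fwd 36211, .bwd 40576],
   .loop none [.fwd 38116, .bwd 40578],
   .loop none [.bwd 40150, .bwd 40591],
   .loop none [.fwd 15576, .bwd 40591],
   .loop none [.fwd 32832, .bwd 40591],
   .loop none [.bwd 40156, .bwd 40591],
   .loop none [.bwd 40157, .bwd 40591],
   .loop none [.bwd 40158, .bwd 40591],
   .loop none [.fwd 39942, .bwd 40591],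
   .loop none [.bwd 40463, .fwd 40593, .bwd 16104],
   .loop none [.fwd 40916],
   .loop none [.bwd 40466, .fwd 40593, .bwd 37192],
   .loop none [.fwd 40918],
   .loop none [.fwd 19598, .bwd 40593],
   .loop none [.bwd 40652, .fwd 40602, .bwd 38092],
   .loop none [.fwd 40921],
   .loop none [.fwd 9750, .bwd 40605],
   .loop none [.fwd 4585, .fwd 40605, .fwd 9751],
   .loop none [.fwd 40924],
   .loop none [.fwd 36668, .bwd 40605],
   .loop none [.bwd 35957, .bwd 40607],
   .loop none [.fwd 14932, .bwd 40607],
   .loop none [.bwd 5530, .fwd 40611, .bwd 36071],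
   .loop none [.bwd 40929],
   .loop none [.fwd 36348, .bwd 40611],
   .loop none [.bwd 37657, .fwd 40614, .fwd 17233],
   .loop none [.bwd 40932],
   .loop none [.fwd 18193, .bwd 40614],
   .loop none [.fwd 40069, .bwd 40614],
   .loop none [.bwd 35288, .fwd 40804],
   .loop none [.fwd 40824, .fwd 40724],
   .loop none [.bwd 35289, .fwd 40804],
   .loop none [.fwd 34969, .fwd 40892],
   .loop none [.fwd 40826, .fwd 40773],
   .loop none [.fwd 35755, .fwd 40892],
   .loop none [.fwd 40872, .bwd 10343, .bwd 40881, .bwd 24382],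
   .loop none [.fwd 40942],
   .loop none [.bwd 40876, .bwd 40881, .fwd 19564, .bwd 40627],
   .loop none [.bwd 40944],
   .loop none [.bwd 40877, .bwd 40881, .bwd 39680],
   .loop none [.bwd 40946],
   .loop none [.fwd 36683, .bwd 40627],
   .loop none [.fwd 36481, .bwd 40627],
   .loop none [.fwd 16323, .fwd 40632, .bwd 22857],
   .loop none [.bwd 40950],
   .loop none [.fwd 37645, .bwd 40637],
   .loop none [.fwd 40173, .bwd 40639],
   .loop none [.fwd 40178, .fwd 40641, .bwd 37403],
   .loop none [.fwd 40954],
   .loop none [.bwd 37377, .fwd 40644, .fwd 37982],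
   .loop none [.fwd 40956],
   .loop none [.fwd 35969, .fwd 40647, .bwd 37384],
   .loop none [.fwd 40958],
   .loop none [.fwd 10272, .fwd 40657, .fwd 38109],
   .loop none [.fwd 40960],
   .loop none [.fwd 38123, .bwd 40657],
   .loop none [.fwd 6857, .fwd 40660, .fwd 35692],
   .loop none [.fwd 40963],
   .loop none [.bwd 15575, .bwd 40663],
   .loop none [.fwd 15574, .bwd 40663],
   .loop none [.fwd 40671, .fwd 18602, .bwd 40668],
   .loop none [.fwd 40695, .bwd 18634, .bwd 40668],
   .loop none [.bwd 40271, .bwd 40668],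
   .loop none [.bwd 16076, .bwd 40668],
   .loop none [.fwd 39382, .bwd 40668],
   .loop none [.bwd 36873, .bwd 40671],
   .loop none [.fwd 10707, .fwd 40671, .fwd 40669],
   .loop none [.fwd 40973],
   .loop none [.fwd 12758, .bwd 40671],
   .loop none [.fwd 32836, .bwd 40671],
   .loop none [.fwd 38920, .bwd 40671],
   .loop none [.bwd 37998, .bwd 40680],
   .loop none [.fwd 40705, .fwd 40685, .fwd 38128],
   .loop none [.fwd 40979],
   .loop none [.bwd 40622, .fwd 40691, .fwd 40487],
   .loop none [.fwd 40981],
   .loop none [.bwd 40488, .bwd 40691],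
   .loop none [.bwd 18633, .bwd 40695],
   .loop none [.bwd 34443, .bwd 40695],
   .loop none [.fwd 40484, .bwd 40695],
   .loop none [.fwd 37246, .fwd 40699, .fwd 40689, .bwd 40957],
   .loop none [.fwd 40987],
   .loop none [.fwd 39444, .bwd 40699],
   .loop none [.fwd 17525, .bwd 40703],
   .loop none [.fwd 37650, .fwd 40708, .bwd 20355],
   .loop none [.bwd 40991],
   .loop none [.fwd 39892, .fwd 40712, .bwd 35295],
   .loop none [.fwd 40993],
   .loop none [.fwd 35986, .fwd 40712, .bwd 12449],
   .loop none [.bwd 40995],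
   .loop none [.fwd 6650, .fwd 40712, .bwd 35306],
   .loop none [.fwd 40997],
   .loop none [.fwd 36684, .fwd 40712, .bwd 34857]]

theorem just163_len : just163.length = 250 := by decide +kernel

theorem just163_ok : cert.okFacts 40750 just163 = true := by decide +kernel

/-- justifications -/
noncomputable def just164 : List Cert.Just :=
  [.loop none [.bwd 40999],
   .loop none [.bwd 34339, .bwd 40712],
   .loop none [.fwd 36549, .fwd 40712, .fwd 34342],
   .loop none [.fwd 41002],
   .loop none [.fwd 37222, .bwd 40717],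
   .loop none [.fwd 16499, .bwd 40717],
   .loop none [.bwd 16500, .bwd 40717],
   .loop none [.fwd 39937, .fwd 40793, .bwd 37229, .bwd 40720],
   .loop none [.bwd 41007],
   .loop none [.bwd 37095, .bwd 40722],
   .loop none [.bwd 37094, .bwd 40722],
   .loop none [.bwd 35225, .bwd 40722],
   .loop none [.fwd 10674, .bwd 40937, .fwd 16365],
   .loop none [.fwd 41012],
   .loop none [.fwd 10339, .bwd 40937, .fwd 24383],
   .loop none [.fwd 41014],
   .loop none [.bwd 33263, .bwd 40937, .fwd 37223],
   .loop none [.fwd 41016],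
   .loop none [.fwd 14737, .bwd 40730],
   .loop none [.fwd 12390, .bwd 40732],
   .loop none [.fwd 36205, .fwd 40732, .fwd 10687],
   .loop none [.bwd 41020],
   .loop none [.fwd 40822, .bwd 12003, .bwd 40732],
   .loop none [.bwd 12328, .bwd 40732],
   .loop none [.fwd 37755, .bwd 40734],
   .loop none [.fwd 35849, .bwd 40745],
   .loop none [.bwd 40299, .fwd 40745, .bwd 23079],
   .loop none [.bwd 41026],
   .loop none [.bwd 40302, .fwd 40745, .bwd 18375],
   .loop none [.fwd 41028],
   .loop none [.fwd 36567, .bwd 40748],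
   .loop none [.bwd 36715, .bwd 40748],
   .loop none [.bwd 37061, .bwd 40762],
   .loop none [.bwd 37092, .bwd 40765],
   .loop none [.fwd 13373, .bwd 40765],
   .loop none [.fwd 34963, .bwd 40765],
   .loop none [.fwd 36942, .fwd 40795, .fwd 37227, .bwd 40767],
   .loop none [.bwd 41036],
   .loop none [.fwd 36393, .fwd 40767, .fwd 16372],
   .loop none [.fwd 41038],
   .loop none [.fwd 36769, .fwd 40940],
   .loop none [.bwd 37237, .fwd 40940],
   .loop none [.bwd 37080, .bwd 40779],
   .loop none [.fwd 36761, .bwd 40779],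
   .loop none [.bwd 16410, .bwd 40779],
   .loop none [.fwd 34054, .bwd 40782],
   .loop none [.fwd 17257, .bwd 40782],
   .loop none [.bwd 17258, .bwd 40782],
   .loop none [.fwd 36490, .fwd 40787, .bwd 10713],
   .loop none [.fwd 41048],
   .loop none [.fwd 5587, .fwd 40787, .fwd 10714],
   .loop none [.fwd 41050],
   .loop none [.bwd 36248, .fwd 40787, .bwd 14734],
   .loop none [.fwd 41052],
   .loop none [.fwd 39242, .bwd 40787],
   .loop none [.fwd 32785, .bwd 40787],
   .loop none [.fwd 40735, .bwd 40787],
   .loop none [.bwd 12528, .bwd 40789],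
   .loop none [.fwd 12527, .bwd 40789],
   .loop none [.fwd 33998, .fwd 40789, .bwd 40584],
   .loop none [.fwd 41059],
   .loop none [.bwd 37044, .bwd 40793],
   .loop none [.fwd 36780, .bwd 40793],
   .loop none [.bwd 37043, .bwd 40795],
   .loop none [.fwd 36781, .bwd 40795],
   .loop none [.fwd 37652, .bwd 40798],
   .loop none [.bwd 39975, .bwd 40798],
   .loop none [.fwd 14536, .fwd 40800, .bwd 17018],
   .loop none [.fwd 41067],
   .loop none [.bwd 35562, .bwd 40800],
   .loop none [.fwd 35758, .bwd 40800],
   .loop none [.bwd 36772, .bwd 40800],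
   .loop none [.fwd 35116, .bwd 40800],
   .loop none [.fwd 16503, .fwd 40813, .bwd 37722],
   .loop none [.fwd 41073],
   .loop none [.fwd 37079, .bwd 40818],
   .loop none [.bwd 16461, .bwd 40818],
   .loop none [.fwd 40434, .bwd 40818],
   .loop none [.bwd 12432, .bwd 40822],
   .loop none [.bwd 5871, .fwd 40822, .bwd 10715],
   .loop none [.fwd 41079],
   .loop none [.bwd 12398, .bwd 40822],
   .loop none [.bwd 12402, .bwd 40822],
   .loop none [.bwd 35918, .fwd 40822, .bwd 14434],
   .loop none [.bwd 41083],
   .loop none [.fwd 39235, .bwd 40822],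
   .loop none [.fwd 39281, .fwd 40824, .bwd 40715],
   .loop none [.bwd 41086],
   .loop none [.fwd 36899, .fwd 40826, .bwd 40777],
   .loop none [.bwd 41088],
   .loop none [.bwd 36930, .bwd 40826],
   .loop none [.fwd 14470, .bwd 40831],
   .loop none [.bwd 14471, .bwd 40831],
   .loop none [.fwd 40557, .bwd 40848],
   .loop none [.fwd 40903, .fwd 40851, .bwd 37616],
   .loop none [.fwd 41094],
   .loop none [.fwd 11614, .fwd 40858, .fwd 15555],
   .loop none [.fwd 41096],
   .loop none [.fwd 24721, .bwd 40861],
   .loop none [.bwd 11494, .fwd 40861, .bwd 20054],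
   .loop none [.fwd 41099],
   .loop none [.fwd 35344, .bwd 40867],
   .loop none [.bwd 35946, .fwd 40867, .bwd 18191],
   .loop none [.bwd 41102],
   .loop none [.bwd 40752, .fwd 40867, .fwd 19685],
   .loop none [.fwd 41104],
   .loop none [.fwd 10343, .bwd 40872],
   .loop none [.fwd 40964, .fwd 34897, .fwd 40872, .fwd 10344],
   .loop none [.fwd 41107],
   .loop none [.fwd 40477, .bwd 40879],
   .loop none [.fwd 40751, .bwd 40879],
   .loop none [.fwd 35049, .bwd 40879],
   .loop none [.bwd 40935, .fwd 40879, .bwd 35417],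
   .loop none [.fwd 41112],
   .loop none [.fwd 40260, .bwd 40887],
   .loop none [.fwd 19763, .bwd 40887],
   .loop none [.fwd 40163, .bwd 40887],
   .loop none [.bwd 5485, .fwd 40891, .bwd 16805],
   .loop none [.fwd 41117],
   .loop none [.fwd 38047, .bwd 40894],
   .loop none [.fwd 36364, .bwd 40896],
   .loop none [.bwd 9904, .fwd 40896, .bwd 13219],
   .loop none [.fwd 41121],
   .loop none [.bwd 34560, .fwd 40917, .bwd 16103],
   .loop none [.fwd 41123],
   .loop none [.fwd 35876, .bwd 40919],
   .loop none [.bwd 16086, .bwd 40919],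
   .loop none [.fwd 37405, .bwd 40922],
   .loop none [.bwd 37406, .bwd 40922],
   .loop none [.fwd 4584, .fwd 40925, .bwd 36399],
   .loop none [.bwd 41129],
   .loop none [.fwd 5530, .bwd 40930],
   .loop none [.bwd 5531, .bwd 40930],
   .loop none [.fwd 36297, .fwd 40930, .fwd 9471],
   .loop none [.bwd 41133],
   .loop none [.bwd 36074, .fwd 40930, .bwd 9469],
   .loop none [.bwd 41135],
   .loop none [.fwd 37657, .bwd 40933],
   .loop none [.fwd 36281, .bwd 40943],
   .loop none [.bwd 18266, .bwd 40945],
   .loop none [.bwd 18265, .bwd 40945],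
   .loop none [.bwd 15755, .bwd 40945],
   .loop none [.fwd 40876, .bwd 40945],
   .loop none [.bwd 10027, .fwd 40947, .bwd 36372],
   .loop none [.fwd 41143],
   .loop none [.fwd 40877, .bwd 40947],
   .loop none [.bwd 37221, .bwd 40951],
   .loop none [.bwd 16323, .bwd 40951],
   .loop none [.fwd 33537, .bwd 40951],
   .loop none [.fwd 40675, .fwd 40955, .bwd 37407],
   .loop none [.bwd 41149],
   .loop none [.bwd 40179, .fwd 40955, .bwd 37402],
   .loop none [.bwd 41151],
   .loop none [.fwd 40988, .fwd 40957],
   .loop none [.bwd 37983, .fwd 41153],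
   .loop none [.fwd 37383, .bwd 40959],
   .loop none [.bwd 11733, .fwd 40961, .fwd 38110],
   .loop none [.fwd 41156],
   .loop none [.fwd 35667, .bwd 40964],
   .loop none [.fwd 6856, .fwd 40964, .bwd 35420],
   .loop none [.fwd 41159],
   .loop none [.bwd 34897, .bwd 40964],
   .loop none [.fwd 40982, .bwd 14743, .bwd 40964],
   .loop none [.fwd 40262, .bwd 40964],
   .loop none [.bwd 39504, .bwd 40974],
   .loop none [.fwd 40045, .bwd 40974],
   .loop none [.fwd 10706, .fwd 40974, .fwd 39505],
   .loop none [.fwd 41166],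
   .loop none [.bwd 39507, .bwd 40974],
   .loop none [.fwd 40149, .bwd 40974],
   .loop none [.fwd 40808, .bwd 40974],
   .loop none [.fwd 40914, .bwd 40974],
   .loop none [.bwd 15218, .bwd 40974],
   .loop none [.fwd 38132, .bwd 40980],
   .loop none [.bwd 40704, .fwd 40980, .fwd 38129],
   .loop none [.fwd 41174],
   .loop none [.fwd 35668, .bwd 40982],
   .loop none [.fwd 27391, .fwd 40982, .bwd 35422],
   .loop none [.fwd 41177],
   .loop none [.bwd 27356, .fwd 40982, .bwd 14740],
   .loop none [.fwd 41179],
   .loop none [.bwd 34899, .bwd 40982],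
   .loop none [.fwd 37377, .bwd 40988],
   .loop none [.fwd 37651, .bwd 40992],
   .loop none [.bwd 37650, .bwd 40992],
   .loop none [.fwd 37649, .bwd 40992],
   .loop none [.fwd 5598, .fwd 40994, .bwd 39682],
   .loop none [.fwd 41186],
   .loop none [.bwd 17237, .bwd 40994],
   .loop none [.fwd 35856, .fwd 40994, .bwd 19657],
   .loop none [.fwd 41189],
   .loop none [.bwd 35986, .bwd 40996],
   .loop none [.fwd 10722, .fwd 40996, .bwd 36773],
   .loop none [.fwd 41192],
   .loop none [.bwd 35875, .bwd 40996],
   .loop none [.bwd 35989, .bwd 40996],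
   .loop none [.fwd 39854, .fwd 40996, .fwd 36701],
   .loop none [.bwd 41196],
   .loop none [.fwd 34680, .bwd 40996],
   .loop none [.fwd 6649, .fwd 40998, .fwd 35305],
   .loop none [.fwd 41199],
   .loop none [.bwd 17227, .bwd 40998],
   .loop none [.fwd 40492, .bwd 41000],
   .loop none [.bwd 36682, .bwd 41000],
   .loop none [.fwd 40948, .bwd 41000],
   .loop none [.bwd 36684, .bwd 41000],
   .loop none [.fwd 36313, .bwd 41000],
   .loop none [.bwd 34859, .bwd 41003],
   .loop none [.fwd 17997, .bwd 41003],
   .loop none [.bwd 17968, .bwd 41003],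
   .loop none [.bwd 39937, .bwd 41008],
   .loop none [.bwd 9283, .fwd 41008, .bwd 40504],
   .loop none [.fwd 41211],
   .loop none [.fwd 4576, .fwd 41008, .bwd 14699],
   .loop none [.fwd 41213],
   .loop none [.fwd 41197, .fwd 12243, .bwd 41008],
   .loop none [.bwd 33234, .bwd 41008],
   .loop none [.fwd 39817, .fwd 41013, .fwd 37224],
   .loop none [.bwd 41217],
   .loop none [.fwd 37091, .bwd 41013],
   .loop none [.fwd 10673, .fwd 41013, .fwd 16366],
   .loop none [.fwd 41220],
   .loop none [.fwd 41010, .bwd 41013],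
   .loop none [.fwd 40776, .bwd 41013],
   .loop none [.fwd 19486, .bwd 41013],
   .loop none [.fwd 7231, .fwd 41015, .bwd 36439],
   .loop none [.fwd 41225],
   .loop none [.fwd 9937, .bwd 41015],
   .loop none [.fwd 36767, .bwd 41015],
   .loop none [.fwd 7843, .fwd 41017, .fwd 36331],
   .loop none [.fwd 41229],
   .loop none [.bwd 7889, .fwd 41017, .fwd 36332],
   .loop none [.fwd 41231],
   .loop none [.fwd 34133, .fwd 41017, .fwd 12116],
   .loop none [.fwd 41233],
   .loop none [.fwd 39225, .fwd 41017, .fwd 36335],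
   .loop none [.fwd 41235],
   .loop none [.bwd 10332, .fwd 41021, .bwd 17057],
   .loop none [.fwd 41237],
   .loop none [.bwd 36205, .bwd 41021],
   .loop none [.fwd 34681, .bwd 41021],
   .loop none [.fwd 40869, .bwd 41027],
   .loop none [.fwd 35308, .fwd 41027, .fwd 36895],
   .loop none [.fwd 41242],
   .loop none [.fwd 40299, .bwd 41027],
   .loop none [.fwd 34034, .bwd 41027],
   .loop none [.fwd 11023, .bwd 41029],
   .loop none [.fwd 35233, .fwd 41029, .fwd 11821],
   .loop none [.fwd 41247],
   .loop none [.fwd 39920, .bwd 41029]]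

theorem just164_len : just164.length = 250 := by decide +kernel

theorem just164_ok : cert.okFacts 41000 just164 = true := by decide +kernel

/-- justifications -/
noncomputable def just165 : List Cert.Just :=
  [.loop none [.bwd 10026, .bwd 41029],
   .loop none [.fwd 9463, .fwd 41029, .bwd 17223],
   .loop none [.fwd 41251],
   .loop none [.bwd 36942, .bwd 41037],
   .loop none [.fwd 36393, .fwd 41037, .bwd 34474],
   .loop none [.fwd 41254],
   .loop none [.fwd 5686, .fwd 41037, .fwd 14698],
   .loop none [.fwd 41256],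
   .loop none [.bwd 5687, .fwd 41037, .fwd 39238],
   .loop none [.fwd 41258],
   .loop none [.bwd 14159, .bwd 41037],
   .loop none [.bwd 12227, .bwd 41037],
   .loop none [.bwd 37230, .bwd 41039],
   .loop none [.fwd 36189, .bwd 41039],
   .loop none [.fwd 34658, .bwd 41039],
   .loop none [.bwd 41076, .fwd 41049, .bwd 11741],
   .loop none [.bwd 41265],
   .loop none [.fwd 5490, .fwd 41049, .bwd 40244],
   .loop none [.fwd 41267],
   .loop none [.bwd 40249, .bwd 41049],
   .loop none [.fwd 40240, .bwd 41049],
   .loop none [.fwd 5586, .fwd 41051, .fwd 11443],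
   .loop none [.fwd 41271],
   .loop none [.bwd 10679, .bwd 41051],
   .loop none [.bwd 35831, .fwd 41051, .bwd 10678],
   .loop none [.fwd 41274],
   .loop none [.fwd 39835, .bwd 41051],
   .loop none [.fwd 11724, .bwd 41051],
   .loop none [.fwd 41018, .bwd 41051],
   .loop none [.bwd 39938, .bwd 41053],
   .loop none [.bwd 40402, .fwd 41053, .fwd 39939],
   .loop none [.bwd 41280],
   .loop none [.bwd 14241, .bwd 41053],
   .loop none [.fwd 40915, .bwd 41053],
   .loop none [.fwd 40235, .fwd 41060, .fwd 36798],
   .loop none [.bwd 41284],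
   .loop none [.bwd 32782, .fwd 41060, .fwd 40583],
   .loop none [.bwd 41286],
   .loop none [.bwd 32784, .fwd 41060, .bwd 40838],
   .loop none [.bwd 41288],
   .loop none [.bwd 40585, .bwd 41060],
   .loop none [.fwd 11448, .fwd 41068, .bwd 17017],
   .loop none [.fwd 41291],
   .loop none [.fwd 34120, .bwd 41068],
   .loop none [.fwd 16502, .fwd 41074, .bwd 37721],
   .loop none [.fwd 41294],
   .loop none [.bwd 10719, .bwd 41080],
   .loop none [.fwd 24692, .fwd 41080, .bwd 10370],
   .loop none [.bwd 41297],
   .loop none [.bwd 10684, .bwd 41080],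
   .loop none [.fwd 11735, .bwd 41080],
   .loop none [.fwd 36733, .fwd 41080, .bwd 11717],
   .loop none [.bwd 41301],
   .loop none [.fwd 41040, .bwd 41084],
   .loop none [.fwd 35918, .bwd 41084],
   .loop none [.bwd 35221, .bwd 41084],
   .loop none [.bwd 39281, .bwd 41087],
   .loop none [.fwd 5537, .fwd 41087, .bwd 39922],
   .loop none [.fwd 41307],
   .loop none [.bwd 40718, .fwd 41087, .fwd 39282],
   .loop none [.bwd 41309],
   .loop none [.fwd 39865, .bwd 41087],
   .loop none [.fwd 12336, .bwd 41087],
   .loop none [.bwd 39287, .bwd 41087],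
   .loop none [.bwd 39288, .bwd 41087],
   .loop none [.bwd 36899, .bwd 41089],
   .loop none [.fwd 5659, .fwd 41089, .bwd 33805],
   .loop none [.fwd 41316],
   .loop none [.bwd 5660, .fwd 41089, .fwd 14431],
   .loop none [.fwd 41318],
   .loop none [.bwd 40755, .bwd 41089],
   .loop none [.bwd 14398, .bwd 41089],
   .loop none [.fwd 40923, .fwd 41095, .bwd 37615],
   .loop none [.fwd 41322],
   .loop none [.bwd 15556, .bwd 41097],
   .loop none [.fwd 20053, .bwd 41100],
   .loop none [.fwd 8270, .fwd 41103, .bwd 11598],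
   .loop none [.fwd 41326],
   .loop none [.bwd 36373, .bwd 41103],
   .loop none [.fwd 35946, .bwd 41103],
   .loop none [.fwd 18189, .bwd 41105],
   .loop none [.bwd 34484, .fwd 41105, .bwd 18373],
   .loop none [.fwd 41331],
   .loop none [.fwd 40099, .bwd 41105],
   .loop none [.bwd 11601, .fwd 41108, .fwd 10345],
   .loop none [.fwd 41334],
   .loop none [.fwd 11597, .fwd 41113, .fwd 14250],
   .loop none [.fwd 41336],
   .loop none [.bwd 35415, .bwd 41113],
   .loop none [.bwd 35416, .bwd 41113],
   .loop none [.fwd 14282, .bwd 41113],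
   .loop none [.fwd 40482, .bwd 41113],
   .loop none [.fwd 36301, .fwd 41118, .bwd 16804],
   .loop none [.fwd 41342],
   .loop none [.fwd 36592, .bwd 41122],
   .loop none [.fwd 11531, .fwd 41122, .bwd 13218],
   .loop none [.fwd 41345],
   .loop none [.fwd 19058, .bwd 41124],
   .loop none [.bwd 39518, .fwd 41124, .bwd 16102],
   .loop none [.fwd 41348],
   .loop none [.fwd 4583, .bwd 41130],
   .loop none [.bwd 4584, .bwd 41130],
   .loop none [.fwd 36210, .bwd 41130],
   .loop none [.fwd 36538, .fwd 41130, .bwd 35904],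
   .loop none [.fwd 41353],
   .loop none [.bwd 36402, .fwd 41130, .fwd 35517],
   .loop none [.fwd 41355],
   .loop none [.fwd 24061, .bwd 41130],
   .loop none [.bwd 36297, .bwd 41134],
   .loop none [.fwd 36074, .bwd 41136],
   .loop none [.bwd 33096, .fwd 41144, .fwd 10691],
   .loop none [.fwd 41360],
   .loop none [.bwd 40675, .bwd 41150],
   .loop none [.bwd 37956, .bwd 41150],
   .loop none [.fwd 40179, .bwd 41152],
   .loop none [.bwd 40990, .fwd 41157, .bwd 38115],
   .loop none [.fwd 41365],
   .loop none [.bwd 11723, .fwd 41157, .fwd 38111],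
   .loop none [.fwd 41367],
   .loop none [.fwd 6855, .fwd 41160, .fwd 35419],
   .loop none [.fwd 41369],
   .loop none [.fwd 17210, .bwd 41160],
   .loop none [.fwd 41178, .bwd 19690, .bwd 41160],
   .loop none [.fwd 40217, .bwd 41160],
   .loop none [.bwd 13198, .bwd 41167],
   .loop none [.fwd 32569, .bwd 41167],
   .loop none [.bwd 38130, .bwd 41175],
   .loop none [.bwd 36384, .fwd 41178, .fwd 35421],
   .loop none [.fwd 41377],
   .loop none [.fwd 35671, .bwd 41178],
   .loop none [.bwd 17217, .bwd 41178],
   .loop none [.bwd 40828, .fwd 41180, .fwd 11745],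
   .loop none [.bwd 41381],
   .loop none [.bwd 40829, .fwd 41180, .bwd 10711],
   .loop none [.bwd 41383],
   .loop none [.fwd 40701, .bwd 41180],
   .loop none [.bwd 39681, .bwd 41187],
   .loop none [.fwd 11416, .fwd 41187, .bwd 16057],
   .loop none [.fwd 41387],
   .loop none [.fwd 36258, .fwd 41187, .fwd 16058],
   .loop none [.fwd 41389],
   .loop none [.bwd 39683, .bwd 41187],
   .loop none [.fwd 39928, .bwd 41187],
   .loop none [.fwd 9519, .fwd 41187, .fwd 39684],
   .loop none [.fwd 41393],
   .loop none [.fwd 41308, .bwd 35165, .bwd 41187],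
   .loop none [.fwd 41158, .bwd 41190],
   .loop none [.fwd 41115, .bwd 41190],
   .loop none [.fwd 10376, .fwd 41193, .fwd 16620],
   .loop none [.fwd 41398],
   .loop none [.bwd 36774, .bwd 41193],
   .loop none [.fwd 40496, .bwd 41197],
   .loop none [.bwd 9284, .fwd 41197, .bwd 40696],
   .loop none [.fwd 41402],
   .loop none [.bwd 14702, .bwd 41197],
   .loop none [.bwd 4578, .fwd 41197, .bwd 12242],
   .loop none [.fwd 41405],
   .loop none [.bwd 39853, .bwd 41197],
   .loop none [.fwd 36516, .fwd 41197, .bwd 14043],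
   .loop none [.fwd 41408],
   .loop none [.bwd 39854, .bwd 41197],
   .loop none [.fwd 40115, .fwd 41200, .fwd 11386],
   .loop none [.fwd 41411],
   .loop none [.bwd 34576, .bwd 41200],
   .loop none [.fwd 41403, .bwd 40505, .bwd 41212],
   .loop none [.bwd 40506, .bwd 41212],
   .loop none [.fwd 4575, .fwd 41214, .bwd 11688],
   .loop none [.fwd 41416],
   .loop none [.bwd 11167, .bwd 41214],
   .loop none [.fwd 10468, .bwd 41214],
   .loop none [.bwd 33525, .bwd 41214],
   .loop none [.bwd 39817, .bwd 41218],
   .loop none [.fwd 9280, .fwd 41218, .bwd 11532],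
   .loop none [.fwd 41422],
   .loop none [.bwd 5539, .fwd 41218, .fwd 10638],
   .loop none [.fwd 41424],
   .loop none [.bwd 10624, .bwd 41218],
   .loop none [.fwd 10623, .bwd 41218],
   .loop none [.bwd 39822, .bwd 41218],
   .loop none [.bwd 39313, .fwd 41221, .bwd 37088],
   .loop none [.fwd 41429],
   .loop none [.fwd 41375, .fwd 41221, .fwd 16367],
   .loop none [.fwd 41431],
   .loop none [.bwd 19569, .bwd 41221],
   .loop none [.bwd 39315, .fwd 41221, .bwd 19487],
   .loop none [.fwd 41434],
   .loop none [.fwd 36721, .bwd 41226],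
   .loop none [.bwd 11039, .fwd 41230, .fwd 11693],
   .loop none [.bwd 41437],
   .loop none [.bwd 34421, .fwd 41230, .bwd 34206],
   .loop none [.bwd 41439],
   .loop none [.fwd 39039, .fwd 41230, .fwd 9804],
   .loop none [.bwd 41441],
   .loop none [.fwd 35065, .fwd 41230, .bwd 35256],
   .loop none [.bwd 41443],
   .loop none [.bwd 918, .fwd 41230, .bwd 11692],
   .loop none [.fwd 41445],
   .loop none [.fwd 39611, .fwd 41230, .bwd 40419],
   .loop none [.fwd 41447],
   .loop none [.fwd 19724, .fwd 41230, .bwd 10326],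
   .loop none [.bwd 41449],
   .loop none [.bwd 17530, .fwd 41230, .fwd 11696],
   .loop none [.bwd 41451],
   .loop none [.fwd 33012, .fwd 41232, .fwd 5496],
   .loop none [.fwd 41453],
   .loop none [.fwd 33986, .fwd 41232, .bwd 5495],
   .loop none [.bwd 41455],
   .loop none [.fwd 33987, .fwd 41232, .fwd 9489],
   .loop none [.bwd 41457],
   .loop none [.fwd 27360, .bwd 41232],
   .loop none [.fwd 41281, .bwd 40714, .bwd 41234],
   .loop none [.fwd 41041, .bwd 41236],
   .loop none [.bwd 23441, .bwd 41236],
   .loop none [.bwd 9847, .fwd 41238, .bwd 39640],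
   .loop none [.bwd 41463],
   .loop none [.fwd 41354, .fwd 5694, .fwd 41243, .fwd 16640],
   .loop none [.fwd 41465],
   .loop none [.fwd 39674, .bwd 41243],
   .loop none [.fwd 18151, .bwd 41243],
   .loop none [.fwd 39669, .bwd 41243],
   .loop none [.bwd 34803, .bwd 41248],
   .loop none [.bwd 18251, .fwd 41248, .fwd 11829],
   .loop none [.bwd 41471],
   .loop none [.fwd 39868, .bwd 41248],
   .loop none [.bwd 10041, .bwd 41248],
   .loop none [.fwd 35863, .fwd 41248, .fwd 34805],
   .loop none [.fwd 41475],
   .loop none [.bwd 34806, .bwd 41248],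
   .loop none [.fwd 41176, .bwd 41252],
   .loop none [.bwd 39624, .bwd 41255],
   .loop none [.bwd 16971, .bwd 41255],
   .loop none [.fwd 41033, .fwd 41257, .fwd 37310],
   .loop none [.fwd 41481],
   .loop none [.fwd 5685, .fwd 41257, .fwd 11183],
   .loop none [.fwd 41483],
   .loop none [.bwd 11491, .bwd 41257],
   .loop none [.bwd 11182, .bwd 41257],
   .loop none [.bwd 10433, .bwd 41257],
   .loop none [.fwd 40807, .bwd 41259],
   .loop none [.fwd 36613, .fwd 41259, .bwd 34473],
   .loop none [.fwd 41489],
   .loop none [.bwd 14724, .bwd 41259],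
   .loop none [.bwd 5688, .fwd 41259, .fwd 12383],
   .loop none [.fwd 41492],
   .loop none [.bwd 39846, .bwd 41259],
   .loop none [.fwd 14417, .bwd 41259],
   .loop none [.bwd 11740, .fwd 41266, .bwd 36468],
   .loop none [.fwd 41496],
   .loop none [.fwd 41076, .bwd 41266],
   .loop none [.fwd 9886, .fwd 41266, .bwd 19396]]

theorem just165_len : just165.length = 250 := by decide +kernel

theorem just165_ok : cert.okFacts 41250 just165 = true := by decide +kernel

/-- justifications -/
noncomputable def just166 : List Cert.Just :=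
  [.loop none [.bwd 41499],
   .loop none [.bwd 19580, .bwd 41266],
   .loop none [.fwd 36190, .bwd 41266],
   .loop none [.fwd 40655, .bwd 41266],
   .loop none [.fwd 41045, .bwd 41268],
   .loop none [.fwd 5489, .fwd 41268, .bwd 35013],
   .loop none [.fwd 41505],
   .loop none [.fwd 36696, .fwd 41268, .bwd 34901],
   .loop none [.fwd 41507],
   .loop none [.fwd 41444, .fwd 12579, .bwd 41268],
   .loop none [.bwd 34057, .bwd 41268],
   .loop none [.bwd 40245, .bwd 41268],
   .loop none [.bwd 39787, .fwd 41272, .bwd 11535],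
   .loop none [.fwd 41512],
   .loop none [.fwd 9848, .bwd 41272],
   .loop none [.fwd 40414, .bwd 41272],
   .loop none [.fwd 39635, .fwd 41272, .fwd 11502],
   .loop none [.fwd 41516],
   .loop none [.fwd 11711, .bwd 41275],
   .loop none [.fwd 14449, .fwd 41281, .bwd 16457],
   .loop none [.fwd 41519],
   .loop none [.fwd 40402, .bwd 41281],
   .loop none [.bwd 34563, .fwd 41281, .bwd 19574],
   .loop none [.fwd 41522],
   .loop none [.bwd 40235, .bwd 41285],
   .loop none [.bwd 40042, .fwd 41285, .bwd 17527],
   .loop none [.fwd 41525],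
   .loop none [.fwd 36973, .fwd 41285, .fwd 40713],
   .loop none [.fwd 41527],
   .loop none [.fwd 41270, .bwd 41285],
   .loop none [.bwd 40241, .bwd 41285],
   .loop none [.fwd 40661, .bwd 41287],
   .loop none [.fwd 32782, .bwd 41287],
   .loop none [.fwd 5662, .fwd 41287, .bwd 11732],
   .loop none [.fwd 41533],
   .loop none [.fwd 41277, .bwd 41287],
   .loop none [.bwd 33988, .bwd 41287],
   .loop none [.fwd 40972, .bwd 41289],
   .loop none [.bwd 40461, .bwd 41289],
   .loop none [.fwd 32784, .bwd 41289],
   .loop none [.fwd 41261, .bwd 41289],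
   .loop none [.bwd 12228, .bwd 41289],
   .loop none [.bwd 14296, .bwd 41289],
   .loop none [.fwd 38732, .bwd 41289],
   .loop none [.bwd 11447, .fwd 41292, .bwd 40252],
   .loop none [.bwd 41544],
   .loop none [.fwd 36506, .bwd 41292],
   .loop none [.fwd 37275, .bwd 41292],
   .loop none [.fwd 16501, .fwd 41295, .bwd 37720],
   .loop none [.fwd 41548],
   .loop none [.bwd 24692, .bwd 41298],
   .loop none [.fwd 11437, .fwd 41298, .bwd 36601],
   .loop none [.fwd 41551],
   .loop none [.fwd 39532, .bwd 41298],
   .loop none [.bwd 39632, .bwd 41298],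
   .loop none [.bwd 36733, .bwd 41302],
   .loop none [.fwd 37239, .bwd 41302],
   .loop none [.bwd 36734, .bwd 41302],
   .loop none [.bwd 41005, .fwd 41308, .bwd 35158],
   .loop none [.bwd 41558],
   .loop none [.bwd 41006, .fwd 41308, .fwd 34172],
   .loop none [.bwd 41560],
   .loop none [.bwd 13977, .bwd 41308],
   .loop none [.bwd 39925, .bwd 41308],
   .loop none [.fwd 39668, .bwd 41308],
   .loop none [.bwd 33393, .fwd 41310, .bwd 16319],
   .loop none [.fwd 41565],
   .loop none [.fwd 40718, .bwd 41310],
   .loop none [.bwd 41042, .fwd 41317, .fwd 40320],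
   .loop none [.fwd 41568],
   .loop none [.bwd 41043, .fwd 41317, .fwd 40321],
   .loop none [.fwd 41570],
   .loop none [.bwd 40322, .bwd 41317],
   .loop none [.fwd 41208, .bwd 41317],
   .loop none [.fwd 40771, .fwd 41319, .fwd 40898],
   .loop none [.fwd 41574],
   .loop none [.bwd 35327, .fwd 41319, .bwd 11434],
   .loop none [.fwd 41576],
   .loop none [.bwd 40899, .bwd 41319],
   .loop none [.fwd 11507, .bwd 41319],
   .loop none [.bwd 9292, .fwd 41323, .bwd 37614],
   .loop none [.fwd 41580],
   .loop none [.bwd 9298, .fwd 41327, .bwd 39583],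
   .loop none [.fwd 41582],
   .loop none [.fwd 4618, .fwd 41327, .fwd 35955],
   .loop none [.fwd 41584],
   .loop none [.bwd 9627, .bwd 41327],
   .loop none [.fwd 35178, .fwd 41327, .fwd 39597],
   .loop none [.bwd 41587],
   .loop none [.bwd 40101, .bwd 41332],
   .loop none [.fwd 41239, .fwd 41335, .fwd 10346],
   .loop none [.fwd 41590],
   .loop none [.fwd 6852, .fwd 41337, .bwd 9893],
   .loop none [.fwd 41592],
   .loop none [.bwd 35184, .bwd 41337],
   .loop none [.bwd 11596, .fwd 41337, .fwd 10688],
   .loop none [.fwd 41595],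
   .loop none [.bwd 35187, .bwd 41337],
   .loop none [.bwd 35631, .fwd 41337, .fwd 35188],
   .loop none [.bwd 41598],
   .loop none [.bwd 35189, .bwd 41337],
   .loop none [.fwd 16803, .bwd 41343],
   .loop none [.fwd 13217, .bwd 41346],
   .loop none [.bwd 36654, .bwd 41346],
   .loop none [.fwd 41508, .fwd 34900, .fwd 41349, .bwd 37194],
   .loop none [.fwd 41604],
   .loop none [.fwd 14171, .fwd 41349, .bwd 16101],
   .loop none [.fwd 41606],
   .loop none [.bwd 19375, .bwd 41349],
   .loop none [.bwd 5694, .bwd 41354],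
   .loop none [.fwd 36298, .bwd 41354],
   .loop none [.fwd 18253, .bwd 41354],
   .loop none [.bwd 5595, .bwd 41356],
   .loop none [.bwd 41601, .fwd 41356, .bwd 35907],
   .loop none [.bwd 41613],
   .loop none [.fwd 11639, .bwd 41356],
   .loop none [.fwd 39151, .fwd 41361, .fwd 10692],
   .loop none [.fwd 41616],
   .loop none [.fwd 40677, .bwd 41366],
   .loop none [.bwd 38112, .bwd 41368],
   .loop none [.fwd 39500, .fwd 41370, .bwd 11384],
   .loop none [.fwd 41620],
   .loop none [.bwd 10338, .bwd 41370],
   .loop none [.fwd 35939, .bwd 41370],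
   .loop none [.bwd 35264, .bwd 41370],
   .loop none [.fwd 41378, .bwd 11734, .bwd 41370],
   .loop none [.bwd 9729, .bwd 41370],
   .loop none [.fwd 40205, .fwd 41378, .fwd 11385],
   .loop none [.fwd 41627],
   .loop none [.fwd 10367, .bwd 41378],
   .loop none [.bwd 11727, .bwd 41378],
   .loop none [.bwd 35265, .bwd 41378],
   .loop none [.bwd 9888, .fwd 41382, .bwd 13365],
   .loop none [.fwd 41632],
   .loop none [.fwd 40828, .bwd 41382],
   .loop none [.bwd 11744, .fwd 41382, .fwd 25415],
   .loop none [.fwd 41635],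
   .loop none [.fwd 41559, .fwd 36522, .bwd 41382],
   .loop none [.fwd 36763, .bwd 41382],
   .loop none [.bwd 37076, .bwd 41382],
   .loop none [.fwd 40829, .bwd 41384],
   .loop none [.bwd 40466, .fwd 41384, .fwd 13368],
   .loop none [.bwd 41641],
   .loop none [.bwd 40469, .fwd 41384, .bwd 36777],
   .loop none [.fwd 41643],
   .loop none [.bwd 12087, .fwd 41384, .fwd 37083],
   .loop none [.fwd 41645],
   .loop none [.bwd 35038, .bwd 41388],
   .loop none [.bwd 9761, .fwd 41388, .fwd 37072],
   .loop none [.fwd 41648],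
   .loop none [.bwd 35039, .bwd 41388],
   .loop none [.fwd 40336, .bwd 41388],
   .loop none [.bwd 35197, .fwd 41388, .fwd 39547],
   .loop none [.fwd 41652],
   .loop none [.bwd 19366, .bwd 41390],
   .loop none [.fwd 9815, .fwd 41390, .fwd 16059],
   .loop none [.fwd 41655],
   .loop none [.fwd 39895, .bwd 41390],
   .loop none [.fwd 35879, .bwd 41390],
   .loop none [.bwd 17833, .bwd 41394],
   .loop none [.fwd 40888, .bwd 41394],
   .loop none [.fwd 36491, .bwd 41399],
   .loop none [.fwd 39734, .bwd 41399],
   .loop none [.fwd 5534, .fwd 41403, .bwd 36523],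
   .loop none [.fwd 41663],
   .loop none [.bwd 9285, .fwd 41403, .fwd 16648],
   .loop none [.fwd 41665],
   .loop none [.bwd 40232, .bwd 41403],
   .loop none [.fwd 40499, .bwd 41406],
   .loop none [.bwd 22864, .fwd 41406, .fwd 14397],
   .loop none [.bwd 41669],
   .loop none [.bwd 40515, .bwd 41406],
   .loop none [.bwd 40328, .bwd 41406],
   .loop none [.fwd 41282, .bwd 41406],
   .loop none [.fwd 36679, .fwd 41406, .bwd 14703],
   .loop none [.fwd 41674],
   .loop none [.fwd 40370, .bwd 41409],
   .loop none [.fwd 11730, .bwd 41409],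
   .loop none [.fwd 10609, .bwd 41409],
   .loop none [.bwd 10610, .bwd 41409],
   .loop none [.fwd 4571, .fwd 41412, .fwd 40175],
   .loop none [.fwd 41680],
   .loop none [.bwd 4572, .fwd 41412, .bwd 9901],
   .loop none [.fwd 41682],
   .loop none [.fwd 9277, .fwd 41412, .bwd 41362],
   .loop none [.fwd 41684],
   .loop none [.fwd 34998, .fwd 41412, .fwd 40178],
   .loop none [.bwd 41686],
   .loop none [.bwd 40117, .fwd 41412, .bwd 41364],
   .loop none [.fwd 41688],
   .loop none [.bwd 9806, .bwd 41417],
   .loop none [.bwd 9792, .bwd 41417],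
   .loop none [.fwd 40843, .bwd 41423],
   .loop none [.fwd 39312, .bwd 41425],
   .loop none [.bwd 39198, .bwd 41425],
   .loop none [.bwd 33679, .bwd 41425],
   .loop none [.fwd 39829, .bwd 41425],
   .loop none [.bwd 39201, .bwd 41425],
   .loop none [.bwd 39202, .bwd 41425],
   .loop none [.bwd 14450, .fwd 41430, .bwd 16413],
   .loop none [.fwd 41699],
   .loop none [.bwd 16414, .bwd 41430],
   .loop none [.bwd 37086, .bwd 41430],
   .loop none [.fwd 36693, .bwd 41430],
   .loop none [.fwd 12006, .fwd 41430, .bwd 19525],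
   .loop none [.fwd 41704],
   .loop none [.fwd 40859, .bwd 41430],
   .loop none [.fwd 10705, .fwd 41432, .fwd 16368],
   .loop none [.fwd 41707],
   .loop none [.bwd 19572, .bwd 41432],
   .loop none [.fwd 19488, .bwd 41432],
   .loop none [.fwd 16316, .bwd 41435],
   .loop none [.bwd 32691, .fwd 41435, .fwd 16317],
   .loop none [.fwd 41712],
   .loop none [.fwd 19571, .bwd 41435],
   .loop none [.bwd 37216, .bwd 41435],
   .loop none [.fwd 11039, .bwd 41438],
   .loop none [.fwd 14483, .fwd 41438, .fwd 17256],
   .loop none [.fwd 41717],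
   .loop none [.fwd 10011, .bwd 41438],
   .loop none [.fwd 34421, .bwd 41440],
   .loop none [.bwd 5581, .fwd 41440, .bwd 35009],
   .loop none [.fwd 41721],
   .loop none [.fwd 40645, .bwd 41440],
   .loop none [.bwd 40172, .fwd 41440, .fwd 33971],
   .loop none [.fwd 41724],
   .loop none [.bwd 39038, .bwd 41442],
   .loop none [.bwd 39039, .bwd 41442],
   .loop none [.fwd 39614, .bwd 41442],
   .loop none [.bwd 11700, .fwd 41442, .fwd 39046],
   .loop none [.fwd 41729],
   .loop none [.fwd 14028, .bwd 41444],
   .loop none [.bwd 35065, .bwd 41444],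
   .loop none [.fwd 11697, .bwd 41446],
   .loop none [.fwd 10369, .bwd 41446],
   .loop none [.bwd 40417, .bwd 41448],
   .loop none [.bwd 9865, .fwd 41448, .bwd 40672],
   .loop none [.bwd 41736],
   .loop none [.bwd 40418, .bwd 41448],
   .loop none [.bwd 15116, .bwd 41448],
   .loop none [.bwd 40420, .bwd 41448],
   .loop none [.bwd 37014, .bwd 41448],
   .loop none [.fwd 33956, .bwd 41450],
   .loop none [.bwd 19724, .bwd 41450],
   .loop none [.fwd 40396, .bwd 41452],
   .loop none [.fwd 17530, .bwd 41452],
   .loop none [.bwd 8868, .fwd 41454, .fwd 9491],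
   .loop none [.bwd 41746],
   .loop none [.bwd 39072, .bwd 41454],
   .loop none [.fwd 14068, .bwd 41456]]

theorem just166_len : just166.length = 250 := by decide +kernel

theorem just166_ok : cert.okFacts 41500 just166 = true := by decide +kernel

/-- justifications -/
noncomputable def just167 : List Cert.Just :=
  [.loop none [.bwd 11155, .bwd 41456],
   .loop none [.bwd 33986, .bwd 41456],
   .loop none [.bwd 10401, .bwd 41456],
   .loop none [.fwd 39221, .bwd 41458],
   .loop none [.fwd 11713, .bwd 41458],
   .loop none [.fwd 40452, .bwd 41458],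
   .loop none [.bwd 10667, .bwd 41458],
   .loop none [.bwd 33987, .bwd 41458],
   .loop none [.fwd 9847, .bwd 41464],
   .loop none [.fwd 9763, .bwd 41464],
   .loop none [.bwd 9764, .bwd 41464],
   .loop none [.fwd 19371, .bwd 41466],
   .loop none [.fwd 5691, .fwd 41466, .fwd 16641],
   .loop none [.fwd 41762],
   .loop none [.fwd 39393, .bwd 41466],
   .loop none [.bwd 35375, .bwd 41466],
   .loop none [.bwd 35376, .bwd 41466],
   .loop none [.bwd 18252, .bwd 41472],
   .loop none [.fwd 18251, .bwd 41472],
   .loop none [.bwd 16046, .bwd 41472],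
   .loop none [.bwd 18246, .bwd 41472],
   .loop none [.fwd 35042, .fwd 41472, .bwd 40905],
   .loop none [.bwd 41771],
   .loop none [.fwd 40462, .bwd 41476],
   .loop none [.fwd 39299, .bwd 41482],
   .loop none [.fwd 40769, .fwd 41484, .fwd 37309],
   .loop none [.fwd 41775],
   .loop none [.fwd 8921, .bwd 41484],
   .loop none [.fwd 6620, .bwd 41484],
   .loop none [.fwd 41545, .fwd 11495, .bwd 41484],
   .loop none [.fwd 36741, .fwd 41490, .bwd 40710],
   .loop none [.fwd 41780],
   .loop none [.fwd 39610, .bwd 41490],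
   .loop none [.bwd 39623, .bwd 41490],
   .loop none [.fwd 40740, .bwd 41493],
   .loop none [.fwd 14692, .bwd 41493],
   .loop none [.bwd 12339, .bwd 41493],
   .loop none [.fwd 39864, .bwd 41493],
   .loop none [.bwd 40386, .bwd 41497],
   .loop none [.bwd 36469, .bwd 41497],
   .loop none [.bwd 15123, .bwd 41497],
   .loop none [.fwd 15083, .bwd 41497],
   .loop none [.fwd 38913, .bwd 41497],
   .loop none [.bwd 34985, .fwd 41500, .bwd 9885],
   .loop none [.fwd 41793],
   .loop none [.bwd 9886, .bwd 41500],
   .loop none [.fwd 41506, .fwd 40709, .bwd 41500],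
   .loop none [.fwd 5488, .fwd 41506, .fwd 35012],
   .loop none [.fwd 41797],
   .loop none [.fwd 41722, .fwd 17091, .bwd 41506],
   .loop none [.bwd 39503, .bwd 41506],
   .loop none [.fwd 9442, .fwd 41506, .fwd 40686],
   .loop none [.fwd 41801],
   .loop none [.fwd 17144, .bwd 41508],
   .loop none [.bwd 17145, .bwd 41508],
   .loop none [.bwd 11537, .bwd 41513],
   .loop none [.bwd 11528, .bwd 41513],
   .loop none [.bwd 9895, .bwd 41517],
   .loop none [.bwd 9856, .bwd 41517],
   .loop none [.fwd 9853, .bwd 41517],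
   .loop none [.bwd 40965, .fwd 41520, .bwd 16456],
   .loop none [.fwd 41810],
   .loop none [.bwd 40966, .fwd 41520, .bwd 37084],
   .loop none [.bwd 41812],
   .loop none [.fwd 41708, .fwd 19573, .bwd 41520],
   .loop none [.fwd 41708, .fwd 16369, .bwd 41523],
   .loop none [.fwd 40780, .bwd 41523],
   .loop none [.fwd 40839, .bwd 41523],
   .loop none [.bwd 5680, .fwd 41526, .fwd 41173],
   .loop none [.fwd 41818],
   .loop none [.bwd 40704, .bwd 41526],
   .loop none [.bwd 40706, .bwd 41528],
   .loop none [.fwd 41480, .bwd 41528],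
   .loop none [.bwd 34373, .bwd 41528],
   .loop none [.fwd 41487, .bwd 41534],
   .loop none [.bwd 40547, .bwd 41534],
   .loop none [.fwd 11447, .bwd 41545],
   .loop none [.fwd 5682, .fwd 41545, .fwd 41098],
   .loop none [.fwd 41827],
   .loop none [.fwd 40005, .bwd 41545],
   .loop none [.fwd 41561, .fwd 41549],
   .loop none [.fwd 37719, .fwd 41830],
   .loop none [.bwd 41324, .fwd 41552, .bwd 36671],
   .loop none [.bwd 41832],
   .loop none [.fwd 39528, .bwd 41552],
   .loop none [.fwd 39055, .bwd 41552],
   .loop none [.fwd 16498, .bwd 41559],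
   .loop none [.fwd 41005, .bwd 41559],
   .loop none [.fwd 36940, .bwd 41559],
   .loop none [.fwd 36764, .bwd 41559],
   .loop none [.bwd 37243, .bwd 41559],
   .loop none [.bwd 41831, .fwd 41561, .bwd 41006],
   .loop none [.bwd 41841],
   .loop none [.fwd 34818, .fwd 41561, .fwd 16501],
   .loop none [.fwd 41843],
   .loop none [.bwd 37244, .bwd 41561],
   .loop none [.fwd 41708, .bwd 19489, .bwd 41566],
   .loop none [.fwd 39703, .bwd 41569],
   .loop none [.fwd 40080, .bwd 41571],
   .loop none [.fwd 39952, .bwd 41575],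
   .loop none [.fwd 40360, .fwd 41577, .fwd 41325],
   .loop none [.fwd 41850],
   .loop none [.bwd 40574, .bwd 41577],
   .loop none [.bwd 6622, .bwd 41577],
   .loop none [.bwd 9293, .fwd 41581, .bwd 37613],
   .loop none [.fwd 41854],
   .loop none [.bwd 35190, .bwd 41583],
   .loop none [.bwd 9493, .bwd 41583],
   .loop none [.bwd 35191, .bwd 41583],
   .loop none [.fwd 37999, .fwd 41585, .bwd 40106],
   .loop none [.bwd 41859],
   .loop none [.bwd 35175, .bwd 41588],
   .loop none [.bwd 35176, .bwd 41588],
   .loop none [.bwd 35177, .bwd 41588],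
   .loop none [.bwd 35178, .bwd 41588],
   .loop none [.fwd 41273, .fwd 41591, .fwd 10347],
   .loop none [.fwd 41865],
   .loop none [.fwd 11705, .bwd 41593],
   .loop none [.fwd 9892, .bwd 41593],
   .loop none [.bwd 11749, .bwd 41593],
   .loop none [.bwd 38848, .fwd 41596, .bwd 36288],
   .loop none [.fwd 41870],
   .loop none [.fwd 35631, .bwd 41599],
   .loop none [.fwd 40344, .bwd 41599],
   .loop none [.fwd 41642, .fwd 41126, .bwd 41605],
   .loop none [.fwd 11188, .fwd 41607, .bwd 16100],
   .loop none [.fwd 41875],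
   .loop none [.fwd 24108, .bwd 41607],
   .loop none [.bwd 5486, .fwd 41614, .bwd 16802],
   .loop none [.fwd 41878],
   .loop none [.fwd 41601, .bwd 41614],
   .loop none [.bwd 39150, .fwd 41617, .fwd 10693],
   .loop none [.bwd 41881],
   .loop none [.bwd 39501, .fwd 41621, .bwd 35890],
   .loop none [.fwd 41883],
   .loop none [.bwd 35181, .bwd 41621],
   .loop none [.fwd 41798, .bwd 10272, .bwd 41621],
   .loop none [.bwd 11723, .bwd 41628],
   .loop none [.bwd 35183, .bwd 41628],
   .loop none [.bwd 39796, .bwd 41633],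
   .loop none [.fwd 24928, .bwd 41633],
   .loop none [.fwd 36279, .bwd 41633],
   .loop none [.fwd 36666, .bwd 41633],
   .loop none [.bwd 20202, .bwd 41636],
   .loop none [.bwd 35765, .bwd 41636],
   .loop none [.fwd 41352, .bwd 41636],
   .loop none [.fwd 36330, .bwd 41636],
   .loop none [.fwd 24888, .bwd 41636],
   .loop none [.fwd 40907, .bwd 41636],
   .loop none [.fwd 18632, .bwd 41642],
   .loop none [.bwd 41125, .bwd 41642],
   .loop none [.fwd 40466, .bwd 41642],
   .loop none [.fwd 41141, .bwd 41642],
   .loop none [.bwd 40062, .bwd 41642],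
   .loop none [.bwd 36776, .fwd 41642, .bwd 18800],
   .loop none [.bwd 41904],
   .loop none [.fwd 41044, .bwd 41644],
   .loop none [.bwd 37231, .bwd 41644],
   .loop none [.fwd 10361, .fwd 41646, .fwd 35947],
   .loop none [.bwd 41908],
   .loop none [.bwd 35695, .bwd 41646],
   .loop none [.fwd 36165, .bwd 41646],
   .loop none [.bwd 24077, .bwd 41646],
   .loop none [.fwd 36259, .bwd 41646],
   .loop none [.fwd 35869, .bwd 41646],
   .loop none [.bwd 24079, .bwd 41646],
   .loop none [.fwd 34790, .bwd 41649],
   .loop none [.fwd 33946, .bwd 41649],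
   .loop none [.bwd 16064, .bwd 41653],
   .loop none [.bwd 35041, .bwd 41653],
   .loop none [.fwd 40783, .bwd 41653],
   .loop none [.fwd 41763, .bwd 19367, .bwd 41656],
   .loop none [.bwd 16060, .bwd 41656],
   .loop none [.fwd 40340, .bwd 41656],
   .loop none [.fwd 35149, .bwd 41656],
   .loop none [.fwd 34026, .bwd 41656],
   .loop none [.bwd 19370, .bwd 41656],
   .loop none [.fwd 5533, .fwd 41664, .fwd 37247],
   .loop none [.fwd 41927],
   .loop none [.bwd 16668, .bwd 41664],
   .loop none [.fwd 9286, .fwd 41664, .fwd 37246],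
   .loop none [.fwd 41930],
   .loop none [.bwd 41154, .bwd 41664],
   .loop none [.bwd 41182, .bwd 41664],
   .loop none [.bwd 40697, .bwd 41666],
   .loop none [.bwd 35648, .bwd 41666],
   .loop none [.bwd 40700, .bwd 41666],
   .loop none [.fwd 41385, .bwd 41666],
   .loop none [.fwd 40920, .bwd 41666],
   .loop none [.fwd 22864, .bwd 41670],
   .loop none [.fwd 40796, .bwd 41675],
   .loop none [.fwd 14171, .bwd 41675],
   .loop none [.fwd 39518, .bwd 41675],
   .loop none [.fwd 12344, .bwd 41675],
   .loop none [.bwd 12345, .bwd 41675],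
   .loop none [.bwd 41608, .bwd 41675],
   .loop none [.fwd 17971, .bwd 41681],
   .loop none [.bwd 40200, .fwd 41681, .bwd 35006],
   .loop none [.bwd 41947],
   .loop none [.bwd 9905, .bwd 41683],
   .loop none [.fwd 40445, .bwd 41683],
   .loop none [.fwd 41128, .bwd 41685],
   .loop none [.bwd 41363, .bwd 41685],
   .loop none [.bwd 34998, .bwd 41687],
   .loop none [.fwd 37401, .bwd 41689],
   .loop none [.fwd 41032, .bwd 41700],
   .loop none [.bwd 16504, .bwd 41705],
   .loop none [.bwd 36702, .bwd 41705],
   .loop none [.fwd 40563, .bwd 41705],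
   .loop none [.fwd 10704, .fwd 41708, .bwd 41702],
   .loop none [.fwd 41959],
   .loop none [.fwd 41710, .bwd 41713],
   .loop none [.fwd 41046, .bwd 41718],
   .loop none [.bwd 37399, .fwd 41725, .bwd 36626],
   .loop none [.bwd 41963],
   .loop none [.fwd 34994, .bwd 41730],
   .loop none [.fwd 9865, .bwd 41737],
   .loop none [.bwd 41155, .bwd 41737],
   .loop none [.fwd 11580, .bwd 41747],
   .loop none [.bwd 11533, .bwd 41747],
   .loop none [.bwd 41093, .bwd 41747],
   .loop none [.bwd 6818, .bwd 41747],
   .loop none [.fwd 8868, .bwd 41747],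
   .loop none [.fwd 36255, .bwd 41763],
   .loop none [.fwd 39396, .bwd 41763],
   .loop none [.fwd 16108, .bwd 41763],
   .loop none [.fwd 34025, .bwd 41763],
   .loop none [.fwd 40862, .bwd 41772],
   .loop none [.bwd 35042, .bwd 41772],
   .loop none [.fwd 36663, .fwd 41776, .fwd 37294],
   .loop none [.fwd 41979],
   .loop none [.bwd 40676, .bwd 41776],
   .loop none [.fwd 41828, .fwd 41618, .bwd 41776],
   .loop none [.fwd 41654, .bwd 41781],
   .loop none [.fwd 39665, .bwd 41781],
   .loop none [.fwd 35842, .bwd 41781],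
   .loop none [.fwd 39661, .bwd 41781],
   .loop none [.fwd 41477, .bwd 41781],
   .loop none [.bwd 19380, .bwd 41781],
   .loop none [.bwd 5921, .fwd 41794, .bwd 9884],
   .loop none [.fwd 41989],
   .loop none [.fwd 41511, .bwd 41794],
   .loop none [.fwd 11635, .bwd 41798],
   .loop none [.bwd 11617, .bwd 41798],
   .loop none [.fwd 5487, .fwd 41798, .bwd 41184],
   .loop none [.fwd 41994],
   .loop none [.bwd 40137, .bwd 41798],
   .loop none [.bwd 9473, .fwd 41798, .fwd 40138],
   .loop none [.fwd 41997],
   .loop none [.fwd 9441, .fwd 41798, .fwd 40962]]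

theorem just167_len : just167.length = 250 := by decide +kernel

theorem just167_ok : cert.okFacts 41750 just167 = true := by decide +kernel


end CfsgLib.ThCent.DX
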