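import Cfsg.Agent.Lib.PGroups.NoSCNThree.Basic

/-!
Extraspecial 2-groups from a symplectic basis.
-/

set_option autoImplicit false

namespace CfsgLib.ThCent

open scoped commutatorElement

/-- the partner of a basis element -/
def mate (i : Fin 8) : Fin 8 := ⟨if i.1 % 2 = 0 then i.1 + 1 else i.1 - 1, by split <;> omega⟩

theorem isExtraspecial_of_basis {X : Type*} [Group X] [Finite X] (a : X) (q : Fin 8 → X)
    (ha : a * a = 1) (ha1 : a ≠ 1) (hac : ∀ i, a * q i = q i * a)
    (hgen : Subgroup.closure (Set.range q) = ⊤) (hsq : ∀ i, q i * q i = 1 ∨ q i * q i = a)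
    (hcm : ∀ i j, q i * q j = q j * q i * (if j = mate i then a else 1))
    (hcard : Nat.card X ≤ 2 ^ 9) : Cfsg.IsExtraspecial 2 X ∧ Nat.card X = 2 ^ 9 := by
  have hainv : a⁻¹ = a := inv_eq_of_mul_eq_one_left ha
  have hacen : ∀ x : X, a * x = x * a := by
    intro x
    have hx : x ∈ Subgroup.closure (Set.range q) := by rw [hgen]; trivial
    induction hx using Subgroup.closure_induction with
    | mem x hx => obtain ⟨i, rfl⟩ := hx; exact hac i
    | one => simp
    | mul x y _ _ hx hy => rw [← mul_assoc, hx, mul_assoc, hy, mul_assoc]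
    | inv x _ hx => exact (Commute.inv_right (show Commute a x from hx)).eq
  let Z : Subgroup X := Subgroup.zpowers a
  have hZle : Z ≤ Subgroup.center X := Subgroup.zpowers_le.2 (Subgroup.mem_center_iff.2 fun x => (hacen x).symm)
  have haZ : a ∈ Z := Subgroup.mem_zpowers a
  haveI : Z.Normal := CfsgLib.PGroups.normal_of_le_center hZle
  let f : X → Fin 8 → X := fun x i => q i * x * (q i)⁻¹ * x⁻¹
  have hval : ∀ x i, f x i ∈ Z := by
    intro x i
    have hx : x ∈ Subgroup.closure (Set.range q) := by rw [hgen]; trivial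
    induction hx using Subgroup.closure_induction with
    | mem x hx =>
      obtain ⟨j, rfl⟩ := hx
      show q i * q j * (q i)⁻¹ * (q j)⁻¹ ∈ Z
      rw [hcm i j]
      by_cases h : j = mate i
      · rw [if_pos h, show q j * q i * a * (q i)⁻¹ * (q j)⁻¹ = q j * (q i * a * (q i)⁻¹) * (q j)⁻¹ by group,
          ← hac i, mul_inv_cancel_right, ← hac j, mul_inv_cancel_right]
        exact haZ
      · rw [if_neg h, mul_one, mul_inv_cancel_right, mul_inv_cancel]
        exact one_mem Z
    | one => simp [f]
    | mul x y _ _ hx hy =>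
      have hc := Subgroup.mem_center_iff.1 (hZle hy) x
      have : f (x * y) i = f x i * f y i := by
        simp only [f] at hc ⊢
        rw [show q i * (x * y) * (q i)⁻¹ * (x * y)⁻¹ =
          (q i * x * (q i)⁻¹) * (q i * y * (q i)⁻¹ * y⁻¹) * x⁻¹ by group, mul_assoc (q i * x * (q i)⁻¹),
          ← Subgroup.mem_center_iff.1 (hZle hy) x⁻¹]
        simp only [f]
        group
      show f (x * y) i ∈ Z
      rw [this]; exact mul_mem hx hy
    | inv x _ hx =>
      have hc := Subgroup.mem_center_iff.1 (hZle hx) x⁻¹
      have : f x⁻¹ i = (f x i)⁻¹ := by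
        have h2 : f x⁻¹ i = x⁻¹ * (f x i)⁻¹ * x := by simp only [f]; group
        rw [h2, mul_assoc, ← Subgroup.mem_center_iff.1 (hZle (inv_mem hx)) x, ← mul_assoc, inv_mul_cancel, one_mul]
      show f x⁻¹ i ∈ Z
      rw [this]; exact inv_mem hx
  let γ : X →* (Fin 8 → X) := MonoidHom.mk' f fun x y => funext fun i => by
    simp only [f, Pi.mul_apply]
    rw [show q i * (x * y) * (q i)⁻¹ * (x * y)⁻¹ =
      (q i * x * (q i)⁻¹) * (q i * y * (q i)⁻¹ * y⁻¹) * x⁻¹ by group, mul_assoc (q i * x * (q i)⁻¹),
      ← Subgroup.mem_center_iff.1 (hZle (hval y i)) x⁻¹]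
    simp only [f]
    group
  have hker : γ.ker = Subgroup.center X := by
    ext x
    rw [MonoidHom.mem_ker, Subgroup.mem_center_iff]
    constructor
    · intro h g
      have hg : g ∈ Subgroup.closure (Set.range q) := by rw [hgen]; trivial
      induction hg using Subgroup.closure_induction with
      | mem g hg =>
        obtain ⟨i, rfl⟩ := hg
        have := congrFun h i
        simp only [γ, f, MonoidHom.mk'_apply, Pi.one_apply] at this
        exact mul_inv_eq_iff_eq_mul.1 (by rw [mul_inv_eq_one] at this; exact this)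
      | one => simp
      | mul g g' _ _ hg hg' => rw [mul_assoc, hg', ← mul_assoc, hg, mul_assoc]
      | inv g _ hg => exact (Commute.inv_left (show Commute g x from hg)).eq
    · intro h
      funext i
      simp [γ, f, h (q i)]
  have hsingle : ∀ j, (Pi.mulSingle j a : Fin 8 → X) ∈ γ.range := by
    intro j
    refine ⟨q (mate j), funext fun i => ?_⟩
    show q i * q (mate j) * (q i)⁻¹ * (q (mate j))⁻¹ = _
    rw [hcm i (mate j)]
    have hm : mate j = mate i ↔ i = j := by revert i j; decide
    by_cases h : i = j
    · subst h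
      rw [if_pos rfl, Pi.mulSingle_eq_same,
        show q (mate i) * q i * a * (q i)⁻¹ * (q (mate i))⁻¹ =
          q (mate i) * (q i * a * (q i)⁻¹) * (q (mate i))⁻¹ by group,
        ← hac i, mul_inv_cancel_right, ← hac (mate i), mul_inv_cancel_right]
    · rw [if_neg (fun e => h (hm.1 e)), Pi.mulSingle_eq_of_ne h, mul_one, mul_inv_cancel_right,
        mul_inv_cancel]
  have hind : ∀ s : Finset (Fin 8), (fun i => if i ∈ s then a else 1) ∈ γ.range := by
    intro s
    induction s using Finset.induction with
    | empty => exact ⟨1, by rw [map_one]; funext i; simp⟩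
    | insert j s hj ih =>
      convert mul_mem (hsingle j) ih using 1
      funext i
      by_cases h : i = j
      · subst h; simp [hj]
      · simp [h]
  have hrange : 2 ^ 8 ≤ Nat.card γ.range := by
    have hinj : Function.Injective (fun s : Finset (Fin 8) => (⟨_, hind s⟩ : γ.range)) := by
      intro s t h
      ext i
      have := congrFun (congrArg Subtype.val h) i
      simp only at this
      by_cases h1 : i ∈ s <;> by_cases h2 : i ∈ t
      · exact iff_of_true h1 h2
      · rw [if_pos h1, if_neg h2] at this; exact absurd this ha1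
      · rw [if_neg h1, if_pos h2] at this; exact absurd this.symm ha1
      · exact iff_of_false h1 h2
    simpa using Nat.card_le_card_of_injective _ hinj
  have hprod : Nat.card γ.range * Nat.card (Subgroup.center X) = Nat.card X := by
    rw [← hker, ← Subgroup.card_eq_card_quotient_mul_card_subgroup γ.ker |>.symm.trans rfl,
      Nat.card_congr (QuotientGroup.quotientKerEquivRange γ).toEquiv]
  have hcardZ : Nat.card Z = 2 := by
    rw [Nat.card_zpowers]
    exact orderOf_eq_prime (by rw [sq, ha]) ha1
  have h2 : 2 ≤ Nat.card (Subgroup.center X) := hcardZ ▸ Subgroup.card_le_of_le hZle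
  have hc2 : Nat.card (Subgroup.center X) = 2 := by
    have : 2 ^ 8 * Nat.card (Subgroup.center X) ≤ 2 ^ 9 :=
      (Nat.mul_le_mul_right _ hrange).trans (hprod.le.trans hcard)
    omega
  have hX : Nat.card X = 2 ^ 9 := by
    refine le_antisymm hcard ?_
    rw [← hprod, hc2]
    exact (by norm_num : 2 ^ 9 = 2 ^ 8 * 2).le.trans (Nat.mul_le_mul_right _ hrange)
  have hZ : Subgroup.center X = Z :=
    (Subgroup.eq_of_le_of_card_ge hZle (by rw [hc2, hcardZ])).symm
  have hP : IsPGroup 2 X := IsPGroup.of_card hX
  have : Fact (Nat.Prime 2) := ⟨Nat.prime_two⟩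
  have hab : ∀ x y : X ⧸ Z, x * y = y * x := by
    intro x y
    induction x using QuotientGroup.induction_on with
    | _ x =>
      induction y using QuotientGroup.induction_on with
      | _ y =>
        have hy : y ∈ Subgroup.closure (Set.range q) := by rw [hgen]; trivial
        induction hy using Subgroup.closure_induction with
        | mem y hy =>
          obtain ⟨i, rfl⟩ := hy
          have := hval x i
          rw [← QuotientGroup.eq_one_iff] at this
          simp only [f, QuotientGroup.mk_mul, QuotientGroup.mk_inv] at this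
          exact (mul_inv_eq_iff_eq_mul.1 (by rw [mul_inv_eq_one] at this; exact this)).symm
        | one => simp
        | mul y y' _ _ h h' => rw [QuotientGroup.mk_mul, ← mul_assoc, h, mul_assoc, h', mul_assoc]
        | inv y _ h => exact (Commute.inv_right (show Commute (x : X ⧸ Z) y from h)).eq
  have hsqZ : ∀ x : X, x ^ 2 ∈ Z := by
    intro x
    have hx : x ∈ Subgroup.closure (Set.range q) := by rw [hgen]; trivial
    rw [← QuotientGroup.eq_one_iff, QuotientGroup.mk_pow]
    induction hx using Subgroup.closure_induction with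
    | mem x hx =>
      obtain ⟨i, rfl⟩ := hx
      rw [← QuotientGroup.mk_pow, QuotientGroup.eq_one_iff, sq]
      rcases hsq i with h | h <;> rw [h]
      · exact one_mem Z
      · exact haZ
    | one => simp
    | mul x y _ _ hx hy => rw [QuotientGroup.mk_mul, Commute.mul_pow (hab _ _), hx, hy, one_mul]
    | inv x _ hx => rw [QuotientGroup.mk_inv, inv_pow, hx, inv_one]
  have hcom : commutator X ≤ Z := CfsgLib.PGroups.NoSCNThree.commutator_le_of_squares hsqZ
  have hcom' : Z ≤ commutator X := by
    refine Subgroup.zpowers_le.2 ?_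
    have e := hcm 0 1
    rw [if_pos (by decide)] at e
    have : a = ⁅(q 0)⁻¹, (q 1)⁻¹⁆ := by
      rw [commutatorElement_def, inv_inv, inv_inv,
        show (q 0)⁻¹ * (q 1)⁻¹ * q 0 * q 1 = (q 0)⁻¹ * (q 1)⁻¹ * (q 0 * q 1) by group, e]
      group
    rw [this, commutator_def]
    exact Subgroup.commutator_mem_commutator (Subgroup.mem_top _) (Subgroup.mem_top _)
  refine ⟨⟨⟨hP, ?_, ?_⟩, hc2⟩, hX⟩
  · rw [hZ]
    refine le_antisymm (CfsgLib.PGroups.NoSCNThree.frattini_le_of_squares hP hsqZ) (hcom'.trans ?_)
    exact CfsgLib.PGroups.commutator_le_frattini hP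
  · rw [hZ]
    exact le_antisymm hcom hcom'

end CfsgLib.ThCent
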