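import Cfsg.Agent.Lib.ThCent.HSide

/-!
The group generated by all generators but `b` has order at most 92897280.
-/

set_option autoImplicit false
set_option maxRecDepth 100000

namespace CfsgLib.ThCent

open Cfsg.Spor CfsgLib.PresCert

theorem hStab_finite_card (h : Nontrivial Th) : Finite hStab ∧ Nat.card hStab ≤ 774144 := by
  have := dSub_bound.1
  let φ : hStab → kD := fun x => ⟨⟨((x : hSub) : Th), x.2⟩, cent_dSub h _
    (Subgroup.mem_centralizer_iff.1 (hSub_le (x : hSub).2) _ rfl)⟩
  have hφ : Function.Injective φ := fun x y e => by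
    have e' := congrArg (fun z : kD => ((z : dSub) : Th)) e
    exact Subtype.ext (Subtype.ext e')
  exact ⟨Finite.of_injective φ hφ, (Nat.card_le_card_of_injective φ hφ).trans (card_kD h).le⟩

/-- the group generated by all generators but `b` is finite, of order at most 92897280 -/
theorem hSub_bound (h : Nontrivial Th) : Finite hSub ∧ Nat.card hSub ≤ 92897280 := by
  obtain ⟨hi, hfi⟩ := Cert.index_le hModel HK.valid
  obtain ⟨hf, hc⟩ := hStab_finite_card h
  have hfi' : hStab.FiniteIndex := hfi
  have hi' : hStab.index ≤ 120 := hi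
  refine ⟨Finite.of_equiv _ (Subgroup.groupEquivQuotientProdSubgroup (s := hStab)).symm, ?_⟩
  rw [← hStab.index_mul_card]
  exact (Nat.mul_le_mul hi' hc).trans (by norm_num)

end CfsgLib.ThCent
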