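import Cfsg.Agent.Lib.ThCent.HRep

/-!
The extraspecial subgroup of the involution centraliser seen on 144 points.
-/

set_option autoImplicit false
set_option maxRecDepth 100000

namespace CfsgLib.ThCent

open Cfsg.Spor CfsgLib.PresCert Equiv

/-- the word of a product of basis elements -/
noncomputable def vecWord (m : Nat) : List Nat :=
  ((List.range 8).map fun i => if Nat.testBit m i then (qWords.getD i []).map toH else []).flatten

/-- the product of basis elements -/
noncomputable def vecElt (m : Nat) : hSub := actVal hModel (vecWord m)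

/-- a word moves some point -/
noncomputable def movesI (w : List Nat) : Bool :=
  !(allBelow 144 fun c => Nat.beq (appI w c) c)

/-- two words commute on 144 points -/
noncomputable def commI (v w : List Nat) : Bool :=
  allBelow 144 fun c => Nat.beq (appI v (appI w c)) (appI w (appI v c))

/-- a word fixes no nontrivial element of the module -/
noncomputable def okFpf (w : List Nat) : Bool :=
  (w.all fun x => Nat.blt x 10) && allBelow 256 fun m => Nat.beq m 0 || !(commI w (vecWord m))

theorem vecWord_lt : (allBelow 256 fun m => (vecWord m).all fun x => Nat.blt x 10) = true := by decide +kernel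

theorem okMoves_vec : (allBelow 256 fun m => Nat.beq m 0 || movesI (vecWord m)) = true := by decide +kernel

/-- the images of two points -/
noncomputable def sigI (w : List Nat) : Nat := appI w 88 * 256 + appI w 100

theorem okVec_nodup : ((List.range 256).map fun m => sigI (vecWord m)).Nodup := by decide +kernel

theorem valI_one {w : List Nat} (hw : ∀ x ∈ w, x < 10) (h : valI w = 1) : movesI w = false := by
  simp only [movesI, Bool.not_eq_false']
  refine allBelow_intro (by norm_num) fun c hc => ?_
  rw [← valI_apply w hw ⟨c, hc⟩, h]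
  simp

theorem vec_lt {m : Nat} (hm : m < 256) : ∀ x ∈ vecWord m, x < 10 := by
  have := allBelow_spec vecWord_lt m hm
  simp only [List.all_eq_true, Nat.blt_eq] at this
  exact this

theorem actVal_append_h : ∀ (u v : List Nat), actVal hModel (u ++ v) = actVal hModel v * actVal hModel u := by
  intro u v
  simp [actVal]

/-- the word of a basis element in the numbering of the centraliser -/
noncomputable def qHWord (i : Fin 8) : List Nat := (qWord i).map toH

theorem qHWord_lt (i : Fin 8) : ∀ x ∈ qHWord i, x < 10 := by
  intro x hx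
  obtain ⟨y, hy, rfl⟩ := List.mem_map.1 hx
  exact (letters_agree y (okQ_parts.2.1 _ (qWord_mem i) y hy).1 (okQ_parts.2.1 _ (qWord_mem i) y hy).2).1

theorem repI_qElt (F : ThFacts) (i : Fin 8) : repI F (qElt i) = valI (qHWord i) :=
  repI_actVal F _ (qHWord_lt i)

theorem okQI : (allBelow 8 fun i => allBelow 8 fun j => commI ((qWords.getD i []).map toH) ((qWords.getD j []).map toH)) &&
    (allBelow 8 fun i => !(movesI ((qWords.getD i []).map toH ++ (qWords.getD i []).map toH))) &&
    !(movesI [0]) = true := by decide +kernel

theorem valI_append (u v : List Nat) : valI (u ++ v) = valI v * valI u := by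
  simp [valI]

theorem valI_eq_one {w : List Nat} (hw : ∀ x ∈ w, x < 10) (h : movesI w = false) : valI w = 1 := by
  simp only [movesI, Bool.not_eq_false'] at h
  refine Equiv.ext fun c => Fin.ext ?_
  rw [valI_apply w hw]
  exact Nat.eq_of_beq_eq_true (allBelow_spec h c c.2)

theorem commI_iff {v w : List Nat} (hv : ∀ x ∈ v, x < 10) (hw : ∀ x ∈ w, x < 10) :
    commI v w = true ↔ Commute (valI v) (valI w) := by
  constructor
  · intro h
    refine Equiv.ext fun c => Fin.ext ?_
    rw [Perm.mul_apply, Perm.mul_apply, valI_apply v hv, valI_apply w hw, valI_apply w hw, valI_apply v hv]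
    exact Nat.eq_of_beq_eq_true (allBelow_spec h c c.2)
  · intro h
    refine allBelow_intro (by norm_num) fun c hc => ?_
    have := congrArg (fun σ : Perm (Fin 144) => ((σ ⟨c, hc⟩ : Fin 144) : Nat)) h.eq
    simp only [Perm.mul_apply, valI_apply v hv, valI_apply w hw] at this
    rw [this]
    simp

theorem repI_aH (F : ThFacts) : repI F aH = 1 := by
  have h := okQI
  simp only [Bool.and_eq_true, Bool.not_eq_true'] at h
  have e : aH = actVal hModel [0] := Subtype.ext (by
    simp [coe_aH, actVal, hModel, model, letVal, sval, hkLets, coe_fH])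
  rw [e, repI_actVal F [0] (by simp)]
  exact valI_eq_one (by simp) h.2

theorem qI_comm (F : ThFacts) (i j : Fin 8) : Commute (repI F (qElt i)) (repI F (qElt j)) := by
  have h := okQI
  simp only [Bool.and_eq_true] at h
  rw [repI_qElt, repI_qElt]
  exact (commI_iff (qHWord_lt i) (qHWord_lt j)).1 (allBelow_spec (allBelow_spec h.1.1 i i.2) j j.2)

theorem qI_sq (F : ThFacts) (i : Fin 8) : repI F (qElt i) * repI F (qElt i) = 1 := by
  have h := okQI
  simp only [Bool.and_eq_true, Bool.not_eq_true'] at h
  rw [repI_qElt, ← valI_append]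
  refine valI_eq_one ?_ ?_
  · intro x hx
    rcases List.mem_append.1 hx with hx | hx <;> exact qHWord_lt i x hx
  · have := allBelow_spec h.1.2 i i.2
    simpa [qHWord, qWord] using this

/-- the image of the extraspecial subgroup on 144 points is given by the vectors -/
theorem repI_ker_mem (F : ThFacts) {q : hSub} (hq : q ∈ (repH F).ker) :
    ∃ m < 256, repI F q = valI (vecWord m) := by
  let f : Fin 8 → Perm (Fin 144) := fun i => repI F (qElt i)
  have key : ∀ (l : List (Fin 8)) (m n : Fin 8 → ℕ),
      (l.map fun i => f i ^ m i).prod * (l.map fun i => f i ^ n i).prod =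
        (l.map fun i => f i ^ (m i + n i)).prod := by
    intro l m n
    induction l with
    | nil => simp
    | cons i l ih =>
      have hc : Commute (l.map fun j => f j ^ m j).prod (f i ^ n i) := by
        refine Commute.list_prod_left _ _ fun y hy => ?_
        obtain ⟨j, -, rfl⟩ := List.mem_map.1 hy
        exact (qI_comm F j i).pow_pow _ _
      simp only [List.map_cons, List.prod_cons]
      rw [← ih, pow_add, mul_assoc, ← mul_assoc _ (f i ^ n i), hc.eq, mul_assoc, mul_assoc]
  let P : (Fin 8 → ℕ) → Perm (Fin 144) := fun m => ((List.finRange 8).reverse.map fun i => f i ^ m i).prod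
  have hmem : ∃ m, repI F q = P m := by
    have hq' : q ∈ Subgroup.closure (Set.range qElt) := by rw [(closure_qElt F).2]; exact hq
    induction hq' using Subgroup.closure_induction with
    | mem x hx =>
      obtain ⟨i, rfl⟩ := hx
      refine ⟨Pi.single i 1, ?_⟩
      have hne : ∀ (l : List (Fin 8)), l.Nodup →
          (l.map fun j => f j ^ (Pi.single i 1 : Fin 8 → ℕ) j).prod = if i ∈ l then f i else 1 := by
        intro l hl
        induction l with
        | nil => simp
        | cons j l ih =>
          rw [List.nodup_cons] at hl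
          rw [List.map_cons, List.prod_cons, ih hl.2]
          by_cases h : i = j
          · subst h; simp [hl.1]
          · simp [h, Ne.symm h, List.mem_cons]
      show f i = _
      rw [show P _ = _ from hne _ (List.nodup_reverse.2 (List.nodup_finRange 8))]
      simp
    | one => exact ⟨0, by simp [P]⟩
    | mul x y hx hy ihx ihy =>
      obtain ⟨m, hm⟩ := ihx (by rw [← (closure_qElt F).2]; exact hx)
      obtain ⟨n, hn⟩ := ihy (by rw [← (closure_qElt F).2]; exact hy)
      exact ⟨m + n, by rw [map_mul, hm, hn]; exact key _ _ _⟩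
    | inv x hx ih =>
      obtain ⟨m, hm⟩ := ih (by rw [← (closure_qElt F).2]; exact hx)
      refine ⟨m, ?_⟩
      rw [map_inv, hm, inv_eq_iff_mul_eq_one, show P m * P m = _ from key _ _ _]
      refine List.prod_eq_one fun y hy => ?_
      obtain ⟨i, -, rfl⟩ := List.mem_map.1 hy
      rw [← two_mul, pow_mul, sq, show f i * f i = 1 from qI_sq F i, one_pow]
  obtain ⟨m, hm⟩ := hmem
  let k : Nat := Nat.ofBits fun i : Fin 8 => decide (m i % 2 = 1)
  have hk : k < 256 := Nat.ofBits_lt_two_pow _
  refine ⟨k, hk, ?_⟩
  have hred : P m = P fun i => if Nat.testBit k i then 1 else 0 := by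
    refine congrArg List.prod (List.map_congr_left fun i _ => ?_)
    have hi : Nat.testBit k i = decide (m i % 2 = 1) := Nat.testBit_ofBits_lt _ _ i.2
    simp only [hi]
    obtain ⟨r, hr⟩ : ∃ r, m i = m i % 2 + 2 * r := ⟨m i / 2, (Nat.mod_add_div _ _).symm⟩
    rw [hr, pow_add, pow_mul, sq, show f i * f i = 1 from qI_sq F i, one_pow, mul_one]
    rcases Nat.mod_two_eq_zero_or_one (m i) with h | h <;> simp [h]
  have hflat : ∀ (l : List (List Nat)), valI l.flatten = (l.reverse.map valI).prod := by
    intro l
    induction l with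
    | nil => simp [valI]
    | cons u l ih => rw [List.flatten_cons, valI_append, ih]; simp
  rw [hm, hred, vecWord, hflat, ← List.map_reverse, List.map_map,
    show List.range 8 = (List.finRange 8).map Fin.val from (List.map_coe_finRange_eq_range).symm,
    ← List.map_reverse, List.map_map]
  refine congrArg List.prod (List.map_congr_left fun i _ => ?_)
  simp only [Function.comp_apply]
  by_cases h : Nat.testBit k i
  · rw [if_pos h, if_pos h, pow_one]; exact repI_qElt F i
  · rw [if_neg h, if_neg h, pow_zero]; simp [valI]

theorem range_repH_not_solvable (F : ThFacts) (h : ∀ x y : hSub, repI F x * repI F y = repI F y * repI F x) :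
    False := by
  have e := (commI_iff (v := [2]) (w := [3]) (by simp) (by simp)).2 (by
    rw [← repI_actVal F [2] (by simp), ← repI_actVal F [3] (by simp)]
    exact h _ _)
  revert e
  decide +kernel

/-- a normal subgroup of the centraliser is inside the extraspecial subgroup or covers the quotient -/
theorem normal_cases (F : ThFacts) (N : Subgroup hSub) (hN : N.Normal) :
    N ≤ (repH F).ker ∨ ∀ h : hSub, ∃ n ∈ N, n⁻¹ * h ∈ (repH F).ker := by
  have : IsSimpleGroup (alternatingGroup (Fin 9)) := alternatingGroup.isSimpleGroup (by simp)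
  have hs : IsSimpleGroup (hSub ⧸ (repH F).ker) := (quotEquiv F).isSimpleGroup
  have hn : (N.map (QuotientGroup.mk' (repH F).ker)).Normal := hN.map _ (QuotientGroup.mk'_surjective _)
  rcases hs.eq_bot_or_eq_top_of_normal _ hn with h | h
  · left
    rw [Subgroup.map_eq_bot_iff, QuotientGroup.ker_mk'] at h
    exact h
  · right
    intro x
    obtain ⟨n, hn, e⟩ : QuotientGroup.mk' (repH F).ker x ∈ N.map (QuotientGroup.mk' (repH F).ker) := by
      rw [h]; trivial
    exact ⟨n, hn, QuotientGroup.eq.1 e⟩

theorem repI_ker_comm (F : ThFacts) {p q : hSub} (hp : p ∈ (repH F).ker) (hq : q ∈ (repH F).ker) :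
    Commute (repI F p) (repI F q) := by
  rw [← (closure_qElt F).2] at hp hq
  induction hp using Subgroup.closure_induction with
  | mem x hx =>
    obtain ⟨i, rfl⟩ := hx
    induction hq using Subgroup.closure_induction with
    | mem y hy => obtain ⟨j, rfl⟩ := hy; exact qI_comm F i j
    | one => simp
    | mul y z _ _ hy hz => rw [map_mul]; exact hy.mul_right hz
    | inv y _ hy => rw [map_inv]; exact hy.inv_right
  | one => simp
  | mul x z _ _ hx hz => rw [map_mul]; exact hx.mul_left hz
  | inv x _ hx => rw [map_inv]; exact hx.inv_left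

theorem repI_ker_le (F : ThFacts) : (repI F).ker ≤ (repH F).ker := by
  refine (normal_cases F _ (repI F).normal_ker).resolve_right fun h => range_repH_not_solvable F fun x y => ?_
  obtain ⟨n, hn, hx⟩ := h x
  obtain ⟨m, hm, hy⟩ := h y
  have e := (repI_ker_comm F hx hy).eq
  simp only [map_mul, map_inv, MonoidHom.mem_ker.1 hn, MonoidHom.mem_ker.1 hm, inv_one, one_mul] at e
  exact e

theorem vecElt_mem (F : ThFacts) (m : Nat) : vecElt m ∈ (repH F).ker := by
  have key : ∀ l : List (List Nat), (∀ u ∈ l, actVal hModel u ∈ (repH F).ker) →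
      actVal hModel l.flatten ∈ (repH F).ker := by
    intro l hl
    induction l with
    | nil => simp [actVal]
    | cons u l ih =>
      rw [List.flatten_cons, actVal_append_h]
      exact mul_mem (ih fun v hv => hl v (List.mem_cons_of_mem _ hv)) (hl u (List.mem_cons_self ..))
  refine key _ fun u hu => ?_
  obtain ⟨i, hi, rfl⟩ := List.mem_map.1 hu
  split
  · exact qElt_mem_ker F ⟨i, List.mem_range.1 hi⟩
  · simp [actVal]

theorem repI_eq_one_iff (F : ThFacts) {x : hSub} : repI F x = 1 ↔ x = 1 ∨ x = aH := by
  refine ⟨fun h => ?_, fun h => h.elim (fun e => by rw [e, map_one]) (fun e => by rw [e, repI_aH])⟩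
  have := F.finite
  let r : (repH F).ker →* Perm (Fin 144) := (repI F).comp (repH F).ker.subtype
  have hinj : Function.Injective (fun m : Fin 256 => valI (vecWord m)) := by
    intro m n e
    have h1 := congrArg (fun σ : Perm (Fin 144) => ((σ 88 : Fin 144) : Nat)) e
    have h2 := congrArg (fun σ : Perm (Fin 144) => ((σ 100 : Fin 144) : Nat)) e
    simp only [valI_apply _ (vec_lt m.2), valI_apply _ (vec_lt n.2)] at h1 h2
    refine Fin.ext (List.inj_on_of_nodup_map okVec_nodup (List.mem_range.2 m.2) (List.mem_range.2 n.2) ?_)
    simp only [sigI]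
    exact congrArg₂ (fun u v => u * 256 + v) h1 h2
  have hr : 256 ≤ Nat.card r.range := by
    have hm : ∀ m : Fin 256, valI (vecWord m) ∈ r.range := by
      intro m
      exact ⟨⟨vecElt m, vecElt_mem F m⟩, repI_actVal F _ (vec_lt m.2)⟩
    have := Nat.card_le_card_of_injective (fun m : Fin 256 => (⟨_, hm m⟩ : r.range))
      fun m n e => hinj (congrArg Subtype.val e)
    simpa using this
  have hk : Nat.card r.ker ≤ 2 := by
    have e := Subgroup.card_eq_card_quotient_mul_card_subgroup r.ker
    rw [Nat.card_congr (QuotientGroup.quotientKerEquivRange r).toEquiv, card_ker_repH F] at e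
    by_contra hlt
    have : 256 * 3 ≤ 2 ^ 9 := e ▸ Nat.mul_le_mul hr (by omega)
    omega
  have hx : x ∈ (repH F).ker := repI_ker_le F (MonoidHom.mem_ker.2 h)
  have ha : aH ∈ (repH F).ker := repI_ker_le F (MonoidHom.mem_ker.2 (repI_aH F))
  by_contra hne
  rw [not_or] at hne
  have hone : aH ≠ 1 := fun e => th_a_ne_one F (by rw [← coe_aH, e]; rfl)
  have h3 : ({⟨1, one_mem _⟩, ⟨aH, ha⟩, ⟨x, hx⟩} : Set (repH F).ker).ncard = 3 := by
    rw [Set.ncard_insert_of_notMem, Set.ncard_pair]
    · exact fun e => hne.2 (congrArg Subtype.val e).symm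
    · simp [Ne.symm hone, Ne.symm hne.1]
  have h4 : ({⟨1, one_mem _⟩, ⟨aH, ha⟩, ⟨x, hx⟩} : Set (repH F).ker).ncard ≤ Nat.card r.ker := by
    refine (Set.ncard_le_ncard (t := (r.ker : Set (repH F).ker)) ?_ (Set.toFinite _)).trans
      (Nat.card_coe_set_eq _).ge
    rintro q (rfl | rfl | rfl) <;> simp [r, MonoidHom.mem_ker, repI_aH, h]
  omega

end CfsgLib.ThCent
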