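import Cfsg.Agent.Lib.ThCent.Cent
import Cfsg.Agent.Lib.ThCent.OutData

/-!
The involution centraliser of the presented Thompson group acts on 144 points.
-/

set_option autoImplicit false
set_option maxRecDepth 100000

namespace CfsgLib.ThCent

open Cfsg.Spor CfsgLib.PresCert Equiv

/-- image of a point under a letter -/
noncomputable def stepI (x c : Nat) : Nat :=
  Nat.land (Nat.shiftRight (permTabs.getD x 0) (8 * c)) 255

/-- image of a point under a word, the first letter acting first -/
noncomputable def appI (w : List Nat) (c : Nat) : Nat :=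
  List.rec (motive := fun _ => Nat → Nat) (fun c => c) (fun x _ ih c => ih (stepI x c)) w c

theorem okI : (allBelow 10 fun x => Nat.blt (hCert.iv x) 10 && allBelow 144 fun c =>
    Nat.blt (stepI x c) 144 && Nat.beq (stepI (hCert.iv x) (stepI x c)) c &&
      Nat.beq (stepI x (stepI (hCert.iv x) c)) c) = true := by decide +kernel

theorem stepI_spec {x : Nat} (hx : x < 10) (c : Fin 144) : hCert.iv x < 10 ∧ stepI x c < 144 ∧
    stepI (hCert.iv x) (stepI x c) = c ∧ stepI x (stepI (hCert.iv x) c) = c := by
  have := allBelow_spec okI x hx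
  simp only [Bool.and_eq_true, Nat.blt_eq] at this
  have h2 := allBelow_spec this.2 c c.2
  simp only [Bool.and_eq_true, Nat.blt_eq, Nat.beq_eq] at h2
  exact ⟨this.1, h2.1.1, h2.1.2, h2.2⟩

/-- the permutation of a letter -/
noncomputable def permI (x : Nat) : Perm (Fin 144) :=
  if h : x < 10 then
    { toFun := fun c => ⟨stepI x c, (stepI_spec h c).2.1⟩
      invFun := fun c => ⟨stepI (hCert.iv x) c, (stepI_spec (stepI_spec h c).1 c).2.1⟩
      left_inv := fun c => Fin.ext (stepI_spec h c).2.2.1
      right_inv := fun c => Fin.ext (stepI_spec h c).2.2.2 }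
  else 1

theorem coe_permI {x : Nat} (hx : x < 10) (c : Fin 144) : ((permI x c : Fin 144) : Nat) = stepI x c := by
  rw [permI, dif_pos hx]
  rfl

/-- the generators on 144 points -/
noncomputable def genI (g : Th.Gen) : Perm (Fin 144) := permI (letIdx hkLets (g, true))

theorem genI_words : ((klWords ++ lsWords ++ soWords ++ hkWords).all fun kw =>
    decide (∀ i : Fin 144, wordVal genI kw.2 i = i)) = true := by decide +kernel

theorem genI_invol : ([Th.Gen.a, .b, .c, .d, .e].all fun g =>
    decide (∀ i : Fin 144, genI g (genI g i) = i)) = true := by decide +kernel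

theorem genI_lets : (allBelow 10 fun x => decide (∀ i : Fin 144, letVal genI hkLets x i = permI x i)) = true := by
  decide +kernel

/-- the elements of a group satisfying the relations without `b` -/
structure HRel {Q : Type*} [Group Q] (f : Th.Gen → Q) : Prop where
  invol : ∀ g, CfsgLib.ThCent.invol g = true → f g * f g = 1
  rels : ∀ kw ∈ klWords ++ lsWords ++ soWords ++ hkWords, wordVal f kw.2 = 1

theorem smallWords_no_b : ((klWords ++ lsWords ++ soWords).all fun kw => kw.2.all fun p =>
    decide (p.1 ≠ .b ∧ p.1 ≠ .u)) = true := by decide +kernel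

theorem subs_hk_small : (hCert.subs.all fun r => r.all fun x => decide (x < 10) &&
    decide ((hkLets.getD x (.a, true)).1 ≠ .u ∧ (hkLets.getD x (.a, true)).1 ≠ .b)) = true := by decide +kernel

theorem kSet_lets : ∀ g : Th.Gen, g ≠ .b → g ≠ .u → (g, true) ∈ hkLets := by
  intro g h1 h2
  cases g <;> first | decide | exact absurd rfl h1 | exact absurd rfl h2

theorem hGroup_bound {Q : Type*} [Group Q] {f : Th.Gen → Q} (h : HRel f) :
    Finite (lettGrp f hkLets) ∧ Nat.card (lettGrp f hkLets) ≤ 120 * 1548288 := by
  let φ : GrpK →* Q := PresentedGroup.toGroup (f := fun g => if g = .b ∨ g = .u then 1 else f g) (by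
    rintro r (⟨kw, hkw, rfl⟩ | rfl | rfl | ⟨g, hg, rfl⟩)
    · rw [lift_mk]
      have hs := List.all_eq_true.1 smallWords_no_b kw hkw
      simp only [decide_eq_true_eq, List.all_eq_true] at hs
      rw [← h.rels kw (List.mem_append_left _ hkw)]
      exact map_wordVal (MonoidHom.id Q) _ f _ fun p hp => by simp [(hs p hp).1, (hs p hp).2]
    · simp
    · simp
    · rw [map_mul, FreeGroup.lift_apply_of]
      by_cases hb : g = .b ∨ g = .u
      · simp [hb]
      · simp only [if_neg hb]; exact h.invol g hg)
  obtain ⟨kf, kc⟩ := card_grpK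
  set T := φ.range with hT
  have hsurj : Function.Surjective φ.rangeRestrict := φ.rangeRestrict_surjective
  have hTf : Finite T := Finite.of_surjective _ hsurj
  have hTc : Nat.card T ≤ 1548288 := (Nat.card_le_card_of_surjective _ hsurj).trans kc
  have hTle : T ≤ lettGrp f hkLets := by
    rw [hT, MonoidHom.range_eq_map, ← PresentedGroup.closure_range_of kRels, MonoidHom.map_closure,
      Subgroup.closure_le]
    rintro _ ⟨_, ⟨g, rfl⟩, rfl⟩
    simp only [φ, PresentedGroup.toGroup.of]
    by_cases hg : g = .b ∨ g = .u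
    · simp [hg]
    · rw [if_neg hg]
      rw [not_or] at hg
      exact sval_mem_lettGrp f (p := (g, true)) (kSet_lets g hg.1 hg.2)
  obtain ⟨hf, hc, -⟩ := chain_step HK.valid okLets_h h.invol
    (fun kw hkw => h.rels kw (List.mem_append_right _ hkw)) T
    (fun r hr x hx => by
      have := List.all_eq_true.1 (List.all_eq_true.1 subs_hk_small r hr) x hx
      simp only [Bool.and_eq_true, decide_eq_true_eq] at this
      exact this.1)
    (fun r hr => list_prod_mem fun q hq => by
      obtain ⟨x, hx, rfl⟩ := List.mem_map.1 hq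
      have := List.all_eq_true.1 (List.all_eq_true.1 subs_hk_small r hr) x hx
      simp only [Bool.and_eq_true, decide_eq_true_eq] at this
      rw [letVal]
      generalize hkLets.getD x (.a, true) = p at this ⊢
      obtain ⟨g, _ | _⟩ := p
      · refine inv_mem ⟨kGen g, ?_⟩
        simp [φ, kGen, this.2.1, this.2.2]
      · refine ⟨kGen g, ?_⟩
        simp [φ, kGen, sval, this.2.1, this.2.2]) hTle hTf hTc
  exact ⟨hf, hc.trans (Nat.mul_le_mul_right _ (by decide +kernel))⟩

/-- the pair of a generator and its permutation -/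
noncomputable def pairI (g : Th.Gen) : Th × Perm (Fin 144) := if g = .b then 1 else (th g, genI g)

theorem hkl_no_b : ((klWords ++ lsWords ++ soWords ++ hkWords).all fun kw => kw.2.all fun p =>
    decide (p.1 ≠ .b)) = true := by decide +kernel

theorem small_extra : ((klWords ++ lsWords ++ soWords ++ hkWords).all fun kw =>
    decide (Th.extra[kw.1]? = some (FreeGroup.mk kw.2))) = true := by decide +kernel

theorem pairI_rel : HRel pairI where
  invol g hg := by
    by_cases hb : g = .b
    · simp [pairI, hb]
    have hm : g ∈ [Th.Gen.a, .b, .c, .d, .e] := by cases g <;> simp [CfsgLib.ThCent.invol] at hg ⊢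
    have := List.all_eq_true.1 genI_invol g hm
    simp only [decide_eq_true_eq] at this
    simp only [pairI, if_neg hb, Prod.mk_mul_mk]
    exact Prod.ext (th_invol g hg) (Equiv.ext this)
  rels kw hkw := by
    have hb := List.all_eq_true.1 hkl_no_b kw hkw
    simp only [List.all_eq_true, decide_eq_true_eq] at hb
    refine Prod.ext ?_ ?_
    · change MonoidHom.fst Th (Perm (Fin 144)) (wordVal pairI kw.2) = 1
      rw [map_wordVal (MonoidHom.fst _ _) pairI th _ fun p hp => by simp [pairI, hb p hp]]
      exact th_extra_word (of_decide_eq_true (List.all_eq_true.1 small_extra kw hkw :))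
    · change MonoidHom.snd Th (Perm (Fin 144)) (wordVal pairI kw.2) = 1
      rw [map_wordVal (MonoidHom.snd _ _) pairI genI _ fun p hp => by simp [pairI, hb p hp]]
      have := List.all_eq_true.1 genI_words kw hkw
      simp only [decide_eq_true_eq] at this
      exact Equiv.ext this

/-- the graph of the action on 144 points -/
noncomputable def pairGrp : Subgroup (Th × Perm (Fin 144)) := lettGrp pairI hkLets

/-- its projection -/
noncomputable def pairProj : pairGrp →* Th := (MonoidHom.fst _ _).comp pairGrp.subtype

theorem letVal_pairI {x : Nat} (hx : x < 10) :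
    letVal pairI hkLets x = (letVal th hkLets x, letVal genI hkLets x) := by
  have hmem : hkLets.getD x (.a, true) ∈ hkLets := by
    rw [List.getD_eq_getElem?_getD, List.getElem?_eq_getElem (show x < hkLets.length from hx)]
    exact List.getElem_mem _
  have h := List.all_eq_true.1 hLets_no_b _ hmem
  simp only [decide_eq_true_eq] at h
  simp only [letVal]
  generalize hkLets.getD x (.a, true) = p at h ⊢
  obtain ⟨g, _ | _⟩ := p <;> simp [sval, pairI, h]

theorem range_pairProj : pairProj.range = hSub := by
  rw [pairProj, MonoidHom.range_comp, Subgroup.range_subtype, pairGrp, lettGrp, MonoidHom.map_closure]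
  refine le_antisymm ((Subgroup.closure_le _).2 ?_) ?_
  · rintro _ ⟨_, ⟨x, hx, rfl⟩, rfl⟩
    rw [letVal_pairI hx, SetLike.mem_coe]
    show letVal th hkLets x ∈ hSub
    rw [← coe_letH hx]
    exact SetLike.coe_mem _
  · rw [hSub, Subgroup.closure_le]
    rintro _ ⟨g, hg, rfl⟩
    obtain ⟨x, hx, e⟩ : ∃ x < 10, hkLets.getD x (.a, true) = (g, true) := by
      cases g with
      | a => exact ⟨0, by norm_num, rfl⟩
      | c => exact ⟨1, by norm_num, rfl⟩
      | d => exact ⟨2, by norm_num, rfl⟩
      | e => exact ⟨3, by norm_num, rfl⟩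
      | s => exact ⟨4, by norm_num, rfl⟩
      | t => exact ⟨6, by norm_num, rfl⟩
      | u => exact ⟨8, by norm_num, rfl⟩
      | b => exact absurd rfl hg
    refine Subgroup.subset_closure ⟨_, ⟨x, hx, rfl⟩, ?_⟩
    rw [letVal_pairI hx]
    show letVal th hkLets x = th g
    rw [letVal, e]
    rfl

theorem appI_lt : ∀ (w : List Nat), (∀ x ∈ w, x < 10) → ∀ c < 144, appI w c < 144
  | [], _, _, hc => hc
  | x :: w, hw, c, hc =>
    appI_lt w (fun y hy => hw y (List.mem_cons_of_mem _ hy)) _
      (stepI_spec (hw x (List.mem_cons_self ..)) ⟨c, hc⟩).2.1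

theorem okFrom : (allBelow 144 fun c => ((fromZero.getD c []).all fun x => Nat.blt x 10) &&
    Nat.beq (appI (fromZero.getD c []) 0) c) = true := by decide +kernel

theorem okFix : ((fixWords.all fun w => (w.all fun x => Nat.blt x 10) && Nat.beq (appI w 0) 0) &&
    allBelow 144 fun c => Nat.beq c 0 || fixWords.any fun w => !(Nat.beq (appI w c) c)) = true := by decide +kernel

/-- the product of the permutations of a word -/
noncomputable def valI (w : List Nat) : Perm (Fin 144) := (w.reverse.map permI).prod

theorem valI_apply : ∀ (w : List Nat), (∀ x ∈ w, x < 10) → ∀ c : Fin 144,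
    ((valI w c : Fin 144) : Nat) = appI w c
  | [], _, c => rfl
  | x :: w, hw, c => by
    rw [valI, List.reverse_cons, List.map_append, List.map_singleton, List.prod_append, List.prod_singleton,
      Perm.mul_apply]
    refine (valI_apply w (fun y hy => hw y (List.mem_cons_of_mem _ hy)) _).trans ?_
    rw [coe_permI (hw x (List.mem_cons_self ..))]
    rfl

theorem trivial_centre {z : Perm (Fin 144)} (hz : ∀ x < 10, Commute z (permI x)) : z = 1 := by
  have hw : ∀ w : List Nat, (∀ x ∈ w, x < 10) → Commute z (valI w) := by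
    intro w hw
    refine Commute.list_prod_right _ _ fun y hy => ?_
    obtain ⟨x, hx, rfl⟩ := List.mem_map.1 hy
    exact hz x (hw x (List.mem_reverse.1 hx))
  have h0 : z 0 = 0 := by
    by_contra hne
    have h := okFix
    simp only [Bool.and_eq_true, List.all_eq_true, Nat.blt_eq, Nat.beq_eq] at h
    have h2 := allBelow_spec h.2 (z 0) (z 0).2
    simp only [Bool.or_eq_true, Nat.beq_eq, List.any_eq_true, Bool.not_eq_true'] at h2
    rcases h2 with h2 | ⟨w, hm, h2⟩
    · exact hne (Fin.ext h2)
    have h3 : valI w 0 = 0 := Fin.ext ((valI_apply w (h.1 w hm).1 0).trans (h.1 w hm).2)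
    have h4 := congrArg (fun σ : Perm (Fin 144) => ((σ 0 : Fin 144) : Nat)) (hw w (h.1 w hm).1).eq
    simp only [Perm.mul_apply] at h4
    rw [h3, valI_apply w (h.1 w hm).1] at h4
    rw [← h4, Nat.beq_refl] at h2
    exact Bool.noConfusion h2
  refine Equiv.ext fun c => ?_
  have h := allBelow_spec okFrom c c.2
  simp only [Bool.and_eq_true, List.all_eq_true, Nat.blt_eq, Nat.beq_eq] at h
  have hc : valI (fromZero.getD c []) 0 = c := Fin.ext ((valI_apply _ h.1 0).trans h.2)
  conv_lhs => rw [← hc]
  show (z * valI _) 0 = _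
  rw [(hw _ h.1).eq, Perm.mul_apply, h0, hc]
  rfl

theorem pairProj_injective (F : ThFacts) : Function.Injective pairProj := by
  obtain ⟨hf, hc⟩ := hGroup_bound pairI_rel
  have : Finite pairGrp := hf
  have h := Subgroup.card_eq_card_quotient_mul_card_subgroup pairProj.ker
  rw [Nat.card_congr (QuotientGroup.quotientKerEquivRange pairProj).toEquiv, range_pairProj, card_hSub F] at h
  have hk : Nat.card pairProj.ker ≤ 2 := by
    by_contra hlt
    have hc' : Nat.card pairGrp ≤ 120 * 1548288 := hc
    have : 92897280 * 3 ≤ Nat.card pairGrp := h ▸ Nat.mul_le_mul_left _ (by omega)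
    omega
  rw [← MonoidHom.ker_eq_bot_iff, eq_bot_iff]
  intro k hk'
  have hcomm : ∀ y : pairGrp, y * k = k * y := by
    intro y
    by_contra hne
    have hk1 : k ≠ 1 := fun e => hne (by simp [e])
    have hy : y * k * y⁻¹ ∈ pairProj.ker := pairProj.normal_ker.conj_mem k hk' y
    have hy1 : y * k * y⁻¹ ≠ 1 := fun e => hk1 (conj_eq_one_iff.1 e)
    have hyk : y * k * y⁻¹ ≠ k := fun e => hne (mul_inv_eq_iff_eq_mul.1 e)
    have h3 : ({1, k, y * k * y⁻¹} : Set pairGrp).ncard = 3 := by
      rw [Set.ncard_insert_of_notMem, Set.ncard_pair hyk.symm]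
      simp [hk1.symm, hy1.symm]
    have h4 : ({1, k, y * k * y⁻¹} : Set pairGrp).ncard ≤ Nat.card pairProj.ker := by
      rw [← Nat.card_coe_set_eq]
      refine Nat.card_le_card_of_injective
        (fun q : ({1, k, y * k * y⁻¹} : Set pairGrp) => (⟨q.1, ?_⟩ : pairProj.ker))
        fun p q e => Subtype.ext (congrArg (fun r : pairProj.ker => (r : pairGrp)) e)
      rcases q.2 with e | e | e
      · rw [e]; exact one_mem _
      · rw [e]; exact hk'
      · rw [Set.mem_singleton_iff] at e; rw [e]; exact hy
    omega
  refine Subgroup.mem_bot.2 (Subtype.ext (Prod.ext (MonoidHom.mem_ker.1 hk') ?_))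
  refine trivial_centre fun x hx => ?_
  have hm : letVal pairI hkLets x ∈ pairGrp := Subgroup.subset_closure ⟨x, hx, rfl⟩
  have e := congrArg (fun q : pairGrp => (q : Th × Perm (Fin 144)).2) (hcomm ⟨_, hm⟩)
  simp only [Subgroup.coe_mul, Prod.snd_mul, letVal_pairI hx] at e
  have e2 : letVal genI hkLets x = permI x :=
    Equiv.ext (of_decide_eq_true (allBelow_spec genI_lets x hx :))
  rw [e2] at e
  exact e.symm

/-- the graph is the centraliser -/
noncomputable def pairEquiv (F : ThFacts) : pairGrp ≃* hSub :=
  (MonoidHom.ofInjective (pairProj_injective F)).trans (MulEquiv.subgroupCongr range_pairProj)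

/-- the action on 144 points -/
noncomputable def repI (F : ThFacts) : hSub →* Perm (Fin 144) :=
  ((MonoidHom.snd _ _).comp pairGrp.subtype).comp (pairEquiv F).symm.toMonoidHom

theorem repI_letVal (F : ThFacts) {x : Nat} (hx : x < 10) : repI F (letVal fH hkLets x) = permI x := by
  have hm : letVal pairI hkLets x ∈ pairGrp := Subgroup.subset_closure ⟨x, hx, rfl⟩
  have e : pairEquiv F ⟨_, hm⟩ = letVal fH hkLets x := by
    refine Subtype.ext ?_
    rw [coe_letH hx]
    show (letVal pairI hkLets x).1 = _
    rw [letVal_pairI hx]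
  rw [← e]
  show ((pairEquiv F).symm (pairEquiv F ⟨_, hm⟩) : Th × Perm (Fin 144)).2 = _
  rw [MulEquiv.symm_apply_apply]
  show (letVal pairI hkLets x).2 = _
  rw [letVal_pairI hx]
  exact Equiv.ext (of_decide_eq_true (allBelow_spec genI_lets x hx :))

theorem repI_actVal (F : ThFacts) : ∀ (w : List Nat), (∀ x ∈ w, x < 10) →
    repI F (actVal hModel w) = valI w
  | [], _ => by simp [actVal, valI]
  | x :: w, hw => by
    rw [actVal_cons, map_mul, repI_actVal F w fun y hy => hw y (List.mem_cons_of_mem _ hy)]
    rw [show hModel.gen x = letVal fH hkLets x from rfl, repI_letVal F (hw x (List.mem_cons_self ..))]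
    simp [valI]

end CfsgLib.ThCent
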