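import Cfsg.Agent.Lib.ThCent.DCent
import Cfsg.Agent.Lib.ThCent.Extra

/-!
The group generated by all generators but `b` acts on 120 cosets as the alternating group of degree 9.
-/

set_option autoImplicit false
set_option maxRecDepth 100000

namespace CfsgLib.ThCent

open Cfsg.Spor CfsgLib.PresCert Equiv

/-- the generators in the centraliser -/
noncomputable def fH (g : Th.Gen) : hSub :=
  if h : g ≠ .b then ⟨th g, Subgroup.subset_closure ⟨g, h, rfl⟩⟩ else 1

theorem coe_fH {g : Th.Gen} (h : g ≠ .b) : (fH g : Th) = th g := by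
  rw [fH, dif_pos h]

theorem hWords_no_b : (hkWords.all fun kw => kw.2.all fun p => decide (p.1 ≠ .b)) = true := by decide +kernel

theorem hLets_no_b : (hkLets.all fun p => decide (p.1 ≠ .b)) = true := by decide +kernel

theorem fH_invol (g : Th.Gen) (h : invol g = true) : fH g * fH g = 1 := by
  by_cases hg : g = .b
  · simp [fH, hg]
  apply Subtype.ext
  rw [Subgroup.coe_mul, coe_fH hg]
  exact th_invol g h

theorem fH_words : ∀ kw ∈ hkWords, wordVal fH kw.2 = 1 := fun kw hkw => by
  have h1 := List.all_eq_true.1 okExtra_hk kw hkw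
  simp only [decide_eq_true_eq] at h1
  have h2 := List.all_eq_true.1 hWords_no_b kw hkw
  simp only [List.all_eq_true, decide_eq_true_eq] at h2
  apply hSub.subtype_injective
  rw [map_wordVal hSub.subtype fH th _ fun p hp => coe_fH (h2 p hp), map_one, th_extra_word h1]

theorem coe_letH {x : Nat} (hx : x < 10) : ((letVal fH hkLets x : hSub) : Th) = letVal th hkLets x := by
  have hmem : hkLets.getD x (.a, true) ∈ hkLets := by
    rw [List.getD_eq_getElem?_getD, List.getElem?_eq_getElem (show x < hkLets.length from hx)]
    exact List.getElem_mem _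
  have h := List.all_eq_true.1 hLets_no_b _ hmem
  simp only [decide_eq_true_eq] at h
  rw [letVal, letVal]
  generalize hkLets.getD x (.a, true) = p at h ⊢
  obtain ⟨g, _ | _⟩ := p <;> simp [sval, coe_fH h]

theorem closure_fH : Subgroup.closure {q | ∃ x < hkLets.length, letVal fH hkLets x = q} = ⊤ := by
  rw [eq_top_iff]
  refine (Subgroup.closure_closure_coe_preimage (k := th '' hSet)).ge.trans ?_
  refine (Subgroup.closure_le _).2 ?_
  rintro ⟨q, hq⟩ ⟨g, hg, rfl⟩
  obtain ⟨x, hx, e⟩ : ∃ x < 10, hkLets.getD x (.a, true) = (g, true) := by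
    cases g with
    | a => exact ⟨0, by norm_num, rfl⟩
    | c => exact ⟨1, by norm_num, rfl⟩
    | d => exact ⟨2, by norm_num, rfl⟩
    | e => exact ⟨3, by norm_num, rfl⟩
    | s => exact ⟨4, by norm_num, rfl⟩
    | t => exact ⟨6, by norm_num, rfl⟩
    | u => exact ⟨8, by norm_num, rfl⟩
    | b => exact absurd rfl hg
  refine Subgroup.subset_closure ⟨x, hx, Subtype.ext ?_⟩
  rw [coe_letH hx, letVal, e]
  rfl

theorem subs_hk : (hCert.subs.all fun r => r.all fun x => decide (x < 10) &&
    decide ((hkLets.getD x (.a, true)).1 ≠ .u) && okQuad x) = true := by decide +kernel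

theorem u_notMem (F : ThFacts) : th .u ∉ dSub := fun h => by
  have htop : dSub = ⊤ := by
    rw [eq_top_iff, ← closure_th, Subgroup.closure_le]
    rintro _ ⟨g, rfl⟩
    by_cases hg : g = .u
    · rw [hg]; exact h
    · exact Subgroup.subset_closure ⟨g, hg, rfl⟩
  have := F.index
  rw [htop, Subgroup.index_top] at this
  norm_num at this

/-- the stabiliser of the coset of the big subgroup -/
noncomputable def hStab : Subgroup hSub := dSub.subgroupOf hSub

/-- the model in degree 120 -/
noncomputable def hModel : Model hCert hSub :=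
  model fH_invol okLets_h fH_words hStab (fun r hr => list_prod_mem fun q hq => by
    obtain ⟨x, hx, rfl⟩ := List.mem_map.1 hq
    have := List.all_eq_true.1 (List.all_eq_true.1 subs_hk r hr) x hx
    simp only [Bool.and_eq_true, decide_eq_true_eq] at this
    rw [hStab, Subgroup.mem_subgroupOf, coe_letH this.1.1, letVal]
    generalize hkLets.getD x (.a, true) = p at this ⊢
    obtain ⟨g, _ | _⟩ := p
    · exact inv_mem (Subgroup.subset_closure ⟨g, this.1.2, rfl⟩)
    · exact Subgroup.subset_closure ⟨g, this.1.2, rfl⟩) closure_fH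

theorem hStab_ne_top (F : ThFacts) : hStab ≠ ⊤ := fun e => u_notMem F (by
  have h : fH .u ∈ hStab := by rw [e]; trivial
  rw [hStab, Subgroup.mem_subgroupOf, coe_fH (by decide)] at h
  exact h)

theorem hSub_le_model : hModel.sub ≤ hStab := le_rfl

/-- the action on 120 cosets -/
noncomputable def repH (F : ThFacts) : hSub →* Perm (Fin hCert.n) :=
  rep HK.valid hPrim (M := hModel) hSub_le_model (hStab_ne_top F)

/-- the model in the alternating group -/
noncomputable def aModel : Model hCert (alternatingGroup (Fin 9)) :=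
  model sig_invol okLets_h sig_words quadStab (fun r hr => list_prod_mem fun q hq => by
    obtain ⟨x, hx, rfl⟩ := List.mem_map.1 hq
    have := List.all_eq_true.1 (List.all_eq_true.1 subs_hk r hr) x hx
    simp only [Bool.and_eq_true, decide_eq_true_eq] at this
    exact (mem_quadStab this.1.1).2 this.2) closure_sig

theorem quadStab_ne_top : quadStab ≠ ⊤ := fun e => by
  have := (mem_quadStab (x := 8) (by norm_num)).1 (by rw [e]; trivial)
  rw [okQuad_u] at this
  exact Bool.noConfusion this

theorem aSub_le_model : aModel.sub ≤ quadStab := le_rfl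

/-- the action of the alternating group on 120 cosets -/
noncomputable def repA : alternatingGroup (Fin 9) →* Perm (Fin hCert.n) :=
  rep HK.valid hPrim (M := aModel) aSub_le_model quadStab_ne_top

theorem range_repH (F : ThFacts) : (repH F).range = repA.range := by
  have e : ∀ x < 10, repH F (letVal fH hkLets x) = repA (letVal sig hkLets x) := fun x hx =>
    Equiv.ext fun c => Fin.ext ((rep_gen HK.valid hPrim (M := hModel) hSub_le_model (hStab_ne_top F)
      (show x < hCert.g from hx) c).trans (rep_gen HK.valid hPrim (M := aModel) aSub_le_model quadStab_ne_top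
      (show x < hCert.g from hx) c).symm)
  rw [MonoidHom.range_eq_map, MonoidHom.range_eq_map, ← closure_fH, ← closure_sig,
    MonoidHom.map_closure, MonoidHom.map_closure]
  congr 1
  ext σ
  constructor
  · rintro ⟨_, ⟨x, hx, rfl⟩, rfl⟩
    exact ⟨_, ⟨x, hx, rfl⟩, (e x hx).symm⟩
  · rintro ⟨_, ⟨x, hx, rfl⟩, rfl⟩
    exact ⟨_, ⟨x, hx, rfl⟩, e x hx⟩

theorem repA_injective : Function.Injective repA := by
  have : IsSimpleGroup (alternatingGroup (Fin 9)) := alternatingGroup.isSimpleGroup (by simp)
  rw [← MonoidHom.ker_eq_bot_iff]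
  refine (repA.normal_ker.eq_bot_or_eq_top).resolve_right fun h => ?_
  have h1 : letVal sig hkLets 8 ∈ repA.ker := by rw [h]; trivial
  rw [MonoidHom.mem_ker] at h1
  let E := cosetEquiv HK.valid hPrim (M := aModel) aSub_le_model quadStab_ne_top
  obtain ⟨c, hc⟩ := E.surjective ((1 : alternatingGroup (Fin 9)) : alternatingGroup (Fin 9) ⧸ quadStab)
  have e := cosetEquiv_rep HK.valid hPrim (M := aModel) aSub_le_model quadStab_ne_top (letVal sig hkLets 8) c
  rw [show rep HK.valid hPrim (M := aModel) aSub_le_model quadStab_ne_top (letVal sig hkLets 8) = 1 from h1,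
    Perm.one_apply, show cosetEquiv HK.valid hPrim (M := aModel) aSub_le_model quadStab_ne_top c = _ from hc,
    MulAction.Quotient.smul_mk, QuotientGroup.eq, inv_one, one_mul, smul_eq_mul, mul_one,
    mem_quadStab (by norm_num), okQuad_u] at e
  exact Bool.noConfusion e

theorem index_hStab (F : ThFacts) : hStab.index = 120 :=
  index_eq HK.valid hPrim (M := hModel) hSub_le_model (hStab_ne_top F)

end CfsgLib.ThCent
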