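import Cfsg.Agent.Lib.ThCent.AutH
import Cfsg.Prelude.Def_KGroupFacts

/-!
Every automorphism of the presented Thompson group is inner, given its order, simplicity and the orbit
bound for the involution centraliser.
-/

set_option autoImplicit false
set_option maxRecDepth 100000

namespace CfsgLib.ThCent

open Cfsg.Spor CfsgLib.PresCert Equiv

/-- the element of the big subgroup that takes `a` to `b` -/
def bWord : List Nat := [1, 0, 1, 2, 0, 1, 3, 1, 0, 2, 1, 3, 1, 2, 0, 1, 3, 1, 0, 2, 1]

theorem okBWord : sameD [[0], bWord] [bWord, [0]] = true := by decide +kernel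

theorem vecWord_one : vecWord 1 = qHWord 0 := by decide +kernel

theorem qElt_zero : qElt 0 = fH .c := by
  refine Subtype.ext ?_
  rw [coe_qElt, show qWord 0 = [2] from rfl, coe_fH (by decide)]
  simp [actVal, dModel, model, letVal, sval, dkLets, coe_fD]

/-- a candidate for an element centralising the seven cycle -/
noncomputable def candST (a b c p : Nat) : Nat :=
  [a, nineStep 4 a, b, c, nineW [4, 4] a, nineW [4, 4, 4] a, nineW [4, 4, 4, 4] a,
    nineW [4, 4, 4, 4, 4, 4] a, nineW [4, 4, 4, 4, 4] a].getD p p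

theorem okST : (allBelow 9 fun a => allBelow 9 fun b => allBelow 9 fun c =>
    !([3, 4, 6].all fun x => allBelow 9 fun p =>
      Nat.beq (candST a b c (nineStep x p)) (nineStep x (candST a b c p))) ||
    !(decide ((List.range 9).map (candST a b c)).Nodup) ||
    allBelow 9 fun p => Nat.beq (candST a b c p) p) = true := by decide +kernel

theorem okST_orbit : ((allBelow 9 fun p => Nat.beq (nineW [] p) p) &&
    decide ([0, nineStep 4 0, 2, 3, nineW [4, 4] 0, nineW [4, 4, 4] 0, nineW [4, 4, 4, 4] 0,
      nineW [4, 4, 4, 4, 4, 4] 0, nineW [4, 4, 4, 4, 4] 0] = List.range 9)) = true := by decide +kernel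

theorem centralizes_est (z : alternatingGroup (Fin 9))
    (hz : ∀ x ∈ [3, 4, 6], Commute z (letVal sig hkLets x)) : z = 1 := by
  set ζ : Fin 9 → Nat := fun p => ((z : Perm (Fin 9)) p : Nat) with hζ
  have hcom : ∀ x ∈ [3, 4, 6], ∀ p : Fin 9, ∀ h : nineStep x p < 9,
      ζ ⟨nineStep x p, h⟩ = nineStep x (ζ p) := by
    intro x hx p h
    have hx' : x < 10 := by simp at hx; omega
    have e := congrArg (fun w : alternatingGroup (Fin 9) => ((w : Perm (Fin 9)) p : Nat)) (hz x hx).eq
    simp only [Subgroup.coe_mul, Perm.mul_apply, coe_letVal hx', perm9, dif_pos hx'] at e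
    exact e
  have step : ∀ (v : Nat), ∀ h : v < 9, ∀ h' : nineStep 4 v < 9,
      ζ ⟨nineStep 4 v, h'⟩ = nineStep 4 (ζ ⟨v, h⟩) := fun v h h' => hcom 4 (by simp) ⟨v, h⟩ h'
  have hw : ∀ (k : Nat) (h : nineW (List.replicate k 4) 0 < 9),
      ζ ⟨_, h⟩ = nineW (List.replicate k 4) (ζ 0) := by
    have happ : ∀ (k c : Nat), nineW (List.replicate (k + 1) 4) c = nineStep 4 (nineW (List.replicate k 4) c) := by
      intro k
      induction k with
      | zero => intro c; rfl
      | succ k ih => intro c; exact ih (nineStep 4 c)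
    have hlt : ∀ k, nineW (List.replicate k 4) 0 < 9 := by
      intro k
      induction k with
      | zero => exact Nat.succ_pos _
      | succ k ih => rw [happ]; exact (nine_spec (show 4 < 10 by norm_num) ⟨_, ih⟩).2.1
    intro k
    induction k with
    | zero => intro h; rfl
    | succ k ih =>
      intro h
      rw [happ k (ζ 0), ← ih (hlt k)]
      have := step _ (hlt k) (by rw [← happ]; exact h)
      rw [← this]
      congr 2
      exact happ k 0
  have hcand : ∀ p : Fin 9, candST (ζ 0) (ζ 2) (ζ 3) p = ζ p := by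
    intro p
    have ho := okST_orbit
    simp only [Bool.and_eq_true, decide_eq_true_eq] at ho
    have key : ∀ (k v : Nat) (hv : v < 9), nineW (List.replicate k 4) 0 = v →
        ζ ⟨v, hv⟩ = nineW (List.replicate k 4) (ζ 0) := by
      intro k v hv e; subst e; exact hw k hv
    have hg : ∀ i : Nat, i < 9 → (([0, nineStep 4 0, 2, 3, nineW [4, 4] 0, nineW [4, 4, 4] 0,
        nineW [4, 4, 4, 4] 0, nineW [4, 4, 4, 4, 4, 4] 0, nineW [4, 4, 4, 4, 4] 0] : List Nat).getD i 0) = i := by
      intro i hi
      rw [ho.2]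
      simp [List.getD_eq_getElem?_getD, hi]
    fin_cases p
    · rfl
    · exact (key 1 1 (by norm_num) (hg 1 (by norm_num))).symm
    · rfl
    · rfl
    · exact (key 2 4 (by norm_num) (hg 4 (by norm_num))).symm
    · exact (key 3 5 (by norm_num) (hg 5 (by norm_num))).symm
    · exact (key 4 6 (by norm_num) (hg 6 (by norm_num))).symm
    · exact (key 6 7 (by norm_num) (hg 7 (by norm_num))).symm
    · exact (key 5 8 (by norm_num) (hg 8 (by norm_num))).symm
  have h := allBelow_spec (allBelow_spec (allBelow_spec okST (ζ 0) (Fin.is_lt _)) (ζ 2) (Fin.is_lt _)) (ζ 3) (Fin.is_lt _)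
  simp only [Bool.or_eq_true, Bool.not_eq_true', decide_eq_false_iff_not] at h
  rcases h with (h | h) | h
  · exfalso
    have : ([3, 4, 6].all fun x => allBelow 9 fun p =>
        Nat.beq (candST (ζ 0) (ζ 2) (ζ 3) (nineStep x p)) (nineStep x (candST (ζ 0) (ζ 2) (ζ 3) p))) = true := by
      rw [List.all_eq_true]
      intro x hx
      refine allBelow_intro (by norm_num) fun p hp => ?_
      have hx' : x < 10 := by simp at hx; omega
      have hlt := (nine_spec hx' ⟨p, hp⟩).2.1
      rw [hcand ⟨p, hp⟩, hcand ⟨nineStep x p, hlt⟩, hcom x hx ⟨p, hp⟩ hlt]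
      simp
    rw [this] at h
    exact Bool.noConfusion h
  · exfalso
    refine h ?_
    refine List.Nodup.map_on ?_ List.nodup_range
    intro i hi j hj e
    rw [List.mem_range] at hi hj
    rw [hcand ⟨i, hi⟩, hcand ⟨j, hj⟩] at e
    exact congrArg Fin.val ((z : Perm (Fin 9)).injective (Fin.ext e))
  · refine Subtype.ext (Equiv.ext fun p => Fin.ext ?_)
    have := Nat.eq_of_beq_eq_true (allBelow_spec h p p.2)
    rw [hcand] at this
    simpa using this

variable (F : ThFacts) (hB : OrbitBound)

include F in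
theorem centraliser_ker {h : hSub} (hc : ∀ q ∈ (repH F).ker, Commute (repI F h) (repI F q)) :
    h ∈ (repH F).ker := by
  let C : Subgroup hSub :=
    { carrier := {x | ∀ q ∈ (repH F).ker, Commute (repI F x) (repI F q)}
      one_mem' := fun q _ => by simp
      mul_mem' := fun {x y} hx hy q hq => by rw [map_mul]; exact (hx q hq).mul_left (hy q hq)
      inv_mem' := fun {x} hx q hq => by rw [map_inv]; exact (hx q hq).inv_left }
  have hn : C.Normal := ⟨fun x hx g q hq => by
    have h1 := hx _ ((repH F).normal_ker.conj_mem q hq g⁻¹)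
    rw [inv_inv, map_mul, map_mul, map_inv] at h1
    rw [map_mul, map_mul, map_inv]
    have := (Commute.conj_iff (repI F g)).2 h1
    simpa [mul_assoc] using this⟩
  rcases normal_cases F C hn with hle | hall
  · exact hle hc
  exfalso
  have ok := okTri
  simp only [Bool.and_eq_true] at ok
  set G := actVal hModel (triWords.getD 0 [])
  obtain ⟨n, hn', hG⟩ := hall G
  have hcomm : Commute (repI F G) (repI F (qElt 0)) := by
    have e : G = n * (n⁻¹ * G) := by group
    rw [e, map_mul]
    exact (hn' _ (qElt_mem_ker F 0)).mul_left (repI_ker_comm F hG (qElt_mem_ker F 0))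
  have h1 := fpf_spec F ok.1.1.2 (qElt_mem_ker F 0) hcomm
  rw [repI_qElt, ← vecWord_one] at h1
  have h2 := valI_one (vec_lt (by norm_num)) h1
  have h3 := allBelow_spec okMoves_vec 1 (by norm_num)
  rw [h2] at h3
  exact absurd h3 (by decide)

theorem comm_a_hSub (x : hSub) : Commute aH x := Subtype.ext (by
  rw [Subgroup.coe_mul, Subgroup.coe_mul, coe_aH]
  exact Subgroup.mem_centralizer_iff.1 (hSub_le x.2) _ rfl)

include F in
theorem centre_ker {h : hSub} (hh : h ∈ (repH F).ker) (hc : ∀ q ∈ (repH F).ker, Commute h q) :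
    h = 1 ∨ h = aH := by
  have ha : aH ∈ (repH F).ker := repI_ker_le F (MonoidHom.mem_ker.2 (repI_aH F))
  by_contra hne
  rw [not_or] at hne
  have hone : aH ≠ 1 := fun e => th_a_ne_one F (by rw [← coe_aH, e]; rfl)
  have := F.finite
  have h2 := (ker_extraspecial F).2
  have h3 : ({⟨1, one_mem _⟩, ⟨aH, ha⟩, ⟨h, hh⟩} : Set (repH F).ker).ncard = 3 := by
    rw [Set.ncard_insert_of_notMem, Set.ncard_pair]
    · exact fun e => hne.2 (congrArg Subtype.val e).symm
    · simp [Ne.symm hone, Ne.symm hne.1]
  have h4 : ({⟨1, one_mem _⟩, ⟨aH, ha⟩, ⟨h, hh⟩} : Set (repH F).ker).ncard ≤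
      Nat.card (Subgroup.center (repH F).ker) := by
    refine (Set.ncard_le_ncard (t := (Subgroup.center (repH F).ker : Set (repH F).ker)) ?_ (Set.toFinite _)).trans
      (Nat.card_coe_set_eq _).ge
    rintro q hq
    refine Subgroup.mem_center_iff.2 fun y => Subtype.ext ?_
    rcases hq with rfl | rfl | rfl
    · simp
    · exact (comm_a_hSub _).symm.eq
    · exact (hc _ y.2).symm.eq
  omega

include F hB in
theorem mem_hSub_iff {x : Th} : x ∈ hSub ↔ x * th .a = th .a * x := by
  rw [← centralizer_eq F hB, Subgroup.mem_centralizer_singleton_iff]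

include F hB in
/-- an automorphism takes the involution to a conjugate -/
theorem exists_conj_a (α : MulAut Th) : ∃ g : Th, g * α (th .a) * g⁻¹ = th .a := by
  have := F.finite
  have : Fact (Nat.Prime 2) := ⟨Nat.prime_two⟩
  obtain ⟨P0⟩ : Nonempty (Sylow 2 hSub) := inferInstance
  have hP0 : Nat.card P0 = 2 ^ 15 := by
    rw [P0.card_eq_multiplicity, card_hSub F]
    congr 1
    rw [show (92897280 : ℕ) = 2 ^ 15 * 2835 from rfl, Nat.factorization_mul (by norm_num) (by norm_num),
      Nat.Prime.factorization_pow Nat.prime_two, Finsupp.add_apply, Finsupp.single_eq_same,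
      Nat.factorization_eq_zero_of_not_dvd (by norm_num)]
  let Pg : Subgroup Th := (P0 : Subgroup hSub).map hSub.subtype
  have hPg : Nat.card Pg = 2 ^ 15 := by
    rw [Subgroup.card_map_of_injective hSub.subtype_injective]; exact hP0
  have hfac : (Nat.card Th).factorization 2 = 15 := by
    rw [F.card, show (90745943887872000 : ℕ) = 2 ^ 15 * 2769346432125 from rfl,
      Nat.factorization_mul (by norm_num) (by norm_num),
      Nat.Prime.factorization_pow Nat.prime_two, Finsupp.add_apply, Finsupp.single_eq_same,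
      Nat.factorization_eq_zero_of_not_dvd (by norm_num)]
  let P : Sylow 2 Th := Sylow.ofCard Pg (by rw [hPg, hfac])
  let P' : Sylow 2 Th :=
    Sylow.ofCard (Pg.map α.toMonoidHom) (by rw [Subgroup.card_map_of_injective α.injective, hPg, hfac])
  obtain ⟨g, hg⟩ := MulAction.exists_smul_eq Th P' P
  refine ⟨g, ?_⟩
  have hQP : ∀ q ∈ (repH F).ker, q ∈ (P0 : Subgroup hSub) := by
    intro q hq
    obtain ⟨R, hR⟩ := (IsPGroup.of_card (card_ker_repH F)).exists_le_sylow
    obtain ⟨x, hx⟩ := MulAction.exists_smul_eq hSub R P0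
    rw [← hx]
    show q ∈ ((x • R : Sylow 2 hSub) : Subgroup hSub)
    rw [Sylow.coe_subgroup_smul, Subgroup.mem_pointwise_smul_iff_inv_smul_mem]
    refine hR ?_
    simpa [MulAut.conj_apply] using (repH F).normal_ker.conj_mem q hq x⁻¹
  have haP : aH ∈ (P0 : Subgroup hSub) := hQP _ (repI_ker_le F (MonoidHom.mem_ker.2 (repI_aH F)))
  set y := g * α (th .a) * g⁻¹ with hy
  have hPmem : ∀ w : Th, w ∈ Pg → g * α w * g⁻¹ ∈ Pg := by
    intro w hw
    have : MulAut.conj g • (α w) ∈ ((g • P' : Sylow 2 Th) : Subgroup Th) := by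
      rw [Sylow.coe_subgroup_smul]
      exact Subgroup.smul_mem_pointwise_smul _ _ _ (Subgroup.mem_map_of_mem _ hw)
    rw [hg] at this
    simpa [MulAut.conj_apply, P] using this
  have hsurjP : ∀ w : Th, w ∈ Pg → ∃ v ∈ Pg, g * α v * g⁻¹ = w := by
    intro w hw
    have hw' : w ∈ ((g • P' : Sylow 2 Th) : Subgroup Th) := by
      rw [hg]; exact hw
    rw [Sylow.coe_subgroup_smul, Subgroup.mem_pointwise_smul_iff_inv_smul_mem] at hw'
    obtain ⟨v, hv, e⟩ := hw'
    refine ⟨v, hv, ?_⟩
    have e' : α v = g⁻¹ * w * g := by simpa [MulAut.conj_apply] using e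
    rw [e']; group
  have hay : th .a ∈ Pg := ⟨aH, haP, coe_aH⟩
  obtain ⟨yH, hyP, hye⟩ := hPmem _ hay
  have hcy : ∀ q ∈ (repH F).ker, Commute yH q := by
    intro q hq
    obtain ⟨v, ⟨vH, -, rfl⟩, e⟩ := hsurjP q ⟨q, hQP q hq, rfl⟩
    refine Subtype.ext ?_
    have hc : Commute (th .a) ((vH : hSub) : Th) := Subgroup.mem_centralizer_iff.1 (hSub_le vH.2) _ rfl
    have h1 := ((hc.map α.toMonoidHom).map (MulAut.conj g).toMonoidHom).eq
    simp only [MulEquiv.coe_toMonoidHom, MulAut.conj_apply] at h1
    rw [Subgroup.coe_mul, Subgroup.coe_mul, ← e, show ((yH : hSub) : Th) = g * α (th .a) * g⁻¹ from hye]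
    exact h1
  have hk : yH ∈ (repH F).ker := centraliser_ker F fun q hq => (hcy q hq).map _
  rcases centre_ker F hk hcy with e | e
  · exfalso
    refine th_a_ne_one F (α.injective ?_)
    rw [map_one]
    have he : g * α (th .a) * g⁻¹ = 1 := by rw [← show ((yH : hSub) : Th) = _ from hye, e]; rfl
    exact conj_eq_one_iff.1 he
  · rw [hy, ← hye, e]
    exact coe_aH

include F hB in
theorem exists_conj_hSub (β : MulAut Th) (hβ : β (th .a) = th .a) :
    ∃ h : Th, ∀ x ∈ hSub, β x = h * x * h⁻¹ := by
  have hm : ∀ x ∈ hSub, β x ∈ hSub := fun x hx => by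
    rw [mem_hSub_iff F hB] at hx ⊢
    rw [← hβ, ← map_mul, hx, map_mul]
  have hm' : ∀ x ∈ hSub, β.symm x ∈ hSub := fun x hx => by
    rw [mem_hSub_iff F hB] at hx ⊢
    apply β.injective
    rw [map_mul, map_mul, MulEquiv.apply_symm_apply, hβ]
    exact hx
  let βH : hSub ≃* hSub :=
    { toFun := fun x => ⟨β x, hm _ x.2⟩
      invFun := fun x => ⟨β.symm x, hm' _ x.2⟩
      left_inv := fun x => Subtype.ext (β.symm_apply_apply _)
      right_inv := fun x => Subtype.ext (β.apply_symm_apply _)
      map_mul' := fun x y => Subtype.ext (map_mul β _ _) }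
  obtain ⟨h, hh⟩ := hSub_aut_inner F βH (Subtype.ext (by
    show β (aH : Th) = aH
    rw [coe_aH, hβ]))
  exact ⟨h, fun x hx => congrArg Subtype.val (hh ⟨x, hx⟩)⟩

include F hB in
/-- an automorphism fixing the centraliser pointwise is conjugation by a power of `a` on another one -/
theorem fixed_centraliser (γ : MulAut Th) (hγ : ∀ x ∈ hSub, γ x = x) :
    ∃ h : Th, (∀ x ∈ hSub, h * x * h⁻¹ = x) ∧
      ∀ y, y * th .c = th .c * y → γ y = h * y * h⁻¹ := by
  set x0 := th .b * th .c * th .a * th .b with hx0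
  have hc : x0 * th .a * x0⁻¹ = th .c := by
    have hr := th_rels
    simp only [Th.extra, List.forall_mem_cons, Th.a, Th.b, Th.c, Th.d, Th.e, Th.s, Th.t, Th.u, map_mul, map_pow,
      map_inv, FreeGroup.lift_apply_of] at hr
    obtain ⟨ha2, hb2, hc2, -, -, hab, -, hbc, -⟩ := hr
    rw [sq] at ha2 hb2 hc2
    have h1 : th .a * th .b * th .a * th .b * th .a = th .b := by
      have e : th .a * th .b * th .a * th .b * th .a * th .b = 1 := by
        rw [← hab]; simp [pow_succ, mul_assoc]
      exact (mul_eq_one_iff_eq_inv.1 e).trans (inv_eq_of_mul_eq_one_left hb2)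
    have h2 : th .b * th .c * th .b * th .c * th .b = th .c := by
      have e : th .b * th .c * th .b * th .c * th .b * th .c = 1 := by
        rw [← hbc]; simp [pow_succ, mul_assoc]
      exact (mul_eq_one_iff_eq_inv.1 e).trans (inv_eq_of_mul_eq_one_left hc2)
    rw [hx0]
    simp only [mul_inv_rev, inv_eq_of_mul_eq_one_left ha2, inv_eq_of_mul_eq_one_left hb2,
      inv_eq_of_mul_eq_one_left hc2]
    calc th .b * th .c * th .a * th .b * th .a * (th .b * (th .a * (th .c * th .b)))
        = th .b * th .c * (th .a * th .b * th .a * th .b * th .a) * th .c * th .b := by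
          simp only [mul_assoc]
      _ = th .c := by rw [h1, h2]
  have hcH : th .c ∈ hSub := Subgroup.subset_closure ⟨.c, by simp [hSet], rfl⟩
  let δ : MulAut Th := MulAut.conj x0⁻¹ * γ * MulAut.conj x0
  have eδ : ∀ x, δ x = x0⁻¹ * γ (x0 * x * x0⁻¹) * x0 := fun x => by simp [δ]
  obtain ⟨k, hk⟩ := exists_conj_hSub F hB δ (by rw [eδ, hc, hγ _ hcH, ← hc]; group)
  have hmove : ∀ y, y * th .c = th .c * y → γ y = (x0 * k * x0⁻¹) * y * (x0 * k * x0⁻¹)⁻¹ := by
    intro y hy
    have hm : x0⁻¹ * y * x0 ∈ hSub := by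
      rw [mem_hSub_iff F hB]
      rw [← hc] at hy
      calc x0⁻¹ * y * x0 * th .a = x0⁻¹ * (y * (x0 * th .a * x0⁻¹)) * x0 := by group
        _ = _ := by rw [hy]; group
    have e := hk _ hm
    rw [eδ, show x0 * (x0⁻¹ * y * x0) * x0⁻¹ = y by group] at e
    calc γ y = x0 * (x0⁻¹ * γ y * x0) * x0⁻¹ := by group
      _ = _ := by rw [e]; group
  -- the conjugating element centralises the centraliser of `c` in `hSub`, so it is in `⟨a, c⟩`
  set h := x0 * k * x0⁻¹ with hh
  have hfix : ∀ y ∈ hSub, y * th .c = th .c * y → h * y = y * h := by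
    intro y hy hyc
    have hm : x0⁻¹ * y * x0 ∈ hSub := by
      rw [mem_hSub_iff F hB]
      rw [← hc] at hyc
      calc x0⁻¹ * y * x0 * th .a = x0⁻¹ * (y * (x0 * th .a * x0⁻¹)) * x0 := by group
        _ = _ := by rw [hyc]; group
    have e := hk _ hm
    rw [eδ, show x0 * (x0⁻¹ * y * x0) * x0⁻¹ = y by group, hγ _ hy] at e
    calc h * y = x0 * (k * (x0⁻¹ * y * x0) * k⁻¹) * x0⁻¹ * h := by rw [hh]; group
      _ = y * h := by rw [← e]; group
  have haH : th .a ∈ hSub := Subgroup.subset_closure ⟨.a, by simp [hSet], rfl⟩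
  have hhH : h ∈ hSub := by
    rw [mem_hSub_iff F hB]
    exact hfix _ haH (comm_a .c (by simp [hSet])).eq
  set kH : hSub := ⟨h, hhH⟩
  have hkfix : ∀ y : hSub, Commute y (fH .c) → Commute kH y := fun y hy => Subtype.ext (hfix _ y.2 (by
    have := congrArg Subtype.val hy.eq
    simpa [coe_fH] using this))
  have hcI : repI F (fH .c) = valI [1] := by
    rw [← repI_actVal F [1] (by simp)]
    simp [actVal, hModel, model, letVal, sval, hkLets]
  have hcx : ∀ g, g ≠ Th.Gen.b → th g * th .c = th .c * th g → Commute kH (fH g) := fun g hg hgc =>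
    hkfix _ (Subtype.ext (by simpa [coe_fH, hg] using hgc))
  have hr := th_rels
  simp only [Th.extra, List.forall_mem_cons, Th.a, Th.b, Th.c, Th.d, Th.e, Th.s, Th.t, Th.u, map_mul, map_pow,
    map_inv, FreeGroup.lift_apply_of] at hr
  obtain ⟨-, -, hc2, -, he2, -, -, -, -, -, -, hce, -, -, -, -, -, hsc, -, -, -, -, -, htc, -, -, -⟩ := hr
  have cm : ∀ {x y : Th}, x⁻¹ * y⁻¹ * x * y = 1 → x * y = y * x := fun {x y} e => by
    calc x * y = y * x * (x⁻¹ * y⁻¹ * x * y) := by group
      _ = y * x := by rw [e, mul_one]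
  rw [sq] at hc2 he2
  have he := hcx .e (by decide) (sq_one_mul_comm hc2 he2 hce).symm.eq
  have hs := hcx .s (by decide) (cm hsc)
  have ht := hcx .t (by decide) (cm htc)
  have hker : kH ∈ (repH F).ker := by
    rw [← nineHom_eq_one F]
    refine centralizes_est _ fun x hx => ?_
    simp only [List.mem_cons, List.not_mem_nil, or_false] at hx
    rcases hx with rfl | rfl | rfl <;> rw [← nineHom_letVal F (by norm_num)]
    · exact he.map _
    · exact hs.map _
    · exact ht.map _
  have hq : ∀ j : Fin 8, (j : Nat) ≠ 1 → Commute kH (qElt j) := by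
    intro j hj
    refine hkfix _ ?_
    rw [← qElt_zero]
    have e := qElt_comm F j 0
    rw [if_neg (fun h0 => hj (by
      have : ∀ j : Fin 8, (0 : Fin 8) = mate j → (j : Nat) = 1 := by decide
      exact this j h0)), mul_one] at e
    exact e
  have hall : ∀ w : hSub, w ∈ (repH F).ker → (∀ j : Fin 8, Commute w (qElt j)) →
      w = 1 ∨ w = aH := fun w hw hwq => centre_ker F hw fun q hqk => by
    rw [← (closure_qElt F).2] at hqk
    induction hqk using Subgroup.closure_induction with
    | mem x hx => obtain ⟨j, rfl⟩ := hx; exact hwq j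
    | one => exact Commute.one_right _
    | mul x y _ _ hx hy => exact hx.mul_right hy
    | inv x _ hx => exact hx.inv_right
  have hval : kH = 1 ∨ kH = aH ∨ kH = fH .c ∨ kH = fH .c * aH := by
    rcases (repI_comm_iff F).1 (repI_ker_comm F hker (qElt_mem_ker F 1)) with e | e
    · have h1 : Commute kH (qElt 1) := mul_inv_eq_iff_eq_mul.1 (mul_inv_eq_one.1 e)
      rcases hall kH hker (fun j => by
        by_cases hj : (j : Nat) = 1
        · rw [show j = 1 from Fin.ext hj]; exact h1
        · exact hq j hj) with e' | e'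
      · exact Or.inl e'
      · exact Or.inr (Or.inl e')
    · have h0 : fH .c * fH .c = 1 := fH_invol .c rfl
      have hw : ∀ j : Fin 8, Commute (fH .c * kH) (qElt j) := by
        intro j
        by_cases hj : (j : Nat) = 1
        · rw [show j = 1 from Fin.ext hj, ← qElt_zero]
          have e1 : kH * qElt 1 = aH * qElt 1 * kH := by
            calc kH * qElt 1 = kH * qElt 1 * kH⁻¹ * (qElt 1)⁻¹ * qElt 1 * kH := by group
              _ = _ := by rw [e]
          have e2 := qElt_comm F 1 0
          rw [if_pos (by decide)] at e2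
          show qElt 0 * kH * qElt 1 = qElt 1 * (qElt 0 * kH)
          rw [mul_assoc, e1, ← mul_assoc (qElt 1), e2, ← mul_assoc, ← mul_assoc,
            (qElt_comm_a 0).symm, mul_assoc aH, (comm_a_hSub (qElt 0 * qElt 1)).eq]
        · have h2 : Commute (fH .c) (qElt j) := by
            rw [← qElt_zero]
            have e := qElt_comm F 0 j
            rw [if_neg (fun h0 => hj (by
              have : ∀ j : Fin 8, j = mate 0 → (j : Nat) = 1 := by decide
              exact this j h0)), mul_one] at e
            exact e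
          exact h2.mul_left (hq j hj)
      have hcq : fH .c ∈ (repH F).ker := by rw [← qElt_zero]; exact qElt_mem_ker F 0
      have hci : (fH .c)⁻¹ = fH .c := inv_eq_of_mul_eq_one_left h0
      rcases hall _ (mul_mem hcq hker) hw with e' | e'
      · exact Or.inr (Or.inr (Or.inl (by rw [← hci]; exact (inv_eq_of_mul_eq_one_right e').symm)))
      · exact Or.inr (Or.inr (Or.inr (by rw [← e', ← mul_assoc, h0, one_mul])))
  have hfc : ((fH .c : hSub) : Th) = th .c := coe_fH (by decide)
  have hcent : ∀ (w : Th), w = 1 ∨ w = th .a → ∀ x ∈ hSub, w * x * w⁻¹ = x := by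
    rintro w (rfl | rfl) x hx
    · simp
    · rw [mul_inv_eq_iff_eq_mul]; exact ((mem_hSub_iff F hB).1 hx).symm
  have hswap : ∀ y, y * th .c = th .c * y → ∀ w : Th,
      (th .c * w) * y * (th .c * w)⁻¹ = th .c * (w * y * w⁻¹) * (th .c)⁻¹ := fun y _ w => by group
  have hcy : ∀ y, y * th .c = th .c * y → th .c * y * (th .c)⁻¹ = y := fun y hy =>
    mul_inv_eq_iff_eq_mul.2 hy.symm
  have hkv : h = ((kH : hSub) : Th) := rfl
  rcases hval with e | e | e | e
  · exact ⟨h, hcent h (Or.inl (by rw [hkv, e]; rfl)), hmove⟩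
  · exact ⟨h, hcent h (Or.inr (by rw [hkv, e, coe_aH])), hmove⟩
  · refine ⟨1, fun x _ => by simp, fun y hy => ?_⟩
    rw [hmove y hy, hkv, e, hfc, hcy y hy]
    simp
  · refine ⟨th .a, hcent _ (Or.inr rfl), fun y hy => ?_⟩
    rw [hmove y hy, hkv, e, Subgroup.coe_mul, hfc, coe_aH, hswap y hy]
    refine hcy _ ?_
    have hac : Commute (th .a) (th .c) := comm_a .c (by simp [hSet])
    have hyc : Commute y (th .c) := hy
    exact ((hac.mul_left hyc).mul_left hac.inv_left).eq

include F hB in
theorem aut_inner (α : MulAut Th) : ∃ g : Th, α = MulAut.conj g := by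
  obtain ⟨g, hg⟩ := exists_conj_a F hB α
  obtain ⟨h, hh⟩ := exists_conj_hSub F hB (MulAut.conj g * α) (by simpa using hg)
  obtain ⟨k, hk1, hk2⟩ := fixed_centraliser F hB ((MulAut.conj h)⁻¹ * (MulAut.conj g * α)) (fun x hx => by
    have := hh x hx
    simp only [MulAut.mul_apply, MulAut.inv_apply, MulAut.conj_apply] at this ⊢
    rw [this]
    simp [MulAut.conj_symm_apply, mul_assoc])
  set γ := (MulAut.conj h)⁻¹ * (MulAut.conj g * α) with hγ
  set ε := (MulAut.conj k)⁻¹ * γ with hε
  have hfixH : ∀ x ∈ hSub, ε x = x := by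
    intro x hx
    have h1 : γ x = x := by
      have := hh x hx
      simp only [hγ, MulAut.mul_apply, MulAut.inv_apply, MulAut.conj_apply] at this ⊢
      rw [this]
      simp [MulAut.conj_symm_apply, mul_assoc]
    simp only [hε, MulAut.mul_apply, MulAut.inv_apply, MulAut.conj_symm_apply, h1]
    have := hk1 x hx
    calc k⁻¹ * x * k = k⁻¹ * (k * x * k⁻¹) * k := by rw [this]
      _ = x := by group
  have hfixC : ∀ y, y * th .c = th .c * y → ε y = y := by
    intro y hy
    simp only [hε, MulAut.mul_apply, MulAut.inv_apply, MulAut.conj_symm_apply, hk2 y hy]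
    group
  have hmem : ∀ g : Th.Gen, g ≠ .b → th g ∈ hSub := fun g hg => Subgroup.subset_closure ⟨g, hg, rfl⟩
  set x0 := th .b * th .c * th .a * th .b with hx0
  set C := x0 * th .d * x0⁻¹ with hC
  have hr := th_rels
  simp only [Th.extra, List.forall_mem_cons, Th.a, Th.b, Th.c, Th.d, Th.e, Th.s, Th.t, Th.u, map_mul, map_pow,
    map_inv, FreeGroup.lift_apply_of] at hr
  obtain ⟨ha2, hb2, hc2, hd2, he2, hab, -, hbc, -⟩ := hr
  rw [sq] at ha2 hb2 hc2
  have hai := inv_eq_of_mul_eq_one_left ha2
  have hbi := inv_eq_of_mul_eq_one_left hb2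
  have hci := inv_eq_of_mul_eq_one_left hc2
  have hxc : x0 * th .a * x0⁻¹ = th .c := by
    have h1 : th .a * th .b * th .a * th .b * th .a = th .b := by
      have e : th .a * th .b * th .a * th .b * th .a * th .b = 1 := by
        rw [← hab]; simp [pow_succ, mul_assoc]
      exact (mul_eq_one_iff_eq_inv.1 e).trans hbi
    have h2 : th .b * th .c * th .b * th .c * th .b = th .c := by
      have e : th .b * th .c * th .b * th .c * th .b * th .c = 1 := by
        rw [← hbc]; simp [pow_succ, mul_assoc]
      exact (mul_eq_one_iff_eq_inv.1 e).trans hci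
    rw [hx0]
    simp only [mul_inv_rev, hai, hbi, hci]
    calc th .b * th .c * th .a * th .b * th .a * (th .b * (th .a * (th .c * th .b)))
        = th .b * th .c * (th .a * th .b * th .a * th .b * th .a) * th .c * th .b := by
          simp only [mul_assoc]
      _ = th .c := by rw [h1, h2]
  have hCc : C * th .c = th .c * C := by
    rw [← hxc, hC]
    have := (comm_a .d (by simp [hSet])).eq
    calc x0 * th .d * x0⁻¹ * (x0 * th .a * x0⁻¹) = x0 * (th .d * th .a) * x0⁻¹ := by group
      _ = _ := by rw [← this]; group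
  set W := ((actVal dModel bWord : dSub) : Th) with hW
  have hWv : W = C * th .d * C * th .a * th .b := by
    simp only [hW, hC, hx0, mul_inv_rev, hai, hbi, hci]
    simp [bWord, actVal, dModel, model, letVal, sval, dkLets, coe_fD, mul_assoc]
  have hWm : W ∈ hSub := by
    refine kD_le_hSub _ (cent_dSub F.nontrivial _ ?_)
    have hl : ∀ v ∈ [[0], bWord], ∀ y ∈ v, y < 9 := by decide
    have hl' : ∀ v ∈ [bWord, [0]], ∀ y ∈ v, y < 9 := by decide
    have e := congrArg Subtype.val (dVal_eq_of_same F.nontrivial hl hl' okBWord)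
    simp only [dVal, List.map_cons, List.map_nil, List.reverse_cons, List.reverse_nil, List.nil_append,
      List.cons_append, List.prod_cons, List.prod_nil, mul_one, actVal_zero, Subgroup.coe_mul,
      coe_fD (show Th.Gen.a ≠ .u by decide)] at e
    exact e.symm
  have hb : ε (th .b) = th .b := by
    have hbe : th .b = (th .a)⁻¹ * C⁻¹ * (th .d)⁻¹ * C⁻¹ * W := by rw [hWv]; group
    rw [hbe, map_mul, map_mul, map_mul, map_mul, map_inv, map_inv, map_inv, hfixC C hCc,
      hfixH _ (hmem .a (by decide)), hfixH _ (hmem .d (by decide)), hfixH W hWm]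
  have hone : ∀ x, ε x = x := by
    intro x
    have hx : x ∈ Subgroup.closure (Set.range th) := by rw [closure_th]; trivial
    induction hx using Subgroup.closure_induction with
    | mem y hy =>
      obtain ⟨g, rfl⟩ := hy
      by_cases hg : g = .b
      · rw [hg]; exact hb
      · exact hfixH _ (hmem g hg)
    | one => exact map_one _
    | mul y z _ _ hy hz => rw [map_mul, hy, hz]
    | inv y _ hy => rw [map_inv, hy]
  refine ⟨g⁻¹ * h * k, MulEquiv.ext fun x => ?_⟩
  have e := hone x
  simp only [hε, hγ, MulAut.mul_apply, MulAut.inv_apply, MulAut.conj_symm_apply, MulAut.conj_apply] at e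
  rw [MulAut.conj_apply]
  calc α x = g⁻¹ * h * k * (k⁻¹ * (h⁻¹ * (g * α x * g⁻¹) * h) * k) * (g⁻¹ * h * k)⁻¹ := by group
    _ = _ := by rw [e]

include F hB in
/-- the outer automorphism group is trivial -/
theorem th_out : Nat.card (Cfsg.Out Th) = 1 := by
  have htop : Cfsg.Inn Th = ⊤ := by
    rw [eq_top_iff]
    intro α _
    obtain ⟨g, rfl⟩ := aut_inner F hB α
    exact ⟨g, rfl⟩
  rw [← Subgroup.index_eq_card, htop, Subgroup.index_top]

end CfsgLib.ThCent
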