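import Cfsg.Agent.Lib.PresCert.Range

/-!
The cosets listed by a coset table certificate, and a test that an equivariant map from them is
constant as soon as it is not injective.
-/

set_option autoImplicit false

namespace CfsgLib.ThCent

open CfsgLib.PresCert

variable {C : Cert} {Q : Type*} [Group Q] (M : Model C Q) {js : List Cert.Just} {D : Subgroup Q}

/-- a generator acting on the cosets -/
noncomputable def act (C : Cert) (x c : Nat) : Nat := C.dest c (C.iv x)

/-- a word acting, first letter first -/
noncomputable def appW (C : Cert) : List Nat → Nat → Nat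
  | [], c => c
  | x :: w, c => appW C w (act C x c)

/-- the left coset of a number -/
noncomputable def cosetOf (D : Subgroup Q) (c : Nat) : Q ⧸ D := QuotientGroup.mk (Cert.val M c)⁻¹

include M in
theorem act_lt (V : Cert.Valid C js) {x c : Nat} (hc : c < C.n) (hx : x < C.g) : act C x c < C.n :=
  Cert.dest_lt V hc (M.gen_inv x hx).1

theorem gen_smul_coset (V : Cert.Valid C js) (hD : M.sub ≤ D) {x c : Nat} (hc : c < C.n) (hx : x < C.g) :
    M.gen x • cosetOf M D c = cosetOf M D (act C x c) := by
  obtain ⟨hy, hinv⟩ := M.gen_inv x hx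
  have h : Cert.val M c * M.gen (C.iv x) * (Cert.val M (act C x c))⁻¹ ∈ M.sub :=
    Cert.slots_ok M V _ c _ hc hy rfl
  rw [hinv] at h
  rw [cosetOf, cosetOf, MulAction.Quotient.smul_mk, QuotientGroup.eq, smul_eq_mul, mul_inv_rev,
    inv_inv]
  exact hD h

theorem exists_cosetOf (V : Cert.Valid C js) (hD : M.sub ≤ D) (q : Q) :
    ∃ c < C.n, cosetOf M D c = (q : Q ⧸ D) := by
  obtain ⟨c, hc, h⟩ := Cert.exists_coset M V q⁻¹
  refine ⟨c, hc, ?_⟩
  rw [cosetOf, QuotientGroup.eq, inv_inv]
  simpa using hD (M.sub.inv_mem h)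

/-- a generator acting, from tables with `16` bits for each point -/
noncomputable def tact (T : BTree) (x c : Nat) : Nat :=
  Nat.land (Nat.shiftRight (T.get x) (Nat.shiftLeft c (nat_lit 4))) (nat_lit 65535)

/-- a word acting, from tables -/
noncomputable def appT (T : BTree) (w : List Nat) : Nat → Nat :=
  List.rec (motive := fun _ => Nat → Nat) (fun c => c) (fun x _ ih c => ih (tact T x c)) w

theorem appT_nil (T : BTree) (c : Nat) : appT T [] c = c := rfl

theorem appT_cons (T : BTree) (x : Nat) (w : List Nat) (c : Nat) :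
    appT T (x :: w) c = appT T w (tact T x c) := rfl

/-- the tables give the action of the certificate -/
noncomputable def okTab (C : Cert) (T : BTree) : Bool :=
  allBelow C.g fun x => allBelow C.n fun c => Nat.beq (tact T x c) (act C x c)

theorem tact_eq {T : BTree} (hT : okTab C T = true) {x c : Nat} (hx : x < C.g) (hc : c < C.n) :
    tact T x c = act C x c :=
  Nat.eq_of_beq_eq_true (allBelow_spec (allBelow_spec hT x hx) c hc)

include M in
theorem appT_eq (V : Cert.Valid C js) {T : BTree} (hT : okTab C T = true) :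
    ∀ (w : List Nat), (∀ x ∈ w, x < C.g) → ∀ c < C.n, appT T w c = appW C w c
  | [], _, _, _ => appT_nil _ _
  | x :: w, hw, c, hc => by
    have hx := hw x (List.mem_cons_self ..)
    rw [appT_cons, appW, tact_eq hT hx hc]
    exact appT_eq V hT w (fun y hy => hw y (List.mem_cons_of_mem _ hy)) _ (act_lt M V hc hx)

/-- Data showing that identifying `0` with a point identifies all: a table of pairs
(`a + 2^16 * b + 2^32 * parent + 2^48 * generator`) in the orbit of the first pair, and for each
point a pair joining it to a point of smaller rank (`pair + 2^20 * rank + 2^40 * side`). -/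
structure Span where
  rep : Nat
  len : Nat
  pairs : BTree
  link : BTree

namespace Span

variable (d : Span)

/-- first entry -/
noncomputable def fst (m : Nat) : Nat := Nat.land (d.pairs.word m) 65535
/-- second entry -/
noncomputable def snd (m : Nat) : Nat := Nat.land (Nat.shiftRight (d.pairs.word m) 16) 65535
/-- parent -/
noncomputable def par (m : Nat) : Nat := Nat.land (Nat.shiftRight (d.pairs.word m) 32) 65535
/-- generator -/
noncomputable def lab (m : Nat) : Nat := Nat.shiftRight (d.pairs.word m) 48
/-- joining pair -/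
noncomputable def via (i : Nat) : Nat := Nat.land (d.link.word i) 1048575
/-- rank -/
noncomputable def rank (i : Nat) : Nat := Nat.land (Nat.shiftRight (d.link.word i) 20) 1048575
/-- the end at which a point is -/
noncomputable def atSnd (i : Nat) : Bool := Nat.beq (Nat.shiftRight (d.link.word i) 40) 1

/-- the point of smaller rank joined to a point -/
noncomputable def other (i : Nat) : Nat := bif d.atSnd i then d.fst (d.via i) else d.snd (d.via i)

end Span

/-- identifying `0` and `j` identifies all points -/
noncomputable def okSpan (C : Cert) (T : BTree) (d : Span) : Bool :=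
  allBelow d.len (fun m =>
    Nat.blt (d.fst m) C.n && Nat.blt (d.snd m) C.n &&
      (bif Nat.beq m 0 then Nat.beq (d.fst m) 0 && Nat.beq (d.snd m) d.rep
      else Nat.blt (d.par m) m && Nat.blt (d.lab m) C.g &&
        Nat.beq (d.fst m) (tact T (d.lab m) (d.fst (d.par m))) &&
        Nat.beq (d.snd m) (tact T (d.lab m) (d.snd (d.par m))))) &&
  allBelow C.n (fun i => Nat.beq i 0 ||
    (Nat.blt (d.via i) d.len && Nat.blt (d.other i) C.n && Nat.blt (d.rank (d.other i)) (d.rank i) &&
      Nat.beq (bif d.atSnd i then d.snd (d.via i) else d.fst (d.via i)) i))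

/-- the test at one point -/
noncomputable def okPt (C : Cert) (T : BTree) (reps : List Span) (i : Nat) (w : List Nat)
    (d : Nat × List Nat) : Bool :=
  (w.all fun x => Nat.blt x C.g) && Nat.beq (appT T w i) 0 &&
    (Nat.beq i 0 || ((d.2.all fun x => Nat.blt x C.g) && Nat.beq (appT T d.2 0) 0 &&
      Nat.blt d.1 reps.length && Nat.beq (appT T d.2 i) (reps.getD d.1 ⟨0, 0, .leaf 0, .leaf 0⟩).rep))

/-- the test at all points from a given one on -/
noncomputable def okPts (C : Cert) (T : BTree) (reps : List Span) :
    List (List Nat) → List (Nat × List Nat) → Nat → Bool :=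
  List.rec (motive := fun _ => List (Nat × List Nat) → Nat → Bool) (fun _ i => Nat.ble C.n i)
    fun w _ ih ds i => List.rec (motive := fun _ => Bool) (Nat.ble C.n i)
      (fun d rest _ => okPt C T reps i w d && ih rest (Nat.succ i)) ds

theorem okPts_spec {C : Cert} {T : BTree} {reps : List Span} :
    ∀ (ws : List (List Nat)) (ds : List (Nat × List Nat)) (k : Nat), okPts C T reps ws ds k = true →
      ∀ i, k ≤ i → i < C.n →
        okPt C T reps i (ws.getD (i - k) []) (ds.getD (i - k) (0, [])) = true
  | [], ds, k, h, i, h1, h2 => by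
    have : C.n ≤ k := Nat.le_of_ble_eq_true h
    omega
  | w :: ws, [], k, h, i, h1, h2 => by
    have : C.n ≤ k := Nat.le_of_ble_eq_true h
    omega
  | w :: ws, d :: ds, k, h, i, h1, h2 => by
    have h' : (okPt C T reps k w d && okPts C T reps ws ds (k + 1)) = true := h
    rw [Bool.and_eq_true] at h'
    rcases Nat.eq_or_lt_of_le h1 with rfl | hlt
    · simpa using h'.1
    · have e : i - k = (i - (k + 1)) + 1 := by omega
      rw [e, List.getD_cons_succ, List.getD_cons_succ]
      exact okPts_spec ws ds (k + 1) h'.2 i (by omega) h2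

/-- the test: every point moves to `0`, every other one is moved by words fixing `0` to one of the
listed points, and identifying such a point with `0` identifies all -/
noncomputable def okPrim (C : Cert) (T : BTree) (toZero : List (List Nat)) (toRep : List (Nat × List Nat))
    (reps : List Span) : Bool :=
  okPts C T reps toZero toRep 0 &&
    allBelow C.g (fun x => Nat.blt (C.iv x) C.g && Nat.beq (C.iv (C.iv x)) x) &&
    allBelow C.n (fun c => allBelow C.g fun x => Nat.beq (tact T x (tact T (C.iv x) c)) c) &&
    reps.all (okSpan C T)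

variable {X : Type*} [MulAction Q X] (f : Nat → X)

theorem appW_equiv (V : Cert.Valid C js) (hf : ∀ x < C.g, ∀ c < C.n, M.gen x • f c = f (act C x c)) :
    ∀ (w : List Nat), (∀ x ∈ w, x < C.g) → ∀ i, i < C.n →
      appW C w i < C.n ∧ ∀ j < C.n, f i = f j → f (appW C w i) = f (appW C w j)
  | [], _, i, hi => ⟨hi, fun _ _ h => h⟩
  | x :: w, hw, i, hi => by
    have hx := hw x (List.mem_cons_self ..)
    have ih := appW_equiv V hf w (fun y hy => hw y (List.mem_cons_of_mem _ hy)) _ (act_lt M V hi hx)
    refine ⟨ih.1, fun j hj h => ih.2 _ (act_lt M V hj hx) ?_⟩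
    rw [← hf x hx i hi, ← hf x hx j hj, h]

theorem span_sound {T : BTree} (hT : okTab C T = true) (V : Cert.Valid C js) (hf : ∀ x < C.g, ∀ c < C.n, M.gen x • f c = f (act C x c))
    {d : Span} (h : okSpan C T d = true) (h0 : f 0 = f d.rep) : ∀ i < C.n, f i = f 0 := by
  simp only [okSpan, Bool.and_eq_true] at h
  have hP : ∀ m, m < d.len → d.fst m < C.n ∧ d.snd m < C.n ∧ f (d.fst m) = f (d.snd m) := by
    intro m
    induction m using Nat.strong_induction_on with
    | _ m ih =>
      intro hm
      have hc := allBelow_spec h.1 m hm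
      simp only [Bool.and_eq_true, Nat.blt_eq] at hc
      refine ⟨hc.1.1, hc.1.2, ?_⟩
      cases hm0 : Nat.beq m 0 with
      | true =>
        simp only [hm0, cond_true, Bool.and_eq_true, Nat.beq_eq] at hc
        rw [hc.2.1, hc.2.2, h0]
      | false =>
        simp only [hm0, cond_false, Bool.and_eq_true, Nat.beq_eq, Nat.blt_eq] at hc
        obtain ⟨⟨⟨hp, hx⟩, ea⟩, eb⟩ := hc.2
        obtain ⟨h1, h2, h3⟩ := ih _ hp (hp.trans hm)
        rw [ea, eb, tact_eq hT hx h1, tact_eq hT hx h2, ← hf _ hx _ h1, ← hf _ hx _ h2, h3]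
  intro i
  induction hr : d.rank i using Nat.strong_induction_on generalizing i with
  | _ r ih =>
    intro hi
    have hc := allBelow_spec h.2 i hi
    simp only [Bool.and_eq_true, Bool.or_eq_true, Nat.beq_eq, Nat.blt_eq] at hc
    rcases hc with rfl | ⟨⟨⟨hv, ho⟩, hlt⟩, he⟩
    · rfl
    have e := ih _ (hr ▸ hlt) _ rfl ho
    have e2 := (hP _ hv).2.2
    unfold Span.other at e
    cases hs : d.atSnd i <;> simp only [hs, cond_true, cond_false] at e he
    · rw [← he, e2, e]
    · rw [← he, ← e2, e]

theorem injOn_of_okPrim (V : Cert.Valid C js) (hf : ∀ x < C.g, ∀ c < C.n, M.gen x • f c = f (act C x c))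
    {toZero : List (List Nat)} {toRep : List (Nat × List Nat)}
    {reps : List Span}
    {T : BTree} (hT : okTab C T = true) (h : okPrim C T toZero toRep reps = true) (hnc : ∃ i < C.n, f i ≠ f 0) :
    ∀ i < C.n, ∀ j < C.n, f i = f j → i = j := by
  simp only [okPrim, Bool.and_eq_true, List.all_eq_true] at h
  obtain ⟨⟨⟨h1, hiv'⟩, hrev⟩, h⟩ := h
  have hiv : ∀ x, x < C.g → C.iv x < C.g ∧ C.iv (C.iv x) = x := fun x hx => by
    simpa [Bool.and_eq_true] using allBelow_spec hiv' x hx
  have hall : ∀ i, i < C.n → _ := fun i hi => okPts_spec _ _ 0 h1 i (Nat.zero_le i) hi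
  simp only [okPt, Nat.sub_zero, Bool.and_eq_true, Bool.or_eq_true, List.all_eq_true, Nat.blt_eq, Nat.beq_eq] at hall
  have key : ∀ j < C.n, j ≠ 0 → f 0 ≠ f j := by
    intro j hj hj0 he
    obtain ⟨-, h' | ⟨⟨⟨hw, h0⟩, hr⟩, hrep⟩⟩ := hall j hj
    · exact hj0 h'
    rw [appT_eq M V hT _ hw 0 V.pos] at h0
    rw [appT_eq M V hT _ hw j hj] at hrep
    have e := (appW_equiv M f V hf _ hw 0 V.pos).2 j hj he
    rw [h0, hrep] at e
    set d := reps.getD (toRep.getD j (0, [])).1 ⟨0, 0, .leaf 0, .leaf 0⟩ with hd
    have hmem : d ∈ reps := by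
      rw [hd, List.getD_eq_getElem?_getD, List.getElem?_eq_getElem hr]
      exact List.getElem_mem hr
    obtain ⟨i, hi, hne⟩ := hnc
    exact hne (span_sound M f hT V hf (h d hmem) e i hi)
  intro i hi j hj he
  by_contra hne
  obtain ⟨⟨hw, h0⟩, -⟩ := hall i hi
  rw [appT_eq M V hT _ hw i hi] at h0
  have e := (appW_equiv M f V hf _ hw i hi).2 j hj he
  rw [h0] at e
  refine key _ ((appW_equiv M f V hf _ hw j hj).1) ?_ e
  intro hj0
  have inj : ∀ (w : List Nat), (∀ x ∈ w, x < C.g) → ∀ a < C.n, ∀ b < C.n, appW C w a = appW C w b → a = b := by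
    intro w hw'
    induction w with
    | nil => exact fun a _ b _ h => h
    | cons x w ih =>
      intro a ha b hb hab
      have hx := hw' x (List.mem_cons_self ..)
      have := ih (fun y hy => hw' y (List.mem_cons_of_mem _ hy)) _ (act_lt M V ha hx) _ (act_lt M V hb hx) hab
      obtain ⟨hx', hi'⟩ := M.gen_inv x hx
      have d1 := allBelow_spec (allBelow_spec hrev a ha) _ hx'
      have d2 := allBelow_spec (allBelow_spec hrev b hb) _ hx'
      simp only [Nat.beq_eq, decide_eq_true_eq] at d1 d2
      have hii := (hiv x hx).2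
      rw [hii] at d1 d2
      rw [tact_eq hT hx ha] at d1
      rw [tact_eq hT hx hb] at d2
      rw [← d1, ← d2, this]
  exact hne (inj _ hw i hi j hj (h0.trans hj0.symm))

end CfsgLib.ThCent
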